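import Mathlib
import Cfsg.Prelude.Def_TwoFusion

set_option autoImplicit false

namespace Cfsg.Agent.Lib.Helper8

variable {G : Type*} [Group G]

theorem iso_sq {z : G} (hz : Cfsg.IsIsolatedInvolution z) : z * z = 1 := by
  have := pow_orderOf_eq_one z
  rw [hz.1, pow_two] at this; exact this

theorem iso_ne_one {z : G} (hz : Cfsg.IsIsolatedInvolution z) : z ≠ 1 := by
  intro h; have := hz.1; rw [h, orderOf_one] at this; omega

theorem iso_inv {z : G} (hz : Cfsg.IsIsolatedInvolution z) : z⁻¹ = z :=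
  inv_eq_of_mul_eq_one_left (iso_sq hz)

/-- The product of an isolated involution with any conjugate has odd order. -/
theorem iso_odd [Finite G] {z : G} (hz : Cfsg.IsIsolatedInvolution z) (g : G) :
    Odd (orderOf (z * (g * z * g⁻¹))) := by
  have hzz := iso_sq hz
  have hzi := iso_inv hz
  set w := g * z * g⁻¹ with hw
  have hww : w * w = 1 := by
    rw [hw]; calc g * z * g⁻¹ * (g * z * g⁻¹) = g * (z * z) * g⁻¹ := by group
      _ = 1 := by rw [hzz]; group
  have hwi : w⁻¹ = w := inv_eq_of_mul_eq_one_left hww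
  set r := z * w with hr
  have hconj : z * r * z⁻¹ = r⁻¹ := by
    rw [hr, mul_inv_rev, hwi, hzi]
    calc z * (z * w) * z = (z * z) * w * z := by group
      _ = w * z := by rw [hzz, one_mul]
  have hconjk : ∀ k : ℕ, z * r ^ k * z⁻¹ = (r ^ k)⁻¹ := by
    intro k
    rw [← conj_pow, hconj, inv_pow]
  have hconjk' : ∀ k : ℕ, z * (r ^ k)⁻¹ = r ^ k * z := by
    intro k
    have h1 := hconjk k
    have h2 : z * (r ^ k)⁻¹ * z⁻¹ = r ^ k := by
      have := congrArg (·⁻¹) h1
      simp only [mul_inv_rev, inv_inv] at this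
      rw [← mul_assoc] at this
      exact this
    calc z * (r ^ k)⁻¹ = (z * (r ^ k)⁻¹ * z⁻¹) * z := by group
      _ = r ^ k * z := by rw [h2]
  by_contra hodd
  rw [Nat.not_odd_iff_even] at hodd
  obtain ⟨m, hm⟩ := hodd
  have hpos : 0 < orderOf r := orderOf_pos r
  have hu1 : r ^ m ≠ 1 := by
    intro h
    have h1 := orderOf_dvd_of_pow_eq_one h
    have h2 := Nat.le_of_dvd (by omega) h1
    omega
  have huu : r ^ m * r ^ m = 1 := by
    rw [← pow_add, ← hm, pow_orderOf_eq_one]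
  have hui : (r ^ m)⁻¹ = r ^ m := inv_eq_of_mul_eq_one_left huu
  have hcomm : Commute z (r ^ m * z) := by
    have h1 := hconjk' m
    rw [hui] at h1
    show z * (r ^ m * z) = r ^ m * z * z
    rw [← mul_assoc, h1]
  -- r^m * z is a conjugate of z
  have hex : ∃ x : G, x * z * x⁻¹ = r ^ m * z := by
    rcases Nat.even_or_odd' m with ⟨j, hj | hj⟩
    · refine ⟨r ^ j, ?_⟩
      rw [mul_assoc, hconjk' j, ← mul_assoc, ← pow_add, hj, two_mul]
    · refine ⟨r ^ j * z * g, ?_⟩
      have h3 : z * w * z⁻¹ = r * z := by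
        rw [hr, hzi]
      calc r ^ j * z * g * z * (r ^ j * z * g)⁻¹
          = r ^ j * (z * w * z⁻¹) * (r ^ j)⁻¹ := by rw [hw]; group
        _ = r ^ j * (r * z) * (r ^ j)⁻¹ := by rw [h3]
        _ = r ^ j * r * (z * (r ^ j)⁻¹) := by group
        _ = r ^ j * r * (r ^ j * z) := by rw [hconjk' j]
        _ = r ^ (j + 1 + j) * z := by rw [pow_add, pow_succ]; group
        _ = r ^ m * z := by rw [hj]; congr 2; ring
  obtain ⟨x, hx⟩ := hex
  have h4 := hz.2 x (by rw [hx]; exact hcomm)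
  rw [hx] at h4
  exact hu1 (by simpa using h4)


/-- Elements of odd order with the same square are equal. -/
theorem odd_sq_inj [Finite G] {a b : G} (ha : Odd (orderOf a)) (hb : Odd (orderOf b))
    (hab : a * a = b * b) : a = b := by
  -- a is a power of a*a, hence of b*b, so commutes with b
  have hpow : ∀ x : G, Odd (orderOf x) → ∃ k : ℕ, (x * x) ^ k = x := by
    intro x hx
    obtain ⟨j, hj⟩ := hx
    refine ⟨j + 1, ?_⟩
    rw [← pow_two, ← pow_mul]
    have : 2 * (j + 1) = orderOf x + 1 := by omega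
    rw [this, pow_succ, pow_orderOf_eq_one, one_mul]
  obtain ⟨k, hk⟩ := hpow a ha
  obtain ⟨l, hl⟩ := hpow b hb
  have hcomm : Commute a b := by
    rw [← hk, ← hl, hab]
    exact (Commute.refl _).pow_pow k l
  have hcomm' : Commute a b⁻¹ := hcomm.inv_right
  have h2 : (a * b⁻¹) ^ 2 = 1 := by
    rw [hcomm'.mul_pow, pow_two, pow_two, hab]
    group
  have hd1 : orderOf (a * b⁻¹) ∣ 2 := orderOf_dvd_of_pow_eq_one h2
  have hd2 : orderOf (a * b⁻¹) ∣ orderOf a * orderOf b := by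
    have := hcomm'.orderOf_mul_dvd_mul_orderOf
    rwa [orderOf_inv] at this
  have hodd : Odd (orderOf a * orderOf b) := ha.mul hb
  have hd3 : orderOf (a * b⁻¹) ∣ Nat.gcd 2 (orderOf a * orderOf b) := Nat.dvd_gcd hd1 hd2
  have hg : Nat.gcd 2 (orderOf a * orderOf b) = 1 := by
    exact Nat.coprime_two_left.mpr hodd
  rw [hg, Nat.dvd_one, orderOf_eq_one_iff] at hd3
  exact mul_inv_eq_one.mp hd3

/-- For an isolated involution `z` and a conjugate `w = g z g⁻¹`, with `r = z w`: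
`z` inverts every power of `r`. -/
theorem iso_inverts_pow {z : G} (hz : Cfsg.IsIsolatedInvolution z) (g : G) (k : ℕ) :
    z * (z * (g * z * g⁻¹)) ^ k * z⁻¹ = ((z * (g * z * g⁻¹)) ^ k)⁻¹ := by
  have hzz := iso_sq hz
  have hzi := iso_inv hz
  have hconj : z * (z * (g * z * g⁻¹)) * z⁻¹ = (z * (g * z * g⁻¹))⁻¹ := by
    rw [hzi]
    calc z * (z * (g * z * g⁻¹)) * z = (z * z) * (g * z * g⁻¹) * z := by group
      _ = g * z * g⁻¹ * z := by rw [hzz, one_mul]
      _ = g * z⁻¹ * g⁻¹ * z⁻¹ := by rw [hzi]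
      _ = (z * (g * z * g⁻¹))⁻¹ := by group
  rw [← conj_pow, hconj, inv_pow]

/-- Conjugates of an isolated involution inside a subgroup: explicit conjugating element,
a power of `z * w`. -/
theorem iso_conj_pow [Finite G] {z : G} (hz : Cfsg.IsIsolatedInvolution z) (g : G) :
    ∃ j : ℕ, (z * (g * z * g⁻¹)) ^ j * z * ((z * (g * z * g⁻¹)) ^ j)⁻¹ = g * z * g⁻¹ := by
  have hzz := iso_sq hz
  have hzi := iso_inv hz
  obtain ⟨j, hj⟩ := iso_odd hz g
  refine ⟨j, ?_⟩
  set r := z * (g * z * g⁻¹) with hr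
  have h1 := iso_inverts_pow hz g j
  rw [← hr] at h1
  -- z * (r^j)⁻¹ = r^j * z
  have h2 : z * (r ^ j)⁻¹ * z⁻¹ = r ^ j := by
    have := congrArg (·⁻¹) h1
    simp only [mul_inv_rev, inv_inv] at this
    rw [← mul_assoc] at this
    exact this
  have h3 : z * (r ^ j)⁻¹ = r ^ j * z := by
    calc z * (r ^ j)⁻¹ = (z * (r ^ j)⁻¹ * z⁻¹) * z := by group
      _ = r ^ j * z := by rw [h2]
  have h4 : r ^ (2 * j + 1) = 1 := by rw [← hj, pow_orderOf_eq_one]
  have h5 : r ^ (2 * j) = r⁻¹ := by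
    rw [pow_succ] at h4
    exact eq_inv_of_mul_eq_one_left h4
  calc r ^ j * z * (r ^ j)⁻¹ = r ^ j * (z * (r ^ j)⁻¹) := by group
    _ = r ^ j * (r ^ j * z) := by rw [h3]
    _ = r ^ (2 * j) * z := by rw [two_mul, pow_add]; group
    _ = r⁻¹ * z := by rw [h5]
    _ = (g * z * g⁻¹)⁻¹ * z⁻¹ * z := by rw [hr]; group
    _ = g * z * g⁻¹ := by
      have : (g * z * g⁻¹)⁻¹ = g * z * g⁻¹ := by
        calc (g * z * g⁻¹)⁻¹ = g * z⁻¹ * g⁻¹ := by group
          _ = g * z * g⁻¹ := by rw [hzi]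
      rw [this]; group

/-- S1180 in library form. -/
theorem iso_conj_in_subgroup [Finite G] {z : G} (hz : Cfsg.IsIsolatedInvolution z) (H : Subgroup G)
    (hzH : z ∈ H) (g : G) (hg : g * z * g⁻¹ ∈ H) : ∃ h ∈ H, h * z * h⁻¹ = g * z * g⁻¹ := by
  obtain ⟨j, hj⟩ := iso_conj_pow hz g
  exact ⟨_, H.pow_mem (H.mul_mem hzH hg) j, hj⟩


/-- A 2-subgroup containing an isolated involution centralizes it. -/
theorem iso_two_group_le_centralizer [Finite G] {z : G} (hz : Cfsg.IsIsolatedInvolution z)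
    (S : Subgroup G) (hS : IsPGroup 2 S) (hzS : z ∈ S) : S ≤ Subgroup.centralizer ({z} : Set G) := by
  intro s hs
  rw [Subgroup.mem_centralizer_singleton_iff]
  have hzz := iso_sq hz
  have hzi := iso_inv hz
  have hodd := iso_odd hz s
  set r := z * (s * z * s⁻¹) with hr
  have hrS : r ∈ S := S.mul_mem hzS (S.mul_mem (S.mul_mem hs hzS) (S.inv_mem hs))
  obtain ⟨k, hk⟩ := hS ⟨r, hrS⟩
  have hk' : r ^ (2 ^ k) = 1 := by
    have := congrArg Subtype.val hk
    simpa using this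
  have h1 : orderOf r ∣ 2 ^ k := orderOf_dvd_of_pow_eq_one hk'
  have h2 : Nat.Coprime (orderOf r) (2 ^ k) := Nat.Coprime.pow_right k (Nat.coprime_two_right.mpr hodd)
  have h3 : orderOf r = 1 := by
    have := Nat.dvd_gcd (dvd_refl (orderOf r)) h1
    rw [h2.gcd_eq_one] at this
    exact Nat.dvd_one.mp this
  rw [orderOf_eq_one_iff] at h3
  -- z * (s z s⁻¹) = 1
  have h4 : s * z * s⁻¹ = z := by
    have : s * z * s⁻¹ = z⁻¹ := eq_inv_of_mul_eq_one_right h3
    rw [this, hzi]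
  calc s * z = (s * z * s⁻¹) * s := by group
    _ = z * s := by rw [h4]

/-- The centralizer of an isolated involution has odd index. -/
theorem iso_centralizer_index_coprime [Finite G] {z : G} (hz : Cfsg.IsIsolatedInvolution z) :
    Nat.Coprime 2 (Subgroup.centralizer ({z} : Set G)).index := by
  haveI : Fact (Nat.Prime 2) := ⟨Nat.prime_two⟩
  have hzp : IsPGroup 2 (Subgroup.zpowers z) := by
    apply IsPGroup.of_card (n := 1)
    rw [Nat.card_zpowers, hz.1, pow_one]
  obtain ⟨S, hS⟩ := hzp.exists_le_sylow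
  have hzS : z ∈ (S : Subgroup G) := hS (Subgroup.mem_zpowers z)
  have hle := iso_two_group_le_centralizer hz S S.2 hzS
  have hdvd := Subgroup.index_dvd_of_le hle
  have hnd : ¬ 2 ∣ (S : Subgroup G).index := S.not_dvd_index
  rw [Nat.Prime.coprime_iff_not_dvd Nat.prime_two]
  intro h
  exact hnd (h.trans hdvd)

end Cfsg.Agent.Lib.Helper8
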