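import Mathlib
import Cfsg.Prelude.Def_TwoFusion
import Cfsg.Agent.Lib.Helper7.SimpleTools
import Cfsg.Agent.Lib.Helper7.Involution
import Cfsg.Agent.Lib.Helper12.WidthOne
import Cfsg.Agent.S1018

/-!
# Tools for excluding simple groups of a given order (helper8)

Fixed points of elements centralizing a Sylow subgroup of prime order on the cosets of its
normalizer; invariant subsets under `p`-groups; isolated involutions via `Z*`.
-/

set_option autoImplicit false
set_option linter.unusedSectionVars false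
set_option linter.style.haveILetI false

namespace Cfsg.Agent.Lib.Helper8.SmallSimple

open MulAction

variable {G : Type*} [Group G]

/-- a simple group acts faithfully on the cosets of a proper subgroup -/
theorem eq_one_of_smul_eq [Finite G] [IsSimpleGroup G] (K : Subgroup G) (hK : K ≠ ⊤) (g : G)
    (h : ∀ a : G ⧸ K, g • a = a) : g = 1 := by
  let φ : G →* Equiv.Perm (G ⧸ K) := MulAction.toPermHom G (G ⧸ K)
  have hg : g ∈ φ.ker := by
    rw [MonoidHom.mem_ker]
    ext a
    exact h a
  rcases (MonoidHom.normal_ker φ).eq_bot_or_eq_top with hb | ht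
  · rw [hb, Subgroup.mem_bot] at hg
    exact hg
  · exfalso
    apply hK
    rw [eq_top_iff]
    intro x _
    have hx : x ∈ φ.ker := by rw [ht]; trivial
    rw [MonoidHom.mem_ker] at hx
    have h3 : x • ((1 : G) : G ⧸ K) = ((1 : G) : G ⧸ K) := by
      have := congrArg (fun σ : Equiv.Perm (G ⧸ K) => σ ((1 : G) : G ⧸ K)) hx
      simpa [φ] using this
    rw [Cfsg.Agent.S1018.smul_mk_eq_iff] at h3
    simpa using h3

/-- the centre of a simple non-commutative group is trivial -/
theorem center_eq_bot [IsSimpleGroup G] (hG : ¬ IsMulCommutative G) : Subgroup.center G = ⊥ := by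
  rcases (inferInstance : (Subgroup.center G).Normal).eq_bot_or_eq_top with h | h
  · exact h
  · exfalso
    apply hG
    refine ⟨⟨fun a b => ?_⟩⟩
    have ha : a ∈ Subgroup.center G := by rw [h]; trivial
    exact ((Subgroup.mem_center_iff.mp ha) b).symm

/-- If a `q`-group `Q` leaves a subset `F` of a finite `G`-set invariant, then `|F|` is congruent
mod `q` to the number of points of `F` fixed by all of `Q`. -/
theorem card_invariant_modEq {X : Type*} [MulAction G X] [Finite X] {q : ℕ} [Fact q.Prime]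
    (Q : Subgroup G) (hQ : IsPGroup q Q) (F : Set X) (hF : ∀ y ∈ Q, ∀ a ∈ F, y • a ∈ F) :
    Nat.card F ≡ Nat.card {a : X // a ∈ F ∧ ∀ y ∈ Q, y • a = a} [MOD q] := by
  let S : SubMulAction ↥Q X :=
    { carrier := F
      smul_mem' := fun c x hx => hF c.1 c.2 x hx }
  have h1 := hQ.card_modEq_card_fixedPoints (↥S)
  have e1 : Nat.card ↥S = Nat.card F := rfl
  have e2 : Nat.card (fixedPoints ↥Q ↥S) = Nat.card {a : X // a ∈ F ∧ ∀ y ∈ Q, y • a = a} := by
    refine Nat.card_congr
      { toFun := fun a => ⟨a.1.1, a.1.2, fun y hy => ?_⟩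
        invFun := fun a => ⟨⟨a.1, a.2.1⟩, fun c => ?_⟩
        left_inv := fun a => rfl
        right_inv := fun a => rfl }
    · have := a.2 ⟨y, hy⟩
      exact congrArg Subtype.val this
    · apply Subtype.ext
      exact a.2.2 c.1 c.2
  rw [e1, e2] at h1
  exact h1

/-- an involution -/
theorem mul_self_of_orderOf_two {a : G} (ha : orderOf a = 2) : a * a = 1 := by
  rw [← pow_two, ← ha]; exact pow_orderOf_eq_one a

theorem inv_of_orderOf_two {a : G} (ha : orderOf a = 2) : a⁻¹ = a :=
  inv_eq_of_mul_eq_one_left (mul_self_of_orderOf_two ha)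

section sylow

variable [Finite G] {p : ℕ} [Fact p.Prime] (P : Sylow p G)

/-- For a Sylow subgroup `P` of prime order `p`, an element centralizing `P` has a number of fixed
points on the cosets of `N(P)` congruent to `1` mod `p`. -/
theorem card_fixedBy_modEq_one (hP : Nat.card ↥(P : Subgroup G) = p) (c : G)
    (hc : c ∈ Subgroup.centralizer ((P : Subgroup G) : Set G)) :
    Nat.card (fixedBy (G ⧸ Subgroup.normalizer ((P : Subgroup G) : Set G)) c) ≡ 1 [MOD p] := by
  have hp : p.Prime := Fact.out
  set N := Subgroup.normalizer ((P : Subgroup G) : Set G) with hN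
  have hinv : ∀ y ∈ (P : Subgroup G), ∀ a ∈ fixedBy (G ⧸ N) c, y • a ∈ fixedBy (G ⧸ N) c := by
    intro y hy a ha
    rw [mem_fixedBy] at ha ⊢
    have hcy : c * y = y * c := ((Subgroup.mem_centralizer_iff.mp hc) y hy).symm
    rw [smul_smul, hcy, ← smul_smul, ha]
  have h1 := card_invariant_modEq (P : Subgroup G) P.2 (fixedBy (G ⧸ N) c) hinv
  have h2 : Nat.card {a : G ⧸ N // a ∈ fixedBy (G ⧸ N) c ∧ ∀ y ∈ (P : Subgroup G), y • a = a} = 1 := by
    -- an element of order p in P
    have hdvd : p ∣ Nat.card ↥(P : Subgroup G) := by rw [hP]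
    obtain ⟨x, hx⟩ := exists_prime_orderOf_dvd_card' (G := ↥(P : Subgroup G)) p hdvd
    have hxo : orderOf (x : G) = p := by rw [Subgroup.orderOf_coe]; exact hx
    have hfix := Cfsg.Agent.S1018.part1 p P hP (x : G) hxo
    rw [Nat.card_eq_one_iff_exists]
    have hcN : c ∈ N := Subgroup.centralizer_le_normalizer _ hc
    refine ⟨⟨((1 : G) : G ⧸ N), ?_, ?_⟩, ?_⟩
    · rw [mem_fixedBy, Cfsg.Agent.S1018.smul_mk_eq_iff]
      simpa using hcN
    · intro y hy
      rw [Cfsg.Agent.S1018.smul_mk_eq_iff]
      have hyN : y ∈ N := Subgroup.le_normalizer hy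
      simpa using hyN
    · rintro ⟨a, ha1, ha2⟩
      apply Subtype.ext
      have hsub : Subsingleton (fixedBy (G ⧸ N) (x : G)) :=
        (Nat.card_eq_one_iff_unique.mp hfix).1
      have e1 : (⟨a, by rw [mem_fixedBy]; exact ha2 x x.2⟩ : fixedBy (G ⧸ N) (x : G)) =
          ⟨((1 : G) : G ⧸ N), by
            rw [mem_fixedBy, Cfsg.Agent.S1018.smul_mk_eq_iff]
            have hxN : (x : G) ∈ N := Subgroup.le_normalizer x.2
            simpa using hxN⟩ := Subsingleton.elim _ _
      have e2 : a = ((1 : G) : G ⧸ N) := congrArg (fun z : fixedBy (G ⧸ N) (x : G) => (z : G ⧸ N)) e1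
      exact e2
  rw [h2] at h1
  exact h1

end sylow

/-- A finite simple non-commutative group has no isolated involution (Glauberman's `Z*`). -/
theorem not_isIsolatedInvolution.{u} {G : Type u} [Group G] [Finite G] [IsSimpleGroup G]
    (hG : ¬ IsMulCommutative G) (z : G) : ¬ Cfsg.IsIsolatedInvolution z := by
  intro hz
  obtain ⟨N, hNn, hNodd, hN⟩ :=
    Cfsg.Agent.Lib.Helper29.ZStar.exists_odd_normal_of_isolated
      Cfsg.Agent.Lib.Helper12.zStarStmt.{u} hz
  have hz2 : orderOf z = 2 := hz.1
  have hNbot : N = ⊥ := by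
    rcases hNn.eq_bot_or_eq_top with h | h
    · exact h
    · exfalso
      rw [h, Subgroup.card_top] at hNodd
      have h2 : 2 ∣ Nat.card G := by rw [← hz2]; exact orderOf_dvd_natCard z
      rcases hNodd with ⟨k, hk⟩
      omega
  have hcen : z ∈ Subgroup.center G := by
    rw [Subgroup.mem_center_iff]
    intro g
    have := hN g
    rw [hNbot, Subgroup.mem_bot] at this
    have h3 : z * g = g * z := by
      have : z * g * z⁻¹ * g⁻¹ * g * z = g * z := by rw [this, one_mul]
      simpa [mul_assoc] using this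
    exact h3.symm
  rw [center_eq_bot hG, Subgroup.mem_bot] at hcen
  rw [hcen, orderOf_one] at hz2
  omega

/-- If `t` is an involution with exactly one fixed point on the cosets of `C(t)`, then `t` is
isolated. -/
theorem isIsolatedInvolution_of_card_fixedBy {G : Type*} [Group G] [Finite G] (t : G) (ht : orderOf t = 2)
    (h1 : Nat.card (fixedBy (G ⧸ Subgroup.centralizer ({t} : Set G)) t) = 1) :
    Cfsg.IsIsolatedInvolution t := by
  refine ⟨ht, fun g hg => ?_⟩
  set M := Subgroup.centralizer ({t} : Set G) with hM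
  have hsub : Subsingleton (fixedBy (G ⧸ M) t) := (Nat.card_eq_one_iff_unique.mp h1).1
  have htM : t ∈ M := by rw [hM, Subgroup.mem_centralizer_singleton_iff]
  have hwM : g * t * g⁻¹ ∈ M := by
    rw [hM, Subgroup.mem_centralizer_singleton_iff]
    exact hg.eq.symm
  have f1 : ((1 : G) : G ⧸ M) ∈ fixedBy (G ⧸ M) t := by
    rw [mem_fixedBy, Cfsg.Agent.S1018.smul_mk_eq_iff]
    simpa using htM
  have f2 : ((g⁻¹ : G) : G ⧸ M) ∈ fixedBy (G ⧸ M) t := by
    rw [mem_fixedBy, Cfsg.Agent.S1018.smul_mk_eq_iff]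
    simpa using hwM
  have e : (⟨_, f2⟩ : fixedBy (G ⧸ M) t) = ⟨_, f1⟩ := Subsingleton.elim _ _
  have e' : ((g⁻¹ : G) : G ⧸ M) = ((1 : G) : G ⧸ M) := congrArg Subtype.val e
  rw [QuotientGroup.eq] at e'
  have hgM : g ∈ M := by simpa using e'
  rw [hM, Subgroup.mem_centralizer_singleton_iff] at hgM
  calc g * t * g⁻¹ = t * g * g⁻¹ := by rw [hgM]
    _ = t := by group

/-- if all points are fixed (by counting), the element acts trivially -/
theorem smul_eq_of_card_fixedBy {X : Type*} [MulAction G X] [Finite X] (c : G)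
    (h : Nat.card (fixedBy X c) = Nat.card X) (a : X) : c • a = a := by
  have hinj : Function.Injective (fun z : fixedBy X c => (z : X)) := Subtype.val_injective
  have hbij := hinj.bijective_of_nat_card_le (le_of_eq h.symm)
  obtain ⟨z, hz⟩ := hbij.2 a
  rw [← hz]
  exact z.2

/-- `|H ∩ K| * |K : H ∩ K| = |K|` -/
theorem card_inf_mul_relIndex (H K : Subgroup G) :
    Nat.card ↥(H ⊓ K) * H.relIndex K = Nat.card ↥K := by
  have := Subgroup.relIndex_mul_relIndex (⊥ : Subgroup G) (H ⊓ K) K bot_le inf_le_right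
  rwa [Subgroup.relIndex_bot_left, Subgroup.relIndex_bot_left, Subgroup.inf_relIndex_right] at this

/-- for `T ≤ N(H)`, `|T : C_T(H)|` divides `|N(H) : C(H)|` -/
theorem relIndex_centralizer_dvd (H T : Subgroup G)
    (hT : T ≤ Subgroup.normalizer (H : Set G)) :
    (Subgroup.centralizer (H : Set G)).relIndex T ∣
      (Subgroup.centralizer (H : Set G)).relIndex (Subgroup.normalizer (H : Set G)) := by
  haveI hn : ((Subgroup.centralizer (H : Set G)).subgroupOf (Subgroup.normalizer (H : Set G))).Normal := by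
    rw [← Subgroup.normalizerMonoidHom_ker]
    infer_instance
  have h1 := Subgroup.relIndex_dvd_index_of_normal
    (H := (Subgroup.centralizer (H : Set G)).subgroupOf (Subgroup.normalizer (H : Set G)))
    (K := T.subgroupOf (Subgroup.normalizer (H : Set G)))
  rw [Subgroup.relIndex_subgroupOf hT] at h1
  exact h1

/-- In a simple group of order `> 2` acting on the cosets of a subgroup `K`, the number of points moved
by an involution is divisible by `4`. -/
theorem four_dvd_moved [Finite G] [IsSimpleGroup G] (hG : 2 < Nat.card G) (K : Subgroup G) (t : G)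
    (ht : t ^ 2 = 1) :
    ∃ s : ℕ, 4 ∣ s ∧ s + Nat.card (fixedBy (G ⧸ K) t) = K.index := by
  classical
  haveI : Fintype (G ⧸ K) := Fintype.ofFinite _
  refine ⟨_, Cfsg.Agent.Lib.Helper7.four_dvd_card_support_of_sq_eq_one hG (X := G ⧸ K) t ht, ?_⟩
  rw [Cfsg.Agent.Lib.Helper7.card_support_add_card_fixedBy (X := G ⧸ K) t, Subgroup.index,
    Nat.card_eq_fintype_card]

/-- Sylow count inside a subgroup `M` containing the Sylow subgroup `P` of `G` -/
theorem card_sylow_subgroup_mul [Finite G] {p : ℕ} [Fact p.Prime] (P : Sylow p G) (M : Subgroup G)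
    (hPM : (P : Subgroup G) ≤ M) :
    Nat.card (Sylow p ↥M) * Nat.card ↥(Subgroup.normalizer ((P : Subgroup G) : Set G) ⊓ M)
      = Nat.card ↥M := by
  have h1 := Cfsg.Agent.Lib.Helper7.card_sylow_mul_card_normalizer (P.subtype hPM)
  rw [Sylow.coe_subtype, ← Subgroup.subgroupOf_normalizer_eq hPM] at h1
  have h2 : Nat.card ↥((Subgroup.normalizer ((P : Subgroup G) : Set G)).subgroupOf M) =
      Nat.card ↥(Subgroup.normalizer ((P : Subgroup G) : Set G) ⊓ M) := by
    rw [← Subgroup.inf_subgroupOf_right]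
    exact Nat.card_congr (Subgroup.subgroupOfEquivOfLe inf_le_right).toEquiv
  rw [h2] at h1
  exact h1

/-- counting: if the members of `F` with property `Q` are as many as `F`, all of `F` has `Q` -/
theorem forall_of_card_subtype_eq {X : Type*} [Finite X] (F : Set X) (Q : X → Prop)
    (h : Nat.card {a : X // a ∈ F ∧ Q a} = Nat.card F) : ∀ a ∈ F, Q a := by
  intro a ha
  have hinj : Function.Injective (fun z : {a : X // a ∈ F ∧ Q a} => (⟨z.1, z.2.1⟩ : F)) := by
    intro z w hzw
    apply Subtype.ext
    exact congrArg (fun u : F => (u : X)) hzw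
  have hbij := hinj.bijective_of_nat_card_le (le_of_eq h.symm)
  obtain ⟨z, hz⟩ := hbij.2 ⟨a, ha⟩
  have : z.1 = a := congrArg (fun u : F => (u : X)) hz
  rw [← this]
  exact z.2.2

end Cfsg.Agent.Lib.Helper8.SmallSimple
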