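import Mathlib
import Cfsg.Agent.Lib.Helper8.SmallSimple

/-!
# More tools for excluding simple groups of a given order (helper8)

The fixed point formula for coset actions: `|Fix_{G/H}(t)| * |H| = |t^G ∩ H| * |C_G(t)|`,
congruences for fixed points of `q`-elements, involutions normalizing a subgroup of prime order.
-/

set_option autoImplicit false
set_option linter.unusedSectionVars false
set_option linter.style.haveILetI false

namespace Cfsg.Agent.Lib.Helper8.SmallSimple2

open MulAction Cfsg.Agent.Lib.Helper7 Cfsg.Agent.Lib.Helper8.SmallSimple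

variable {G : Type*} [Group G]

/-- the set of `g` with `g⁻¹ t g ∈ H` is the preimage of the set of fixed cosets -/
theorem preimage_fixedBy [Finite G] (H : Subgroup G) (t : G) :
    (QuotientGroup.mk : G → G ⧸ H) ⁻¹' (fixedBy (G ⧸ H) t) = {g : G | g⁻¹ * t * g ∈ H} := by
  ext g
  simp only [Set.mem_preimage, mem_fixedBy, Set.mem_setOf_eq]
  exact Cfsg.Agent.S1018.smul_mk_eq_iff H t g

/-- the conjugating elements `g` with `g⁻¹ t g ∈ H` correspond to pairs
(conjugate of `t` in `H`, element of `C(t)`) -/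
noncomputable def conjEquiv (H : Subgroup G) (t : G) :
    {g : G // g⁻¹ * t * g ∈ H} ≃
      {s : G // s ∈ H ∧ IsConj t s} × ↥(Subgroup.centralizer ({t} : Set G)) := by
  classical
  have hw : ∀ s : {s : G // s ∈ H ∧ IsConj t s}, ∃ w : G, w⁻¹ * t * w = s.1 := by
    intro s
    obtain ⟨c, hc⟩ := isConj_iff.mp s.2.2
    exact ⟨c⁻¹, by simpa using hc⟩
  choose w hwt using hw
  refine
    { toFun := fun g =>
        (⟨g.1⁻¹ * t * g.1, g.2, isConj_iff.mpr ⟨g.1⁻¹, by simp⟩⟩,
          ⟨g.1 * (w ⟨g.1⁻¹ * t * g.1, g.2, isConj_iff.mpr ⟨g.1⁻¹, by simp⟩⟩)⁻¹, ?_⟩)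
      invFun := fun sz => ⟨sz.2.1 * w sz.1, ?_⟩
      left_inv := ?_
      right_inv := ?_ }
  · rw [Subgroup.mem_centralizer_singleton_iff]
    have h := hwt ⟨g.1⁻¹ * t * g.1, g.2, isConj_iff.mpr ⟨g.1⁻¹, by simp⟩⟩
    simp only at h
    set v := w ⟨g.1⁻¹ * t * g.1, g.2, isConj_iff.mpr ⟨g.1⁻¹, by simp⟩⟩ with hv
    have h2 : t = v * (g.1⁻¹ * t * g.1) * v⁻¹ := by rw [← h]; group
    calc g.1 * v⁻¹ * t = g.1 * v⁻¹ * (v * (g.1⁻¹ * t * g.1) * v⁻¹) := by rw [← h2]
      _ = t * (g.1 * v⁻¹) := by group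
  · have h := hwt sz.1
    have hz : sz.2.1 * t = t * sz.2.1 := Subgroup.mem_centralizer_singleton_iff.mp sz.2.2
    have : (sz.2.1 * w sz.1)⁻¹ * t * (sz.2.1 * w sz.1) = sz.1.1 := by
      calc (sz.2.1 * w sz.1)⁻¹ * t * (sz.2.1 * w sz.1)
          = (w sz.1)⁻¹ * (sz.2.1⁻¹ * (t * sz.2.1)) * w sz.1 := by group
        _ = (w sz.1)⁻¹ * (sz.2.1⁻¹ * (sz.2.1 * t)) * w sz.1 := by rw [hz]
        _ = (w sz.1)⁻¹ * t * w sz.1 := by group
        _ = sz.1.1 := h
    rw [this]
    exact sz.1.2.1
  · intro g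
    apply Subtype.ext
    simp
  · rintro ⟨s, z⟩
    have h := hwt s
    have hz : z.1 * t = t * z.1 := Subgroup.mem_centralizer_singleton_iff.mp z.2
    have hs : (z.1 * w s)⁻¹ * t * (z.1 * w s) = s.1 := by
      calc (z.1 * w s)⁻¹ * t * (z.1 * w s)
          = (w s)⁻¹ * (z.1⁻¹ * (t * z.1)) * w s := by group
        _ = (w s)⁻¹ * (z.1⁻¹ * (z.1 * t)) * w s := by rw [hz]
        _ = (w s)⁻¹ * t * w s := by group
        _ = s.1 := h
    have hs' : (⟨(z.1 * w s)⁻¹ * t * (z.1 * w s), by rw [hs]; exact s.2.1,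
        isConj_iff.mpr ⟨(z.1 * w s)⁻¹, by simp⟩⟩ : {s : G // s ∈ H ∧ IsConj t s}) = s :=
      Subtype.ext hs
    apply Prod.ext
    · exact hs'
    · apply Subtype.ext
      simp only
      rw [hs']
      group

/-- **Fixed point formula** for the action on cosets: `|Fix(t)| * |H| = |t^G ∩ H| * |C_G(t)|`. -/
theorem card_fixedBy_mul_card [Finite G] (H : Subgroup G) (t : G) :
    Nat.card (fixedBy (G ⧸ H) t) * Nat.card ↥H =
      Nat.card {s : G // s ∈ H ∧ IsConj t s} *
        Nat.card ↥(Subgroup.centralizer ({t} : Set G)) := by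
  have e1 := QuotientGroup.preimageMkEquivSubgroupProdSet H (fixedBy (G ⧸ H) t)
  rw [preimage_fixedBy] at e1
  have h1 := Nat.card_congr e1
  have h2 := Nat.card_congr (conjEquiv H t)
  rw [Nat.card_prod] at h1 h2
  have : Nat.card ↥{g : G | g⁻¹ * t * g ∈ H} = Nat.card {g : G // g⁻¹ * t * g ∈ H} := rfl
  rw [this] at h1
  rw [mul_comm, ← h1, h2]

/-- `|C_G(t)|` divides `|Fix(t)| * |H|` -/
theorem card_centralizer_dvd [Finite G] (H : Subgroup G) (t : G) :
    Nat.card ↥(Subgroup.centralizer ({t} : Set G)) ∣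
      Nat.card (fixedBy (G ⧸ H) t) * Nat.card ↥H := by
  rw [card_fixedBy_mul_card]
  exact dvd_mul_left _ _

/-- a `q`-element has `|X| ≡ |Fix|` mod `q` -/
theorem card_modEq_card_fixedBy [Finite G] {X : Type*} [MulAction G X] [Finite X] {q : ℕ} [Fact q.Prime]
    (g : G) (hg : IsPGroup q (Subgroup.zpowers g)) :
    Nat.card X ≡ Nat.card (fixedBy X g) [MOD q] := by
  have h := Cfsg.Agent.Lib.Helper8.SmallSimple.card_invariant_modEq (X := X)
    (Subgroup.zpowers g) hg Set.univ (fun _ _ _ _ => Set.mem_univ _)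
  have e1 : Nat.card ↥(Set.univ : Set X) = Nat.card X := Nat.card_congr (Equiv.Set.univ X)
  have e2 : Nat.card {a : X // a ∈ (Set.univ : Set X) ∧ ∀ y ∈ Subgroup.zpowers g, y • a = a} =
      Nat.card (fixedBy X g) := by
    refine Nat.card_congr
      { toFun := fun a => ⟨a.1, a.2.2 g (Subgroup.mem_zpowers g)⟩
        invFun := fun a => ⟨a.1, Set.mem_univ _, ?_⟩
        left_inv := fun a => rfl
        right_inv := fun a => rfl }
    rintro y ⟨k, rfl⟩
    exact Cfsg.Agent.S1018.smul_zpow_fixed a.2 k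
  rw [e1, e2] at h
  exact h



/-- an element of order at most 2 normalizing `⟨y⟩` (`y` of prime order) centralizes or inverts `y` -/
theorem conj_eq_or_eq_inv {p : ℕ} [Fact p.Prime] (y s : G) (hy : orderOf y = p) (hs : s * s = 1)
    (hn : s * y * s⁻¹ ∈ Subgroup.zpowers y) : s * y * s⁻¹ = y ∨ s * y * s⁻¹ = y⁻¹ := by
  have hp : p.Prime := Fact.out
  obtain ⟨m, hm⟩ := hn
  simp only at hm
  have h1 : s * (s * y * s⁻¹) * s⁻¹ = y := by
    have hs' : s⁻¹ = s := inv_eq_of_mul_eq_one_left hs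
    calc s * (s * y * s⁻¹) * s⁻¹ = (s * s) * y * (s⁻¹ * s⁻¹) := by group
      _ = y := by rw [hs', hs]; group
  have h2 : s * (s * y * s⁻¹) * s⁻¹ = y ^ (m * m) := by
    rw [← hm, ← conj_zpow, ← hm, ← zpow_mul]
  have h3 : y ^ (m * m - 1) = 1 := by
    rw [zpow_sub, zpow_one, ← h2, h1, mul_inv_cancel]
  have h4 : (p : ℤ) ∣ m * m - 1 := by
    rw [← hy]; exact orderOf_dvd_iff_zpow_eq_one.mpr h3
  have h5 : m * m - 1 = (m - 1) * (m + 1) := by ring
  rw [h5] at h4
  have hpp : Prime (p : ℤ) := Nat.prime_iff_prime_int.mp hp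
  rcases hpp.dvd_or_dvd h4 with ⟨k, hk⟩ | ⟨k, hk⟩
  · left
    have : m = 1 + p * k := by omega
    rw [← hm, this, zpow_add, zpow_one, zpow_mul, zpow_natCast, ← hy, pow_orderOf_eq_one, one_zpow,
      mul_one]
  · right
    have : m = -1 + p * k := by omega
    rw [← hm, this, zpow_add, zpow_neg_one, zpow_mul, zpow_natCast, ← hy, pow_orderOf_eq_one, one_zpow,
      mul_one]



theorem mem_centralizer_zpowers (y s : G) (h : s * y * s⁻¹ = y) :
    s ∈ Subgroup.centralizer ((Subgroup.zpowers y : Subgroup G) : Set G) := by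
  rw [Subgroup.mem_centralizer_iff]
  rintro x ⟨k, rfl⟩
  have hc : Commute s y := by
    have : s * y = y * s := by
      calc s * y = s * y * s⁻¹ * s := by group
        _ = y * s := by rw [h]
    exact this
  exact ((hc.zpow_right k).eq).symm

theorem card_conj_invol_le {p : ℕ} [Fact p.Prime] [Finite G] (P : Subgroup G)
    (hP : Nat.card ↥P = p) (t : G) (ht : orderOf t = 2)
    (huniq : ∀ s ∈ Subgroup.centralizer (P : Set G), orderOf s = 2 → s = t) :
    Nat.card {s : G // s ∈ Subgroup.normalizer (P : Set G) ∧ IsConj t s} ≤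
      Nat.card ↥(Subgroup.centralizer (P : Set G)) + 1 := by
  classical
  obtain ⟨y0, hy0⟩ := exists_prime_orderOf_dvd_card' (G := ↥P) p (by rw [hP])
  set y : G := (y0 : G) with hy
  have hyo : orderOf y = p := by rw [hy, Subgroup.orderOf_coe]; exact hy0
  have hPy : Subgroup.zpowers y = P := by
    apply Subgroup.eq_of_le_of_card_ge
    · rw [Subgroup.zpowers_le]; exact y0.2
    · rw [Nat.card_zpowers, hyo, hP]
  set N := Subgroup.normalizer (P : Set G) with hN
  set C := Subgroup.centralizer (P : Set G) with hC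
  -- properties of the conjugates
  have hord : ∀ s : G, IsConj t s → orderOf s = 2 := by
    intro s hs
    obtain ⟨c, rfl⟩ := isConj_iff.mp hs
    have := MulEquiv.orderOf_eq (MulAut.conj c) t
    rw [MulAut.conj_apply] at this
    rw [this, ht]
  have hcases : ∀ s : G, s ∈ N → IsConj t s → s ∈ C ∨ s * y * s⁻¹ = y⁻¹ := by
    intro s hsN hs
    have h2 := hord s hs
    have hss : s * s = 1 := Cfsg.Agent.Lib.Helper8.SmallSimple.mul_self_of_orderOf_two h2
    have hmem : s * y * s⁻¹ ∈ Subgroup.zpowers y := by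
      rw [hPy]
      exact (Subgroup.mem_normalizer_iff.mp hsN y).mp y0.2
    rcases conj_eq_or_eq_inv y s hyo hss hmem with h | h
    · left
      rw [hC, ← hPy]
      exact mem_centralizer_zpowers y s h
    · right; exact h
  by_cases hall : ∀ s : {s : G // s ∈ N ∧ IsConj t s}, s.1 ∈ C
  · have hsub : Subsingleton {s : G // s ∈ N ∧ IsConj t s} := by
      constructor
      intro a b
      apply Subtype.ext
      rw [huniq a.1 (hall a) (hord a.1 a.2.2), huniq b.1 (hall b) (hord b.1 b.2.2)]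
    have : Nat.card {s : G // s ∈ N ∧ IsConj t s} ≤ 1 := Finite.card_le_one_iff_subsingleton.mpr hsub
    omega
  · push Not at hall
    obtain ⟨s0, hs0⟩ := hall
    have hs0inv : s0.1 * y * s0.1⁻¹ = y⁻¹ := by
      rcases hcases s0.1 s0.2.1 s0.2.2 with h | h
      · exact absurd h hs0
      · exact h
    have hprod : ∀ s : {s : G // s ∈ N ∧ IsConj t s}, s.1 ∉ C → s0.1 * s.1 ∈ C := by
      intro s hs
      have hsinv : s.1 * y * s.1⁻¹ = y⁻¹ := by
        rcases hcases s.1 s.2.1 s.2.2 with h | h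
        · exact absurd h hs
        · exact h
      rw [hC, ← hPy]
      apply mem_centralizer_zpowers
      calc s0.1 * s.1 * y * (s0.1 * s.1)⁻¹ = s0.1 * (s.1 * y * s.1⁻¹) * s0.1⁻¹ := by group
        _ = s0.1 * y⁻¹ * s0.1⁻¹ := by rw [hsinv]
        _ = (s0.1 * y * s0.1⁻¹)⁻¹ := by group
        _ = y := by rw [hs0inv, inv_inv]
    let f : {s : G // s ∈ N ∧ IsConj t s} → Option ↥C := fun s =>
      if h : s.1 ∈ C then none else some ⟨s0.1 * s.1, hprod s h⟩
    have hf : Function.Injective f := by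
      intro a b hab
      by_cases ha : a.1 ∈ C <;> by_cases hb : b.1 ∈ C
      · apply Subtype.ext
        rw [huniq a.1 ha (hord a.1 a.2.2), huniq b.1 hb (hord b.1 b.2.2)]
      · simp [f, ha, hb] at hab
      · simp [f, ha, hb] at hab
      · simp only [f, ha, hb, dite_false, Option.some.injEq, Subtype.mk.injEq] at hab
        apply Subtype.ext
        exact mul_left_cancel hab
    have := Nat.card_le_card_of_injective f hf
    rwa [Finite.card_option] at this



/-- two involutions of a cyclic subgroup coincide -/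
theorem invol_unique_of_isCyclic [Finite G] (C : Subgroup G) [IsCyclic ↥C] (s t : G) (hs : s ∈ C) (ht : t ∈ C)
    (hs2 : orderOf s = 2) (ht2 : orderOf t = 2) : s = t := by
  classical
  haveI : Fintype ↥C := Fintype.ofFinite _
  by_contra hne
  have h := IsCyclic.card_pow_eq_one_le (α := ↥C) (n := 2) (by norm_num)
  have hs1 : s ≠ 1 := by rintro rfl; rw [orderOf_one] at hs2; omega
  have ht1 : t ≠ 1 := by rintro rfl; rw [orderOf_one] at ht2; omega
  have hsub : ({(1 : ↥C), ⟨s, hs⟩, ⟨t, ht⟩} : Finset ↥C) ⊆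
      Finset.univ.filter (fun a : ↥C => a ^ 2 = 1) := by
    intro a ha
    simp only [Finset.mem_insert, Finset.mem_singleton] at ha
    simp only [Finset.mem_filter, Finset.mem_univ, true_and]
    rcases ha with rfl | rfl | rfl
    · simp
    · apply Subtype.ext
      simp only [Subgroup.coe_pow, Subgroup.coe_one]
      rw [← hs2]; exact pow_orderOf_eq_one s
    · apply Subtype.ext
      simp only [Subgroup.coe_pow, Subgroup.coe_one]
      rw [← ht2]; exact pow_orderOf_eq_one t
  have h3 : ({(1 : ↥C), ⟨s, hs⟩, ⟨t, ht⟩} : Finset ↥C).card = 3 := by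
    rw [Finset.card_eq_three]
    refine ⟨1, ⟨s, hs⟩, ⟨t, ht⟩, ?_, ?_, ?_, rfl⟩
    · intro h; apply hs1; exact (congrArg Subtype.val h).symm
    · intro h; apply ht1; exact (congrArg Subtype.val h).symm
    · intro h; apply hne; exact congrArg Subtype.val h
  have := Finset.card_le_card hsub
  omega

/-- if `|C(P)| = 2p` for a subgroup `P` of odd prime order `p`, then `C(P)` has a unique involution -/
theorem invol_unique_of_card {p : ℕ} [Fact p.Prime] [Finite G] (hp2 : p ≠ 2) (P : Subgroup G)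
    (hP : Nat.card ↥P = p) (hC : Nat.card ↥(Subgroup.centralizer (P : Set G)) = 2 * p)
    (s t : G) (hs : s ∈ Subgroup.centralizer (P : Set G)) (ht : t ∈ Subgroup.centralizer (P : Set G))
    (hs2 : orderOf s = 2) (ht2 : orderOf t = 2) : s = t := by
  have hp : p.Prime := Fact.out
  obtain ⟨y0, hy0⟩ := exists_prime_orderOf_dvd_card' (G := ↥P) p (by rw [hP])
  have hyo : orderOf (y0 : G) = p := by rw [Subgroup.orderOf_coe]; exact hy0
  have hcomm : Commute (y0 : G) t := (Subgroup.mem_centralizer_iff.mp ht) y0 y0.2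
  have hyC : (y0 : G) ∈ Subgroup.centralizer (P : Set G) := by
    rw [Subgroup.mem_centralizer_iff]
    intro x hx
    exact Cfsg.Agent.Lib.Helper7.comm_of_card_prime P hP x hx y0 y0.2
  have hcop : Nat.Coprime (orderOf (y0 : G)) (orderOf t) := by
    rw [hyo, ht2]
    exact (Nat.coprime_primes hp Nat.prime_two).mpr hp2
  have hord : orderOf ((y0 : G) * t) = p * 2 := by
    rw [hcomm.orderOf_mul_eq_mul_orderOf_of_coprime hcop, hyo, ht2]
  have hcyc : IsCyclic ↥(Subgroup.centralizer (P : Set G)) := by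
    apply isCyclic_of_orderOf_eq_card (⟨(y0 : G) * t, Subgroup.mul_mem _ hyC ht⟩ :
      ↥(Subgroup.centralizer (P : Set G)))
    rw [← Subgroup.orderOf_coe]
    simp only
    rw [hord, hC, mul_comm]
  exact invol_unique_of_isCyclic _ s t hs ht hs2 ht2



/-- Sylow data for a prime `p` dividing the order of a simple group exactly once:
`n` Sylow subgroups, `|N(P)| = p * k`, `|C(P)| = p * c`, `|N : C| = r`. -/
theorem sylow_prime_data [Finite G] [IsSimpleGroup G] (hnc : ¬ IsMulCommutative G)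
    {p m : ℕ} [Fact p.Prime] (hG : Nat.card G = p * m) (hpm : ¬ p ∣ m) (P : Sylow p G) :
    Nat.card ↥(P : Subgroup G) = p ∧
    ∃ n k c r : ℕ, Nat.card (Sylow p G) = n ∧
      Nat.card ↥(Subgroup.normalizer ((P : Subgroup G) : Set G)) = p * k ∧
      Nat.card ↥(Subgroup.centralizer ((P : Subgroup G) : Set G)) = p * c ∧
      (Subgroup.centralizer ((P : Subgroup G) : Set G)).relIndex
          (Subgroup.normalizer ((P : Subgroup G) : Set G)) = r ∧
      n * k = m ∧ c * r = k ∧ n % p = 1 ∧ n ≠ 1 ∧ r ∣ p - 1 ∧ r ≠ 1 ∧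
      (Subgroup.normalizer ((P : Subgroup G) : Set G)).index = n ∧
      Nat.card G ∣ n.factorial := by
  have hp : p.Prime := Fact.out
  obtain ⟨hP, -⟩ := sylow_card_index_of_exact hG hpm P
  refine ⟨hP, ?_⟩
  set N := Subgroup.normalizer ((P : Subgroup G) : Set G) with hN
  set C := Subgroup.centralizer ((P : Subgroup G) : Set G) with hC
  have hcommP := comm_of_card_prime (P : Subgroup G) hP
  have hPC : (P : Subgroup G) ≤ C := by
    intro x hx
    rw [hC, Subgroup.mem_centralizer_iff]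
    intro y hy
    exact hcommP y hy x hx
  have hmul := card_sylow_mul_card_normalizer P
  have hmod : Nat.card (Sylow p G) % p = 1 := by
    have := card_sylow_modEq_one p G
    unfold Nat.ModEq at this
    rw [this]
    exact Nat.mod_eq_of_lt hp.one_lt
  have hm0 : m ≠ 0 := by rintro rfl; exact hpm (dvd_zero p)
  have hne1 : Nat.card (Sylow p G) ≠ 1 := by
    apply card_sylow_ne_one P (by rw [hP]; exact hp.one_lt)
    rw [hP, hG]
    have : 1 < m := by
      rcases Nat.lt_or_ge 1 m with h | h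
      · exact h
      · exfalso
        have hm1 : m = 1 := by omega
        apply hnc
        have hcard : Nat.card G = p := by rw [hG, hm1, mul_one]
        have hcyc : IsCyclic G := isCyclic_of_prime_card hcard
        exact IsCyclic.isMulCommutative
    nlinarith [hp.pos]
  obtain ⟨k, hk⟩ : p ∣ Nat.card ↥N := by
    have := Subgroup.card_dvd_of_le (Subgroup.le_normalizer (H := (P : Subgroup G)))
    rwa [hP] at this
  obtain ⟨c, hc⟩ : p ∣ Nat.card ↥C := by
    have := Subgroup.card_dvd_of_le hPC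
    rwa [hP] at this
  rw [← hN, hk, hG] at hmul
  have hnk : Nat.card (Sylow p G) * k = m := by
    have : p * (Nat.card (Sylow p G) * k) = p * m := by
      calc p * (Nat.card (Sylow p G) * k) = Nat.card (Sylow p G) * (p * k) := by ring
        _ = p * m := hmul
    exact Nat.eq_of_mul_eq_mul_left hp.pos this
  have hr := relIndex_centralizer_normalizer_dvd_of_prime (P : Subgroup G) hP
  have hcr := card_centralizer_mul_relIndex (P : Subgroup G)
  rw [← hN, ← hC] at hr hcr
  have hr1 : C.relIndex N ≠ 1 := by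
    intro h
    exact not_normalizer_le_centralizer hnc P (by rw [hP]; exact hp.one_lt) hcommP
      (Subgroup.relIndex_eq_one.mp h)
  rw [hk, hc] at hcr
  have hcr' : c * C.relIndex N = k := by
    have : p * (c * C.relIndex N) = p * k := by rw [← hcr]; ring
    exact Nat.eq_of_mul_eq_mul_left hp.pos this
  have hidx : N.index = Nat.card (Sylow p G) := (Sylow.card_eq_index_normalizer P).symm
  have hNtop : N ≠ ⊤ := by
    intro h
    rw [h, Subgroup.index_top] at hidx
    exact hne1 hidx.symm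
  refine ⟨Nat.card (Sylow p G), k, c, C.relIndex N, rfl, hk, hc, rfl, hnk, hcr', hmod, hne1, hr, hr1,
    hidx, ?_⟩
  have := card_dvd_factorial_index N hNtop
  rwa [hidx] at this




/-- `C(H)` is normalized by `N(H)` -/
theorem conj_mem_centralizer_of_mem_normalizer (H : Subgroup G) {n c : G}
    (hn : n ∈ Subgroup.normalizer (H : Set G)) (hc : c ∈ Subgroup.centralizer (H : Set G)) :
    n * c * n⁻¹ ∈ Subgroup.centralizer (H : Set G) := by
  rw [Subgroup.mem_centralizer_iff] at hc ⊢
  intro x hx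
  have hx' : n⁻¹ * x * n ∈ H := by
    have := (Subgroup.mem_normalizer_iff.mp (Subgroup.inv_mem _ hn) x).mp hx
    simpa using this
  have h := hc _ hx'
  calc x * (n * c * n⁻¹) = n * ((n⁻¹ * x * n) * c) * n⁻¹ := by group
    _ = n * (c * (n⁻¹ * x * n)) * n⁻¹ := by rw [h]
    _ = n * c * n⁻¹ * x := by group

/-- fixed points of an involution centralizing a Sylow subgroup of prime order, on the cosets of its
normalizer: `≡ 1` mod `p`, the number of moved points is divisible by `4`, not everything is fixed -/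
theorem invol_fix_data [Finite G] [IsSimpleGroup G] (hG2 : 2 < Nat.card G) {p : ℕ} [Fact p.Prime]
    (P : Sylow p G) (hP : Nat.card ↥(P : Subgroup G) = p)
    (hNtop : Subgroup.normalizer ((P : Subgroup G) : Set G) ≠ ⊤) (t : G)
    (htC : t ∈ Subgroup.centralizer ((P : Subgroup G) : Set G)) (ht : orderOf t = 2) :
    Nat.card (fixedBy (G ⧸ Subgroup.normalizer ((P : Subgroup G) : Set G)) t) % p = 1 ∧
    (∃ s : ℕ, 4 ∣ s ∧ s + Nat.card (fixedBy (G ⧸ Subgroup.normalizer ((P : Subgroup G) : Set G)) t)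
      = (Subgroup.normalizer ((P : Subgroup G) : Set G)).index) ∧
    Nat.card (fixedBy (G ⧸ Subgroup.normalizer ((P : Subgroup G) : Set G)) t) ≠
      (Subgroup.normalizer ((P : Subgroup G) : Set G)).index := by
  have hp : p.Prime := Fact.out
  set N := Subgroup.normalizer ((P : Subgroup G) : Set G) with hN
  refine ⟨?_, ?_, ?_⟩
  · have hmod := card_fixedBy_modEq_one P hP t htC
    unfold Nat.ModEq at hmod
    rw [← hN] at hmod
    rw [hmod]
    exact Nat.mod_eq_of_lt hp.one_lt
  · have ht2 : t ^ 2 = 1 := by rw [← ht]; exact pow_orderOf_eq_one t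
    exact four_dvd_moved hG2 N t ht2
  · intro h
    have ht1 : t = 1 := by
      apply eq_one_of_smul_eq N hNtop
      apply smul_eq_of_card_fixedBy
      rw [h, Subgroup.index]
    rw [ht1, orderOf_one] at ht
    omega

/-- a `q`-subgroup `T ≤ N` commuting with `c ∈ N` whose number of fixed cosets of `N` is not
`≡ 1` mod `q` fixes a second coset `gN`, i.e. `g⁻¹ T g ≤ N` with `g ∉ N` -/
theorem exists_conj_le_of_not_modEq [Finite G] {q : ℕ} [Fact q.Prime] (N T : Subgroup G)
    (hT : IsPGroup q T) (hTN : T ≤ N) (c : G) (hcN : c ∈ N) (hcomm : ∀ y ∈ T, c * y = y * c)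
    (h : Nat.card (fixedBy (G ⧸ N) c) % q ≠ 1) :
    ∃ g : G, g ∉ N ∧ ∀ y ∈ T, g⁻¹ * y * g ∈ N := by
  have hq : q.Prime := Fact.out
  have hα : ∀ y ∈ N, y • ((1 : G) : G ⧸ N) = ((1 : G) : G ⧸ N) := by
    intro y hy
    rw [Cfsg.Agent.S1018.smul_mk_eq_iff]
    simpa using hy
  set F' : Set (G ⧸ N) := fixedBy (G ⧸ N) c \ {((1 : G) : G ⧸ N)} with hF'
  have hF'card : Nat.card ↥F' + 1 = Nat.card (fixedBy (G ⧸ N) c) := by
    rw [Nat.card_coe_set_eq, hF', Set.ncard_diff_singleton_of_mem, ← Nat.card_coe_set_eq]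
    · have : 0 < Nat.card (fixedBy (G ⧸ N) c) := by
        rw [Nat.card_pos_iff]
        exact ⟨⟨⟨((1 : G) : G ⧸ N), hα c hcN⟩⟩, inferInstance⟩
      omega
    · rw [mem_fixedBy]
      exact hα c hcN
  have hTinv : ∀ y ∈ T, ∀ a ∈ F', y • a ∈ F' := by
    rintro y hy a ⟨ha1, ha2⟩
    refine ⟨?_, ?_⟩
    · rw [mem_fixedBy] at ha1 ⊢
      rw [smul_smul, hcomm y hy, ← smul_smul, ha1]
    · intro h
      apply ha2
      rw [Set.mem_singleton_iff] at h ⊢
      have hyN : y⁻¹ ∈ N := N.inv_mem (hTN hy)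
      calc a = y⁻¹ • (y • a) := by rw [inv_smul_smul]
        _ = y⁻¹ • ((1 : G) : G ⧸ N) := by rw [h]
        _ = ((1 : G) : G ⧸ N) := hα _ hyN
  have h1 := card_invariant_modEq T hT F' hTinv
  have hpos : 0 < Nat.card {a : G ⧸ N // a ∈ F' ∧ ∀ y ∈ T, y • a = a} := by
    rcases Nat.eq_zero_or_pos (Nat.card {a : G ⧸ N // a ∈ F' ∧ ∀ y ∈ T, y • a = a}) with h0 | h0
    · exfalso
      rw [h0] at h1
      unfold Nat.ModEq at h1
      apply h
      rw [← hF'card, Nat.add_mod, h1, Nat.zero_mod, zero_add, Nat.mod_mod,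
        Nat.mod_eq_of_lt hq.one_lt]
    · exact h0
  obtain ⟨⟨β, ⟨hβ1, hβ2⟩, hβT⟩⟩ := (Nat.card_pos_iff.mp hpos).1
  obtain ⟨g, rfl⟩ := QuotientGroup.mk_surjective β
  refine ⟨g, ?_, ?_⟩
  · intro h
    apply hβ2
    rw [Set.mem_singleton_iff, QuotientGroup.eq]
    simpa using N.inv_mem h
  · intro y hy
    have := hβT y hy
    rwa [Cfsg.Agent.S1018.smul_mk_eq_iff] at this


end Cfsg.Agent.Lib.Helper8.SmallSimple2
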