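import Mathlib

set_option autoImplicit false

namespace Cfsg.Agent.Lib.Helper8

open MulAction Subgroup in
/-- Transfer evaluated at `g ∈ H` when all conjugates of powers of `g` landing in `H`
have the same image under `ϕ` as the power itself. -/
theorem transfer_eq_pow_mod {G : Type*} [Group G] {H : Subgroup G} {A : Type*} [CommGroup A]
    (ϕ : H →* A) [H.FiniteIndex] (g : G) (hg : g ∈ H)
    (key : ∀ (k : ℕ) (g₀ : G) (hk : g₀⁻¹ * g ^ k * g₀ ∈ H),
      ϕ ⟨g₀⁻¹ * g ^ k * g₀, hk⟩ = ϕ ⟨g, hg⟩ ^ k) :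
    MonoidHom.transfer ϕ g = ϕ ⟨g, hg⟩ ^ H.index := by
  classical
  letI := H.fintypeQuotientOfFiniteIndex
  rw [MonoidHom.transfer_eq_prod_quotient_orbitRel_zpowers_quot]
  rw [Subgroup.index_eq_sum_minimalPeriod H g, ← Finset.prod_pow_eq_pow_sum]
  refine Finset.prod_congr rfl (fun q _ => ?_)
  exact key _ _ _

end Cfsg.Agent.Lib.Helper8
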