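import Mathlib
import Cfsg.Agent.Lib.Helper7.SimpleTools
import Cfsg.Agent.S0144
import Cfsg.Agent.S0499
import Cfsg.Agent.S0991
import Cfsg.Agent.S0675

/-!
Order sieve for non-abelian simple groups, part A: the group-theoretic criteria (helper8).
Everything is stated for a finite simple group `G` which is not commutative.
-/

set_option autoImplicit false

namespace Cfsg.Agent.Lib.Helper8.OrdSieve

open Cfsg.Agent.Lib.Helper7

variable {G : Type*} [Group G] [Finite G] [IsSimpleGroup G]

/-- the order is not of the form `p^a q^b` -/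
theorem not_card_eq_pq (hG : ¬ IsMulCommutative G) (p q a b : ℕ) (hp : p.Prime) (hq : q.Prime)
    (h : Nat.card G = p ^ a * q ^ b) : False := by
  have hs : Group.IsSolvable G := Cfsg.Agent.S0144.result p q a b hp hq h
  apply hG
  exact ⟨⟨fun x y => IsSimpleGroup.comm_iff_isSolvable.mpr hs x y⟩⟩

/-- a proper subgroup of index `j` forces `|G| ∣ j!/2` -/
theorem card_dvd_half_factorial (hG : ¬ IsMulCommutative G) (H : Subgroup G) (hH : H ≠ ⊤) :
    Nat.card G ∣ H.index.factorial / 2 := by
  obtain ⟨f, hf⟩ := Cfsg.Agent.S0991.result hG H hH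
  have h1 : Nat.card G ∣ Nat.card ↥(alternatingGroup (Fin H.index)) :=
    Subgroup.card_dvd_of_injective f hf
  have h2 : 2 ≤ H.index := by
    have h0 : H.index ≠ 0 := Subgroup.index_ne_zero_of_finite
    have h1 : H.index ≠ 1 := fun h => hH (Subgroup.index_eq_one.mp h)
    omega
  have : Nontrivial (Fin H.index) := Fin.nontrivial_iff_two_le.mpr h2
  rw [nat_card_alternatingGroup, Nat.card_fin] at h1
  exact h1

/-- a subgroup of prime index `r` forces `r (r - 1) ∣ |G|` (Burnside's theorem on groups of prime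
degree) -/
theorem prime_index_dvd (hG : ¬ IsMulCommutative G) (H : Subgroup G) (hr : H.index.Prime) :
    H.index * (H.index - 1) ∣ Nat.card G := by
  classical
  have hH : H ≠ ⊤ := by
    intro h
    rw [h, Subgroup.index_top] at hr
    exact Nat.not_prime_one hr
  haveI : Fintype (G ⧸ H) := Fintype.ofFinite _
  let φ : G →* Equiv.Perm (G ⧸ H) := MulAction.toPermHom G (G ⧸ H)
  have hker : φ.ker = ⊥ := by
    rcases (MonoidHom.normal_ker φ).eq_bot_or_eq_top with h | h
    · exact h
    · exfalso
      apply hH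
      rw [eq_top_iff]
      intro g _
      have hg : g ∈ φ.ker := by rw [h]; trivial
      rw [MonoidHom.mem_ker] at hg
      have h3 : g • (QuotientGroup.mk 1 : G ⧸ H) = QuotientGroup.mk 1 := by
        have := congrArg (fun σ : Equiv.Perm (G ⧸ H) => σ (QuotientGroup.mk 1)) hg
        simpa [φ] using this
      have h4 : (QuotientGroup.mk (g * 1) : G ⧸ H) = QuotientGroup.mk 1 := h3
      have := QuotientGroup.eq.mp h4.symm
      simpa using this
  have hinj : Function.Injective φ := (MonoidHom.ker_eq_bot_iff φ).mp hker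
  have hcard : Fintype.card (G ⧸ H) = H.index := by
    rw [← Nat.card_eq_fintype_card]; rfl
  -- the image is a transitive subgroup
  have htr : MulAction.IsPretransitive ↥φ.range (G ⧸ H) := by
    refine ⟨fun x y => ?_⟩
    obtain ⟨g, hg⟩ := MulAction.exists_smul_eq G x y
    exact ⟨⟨φ g, g, rfl⟩, hg⟩
  rcases Cfsg.Agent.S0675.result (α := G ⧸ H) (by rw [hcard]; exact hr) φ.range with hs | h2
  · exfalso
    apply hG
    have e : G ≃* ↥φ.range := MonoidHom.ofInjective hinj
    have hsG : Group.IsSolvable G :=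
      Group.isSolvable_of_isSolvable_injective (f := e.toMonoidHom) e.injective
    exact ⟨⟨fun x y => IsSimpleGroup.comm_iff_isSolvable.mpr hsG x y⟩⟩
  · -- two-transitive: `r (r - 1)` divides the order
    have h2le : 2 ≤ Nat.card (G ⧸ H) := by
      rw [Nat.card_eq_fintype_card, hcard]; exact hr.two_le
    obtain ⟨s, hs⟩ : ∃ s : Set (G ⧸ H), s.ncard = 2 := by
      obtain ⟨t, ht⟩ := Finset.exists_subset_card_eq (s := (Finset.univ : Finset (G ⧸ H)))
        (n := 2) (by rw [Finset.card_univ, ← Nat.card_eq_fintype_card]; exact h2le)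
      exact ⟨t, by rw [Set.ncard_coe_finset]; exact ht.2⟩
    have hidx := MulAction.IsMultiplyPretransitive.index_of_fixingSubgroup_mul h2 hs
    have hdvd : (fixingSubgroup ↥φ.range s).index ∣ Nat.card ↥φ.range :=
      Subgroup.index_dvd_card _
    have hcr : Nat.card ↥φ.range = Nat.card G :=
      (Nat.card_congr (MonoidHom.ofInjective hinj).toEquiv).symm
    rw [hcr] at hdvd
    have hcard' : Nat.card (G ⧸ H) = H.index := rfl
    rw [hcard'] at hidx
    obtain ⟨r, hr2⟩ : ∃ r, H.index = r + 2 := ⟨H.index - 2, by have := hr.two_le; omega⟩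
    rw [hr2] at hidx ⊢
    have e1 : (r + 2).factorial = (r + 2) * (r + 1) * r.factorial := by
      rw [Nat.factorial_succ, Nat.factorial_succ]; ring
    have e2 : r + 2 - 2 = r := by omega
    rw [e1, e2] at hidx
    have h3 : (fixingSubgroup ↥φ.range s).index = (r + 2) * (r + 1) :=
      Nat.eq_of_mul_eq_mul_right (Nat.factorial_pos r) hidx
    have e3 : r + 2 - 1 = r + 1 := by omega
    rw [e3, ← h3]
    exact hdvd

section Sylow

variable {p a m : ℕ}

/-- basic facts on the number of Sylow `p`-subgroups -/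
theorem sylow_count_facts (hp : p.Prime) (ha : 1 ≤ a) (hm : 1 < m)
    (hn : Nat.card G = p ^ a * m) (hpm : ¬ p ∣ m) :
    haveI := Fact.mk hp
    Nat.card (Sylow p G) ∣ m ∧ Nat.card (Sylow p G) % p = 1 ∧ Nat.card (Sylow p G) ≠ 1 := by
  haveI := Fact.mk hp
  obtain ⟨P⟩ : Nonempty (Sylow p G) := inferInstance
  obtain ⟨hc, hi⟩ := sylow_card_index_of_pow hn hpm P
  refine ⟨?_, ?_, ?_⟩
  · rw [← hi]; exact P.card_dvd_index
  · have := card_sylow_modEq_one p G
    rw [Nat.ModEq, Nat.mod_eq_of_lt hp.one_lt] at this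
    exact this
  · apply card_sylow_ne_one P
    · rw [hc]; exact Nat.one_lt_pow (by omega) hp.one_lt
    · rw [hc, hn]
      have : 0 < p ^ a := pow_pos hp.pos a
      nlinarith

/-- the order of the normaliser of a Sylow subgroup -/
theorem card_normalizer_sylow (hp : p.Prime) :
    haveI := Fact.mk hp
    ∀ P : Sylow p G, Nat.card ↥(Subgroup.normalizer ((P : Subgroup G) : Set G)) =
      Nat.card G / Nat.card (Sylow p G) := by
  haveI := Fact.mk hp
  intro P
  have h := card_sylow_mul_card_normalizer P
  have hpos : 0 < Nat.card (Sylow p G) := Nat.card_pos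
  rw [← h, Nat.mul_div_cancel_left _ hpos]

/-- the normaliser of a Sylow subgroup is a proper subgroup of index `n_p` -/
theorem index_normalizer_sylow (hp : p.Prime) :
    haveI := Fact.mk hp
    ∀ P : Sylow p G, (Subgroup.normalizer ((P : Subgroup G) : Set G)).index =
      Nat.card (Sylow p G) := by
  haveI := Fact.mk hp
  intro P
  exact (Sylow.card_eq_index_normalizer P).symm

/-- Burnside transfer for a Sylow subgroup of prime order: `gcd (|N(P)|/p) (p-1) ≠ 1` -/
theorem transfer_prime (hG : ¬ IsMulCommutative G) (hp : p.Prime) (hm : 1 < m)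
    (hn : Nat.card G = p * m) (hpm : ¬ p ∣ m) :
    haveI := Fact.mk hp
    Nat.gcd ((Nat.card G / Nat.card (Sylow p G)) / p) (p - 1) ≠ 1 := by
  haveI := Fact.mk hp
  intro hgcd
  obtain ⟨P⟩ : Nonempty (Sylow p G) := inferInstance
  obtain ⟨hc, -⟩ := sylow_card_index_of_exact hn hpm P
  have hcomm := comm_of_card_prime (P : Subgroup G) hc
  apply not_normalizer_le_centralizer hG P (by rw [hc]; exact hp.one_lt) hcomm
  -- `|N : C|` divides `p - 1` and `|N| / p`
  have h1 := relIndex_centralizer_normalizer_dvd_of_prime (P : Subgroup G) hc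
  have hPC : (P : Subgroup G) ≤ Subgroup.centralizer ((P : Subgroup G) : Set G) := by
    intro x hx
    rw [Subgroup.mem_centralizer_iff]
    intro y hy
    exact hcomm y hy x hx
  have h2 : (Subgroup.centralizer ((P : Subgroup G) : Set G)).relIndex
      (Subgroup.normalizer ((P : Subgroup G) : Set G)) ∣
      (Nat.card G / Nat.card (Sylow p G)) / p := by
    rw [← card_normalizer_sylow hp P]
    have h3 := card_centralizer_mul_relIndex (P : Subgroup G)
    have h4 : p ∣ Nat.card ↥(Subgroup.centralizer ((P : Subgroup G) : Set G)) := by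
      have := Subgroup.card_dvd_of_le hPC
      rwa [hc] at this
    obtain ⟨c, hc'⟩ := h4
    rw [← h3, hc', mul_assoc, Nat.mul_div_cancel_left _ hp.pos]
    exact dvd_mul_left _ _
  have h5 := Nat.dvd_gcd h2 h1
  rw [hgcd] at h5
  exact Subgroup.relIndex_eq_one.mp (Nat.dvd_one.mp h5)

end Sylow

end Cfsg.Agent.Lib.Helper8.OrdSieve
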