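import Mathlib
import Cfsg.Agent.Lib.Helper8.OrdSieveA
import Cfsg.Agent.S0985
import Cfsg.Agent.S0989
import Cfsg.Agent.S0990

/-!
Order sieve for non-abelian simple groups, part B: the criteria `n_p = p + 1` (normaliser of a Sylow
subgroup inside `A_{p+1}`) and `n_p ≢ 1 mod p²` (large Sylow intersections) (helper8).
-/

set_option autoImplicit false
set_option linter.style.haveILetI false

namespace Cfsg.Agent.Lib.Helper8.OrdSieve

open Cfsg.Agent.Lib.Helper7

variable {G : Type*} [Group G] [Finite G] [IsSimpleGroup G]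

theorem factorization_factorial_succ {p : ℕ} (hp : p.Prime) :
    ((p + 1).factorial).factorization p = 1 := by
  have h1 : (p + 1).factorial = (p + 1) * (p * (p - 1).factorial) := by
    rw [Nat.factorial_succ]
    congr 1
    obtain ⟨k, rfl⟩ : ∃ k, p = k + 1 := ⟨p - 1, by have := hp.pos; omega⟩
    rw [Nat.factorial_succ]
    simp
  have h2 : ¬ p ∣ p + 1 := by
    intro h
    have : p ∣ 1 := (Nat.dvd_add_right (dvd_refl p)).mp h
    exact hp.one_lt.ne' (Nat.dvd_one.mp this)
  have h3 : ((p - 1).factorial).factorization p = 0 :=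
    Nat.factorization_factorial_eq_zero_of_lt (by have := hp.pos; omega)
  rw [h1, Nat.factorization_mul (by omega) (mul_ne_zero hp.ne_zero (Nat.factorial_ne_zero _)),
    Nat.factorization_mul hp.ne_zero (Nat.factorial_ne_zero _)]
  simp only [Finsupp.coe_add, Pi.add_apply]
  rw [Nat.factorization_eq_zero_of_not_dvd h2, hp.factorization_self, h3]
  norm_num

/-- `|H ∩ K| * |K : H ∩ K| = |K|` -/
theorem card_inf_mul_relIndex' {G : Type*} [Group G] (H K : Subgroup G) :
    Nat.card ↥(H ⊓ K) * H.relIndex K = Nat.card ↥K := by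
  have := Subgroup.relIndex_mul_relIndex (⊥ : Subgroup G) (H ⊓ K) K bot_le inf_le_right
  rwa [Subgroup.relIndex_bot_left, Subgroup.relIndex_bot_left, Subgroup.inf_relIndex_right] at this

/-- if a Sylow subgroup of odd prime order `p` has exactly `p + 1` conjugates then the order of its
normaliser divides `p (p - 1) / 2` -/
theorem normalizer_dvd_of_count_succ (hG : ¬ IsMulCommutative G) {p m : ℕ} (hp : p.Prime)
    (hp2 : p ≠ 2) (hn : Nat.card G = p * m) (hpm : ¬ p ∣ m)
    (hcount : haveI := Fact.mk hp; Nat.card (Sylow p G) = p + 1) :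
    Nat.card G / (p + 1) ∣ p * (p - 1) / 2 := by
  classical
  haveI := Fact.mk hp
  obtain ⟨P⟩ : Nonempty (Sylow p G) := inferInstance
  obtain ⟨hc, -⟩ := sylow_card_index_of_exact hn hpm P
  set N := Subgroup.normalizer ((P : Subgroup G) : Set G) with hNdef
  have hNidx : N.index = p + 1 := by rw [hNdef, index_normalizer_sylow hp P, hcount]
  have hNtop : N ≠ ⊤ := by
    intro h
    rw [h, Subgroup.index_top] at hNidx
    have := hp.pos
    omega
  obtain ⟨f, hf⟩ := Cfsg.Agent.S0991.result hG N hNtop
  have hα : Fintype.card (Fin N.index) = p + 1 := by rw [Fintype.card_fin, hNidx]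
  -- the image of `P` in the symmetric group is a Sylow subgroup
  set Q : Subgroup (Equiv.Perm (Fin N.index)) :=
    ((P : Subgroup G).map f).map (alternatingGroup (Fin N.index)).subtype with hQ
  have hQcard : Nat.card ↥Q = p := by
    rw [hQ, Subgroup.card_map_of_injective (alternatingGroup (Fin N.index)).subtype_injective,
      Subgroup.card_map_of_injective hf, hc]
  have hfac : (Nat.card (Equiv.Perm (Fin N.index))).factorization p = 1 := by
    rw [Nat.card_eq_fintype_card, Fintype.card_perm, hα]
    exact factorization_factorial_succ hp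
  let PS : Sylow p (Equiv.Perm (Fin N.index)) := Sylow.ofCard Q (by rw [hQcard, hfac, pow_one])
  have hPS : (PS : Subgroup (Equiv.Perm (Fin N.index))) = Q := rfl
  have h89 := Cfsg.Agent.S0989.result p (Or.inr hα) PS
  have h90 := (Cfsg.Agent.S0990.result (α := Fin N.index) (by rw [hα]; have := hp.two_le; omega)
    p hp2 PS).2
  rw [h89] at h90
  -- `PS.subgroupOf A = P.map f`
  have hsub : (PS : Subgroup (Equiv.Perm (Fin N.index))).subgroupOf
      (alternatingGroup (Fin N.index)) = (P : Subgroup G).map f := by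
    rw [hPS]
    ext x
    rw [Subgroup.mem_subgroupOf, hQ]
    constructor
    · rintro ⟨y, hy, hyx⟩
      have : y = x := Subtype.ext hyx
      rwa [← this]
    · intro hx
      exact ⟨x, hx, rfl⟩
  rw [hsub] at h90
  -- `f(N)` normalises `f(P)`
  have hle : N.map f ≤ Subgroup.normalizer
      (((P : Subgroup G).map f : Subgroup ↥(alternatingGroup (Fin N.index))) :
        Set ↥(alternatingGroup (Fin N.index))) :=
    Subgroup.le_normalizer_map f
  have hdvd := Subgroup.card_dvd_of_le hle
  rw [Subgroup.card_map_of_injective hf] at hdvd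
  have hNcard : Nat.card ↥N = Nat.card G / (p + 1) := by
    rw [hNdef, card_normalizer_sylow hp P, hcount]
  rw [hNcard] at hdvd
  have h2 : Nat.card ↥(Subgroup.normalizer
      (((P : Subgroup G).map f : Subgroup ↥(alternatingGroup (Fin N.index))) :
        Set ↥(alternatingGroup (Fin N.index)))) = p * (p - 1) / 2 := by
    rw [← h90, Nat.mul_div_cancel_left _ (by norm_num)]
  rw [h2] at hdvd
  exact hdvd

/-- if `n_p ≢ 1 mod p²` there is a proper subgroup containing a Sylow `p`-subgroup and having more
than one Sylow `p`-subgroup -/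
theorem exists_big_normalizer {p a m : ℕ} (hp : p.Prime) (ha : 2 ≤ a) (hm : 1 < m)
    (hn : Nat.card G = p ^ a * m) (hpm : ¬ p ∣ m)
    (hcount : haveI := Fact.mk hp; Nat.card (Sylow p G) % (p * p) ≠ 1) :
    ∃ H : Subgroup G, H ≠ ⊤ ∧ H.index ∣ m ∧ ∃ e, e ∣ m / H.index ∧ e % p = 1 ∧ 1 < e := by
  haveI := Fact.mk hp
  have hpp : 1 < p * p := by nlinarith [hp.two_le]
  have hmod : ¬ Nat.card (Sylow p G) ≡ 1 [MOD p ^ 2] := by
    intro h
    apply hcount
    rw [Nat.ModEq, pow_two, Nat.mod_eq_of_lt hpp] at h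
    exact h
  obtain ⟨P, R, hPR, hidx⟩ := Cfsg.Agent.S0985.result p 2 hmod
  obtain ⟨hcP, hiP⟩ := sylow_card_index_of_pow hn hpm P
  obtain ⟨hcR, -⟩ := sylow_card_index_of_pow hn hpm R
  have hminFac : (p ^ a).minFac = p := by
    rw [Nat.pow_minFac (by omega), hp.minFac_eq]
  -- the index of `P ⊓ R` in `P` is `p`
  have key : ∀ P R : Sylow p G, P ≠ R → Nat.card ↥(P : Subgroup G) = p ^ a →
      Nat.card ↥(R : Subgroup G) = p ^ a →
      ((R : Subgroup G).subgroupOf (P : Subgroup G)).index ≤ p ^ (2 - 1) →
      ((R : Subgroup G).subgroupOf (P : Subgroup G)).index = p := by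
    intro P R hPR hcP hcR hidx
    have h1 : ((R : Subgroup G).subgroupOf (P : Subgroup G)).index ∣ p ^ a := by
      rw [← hcP]; exact Subgroup.index_dvd_card _
    obtain ⟨c, hc, hc'⟩ := (Nat.dvd_prime_pow hp).mp h1
    rw [hc'] at hidx ⊢
    have hc1 : c ≤ 1 := by
      by_contra hcon
      have : p ^ 2 ≤ p ^ c := Nat.pow_le_pow_right hp.pos (by omega)
      have h3 : p ^ (2 - 1) = p := by norm_num
      rw [h3] at hidx
      nlinarith [hp.two_le]
    rcases Nat.le_one_iff_eq_zero_or_eq_one.mp hc1 with rfl | rfl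
    · exfalso
      apply hPR
      rw [pow_zero] at hc'
      have hle : (P : Subgroup G) ≤ (R : Subgroup G) :=
        Subgroup.relIndex_eq_one.mp hc'
      apply Sylow.ext
      exact Subgroup.eq_of_le_of_card_ge hle (by rw [hcP, hcR])
    · rw [pow_one]
  have hiPR := key P R hPR hcP hcR hidx
  have hcards : Nat.card ↥((R : Subgroup G) ⊓ (P : Subgroup G)) * p = p ^ a := by
    have := card_inf_mul_relIndex' (R : Subgroup G) (P : Subgroup G)
    rw [hcP] at this
    rw [← this]
    congr 1
    exact hiPR.symm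
  have hiRP : ((P : Subgroup G).subgroupOf (R : Subgroup G)).index = p := by
    have h1 := card_inf_mul_relIndex' (P : Subgroup G) (R : Subgroup G)
    rw [hcR, ← hcards, inf_comm] at h1
    have hpos : 0 < Nat.card ↥((R : Subgroup G) ⊓ (P : Subgroup G)) := Nat.card_pos
    exact Nat.eq_of_mul_eq_mul_left hpos h1
  set D : Subgroup G := (R : Subgroup G) ⊓ (P : Subgroup G) with hD
  -- `P` and `R` normalise `D`
  have hPN : (P : Subgroup G) ≤ Subgroup.normalizer (D : Set G) := by
    rw [hD, ← Subgroup.normal_subgroupOf_iff_le_normalizer_inf]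
    apply Subgroup.normal_of_index_eq_minFac_card
    rw [hiPR, hcP, hminFac]
  have hRN : (R : Subgroup G) ≤ Subgroup.normalizer (D : Set G) := by
    rw [hD, inf_comm, ← Subgroup.normal_subgroupOf_iff_le_normalizer_inf]
    apply Subgroup.normal_of_index_eq_minFac_card
    rw [hiRP, hcR, hminFac]
  set H := Subgroup.normalizer (D : Set G) with hH
  have hDcard : Nat.card ↥D = p ^ (a - 1) := by
    have h1 : p ^ a = p ^ (a - 1) * p := by
      rw [← pow_succ]; congr 1; omega
    rw [h1] at hcards
    exact Nat.eq_of_mul_eq_mul_right hp.pos hcards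
  have hHtop : H ≠ ⊤ := by
    intro h
    have hDn : D.Normal := Subgroup.normalizer_eq_top_iff.mp h
    rcases hDn.eq_bot_or_eq_top with hb | ht
    · rw [hb, Subgroup.card_bot] at hDcard
      have : 1 < p ^ (a - 1) := Nat.one_lt_pow (by omega) hp.one_lt
      omega
    · rw [ht, Subgroup.card_top, hn] at hDcard
      have h1 : p ^ (a - 1) < p ^ a := Nat.pow_lt_pow_right hp.one_lt (by omega)
      have h2 : p ^ a ≤ p ^ a * m := Nat.le_mul_of_pos_right _ (by omega)
      omega
  refine ⟨H, hHtop, ?_, ?_⟩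
  · -- index divides `m`
    have h1 : p ^ a ∣ Nat.card ↥H := by
      rw [← hcP]; exact Subgroup.card_dvd_of_le hPN
    obtain ⟨c, hc⟩ := h1
    have h2 := H.card_mul_index
    rw [hc, hn, mul_assoc] at h2
    have h3 := Nat.eq_of_mul_eq_mul_left (pow_pos hp.pos a) h2
    exact ⟨c, by rw [← h3, mul_comm]⟩
  · -- Sylow subgroups of `H`
    have hinj : P.subtype hPN ≠ R.subtype hRN := fun h => hPR (Sylow.subtype_injective h)
    have hne1 : Nat.card (Sylow p ↥H) ≠ 1 := by
      intro h
      have hsub : Subsingleton (Sylow p ↥H) := (Nat.card_eq_one_iff_unique.mp h).1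
      exact hinj (Subsingleton.elim _ _)
    have hmod1 : Nat.card (Sylow p ↥H) % p = 1 := by
      have := card_sylow_modEq_one p ↥H
      rw [Nat.ModEq, Nat.mod_eq_of_lt hp.one_lt] at this
      exact this
    refine ⟨Nat.card (Sylow p ↥H), ?_, hmod1, ?_⟩
    · have h1 : p ^ a ∣ Nat.card ↥H := by
        rw [← hcP]; exact Subgroup.card_dvd_of_le hPN
      obtain ⟨c, hc⟩ := h1
      have h2 := H.card_mul_index
      rw [hc, hn, mul_assoc] at h2
      have h3 := Nat.eq_of_mul_eq_mul_left (pow_pos hp.pos a) h2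
      have hidxpos : 0 < H.index := Nat.pos_of_ne_zero Subgroup.index_ne_zero_of_finite
      have h4 : m / H.index = c := by
        rw [← h3, Nat.mul_div_cancel _ hidxpos]
      rw [h4]
      -- the number of Sylow subgroups of `H` divides the index of one of them
      have h5 := (P.subtype hPN).card_dvd_index
      have h6 : Nat.card ↥((P.subtype hPN : Sylow p ↥H) : Subgroup ↥H) = p ^ a := by
        rw [Sylow.coe_subtype, ← hcP]
        exact Nat.card_congr (Subgroup.subgroupOfEquivOfLe hPN).toEquiv
      have h7 := ((P.subtype hPN : Sylow p ↥H) : Subgroup ↥H).card_mul_index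
      rw [h6, hc] at h7
      have h8 := Nat.eq_of_mul_eq_mul_left (pow_pos hp.pos a) h7
      rw [h8] at h5
      exact h5
    · have hpos : 0 < Nat.card (Sylow p ↥H) := Nat.card_pos
      omega

end Cfsg.Agent.Lib.Helper8.OrdSieve
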