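import Mathlib
import Cfsg.Prelude.Def_Local
import Cfsg.Agent.Lib.Helper1.Fitting
import Cfsg.Agent.Lib.Helper1.Coprime
import Cfsg.Agent.Lib.Helper12.Cores
import Cfsg.Agent.Lib.Helper9.PComponent
import Cfsg.Agent.S0017
import Cfsg.Agent.S0028

/-!
# `O_{p'}(C_H(P)) ≤ O_{p'}(H)` for solvable `H`

For a finite solvable group `H`, a `p`-subgroup `P` and a `p'`-subgroup `Y ≤ C_H(P)` normalized by
`C_H(P)`, we have `Y ≤ O_{p'}(H)`.
-/

set_option autoImplicit false

namespace Cfsg.Agent.Lib.Helper8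

open Subgroup

/-- In a finite solvable group `H`, a `p'`-subgroup `Y` centralizing a `p`-subgroup `P` and
normalized by `C_H(P)` lies in `O_{p'}(H)`. -/
theorem le_pPrimeCore_of_centralizer_le_normalizer {H : Type*} [Group H] [Finite H]
    [Group.IsSolvable H] (p : ℕ) [Fact p.Prime] (P Y : Subgroup H) (hP : IsPGroup p P)
    (hY : (Nat.card Y).Coprime p) (hYP : Y ≤ centralizer (P : Set H))
    (hYn : centralizer (P : Set H) ≤ normalizer (Y : Set H)) : Y ≤ Cfsg.pPrimeCore p H := by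
  classical
  have hKn : (Cfsg.pPrimeCore p H).Normal := Cfsg.Agent.Lib.Helper1.pPrimeCore_normal p H
  set K := Cfsg.pPrimeCore p H with hK
  have hKcop : (Nat.card K).Coprime p := Cfsg.Agent.Lib.Helper12.pPrimeCore_coprime p
  let π := QuotientGroup.mk' K
  have hbot : Cfsg.pPrimeCore p (H ⧸ K) = ⊥ := Cfsg.Agent.Lib.Helper9.pPrimeCore_quotient_eq_bot p
  have hcent := Cfsg.Agent.S0017.result (G := H ⧸ K) p hbot
  set R := Cfsg.pCore p (H ⧸ K) with hR
  have hRn : R.Normal := Cfsg.Agent.Lib.Helper1.pCore_normal p (H ⧸ K)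
  have hRp : IsPGroup p R := Cfsg.Agent.Lib.Helper1.pCore_isPGroup p (H ⧸ K)
  -- images
  have hPbar : IsPGroup p (P.map π) := hP.map π
  have hYbar : (Nat.card (Y.map π)).Coprime p :=
    Nat.Coprime.coprime_dvd_left (Subgroup.card_map_dvd _ _) hY
  -- `Ȳ ⊓ R̄ = ⊥`
  have hdisj : ∀ g : H ⧸ K, g ∈ Y.map π → g ∈ R → g = 1 := by
    intro g hg hgR
    obtain ⟨k, hk⟩ := (IsPGroup.iff_card.mp hRp)
    have h1 : orderOf g ∣ Nat.card (Y.map π) := by
      have := Subgroup.orderOf_dvd_natCard (Y.map π) hg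
      exact this
    have h2 : orderOf g ∣ p ^ k := by
      rw [← hk]; exact Subgroup.orderOf_dvd_natCard R hgR
    have h3 : (Nat.card (Y.map π)).Coprime (p ^ k) := Nat.Coprime.pow_right k hYbar
    have : orderOf g = 1 := Nat.eq_one_of_dvd_coprimes h3 h1 h2
    exact orderOf_eq_one_iff.mp this
  have hQcent : Y.map π ≤ centralizer (R : Set (H ⧸ K)) := by
    refine Cfsg.Agent.S0028.result p (P.map π) (Y.map π) R hPbar hYbar hRp ?_ ?_ ?_ ?_
    · -- P̄ centralizes Ȳ
      rintro _ ⟨x, hx, rfl⟩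
      rw [Subgroup.mem_centralizer_iff]
      rintro _ ⟨y, hy, rfl⟩
      have := (Subgroup.mem_centralizer_iff.mp (hYP hy)) x hx
      -- x * y = y * x
      show π y * π x = π x * π y
      rw [← map_mul, ← map_mul, this]
    · rw [Subgroup.normalizer_eq_top_iff.mpr hRn]; exact le_top
    · rw [Subgroup.normalizer_eq_top_iff.mpr hRn]; exact le_top
    · -- fixed points of P̄ on R̄ are centralized by Ȳ
      rintro rbar ⟨hrR, hrP⟩
      obtain ⟨r, rfl⟩ := QuotientGroup.mk'_surjective K rbar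
      -- Glauberman: find c ∈ rK centralizing P
      have hsolvP : Group.IsSolvable P ∨ Group.IsSolvable K := Or.inl inferInstance
      have hPK : P ≤ normalizer (K : Set H) := by
        rw [Subgroup.normalizer_eq_top_iff.mpr hKn]; exact le_top
      have hcopPK : (Nat.card P).Coprime (Nat.card K) := by
        obtain ⟨k, hk⟩ := (IsPGroup.iff_card.mp hP)
        rw [hk]
        exact Nat.Coprime.pow_left k hKcop.symm
      have hfix : ∀ a ∈ P, r⁻¹ * a * r * a⁻¹ ∈ K := by
        intro a ha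
        rw [← QuotientGroup.eq_one_iff]
        have hc : π a * π r = π r * π a :=
          (Subgroup.mem_centralizer_iff.mp hrP) (π a) ⟨a, ha, rfl⟩
        show π (r⁻¹ * a * r * a⁻¹) = 1
        rw [map_mul, map_mul, map_mul, map_inv, map_inv, mul_assoc (π r)⁻¹, hc]
        group
      obtain ⟨n, hn, hc⟩ := Cfsg.Agent.Lib.Helper1.exists_mul_mem_centralizer hPK hcopPK hsolvP r hfix
      have hπc : π (r * n) = π r := by
        have hn1 : π n = 1 := (QuotientGroup.eq_one_iff n).mpr hn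
        rw [map_mul, hn1, mul_one]
      have hcn := hYn hc
      rw [Subgroup.mem_centralizer_iff]
      rintro _ ⟨y, hy, rfl⟩
      -- commutator lies in Ȳ ⊓ R̄
      have h1 : (r * n) * y * (r * n)⁻¹ ∈ Y := (Subgroup.mem_normalizer_iff.mp hcn y).mp hy
      have h2 : π r * π y * (π r)⁻¹ * (π y)⁻¹ ∈ Y.map π := by
        have : π r * π y * (π r)⁻¹ * (π y)⁻¹ = π ((r * n) * y * (r * n)⁻¹ * y⁻¹) := by
          rw [map_mul, map_mul, map_mul, map_inv, map_inv, hπc]
        rw [this]
        exact ⟨_, Y.mul_mem h1 (Y.inv_mem hy), rfl⟩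
      have h3 : π r * π y * (π r)⁻¹ * (π y)⁻¹ ∈ R := by
        have : π r * π y * (π r)⁻¹ * (π y)⁻¹ = π r * (π y * (π r)⁻¹ * (π y)⁻¹) := by group
        rw [this]
        exact R.mul_mem hrR (hRn.conj_mem _ (R.inv_mem hrR) _)
      have h4 := hdisj _ h2 h3
      -- π y * π r = π r * π y
      have : π r * π y = (π r * π y * (π r)⁻¹ * (π y)⁻¹) * (π y * π r) := by group
      rw [this, h4, one_mul]
  -- conclusion
  intro y hy
  have h1 : π y ∈ Y.map π := ⟨y, hy, rfl⟩
  have h2 : π y ∈ R := hcent (hQcent h1)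
  have := hdisj _ h1 h2
  exact (QuotientGroup.eq_one_iff y).mp this

end Cfsg.Agent.Lib.Helper8
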