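import Mathlib

set_option autoImplicit false

namespace Cfsg.Agent.Lib.Helper8

variable {G : Type*} [Group G]

theorem mem_map_conj {A : Subgroup G} {g x : G} :
    x ∈ A.map (MulAut.conj g).toMonoidHom ↔ g⁻¹ * x * g ∈ A := by
  rw [Subgroup.mem_map]
  constructor
  · rintro ⟨a, ha, rfl⟩
    have : g⁻¹ * ((MulAut.conj g).toMonoidHom a) * g = a := by
      simp [MulAut.conj_apply, mul_assoc]
    rw [this]; exact ha
  · intro h
    refine ⟨_, h, ?_⟩
    simp [MulAut.conj_apply, mul_assoc]

theorem conj_mem_map_conj {A : Subgroup G} {g a : G} (ha : a ∈ A) :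
    g * a * g⁻¹ ∈ A.map (MulAut.conj g).toMonoidHom := by
  rw [mem_map_conj]
  have : g⁻¹ * (g * a * g⁻¹) * g = a := by group
  rw [this]; exact ha

theorem map_conj_map_conj (A : Subgroup G) (g h : G) :
    (A.map (MulAut.conj g).toMonoidHom).map (MulAut.conj h).toMonoidHom =
      A.map (MulAut.conj (h * g)).toMonoidHom := by
  ext x
  simp only [mem_map_conj]
  have : g⁻¹ * (h⁻¹ * x * h) * g = (h * g)⁻¹ * x * (h * g) := by group
  rw [this]

theorem map_conj_one (A : Subgroup G) : A.map (MulAut.conj (1 : G)).toMonoidHom = A := by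
  ext x
  simp

theorem map_conj_le_iff {A B : Subgroup G} {g : G} :
    A.map (MulAut.conj g).toMonoidHom ≤ B ↔ A ≤ B.map (MulAut.conj g⁻¹).toMonoidHom := by
  constructor
  · intro h a ha
    rw [mem_map_conj, inv_inv]
    exact h (conj_mem_map_conj ha)
  · intro h x hx
    rw [mem_map_conj] at hx
    have := h hx
    rw [mem_map_conj, inv_inv] at this
    have e : g * (g⁻¹ * x * g) * g⁻¹ = x := by group
    rwa [e] at this

theorem map_conj_eq_iff {A B : Subgroup G} {g : G} :
    A.map (MulAut.conj g).toMonoidHom = B ↔ A = B.map (MulAut.conj g⁻¹).toMonoidHom := by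
  constructor
  · intro h
    rw [← h, map_conj_map_conj, inv_mul_cancel, map_conj_one]
  · intro h
    rw [h, map_conj_map_conj, mul_inv_cancel, map_conj_one]

/-- A Sylow subgroup moved by the conjugation action, as a `map`. -/
theorem sylow_smul_coe {p : ℕ} (g : G) (P : Sylow p G) :
    ((g • P : Sylow p G) : Subgroup G) = (P : Subgroup G).map (MulAut.conj g).toMonoidHom := by
  ext x
  rw [Sylow.coe_subgroup_smul, Subgroup.mem_pointwise_smul_iff_inv_smul_mem, mem_map_conj]
  simp [MulAut.smul_def]

theorem card_map_conj (A : Subgroup G) (g : G) :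
    Nat.card (A.map (MulAut.conj g).toMonoidHom) = Nat.card A :=
  (Nat.card_congr (A.equivMapOfInjective _ (MulAut.conj g).injective).toEquiv).symm

/-- In a finite group, a subgroup mapped into itself by a conjugation is mapped onto itself. -/
theorem map_conj_eq_of_le [Finite G] {A : Subgroup G} {g : G}
    (h : A.map (MulAut.conj g).toMonoidHom ≤ A) : A.map (MulAut.conj g).toMonoidHom = A := by
  apply Subgroup.eq_of_le_of_card_ge h
  rw [card_map_conj]

theorem mem_normalizer_iff_map_conj {A : Subgroup G} {g : G} :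
    g ∈ Subgroup.normalizer (A : Set G) ↔ A.map (MulAut.conj g).toMonoidHom = A := by
  rw [Subgroup.mem_normalizer_iff'']
  constructor
  · intro h
    ext x
    rw [mem_map_conj]
    exact (h x).symm
  · intro h x
    rw [← mem_map_conj, h]

end Cfsg.Agent.Lib.Helper8
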