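import Mathlib
import Cfsg.Agent.Lib.Helper4.Basic
import Cfsg.Agent.Lib.Helper1.Coprime

/-!
# Joins `X ⊔ Y` with `Y ≤ N(X)`; coprime centralizer factorization (helper8 library)
-/

set_option autoImplicit false

namespace Cfsg.Agent.Lib.Helper8

variable {G : Type*} [Group G]

/-- If `Y` normalizes `X` then every element of `X ⊔ Y` is a product `x * y`. -/
theorem mem_sup_of_le_normalizer {X Y : Subgroup G} (hn : Y ≤ Subgroup.normalizer (X : Set G))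
    {g : G} (hg : g ∈ X ⊔ Y) : ∃ x ∈ X, ∃ y ∈ Y, g = x * y := by
  rw [Subgroup.sup_eq_closure] at hg
  induction hg using Subgroup.closure_induction with
  | mem g hg =>
    rcases hg with hg | hg
    · exact ⟨g, hg, 1, Y.one_mem, by simp⟩
    · exact ⟨1, X.one_mem, g, hg, by simp⟩
  | one => exact ⟨1, X.one_mem, 1, Y.one_mem, by simp⟩
  | mul a b _ _ iha ihb =>
    obtain ⟨x1, hx1, y1, hy1, rfl⟩ := iha
    obtain ⟨x2, hx2, y2, hy2, rfl⟩ := ihb
    refine ⟨x1 * (y1 * x2 * y1⁻¹), X.mul_mem hx1 ?_, y1 * y2, Y.mul_mem hy1 hy2, by group⟩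
    exact (Subgroup.mem_normalizer_iff.mp (hn hy1) x2).mp hx2
  | inv a _ iha =>
    obtain ⟨x1, hx1, y1, hy1, rfl⟩ := iha
    refine ⟨y1⁻¹ * x1⁻¹ * y1⁻¹⁻¹, ?_, y1⁻¹, Y.inv_mem hy1, by group⟩
    exact (Subgroup.mem_normalizer_iff.mp (hn (Y.inv_mem hy1)) x1⁻¹).mp (X.inv_mem hx1)

/-- The join of two solvable subgroups, one normalizing the other, is solvable. -/
theorem isSolvable_sup_of_le_normalizer {X Y : Subgroup G} (hX : Group.IsSolvable X)
    (hY : Group.IsSolvable Y)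
    (hn : Y ≤ Subgroup.normalizer (X : Set G)) : Group.IsSolvable ↥(X ⊔ Y) := by
  rw [sup_comm]
  have i1 : (X.subgroupOf Y).Normal := Subgroup.normal_subgroupOf_of_le_normalizer hn
  have i2 : (X.subgroupOf (Y ⊔ X)).Normal := Subgroup.normal_subgroupOf_sup_of_le_normalizer hn
  have e := QuotientGroup.quotientInfEquivProdNormalizerQuotient Y X hn
  have hq : Group.IsSolvable (↥Y ⧸ X.subgroupOf Y) :=
    Group.isSolvable_of_surjective (f := QuotientGroup.mk' (X.subgroupOf Y))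
      (QuotientGroup.mk'_surjective _)
  have hq' : Group.IsSolvable (↥(Y ⊔ X) ⧸ X.subgroupOf (Y ⊔ X)) :=
    Group.isSolvable_of_surjective (f := e.toMonoidHom) e.surjective
  have hX' : Group.IsSolvable (X.subgroupOf (Y ⊔ X)) :=
    Group.isSolvable_of_isSolvable_injective (f := (Subgroup.subgroupOfEquivOfLe
      (le_sup_right : X ≤ Y ⊔ X)).toMonoidHom) (Subgroup.subgroupOfEquivOfLe _).injective
  refine Group.isSolvable_of_ker_le_range (X.subgroupOf (Y ⊔ X)).subtype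
    (QuotientGroup.mk' (X.subgroupOf (Y ⊔ X))) ?_
  rw [QuotientGroup.ker_mk', Subgroup.range_subtype]

/-- `p ∤ |X ⊔ Y|` if `p ∤ |X|`, `p ∤ |Y|` and `Y` normalizes `X`. -/
theorem not_dvd_card_sup_of_le_normalizer {p : ℕ} (hp : p.Prime) {X Y : Subgroup G}
    (hX : ¬ p ∣ Nat.card X) (hY : ¬ p ∣ Nat.card Y)
    (hn : Y ≤ Subgroup.normalizer (X : Set G)) : ¬ p ∣ Nat.card ↥(X ⊔ Y) := by
  intro h
  have h1 := Cfsg.Agent.Lib.Helper4.card_sup_mul_card_inf Y X hn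
  rw [sup_comm] at h1
  have h2 : p ∣ Nat.card Y * Nat.card X := by
    rw [← h1]; exact Dvd.dvd.mul_right h _
  rcases (Nat.Prime.dvd_mul hp).mp h2 with h3 | h3
  · exact hY h3
  · exact hX h3

/-- Coprime factorization: if a `p`-element `a` normalizes `X` and `Y`, `Y` normalizes `X`, and
`p ∤ |X|`, then `C_{XY}(a) = C_X(a) C_Y(a)`. -/
theorem centralizer_sup_factor [Finite G] {p : ℕ} [Fact p.Prime] {a : G} (ha : orderOf a = p)
    {X Y : Subgroup G} (hXa : ∀ x ∈ X, a * x * a⁻¹ ∈ X) (hYa : ∀ y ∈ Y, a * y * a⁻¹ ∈ Y)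
    (hn : Y ≤ Subgroup.normalizer (X : Set G)) (hX : ¬ p ∣ Nat.card X)
    {g : G} (hg : g ∈ X ⊔ Y) (hga : g * a = a * g) :
    ∃ x ∈ X, ∃ y ∈ Y, x * a = a * x ∧ y * a = a * y ∧ g = x * y := by
  have hp : p.Prime := Fact.out
  obtain ⟨x, hx, y, hy, rfl⟩ := mem_sup_of_le_normalizer hn hg
  have haX : a ∈ Subgroup.normalizer (X : Set G) :=
    Cfsg.Agent.Lib.Helper1.mem_normalizer_of_forall_conj_mem X a hXa
  have haY : a ∈ Subgroup.normalizer (Y : Set G) :=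
    Cfsg.Agent.Lib.Helper1.mem_normalizer_of_forall_conj_mem Y a hYa
  have hAX : Subgroup.zpowers a ≤ Subgroup.normalizer (X : Set G) := by
    rw [Subgroup.zpowers_le]; exact haX
  have hAY : Subgroup.zpowers a ≤ Subgroup.normalizer (Y : Set G) := by
    rw [Subgroup.zpowers_le]; exact haY
  have hnormA : Subgroup.zpowers a ≤ Subgroup.normalizer ((X ⊓ Y : Subgroup G) : Set G) := by
    intro a' ha'
    rw [Subgroup.mem_normalizer_iff]
    intro h
    have h1 := Subgroup.mem_normalizer_iff.mp (hAX ha') h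
    have h2 := Subgroup.mem_normalizer_iff.mp (hAY ha') h
    constructor
    · intro hh
      exact Subgroup.mem_inf.mpr ⟨h1.mp (Subgroup.mem_inf.mp hh).1, h2.mp (Subgroup.mem_inf.mp hh).2⟩
    · intro hh
      have hh' : a' * h * a'⁻¹ ∈ X ⊓ Y := hh
      exact Subgroup.mem_inf.mpr ⟨h1.mpr (Subgroup.mem_inf.mp hh').1,
        h2.mpr (Subgroup.mem_inf.mp hh').2⟩
  have hcop : Nat.Coprime (Nat.card (Subgroup.zpowers a)) (Nat.card (X ⊓ Y : Subgroup G)) := by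
    rw [Nat.card_zpowers, ha, Nat.Prime.coprime_iff_not_dvd hp]
    intro h
    exact hX (h.trans (Subgroup.card_dvd_of_le inf_le_left))
  have hsolv : Group.IsSolvable (Subgroup.zpowers a) :=
    Group.isSolvable_of_comm (fun u v => by
      obtain ⟨i, hi⟩ := Subgroup.mem_zpowers_iff.mp u.2
      obtain ⟨j, hj⟩ := Subgroup.mem_zpowers_iff.mp v.2
      apply Subtype.ext
      show u.1 * v.1 = v.1 * u.1
      rw [← hi, ← hj, ← zpow_add, ← zpow_add, add_comm])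
  have hcomm : ∀ a' ∈ Subgroup.zpowers a, (x * y) * a' = a' * (x * y) := by
    intro a' ha'
    obtain ⟨k, rfl⟩ := Subgroup.mem_zpowers_iff.mp ha'
    exact ((Commute.zpow_right (show Commute (x * y) a from hga) k)).eq
  have hcoset : ∀ a' ∈ Subgroup.zpowers a, y⁻¹ * a' * y * a'⁻¹ ∈ X ⊓ Y := by
    intro a' ha'
    refine Subgroup.mem_inf.mpr ⟨?_, ?_⟩
    · have h1 : a' * x * a'⁻¹ ∈ X := (Subgroup.mem_normalizer_iff.mp (hAX ha') x).mp hx
      have h2 : (a' * x * a'⁻¹)⁻¹ * x ∈ X := X.mul_mem (X.inv_mem h1) hx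
      have h3 : y⁻¹ * ((a' * x * a'⁻¹)⁻¹ * x) * y⁻¹⁻¹ ∈ X :=
        (Subgroup.mem_normalizer_iff.mp (hn (Y.inv_mem hy)) _).mp h2
      have e1 : y⁻¹ * a' * y * a'⁻¹ = y⁻¹ * ((a' * x * a'⁻¹)⁻¹ * x) * y⁻¹⁻¹ := by
        have e2 : a' * y * a'⁻¹ = (a' * x * a'⁻¹)⁻¹ * (a' * (x * y) * a'⁻¹) := by group
        have e3 : a' * (x * y) * a'⁻¹ = x * y := by rw [← hcomm a' ha']; group
        calc y⁻¹ * a' * y * a'⁻¹ = y⁻¹ * (a' * y * a'⁻¹) := by group
          _ = y⁻¹ * ((a' * x * a'⁻¹)⁻¹ * (x * y)) := by rw [e2, e3]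
          _ = y⁻¹ * ((a' * x * a'⁻¹)⁻¹ * x) * y⁻¹⁻¹ := by group
      rw [e1]; exact h3
    · have h1 : a' * y * a'⁻¹ ∈ Y := (Subgroup.mem_normalizer_iff.mp (hAY ha') y).mp hy
      have e1 : y⁻¹ * a' * y * a'⁻¹ = y⁻¹ * (a' * y * a'⁻¹) := by group
      rw [e1]; exact Y.mul_mem (Y.inv_mem hy) h1
  obtain ⟨n, hnN, hyn⟩ := Cfsg.Agent.Lib.Helper1.exists_mul_mem_centralizer hnormA hcop
    (Or.inl hsolv) y hcoset
  have hnX : n ∈ X := (Subgroup.mem_inf.mp hnN).1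
  have hnY : n ∈ Y := (Subgroup.mem_inf.mp hnN).2
  have hy'Y : y * n ∈ Y := Y.mul_mem hy hnY
  have hy'a : (y * n) * a = a * (y * n) := by
    have := Subgroup.mem_centralizer_iff.mp hyn a (Subgroup.mem_zpowers a)
    exact this.symm
  have hx'X : x * ((y * n) * n⁻¹ * (y * n)⁻¹) ∈ X :=
    X.mul_mem hx ((Subgroup.mem_normalizer_iff.mp (hn hy'Y) _).mp (X.inv_mem hnX))
  refine ⟨x * ((y * n) * n⁻¹ * (y * n)⁻¹), hx'X, y * n, hy'Y, ?_, hy'a, by group⟩
  have e1 : x * ((y * n) * n⁻¹ * (y * n)⁻¹) = (x * y) * (y * n)⁻¹ := by group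
  rw [e1]
  have hy'a' : (y * n)⁻¹ * a = a * (y * n)⁻¹ := by
    calc (y * n)⁻¹ * a = (y * n)⁻¹ * (a * (y * n)) * (y * n)⁻¹ := by group
      _ = (y * n)⁻¹ * ((y * n) * a) * (y * n)⁻¹ := by rw [hy'a]
      _ = a * (y * n)⁻¹ := by group
  calc (x * y) * (y * n)⁻¹ * a = (x * y) * ((y * n)⁻¹ * a) := by group
    _ = (x * y) * (a * (y * n)⁻¹) := by rw [hy'a']
    _ = ((x * y) * a) * (y * n)⁻¹ := by group
    _ = (a * (x * y)) * (y * n)⁻¹ := by rw [hga]
    _ = a * ((x * y) * (y * n)⁻¹) := by group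

end Cfsg.Agent.Lib.Helper8
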