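import Mathlib
import Cfsg.Prelude.Def_Transfer
import Cfsg.Agent.Lib.Helper4.Basic
import Cfsg.Agent.Lib.Helper1.Coprime
import Cfsg.Agent.S0058
import Cfsg.Agent.Lib.Helper8.SupNormalizer

/-!
# Hyperplane fixed points for elementary abelian coprime actions

If an elementary abelian `p`-group `A` acts coprimely on `K` and `K ⊄ D`, then some subgroup `B`
of `A` of index at most `p` has `C_K(B) ⊄ D`.
-/

set_option autoImplicit false

namespace Cfsg.Agent.Lib.Helper8

open Subgroup

theorem elemAb_comm {G : Type*} [Group G] {p : ℕ} {A : Subgroup G}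
    (hA : Cfsg.IsElementaryAbelian p A) {a b : G} (ha : a ∈ A) (hb : b ∈ A) : a * b = b * a := by
  have := hA.1.is_comm.comm (⟨a, ha⟩ : A) ⟨b, hb⟩
  exact congrArg Subtype.val this

/-- If `g ^ p = 1` with `p` prime and `1 ≠ h ∈ ⟨g⟩` then `g ∈ ⟨h⟩`. -/
theorem mem_zpowers_of_mem_zpowers_of_pow_prime {G : Type*} [Group G] {p : ℕ} (hp : p.Prime)
    {g h : G} (hg : g ^ p = 1) (hh : h ∈ zpowers g) (h1 : h ≠ 1) : g ∈ zpowers h := by
  obtain ⟨n, rfl⟩ := Subgroup.mem_zpowers_iff.mp hh
  have hnd : ¬ (p : ℤ) ∣ n := by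
    rintro ⟨m, rfl⟩
    apply h1
    rw [zpow_mul, zpow_natCast, hg, one_zpow]
  have hcop : IsCoprime (p : ℤ) n :=
    (Nat.prime_iff_prime_int.mp hp).irreducible.coprime_iff_not_dvd.mpr hnd
  obtain ⟨u, v, huv⟩ := hcop
  rw [Subgroup.mem_zpowers_iff]
  refine ⟨v, ?_⟩
  have : g = g ^ (u * (p : ℤ) + v * n) := by rw [huv, zpow_one]
  rw [zpow_add, mul_comm u, zpow_mul, zpow_natCast, hg, one_zpow, one_mul, mul_comm v,
    zpow_mul] at this
  exact this.symm

theorem card_sup_zpowers_le {G : Type*} [Group G] [Finite G] {p : ℕ} (hp : p.Prime)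
    {A : Subgroup G} (hA : Cfsg.IsElementaryAbelian p A) (C : Subgroup G) (e : G) (hC : C ≤ A)
    (he : e ∈ A) : Nat.card ↥(C ⊔ zpowers e) ≤ p * Nat.card C := by
  have hn : C ≤ normalizer (zpowers e : Set G) := by
    intro c hc
    apply Cfsg.Agent.Lib.Helper1.mem_normalizer_of_forall_conj_mem
    intro x hx
    have hxA : x ∈ A := (zpowers_le.mpr he) hx
    have : c * x * c⁻¹ = x := by
      rw [elemAb_comm hA (hC hc) hxA]; group
    rw [this]; exact hx
  have h1 := Cfsg.Agent.Lib.Helper4.card_sup_mul_card_inf C (zpowers e) hn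
  have h2 : 0 < Nat.card ↥(C ⊓ zpowers e) := Nat.card_pos
  have h3 : Nat.card (zpowers e) ≤ p := by
    rw [Nat.card_zpowers]
    exact Nat.le_of_dvd hp.pos (orderOf_dvd_of_pow_eq_one (hA.2 e he))
  calc Nat.card ↥(C ⊔ zpowers e) ≤ Nat.card ↥(C ⊔ zpowers e) * Nat.card ↥(C ⊓ zpowers e) :=
        Nat.le_mul_of_pos_right _ h2
    _ = Nat.card C * Nat.card (zpowers e) := h1
    _ ≤ Nat.card C * p := Nat.mul_le_mul_left _ h3
    _ = p * Nat.card C := mul_comm _ _

/-- **Hyperplane lemma**: if an elementary abelian `p`-group `A` normalizes `K` with coprime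
orders and `K ⊄ D`, there is `B ≤ A` with `|A| ≤ p |B|` and `C_K(B) ⊄ D`. -/
theorem exists_hyperplane_centralizer_not_le {G : Type*} [Group G] [Finite G] (p : ℕ)
    [Fact p.Prime] (A K D : Subgroup G) (hA : Cfsg.IsElementaryAbelian p A)
    (hAK : A ≤ normalizer (K : Set G)) (hcop : (Nat.card A).Coprime (Nat.card K))
    (hKD : ¬ K ≤ D) :
    ∃ B : Subgroup G, B ≤ A ∧ Nat.card A ≤ p * Nat.card B ∧
      ¬ (K ⊓ centralizer (B : Set G) ≤ D) := by
  classical
  have hp : p.Prime := Fact.out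
  let S : Set (Subgroup G) := {B | B ≤ A ∧ ¬ (K ⊓ centralizer (B : Set G) ≤ D)}
  have hSne : S.Nonempty := by
    refine ⟨⊥, bot_le, fun h => hKD fun k hk => h ⟨hk, ?_⟩⟩
    show k ∈ centralizer ((⊥ : Subgroup G) : Set G)
    rw [Subgroup.mem_centralizer_iff]
    intro x hx
    have : x = 1 := by simpa using hx
    rw [this, one_mul, mul_one]
  obtain ⟨B, hBS, hBmax⟩ := Set.exists_max_image S (fun B => Nat.card B) (Set.toFinite S) hSne
  refine ⟨B, hBS.1, ?_, hBS.2⟩
  by_contra hlt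
  push Not at hlt
  obtain ⟨e₁, he₁A, he₁B⟩ : ∃ e ∈ A, e ∉ B := by
    by_contra h
    push Not at h
    have h1 : Nat.card A ≤ Nat.card B := Subgroup.card_le_of_le h
    have h2 : Nat.card B ≤ p * Nat.card B := Nat.le_mul_of_pos_left _ hp.pos
    omega
  set B₁ := B ⊔ zpowers e₁ with hB₁
  have hB₁card : Nat.card B₁ ≤ p * Nat.card B := card_sup_zpowers_le hp hA B e₁ hBS.1 he₁A
  obtain ⟨e₂, he₂A, he₂B⟩ : ∃ e ∈ A, e ∉ B₁ := by
    by_contra h
    push Not at h
    have h1 : Nat.card A ≤ Nat.card B₁ := Subgroup.card_le_of_le h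
    omega
  set E := zpowers e₁ ⊔ zpowers e₂ with hE
  have hEA : E ≤ A := sup_le (zpowers_le.mpr he₁A) (zpowers_le.mpr he₂A)
  have hEcomm : IsMulCommutative E :=
    ⟨⟨fun a b => Subtype.ext (elemAb_comm hA (hEA a.2) (hEA b.2))⟩⟩
  have he₁1 : e₁ ≠ 1 := fun h => he₁B (h ▸ B.one_mem)
  have hEnc : ¬ IsCyclic E := by
    intro hc
    obtain ⟨g, hg⟩ := hc.exists_generator
    have hgp : g ^ p = 1 := Subtype.ext (by simpa using hA.2 g.1 (hEA g.2))
    have hcardE : Nat.card E ≤ p := by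
      rw [← orderOf_eq_card_of_forall_mem_zpowers hg]
      exact Nat.le_of_dvd hp.pos (orderOf_dvd_of_pow_eq_one hgp)
    have hcard1 : Nat.card (zpowers e₁) = p := by
      rw [Nat.card_zpowers]
      exact orderOf_eq_prime (hA.2 e₁ he₁A) he₁1
    have hEq : zpowers e₁ = E :=
      Subgroup.eq_of_le_of_card_ge le_sup_left (by rw [hcard1]; exact hcardE)
    apply he₂B
    have : e₂ ∈ zpowers e₁ := by
      rw [hEq]; exact (le_sup_right : zpowers e₂ ≤ E) (mem_zpowers e₂)
    exact (le_sup_right : zpowers e₁ ≤ B₁) this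
  set Y := K ⊓ centralizer (B : Set G) with hY
  have hEY : E ≤ normalizer (Y : Set G) := by
    intro a ha
    have haA := hEA ha
    apply Cfsg.Agent.Lib.Helper1.mem_normalizer_of_forall_conj_mem
    intro y hy
    have hyK : y ∈ K := hy.1
    have hyB : y ∈ centralizer (B : Set G) := hy.2
    refine ⟨(Subgroup.mem_normalizer_iff.mp (hAK haA) y).mp hyK, ?_⟩
    show a * y * a⁻¹ ∈ centralizer (B : Set G)
    rw [Subgroup.mem_centralizer_iff] at hyB ⊢
    intro b hb
    have h1 : b * a = a * b := elemAb_comm hA (hBS.1 hb) haA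
    have h2 := hyB b hb
    calc b * (a * y * a⁻¹) = (b * a) * y * a⁻¹ := by group
      _ = a * (b * y) * a⁻¹ := by rw [h1]; group
      _ = a * y * (b * a⁻¹) := by rw [h2]; group
      _ = a * y * (a⁻¹ * (a * b) * a⁻¹) := by group
      _ = a * y * (a⁻¹ * (b * a) * a⁻¹) := by rw [h1]
      _ = a * y * a⁻¹ * b := by group
  have hcopEY : (Nat.card E).Coprime (Nat.card Y) :=
    Nat.Coprime.coprime_dvd_left (Subgroup.card_dvd_of_le hEA)
      (Nat.Coprime.coprime_dvd_right (Subgroup.card_dvd_of_le inf_le_left) hcop)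
  have hgen := Cfsg.Agent.S0058.result E Y hEnc hEY hcopEY
  obtain ⟨e, heE, he1, hne⟩ : ∃ e ∈ E, e ≠ 1 ∧ ¬ (Y ⊓ centralizer {e} ≤ D) := by
    by_contra h
    push Not at h
    apply hBS.2
    show Y ≤ D
    rw [← hgen]
    exact iSup₂_le fun a ha => h a ha.1 ha.2
  have hB'S : B ⊔ zpowers e ∈ S := by
    refine ⟨sup_le hBS.1 (zpowers_le.mpr (hEA heE)), fun h => hne (le_trans ?_ h)⟩
    intro g hg
    have hgK : g ∈ K := hg.1.1
    have hgB : g ∈ centralizer (B : Set G) := hg.1.2
    have hge : g ∈ centralizer ({e} : Set G) := hg.2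
    refine ⟨hgK, ?_⟩
    show g ∈ centralizer ((B ⊔ zpowers e : Subgroup G) : Set G)
    rw [Subgroup.mem_centralizer_iff]
    intro x hx
    have hle : B ⊔ zpowers e ≤ centralizer ({g} : Set G) := by
      refine sup_le ?_ (zpowers_le.mpr ?_)
      · intro b hb
        rw [Subgroup.mem_centralizer_singleton_iff]
        exact (Subgroup.mem_centralizer_iff.mp hgB) b hb
      · rw [Subgroup.mem_centralizer_singleton_iff]
        exact (Subgroup.mem_centralizer_singleton_iff.mp hge).symm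
    exact Subgroup.mem_centralizer_singleton_iff.mp (hle hx)
  have heB : e ∉ B := by
    intro heB
    have hn : zpowers e₂ ≤ normalizer (zpowers e₁ : Set G) := by
      intro c hc
      apply Cfsg.Agent.Lib.Helper1.mem_normalizer_of_forall_conj_mem
      intro x hx
      have hxA : x ∈ A := (zpowers_le.mpr he₁A) hx
      have hcA : c ∈ A := (zpowers_le.mpr he₂A) hc
      have : c * x * c⁻¹ = x := by
        rw [elemAb_comm hA hcA hxA]; group
      rw [this]; exact hx
    obtain ⟨x, hx, y, hy, hxy⟩ := Cfsg.Agent.Lib.Helper8.mem_sup_of_le_normalizer hn heE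
    have hy1 : y = 1 := by
      by_contra hy1
      apply he₂B
      have h1 : e₂ ∈ zpowers y :=
        mem_zpowers_of_mem_zpowers_of_pow_prime hp (hA.2 e₂ he₂A) hy hy1
      have h2 : y ∈ B₁ := by
        have : y = x⁻¹ * e := by rw [hxy]; group
        rw [this]
        exact B₁.mul_mem (B₁.inv_mem ((le_sup_right : zpowers e₁ ≤ B₁) hx))
          ((le_sup_left : B ≤ B₁) heB)
      exact (zpowers_le.mpr h2) h1
    rw [hy1, mul_one] at hxy
    have hx1 : x = 1 := by
      by_contra hx1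
      apply he₁B
      have h1 : e₁ ∈ zpowers x :=
        mem_zpowers_of_mem_zpowers_of_pow_prime hp (hA.2 e₁ he₁A) hx hx1
      have h2 : x ∈ B := hxy ▸ heB
      exact (zpowers_le.mpr h2) h1
    exact he1 (hxy.trans hx1)
  have hlt' : Nat.card B < Nat.card ↥(B ⊔ zpowers e) := by
    apply lt_of_le_of_ne (Subgroup.card_le_of_le le_sup_left)
    intro heq
    have : B = B ⊔ zpowers e := Subgroup.eq_of_le_of_card_ge le_sup_left heq.ge
    apply heB
    rw [this]
    exact (le_sup_right : zpowers e ≤ B ⊔ zpowers e) (mem_zpowers e)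
  have := hBmax _ hB'S
  omega

/-- Variant with a subgroup of index exactly `p`. -/
theorem exists_index_p_centralizer_not_le {G : Type*} [Group G] [Finite G] (p : ℕ)
    [Fact p.Prime] (A K D : Subgroup G) (hA : Cfsg.IsElementaryAbelian p A) (hA1 : A ≠ ⊥)
    (hAK : A ≤ normalizer (K : Set G)) (hcop : (Nat.card A).Coprime (Nat.card K))
    (hKD : ¬ K ≤ D) :
    ∃ B : Subgroup G, B ≤ A ∧ B.relIndex A = p ∧ ¬ (K ⊓ centralizer (B : Set G) ≤ D) := by
  classical
  have hp : p.Prime := Fact.out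
  obtain ⟨B₀, hB₀A, hB₀c, hB₀n⟩ := exists_hyperplane_centralizer_not_le p A K D hA hAK hcop hKD
  have hAp : IsPGroup p A := by
    rintro ⟨g, hg⟩
    exact ⟨1, Subtype.ext (by simpa using hA.2 g hg)⟩
  obtain ⟨k, hk⟩ := IsPGroup.iff_card.mp hAp
  have hrel : B₀.relIndex A * Nat.card B₀ = Nat.card A := by
    rw [mul_comm]; exact Cfsg.Agent.Lib.Helper4.card_mul_relIndex hB₀A
  by_cases hlt : Nat.card B₀ < Nat.card A
  · refine ⟨B₀, hB₀A, ?_, hB₀n⟩
    have hdvd : B₀.relIndex A ∣ p ^ k := by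
      rw [← hk, ← hrel]; exact dvd_mul_right _ _
    obtain ⟨i, -, hi⟩ := (Nat.dvd_prime_pow hp).mp hdvd
    have hBpos : 0 < Nat.card B₀ := Nat.card_pos
    rw [hi] at hrel ⊢
    have h1 : p ^ i * Nat.card B₀ ≤ p * Nat.card B₀ := by rw [hrel]; exact hB₀c
    have h2 : p ^ i ≤ p := Nat.le_of_mul_le_mul_right h1 hBpos
    have h3 : i ≠ 0 := by
      intro h0
      rw [h0, pow_zero, one_mul] at hrel
      omega
    have h4 : i ≤ 1 := by
      by_contra h4
      push Not at h4
      have : p ^ 2 ≤ p ^ i := Nat.pow_le_pow_right hp.pos h4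
      have : p < p ^ 2 := by
        have := hp.one_lt
        nlinarith
      omega
    have : i = 1 := by omega
    rw [this, pow_one]
  · push Not at hlt
    have hB₀eq : B₀ = A := Subgroup.eq_of_le_of_card_ge hB₀A hlt
    have hk1 : k ≠ 0 := by
      intro h0
      apply hA1
      rw [h0, pow_zero] at hk
      exact Subgroup.card_eq_one.mp hk
    obtain ⟨B'', hB''⟩ := Sylow.exists_subgroup_card_pow_prime (G := ↥A) p
      (n := k - 1) (by rw [hk]; exact pow_dvd_pow p (Nat.sub_le k 1))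
    refine ⟨B''.map A.subtype, Subgroup.map_subtype_le _, ?_, ?_⟩
    · have hc : Nat.card ↥(B''.map A.subtype) = p ^ (k - 1) := by
        rw [Subgroup.card_subtype]; exact hB''
      have hrel' : (B''.map A.subtype).relIndex A * Nat.card ↥(B''.map A.subtype) = Nat.card A := by
        rw [mul_comm]; exact Cfsg.Agent.Lib.Helper4.card_mul_relIndex (Subgroup.map_subtype_le B'')
      rw [hc, hk] at hrel'
      have hpk : p ^ k = p * p ^ (k - 1) := by
        rw [← pow_succ']; congr 1; omega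
      rw [hpk] at hrel'
      exact Nat.eq_of_mul_eq_mul_right (pow_pos hp.pos _) hrel'
    · intro h
      apply hB₀n
      rw [hB₀eq]
      refine le_trans (inf_le_inf_left _ ?_) h
      exact Subgroup.centralizer_le (Subgroup.map_subtype_le B'')

end Cfsg.Agent.Lib.Helper8
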