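import Mathlib
import Cfsg.Prelude.Def_Balance
import Cfsg.Agent.Lib.Helper8.Conj
import Cfsg.Agent.Lib.Helper8.Hyperplane
import Cfsg.Agent.Lib.Helper1.Coprime

/-!
# The family of a signalizer functor: basic closure properties
-/

set_option autoImplicit false

namespace Cfsg.Agent.Lib.Helper8

open Subgroup

variable {G : Type*} [Group G]

/-- `A`-invariance as normalizer containment (finite case). -/
theorem le_normalizer_of_conj_mem [Finite G] {A U : Subgroup G}
    (h : ∀ b ∈ A, ∀ u ∈ U, b * u * b⁻¹ ∈ U) : A ≤ normalizer (U : Set G) := fun b hb =>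
  Cfsg.Agent.Lib.Helper1.mem_normalizer_of_forall_conj_mem U b (h b hb)

theorem conj_mem_of_le_normalizer {A U : Subgroup G} (h : A ≤ normalizer (U : Set G)) :
    ∀ b ∈ A, ∀ u ∈ U, b * u * b⁻¹ ∈ U := fun b hb u hu =>
  (Subgroup.mem_normalizer_iff.mp (h hb) u).mp hu

theorem family_le_normalizer [Finite G] {p : ℕ} {A : Subgroup G} {θ : G → Subgroup G}
    {U : Subgroup G} (hU : U ∈ Cfsg.signalizerFamily p A θ) : A ≤ normalizer (U : Set G) :=
  le_normalizer_of_conj_mem hU.2.2.1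

/-- An `A`-invariant subgroup of a member of the family is in the family. -/
theorem family_of_le {p : ℕ} {A : Subgroup G} {θ : G → Subgroup G} {U V : Subgroup G}
    (hU : U ∈ Cfsg.signalizerFamily p A θ) (hVU : V ≤ U)
    (hVA : ∀ b ∈ A, ∀ v ∈ V, b * v * b⁻¹ ∈ V) : V ∈ Cfsg.signalizerFamily p A θ := by
  obtain ⟨hs, hp, _, hθ⟩ := hU
  refine ⟨?_, ?_, hVA, fun a ha ha1 => le_trans (inf_le_inf_right _ hVU) (hθ a ha ha1)⟩
  · have := hs
    exact Group.isSolvable_of_isSolvable_injective (f := Subgroup.inclusion hVU)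
      (Subgroup.inclusion_injective hVU)
  · intro h
    exact hp (h.trans (Subgroup.card_dvd_of_le hVU))

/-- An `A`-invariant subgroup of `θ a` is in the family. -/
theorem family_of_le_theta {p : ℕ} {A : Subgroup G} {θ : G → Subgroup G}
    (hθ : Cfsg.IsSolvableSignalizerFunctor p A θ) {a : G} (ha : a ∈ A) (ha1 : a ≠ 1)
    {V : Subgroup G} (hV : V ≤ θ a) (hVA : ∀ b ∈ A, ∀ v ∈ V, b * v * b⁻¹ ∈ V) :
    V ∈ Cfsg.signalizerFamily p A θ := by
  obtain ⟨⟨h1, h2, h3, h4⟩, h5⟩ := hθ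
  refine ⟨?_, ?_, hVA, fun b hb hb1 => le_trans (inf_le_inf_right _ hV) (h4 a ha ha1 b hb hb1)⟩
  · have := h5 a ha ha1
    exact Group.isSolvable_of_isSolvable_injective (f := Subgroup.inclusion hV)
      (Subgroup.inclusion_injective hV)
  · intro h
    exact h2 a ha ha1 (h.trans (Subgroup.card_dvd_of_le hV))

theorem bot_mem_family {p : ℕ} (hp : p.Prime) {A : Subgroup G} {θ : G → Subgroup G} :
    (⊥ : Subgroup G) ∈ Cfsg.signalizerFamily p A θ := by
  refine ⟨inferInstance, ?_, ?_, ?_⟩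
  · rw [Subgroup.card_bot]; exact hp.one_lt.ne' ∘ Nat.dvd_one.mp
  · intro b _ u hu
    rw [Subgroup.mem_bot] at hu ⊢
    rw [hu]; group
  · intro a _ _
    exact inf_le_left.trans bot_le

theorem mem_signalizerInf_iff {A : Subgroup G} {θ : G → Subgroup G} {c : G} :
    c ∈ Cfsg.signalizerInf A θ ↔ ∀ a ∈ A, a ≠ 1 → c ∈ θ a := by
  unfold Cfsg.signalizerInf
  rw [Subgroup.mem_iInf]
  constructor
  · intro h a ha ha1
    exact h ⟨a, ha, ha1⟩
  · rintro h ⟨a, ha, ha1⟩
    exact h a ha ha1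

/-- Elements of `θ(C_G(A))` centralize `A`. -/
theorem signalizerInf_commute {p : ℕ} {A : Subgroup G} {θ : G → Subgroup G}
    (hθ : Cfsg.IsSignalizerFunctor p A θ) {c : G} (hc : c ∈ Cfsg.signalizerInf A θ)
    {a : G} (ha : a ∈ A) : c * a = a * c := by
  by_cases ha1 : a = 1
  · rw [ha1, mul_one, one_mul]
  · have h1 := hθ.1 a ha ha1 (mem_signalizerInf_iff.mp hc a ha ha1)
    exact Subgroup.mem_centralizer_singleton_iff.mp h1

/-- `C_M(A) ≤ θ(C_G(A))` for `M` in the family. -/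
theorem family_inf_centralizer_le {p : ℕ} {A : Subgroup G} {θ : G → Subgroup G}
    {M : Subgroup G} (hM : M ∈ Cfsg.signalizerFamily p A θ) :
    M ⊓ centralizer (A : Set G) ≤ Cfsg.signalizerInf A θ := by
  intro c hc
  rw [mem_signalizerInf_iff]
  intro a ha ha1
  apply hM.2.2.2 a ha ha1
  refine ⟨hc.1, ?_⟩
  have h2 : c ∈ centralizer (A : Set G) := hc.2
  show c ∈ centralizer ({a} : Set G)
  rw [Subgroup.mem_centralizer_singleton_iff]
  exact ((Subgroup.mem_centralizer_iff.mp h2) a ha).symm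

/-- Conjugation by an element of `θ(C_G(A))` preserves the family. -/
theorem family_map_conj {p : ℕ} {A : Subgroup G} {θ : G → Subgroup G}
    (hθ : Cfsg.IsSignalizerFunctor p A θ) {U : Subgroup G}
    (hU : U ∈ Cfsg.signalizerFamily p A θ) {c : G} (hc : c ∈ Cfsg.signalizerInf A θ) :
    U.map (MulAut.conj c).toMonoidHom ∈ Cfsg.signalizerFamily p A θ := by
  obtain ⟨hs, hp, hUA, hUθ⟩ := hU
  refine ⟨?_, ?_, ?_, ?_⟩
  · have := hs
    exact Group.isSolvable_of_surjective (f := (U.equivMapOfInjective _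
      (MulAut.conj c).injective).toMonoidHom) (MulEquiv.surjective _)
  · rw [card_map_conj]; exact hp
  · intro b hb u hu
    rw [mem_map_conj] at hu ⊢
    have hcb : Commute c b := signalizerInf_commute hθ hc hb
    have h1 : c⁻¹ * b = b * c⁻¹ := hcb.inv_left.eq
    have h2 : b⁻¹ * c = c * b⁻¹ := hcb.inv_right.eq.symm
    have : c⁻¹ * (b * u * b⁻¹) * c = b * (c⁻¹ * u * c) * b⁻¹ := by
      calc c⁻¹ * (b * u * b⁻¹) * c = (c⁻¹ * b) * u * (b⁻¹ * c) := by group
        _ = (b * c⁻¹) * u * (c * b⁻¹) := by rw [h1, h2]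
        _ = b * (c⁻¹ * u * c) * b⁻¹ := by group
    rw [this]
    exact hUA b hb _ hu
  · intro a ha ha1 x hx
    have hxU : x ∈ U.map (MulAut.conj c).toMonoidHom := hx.1
    have hxa : x ∈ centralizer ({a} : Set G) := hx.2
    rw [mem_map_conj] at hxU
    rw [Subgroup.mem_centralizer_singleton_iff] at hxa
    have hca : Commute c a := signalizerInf_commute hθ hc ha
    have hcθ : c ∈ θ a := mem_signalizerInf_iff.mp hc a ha ha1
    have h1 : c⁻¹ * x * c ∈ θ a := by
      apply hUθ a ha ha1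
      refine ⟨hxU, ?_⟩
      show c⁻¹ * x * c ∈ centralizer ({a} : Set G)
      rw [Subgroup.mem_centralizer_singleton_iff]
      have h3 : c⁻¹ * a = a * c⁻¹ := hca.inv_left.eq
      calc c⁻¹ * x * c * a = c⁻¹ * x * (c * a) := by group
        _ = c⁻¹ * (x * a) * c := by rw [hca.eq]; group
        _ = (c⁻¹ * a) * x * c := by rw [hxa]; group
        _ = a * (c⁻¹ * x * c) := by rw [h3]; group
    have : x = c * (c⁻¹ * x * c) * c⁻¹ := by group
    rw [this]
    exact (θ a).mul_mem ((θ a).mul_mem hcθ h1) ((θ a).inv_mem hcθ)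

end Cfsg.Agent.Lib.Helper8
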