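import Mathlib
import Cfsg.Prelude.Def_Balance
import Cfsg.Agent.Lib.Helper8.SignalizerFamily
import Cfsg.Agent.S1280
import Cfsg.Agent.S1282
import Cfsg.Agent.S0023
import Cfsg.Agent.S0024
import Cfsg.Agent.S0025

/-!
# The transitivity theorem for solvable signalizer functors
-/

set_option autoImplicit false

namespace Cfsg.Agent.Lib.Helper8

open Subgroup
open scoped Pointwise

variable {G : Type*} [Group G]

/-- `Q` is maximal among the `q`-subgroups in the family of `θ`. -/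
def IsMaxQ (p : ℕ) (A : Subgroup G) (θ : G → Subgroup G) (q : ℕ) (Q : Subgroup G) : Prop :=
  Q ∈ Cfsg.signalizerFamily p A θ ∧ IsPGroup q Q ∧
    ∀ R ∈ Cfsg.signalizerFamily p A θ, IsPGroup q R → Q ≤ R → R = Q

theorem exists_isMaxQ_ge [Finite G] {p : ℕ} {A : Subgroup G} {θ : G → Subgroup G} {q : ℕ}
    {T : Subgroup G} (hT : T ∈ Cfsg.signalizerFamily p A θ) (hTq : IsPGroup q T) :
    ∃ Q, IsMaxQ p A θ q Q ∧ T ≤ Q := by
  classical
  let S : Set (Subgroup G) := {R | R ∈ Cfsg.signalizerFamily p A θ ∧ IsPGroup q R ∧ T ≤ R}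
  obtain ⟨Q, hQS, hQmax⟩ := Set.exists_max_image S (fun R => Nat.card R) (Set.toFinite S)
    ⟨T, hT, hTq, le_rfl⟩
  refine ⟨Q, ⟨hQS.1, hQS.2.1, fun R hR hRq hQR => ?_⟩, hQS.2.2⟩
  have := hQmax R ⟨hR, hRq, hQS.2.2.trans hQR⟩
  exact (Subgroup.eq_of_le_of_card_ge hQR this).symm

theorem IsMaxQ.map_conj [Finite G] {p : ℕ} {A : Subgroup G} {θ : G → Subgroup G} {q : ℕ}
    (hθ : Cfsg.IsSignalizerFunctor p A θ) {Q : Subgroup G} (hQ : IsMaxQ p A θ q Q) {c : G}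
    (hc : c ∈ Cfsg.signalizerInf A θ) : IsMaxQ p A θ q (Q.map (MulAut.conj c).toMonoidHom) := by
  refine ⟨family_map_conj hθ hQ.1 hc, hQ.2.1.map _, fun R hR hRq hle => ?_⟩
  have h1 : Q ≤ R.map (MulAut.conj c⁻¹).toMonoidHom := map_conj_le_iff.mp hle
  have hc' : c⁻¹ ∈ Cfsg.signalizerInf A θ := inv_mem hc
  have h2 := hQ.2.2 _ (family_map_conj hθ hR hc') (hRq.map _) h1
  have h3 := (map_conj_eq_iff (g := c⁻¹)).mp h2
  rw [inv_inv] at h3
  exact h3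

/-- The conjugacy relation under `θ(C_G(A))`. -/
def SigConj (A : Subgroup G) (θ : G → Subgroup G) (Q₁ Q₂ : Subgroup G) : Prop :=
  ∃ c ∈ Cfsg.signalizerInf A θ, Q₁.map (MulAut.conj c).toMonoidHom = Q₂

theorem SigConj.refl (A : Subgroup G) (θ : G → Subgroup G) (Q : Subgroup G) : SigConj A θ Q Q :=
  ⟨1, one_mem _, map_conj_one Q⟩

theorem SigConj.symm {A : Subgroup G} {θ : G → Subgroup G} {Q₁ Q₂ : Subgroup G}
    (h : SigConj A θ Q₁ Q₂) : SigConj A θ Q₂ Q₁ := by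
  obtain ⟨c, hc, rfl⟩ := h
  refine ⟨c⁻¹, inv_mem hc, ?_⟩
  rw [map_conj_map_conj, inv_mul_cancel, map_conj_one]

theorem SigConj.trans {A : Subgroup G} {θ : G → Subgroup G} {Q₁ Q₂ Q₃ : Subgroup G}
    (h : SigConj A θ Q₁ Q₂) (h' : SigConj A θ Q₂ Q₃) : SigConj A θ Q₁ Q₃ := by
  obtain ⟨c, hc, rfl⟩ := h
  obtain ⟨d, hd, rfl⟩ := h'
  exact ⟨d * c, mul_mem hd hc, (map_conj_map_conj _ _ _).symm⟩

/-- **Transitivity theorem.** -/
theorem transitivity [Finite G] (p : ℕ) [Fact p.Prime] (A : Subgroup G)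
    (hA : Cfsg.IsElementaryAbelian p A) (hA3 : p ^ 3 ≤ Nat.card ↥A) (θ : G → Subgroup G)
    (hθ : Cfsg.IsSolvableSignalizerFunctor p A θ) (q : ℕ) [Fact q.Prime]
    (Q₁ Q₂ : Subgroup G) (h₁ : IsMaxQ p A θ q Q₁) (h₂ : IsMaxQ p A θ q Q₂) :
    SigConj A θ Q₁ Q₂ := by
  classical
  have hp : p.Prime := Fact.out
  have hq : q.Prime := Fact.out
  by_contra hbad
  -- choose a bad pair with maximal intersection
  let S : Set (Subgroup G × Subgroup G) :=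
    {P | IsMaxQ p A θ q P.1 ∧ IsMaxQ p A θ q P.2 ∧ ¬ SigConj A θ P.1 P.2}
  obtain ⟨⟨R₁, R₂⟩, hRS, hRmax⟩ := Set.exists_max_image S
    (fun P => Nat.card ↥(P.1 ⊓ P.2)) (Set.toFinite S) ⟨(Q₁, Q₂), h₁, h₂, hbad⟩
  obtain ⟨hR₁, hR₂, hRbad⟩ := hRS
  simp only at hR₁ hR₂ hRbad
  -- any pair of maximal elements with larger intersection is conjugate
  have hgood : ∀ P₁ P₂ : Subgroup G, IsMaxQ p A θ q P₁ → IsMaxQ p A θ q P₂ →
      Nat.card ↥(R₁ ⊓ R₂) < Nat.card ↥(P₁ ⊓ P₂) → SigConj A θ P₁ P₂ := by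
    intro P₁ P₂ hP₁ hP₂ hlt
    by_contra hb
    have := hRmax (P₁, P₂) ⟨hP₁, hP₂, hb⟩
    simp only at this
    omega
  have htriv : ∀ R : Subgroup G, IsMaxQ p A θ q R → q = p → R = ⊥ := by
    intro R hR hqp
    have h1 : IsPGroup p R := hqp ▸ hR.2.1
    obtain ⟨k, hk⟩ := IsPGroup.iff_card.mp h1
    have h2 : ¬ p ∣ Nat.card R := hR.1.2.1
    have hk0 : k = 0 := by
      by_contra hk0
      exact h2 (hk ▸ dvd_pow_self p hk0)
    rw [hk0, pow_zero] at hk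
    exact Subgroup.card_eq_one.mp hk
  have hqp : q ≠ p := by
    intro hqp
    apply hRbad
    rw [htriv R₁ hR₁ hqp, htriv R₂ hR₂ hqp]
    exact SigConj.refl A θ ⊥
  have hAR₁ := family_le_normalizer hR₁.1
  have hAR₂ := family_le_normalizer hR₂.1
  have hD₁ : R₁ ⊓ R₂ ≠ R₁ := by
    intro h
    have hle : R₁ ≤ R₂ := h ▸ inf_le_right
    have := hR₁.2.2 R₂ hR₂.1 hR₂.2.1 hle
    exact hRbad (this ▸ SigConj.refl A θ R₂)
  have hD₂ : R₁ ⊓ R₂ ≠ R₂ := by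
    intro h
    have hle : R₂ ≤ R₁ := h ▸ inf_le_left
    have := hR₂.2.2 R₁ hR₁.1 hR₁.2.1 hle
    exact hRbad (this ▸ SigConj.refl A θ R₂)
  obtain ⟨a, haA, ha1, hn₁, hn₂⟩ := Cfsg.Agent.S1282.result p A hA hA3 q hqp R₁ R₂ hR₁.2.1 hR₂.2.1
    hAR₁ hAR₂ hD₁ hD₂
  have hDA : ∀ b ∈ A, ∀ u ∈ R₁ ⊓ R₂, b * u * b⁻¹ ∈ R₁ ⊓ R₂ := fun b hb u hu =>
    ⟨hR₁.1.2.2.1 b hb u hu.1, hR₂.1.2.2.1 b hb u hu.2⟩
  have hDfam : R₁ ⊓ R₂ ∈ Cfsg.signalizerFamily p A θ := family_of_le hR₁.1 inf_le_left hDA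
  have hAD : A ≤ normalizer ((R₁ ⊓ R₂ : Subgroup G) : Set G) := le_normalizer_of_conj_mem hDA
  have hXA : ∀ b ∈ A, ∀ u ∈ θ a ⊓ normalizer ((R₁ ⊓ R₂ : Subgroup G) : Set G),
      b * u * b⁻¹ ∈ θ a ⊓ normalizer ((R₁ ⊓ R₂ : Subgroup G) : Set G) := fun b hb u hu =>
    ⟨hθ.1.2.2.1 a haA ha1 b hb u hu.1,
      Subgroup.mul_mem _ (Subgroup.mul_mem _ (hAD hb) hu.2) (Subgroup.inv_mem _ (hAD hb))⟩
  have hXfam : θ a ⊓ normalizer ((R₁ ⊓ R₂ : Subgroup G) : Set G) ∈ Cfsg.signalizerFamily p A θ :=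
    family_of_le_theta hθ haA ha1 inf_le_left hXA
  have hA2 : p ^ 2 ≤ Nat.card A := le_trans (Nat.pow_le_pow_right hp.pos (by norm_num)) hA3
  have hMfam := Cfsg.Agent.S1280.result p A hA hA2 θ hθ (R₁ ⊓ R₂)
    (θ a ⊓ normalizer ((R₁ ⊓ R₂ : Subgroup G) : Set G)) hDfam hXfam inf_le_right
  set D := R₁ ⊓ R₂ with hD
  set M := D ⊔ (θ a ⊓ normalizer (D : Set G)) with hM
  have hAM : A ≤ normalizer (M : Set G) := family_le_normalizer hMfam
  have hAp : IsPGroup p A := by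
    rintro ⟨g, hg⟩
    exact ⟨1, Subtype.ext (by simpa using hA.2 g hg)⟩
  have hcop : (Nat.card A).Coprime (Nat.card M) := by
    obtain ⟨k, hk⟩ := IsPGroup.iff_card.mp hAp
    rw [hk]
    exact Nat.Coprime.pow_left k ((Nat.Prime.coprime_iff_not_dvd hp).mpr hMfam.2.1)
  have key : ∀ R : Subgroup G, IsMaxQ p A θ q R → D ≤ R →
      ¬ (normalizer (D : Set G) ⊓ R ⊓ centralizer {a} ≤ D) →
      ∃ P : Sylow q ↥M, A ≤ normalizer (((P : Subgroup M).map M.subtype : Subgroup G) : Set G) ∧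
        Nat.card D < Nat.card ((P : Subgroup M).map M.subtype : Subgroup G) ∧
        ∃ R', IsMaxQ p A θ q R' ∧ (P : Subgroup M).map M.subtype ≤ R' ∧ SigConj A θ R R' := by
    intro R hR hDR hn
    have hAR := family_le_normalizer hR.1
    have hTA : A ≤ normalizer ((M ⊓ R : Subgroup G) : Set G) :=
      le_normalizer_of_conj_mem fun b hb u hu =>
        ⟨conj_mem_of_le_normalizer hAM b hb u hu.1, conj_mem_of_le_normalizer hAR b hb u hu.2⟩
    have hTq : IsPGroup q ↥(M ⊓ R) := hR.2.1.to_le inf_le_right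
    obtain ⟨P, hTP, hAP⟩ := Cfsg.Agent.S0025.result A M hAM hcop (Or.inr hMfam.1) q (M ⊓ R)
      inf_le_left hTq hTA
    have hT'fam : (P : Subgroup M).map M.subtype ∈ Cfsg.signalizerFamily p A θ :=
      family_of_le hMfam (Subgroup.map_subtype_le _) (conj_mem_of_le_normalizer hAP)
    have hT'q : IsPGroup q ((P : Subgroup M).map M.subtype : Subgroup G) := P.isPGroup'.map _
    obtain ⟨R', hR', hT'R'⟩ := exists_isMaxQ_ge hT'fam hT'q
    have hDT : D ≤ M ⊓ R := le_inf le_sup_left hDR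
    have hTD : ¬ (M ⊓ R ≤ D) := by
      intro h
      apply hn
      refine le_trans ?_ h
      intro x hx
      have hxN : x ∈ normalizer (D : Set G) := hx.1.1
      have hxR : x ∈ R := hx.1.2
      have hxa : x ∈ centralizer ({a} : Set G) := hx.2
      refine ⟨?_, hxR⟩
      apply (le_sup_right : θ a ⊓ normalizer (D : Set G) ≤ M)
      exact ⟨hR.1.2.2.2 a haA ha1 ⟨hxR, hxa⟩, hxN⟩
    have hlt : Nat.card D < Nat.card ↥(M ⊓ R) := by
      apply lt_of_le_of_ne (Subgroup.card_le_of_le hDT)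
      intro h
      apply hTD
      rw [← Subgroup.eq_of_le_of_card_ge hDT h.ge]
    refine ⟨P, hAP, lt_of_lt_of_le hlt (Subgroup.card_le_of_le hTP), R', hR', hT'R', ?_⟩
    apply hgood R R' hR hR'
    exact lt_of_lt_of_le hlt (Subgroup.card_le_of_le (le_inf inf_le_right (hTP.trans hT'R')))
  obtain ⟨P₁, hAP₁, hlt₁, R₁', hR₁', hP₁R₁', hc₁⟩ := key R₁ hR₁ inf_le_left hn₁
  obtain ⟨P₂, hAP₂, hlt₂, R₂', hR₂', hP₂R₂', hc₂⟩ := key R₂ hR₂ inf_le_right hn₂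
  obtain ⟨c, hcA, hcP⟩ := Cfsg.Agent.S0024.result A M hAM hcop (Or.inr hMfam.1) q P₁ P₂ hAP₁ hAP₂
  have hcI : (c : G) ∈ Cfsg.signalizerInf A θ := family_inf_centralizer_le hMfam ⟨c.2, hcA⟩
  have hmap : ((P₂ : Subgroup M).map M.subtype : Subgroup G) =
      ((P₁ : Subgroup M).map M.subtype).map (MulAut.conj (c : G)).toMonoidHom := by
    rw [← hcP]
    ext x
    constructor
    · rintro ⟨y, hy, rfl⟩
      rw [mem_map_conj]
      have hy' : y ∈ MulAut.conj c • (P₁ : Subgroup M) := hy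
      rw [Subgroup.mem_pointwise_smul_iff_inv_smul_mem] at hy'
      refine ⟨(MulAut.conj c)⁻¹ • y, hy', ?_⟩
      simp [MulAut.smul_def]
    · intro hx
      rw [mem_map_conj] at hx
      obtain ⟨y, hy, hyx⟩ := hx
      refine ⟨c * y * c⁻¹, ?_, ?_⟩
      · show c * y * c⁻¹ ∈ MulAut.conj c • (P₁ : Subgroup M)
        exact ⟨y, hy, rfl⟩
      · have : (M.subtype (c * y * c⁻¹) : G) = (c : G) * (M.subtype y) * (c : G)⁻¹ := rfl
        rw [this, hyx]; group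
  have hR₁'' := hR₁'.map_conj hθ.1 hcI
  have hc₃ : SigConj A θ R₁' (R₁'.map (MulAut.conj (c : G)).toMonoidHom) := ⟨c, hcI, rfl⟩
  have hc₄ : SigConj A θ (R₁'.map (MulAut.conj (c : G)).toMonoidHom) R₂' := by
    apply hgood _ _ hR₁'' hR₂'
    refine lt_of_lt_of_le hlt₂ (Subgroup.card_le_of_le (le_inf ?_ hP₂R₂'))
    rw [hmap]
    exact Subgroup.map_mono hP₁R₁'
  exact hRbad (hc₁.trans (hc₃.trans (hc₄.trans hc₂.symm)))

/-- conjugating a Sylow subgroup of a subgroup `H` by an element of `H`, seen in `G` -/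
theorem map_subtype_smul_sylow {H : Subgroup G} {q : ℕ} (c : ↥H) (P : Sylow q ↥H) :
    ((MulAut.conj c • P : Sylow q ↥H) : Subgroup ↥H).map H.subtype =
      ((P : Subgroup ↥H).map H.subtype).map (MulAut.conj (c : G)).toMonoidHom := by
  ext x
  constructor
  · rintro ⟨y, hy, rfl⟩
    rw [mem_map_conj]
    have hy' : y ∈ MulAut.conj c • (P : Subgroup ↥H) := hy
    rw [Subgroup.mem_pointwise_smul_iff_inv_smul_mem] at hy'
    refine ⟨(MulAut.conj c)⁻¹ • y, hy', ?_⟩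
    simp [MulAut.smul_def]
  · intro hx
    rw [mem_map_conj] at hx
    obtain ⟨y, hy, hyx⟩ := hx
    refine ⟨c * y * c⁻¹, ?_, ?_⟩
    · show c * y * c⁻¹ ∈ MulAut.conj c • (P : Subgroup ↥H)
      exact ⟨y, hy, rfl⟩
    · have : (H.subtype (c * y * c⁻¹) : G) = (c : G) * (H.subtype y) * (c : G)⁻¹ := rfl
      rw [this, hyx]; group

/-- For `H` in the family some `θ(C_G(A))`-conjugate of a maximal `Q` meets `H` in a Sylow
`q`-subgroup. -/
theorem exists_conj_inf_sylow [Finite G] (p : ℕ) [Fact p.Prime] (A : Subgroup G)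
    (hA : Cfsg.IsElementaryAbelian p A) (hA3 : p ^ 3 ≤ Nat.card ↥A) (θ : G → Subgroup G)
    (hθ : Cfsg.IsSolvableSignalizerFunctor p A θ) (q : ℕ) [Fact q.Prime]
    (Q : Subgroup G) (hQ : IsMaxQ p A θ q Q) (H : Subgroup G)
    (hH : H ∈ Cfsg.signalizerFamily p A θ) :
    ∃ c ∈ Cfsg.signalizerInf A θ, ∃ S : Sylow q ↥H,
      (S : Subgroup ↥H).map H.subtype = Q.map (MulAut.conj c).toMonoidHom ⊓ H := by
  have hp : p.Prime := Fact.out
  have hAH : A ≤ normalizer (H : Set G) := family_le_normalizer hH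
  have hAp : IsPGroup p A := by
    rintro ⟨g, hg⟩
    exact ⟨1, Subtype.ext (by simpa using hA.2 g hg)⟩
  have hcop : (Nat.card A).Coprime (Nat.card H) := by
    obtain ⟨k, hk⟩ := IsPGroup.iff_card.mp hAp
    rw [hk]
    exact Nat.Coprime.pow_left k ((Nat.Prime.coprime_iff_not_dvd hp).mpr hH.2.1)
  obtain ⟨P, hAP⟩ := Cfsg.Agent.S0023.result A H hAH hcop (Or.inr hH.1) q
  have hTfam : (P : Subgroup H).map H.subtype ∈ Cfsg.signalizerFamily p A θ :=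
    family_of_le hH (Subgroup.map_subtype_le _) (conj_mem_of_le_normalizer hAP)
  have hTq : IsPGroup q ((P : Subgroup H).map H.subtype : Subgroup G) := P.isPGroup'.map _
  obtain ⟨Q', hQ', hTQ'⟩ := exists_isMaxQ_ge hTfam hTq
  obtain ⟨c, hc, hcQ⟩ := transitivity p A hA hA3 θ hθ q Q Q' hQ hQ'
  refine ⟨c, hc, P, ?_⟩
  rw [hcQ]
  have h1 : IsPGroup q ((Q' ⊓ H).subgroupOf H) :=
    (hQ'.2.1.to_le (inf_le_left : Q' ⊓ H ≤ Q')).comap_subtype
  have h2 : (P : Subgroup H) ≤ (Q' ⊓ H).subgroupOf H := by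
    intro x hx
    rw [Subgroup.mem_subgroupOf]
    exact ⟨hTQ' ⟨x, hx, rfl⟩, x.2⟩
  have h3 := P.is_maximal' h1 h2
  rw [← h3, Subgroup.map_subgroupOf_eq_of_le inf_le_right]

/-- For a nontrivial `B ≤ A`, `C_Q(B)` is a Sylow `q`-subgroup of `θ(C_G(B))`. -/
theorem centralizer_inf_sylow [Finite G] (p : ℕ) [Fact p.Prime] (A : Subgroup G)
    (hA : Cfsg.IsElementaryAbelian p A) (hA3 : p ^ 3 ≤ Nat.card ↥A) (θ : G → Subgroup G)
    (hθ : Cfsg.IsSolvableSignalizerFunctor p A θ) (q : ℕ) [Fact q.Prime]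
    (Q : Subgroup G) (hQ : IsMaxQ p A θ q Q) (B : Subgroup G) (hBA : B ≤ A) (hB : B ≠ ⊥) :
    ∃ S : Sylow q ↥(Cfsg.signalizerInf B θ),
      (S : Subgroup ↥(Cfsg.signalizerInf B θ)).map (Cfsg.signalizerInf B θ).subtype =
        Q ⊓ centralizer (B : Set G) := by
  classical
  obtain ⟨b₀, hb₀B, hb₀1⟩ : ∃ b ∈ B, b ≠ 1 := by
    by_contra h
    push Not at h
    exact hB ((Subgroup.eq_bot_iff_forall _).mpr h)
  have hHle : ∀ b ∈ B, b ≠ 1 → Cfsg.signalizerInf B θ ≤ θ b := fun b hb hb1 x hx =>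
    mem_signalizerInf_iff.mp hx b hb hb1
  have hHA : ∀ a ∈ A, ∀ u ∈ Cfsg.signalizerInf B θ, a * u * a⁻¹ ∈ Cfsg.signalizerInf B θ := by
    intro a ha u hu
    rw [mem_signalizerInf_iff] at hu ⊢
    intro b hb hb1
    exact hθ.1.2.2.1 b (hBA hb) hb1 a ha u (hu b hb hb1)
  have hHfam : Cfsg.signalizerInf B θ ∈ Cfsg.signalizerFamily p A θ :=
    family_of_le_theta hθ (hBA hb₀B) hb₀1 (hHle b₀ hb₀B hb₀1) hHA
  obtain ⟨c, hc, S, hS⟩ := exists_conj_inf_sylow p A hA hA3 θ hθ q Q hQ _ hHfam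
  have hcH : c ∈ Cfsg.signalizerInf B θ := by
    rw [mem_signalizerInf_iff]
    intro b hb hb1
    exact mem_signalizerInf_iff.mp hc b (hBA hb) hb1
  have hQc := family_map_conj hθ.1 hQ.1 hc
  have hEq : Q.map (MulAut.conj c).toMonoidHom ⊓ Cfsg.signalizerInf B θ =
      (Q ⊓ centralizer (B : Set G)).map (MulAut.conj c).toMonoidHom := by
    ext x
    constructor
    · intro hx
      have hxQ : x ∈ Q.map (MulAut.conj c).toMonoidHom := hx.1
      have hxH : x ∈ Cfsg.signalizerInf B θ := hx.2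
      rw [mem_map_conj] at hxQ ⊢
      refine ⟨hxQ, ?_⟩
      show c⁻¹ * x * c ∈ centralizer (B : Set G)
      rw [Subgroup.mem_centralizer_iff]
      intro b hb
      have hxb : Commute x b := by
        by_cases hb1 : b = 1
        · rw [hb1]; exact Commute.one_right x
        · have := hθ.1.1 b (hBA hb) hb1 (hHle b hb hb1 hxH)
          exact Subgroup.mem_centralizer_singleton_iff.mp this
      have hcb : Commute c b := signalizerInf_commute hθ.1 hc (hBA hb)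
      exact (((hcb.inv_left.mul_left hxb).mul_left hcb).eq).symm
    · intro hx
      rw [mem_map_conj] at hx
      have hxQ : c⁻¹ * x * c ∈ Q := hx.1
      have hxB : c⁻¹ * x * c ∈ centralizer (B : Set G) := hx.2
      refine ⟨mem_map_conj.mpr hxQ, ?_⟩
      show x ∈ Cfsg.signalizerInf B θ
      rw [mem_signalizerInf_iff]
      intro b hb hb1
      apply hQc.2.2.2 b (hBA hb) hb1
      refine ⟨mem_map_conj.mpr hxQ, ?_⟩
      show x ∈ centralizer ({b} : Set G)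
      rw [Subgroup.mem_centralizer_singleton_iff]
      have hcb : Commute c b := signalizerInf_commute hθ.1 hc (hBA hb)
      have hy : Commute (c⁻¹ * x * c) b := ((Subgroup.mem_centralizer_iff.mp hxB) b hb).symm
      have h1 : Commute (c * (c⁻¹ * x * c) * c⁻¹) b := (hcb.mul_left hy).mul_left hcb.inv_left
      have h2 : c * (c⁻¹ * x * c) * c⁻¹ = x := by group
      rw [h2] at h1
      exact h1.eq
  refine ⟨MulAut.conj (⟨c, hcH⟩ : ↥(Cfsg.signalizerInf B θ))⁻¹ • S, ?_⟩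
  rw [map_subtype_smul_sylow, hS, hEq, map_conj_map_conj]
  have : (((⟨c, hcH⟩ : ↥(Cfsg.signalizerInf B θ))⁻¹ : ↥(Cfsg.signalizerInf B θ)) : G) * c = 1 := by
    simp
  rw [this, map_conj_one]

end Cfsg.Agent.Lib.Helper8
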