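import Mathlib
import Cfsg.Agent.Lib.Helper8.Conj
import Cfsg.Agent.Lib.Helper8.Transitivity
import Cfsg.Agent.Lib.Helper1.Coprime
import Cfsg.Agent.Lib.Helper17.Card
import Cfsg.Agent.S0023
import Cfsg.Agent.S0024
import Cfsg.Agent.S0025

/-!
# Sylow subgroups of subgroups, by cardinality; invariant Sylow subgroups under coprime action
-/

set_option autoImplicit false

namespace Cfsg.Agent.Lib.Helper8

open Subgroup
open scoped Pointwise

variable {G : Type*} [Group G]

/-- `S` is a Sylow `q`-subgroup of the subgroup `L` (by cardinality). -/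
def IsSylIn (q : ℕ) (S L : Subgroup G) : Prop :=
  S ≤ L ∧ Nat.card S = q ^ (Nat.card L).factorization q

theorem IsSylIn.isPGroup {q : ℕ} [Fact q.Prime] {S L : Subgroup G} (h : IsSylIn q S L) :
    IsPGroup q S := IsPGroup.of_card h.2

/-- The order of a `q`-subgroup of `L` divides the `q`-part of `|L|`. -/
theorem card_dvd_of_isPGroup_le [Finite G] {q : ℕ} [Fact q.Prime] {T L : Subgroup G}
    (hT : IsPGroup q T) (hTL : T ≤ L) : Nat.card T ∣ q ^ (Nat.card L).factorization q := by
  have hq : q.Prime := Fact.out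
  obtain ⟨j, hj⟩ := IsPGroup.iff_card.mp hT
  rw [hj]
  apply pow_dvd_pow
  rw [← Nat.Prime.pow_dvd_iff_le_factorization hq Nat.card_pos.ne', ← hj]
  exact Subgroup.card_dvd_of_le hTL

theorem IsSylIn.eq_of_le [Finite G] {q : ℕ} [Fact q.Prime] {S T L : Subgroup G}
    (h : IsSylIn q S L) (hT : IsPGroup q T) (hST : S ≤ T) (hTL : T ≤ L) : T = S := by
  have h1 := card_dvd_of_isPGroup_le hT hTL
  rw [← h.2] at h1
  exact (Subgroup.eq_of_le_of_card_ge hST (Nat.le_of_dvd Nat.card_pos h1)).symm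

theorem sylow_map_subtype_isSylIn [Finite G] {q : ℕ} [Fact q.Prime] {L : Subgroup G}
    (P : Sylow q ↥L) : IsSylIn q ((P : Subgroup L).map L.subtype) L := by
  refine ⟨Subgroup.map_subtype_le _, ?_⟩
  rw [Subgroup.card_subtype]
  exact P.card_eq_multiplicity

/-- Turn an `IsSylIn` subgroup into a `Sylow` of the subgroup type. -/
noncomputable def IsSylIn.toSylow [Finite G] {q : ℕ} [Fact q.Prime] {S L : Subgroup G}
    (h : IsSylIn q S L) : Sylow q ↥L :=
  Sylow.ofCard (S.subgroupOf L) (by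
    rw [Cfsg.Agent.Lib.Helper1.card_subgroupOf_of_le h.1]; exact h.2)

theorem IsSylIn.toSylow_map [Finite G] {q : ℕ} [Fact q.Prime] {S L : Subgroup G}
    (h : IsSylIn q S L) : ((h.toSylow : Sylow q ↥L) : Subgroup ↥L).map L.subtype = S := by
  show (S.subgroupOf L).map L.subtype = S
  exact Subgroup.map_subgroupOf_eq_of_le h.1

/-- Existence of an `A`-invariant Sylow subgroup containing a given invariant `q`-subgroup. -/
theorem exists_invariant_isSylIn_ge [Finite G] {A L : Subgroup G}
    (hAL : A ≤ normalizer (L : Set G)) (hcop : (Nat.card A).Coprime (Nat.card L))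
    (hsolv : Group.IsSolvable A ∨ Group.IsSolvable L) (q : ℕ) [Fact q.Prime] (U : Subgroup G)
    (hUL : U ≤ L) (hU : IsPGroup q U) (hUA : A ≤ normalizer (U : Set G)) :
    ∃ S, IsSylIn q S L ∧ U ≤ S ∧ A ≤ normalizer (S : Set G) := by
  obtain ⟨P, hUP, hAP⟩ := Cfsg.Agent.S0025.result A L hAL hcop hsolv q U hUL hU hUA
  exact ⟨_, sylow_map_subtype_isSylIn P, hUP, hAP⟩

/-- Conjugacy of `A`-invariant Sylow subgroups under `C_L(A)`. -/
theorem exists_conj_of_invariant_isSylIn [Finite G] {A L : Subgroup G}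
    (hAL : A ≤ normalizer (L : Set G)) (hcop : (Nat.card A).Coprime (Nat.card L))
    (hsolv : Group.IsSolvable A ∨ Group.IsSolvable L) (q : ℕ) [Fact q.Prime] {S S' : Subgroup G}
    (hS : IsSylIn q S L) (hS' : IsSylIn q S' L) (hSA : A ≤ normalizer (S : Set G))
    (hS'A : A ≤ normalizer (S' : Set G)) :
    ∃ c ∈ L ⊓ centralizer (A : Set G), S.map (MulAut.conj c).toMonoidHom = S' := by
  have h1 : A ≤ normalizer ((((hS.toSylow : Sylow q ↥L) : Subgroup ↥L).map L.subtype : Subgroup G) :
      Set G) := by rw [hS.toSylow_map]; exact hSA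
  have h2 : A ≤ normalizer ((((hS'.toSylow : Sylow q ↥L) : Subgroup ↥L).map L.subtype : Subgroup G) :
      Set G) := by rw [hS'.toSylow_map]; exact hS'A
  obtain ⟨c, hcA, hcP⟩ := Cfsg.Agent.S0024.result A L hAL hcop hsolv q hS.toSylow hS'.toSylow h1 h2
  refine ⟨c, ⟨c.2, hcA⟩, ?_⟩
  have h3 := map_subtype_smul_sylow c hS.toSylow
  rw [hcP, hS'.toSylow_map, hS.toSylow_map] at h3
  exact h3.symm

/-- A `q`-subgroup `T ≤ L` containing a subgroup of order the full `q`-part of `|L|` is Sylow. -/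
theorem isSylIn_of_card_le [Finite G] {q : ℕ} [Fact q.Prime] {T L : Subgroup G}
    (hT : IsPGroup q T) (hTL : T ≤ L) (h : q ^ (Nat.card L).factorization q ≤ Nat.card T) :
    IsSylIn q T L := by
  have hq : q.Prime := Fact.out
  exact ⟨hTL, le_antisymm (Nat.le_of_dvd (pow_pos hq.pos _) (card_dvd_of_isPGroup_le hT hTL)) h⟩

/-- For an `A`-invariant Sylow subgroup `S` of `L` (coprime action of the abelian group `A`),
`C_S(a)` is a Sylow subgroup of `C_L(a)` for `a ∈ A`. -/
theorem IsSylIn.inf_centralizer [Finite G] {A L : Subgroup G}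
    (hAc : ∀ a ∈ A, ∀ b ∈ A, a * b = b * a) (hAs : Group.IsSolvable A)
    (hAL : A ≤ normalizer (L : Set G)) (hcop : (Nat.card A).Coprime (Nat.card L))
    (q : ℕ) [Fact q.Prime] {S : Subgroup G} (hS : IsSylIn q S L)
    (hSA : A ≤ normalizer (S : Set G)) {a : G} (ha : a ∈ A) :
    IsSylIn q (S ⊓ centralizer {a}) (L ⊓ centralizer {a}) := by
  have hq : q.Prime := Fact.out
  have hALa : A ≤ normalizer ((L ⊓ centralizer {a} : Subgroup G) : Set G) := by
    intro b hb
    apply Cfsg.Agent.Lib.Helper1.mem_normalizer_of_forall_conj_mem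
    intro x hx
    have hxL : x ∈ L := hx.1
    have hxa : x ∈ centralizer ({a} : Set G) := hx.2
    refine ⟨(Subgroup.mem_normalizer_iff.mp (hAL hb) x).mp hxL, ?_⟩
    show b * x * b⁻¹ ∈ centralizer ({a} : Set G)
    rw [Subgroup.mem_centralizer_singleton_iff] at hxa ⊢
    have hba : Commute b a := hAc b hb a ha
    have hxa' : Commute x a := hxa
    exact ((hba.mul_left hxa').mul_left hba.inv_left).eq
  have hcopa : (Nat.card A).Coprime (Nat.card ↥(L ⊓ centralizer {a})) :=
    Nat.Coprime.coprime_dvd_right (Subgroup.card_dvd_of_le inf_le_left) hcop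
  obtain ⟨T, hT, -, hTA⟩ := exists_invariant_isSylIn_ge hALa hcopa (Or.inl hAs) q ⊥ bot_le
    IsPGroup.of_bot (le_normalizer_of_conj_mem (fun b _ u hu => by
      rw [Subgroup.mem_bot] at hu ⊢; rw [hu]; group))
  obtain ⟨S', hS', hTS', hS'A⟩ := exists_invariant_isSylIn_ge hAL hcop (Or.inl hAs) q T
    (hT.1.trans inf_le_left) hT.isPGroup hTA
  obtain ⟨c, hc, hcS⟩ := exists_conj_of_invariant_isSylIn hAL hcop (Or.inl hAs) q hS' hS hS'A hSA
  have hcA : c ∈ centralizer (A : Set G) := hc.2
  have hca : Commute c a := ((Subgroup.mem_centralizer_iff.mp hcA) a ha).symm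
  have hT'le : T.map (MulAut.conj c).toMonoidHom ≤ S ⊓ centralizer {a} := by
    rintro _ ⟨x, hx, rfl⟩
    refine ⟨?_, ?_⟩
    · rw [← hcS]; exact ⟨x, hTS' hx, rfl⟩
    · show c * x * c⁻¹ ∈ centralizer ({a} : Set G)
      have hxa : x ∈ centralizer ({a} : Set G) := (hT.1 hx).2
      rw [Subgroup.mem_centralizer_singleton_iff] at hxa ⊢
      have hxa' : Commute x a := hxa
      exact ((hca.mul_left hxa').mul_left hca.inv_left).eq
  have hpg : IsPGroup q ↥(S ⊓ centralizer {a}) := hS.isPGroup.to_le inf_le_left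
  apply isSylIn_of_card_le hpg (inf_le_inf_right _ hS.1)
  rw [← hT.2, ← card_map_conj T c]
  exact Subgroup.card_le_of_le hT'le

/-- Product formula: if every element of `M` is a product of an element of `H ≤ M` and one of
`L ≤ M`, then `|M| |H ∩ L| = |H| |L|`. -/
theorem card_mul_card_inf_of_forall_mul [Finite G] (M H L : Subgroup G) (hH : H ≤ M) (hL : L ≤ M)
    (h : ∀ m ∈ M, ∃ x ∈ H, ∃ y ∈ L, m = x * y) :
    Nat.card M * Nat.card ↥(H ⊓ L) = Nat.card H * Nat.card L := by
  classical
  have hM : H ⊔ L = M := by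
    apply le_antisymm (sup_le hH hL)
    intro m hm
    obtain ⟨x, hx, y, hy, rfl⟩ := h m hm
    exact Subgroup.mul_mem _ (Subgroup.mem_sup_left hx) (Subgroup.mem_sup_right hy)
  apply le_antisymm
  · -- count via the surjection H × L → M with fibres of size ≥ |H ∩ L|
    let f : (↥M × ↥(H ⊓ L)) → (↥H × ↥L) := fun md =>
      let x := (h md.1.1 md.1.2).choose
      let hx := (h md.1.1 md.1.2).choose_spec.1
      let y := (h md.1.1 md.1.2).choose_spec.2.choose
      let hy := (h md.1.1 md.1.2).choose_spec.2.choose_spec.1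
      (⟨x * md.2.1, H.mul_mem hx md.2.2.1⟩, ⟨md.2.1⁻¹ * y, L.mul_mem (L.inv_mem md.2.2.2) hy⟩)
    have hf : Function.Injective f := by
      rintro ⟨m, d⟩ ⟨m', d'⟩ hmd
      have hm := (h m.1 m.2).choose_spec.2.choose_spec.2
      have hm' := (h m'.1 m'.2).choose_spec.2.choose_spec.2
      have h1 := congrArg (fun z : ↥H × ↥L => (z.1 : G)) hmd
      have h2 := congrArg (fun z : ↥H × ↥L => (z.2 : G)) hmd
      simp only [f] at h1 h2
      have hmm : m = m' := by
        apply Subtype.ext
        rw [hm, hm']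
        calc (h m.1 m.2).choose * (h m.1 m.2).choose_spec.2.choose
            = ((h m.1 m.2).choose * d.1) * (d.1⁻¹ * (h m.1 m.2).choose_spec.2.choose) := by group
          _ = ((h m'.1 m'.2).choose * d'.1) * (d'.1⁻¹ * (h m'.1 m'.2).choose_spec.2.choose) := by
              rw [h1, h2]
          _ = (h m'.1 m'.2).choose * (h m'.1 m'.2).choose_spec.2.choose := by group
      subst hmm
      have hdd : d = d' := by
        apply Subtype.ext
        exact mul_left_cancel h1
      rw [hdd]
    rw [← Nat.card_prod, ← Nat.card_prod]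
    exact Nat.card_le_card_of_injective f hf
  · rw [← hM]
    exact Cfsg.Agent.Lib.Helper17.card_mul_card_le_card_sup_mul_card_inf H L

end Cfsg.Agent.Lib.Helper8
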