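import Mathlib
import Cfsg.Prelude.Def_Local
import Cfsg.Agent.Lib.Helper12.Cores
import Cfsg.Agent.Lib.Helper12.HallHigman
import Cfsg.Agent.Lib.Helper24.PSolvable

/-!
helper8: the dual of Hall–Higman Lemma 1.2.3: in a finite `p`-separable group with `O_p = 1`,
`C_G(O_{p'}(G)) ≤ O_{p'}(G)`.
-/

set_option autoImplicit false
namespace Cfsg.Agent.Lib.Helper8.DualHH

open Cfsg.Agent.Lib.Helper12

/-- A central subgroup of order coprime to its index has a complement consisting of all elements killed by
the index. -/
theorem exists_complement_of_central_coprime {M : Type*} [Group M] [Finite M]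
    (D : Subgroup M) (hD : D ≤ Subgroup.center M) (hcop : (Nat.card D).Coprime D.index) :
    ∃ K : Subgroup M, Nat.card K = D.index ∧ ∀ x : M, x ∈ K ↔ x ^ D.index = 1 := by
  have hDn : D.Normal := by
    constructor
    intro d hd g
    have : g * d = d * g := (Subgroup.mem_center_iff.mp (hD hd) g)
    rw [this, mul_inv_cancel_right]
    exact hd
  obtain ⟨K, hK⟩ := Subgroup.exists_right_complement'_of_coprime hcop
  have hcardK : Nat.card K = D.index := by
    have h1 := hK.card_mul_card
    have h2 := D.card_mul_index
    have hpos : 0 < Nat.card D := Nat.card_pos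
    exact Nat.eq_of_mul_eq_mul_left hpos (h1.trans h2.symm)
  refine ⟨K, hcardK, ?_⟩
  intro x
  constructor
  · intro hx
    have := pow_card_eq_one' (G := K) (x := ⟨x, hx⟩)
    rw [hcardK] at this
    have h2 := congrArg Subtype.val this
    simpa using h2
  · intro hx
    obtain ⟨⟨⟨d, hd⟩, ⟨y, hy⟩⟩, hdy, -⟩ := (Subgroup.isComplement_iff_existsUnique.mp hK) x
    simp only at hdy
    have hcomm : Commute d y := (Subgroup.mem_center_iff.mp (hD hd) y).symm
    have hy1 : y ^ D.index = 1 := by
      have := pow_card_eq_one' (G := K) (x := ⟨y, hy⟩)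
      rw [hcardK] at this
      have h2 := congrArg Subtype.val this
      simpa using h2
    have hd1 : d ^ D.index = 1 := by
      have := hcomm.mul_pow D.index
      rw [hdy, hx, hy1, mul_one] at this
      exact this.symm
    have hd2 : d ^ (Nat.card D) = 1 := by
      have := pow_card_eq_one' (G := D) (x := ⟨d, hd⟩)
      have h2 := congrArg Subtype.val this
      rw [Subgroup.coe_pow, Subgroup.coe_one] at h2
      exact h2
    have hd3 : d = 1 := by
      have d1 : orderOf d ∣ D.index := orderOf_dvd_of_pow_eq_one hd1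
      have d2 : orderOf d ∣ Nat.card D := orderOf_dvd_of_pow_eq_one hd2
      exact orderOf_eq_one_iff.mp (Nat.eq_one_of_dvd_coprimes hcop d2 d1)
    rw [← hdy, hd3, one_mul]
    exact hy

variable {G : Type*} [Group G]

/-- Dual Hall–Higman 1.2.3: in a finite `p`-separable group with `O_p = 1`, the centralizer of `O_{p'}`
lies in `O_{p'}`. -/
theorem centralizer_pPrimeCore_le [Finite G] (p : ℕ) [hp : Fact p.Prime] (h : Cfsg.IsPSolvable p G)
    (hO : Cfsg.pCore p G = ⊥) :
    Subgroup.centralizer ((Cfsg.pPrimeCore p G : Subgroup G) : Set G) ≤ Cfsg.pPrimeCore p G := by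
  set U := Cfsg.pPrimeCore p G with hU
  have hUn : U.Normal := Cfsg.Agent.Lib.Helper24.pPrimeCore_normal' p
  have hUp : (Nat.card U).Coprime p := pPrimeCore_coprime p
  set C := Subgroup.centralizer (U : Set G) with hC
  have hCn : C.Normal := Subgroup.normal_centralizer
  by_contra hCU
  let π := QuotientGroup.mk' U
  have hπ : Function.Surjective π := QuotientGroup.mk'_surjective U
  have : (C.map π).Normal := Subgroup.Normal.map hCn π hπ
  have hCbar : C.map π ≠ ⊥ := by
    intro hbot
    apply hCU
    intro c hc
    have : π c ∈ C.map π := Subgroup.mem_map_of_mem π hc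
    rw [hbot, Subgroup.mem_bot] at this
    exact (QuotientGroup.eq_one_iff c).mp this
  have hsolv' := Cfsg.Agent.Lib.Helper24.isPSolvable_of_surjective p π hπ h
  obtain ⟨Nb, hNbn, hNbC, hNb1, hNb2⟩ := exists_normal_le_of_isPSolvable p hsolv' (C.map π) hCbar
  have := hNbn
  rcases hNb2 with hNbp | hNbc
  · -- `p`-group
    set M := Nb.comap π ⊓ C with hM
    have hMn : M.Normal := inferInstance
    set D : Subgroup M := U.subgroupOf M with hD
    have hDcen : D ≤ Subgroup.center M := by
      intro d hd
      rw [Subgroup.mem_center_iff]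
      intro y
      have hyC : (y : G) ∈ C := (inf_le_right : M ≤ C) y.2
      have hdU : (d : G) ∈ U := Subgroup.mem_subgroupOf.mp hd
      have h1 := Subgroup.mem_centralizer_iff.mp hyC (d : G) hdU
      apply Subtype.ext
      simpa using h1.symm
    have hDc : (Nat.card D).Coprime p := by
      have : Nat.card D ∣ Nat.card U := by
        have e : Nat.card D = Nat.card ↥(U ⊓ M) := by
          rw [hD, ← Subgroup.inf_subgroupOf_right]
          exact Nat.card_congr (Subgroup.subgroupOfEquivOfLe inf_le_right).toEquiv
        rw [e]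
        exact Subgroup.card_dvd_of_le inf_le_left
      exact Nat.Coprime.coprime_dvd_left this hUp
    have hDidx : D.index = Nat.card (M.map π) := by
      have h1 := Subgroup.relIndex_ker π (K := M)
      rw [QuotientGroup.ker_mk'] at h1
      exact h1
    have hMmap : M.map π ≤ Nb := by
      rintro _ ⟨y, hy, rfl⟩
      exact (Subgroup.mem_inf.mp hy).1
    obtain ⟨b, hb⟩ := IsPGroup.iff_card.mp hNbp
    have hidx : ∃ a, D.index = p ^ a := by
      rw [hDidx]
      have := Subgroup.card_dvd_of_le hMmap
      rw [hb] at this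
      obtain ⟨a, _, ha⟩ := (Nat.dvd_prime_pow hp.out).mp this
      exact ⟨a, ha⟩
    obtain ⟨a, ha⟩ := hidx
    have hcop : (Nat.card D).Coprime D.index := by
      rw [ha]
      exact Nat.Coprime.pow_right a hDc
    obtain ⟨K, hKcard, hKmem⟩ := exists_complement_of_central_coprime D hDcen hcop
    have hKn : (K.map M.subtype).Normal := by
      constructor
      rintro _ ⟨x, hx, rfl⟩ g
      have hgx : g * (x : G) * g⁻¹ ∈ M := hMn.conj_mem x x.2 g
      refine ⟨⟨_, hgx⟩, ?_, rfl⟩
      show (⟨_, hgx⟩ : M) ∈ K
      rw [hKmem]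
      have h1 := (hKmem x).mp hx
      have h2 : ((x : G)) ^ D.index = 1 := by
        have := congrArg Subtype.val h1
        simpa using this
      apply Subtype.ext
      simp only [SubmonoidClass.mk_pow, OneMemClass.coe_one]
      rw [conj_pow, h2, mul_one, mul_inv_cancel]
    have hKle : K.map M.subtype ≤ Cfsg.pCore p G := by
      apply le_pCore' p _ hKn
      apply IsPGroup.of_card (n := a)
      rw [Subgroup.card_map_of_injective M.subtype_injective, hKcard, ha]
    rw [hO, le_bot_iff] at hKle
    have hK1 : Nat.card K = 1 := by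
      have : K = ⊥ := by
        rw [eq_bot_iff]
        intro x hx
        have h1 : (x : G) ∈ K.map M.subtype := ⟨x, hx, rfl⟩
        rw [hKle, Subgroup.mem_bot] at h1
        rw [Subgroup.mem_bot]
        exact Subtype.ext h1
      rw [this]; exact Subgroup.card_bot
    rw [hKcard, hDidx] at hK1
    have hMbot : M.map π = ⊥ := Subgroup.card_eq_one.mp hK1
    apply hNb1
    rw [eq_bot_iff]
    intro x hx
    obtain ⟨c, hc, rfl⟩ := hNbC hx
    have : π c ∈ M.map π := Subgroup.mem_map_of_mem π (Subgroup.mem_inf.mpr ⟨hx, hc⟩)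
    rwa [hMbot] at this
  · -- `p'`-group: the preimage is a normal `p'`-subgroup
    have hpre : Nb.comap π ≤ U := by
      apply le_pPrimeCore p _ inferInstance
      have hcard := card_comap_mk' U Nb
      rw [hcard]
      exact Nat.Coprime.mul_left hUp hNbc
    apply hNb1
    rw [eq_bot_iff]
    intro x hx
    obtain ⟨y, rfl⟩ := hπ x
    have hy : y ∈ Nb.comap π := hx
    rw [Subgroup.mem_bot]
    exact (QuotientGroup.eq_one_iff y).mpr (hpre hy)

end Cfsg.Agent.Lib.Helper8.DualHH
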