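import Mathlib
import Cfsg.Prelude.Def_Transfer

set_option autoImplicit false

namespace Cfsg.Agent.Lib.Helper8

variable {G : Type*} [Group G]

/-- The closure of a conjugation-invariant set is normal. -/
theorem closure_normal_of_conj_invariant {S : Set G} (hS : ∀ g : G, ∀ s ∈ S, g * s * g⁻¹ ∈ S) :
    (Subgroup.closure S).Normal := by
  constructor
  intro n hn g
  induction hn using Subgroup.closure_induction with
  | mem x hx => exact Subgroup.subset_closure (hS g x hx)
  | one => simp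
  | mul x y _ _ hx hy =>
    have : g * (x * y) * g⁻¹ = (g * x * g⁻¹) * (g * y * g⁻¹) := by group
    rw [this]; exact Subgroup.mul_mem _ hx hy
  | inv x _ hx =>
    have : g * x⁻¹ * g⁻¹ = (g * x * g⁻¹)⁻¹ := by group
    rw [this]; exact Subgroup.inv_mem _ hx

theorem orderOf_conj' (g x : G) : orderOf (g * x * g⁻¹) = orderOf x := by
  have : g * x * g⁻¹ = MulAut.conj g x := by simp [MulAut.conj_apply]
  rw [this, MulEquiv.orderOf_eq]

theorem pResidual_normal (p : ℕ) (G : Type*) [Group G] : (Cfsg.pResidual p G).Normal := by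
  apply closure_normal_of_conj_invariant
  intro g s hs
  have hs' : Nat.Coprime (orderOf s) p := hs
  show Nat.Coprime (orderOf (g * s * g⁻¹)) p
  rw [orderOf_conj']; exact hs'

/-- Decomposition of an element of a finite group into its `p`-part and `p'`-part (both powers). -/
theorem exists_p_pprime_decomp [Finite G] (p : ℕ) [hp : Fact p.Prime] (x : G) :
    ∃ i j : ℤ, x = x ^ i * x ^ j ∧ (∃ k : ℕ, orderOf (x ^ i) = p ^ k) ∧
      Nat.Coprime (orderOf (x ^ j)) p := by
  have hn : orderOf x ≠ 0 := (orderOf_pos x).ne'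
  obtain ⟨a, m, hm, hnm⟩ := Nat.exists_eq_pow_mul_and_not_dvd hn p hp.out.ne_one
  have hcop : Nat.Coprime (p ^ a) m :=
    Nat.Coprime.pow_left a ((Nat.Prime.coprime_iff_not_dvd hp.out).mpr hm)
  -- Bezout
  have hb : ((p ^ a : ℕ) : ℤ) * Nat.gcdA (p ^ a) m + (m : ℤ) * Nat.gcdB (p ^ a) m = 1 := by
    have := Nat.gcd_eq_gcd_ab (p ^ a) m
    rw [hcop.gcd_eq_one] at this
    exact_mod_cast this.symm
  set u := Nat.gcdA (p ^ a) m
  set v := Nat.gcdB (p ^ a) m
  refine ⟨(m : ℤ) * v, ((p ^ a : ℕ) : ℤ) * u, ?_, ?_, ?_⟩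
  · rw [← zpow_add, add_comm, hb, zpow_one]
  · -- order of x^(m v) divides p^a
    have h1 : (x ^ ((m : ℤ) * v)) ^ (p ^ a) = 1 := by
      rw [← zpow_natCast, ← zpow_mul]
      have : (m : ℤ) * v * ((p ^ a : ℕ) : ℤ) = ((orderOf x : ℕ) : ℤ) * v := by
        rw [hnm]; push_cast; ring
      rw [this, zpow_mul, zpow_natCast, pow_orderOf_eq_one, one_zpow]
    have h2 := orderOf_dvd_of_pow_eq_one h1
    obtain ⟨k, _, hk⟩ := (Nat.dvd_prime_pow hp.out).mp h2
    exact ⟨k, hk⟩
  · have h1 : (x ^ (((p ^ a : ℕ) : ℤ) * u)) ^ m = 1 := by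
      rw [← zpow_natCast, ← zpow_mul]
      have : ((p ^ a : ℕ) : ℤ) * u * (m : ℤ) = ((orderOf x : ℕ) : ℤ) * u := by
        rw [hnm]; push_cast; ring
      rw [this, zpow_mul, zpow_natCast, pow_orderOf_eq_one, one_zpow]
    have h2 := orderOf_dvd_of_pow_eq_one h1
    exact Nat.Coprime.coprime_dvd_left h2 ((Nat.Prime.coprime_iff_not_dvd hp.out).mpr hm).symm


theorem map_pResidual_le (p : ℕ) (H : Subgroup G) :
    (Cfsg.pResidual p ↥H).map H.subtype ≤ Cfsg.pResidual p G := by
  unfold Cfsg.pResidual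
  rw [MonoidHom.map_closure, Subgroup.closure_le]
  rintro _ ⟨h, hh, rfl⟩
  apply Subgroup.subset_closure
  show Nat.Coprime (orderOf (h : G)) p
  rw [Subgroup.orderOf_coe]; exact hh

theorem isPGroup_quotient_pResidual [Finite G] (p : ℕ) [Fact p.Prime] (N : Subgroup G) [N.Normal]
    (hN : Cfsg.pResidual p G ≤ N) : IsPGroup p (G ⧸ N) := by
  intro q
  obtain ⟨h, rfl⟩ := QuotientGroup.mk_surjective q
  obtain ⟨i, j, hdec, ⟨k, hk⟩, hcop⟩ := exists_p_pprime_decomp p h
  refine ⟨k, ?_⟩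
  have hj : h ^ j ∈ N := hN (Subgroup.subset_closure hcop)
  have h1 : (QuotientGroup.mk h : G ⧸ N) = QuotientGroup.mk (h ^ i) := by
    conv_lhs => rw [hdec]
    rw [QuotientGroup.mk_mul, (QuotientGroup.eq_one_iff (h ^ j)).mpr hj, mul_one]
  rw [h1, ← QuotientGroup.mk_pow, ← hk, pow_orderOf_eq_one, QuotientGroup.mk_one]

theorem pResidual_eq_top_of_sup_commutator [Finite G] (p : ℕ) [Fact p.Prime]
    (h : Cfsg.pResidual p G ⊔ commutator G = ⊤) : Cfsg.pResidual p G = ⊤ := by
  have hnorm := pResidual_normal p G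
  set N := Cfsg.pResidual p G with hN
  have hp : IsPGroup p (G ⧸ N) := isPGroup_quotient_pResidual p N le_rfl
  have hnil : Group.IsNilpotent (G ⧸ N) := hp.isNilpotent
  by_contra hne
  have hnt : Nontrivial (G ⧸ N) := by
    rw [← not_subsingleton_iff_nontrivial]
    intro hs
    exact hne (QuotientGroup.subgroup_eq_top_of_subsingleton N hs)
  have hlt := Group.IsSolvable.commutator_lt_top_of_nontrivial (G ⧸ N)
  apply hlt.ne
  have h1 : (N ⊔ commutator G).map (QuotientGroup.mk' N) = ⊤ := by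
    rw [h, ← MonoidHom.range_eq_map, MonoidHom.range_eq_top]
    exact QuotientGroup.mk'_surjective N
  rw [Subgroup.map_sup] at h1
  have h2 : N.map (QuotientGroup.mk' N) = ⊥ := by
    rw [eq_bot_iff]
    rintro _ ⟨n, hn, rfl⟩
    rw [Subgroup.mem_bot]
    exact (QuotientGroup.eq_one_iff n).mpr hn
  rw [h2, bot_sup_eq, commutator_def, Subgroup.map_commutator] at h1
  rw [eq_top_iff, ← h1, commutator_def]
  exact Subgroup.commutator_mono le_top le_top

end Cfsg.Agent.Lib.Helper8
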