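import Mathlib
import Cfsg.Prelude.Def_Local

set_option autoImplicit false

namespace Cfsg.Agent.Lib.Helper8

open scoped commutatorElement

/-- commutator with a central factor removed -/
theorem commutatorElement_mul_central_left {X : Type*} [Group X] (n z y : X)
    (hz : z ∈ Subgroup.center X) : ⁅n * z, y⁆ = ⁅n, y⁆ := by
  have h1 : y * z = z * y := Subgroup.mem_center_iff.mp hz y
  rw [commutatorElement_def, commutatorElement_def]
  calc n * z * y * (n * z)⁻¹ * y⁻¹ = n * (z * y) * z⁻¹ * n⁻¹ * y⁻¹ := by group
    _ = n * (y * z) * z⁻¹ * n⁻¹ * y⁻¹ := by rw [h1]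
    _ = n * y * n⁻¹ * y⁻¹ := by group

theorem commutatorElement_mul_central_right {X : Type*} [Group X] (x n z : X)
    (hz : z ∈ Subgroup.center X) : ⁅x, n * z⁆ = ⁅x, n⁆ := by
  have h1 : x * z = z * x := Subgroup.mem_center_iff.mp hz x
  rw [commutatorElement_def, commutatorElement_def]
  calc x * (n * z) * x⁻¹ * (n * z)⁻¹ = x * n * (z * x⁻¹) * z⁻¹ * n⁻¹ := by group
    _ = x * n * (x⁻¹ * z) * z⁻¹ * n⁻¹ := by
        have : z * x⁻¹ = x⁻¹ * z := by
          calc z * x⁻¹ = x⁻¹ * (x * z) * x⁻¹ := by group
            _ = x⁻¹ * (z * x) * x⁻¹ := by rw [h1]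
            _ = x⁻¹ * z := by group
        rw [this]
    _ = x * n * x⁻¹ * n⁻¹ := by group

/-- If the image of `N` in `X / Z(X)` is everything, every element is `n * z`. -/
theorem exists_mul_central_of_map_eq_top {X : Type*} [Group X] (N : Subgroup X)
    (h : N.map (QuotientGroup.mk' (Subgroup.center X)) = ⊤) (x : X) :
    ∃ n ∈ N, ∃ z ∈ Subgroup.center X, x = n * z := by
  have hx : (QuotientGroup.mk' (Subgroup.center X)) x ∈
      N.map (QuotientGroup.mk' (Subgroup.center X)) := by rw [h]; trivial
  obtain ⟨n, hn, hnx⟩ := hx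
  refine ⟨n, hn, n⁻¹ * x, ?_, by group⟩
  exact QuotientGroup.eq.mp hnx

/-- In a quasisimple group, a normal subgroup is everything or central. -/
theorem quasisimple_normal {X : Type*} [Group X] (hX : Cfsg.IsQuasisimple X) (N : Subgroup X)
    (hN : N.Normal) : N = ⊤ ∨ N ≤ Subgroup.center X := by
  obtain ⟨hperf, hsimple⟩ := hX
  have hNbar : (N.map (QuotientGroup.mk' (Subgroup.center X))).Normal :=
    Subgroup.Normal.map hN _ (QuotientGroup.mk'_surjective _)
  rcases hNbar.eq_bot_or_eq_top with h | h
  · right
    intro n hn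
    have : (QuotientGroup.mk' (Subgroup.center X)) n ∈
        N.map (QuotientGroup.mk' (Subgroup.center X)) := Subgroup.mem_map_of_mem _ hn
    rw [h, Subgroup.mem_bot] at this
    exact (QuotientGroup.eq_one_iff n).mp this
  · left
    have hc : commutator X ≤ N := by
      rw [commutator_def, Subgroup.commutator_le]
      intro x _ y _
      obtain ⟨n, hn, z, hz, rfl⟩ := exists_mul_central_of_map_eq_top N h x
      rw [commutatorElement_mul_central_left n z y hz, commutatorElement_def]
      have : n * y * n⁻¹ * y⁻¹ = n * (y * n⁻¹ * y⁻¹) := by group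
      rw [this]
      exact N.mul_mem hn (hN.conj_mem _ (N.inv_mem hn) y)
    rw [hperf.commutator_eq_top] at hc
    exact top_le_iff.mp hc

/-- In a quasisimple group, every subnormal subgroup is the whole group or central (S1259). -/
theorem quasisimple_subnormal {X : Type*} [Group X] (hX : Cfsg.IsQuasisimple X) (H : Subgroup X)
    (hH : H.IsSubnormal) : H = ⊤ ∨ H ≤ Subgroup.center X := by
  induction hH with
  | top => exact Or.inl rfl
  | step H K hle hK hN ih =>
    rcases ih with rfl | h
    · apply quasisimple_normal hX H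
      constructor
      intro n hn g
      have := hN.conj_mem ⟨n, Subgroup.mem_top n⟩ (by simpa [Subgroup.mem_subgroupOf] using hn)
        ⟨g, Subgroup.mem_top g⟩
      simpa [Subgroup.mem_subgroupOf] using this
    · exact Or.inr (hle.trans h)


/-- If `X / Z(X)` is non-abelian simple then `X = X' Z(X)` (in the form: image of `X'` is everything). -/
theorem map_commutator_eq_top_of_simple_central_quotient {X : Type*} [Group X]
    (hs : IsSimpleGroup (X ⧸ Subgroup.center X))
    (hna : ¬ IsMulCommutative (X ⧸ Subgroup.center X)) :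
    (commutator X).map (QuotientGroup.mk' (Subgroup.center X)) = ⊤ := by
  have hn : (commutator X).Normal := inferInstance
  have hNbar : ((commutator X).map (QuotientGroup.mk' (Subgroup.center X))).Normal :=
    Subgroup.Normal.map hn _ (QuotientGroup.mk'_surjective _)
  rcases hNbar.eq_bot_or_eq_top with h | h
  · exfalso
    apply hna
    rw [isMulCommutative_iff]
    intro a b
    obtain ⟨x, rfl⟩ := QuotientGroup.mk_surjective a
    obtain ⟨y, rfl⟩ := QuotientGroup.mk_surjective b
    have h1 : ⁅x, y⁆ ∈ commutator X := by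
      rw [commutator_def]
      exact Subgroup.commutator_mem_commutator (Subgroup.mem_top _) (Subgroup.mem_top _)
    have h2 : (QuotientGroup.mk' (Subgroup.center X)) ⁅x, y⁆ ∈
        (commutator X).map (QuotientGroup.mk' (Subgroup.center X)) := Subgroup.mem_map_of_mem _ h1
    rw [h, Subgroup.mem_bot] at h2
    have h3 : (QuotientGroup.mk' (Subgroup.center X)) (x * y * x⁻¹ * y⁻¹) = 1 := h2
    simp only [map_mul, map_inv] at h3
    have h4 := mul_inv_eq_one.mp h3
    have h5 := mul_inv_eq_iff_eq_mul.mp h4
    exact h5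
  · exact h

theorem commutator_sup_center_eq_top {X : Type*} [Group X]
    (hs : IsSimpleGroup (X ⧸ Subgroup.center X))
    (hna : ¬ IsMulCommutative (X ⧸ Subgroup.center X)) :
    commutator X ⊔ Subgroup.center X = ⊤ := by
  rw [eq_top_iff]
  intro x _
  obtain ⟨n, hn, z, hz, rfl⟩ := exists_mul_central_of_map_eq_top (commutator X)
    (map_commutator_eq_top_of_simple_central_quotient hs hna) x
  exact Subgroup.mul_mem _ (Subgroup.mem_sup_left hn) (Subgroup.mem_sup_right hz)

/-- S1258: the commutator subgroup of a group with non-abelian simple central quotient is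
quasisimple. -/
theorem commutator_isQuasisimple {X : Type*} [Group X]
    (hs : IsSimpleGroup (X ⧸ Subgroup.center X))
    (hna : ¬ IsMulCommutative (X ⧸ Subgroup.center X)) :
    Cfsg.IsQuasisimple ↥(commutator X) := by
  have htop := map_commutator_eq_top_of_simple_central_quotient hs hna
  set D := commutator X with hD
  constructor
  · -- perfect
    rw [Subgroup.isPerfect_iff]
    apply le_antisymm (Subgroup.commutator_le_self D)
    conv_lhs => rw [hD, commutator_def]
    rw [Subgroup.commutator_le]
    intro x _ y _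
    obtain ⟨n, hn, z, hz, rfl⟩ := exists_mul_central_of_map_eq_top D htop x
    obtain ⟨n', hn', z', hz', rfl⟩ := exists_mul_central_of_map_eq_top D htop y
    rw [commutatorElement_mul_central_left n z _ hz, commutatorElement_mul_central_right n n' z' hz']
    exact Subgroup.commutator_mem_commutator hn hn'
  · -- D / Z(D) simple
    let φ : ↥D →* X ⧸ Subgroup.center X := (QuotientGroup.mk' (Subgroup.center X)).comp D.subtype
    have hφs : Function.Surjective φ := by
      intro q
      obtain ⟨x, rfl⟩ := QuotientGroup.mk_surjective q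
      obtain ⟨n, hn, z, hz, rfl⟩ := exists_mul_central_of_map_eq_top D htop x
      refine ⟨⟨n, hn⟩, ?_⟩
      show (QuotientGroup.mk n : X ⧸ Subgroup.center X) = QuotientGroup.mk (n * z)
      rw [QuotientGroup.eq]
      have : n⁻¹ * (n * z) = z := by group
      rw [this]; exact hz
    have hker : φ.ker = Subgroup.center ↥D := by
      ext d
      rw [MonoidHom.mem_ker]
      show (QuotientGroup.mk (d : X) : X ⧸ Subgroup.center X) = 1 ↔ _
      rw [QuotientGroup.eq_one_iff, Subgroup.mem_center_iff, Subgroup.mem_center_iff]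
      constructor
      · intro h g
        exact Subtype.ext (h g)
      · intro h x
        obtain ⟨n, hn, z, hz, rfl⟩ := exists_mul_central_of_map_eq_top D htop x
        have h1 : n * (d : X) = d * n := congrArg Subtype.val (h ⟨n, hn⟩)
        have h2 : (d : X) * z = z * d := Subgroup.mem_center_iff.mp hz d
        calc n * z * (d : X) = n * (z * d) := by group
          _ = n * (d * z) := by rw [h2]
          _ = (n * d) * z := by group
          _ = (d * n) * z := by rw [h1]
          _ = d * (n * z) := by group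
    have e1 : ↥D ⧸ φ.ker ≃* X ⧸ Subgroup.center X := QuotientGroup.quotientKerEquivOfSurjective φ hφs
    have e2 : ↥D ⧸ Subgroup.center ↥D ≃* ↥D ⧸ φ.ker := QuotientGroup.quotientMulEquivOfEq hker.symm
    exact (e2.trans e1).isSimpleGroup


theorem map_center_mulEquiv {H H' : Type*} [Group H] [Group H'] (e : H ≃* H') :
    (Subgroup.center H).map e.toMonoidHom = Subgroup.center H' := by
  ext x
  constructor
  · rintro ⟨z, hz, rfl⟩
    rw [Subgroup.mem_center_iff]
    intro y
    obtain ⟨w, rfl⟩ := e.surjective y
    have := Subgroup.mem_center_iff.mp hz w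
    change e w * e z = e z * e w
    rw [← map_mul, ← map_mul, this]
  · intro hx
    refine ⟨e.symm x, ?_, by simp⟩
    change e.symm x ∈ Subgroup.center H
    rw [Subgroup.mem_center_iff]
    intro y
    apply e.injective
    have := Subgroup.mem_center_iff.mp hx (e y)
    simpa using this

/-- quasisimplicity is invariant under isomorphism -/
theorem isQuasisimple_of_mulEquiv {H H' : Type*} [Group H] [Group H'] (e : H ≃* H')
    (h : Cfsg.IsQuasisimple H) : Cfsg.IsQuasisimple H' := by
  obtain ⟨hp, hs⟩ := h
  refine ⟨?_, ?_⟩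
  · exact Group.IsPerfect.ofSurjective (f := e.toMonoidHom) e.surjective
  · have e' : H ⧸ Subgroup.center H ≃* H' ⧸ Subgroup.center H' :=
      QuotientGroup.congr (Subgroup.center H) (Subgroup.center H') e (map_center_mulEquiv e)
    exact e'.symm.isSimpleGroup

theorem isQuasisimple_map_subtype_iff {G : Type*} [Group G] (H : Subgroup G) (K : Subgroup ↥H) :
    Cfsg.IsQuasisimple ↥(K.map H.subtype) ↔ Cfsg.IsQuasisimple ↥K := by
  have e : ↥K ≃* ↥(K.map H.subtype) := K.equivMapOfInjective H.subtype H.subtype_injective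
  exact ⟨isQuasisimple_of_mulEquiv e.symm, isQuasisimple_of_mulEquiv e⟩

theorem isQuasisimple_subgroupOf_iff {G : Type*} [Group G] {L N : Subgroup G} (hLN : L ≤ N) :
    Cfsg.IsQuasisimple ↥(L.subgroupOf N) ↔ Cfsg.IsQuasisimple ↥L := by
  have e : ↥(L.subgroupOf N) ≃* ↥L := Subgroup.subgroupOfEquivOfLe hLN
  exact ⟨isQuasisimple_of_mulEquiv e, isQuasisimple_of_mulEquiv e.symm⟩

/-- S1260 -/
theorem isComponent_map_subtype_iff {G : Type*} [Group G] (H : Subgroup G) (hH : H.IsSubnormal)
    (K : Subgroup ↥H) : Cfsg.IsComponent K ↔ Cfsg.IsComponent (K.map H.subtype) := by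
  unfold Cfsg.IsComponent
  rw [isQuasisimple_map_subtype_iff]
  constructor
  · rintro ⟨h1, h2⟩
    exact ⟨h1.trans' hH, h2⟩
  · rintro ⟨h1, h2⟩
    refine ⟨?_, h2⟩
    have : K = (K.map H.subtype).subgroupOf H := by
      rw [Subgroup.subgroupOf, Subgroup.comap_map_eq_self_of_injective H.subtype_injective]
    rw [this]
    exact h1.subgroupOf

/-- a component of `G` contained in a subgroup `N` is a component of `N` -/
theorem isComponent_subgroupOf {G : Type*} [Group G] {L N : Subgroup G} (hLN : L ≤ N)
    (hL : Cfsg.IsComponent L) : Cfsg.IsComponent (L.subgroupOf N) :=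
  ⟨hL.1.subgroupOf, (isQuasisimple_subgroupOf_iff hLN).mpr hL.2⟩


/-- A perfect subgroup `L` with `[A, L, L] = 1` satisfies `[A, L] = 1`. -/
theorem commutator_eq_bot_of_perfect {G : Type*} [Group G] (L A : Subgroup G) (hL : ⁅L, L⁆ = L)
    (h : ⁅⁅A, L⁆, L⁆ = ⊥) : ⁅A, L⁆ = ⊥ := by
  have h1 : ⁅⁅L, A⁆, L⁆ = ⊥ := by rw [Subgroup.commutator_comm L A]; exact h
  have h3 := Subgroup.commutator_commutator_eq_bot_of_rotate (H₁ := L) (H₂ := L) (H₃ := A) h1 h
  rw [hL] at h3
  rw [Subgroup.commutator_comm]; exact h3

theorem isComponent_perfect {G : Type*} [Group G] {L : Subgroup G} (hL : Cfsg.IsComponent L) :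
    ⁅L, L⁆ = L := by
  have := hL.2.1
  exact Subgroup.isPerfect_iff.mp this

theorem card_lt_of_lt_top {G : Type*} [Group G] [Finite G] {N : Subgroup G} (h : N < ⊤) :
    Nat.card N < Nat.card G := by
  apply lt_of_le_of_ne (Subgroup.card_le_card_group N)
  intro h1
  exact h.ne (Subgroup.eq_top_of_card_eq N h1)

theorem commutator_subgroupOf_eq_bot {G : Type*} [Group G] {L H N : Subgroup G} (hLN : L ≤ N)
    (hHN : H ≤ N) (h : ⁅L.subgroupOf N, H.subgroupOf N⁆ = ⊥) : ⁅L, H⁆ = ⊥ := by
  rw [Subgroup.commutator_eq_bot_iff_le_centralizer] at h ⊢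
  intro l hl
  rw [Subgroup.mem_centralizer_iff]
  intro x hx
  have h1 : (⟨l, hLN hl⟩ : N) ∈ L.subgroupOf N := by simpa [Subgroup.mem_subgroupOf] using hl
  have h2 := h h1
  rw [Subgroup.mem_centralizer_iff] at h2
  have h3 := h2 ⟨x, hHN hx⟩ (by simpa [Subgroup.mem_subgroupOf] using hx)
  exact congrArg Subtype.val h3

universe u in
/-- S1261 by induction on the order. -/
theorem component_le_or_commutator_eq_bot_aux : ∀ (n : ℕ) (G : Type u) [Group G] [Finite G],
    Nat.card G = n → ∀ (L H : Subgroup G), Cfsg.IsComponent L → H.IsSubnormal →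
      L ≤ H ∨ ⁅L, H⁆ = ⊥ := by
  intro n
  induction n using Nat.strong_induction_on with
  | _ n ih =>
    intro G _ _ hcard L H hL hH
    rcases hH.lt_normal with rfl | ⟨N, hNn, hHN, hNlt⟩
    · exact Or.inl le_top
    rcases hL.1.lt_normal with rfl | ⟨M, hMn, hLM, hMlt⟩
    · -- G itself is quasisimple
      have hq : Cfsg.IsQuasisimple G := isQuasisimple_of_mulEquiv Subgroup.topEquiv hL.2
      rcases quasisimple_subnormal hq H hH with rfl | hc
      · exact Or.inl le_rfl
      · right
        rw [Subgroup.commutator_comm, Subgroup.commutator_eq_bot_iff_le_centralizer]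
        intro h hh
        rw [Subgroup.mem_centralizer_iff]
        intro x _
        exact Subgroup.mem_center_iff.mp (hc hh) x
    by_cases hLN : L ≤ N
    · have hlt : Nat.card N < n := hcard ▸ card_lt_of_lt_top hNlt
      have := ih (Nat.card N) hlt ↥N rfl (L.subgroupOf N) (H.subgroupOf N)
        (isComponent_subgroupOf hLN hL) hH.subgroupOf
      rcases this with h | h
      · left
        intro l hl
        have h1 : (⟨l, hLN hl⟩ : N) ∈ L.subgroupOf N := by simpa [Subgroup.mem_subgroupOf] using hl
        have h2 := h h1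
        simpa [Subgroup.mem_subgroupOf] using h2
      · right
        exact commutator_subgroupOf_eq_bot hLN hHN h
    · right
      have hlt : Nat.card M < n := hcard ▸ card_lt_of_lt_top hMlt
      have hNM : (N ⊓ M).Normal := Subgroup.normal_inf_normal N M
      have hsn : ((N ⊓ M).subgroupOf M).IsSubnormal := hNM.isSubnormal.subgroupOf
      have := ih (Nat.card M) hlt ↥M rfl (L.subgroupOf M) ((N ⊓ M).subgroupOf M)
        (isComponent_subgroupOf hLM hL) hsn
      rcases this with h | h
      · exfalso
        apply hLN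
        intro l hl
        have h1 : (⟨l, hLM hl⟩ : M) ∈ L.subgroupOf M := by simpa [Subgroup.mem_subgroupOf] using hl
        have h2 := h h1
        rw [Subgroup.mem_subgroupOf] at h2
        exact h2.1
      · have h1 : ⁅L, N ⊓ M⁆ = ⊥ := commutator_subgroupOf_eq_bot hLM inf_le_right h
        have h2 : ⁅N, L⁆ ≤ N ⊓ M := by
          apply le_inf
          · exact Subgroup.commutator_le_left N L
          · exact (Subgroup.commutator_mono le_rfl hLM).trans (Subgroup.commutator_le_right N M)
        have h3 : ⁅⁅N, L⁆, L⁆ = ⊥ := by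
          rw [eq_bot_iff]
          calc ⁅⁅N, L⁆, L⁆ ≤ ⁅N ⊓ M, L⁆ := Subgroup.commutator_mono h2 le_rfl
            _ = ⁅L, N ⊓ M⁆ := Subgroup.commutator_comm _ _
            _ = ⊥ := h1
        have h4 := commutator_eq_bot_of_perfect L N (isComponent_perfect hL) h3
        rw [eq_bot_iff]
        calc ⁅L, H⁆ ≤ ⁅L, N⁆ := Subgroup.commutator_mono le_rfl hHN
          _ = ⁅N, L⁆ := Subgroup.commutator_comm _ _
          _ = ⊥ := h4

/-- S1261: a component and a subnormal subgroup. -/
theorem component_le_or_commutator_eq_bot {G : Type*} [Group G] [Finite G] (L H : Subgroup G)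
    (hL : Cfsg.IsComponent L) (hH : H.IsSubnormal) : L ≤ H ∨ ⁅L, H⁆ = ⊥ :=
  component_le_or_commutator_eq_bot_aux (Nat.card G) G rfl L H hL hH


theorem isQuasisimple_nontrivial {X : Type*} [Group X] (hX : Cfsg.IsQuasisimple X) : Nontrivial X := by
  have hs := hX.2
  have : Nontrivial (X ⧸ Subgroup.center X) := hs.toNontrivial
  exact Function.Surjective.nontrivial (QuotientGroup.mk_surjective (s := Subgroup.center X))

theorem isQuasisimple_not_isSolvable {X : Type*} [Group X] (hX : Cfsg.IsQuasisimple X) :
    ¬ Group.IsSolvable X := by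
  have := isQuasisimple_nontrivial hX
  have := hX.1
  exact Group.IsPerfect.not_isSolvable X

/-- S1262: a component centralizes every solvable subgroup it normalizes. -/
theorem component_commutator_solvable_eq_bot {G : Type*} [Group G] [Finite G] (L H : Subgroup G)
    (hL : Cfsg.IsComponent L) (hsolv : Group.IsSolvable ↥H)
    (hinv : L ≤ Subgroup.normalizer (H : Set G)) : ⁅L, H⁆ = ⊥ := by
  set X := L ⊔ H with hX
  have hLX : L ≤ X := le_sup_left
  have hHX : H ≤ X := le_sup_right
  have hXn : X ≤ Subgroup.normalizer (H : Set G) := sup_le hinv Subgroup.le_normalizer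
  have hHn : (H.subgroupOf X).Normal := (Subgroup.normal_subgroupOf_iff_le_normalizer hHX).mpr hXn
  rcases component_le_or_commutator_eq_bot (L.subgroupOf X) (H.subgroupOf X)
    (isComponent_subgroupOf hLX hL) hHn.isSubnormal with h | h
  · exfalso
    have hLH : L ≤ H := by
      intro l hl
      have h1 : (⟨l, hLX hl⟩ : X) ∈ L.subgroupOf X := by simpa [Subgroup.mem_subgroupOf] using hl
      have h2 := h h1
      simpa [Subgroup.mem_subgroupOf] using h2
    have : Group.IsSolvable ↥L :=
      Group.isSolvable_of_isSolvable_injective (Subgroup.inclusion_injective hLH)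
    exact isQuasisimple_not_isSolvable hL.2 this
  · exact commutator_subgroupOf_eq_bot hLX hHX h

end Cfsg.Agent.Lib.Helper8
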