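import Mathlib
import Cfsg.Prelude.Def_Local
import Cfsg.Agent.Lib.Helper8.Components

set_option autoImplicit false

namespace Cfsg.Agent.Lib.Helper8

/-- The centre of a subgroup, viewed in the ambient group. -/
theorem mem_center_map {G : Type*} [Group G] (A : Subgroup G) (x : G) :
    x ∈ (Subgroup.center ↥A).map A.subtype ↔ x ∈ A ∧ ∀ b ∈ A, b * x = x * b := by
  constructor
  · rintro ⟨a, ha, rfl⟩
    refine ⟨a.2, ?_⟩
    intro b hb
    have := Subgroup.mem_center_iff.mp ha ⟨b, hb⟩
    exact congrArg Subtype.val this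
  · rintro ⟨hx, hc⟩
    refine ⟨⟨x, hx⟩, ?_, rfl⟩
    show (⟨x, hx⟩ : A) ∈ Subgroup.center ↥A
    rw [Subgroup.mem_center_iff]
    intro b
    exact Subtype.ext (hc b b.2)

/-- Elementwise commuting subgroups: elements of the join are products. -/
theorem mem_sup_of_commute {G : Type*} [Group G] {A B : Subgroup G}
    (h : ∀ a ∈ A, ∀ b ∈ B, a * b = b * a) {x : G} (hx : x ∈ A ⊔ B) :
    ∃ a ∈ A, ∃ b ∈ B, x = a * b := by
  rw [Subgroup.sup_eq_closure] at hx
  induction hx using Subgroup.closure_induction with
  | mem x hx =>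
    rcases hx with hx | hx
    · exact ⟨x, hx, 1, B.one_mem, by simp⟩
    · exact ⟨1, A.one_mem, x, hx, by simp⟩
  | one => exact ⟨1, A.one_mem, 1, B.one_mem, by simp⟩
  | mul x y _ _ hx hy =>
    obtain ⟨a, ha, b, hb, rfl⟩ := hx
    obtain ⟨a', ha', b', hb', rfl⟩ := hy
    refine ⟨a * a', A.mul_mem ha ha', b * b', B.mul_mem hb hb', ?_⟩
    have := h a' ha' b hb
    calc a * b * (a' * b') = a * (b * a') * b' := by group
      _ = a * (a' * b) * b' := by rw [this]
      _ = a * a' * (b * b') := by group
  | inv x _ hx =>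
    obtain ⟨a, ha, b, hb, rfl⟩ := hx
    refine ⟨a⁻¹, A.inv_mem ha, b⁻¹, B.inv_mem hb, ?_⟩
    have := h a ha b hb
    calc (a * b)⁻¹ = (b * a)⁻¹ := by rw [this]
      _ = a⁻¹ * b⁻¹ := by group

/-- distinct components commute elementwise -/
theorem components_commute {G : Type*} [Group G] [Finite G] {L₁ L₂ : Subgroup G}
    (h₁ : Cfsg.IsComponent L₁) (h₂ : Cfsg.IsComponent L₂) (hne : L₁ ≠ L₂) : ⁅L₁, L₂⁆ = ⊥ := by
  rcases component_le_or_commutator_eq_bot L₁ L₂ h₁ h₂.1 with h | h
  · exfalso
    have hsn : (L₁.subgroupOf L₂).IsSubnormal := h₁.1.subgroupOf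
    rcases quasisimple_subnormal h₂.2 _ hsn with h3 | h3
    · apply hne
      apply le_antisymm h
      intro x hx
      have : (⟨x, hx⟩ : L₂) ∈ L₁.subgroupOf L₂ := by rw [h3]; trivial
      simpa [Subgroup.mem_subgroupOf] using this
    · -- L₁ central in L₂, so abelian, so solvable
      apply isQuasisimple_not_isSolvable h₁.2
      have hcomm : ∀ a b : L₁, a * b = b * a := by
        intro a b
        have ha : (⟨a, h a.2⟩ : L₂) ∈ Subgroup.center L₂ :=
          h3 (by simp [Subgroup.mem_subgroupOf])
        have := Subgroup.mem_center_iff.mp ha ⟨b, h b.2⟩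
        have h4 := congrArg Subtype.val this
        apply Subtype.ext
        simpa using h4.symm
      let _ : CommGroup ↥L₁ := { (inferInstance : Group ↥L₁) with mul_comm := hcomm }
      infer_instance
  · exact h

theorem commute_of_commutator_eq_bot {G : Type*} [Group G] {A B : Subgroup G} (h : ⁅A, B⁆ = ⊥) :
    ∀ a ∈ A, ∀ b ∈ B, a * b = b * a := by
  intro a ha b hb
  rw [Subgroup.commutator_eq_bot_iff_le_centralizer] at h
  have := h ha
  rw [Subgroup.mem_centralizer_iff] at this
  exact (this b hb).symm

/-- The centre of a join of finitely many pairwise commuting subgroups. -/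
theorem center_biSup_le {G : Type*} [Group G] (S : Finset (Subgroup G)) :
    (∀ L ∈ S, ∀ L' ∈ S, L ≠ L' → ∀ a ∈ L, ∀ b ∈ L', a * b = b * a) →
    ∀ x ∈ (⨆ L ∈ S, L), (∀ y ∈ (⨆ L ∈ S, L), y * x = x * y) →
      x ∈ ⨆ L ∈ S, (Subgroup.center ↥L).map L.subtype := by
  classical
  induction S using Finset.induction_on with
  | empty =>
    intro _ x hx _
    simp only [Finset.notMem_empty, iSup_false, iSup_bot, Subgroup.mem_bot] at hx ⊢
    exact hx
  | insert L S hL ih =>
    intro hS x hx hc
    rw [Finset.iSup_insert] at hx hc ⊢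
    set E' := ⨆ L ∈ S, L with hE'
    have hcomm : ∀ a ∈ L, ∀ b ∈ E', a * b = b * a := by
      intro a ha b hb
      have hle : E' ≤ Subgroup.centralizer ({a} : Set G) := by
        rw [hE']
        apply iSup₂_le
        intro L' hL' b' hb'
        rw [Subgroup.mem_centralizer_singleton_iff]
        have hne : L ≠ L' := by
          intro h; rw [h] at hL; exact hL hL'
        exact (hS L (Finset.mem_insert_self L S) L' (Finset.mem_insert_of_mem hL') hne a ha b' hb').symm
      have := hle hb
      rw [Subgroup.mem_centralizer_singleton_iff] at this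
      exact this.symm
    obtain ⟨l, hl, e, he, rfl⟩ := mem_sup_of_commute hcomm hx
    have hlZ : l ∈ (Subgroup.center ↥L).map L.subtype := by
      rw [mem_center_map]
      refine ⟨hl, ?_⟩
      intro y hy
      have h1 := hc y (Subgroup.mem_sup_left hy)
      have h2 := hcomm y hy e he
      -- y * (l * e) = (l * e) * y, y e = e y ⇒ y l = l y
      have : y * l * e = l * y * e := by
        calc y * l * e = y * (l * e) := by group
          _ = l * e * y := h1
          _ = l * (e * y) := by group
          _ = l * (y * e) := by rw [h2]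
          _ = l * y * e := by group
      exact mul_right_cancel this
    have heZ : e ∈ ⨆ L ∈ S, (Subgroup.center ↥L).map L.subtype := by
      apply ih
      · intro L₁ h₁ L₂ h₂ hne
        exact hS L₁ (Finset.mem_insert_of_mem h₁) L₂ (Finset.mem_insert_of_mem h₂) hne
      · exact he
      · intro y hy
        have h1 := hc y (Subgroup.mem_sup_right hy)
        have h2 := hcomm l hl y hy
        have : l * (y * e) = l * (e * y) := by
          calc l * (y * e) = (l * y) * e := by group
            _ = (y * l) * e := by rw [h2]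
            _ = y * (l * e) := by group
            _ = l * e * y := h1
            _ = l * (e * y) := by group
        exact mul_left_cancel this
    exact Subgroup.mul_mem _ (Subgroup.mem_sup_left hlZ) (Subgroup.mem_sup_right heZ)

/-- S1263: `Z(E(G))` is generated by the centres of the components. -/
theorem center_layer {G : Type*} [Group G] [Finite G] :
    (Subgroup.center ↥(Cfsg.layer G)).map (Cfsg.layer G).subtype =
      ⨆ L : {K : Subgroup G // Cfsg.IsComponent K},
        (Subgroup.center ↥(L : Subgroup G)).map (L : Subgroup G).subtype := by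
  classical
  have hfin : {K : Subgroup G | Cfsg.IsComponent K}.Finite := Set.toFinite _
  set S := hfin.toFinset with hS
  have hmem : ∀ K, K ∈ S ↔ Cfsg.IsComponent K := by
    intro K; rw [hS, Set.Finite.mem_toFinset]; rfl
  have hlayer : Cfsg.layer G = ⨆ L ∈ S, L := by
    unfold Cfsg.layer
    rw [sSup_eq_iSup]
    apply le_antisymm
    · apply iSup₂_le
      intro K hK
      exact le_iSup₂_of_le K ((hmem K).mpr hK) le_rfl
    · apply iSup₂_le
      intro K hK
      exact le_iSup₂_of_le K ((hmem K).mp hK) le_rfl
  have hrhs : (⨆ L : {K : Subgroup G // Cfsg.IsComponent K},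
      (Subgroup.center ↥(L : Subgroup G)).map (L : Subgroup G).subtype) =
      ⨆ L ∈ S, (Subgroup.center ↥L).map L.subtype := by
    apply le_antisymm
    · apply iSup_le
      intro L
      exact le_iSup₂_of_le L.1 ((hmem _).mpr L.2) le_rfl
    · apply iSup₂_le
      intro K hK
      exact le_iSup_of_le ⟨K, (hmem K).mp hK⟩ le_rfl
  have hpair : ∀ L ∈ S, ∀ L' ∈ S, L ≠ L' → ∀ a ∈ L, ∀ b ∈ L', a * b = b * a := by
    intro L hL L' hL' hne
    exact commute_of_commutator_eq_bot
      (components_commute ((hmem L).mp hL) ((hmem L').mp hL') hne)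
  rw [hrhs]
  apply le_antisymm
  · intro x hx
    rw [mem_center_map] at hx
    obtain ⟨hxE, hxc⟩ := hx
    rw [hlayer] at hxE hxc
    exact center_biSup_le S hpair x hxE hxc
  · apply iSup₂_le
    intro L hL x hx
    rw [mem_center_map] at hx ⊢
    obtain ⟨hxL, hxc⟩ := hx
    have hLE : L ≤ Cfsg.layer G := by
      rw [hlayer]; exact le_iSup₂_of_le L hL le_rfl
    refine ⟨hLE hxL, ?_⟩
    -- the layer lies in the centralizer of x
    have hle : Cfsg.layer G ≤ Subgroup.centralizer ({x} : Set G) := by
      rw [hlayer]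
      apply iSup₂_le
      intro L' hL' b hb
      rw [Subgroup.mem_centralizer_singleton_iff]
      by_cases hLL : L = L'
      · subst hLL; exact hxc b hb
      · exact (hpair L hL L' hL' hLL x hxL b hb).symm
    intro b hb
    have := hle hb
    rw [Subgroup.mem_centralizer_singleton_iff] at this
    exact this

end Cfsg.Agent.Lib.Helper8
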