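import Mathlib
import Cfsg.Prelude.Def_Local
import Cfsg.Agent.Lib.Helper1.Fitting

set_option autoImplicit false

namespace Cfsg.Agent.Lib.Helper8

open Cfsg.Agent.Lib.Helper1 in
theorem fittingSubgroup_map_equiv_le {G G' : Type*} [Group G] [Group G'] (φ : G ≃* G') :
    (Cfsg.fittingSubgroup G).map φ.toMonoidHom ≤ Cfsg.fittingSubgroup G' := by
  rw [Subgroup.map_le_iff_le_comap]
  apply sSup_le
  rintro N ⟨hN, hnil⟩
  rw [← Subgroup.map_le_iff_le_comap]
  apply le_fittingSubgroup
  · exact Subgroup.Normal.map hN _ φ.surjective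
  · have e : ↥N ≃* ↥(N.map φ.toMonoidHom) := N.equivMapOfInjective _ φ.injective
    exact Group.nilpotent_of_mulEquiv e

theorem fittingSubgroup_map_equiv {G G' : Type*} [Group G] [Group G'] (φ : G ≃* G') :
    (Cfsg.fittingSubgroup G).map φ.toMonoidHom = Cfsg.fittingSubgroup G' := by
  apply le_antisymm (fittingSubgroup_map_equiv_le φ)
  intro x hx
  have h1 := fittingSubgroup_map_equiv_le φ.symm
  have h2 : φ.symm.toMonoidHom x ∈ Cfsg.fittingSubgroup G := h1 (Subgroup.mem_map_of_mem _ hx)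
  refine ⟨φ.symm x, h2, ?_⟩
  simp

/-- For a normal subgroup `H` of `K`, `F(H)` viewed in `K` is normal in `K`. -/
theorem fitting_map_subtype_normal {K : Type*} [Group K] (H : Subgroup K) [hH : H.Normal] :
    ((Cfsg.fittingSubgroup ↥H).map H.subtype).Normal := by
  constructor
  rintro _ ⟨y, hy, rfl⟩ k
  have h1 := fittingSubgroup_map_equiv (MulAut.conjNormal k : ↥H ≃* ↥H)
  have h2 : (MulAut.conjNormal k : ↥H ≃* ↥H) y ∈ Cfsg.fittingSubgroup ↥H := by
    rw [← h1]; exact Subgroup.mem_map_of_mem _ hy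
  refine ⟨_, h2, ?_⟩
  simp [MulAut.conjNormal_apply]

open Cfsg.Agent.Lib.Helper1 in
/-- For a normal subgroup `H` of a finite group `K`, `F(H) ≤ F(K)`. -/
theorem fitting_map_subtype_le {K : Type*} [Group K] [Finite K] (H : Subgroup K) [hH : H.Normal] :
    (Cfsg.fittingSubgroup ↥H).map H.subtype ≤ Cfsg.fittingSubgroup K := by
  apply le_fittingSubgroup (fitting_map_subtype_normal H)
  have hnil : Group.IsNilpotent ↥(Cfsg.fittingSubgroup ↥H) := fittingSubgroup_isNilpotent ↥H
  have e : ↥(Cfsg.fittingSubgroup ↥H) ≃* ↥((Cfsg.fittingSubgroup ↥H).map H.subtype) :=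
    (Cfsg.fittingSubgroup ↥H).equivMapOfInjective _ H.subtype_injective
  exact Group.nilpotent_of_mulEquiv e

/-- For a subnormal subgroup `K` of a finite group `G`, `F(K) ≤ F(G)`. -/
theorem fitting_subnormal_le {G : Type*} [Group G] [Finite G] (K : Subgroup G)
    (hK : K.IsSubnormal) : (Cfsg.fittingSubgroup ↥K).map K.subtype ≤ Cfsg.fittingSubgroup G := by
  induction hK with
  | top =>
    have := fittingSubgroup_map_equiv (Subgroup.topEquiv : ↥(⊤ : Subgroup G) ≃* G)
    rw [← this]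
    rintro _ ⟨y, hy, rfl⟩
    exact ⟨y, hy, rfl⟩
  | step H K hle hK hN ih =>
    refine le_trans ?_ ih
    -- F(H) ≤ F(K) inside G
    have h1 := fittingSubgroup_map_equiv (Subgroup.subgroupOfEquivOfLe hle)
    have h2 := fitting_map_subtype_le (H.subgroupOf K)
    rintro _ ⟨y, hy, rfl⟩
    rw [← h1] at hy
    obtain ⟨y', hy', rfl⟩ := hy
    have h3 : ((y' : ↥(H.subgroupOf K)) : ↥K) ∈ Cfsg.fittingSubgroup ↥K :=
      h2 ⟨y', hy', rfl⟩
    refine ⟨_, h3, ?_⟩
    rfl

open Cfsg.Agent.Lib.Helper1 in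
/-- A subnormal nilpotent subgroup of a finite group lies in the Fitting subgroup. -/
theorem subnormal_nilpotent_le_fitting {G : Type*} [Group G] [Finite G] (A : Subgroup G)
    (hA : A.IsSubnormal) (hnil : Group.IsNilpotent ↥A) : A ≤ Cfsg.fittingSubgroup G := by
  have h1 : Cfsg.fittingSubgroup ↥A = ⊤ := by
    rw [eq_top_iff]
    apply le_fittingSubgroup (inferInstance : (⊤ : Subgroup ↥A).Normal)
    exact Group.nilpotent_of_mulEquiv (Subgroup.topEquiv : ↥(⊤ : Subgroup ↥A) ≃* ↥A).symm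
  have h2 := fitting_subnormal_le A hA
  rw [h1] at h2
  intro a ha
  exact h2 ⟨⟨a, ha⟩, Subgroup.mem_top _, rfl⟩

theorem isNilpotent_of_commutator_le_center {A : Type*} [Group A]
    (h : commutator A ≤ Subgroup.center A) : Group.IsNilpotent A :=
  Subgroup.isNilpotent_of_ker_le_center Abelianization.of (by rw [Abelianization.ker_of]; exact h)

/-- A subgroup `A ≤ G` with `[[A,A],A] = 1` is nilpotent. -/
theorem isNilpotent_of_commutator_commutator_eq_bot {G : Type*} [Group G] (A : Subgroup G)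
    (h : ⁅⁅A, A⁆, A⁆ = ⊥) : Group.IsNilpotent ↥A := by
  apply isNilpotent_of_commutator_le_center
  intro x hx
  rw [Subgroup.mem_center_iff]
  intro b
  have hx' : (x : G) ∈ ⁅A, A⁆ := by
    rw [← Subgroup.map_subtype_commutator]
    exact ⟨x, hx, rfl⟩
  rw [Subgroup.commutator_eq_bot_iff_le_centralizer] at h
  have := h hx'
  rw [Subgroup.mem_centralizer_iff] at this
  exact Subtype.ext (this b b.2)

end Cfsg.Agent.Lib.Helper8
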