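import Mathlib
import Cfsg.Prelude.Def_Local
import Cfsg.Agent.Lib.Helper8.Components
import Cfsg.Agent.Lib.Helper8.Conj
import Cfsg.Agent.Lib.Helper8.FittingSub

set_option autoImplicit false

namespace Cfsg.Agent.Lib.Helper8

theorem isComponent_map_conj {G : Type*} [Group G] {L : Subgroup G} (hL : Cfsg.IsComponent L)
    (g : G) : Cfsg.IsComponent (L.map (MulAut.conj g).toMonoidHom) := by
  refine ⟨hL.1.map (MulAut.conj g).surjective, ?_⟩
  have e : ↥L ≃* ↥(L.map (MulAut.conj g).toMonoidHom) :=
    L.equivMapOfInjective _ (MulAut.conj g).injective
  exact isQuasisimple_of_mulEquiv e hL.2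

theorem component_le_layer {G : Type*} [Group G] {L : Subgroup G} (hL : Cfsg.IsComponent L) :
    L ≤ Cfsg.layer G := le_sSup hL

theorem layer_normal (G : Type*) [Group G] : (Cfsg.layer G).Normal := by
  have key : ∀ g : G, (Cfsg.layer G).map (MulAut.conj g).toMonoidHom ≤ Cfsg.layer G := by
    intro g
    rw [Subgroup.map_le_iff_le_comap]
    apply sSup_le
    intro L hL
    rw [← Subgroup.map_le_iff_le_comap]
    exact component_le_layer (isComponent_map_conj hL g)
  constructor
  intro n hn g
  exact key g (conj_mem_map_conj hn)

open Cfsg.Agent.Lib.Helper1 in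
theorem generalizedFittingSubgroup_normal (G : Type*) [Group G] :
    (Cfsg.generalizedFittingSubgroup G).Normal := by
  have h1 := layer_normal G
  have h2 := fittingSubgroup_normal G
  unfold Cfsg.generalizedFittingSubgroup
  infer_instance

/-- Key step for `C(F*) ≤ F*`. -/
theorem subnormal_le_fstar_of_le_centralizer {G : Type*} [Group G] [Finite G] :
    ∀ (n : ℕ) (K : Subgroup G), Nat.card K = n → K.IsSubnormal →
      K ≤ Subgroup.centralizer (Cfsg.generalizedFittingSubgroup G : Set G) →
      K ≤ Cfsg.generalizedFittingSubgroup G := by
  intro n
  induction n using Nat.strong_induction_on with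
  | _ n ih =>
    intro K hcard hKsn hKC
    set Fs := Cfsg.generalizedFittingSubgroup G with hFs
    -- proper subnormal subgroups of K lie in F*
    have hprop : ∀ K₀ : Subgroup G, K₀ ≤ K → (K₀.subgroupOf K).IsSubnormal → K₀ ≠ K → K₀ ≤ Fs := by
      intro K₀ hle hsn hne
      have hlt : Nat.card K₀ < n := by
        rw [← hcard]
        apply lt_of_le_of_ne (Subgroup.card_le_of_le hle)
        intro h
        exact hne (Subgroup.eq_of_le_of_card_ge hle h.ge)
      exact ih _ hlt K₀ rfl (Subgroup.IsSubnormal.trans hle hsn hKsn) (hle.trans hKC)
    -- elements of K commute with elements of F*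
    have hcomm : ∀ k ∈ K, ∀ f ∈ Fs, f * k = k * f := by
      intro k hk f hf
      have := hKC hk
      rw [Subgroup.mem_centralizer_iff] at this
      exact this f hf
    by_cases hperf : ⁅K, K⁆ = K
    · -- K is trivial or a component
      by_cases hbot : K = ⊥
      · rw [hbot]; exact bot_le
      have hP : Group.IsPerfect ↥K := Subgroup.isPerfect_iff.mpr hperf
      have hnt : Nontrivial ↥K := by
        rw [Subgroup.nontrivial_iff_ne_bot]; exact hbot
      -- normal subgroups of K are ⊤ or central
      have hnormal : ∀ M : Subgroup ↥K, M.Normal → M = ⊤ ∨ M ≤ Subgroup.center ↥K := by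
        intro M hM
        by_cases hMK : M.map K.subtype = K
        · left
          rw [eq_top_iff]
          intro x _
          have : (x : G) ∈ M.map K.subtype := by rw [hMK]; exact x.2
          obtain ⟨y, hy, hyx⟩ := this
          have : y = x := Subtype.ext hyx
          rw [← this]; exact hy
        · right
          have hle : M.map K.subtype ≤ K := Subgroup.map_subtype_le M
          have hsn : ((M.map K.subtype).subgroupOf K).IsSubnormal := by
            have : (M.map K.subtype).subgroupOf K = M := by
              rw [Subgroup.subgroupOf, Subgroup.comap_map_eq_self_of_injective K.subtype_injective]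
            rw [this]; exact hM.isSubnormal
          have h1 := hprop _ hle hsn hMK
          intro m hm
          rw [Subgroup.mem_center_iff]
          intro k
          have h2 : (m : G) ∈ Fs := h1 ⟨m, hm, rfl⟩
          exact Subtype.ext (hcomm k k.2 m h2).symm
      have hcomp : Cfsg.IsComponent K := by
        refine ⟨hKsn, hP, ?_⟩
        have hntq : Nontrivial (↥K ⧸ Subgroup.center ↥K) := by
          by_contra hcon
          rw [not_nontrivial_iff_subsingleton] at hcon
          have htop : Subgroup.center ↥K = ⊤ :=
            QuotientGroup.subgroup_eq_top_of_subsingleton _ hcon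
          have hc : IsMulCommutative ↥K := by
            rw [isMulCommutative_iff]
            intro a b
            have : a ∈ Subgroup.center ↥K := by rw [htop]; trivial
            exact (Subgroup.mem_center_iff.mp this b).symm
          have := Group.IsPerfect.subsingleton_of_isMulCommutative (G := ↥K)
          exact not_subsingleton ↥K this
        refine { exists_pair_ne := hntq.exists_pair_ne, eq_bot_or_eq_top_of_normal := ?_ }
        intro N hN
        have hM : (N.comap (QuotientGroup.mk' (Subgroup.center ↥K))).Normal := hN.comap _
        rcases hnormal _ hM with h | h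
        · right
          rw [eq_top_iff]
          intro q _
          obtain ⟨x, rfl⟩ := QuotientGroup.mk_surjective q
          have : x ∈ N.comap (QuotientGroup.mk' (Subgroup.center ↥K)) := by rw [h]; trivial
          exact this
        · left
          rw [eq_bot_iff]
          intro q hq
          obtain ⟨x, rfl⟩ := QuotientGroup.mk_surjective q
          have hx : x ∈ N.comap (QuotientGroup.mk' (Subgroup.center ↥K)) := hq
          rw [Subgroup.mem_bot]
          exact (QuotientGroup.eq_one_iff x).mpr (h hx)
      exact (component_le_layer hcomp).trans le_sup_left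
    · -- K' is a proper normal subgroup, so central; K nilpotent
      have hle : ⁅K, K⁆ ≤ K := Subgroup.commutator_le_self K
      have hsn : ((⁅K, K⁆).subgroupOf K).IsSubnormal := by
        have : (⁅K, K⁆).subgroupOf K = commutator ↥K := by
          rw [← Subgroup.map_subtype_commutator, Subgroup.subgroupOf,
            Subgroup.comap_map_eq_self_of_injective K.subtype_injective]
        rw [this]
        exact (inferInstance : (commutator ↥K).Normal).isSubnormal
      have h1 := hprop _ hle hsn hperf
      have h2 : ⁅⁅K, K⁆, K⁆ = ⊥ := by
        rw [Subgroup.commutator_eq_bot_iff_le_centralizer]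
        intro x hx
        rw [Subgroup.mem_centralizer_iff]
        intro k hk
        exact (hcomm k hk x (h1 hx)).symm
      have h3 := subnormal_nilpotent_le_fitting K hKsn
        (isNilpotent_of_commutator_commutator_eq_bot K h2)
      exact h3.trans le_sup_right

/-- S1265: `C_G(F*(G)) ≤ F*(G)`. -/
theorem centralizer_fstar_le {G : Type*} [Group G] [Finite G] :
    Subgroup.centralizer (Cfsg.generalizedFittingSubgroup G : Set G) ≤
      Cfsg.generalizedFittingSubgroup G := by
  have hn := generalizedFittingSubgroup_normal G
  have hCn : (Subgroup.centralizer (Cfsg.generalizedFittingSubgroup G : Set G)).Normal :=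
    Subgroup.normal_centralizer
  exact subnormal_le_fstar_of_le_centralizer _ _ rfl hCn.isSubnormal le_rfl

end Cfsg.Agent.Lib.Helper8
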