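import Mathlib
import Cfsg.Prelude.Def_PLocal
import Cfsg.Agent.Lib.Helper1.Fitting
import Cfsg.Agent.Lib.Helper9.FStar2
import Cfsg.Agent.Lib.Helper17.Bender

/-!
# A `p`-element acting trivially on the `q`-cores (`q ≠ p`) and "inside `O_p` modulo `C(O_p)`"
lies in `O_p` (helper8)

Used for the centralizer of an `SCN`-subgroup of the Fitting subgroup of a Hall subgroup.
-/

set_option autoImplicit false
set_option linter.unusedSectionVars false
set_option linter.unusedVariables false

namespace Cfsg.Agent.Lib.Helper8.HallSCN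

open Subgroup

variable {G : Type*} [Group G] [Finite G]

/-- In a finite solvable group the Fitting subgroup contains its centralizer. -/
theorem centralizer_fitting_le [Group.IsSolvable G] :
    centralizer (Cfsg.fittingSubgroup G : Set G) ≤ Cfsg.fittingSubgroup G := by
  have h : Cfsg.layer G = ⊥ :=
    Cfsg.Agent.Lib.Helper9.layer_eq_bot_of_le_isSolvable (Y := ⊤) inferInstance le_top
  have h1 : Cfsg.generalizedFittingSubgroup G = Cfsg.fittingSubgroup G := by
    unfold Cfsg.generalizedFittingSubgroup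
    rw [h, bot_sup_eq]
  have h2 := Cfsg.Agent.Lib.Helper9.centralizer_generalizedFittingSubgroup_le (G := G)
  rw [h1] at h2
  exact h2

/-- `G` finite solvable, `x` a `p`-element centralizing `O_q(G)` for all primes `q ≠ p` and with
image in `O_p(G / C_G(O_p(G)))`.  Then `x ∈ O_p(G)`. -/
theorem mem_pCore_of_mem_pCore_quotient [Group.IsSolvable G] (p : ℕ) [hp : Fact p.Prime] (x : G)
    (h1 : ∀ q : ℕ, q.Prime → q ≠ p → x ∈ centralizer (Cfsg.pCore q G : Set G))
    (h2 : (QuotientGroup.mk x : G ⧸ centralizer (Cfsg.pCore p G : Set G)) ∈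
      Cfsg.pCore p (G ⧸ centralizer (Cfsg.pCore p G : Set G)))
    (h3 : ∃ n : ℕ, x ^ (p ^ n) = 1) : x ∈ Cfsg.pCore p G := by
  classical
  set V := Cfsg.pCore p G with hV
  set C := centralizer (V : Set G) with hC
  set R : Subgroup G := ⨆ q : {q : ℕ // q.Prime ∧ q ≠ p}, Cfsg.pCore (q : ℕ) G with hR
  have hRn : R.Normal := inferInstance
  set E : Subgroup G :=
    (Cfsg.pCore p (G ⧸ C)).comap (QuotientGroup.mk' C) ⊓ centralizer (R : Set G) with hE
  have hEn : E.Normal := inferInstance
  set F := Cfsg.fittingSubgroup G with hF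
  -- `F ≤ V ⊔ R`
  have hFVR : F ≤ V ⊔ R := by
    rw [hF, Cfsg.Agent.Lib.Helper1.fittingSubgroup_eq_iSup_pCore]
    apply iSup_le
    intro q
    by_cases hq : (q : ℕ) = p
    · rw [hq]; exact le_sup_left
    · exact le_trans (le_iSup (fun q : {q : ℕ // q.Prime ∧ q ≠ p} => Cfsg.pCore (q : ℕ) G)
        ⟨(q : ℕ), q.2, hq⟩) le_sup_right
  -- elements of `E ∩ C` centralize `F`
  have hcentF : ∀ z ∈ E, z ∈ C → z ∈ F := by
    intro z hzE hzC
    apply centralizer_fitting_le
    have hle : F ≤ centralizer ({z} : Set G) := by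
      rw [hF, Cfsg.Agent.Lib.Helper1.fittingSubgroup_eq_iSup_pCore]
      apply iSup_le
      intro q
      by_cases hq : (q : ℕ) = p
      · rw [hq]
        intro y hy
        rw [mem_centralizer_singleton_iff]
        exact (mem_centralizer_iff.mp hzC) y hy
      · intro y hy
        rw [mem_centralizer_singleton_iff]
        have hyR : y ∈ R :=
          (le_iSup (fun q : {q : ℕ // q.Prime ∧ q ≠ p} => Cfsg.pCore (q : ℕ) G)
            ⟨(q : ℕ), q.2, hq⟩) hy
        exact (mem_centralizer_iff.mp (mem_inf.mp hzE).2) y hyR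
    rw [mem_centralizer_iff]
    intro h hh
    exact mem_centralizer_singleton_iff.mp (hle hh)
  -- x ∈ E
  have hxE : x ∈ E := by
    refine mem_inf.mpr ⟨h2, ?_⟩
    have hle : R ≤ centralizer ({x} : Set G) := by
      apply iSup_le
      intro q y hy
      rw [mem_centralizer_singleton_iff]
      exact (mem_centralizer_iff.mp (h1 (q : ℕ) q.2.1 q.2.2)) y hy
    rw [mem_centralizer_iff]
    intro h hh
    exact mem_centralizer_singleton_iff.mp (hle hh)
  -- key: a `p`-power of each element of `E` is central in `E`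
  have hkey : ∀ e ∈ E, ∃ k : ℕ, ∀ e' ∈ E, e' * e ^ (p ^ k) = e ^ (p ^ k) * e' := by
    intro e he
    have hpg : IsPGroup p ↥(Cfsg.pCore p (G ⧸ C)) := Cfsg.Agent.Lib.Helper1.pCore_isPGroup p _
    obtain ⟨a, ha⟩ := hpg ⟨QuotientGroup.mk' C e, (mem_inf.mp he).1⟩
    have ha' : (QuotientGroup.mk' C e) ^ (p ^ a) = 1 := by
      have := congrArg Subtype.val ha
      simpa using this
    have hzC : e ^ (p ^ a) ∈ C := by
      rw [← map_pow] at ha'
      exact (QuotientGroup.eq_one_iff _).mp ha'
    have hzE : e ^ (p ^ a) ∈ E := pow_mem he _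
    set z := e ^ (p ^ a) with hz
    have hzF : z ∈ F := hcentF z hzE hzC
    obtain ⟨b, m, hm, hbm⟩ := Nat.exists_eq_pow_mul_and_not_dvd (orderOf_pos z).ne' p hp.out.ne_one
    set w := z ^ (p ^ b) with hw
    have hwm : w ^ m = 1 := by
      rw [hw, ← pow_mul, ← hbm]; exact pow_orderOf_eq_one z
    have hwF : w ∈ V ⊔ R := hFVR (pow_mem hzF _)
    -- image of w in G ⧸ R has p-power order
    have hwR : w ∈ R := by
      have h1' : (QuotientGroup.mk' R) w ∈ (V ⊔ R).map (QuotientGroup.mk' R) := mem_map_of_mem _ hwF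
      rw [Subgroup.map_sup] at h1'
      have hRb : R.map (QuotientGroup.mk' R) = ⊥ := by
        rw [eq_bot_iff]
        rintro _ ⟨r, hr, rfl⟩
        rw [mem_bot]
        exact (QuotientGroup.eq_one_iff r).mpr hr
      rw [hRb, sup_bot_eq] at h1'
      have hVp : IsPGroup p ↥(V.map (QuotientGroup.mk' R)) :=
        (Cfsg.Agent.Lib.Helper1.pCore_isPGroup p G).map _
      obtain ⟨c, hc⟩ := hVp ⟨_, h1'⟩
      have hc' : (QuotientGroup.mk' R w) ^ (p ^ c) = 1 := by
        have := congrArg Subtype.val hc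
        simpa using this
      have hwc : w ^ (p ^ c) ∈ R := by
        rw [← map_pow] at hc'
        exact (QuotientGroup.eq_one_iff _).mp hc'
      have hcop : (p ^ c).Coprime (orderOf w) := by
        apply Nat.Coprime.coprime_dvd_right (orderOf_dvd_of_pow_eq_one hwm)
        apply Nat.Coprime.pow_left
        exact (Nat.Prime.coprime_iff_not_dvd hp.out).mpr hm
      obtain ⟨s, hs⟩ := exists_pow_eq_self_of_coprime hcop
      rw [← hs]
      exact pow_mem hwc _
    refine ⟨a + b, ?_⟩
    intro e' he'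
    have hwe : e ^ (p ^ (a + b)) = w := by
      rw [hw, hz, ← pow_mul, ← pow_add]
    rw [hwe]
    exact ((mem_centralizer_iff.mp (mem_inf.mp he').2) w hwR).symm
  -- E / Z(E) is a p-group
  have hquot : IsPGroup p (↥E ⧸ center ↥E) := by
    intro g
    induction g using QuotientGroup.induction_on with
    | H e =>
      obtain ⟨k, hk⟩ := hkey (e : G) e.2
      refine ⟨k, ?_⟩
      rw [← QuotientGroup.mk_pow, QuotientGroup.eq_one_iff, mem_center_iff]
      intro e'
      apply Subtype.ext
      have := hk (e' : G) e'.2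
      simpa using this
  have hnilq : Group.IsNilpotent (↥E ⧸ center ↥E) := hquot.isNilpotent
  have hnil : Group.IsNilpotent ↥E := Group.of_quotient_center_nilpotent hnilq
  have hEF : E ≤ F := Cfsg.Agent.Lib.Helper1.le_fittingSubgroup hEn hnil
  obtain ⟨n, hn⟩ := h3
  exact Cfsg.Agent.Lib.Helper17.mem_pCore_of_mem_fitting p (hEF hxE) hn

end Cfsg.Agent.Lib.Helper8.HallSCN
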