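import Mathlib
import Cfsg.Prelude.Def_Transfer
import Cfsg.Agent.Lib.Helper8.SylIn
import Cfsg.Agent.Lib.Helper8.Hyperplane
import Cfsg.Agent.Lib.Helper8.SupNormalizer
import Cfsg.Agent.Lib.Helper17.Basic
import Cfsg.Agent.Lib.Helper17.Card
import Cfsg.Agent.S0058

/-!
# Factorization lemma for coprime action of a noncyclic elementary abelian group
-/

set_option autoImplicit false

namespace Cfsg.Agent.Lib.Helper8

open Subgroup
open scoped Pointwise

variable {G : Type*} [Group G]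

theorem not_isCyclic_of_elemAb [Finite G] {p : ℕ} (hp : p.Prime) {A : Subgroup G}
    (hA : Cfsg.IsElementaryAbelian p A) (hA2 : p ^ 2 ≤ Nat.card ↥A) : ¬ IsCyclic A := by
  intro hc
  obtain ⟨g, hg⟩ := hc.exists_generator
  have hgp : g ^ p = 1 := Subtype.ext (by simpa using hA.2 g.1 g.2)
  have hcard : Nat.card A ≤ p := by
    rw [← orderOf_eq_card_of_forall_mem_zpowers hg]
    exact Nat.le_of_dvd hp.pos (orderOf_dvd_of_pow_eq_one hgp)
  have : p < p ^ 2 := by
    have := hp.one_lt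
    nlinarith
  omega

theorem le_normalizer_inf [Finite G] {A U V : Subgroup G} (hU : A ≤ normalizer (U : Set G))
    (hV : A ≤ normalizer (V : Set G)) : A ≤ normalizer ((U ⊓ V : Subgroup G) : Set G) :=
  le_normalizer_of_conj_mem fun b hb u hu =>
    ⟨conj_mem_of_le_normalizer hU b hb u hu.1, conj_mem_of_le_normalizer hV b hb u hu.2⟩

theorem le_normalizer_sup {A U V : Subgroup G} (hU : A ≤ normalizer (U : Set G))
    (hV : A ≤ normalizer (V : Set G)) : A ≤ normalizer ((U ⊔ V : Subgroup G) : Set G) := by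
  intro a ha
  rw [mem_normalizer_iff_map_conj, Subgroup.map_sup, mem_normalizer_iff_map_conj.mp (hU ha),
    mem_normalizer_iff_map_conj.mp (hV ha)]

/-- generation by centralizers of nonidentity elements, elementwise consequence -/
theorem le_of_forall_inf_centralizer_le [Finite G] {p : ℕ} [Fact p.Prime] {A S M : Subgroup G}
    (hA : Cfsg.IsElementaryAbelian p A) (hA2 : p ^ 2 ≤ Nat.card ↥A)
    (hAS : A ≤ normalizer (S : Set G)) (hcop : (Nat.card A).Coprime (Nat.card S))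
    (h : ∀ a ∈ A, a ≠ 1 → S ⊓ centralizer {a} ≤ M) : S ≤ M := by
  have hp : p.Prime := Fact.out
  haveI : IsMulCommutative A := hA.1
  have hgen := Cfsg.Agent.S0058.result A S (not_isCyclic_of_elemAb hp hA hA2) hAS hcop
  rw [← hgen]
  exact iSup₂_le fun a ha => h a ha.1 ha.2

/-- **The `q`-group case.** -/
theorem qgroup_factorization [Finite G] (p : ℕ) [Fact p.Prime] (A : Subgroup G)
    (hA : Cfsg.IsElementaryAbelian p A) (hA2 : p ^ 2 ≤ Nat.card ↥A) (q : ℕ) [Fact q.Prime] :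
    ∀ (n : ℕ) (S X Y : Subgroup G), Nat.card S = n → IsPGroup q S →
      A ≤ normalizer (S : Set G) → (Nat.card A).Coprime (Nat.card S) → X ≤ S → Y ≤ S →
      A ≤ normalizer (X : Set G) → A ≤ normalizer (Y : Set G) →
      (∀ a ∈ A, a ≠ 1 → ∀ s ∈ S ⊓ centralizer {a}, ∃ x ∈ X ⊓ centralizer {a},
        ∃ y ∈ Y ⊓ centralizer {a}, s = x * y) →
      ∀ s ∈ S, ∃ x ∈ X, ∃ y ∈ Y, s = x * y := by
  classical
  intro n
  induction n using Nat.strong_induction_on with
  | _ n ih =>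
    intro S X Y hn hSq hAS hcop hXS hYS hAX hAY hfac
    by_cases hXeq : X = S
    · intro s hs
      exact ⟨s, hXeq ▸ hs, 1, Y.one_mem, (mul_one s).symm⟩
    -- a maximal proper `A`-invariant subgroup containing `X`
    let 𝓜 : Set (Subgroup G) := {M | A ≤ normalizer (M : Set G) ∧ X ≤ M ∧ M ≤ S ∧ M ≠ S}
    obtain ⟨M, hM𝓜, hMmax⟩ := Set.exists_max_image 𝓜 (fun M => Nat.card M) (Set.toFinite 𝓜)
      ⟨X, hAX, le_rfl, hXS, hXeq⟩
    obtain ⟨hAM, hXM, hMS, hMne⟩ := hM𝓜
    have hmax : ∀ T : Subgroup G, A ≤ normalizer (T : Set G) → M ≤ T → T ≤ S → T ≠ S → T = M := by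
      intro T hAT hMT hTS hTne
      have := hMmax T ⟨hAT, hXM.trans hMT, hTS, hTne⟩
      exact (Subgroup.eq_of_le_of_card_ge hMT this).symm
    -- `M` is normal in `S`
    have hSM : S ≤ normalizer (M : Set G) := by
      have hAN : A ≤ normalizer ((normalizer (M : Set G) : Subgroup G) : Set G) := by
        apply le_normalizer_of_conj_mem
        intro b hb u hu
        exact Subgroup.mul_mem _ (Subgroup.mul_mem _ (hAM hb) hu) (Subgroup.inv_mem _ (hAM hb))
      have hAT : A ≤ normalizer ((normalizer (M : Set G) ⊓ S : Subgroup G) : Set G) :=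
        le_normalizer_inf hAN hAS
      by_contra hcon
      have hTne : normalizer (M : Set G) ⊓ S ≠ S := by
        intro h
        exact hcon (h ▸ inf_le_left)
      have hTM := hmax _ hAT (le_inf Subgroup.le_normalizer hMS) inf_le_right hTne
      exact hMne (Cfsg.Agent.Lib.Helper17.eq_of_normalizer_inf_le M S hSq hMS hTM.le)
    -- induction hypothesis for `M`
    have hMlt : Nat.card M < n := by
      rw [← hn]
      apply lt_of_le_of_ne (Subgroup.card_le_of_le hMS)
      intro h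
      exact hMne (Subgroup.eq_of_le_of_card_ge hMS h.ge)
    have hMfac := ih (Nat.card M) hMlt M X (Y ⊓ M) rfl (hSq.to_le hMS) hAM
      (Nat.Coprime.coprime_dvd_right (Subgroup.card_dvd_of_le hMS) hcop) hXM inf_le_right hAX
      (le_normalizer_inf hAY hAM) (by
        intro a ha ha1 m hm
        have hmM : m ∈ M := hm.1
        have hma : m ∈ centralizer ({a} : Set G) := hm.2
        obtain ⟨x, hx, y, hy, hxy⟩ := hfac a ha ha1 m ⟨hMS hmM, hma⟩
        refine ⟨x, hx, y, ⟨⟨hy.1, ?_⟩, hy.2⟩, hxy⟩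
        have : y = x⁻¹ * m := by rw [hxy]; group
        rw [this]
        exact M.mul_mem (M.inv_mem (hXM hx.1)) hmM)
    -- `M ⊔ Y = S`
    have hsup : M ⊔ Y = S := by
      by_contra hne
      have hTM := hmax (M ⊔ Y) (le_normalizer_sup hAM hAY) le_sup_left (sup_le hMS hYS) hne
      have hYM : Y ≤ M := hTM ▸ le_sup_right
      apply hMne
      apply le_antisymm hMS
      apply le_of_forall_inf_centralizer_le hA hA2 hAS hcop
      intro a ha ha1 s hs
      obtain ⟨x, hx, y, hy, rfl⟩ := hfac a ha ha1 s hs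
      exact M.mul_mem (hXM hx.1) (hYM hy.1)
    intro s hs
    rw [← hsup] at hs
    obtain ⟨m, hm, y, hy, rfl⟩ := mem_sup_of_le_normalizer (hYS.trans hSM) hs
    obtain ⟨x, hx, y', hy', rfl⟩ := hMfac m hm
    exact ⟨x, hx, y' * y, Y.mul_mem hy'.1 hy, by group⟩

/-- The valuation inequality for one prime `q`. -/
theorem factorization_prime_aux [Finite G] (p : ℕ) [Fact p.Prime] (A K X Y : Subgroup G)
    (hA : Cfsg.IsElementaryAbelian p A) (hA2 : p ^ 2 ≤ Nat.card ↥A) (hK : ¬ p ∣ Nat.card ↥K)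
    (hAK : A ≤ normalizer (K : Set G)) (hX : X ≤ K) (hY : Y ≤ K)
    (hAX : A ≤ normalizer (X : Set G)) (hAY : A ≤ normalizer (Y : Set G))
    (hCX : K ⊓ centralizer (A : Set G) ≤ normalizer (X : Set G))
    (hfac : ∀ a ∈ A, a ≠ 1 → ∀ k ∈ K ⊓ centralizer {a}, ∃ x ∈ X ⊓ centralizer {a},
      ∃ y ∈ Y ⊓ centralizer {a}, k = x * y) (q : ℕ) [Fact q.Prime] :
    (Nat.card K).factorization q + (Nat.card ↥(X ⊓ Y)).factorization q ≤
      (Nat.card X).factorization q + (Nat.card Y).factorization q := by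
  classical
  have hp : p.Prime := Fact.out
  have hq : q.Prime := Fact.out
  have hAc : ∀ a ∈ A, ∀ b ∈ A, a * b = b * a := fun a ha b hb => elemAb_comm hA ha hb
  have hAs : Group.IsSolvable A := by
    haveI : IsMulCommutative A := hA.1
    exact Group.isSolvable_of_comm (fun a b => mul_comm' a b)
  have hAp : IsPGroup p A := by
    rintro ⟨g, hg⟩
    exact ⟨1, Subtype.ext (by simpa using hA.2 g hg)⟩
  have hcopK : (Nat.card A).Coprime (Nat.card K) := by
    obtain ⟨k, hk⟩ := IsPGroup.iff_card.mp hAp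
    rw [hk]
    exact Nat.Coprime.pow_left k ((Nat.Prime.coprime_iff_not_dvd hp).mpr hK)
  have hcop_of_le : ∀ L : Subgroup G, L ≤ K → (Nat.card A).Coprime (Nat.card L) := fun L hL =>
    Nat.Coprime.coprime_dvd_right (Subgroup.card_dvd_of_le hL) hcopK
  have hbotA : A ≤ normalizer (((⊥ : Subgroup G) : Subgroup G) : Set G) :=
    le_normalizer_of_conj_mem (fun b _ u hu => by
      rw [Subgroup.mem_bot] at hu ⊢; rw [hu]; group)
  have hAXY : A ≤ normalizer ((X ⊓ Y : Subgroup G) : Set G) := le_normalizer_inf hAX hAY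
  -- Sylow arrangement
  obtain ⟨D, hD, -, hDA⟩ := exists_invariant_isSylIn_ge hAXY (hcop_of_le _ (inf_le_left.trans hX))
    (Or.inl hAs) q ⊥ bot_le IsPGroup.of_bot hbotA
  obtain ⟨YS, hYS, hDYS, hYSA⟩ := exists_invariant_isSylIn_ge hAY (hcop_of_le _ hY)
    (Or.inl hAs) q D (hD.1.trans inf_le_right) hD.isPGroup hDA
  obtain ⟨GS, hGS, hYSGS, hGSA⟩ := exists_invariant_isSylIn_ge hAK hcopK
    (Or.inl hAs) q YS (hYS.1.trans hY) hYS.isPGroup hYSA
  obtain ⟨XS', hXS', -, hXS'A⟩ := exists_invariant_isSylIn_ge hAX (hcop_of_le _ hX)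
    (Or.inl hAs) q ⊥ bot_le IsPGroup.of_bot hbotA
  obtain ⟨GS', hGS', hXS'GS', hGS'A⟩ := exists_invariant_isSylIn_ge hAK hcopK
    (Or.inl hAs) q XS' (hXS'.1.trans hX) hXS'.isPGroup hXS'A
  obtain ⟨c, hc, hcGS⟩ := exists_conj_of_invariant_isSylIn hAK hcopK (Or.inl hAs) q hGS' hGS
    hGS'A hGSA
  have hcX : X.map (MulAut.conj c).toMonoidHom = X := mem_normalizer_iff_map_conj.mp (hCX hc)
  have hXSle : XS'.map (MulAut.conj c).toMonoidHom ≤ GS ⊓ X := by
    refine le_inf ?_ ?_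
    · rw [← hcGS]; exact Subgroup.map_mono hXS'GS'
    · rw [← hcX]; exact Subgroup.map_mono hXS'.1
  have hGSq : IsPGroup q GS := hGS.isPGroup
  have hXG : IsSylIn q (GS ⊓ X) X := by
    apply isSylIn_of_card_le (hGSq.to_le inf_le_left) inf_le_right
    rw [← hXS'.2, ← card_map_conj XS' c]
    exact Subgroup.card_le_of_le hXSle
  have hYG : IsSylIn q (GS ⊓ Y) Y := by
    apply isSylIn_of_card_le (hGSq.to_le inf_le_left) inf_le_right
    rw [← hYS.2]
    exact Subgroup.card_le_of_le (le_inf hYSGS hYS.1)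
  have hDle : D ≤ (GS ⊓ X) ⊓ (GS ⊓ Y) :=
    le_inf (le_inf (hDYS.trans hYSGS) (hD.1.trans inf_le_left))
      (le_inf (hDYS.trans hYSGS) (hD.1.trans inf_le_right))
  have hXGA : A ≤ normalizer ((GS ⊓ X : Subgroup G) : Set G) := le_normalizer_inf hGSA hAX
  have hYGA : A ≤ normalizer ((GS ⊓ Y : Subgroup G) : Set G) := le_normalizer_inf hGSA hAY
  -- factorization of centralizers inside GS
  have hfacS : ∀ a ∈ A, a ≠ 1 → ∀ s ∈ GS ⊓ centralizer {a},
      ∃ x ∈ (GS ⊓ X) ⊓ centralizer {a}, ∃ y ∈ (GS ⊓ Y) ⊓ centralizer {a}, s = x * y := by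
    intro a ha ha1
    have h1 := hGS.inf_centralizer hAc hAs hAK hcopK q hGSA ha
    have h2 := hXG.inf_centralizer hAc hAs hAX (hcop_of_le _ hX) q hXGA ha
    have h3 := hYG.inf_centralizer hAc hAs hAY (hcop_of_le _ hY) q hYGA ha
    -- cardinalities in K
    have hPS := card_mul_card_inf_of_forall_mul (K ⊓ centralizer {a}) (X ⊓ centralizer {a})
      (Y ⊓ centralizer {a}) (inf_le_inf_right _ hX) (inf_le_inf_right _ hY) (hfac a ha ha1)
    have hv : (Nat.card ↥(K ⊓ centralizer {a})).factorization q +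
        (Nat.card ↥((X ⊓ centralizer {a}) ⊓ (Y ⊓ centralizer {a}))).factorization q =
        (Nat.card ↥(X ⊓ centralizer {a})).factorization q +
        (Nat.card ↥(Y ⊓ centralizer {a})).factorization q := by
      have := congrArg (fun n => n.factorization q) hPS
      beta_reduce at this
      rw [Nat.factorization_mul Nat.card_pos.ne' Nat.card_pos.ne',
        Nat.factorization_mul Nat.card_pos.ne' Nat.card_pos.ne'] at this
      exact this
    -- the chain of inequalities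
    set XGa := (GS ⊓ X) ⊓ centralizer {a} with hXGa
    set YGa := (GS ⊓ Y) ⊓ centralizer {a} with hYGa
    set GSa := GS ⊓ centralizer {a} with hGSa
    have hXGale : XGa ≤ GSa := inf_le_inf_right _ inf_le_left
    have hYGale : YGa ≤ GSa := inf_le_inf_right _ inf_le_left
    have hd : Nat.card ↥(XGa ⊓ YGa) ≤
        q ^ (Nat.card ↥((X ⊓ centralizer {a}) ⊓ (Y ⊓ centralizer {a}))).factorization q := by
      apply Nat.le_of_dvd (pow_pos hq.pos _)
      apply card_dvd_of_isPGroup_le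
      · exact hGSq.to_le (inf_le_left.trans (inf_le_left.trans inf_le_left))
      · exact inf_le_inf (inf_le_inf_right _ inf_le_right) (inf_le_inf_right _ inf_le_right)
    have h17 := Cfsg.Agent.Lib.Helper17.card_mul_card_le_card_sup_mul_card_inf XGa YGa
    have hu : Nat.card ↥(XGa ⊔ YGa) ≤ Nat.card GSa :=
      Subgroup.card_le_of_le (sup_le hXGale hYGale)
    have hge : Nat.card GSa *
        q ^ (Nat.card ↥((X ⊓ centralizer {a}) ⊓ (Y ⊓ centralizer {a}))).factorization q =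
        Nat.card XGa * Nat.card YGa := by
      rw [h1.2, h2.2, h3.2, ← pow_add, ← pow_add, hv]
    have hdpos : 0 < Nat.card ↥(XGa ⊓ YGa) := Nat.card_pos
    -- g*e = x*y ≤ u*d ≤ g*d ≤ g*e
    have hc1 : Nat.card ↥(XGa ⊔ YGa) * Nat.card ↥(XGa ⊓ YGa) ≤
        Nat.card GSa * Nat.card ↥(XGa ⊓ YGa) := Nat.mul_le_mul_right _ hu
    have hc2 : Nat.card GSa * Nat.card ↥(XGa ⊓ YGa) ≤ Nat.card GSa *
        q ^ (Nat.card ↥((X ⊓ centralizer {a}) ⊓ (Y ⊓ centralizer {a}))).factorization q :=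
      Nat.mul_le_mul_left _ hd
    have heq1 : Nat.card XGa * Nat.card YGa = Nat.card ↥(XGa ⊔ YGa) * Nat.card ↥(XGa ⊓ YGa) := by
      omega
    have heq2 : Nat.card ↥(XGa ⊔ YGa) * Nat.card ↥(XGa ⊓ YGa) =
        Nat.card GSa * Nat.card ↥(XGa ⊓ YGa) := by omega
    have hsupeq : XGa ⊔ YGa = GSa :=
      Subgroup.eq_of_le_of_card_ge (sup_le hXGale hYGale)
        (Nat.eq_of_mul_eq_mul_right hdpos heq2).ge
    have hset := Cfsg.Agent.Lib.Helper17.coe_sup_eq_mul_of_card_mul_card_eq XGa YGa heq1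
    intro s hs
    have hs' : s ∈ ((XGa ⊔ YGa : Subgroup G) : Set G) := by rw [hsupeq]; exact hs
    rw [hset] at hs'
    obtain ⟨x, hx, y, hy, hxy⟩ := Set.mem_mul.mp hs'
    exact ⟨x, hx, y, hy, hxy.symm⟩
  -- apply the q-group case
  have hQG := qgroup_factorization p A hA hA2 q (Nat.card GS) GS (GS ⊓ X) (GS ⊓ Y) rfl hGSq hGSA
    (hcop_of_le _ hGS.1) inf_le_left inf_le_left hXGA hYGA hfacS
  have hPS := card_mul_card_inf_of_forall_mul GS (GS ⊓ X) (GS ⊓ Y) inf_le_left inf_le_left hQG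
  rw [hGS.2, hXG.2, hYG.2] at hPS
  have hDcard : q ^ (Nat.card ↥(X ⊓ Y)).factorization q ≤ Nat.card ↥((GS ⊓ X) ⊓ (GS ⊓ Y)) := by
    rw [← hD.2]; exact Subgroup.card_le_of_le hDle
  have hle : q ^ ((Nat.card K).factorization q + (Nat.card ↥(X ⊓ Y)).factorization q) ≤
      q ^ ((Nat.card X).factorization q + (Nat.card Y).factorization q) := by
    rw [pow_add, pow_add, ← hPS]
    exact Nat.mul_le_mul_left _ hDcard
  exact (Nat.pow_le_pow_iff_right hq.one_lt).mp hle

/-- **Factorization lemma**: `K = XY`. -/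
theorem coprime_factorization [Finite G] (p : ℕ) [Fact p.Prime] (A K X Y : Subgroup G)
    (hA : Cfsg.IsElementaryAbelian p A) (hA2 : p ^ 2 ≤ Nat.card ↥A) (hK : ¬ p ∣ Nat.card ↥K)
    (hAK : A ≤ normalizer (K : Set G)) (hX : X ≤ K) (hY : Y ≤ K)
    (hAX : A ≤ normalizer (X : Set G)) (hAY : A ≤ normalizer (Y : Set G))
    (hCX : K ⊓ centralizer (A : Set G) ≤ normalizer (X : Set G))
    (hfac : ∀ a ∈ A, a ≠ 1 → ∀ k ∈ K ⊓ centralizer {a}, ∃ x ∈ X ⊓ centralizer {a},
      ∃ y ∈ Y ⊓ centralizer {a}, k = x * y) :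
    (K : Set G) = (X : Set G) * (Y : Set G) := by
  classical
  have hp : p.Prime := Fact.out
  have hAp : IsPGroup p A := by
    rintro ⟨g, hg⟩
    exact ⟨1, Subtype.ext (by simpa using hA.2 g hg)⟩
  have hcopK : (Nat.card A).Coprime (Nat.card K) := by
    obtain ⟨k, hk⟩ := IsPGroup.iff_card.mp hAp
    rw [hk]
    exact Nat.Coprime.pow_left k ((Nat.Prime.coprime_iff_not_dvd hp).mpr hK)
  have hsup : X ⊔ Y = K := by
    apply le_antisymm (sup_le hX hY)
    apply le_of_forall_inf_centralizer_le hA hA2 hAK hcopK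
    intro a ha ha1 k hk
    obtain ⟨x, hx, y, hy, rfl⟩ := hfac a ha ha1 k hk
    exact Subgroup.mul_mem _ (Subgroup.mem_sup_left hx.1) (Subgroup.mem_sup_right hy.1)
  have hdvd : Nat.card K * Nat.card ↥(X ⊓ Y) ∣ Nat.card X * Nat.card Y := by
    rw [← Nat.factorization_le_iff_dvd (Nat.mul_ne_zero Nat.card_pos.ne' Nat.card_pos.ne')
      (Nat.mul_ne_zero Nat.card_pos.ne' Nat.card_pos.ne')]
    rw [Nat.factorization_mul Nat.card_pos.ne' Nat.card_pos.ne',
      Nat.factorization_mul Nat.card_pos.ne' Nat.card_pos.ne']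
    intro q
    by_cases hq : q.Prime
    · haveI : Fact q.Prime := ⟨hq⟩
      exact factorization_prime_aux p A K X Y hA hA2 hK hAK hX hY hAX hAY hCX hfac q
    · simp [Nat.factorization_eq_zero_of_not_prime _ hq]
  have hle := Nat.le_of_dvd (Nat.mul_pos Nat.card_pos Nat.card_pos) hdvd
  have h17 := Cfsg.Agent.Lib.Helper17.card_mul_card_le_card_sup_mul_card_inf X Y
  rw [hsup] at h17
  have heq : Nat.card X * Nat.card Y = Nat.card ↥(X ⊔ Y) * Nat.card ↥(X ⊓ Y) := by
    rw [hsup]; omega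
  rw [← hsup]
  exact Cfsg.Agent.Lib.Helper17.coe_sup_eq_mul_of_card_mul_card_eq X Y heq

end Cfsg.Agent.Lib.Helper8
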