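import Mathlib

/-!
# The Baer sum on a group of class at most two and odd exponent

For a group `D` all of whose commutators are central and killed by an odd number `2 h - 1`,
`x ⊕ y = x y [y, x] ^ h` is an abelian group law preserved by all automorphisms of `D`.
We use it to prove a fixed point lemma: if a `p`-group `𝒜` of automorphisms normalizes a
`p'`-group `𝒬` of automorphisms of a group `D` of exponent `p` (odd) and class at most two, and `𝒬`
acts nontrivially, then `𝒜` fixes an element of `D` that `𝒬` does not fix.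
-/

set_option autoImplicit false
open scoped commutatorElement

namespace Cfsg.Agent.Lib.Helper8.Baer

universe u

variable {D : Type u} [Group D]

/-- All commutators of `D` are central (class at most two). -/
def CommCentral (D : Type u) [Group D] : Prop := ∀ x y z : D, ⁅x, y⁆ * z = z * ⁅x, y⁆

theorem CommCentral.commute (hc : CommCentral D) (x y z : D) : Commute ⁅x, y⁆ z := hc x y z

theorem CommCentral.commute_pow (hc : CommCentral D) (x y z : D) (n : ℕ) :
    Commute (⁅x, y⁆ ^ n) z :=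
  (hc.commute x y z).pow_left n

theorem CommCentral.comm_mul_left (hc : CommCentral D) (x y z : D) :
    ⁅x * y, z⁆ = ⁅x, z⁆ * ⁅y, z⁆ := by
  have h1 : ⁅x * y, z⁆ = x * ⁅y, z⁆ * x⁻¹ * ⁅x, z⁆ := by
    simp only [commutatorElement_def]; group
  rw [h1, ← hc y z x, mul_inv_cancel_right]
  exact hc y z ⁅x, z⁆

theorem CommCentral.comm_mul_right (hc : CommCentral D) (x y z : D) :
    ⁅x, y * z⁆ = ⁅x, y⁆ * ⁅x, z⁆ := by
  have h1 : ⁅x, y * z⁆ = ⁅x, y⁆ * (y * ⁅x, z⁆ * y⁻¹) := by
    simp only [commutatorElement_def]; group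
  rw [h1, ← hc x z y, mul_inv_cancel_right]

theorem comm_eq_one_of_commute {x y : D} (h : Commute x y) : ⁅x, y⁆ = 1 :=
  commutatorElement_eq_one_iff_commute.mpr h

/-- The Baer product. -/
def bmul (h : ℕ) (x y : D) : D := x * y * ⁅y, x⁆ ^ h

theorem bmul_assoc (hc : CommCentral D) (h : ℕ) (x y z : D) :
    bmul h (bmul h x y) z = bmul h x (bmul h y z) := by
  unfold bmul
  have e0 : ⁅z, x * y * ⁅y, x⁆ ^ h⁆ = ⁅z, x⁆ * ⁅z, y⁆ := by
    rw [hc.comm_mul_right, hc.comm_mul_right,
      comm_eq_one_of_commute (hc.commute_pow y x z h).symm, mul_one]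
  have e0' : ⁅y * z * ⁅z, y⁆ ^ h, x⁆ = ⁅y, x⁆ * ⁅z, x⁆ := by
    rw [hc.comm_mul_left, hc.comm_mul_left,
      comm_eq_one_of_commute (hc.commute_pow z y x h), mul_one]
  rw [e0, e0', (hc.commute z x ⁅z, y⁆).mul_pow, (hc.commute y x ⁅z, x⁆).mul_pow]
  have e1 : ⁅y, x⁆ ^ h * z = z * ⁅y, x⁆ ^ h := (hc.commute_pow y x z h).eq
  have e2 : ⁅y, x⁆ ^ h * (⁅z, x⁆ ^ h * ⁅z, y⁆ ^ h) = ⁅z, y⁆ ^ h * (⁅y, x⁆ ^ h * ⁅z, x⁆ ^ h) := by
    rw [(hc.commute_pow z y (⁅y, x⁆ ^ h * ⁅z, x⁆ ^ h) h).eq, mul_assoc]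
  calc x * y * ⁅y, x⁆ ^ h * z * (⁅z, x⁆ ^ h * ⁅z, y⁆ ^ h)
      = x * y * (⁅y, x⁆ ^ h * z) * (⁅z, x⁆ ^ h * ⁅z, y⁆ ^ h) := by simp only [mul_assoc]
    _ = x * y * (z * ⁅y, x⁆ ^ h) * (⁅z, x⁆ ^ h * ⁅z, y⁆ ^ h) := by rw [e1]
    _ = x * y * z * (⁅y, x⁆ ^ h * (⁅z, x⁆ ^ h * ⁅z, y⁆ ^ h)) := by simp only [mul_assoc]
    _ = x * y * z * (⁅z, y⁆ ^ h * (⁅y, x⁆ ^ h * ⁅z, x⁆ ^ h)) := by rw [e2]
    _ = x * (y * z * ⁅z, y⁆ ^ h) * (⁅y, x⁆ ^ h * ⁅z, x⁆ ^ h) := by simp only [mul_assoc]

theorem bmul_comm (hc : CommCentral D) (h : ℕ) (hh : ∀ a b : D, ⁅a, b⁆ ^ (2 * h) = ⁅a, b⁆)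
    (x y : D) : bmul h x y = bmul h y x := by
  unfold bmul
  have e1 : y * x = x * y * ⁅y, x⁆ := by
    rw [← hc y x (x * y)]
    simp only [commutatorElement_def]; group
  have e2 : ⁅x, y⁆ = ⁅y, x⁆⁻¹ := (commutatorElement_inv y x).symm
  have e3 : ⁅y, x⁆ ^ h = ⁅y, x⁆ * (⁅y, x⁆⁻¹) ^ h := by
    have := hh y x
    rw [two_mul, pow_add] at this
    rw [inv_pow, eq_mul_inv_iff_mul_eq]
    exact this
  rw [e1, e2, mul_assoc (x * y), ← e3]

theorem bmul_one (h : ℕ) (x : D) : bmul h x 1 = x := by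
  unfold bmul
  rw [comm_eq_one_of_commute (Commute.one_left x), one_pow, mul_one, mul_one]

theorem one_bmul (h : ℕ) (x : D) : bmul h 1 x = x := by
  unfold bmul
  rw [comm_eq_one_of_commute (Commute.one_right x), one_pow, mul_one, one_mul]

theorem inv_bmul (h : ℕ) (x : D) : bmul h x⁻¹ x = 1 := by
  unfold bmul
  rw [comm_eq_one_of_commute (Commute.inv_right (Commute.refl x)), one_pow, mul_one,
    inv_mul_cancel]

/-- The hypothesis making the Baer product an abelian group law. -/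
structure BaerHyp (h : ℕ) (D : Type u) [Group D] : Prop where
  cc : CommCentral D
  hh : ∀ a b : D, ⁅a, b⁆ ^ (2 * h) = ⁅a, b⁆

/-- A copy of `D` carrying the Baer product. -/
def BaerT (_h : ℕ) (D : Type u) : Type u := D

namespace BaerT

variable {h : ℕ}

/-- into the copy -/
def of (x : D) : BaerT h D := x

/-- out of the copy -/
def val (x : BaerT h D) : D := x

@[simp] theorem val_of (x : D) : (of x : BaerT h D).val = x := rfl

@[simp] theorem of_val (x : BaerT h D) : of x.val = x := rfl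

theorem ext {x y : BaerT h D} (hxy : x.val = y.val) : x = y := hxy

end BaerT

instance instFiniteBaerT (h : ℕ) [Finite D] : Finite (BaerT h D) := inferInstanceAs (Finite D)

instance instCommGroupBaerT (h : ℕ) [H : Fact (BaerHyp h D)] : CommGroup (BaerT h D) where
  mul x y := BaerT.of (bmul h x.val y.val)
  mul_assoc x y z := bmul_assoc H.out.cc h x.val y.val z.val
  one := BaerT.of 1
  one_mul x := one_bmul h x.val
  mul_one x := bmul_one h x.val
  inv x := BaerT.of (x.val)⁻¹
  inv_mul_cancel x := inv_bmul h x.val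
  mul_comm x y := bmul_comm H.out.cc h H.out.hh x.val y.val

section

variable {h : ℕ} [H : Fact (BaerHyp h D)]

theorem val_mul (x y : BaerT h D) : (x * y).val = x.val * y.val * ⁅y.val, x.val⁆ ^ h := rfl

theorem val_one : (1 : BaerT h D).val = 1 := rfl

theorem val_inv (x : BaerT h D) : (x⁻¹).val = (x.val)⁻¹ := rfl

theorem val_pow (x : BaerT h D) (n : ℕ) : (x ^ n).val = x.val ^ n := by
  induction n with
  | zero => rw [pow_zero, pow_zero]; rfl
  | succ n ih =>
    rw [pow_succ, val_mul, ih,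
      comm_eq_one_of_commute ((Commute.refl x.val).pow_right n), one_pow, mul_one, pow_succ]

/-- An endomorphism of `D` is an endomorphism for the Baer product. -/
def baerHom (f : D →* D) : BaerT h D →* BaerT h D where
  toFun x := BaerT.of (f x.val)
  map_one' := by
    apply BaerT.ext
    show f 1 = 1
    exact map_one f
  map_mul' x y := by
    apply BaerT.ext
    rw [BaerT.val_of, val_mul, val_mul, BaerT.val_of, BaerT.val_of, map_mul, map_mul, map_pow,
      map_commutatorElement]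

theorem baerHom_val (f : D →* D) (x : BaerT h D) : (baerHom f x).val = f x.val := rfl

end

/-- `BaerHyp` for a group of odd prime exponent and class at most two. -/
theorem baerHyp_of_exponent {p : ℕ} (hp : p.Prime) (hp2 : p ≠ 2) (hc : CommCentral D)
    (hexp : ∀ x : D, x ^ p = 1) : BaerHyp ((p + 1) / 2) D := by
  refine ⟨hc, fun a b => ?_⟩
  have hodd : p % 2 = 1 := by
    rcases hp.eq_two_or_odd with h | h
    · exact absurd h hp2
    · exact h
  have h2 : 2 * ((p + 1) / 2) = p + 1 := by omega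
  rw [h2, pow_succ, hexp, one_mul]

/-- **Fixed point lemma.** -/
theorem baer_fix [Finite D] {p : ℕ} (hp : p.Prime) (hp2 : p ≠ 2) (hc : CommCentral D)
    (hexp : ∀ x : D, x ^ p = 1) (Q A : Subgroup (MulAut D)) (hA : IsPGroup p ↥A)
    (hQ : (Nat.card ↥Q).Coprime p) (hAQ : A ≤ Subgroup.normalizer (Q : Set (MulAut D)))
    (k₀ : MulAut D) (hk₀ : k₀ ∈ Q) (x₀ : D) (hne : k₀ x₀ ≠ x₀) :
    ∃ w : D, (∀ a ∈ A, a w = w) ∧ ∃ k ∈ Q, k w ≠ w := by
  classical
  haveI : Fact p.Prime := ⟨hp⟩
  haveI H : Fact (BaerHyp ((p + 1) / 2) D) := ⟨baerHyp_of_exponent hp hp2 hc hexp⟩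
  haveI : Finite (MulAut D) := Finite.of_injective (fun f : MulAut D => (f : D → D))
    (fun f g hfg => by ext x; exact congrFun hfg x)
  letI : Fintype ↥Q := Fintype.ofFinite _
  set h := (p + 1) / 2 with hh
  -- the averaging map
  let π : BaerT h D →* BaerT h D := ∏ k : ↥Q, baerHom ((k : MulAut D).toMonoidHom)
  have hπ : ∀ x : BaerT h D, π x = ∏ k : ↥Q, baerHom ((k : MulAut D).toMonoidHom) x := by
    intro x
    exact MonoidHom.finsetProd_apply _ _ x
  -- equivariance
  have hequiv : ∀ a ∈ Subgroup.normalizer (Q : Set (MulAut D)), ∀ x : BaerT h D,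
      π (baerHom a.toMonoidHom x) = baerHom a.toMonoidHom (π x) := by
    intro a ha x
    rw [hπ, hπ, map_prod]
    have hainv : a⁻¹ ∈ Subgroup.normalizer (Q : Set (MulAut D)) := inv_mem ha
    let σ : ↥Q ≃ ↥Q :=
      { toFun := fun k => ⟨a⁻¹ * k * a, by
          have := (Subgroup.mem_normalizer_iff.mp hainv (k : MulAut D)).mp k.2
          simpa using this⟩
        invFun := fun k => ⟨a * k * a⁻¹, (Subgroup.mem_normalizer_iff.mp ha (k : MulAut D)).mp k.2⟩
        left_inv := fun k => by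
          apply Subtype.ext
          show a * (a⁻¹ * (k : MulAut D) * a) * a⁻¹ = k
          group
        right_inv := fun k => by
          apply Subtype.ext
          show a⁻¹ * (a * (k : MulAut D) * a⁻¹) * a = k
          group }
    apply Fintype.prod_equiv σ
    intro k
    apply BaerT.ext
    rw [baerHom_val, baerHom_val, baerHom_val, baerHom_val]
    show (k : MulAut D) (a x.val) = a ((a⁻¹ * (k : MulAut D) * a) x.val)
    simp only [MulAut.mul_apply, MulAut.apply_inv_self]
  -- the kernel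
  let W : Subgroup (BaerT h D) := π.ker
  -- right translation invariance
  have hπk : ∀ k ∈ Q, ∀ x : BaerT h D, π (baerHom k.toMonoidHom x) = π x := by
    intro k hk x
    rw [hπ, hπ]
    apply Fintype.prod_equiv (Equiv.mulRight (⟨k, hk⟩ : ↥Q))
    intro k'
    apply BaerT.ext
    rw [baerHom_val, baerHom_val, baerHom_val]
    show (k' : MulAut D) (k x.val) = ((k' : MulAut D) * k) x.val
    rw [MulAut.mul_apply]
  -- `W` is nontrivial
  have hWne : W ≠ ⊥ := by
    intro hW
    have hy : baerHom k₀.toMonoidHom (BaerT.of x₀) * (BaerT.of x₀ : BaerT h D)⁻¹ ∈ W := by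
      show π _ = 1
      rw [map_mul, map_inv, hπk k₀ hk₀, mul_inv_cancel]
    rw [hW, Subgroup.mem_bot, mul_inv_eq_one] at hy
    apply hne
    have := congrArg BaerT.val hy
    rwa [baerHom_val, BaerT.val_of] at this
  -- cardinality of `W`
  have hDp : IsPGroup p D := by
    intro x
    exact ⟨1, by rw [pow_one]; exact hexp x⟩
  obtain ⟨n, hn⟩ := IsPGroup.iff_card.mp hDp
  have hcardB : Nat.card (BaerT h D) = p ^ n := hn
  have hWdvd : Nat.card ↥W ∣ p ^ n := hcardB ▸ Subgroup.card_subgroup_dvd_card W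
  obtain ⟨m, _, hm⟩ := (Nat.dvd_prime_pow hp).mp hWdvd
  have hm0 : m ≠ 0 := by
    intro hm0
    rw [hm0, pow_zero] at hm
    exact hWne (Subgroup.card_eq_one.mp hm)
  have hpW : p ∣ Nat.card ↥W := by
    rw [hm]; exact dvd_pow_self p hm0
  -- the action of `A` on `W`
  letI act : MulAction ↥A ↥W :=
    { smul := fun a w => ⟨baerHom (a : MulAut D).toMonoidHom w.1, by
        show π _ = 1
        rw [hequiv _ (hAQ a.2), (show π w.1 = 1 from w.2), map_one]⟩
      one_smul := fun w => by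
        apply Subtype.ext
        apply BaerT.ext
        show ((1 : ↥A) : MulAut D) w.1.val = w.1.val
        simp
      mul_smul := fun a b w => by
        apply Subtype.ext
        apply BaerT.ext
        show ((a * b : ↥A) : MulAut D) w.1.val = (a : MulAut D) ((b : MulAut D) w.1.val)
        simp [MulAut.mul_apply] }
  have hsmul : ∀ (a : ↥A) (w : ↥W), ((a • w : ↥W) : BaerT h D).val = (a : MulAut D) w.1.val :=
    fun a w => rfl
  have h1fix : (1 : ↥W) ∈ MulAction.fixedPoints ↥A ↥W := by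
    intro a
    apply Subtype.ext
    apply BaerT.ext
    rw [hsmul]
    show (a : MulAut D) (1 : D) = 1
    exact map_one _
  obtain ⟨b, hbfix, hb1⟩ := hA.exists_fixed_point_of_prime_dvd_card_of_fixed_point ↥W hpW h1fix
  refine ⟨b.1.val, ?_, ?_⟩
  · intro a ha
    have := hbfix ⟨a, ha⟩
    have h2 : (((⟨a, ha⟩ : ↥A) • b : ↥W) : BaerT h D).val = b.1.val :=
      congrArg (fun w : ↥W => (w : BaerT h D).val) this
    rw [hsmul] at h2
    exact h2
  · by_contra hcon
    push Not at hcon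
    have hbW : π b.1 = 1 := b.2
    rw [hπ] at hbW
    have h3 : ∀ k : ↥Q, baerHom ((k : MulAut D).toMonoidHom) b.1 = b.1 := by
      intro k
      apply BaerT.ext
      rw [baerHom_val]
      exact hcon k k.2
    rw [Finset.prod_congr rfl (fun k _ => h3 k), Finset.prod_const, Finset.card_univ] at hbW
    have h4 := congrArg BaerT.val hbW
    rw [val_pow, val_one] at h4
    have h5 : orderOf b.1.val ∣ Fintype.card ↥Q := orderOf_dvd_of_pow_eq_one h4
    have h6 : orderOf b.1.val ∣ p := orderOf_dvd_of_pow_eq_one (hexp _)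
    have h7 : orderOf b.1.val ∣ Nat.gcd (Fintype.card ↥Q) p := Nat.dvd_gcd h5 h6
    have h8 : Nat.gcd (Fintype.card ↥Q) p = 1 := by
      rw [← Nat.card_eq_fintype_card]; exact hQ
    rw [h8, Nat.dvd_one, orderOf_eq_one_iff] at h7
    apply hb1
    apply Subtype.ext
    apply BaerT.ext
    rw [h7]
    rfl

end Cfsg.Agent.Lib.Helper8.Baer
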