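import Mathlib
import Cfsg.Agent.Lib.Helper8.Baer

/-!
# A generalized `P × Q` lemma for odd `p` (internal form)

`D` a normal subgroup of exponent `p` (odd) and class at most two, `A` a `p`-subgroup normalizing the
`p'`-subgroup `Q`.  If `Q` centralizes `C_D(A)` then `Q` centralizes `D`.
-/

set_option autoImplicit false
open scoped commutatorElement

namespace Cfsg.Agent.Lib.Helper8.Baer

variable {Γ : Type*} [Group Γ]

theorem le_centralizer_of_centralizes_fixed [Finite Γ] {p : ℕ} [hpf : Fact p.Prime] (hp2 : p ≠ 2)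
    (D Q A : Subgroup Γ) [hDn : D.Normal]
    (hexp : ∀ x ∈ D, x ^ p = 1)
    (hcl : ∀ x ∈ D, ∀ y ∈ D, ∀ z ∈ D, ⁅x, y⁆ * z = z * ⁅x, y⁆)
    (hA : IsPGroup p ↥A) (hQ : (Nat.card ↥Q).Coprime p)
    (hAQ : A ≤ Subgroup.normalizer (Q : Set Γ))
    (h : ∀ x ∈ D, (∀ a ∈ A, a * x = x * a) → ∀ k ∈ Q, k * x = x * k) :
    Q ≤ Subgroup.centralizer (D : Set Γ) := by
  by_contra hcon
  rw [SetLike.not_le_iff_exists] at hcon
  obtain ⟨k₀, hk₀, hk₀c⟩ := hcon
  rw [Subgroup.mem_centralizer_iff] at hk₀c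
  push Not at hk₀c
  obtain ⟨x₀, hx₀, hne⟩ := hk₀c
  let φ : Γ →* MulAut ↥D := MulAut.conjNormal (H := D)
  have hφ : ∀ (g : Γ) (d : ↥D), ((φ g d : ↥D) : Γ) = g * d * g⁻¹ := fun g d =>
    MulAut.conjNormal_apply g d
  have hcc : CommCentral ↥D := by
    intro x y z
    apply Subtype.ext
    have := hcl x x.2 y y.2 z z.2
    simp only [commutatorElement_def] at this
    simp only [commutatorElement_def, Subgroup.coe_mul, Subgroup.coe_inv]
    exact this
  have hexp' : ∀ x : ↥D, x ^ p = 1 := by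
    intro x
    apply Subtype.ext
    have := hexp x x.2
    simpa using this
  have hA' : IsPGroup p ↥(A.map φ) := hA.map φ
  have hQ' : (Nat.card ↥(Q.map φ)).Coprime p :=
    Nat.Coprime.coprime_dvd_left (Subgroup.card_map_dvd Q φ) hQ
  have hAQ' : A.map φ ≤ Subgroup.normalizer ((Q.map φ : Subgroup (MulAut ↥D)) : Set (MulAut ↥D)) :=
    (Subgroup.map_mono hAQ).trans (Subgroup.le_normalizer_map φ)
  have hne' : φ k₀ ⟨x₀, hx₀⟩ ≠ ⟨x₀, hx₀⟩ := by
    intro heq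
    have h1 := congrArg (fun d : ↥D => (d : Γ)) heq
    simp only [hφ] at h1
    apply hne
    have h2 : k₀ * x₀ * k₀⁻¹ * k₀ = x₀ * k₀ := by rw [h1]
    rw [inv_mul_cancel_right] at h2
    exact h2.symm
  obtain ⟨w, hwA, k', hk', hkw⟩ := baer_fix hpf.out hp2 hcc hexp' (Q.map φ) (A.map φ) hA' hQ' hAQ'
    (φ k₀) (Subgroup.mem_map_of_mem φ hk₀) ⟨x₀, hx₀⟩ hne'
  obtain ⟨k, hk, rfl⟩ := hk'
  apply hkw
  apply Subtype.ext
  rw [hφ]
  have hwfix : ∀ a ∈ A, a * (w : Γ) = (w : Γ) * a := by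
    intro a ha
    have h1 := hwA (φ a) (Subgroup.mem_map_of_mem φ ha)
    have h2 := congrArg (fun d : ↥D => (d : Γ)) h1
    simp only [hφ] at h2
    have h3 : a * (w : Γ) * a⁻¹ * a = (w : Γ) * a := by rw [h2]
    rwa [inv_mul_cancel_right] at h3
  have h4 := h w w.2 hwfix k hk
  rw [h4, mul_inv_cancel_right]

end Cfsg.Agent.Lib.Helper8.Baer
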