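import Mathlib
import Cfsg.Prelude.Def_Local
import Cfsg.Agent.Lib.Helper8.BaerG
import Cfsg.Agent.Lib.Helper9.PConstrained
import Cfsg.Agent.Lib.Helper1.CritExtra
import Cfsg.Agent.Lib.Helper1.Fitting
import Cfsg.Agent.Lib.Helper12.Cores
import Cfsg.Agent.Lib.Helper24.PSolvable
import Cfsg.Agent.S0093
import Cfsg.Agent.S0121

/-!
# Invariant `p'`-subgroups of `p`-constrained groups (Gorenstein 8.1.x / S1302)

`X` a `p`-constrained group, `p` odd, `A` a `p`-subgroup containing every element of order `p` of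
`C_X(A)`.  Then every `A`-invariant `p'`-subgroup of `X` lies in `O_{p'}(X)`.
-/

set_option autoImplicit false
open scoped commutatorElement

namespace Cfsg.Agent.Lib.Helper8.InvPPrime

open Cfsg.Agent.Lib.Helper8.Baer

variable {X : Type*} [Group X]

theorem le_pPrimeCore_of_invariant [Finite X] (p : ℕ) [hpf : Fact p.Prime] (hp : p ≠ 2)
    (hX : Cfsg.IsPConstrained p X) (A : Subgroup X) (hAp : IsPGroup p ↥A)
    (hΩ : ∀ x ∈ Subgroup.centralizer (A : Set X), orderOf x = p → x ∈ A)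
    (Q : Subgroup X) (hQ : ¬ p ∣ Nat.card ↥Q) (hAQ : A ≤ Subgroup.normalizer (Q : Set X)) :
    Q ≤ Cfsg.pPrimeCore p X := by
  classical
  have hpp : p.Prime := hpf.out
  haveI hNn : (Cfsg.pPrimeCore p X).Normal := Cfsg.Agent.Lib.Helper24.pPrimeCore_normal' p
  have hNcop : (Nat.card ↥(Cfsg.pPrimeCore p X)).Coprime p :=
    Cfsg.Agent.Lib.Helper12.pPrimeCore_coprime p
  obtain ⟨π, hπdef⟩ : ∃ π : X →* X ⧸ Cfsg.pPrimeCore p X,
      π = QuotientGroup.mk' (Cfsg.pPrimeCore p X) := ⟨_, rfl⟩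
  have hπs : Function.Surjective π := hπdef ▸ QuotientGroup.mk'_surjective _
  have hπker : ∀ x : X, π x = 1 ↔ x ∈ Cfsg.pPrimeCore p X := by
    intro x
    rw [hπdef]
    exact QuotientGroup.eq_one_iff x
  obtain ⟨Rb, hRbdef⟩ : ∃ Rb : Subgroup (X ⧸ Cfsg.pPrimeCore p X),
      Rb = Cfsg.pCore p (X ⧸ Cfsg.pPrimeCore p X) := ⟨_, rfl⟩
  haveI hRbn : Rb.Normal := hRbdef ▸ Cfsg.Agent.Lib.Helper24.pCore_normal' p
  have hRbp : IsPGroup p ↥Rb := hRbdef ▸ Cfsg.Agent.Lib.Helper1.pCore_isPGroup p _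
  -- `C(Rb) ≤ Rb`
  have hCR : Subgroup.centralizer (Rb : Set (X ⧸ Cfsg.pPrimeCore p X)) ≤ Rb := by
    intro y hy
    obtain ⟨x, rfl⟩ := hπs y
    obtain ⟨P⟩ : Nonempty (Sylow p ↥(Cfsg.pPrimePCore p X)) := inferInstance
    rw [hRbdef, hπdef] at hy
    obtain ⟨n, hn, hxn⟩ :=
      Cfsg.Agent.Lib.Helper9.exists_mem_centralizer_sylow_of_map_mem_centralizer_pCore p P hy
    have h1 := hX P hxn
    have h2 : π (x * n) ∈ Rb := by
      rw [hRbdef, hπdef]
      exact h1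
    have h3 : π n = 1 := (hπker n).mpr hn
    rwa [map_mul, h3, mul_one] at h2
  -- a Sylow subgroup containing `A`
  obtain ⟨S, hAS⟩ := hAp.exists_le_sylow
  have hSb : Rb ≤ (S : Subgroup X).map π := by
    have := Cfsg.Agent.Lib.Helper1.pCore_le_sylow (S.mapSurjective hπs)
    rw [Sylow.coe_mapSurjective] at this
    rw [hRbdef]
    exact this
  have hNS : ∀ t ∈ (S : Subgroup X), t ∈ Cfsg.pPrimeCore p X → t = 1 := by
    intro t htS htN
    obtain ⟨k, hk⟩ := S.isPGroup' ⟨t, htS⟩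
    have h1 : t ^ p ^ k = 1 := by simpa using congrArg Subtype.val hk
    have h2 : orderOf t ∣ p ^ k := orderOf_dvd_of_pow_eq_one h1
    have h3 : orderOf t ∣ Nat.card ↥(Cfsg.pPrimeCore p X) := by
      have := orderOf_dvd_natCard (⟨t, htN⟩ : ↥(Cfsg.pPrimeCore p X))
      rwa [Subgroup.orderOf_mk] at this
    have h4 : (orderOf t).Coprime (orderOf t) :=
      Nat.Coprime.coprime_dvd_left h3 (Nat.Coprime.coprime_dvd_right h2 (hNcop.pow_right k))
    exact orderOf_eq_one_iff.mp ((Nat.coprime_self _).mp h4)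
  -- key: elements of `Rb` killed by `p` commuting with `π(A)` lie in `π(A)`
  have hkey : ∀ y ∈ Rb, y ^ p = 1 → (∀ a ∈ A, π a * y = y * π a) → y ∈ A.map π := by
    intro y hy hyp hya
    obtain ⟨s, hsS, rfl⟩ := hSb hy
    have hsp : s ^ p = 1 := hNS _ (pow_mem hsS p) ((hπker _).mp (by rw [map_pow]; exact hyp))
    have hsA : s ∈ Subgroup.centralizer (A : Set X) := by
      rw [Subgroup.mem_centralizer_iff]
      intro a ha
      have h1 : a * s * a⁻¹ * s⁻¹ ∈ (S : Subgroup X) :=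
        mul_mem (mul_mem (mul_mem (hAS ha) hsS) (inv_mem (hAS ha))) (inv_mem hsS)
      have h2 : a * s * a⁻¹ * s⁻¹ ∈ Cfsg.pPrimeCore p X := by
        apply (hπker _).mp
        rw [map_mul, map_mul, map_mul, map_inv, map_inv, hya a ha]
        group
      have h3 := hNS _ h1 h2
      calc a * s = a * s * a⁻¹ * s⁻¹ * (s * a) := by group
        _ = s * a := by rw [h3, one_mul]
    by_cases hs1 : s = 1
    · rw [hs1, map_one]; exact one_mem _
    · have hord : orderOf s = p := orderOf_eq_prime hsp hs1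
      exact Subgroup.mem_map_of_mem π (hΩ s hsA hord)
  -- the critical subgroup
  obtain ⟨H, hHchar, h1, h2, h3⟩ := Cfsg.Agent.S0093.result hRbp
  have hC := Cfsg.Agent.Lib.Helper1.CritExtra.critHyp_of_critical hRbp H h1 h2
  have hexpo : Cfsg.Agent.Lib.Helper1.CritExtra.expo p = p := if_neg hp
  let D₀ : Subgroup ↥Rb :=
    { carrier := {x | x ∈ H ∧ x ^ p = 1}
      mul_mem' := by
        rintro a b ⟨ha, hap⟩ ⟨hb, hbp⟩
        refine ⟨mul_mem ha hb, ?_⟩
        have := hC.mul_pow_expo hpp ha hb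
        rw [hexpo] at this
        rw [this, hap, hbp, one_mul]
      one_mem' := ⟨one_mem _, one_pow _⟩
      inv_mem' := by
        rintro a ⟨ha, hap⟩
        exact ⟨inv_mem ha, by rw [inv_pow, hap, inv_one]⟩ }
  have hD₀mem : ∀ x : ↥Rb, x ∈ D₀ ↔ x ∈ H ∧ x ^ p = 1 := fun x => Iff.rfl
  have hHinv : ∀ (α : MulAut ↥Rb), ∀ x ∈ H, α x ∈ H := by
    intro α x hx
    have := Subgroup.characteristic_iff_map_eq.mp hHchar α
    rw [← this]
    exact ⟨x, hx, rfl⟩
  have hD₀inv : ∀ (α : MulAut ↥Rb), ∀ x ∈ D₀, α x ∈ D₀ := by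
    intro α x hx
    refine ⟨hHinv α x hx.1, ?_⟩
    rw [← map_pow, hx.2, map_one]
  have hconj : ∀ (g : X ⧸ Cfsg.pPrimeCore p X) (x : ↥Rb),
      ((MulAut.conjNormal g x : ↥Rb) : X ⧸ Cfsg.pPrimeCore p X) = g * x * g⁻¹ :=
    fun g x => MulAut.conjNormal_apply g x
  obtain ⟨D, hDdef⟩ : ∃ D : Subgroup (X ⧸ Cfsg.pPrimeCore p X), D = D₀.map Rb.subtype := ⟨_, rfl⟩
  have hDmem : ∀ x : ↥Rb, x ∈ D₀ → (x : X ⧸ Cfsg.pPrimeCore p X) ∈ D := by
    intro x hx
    rw [hDdef]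
    exact ⟨x, hx, rfl⟩
  have hDform : ∀ y ∈ D, ∃ x : ↥Rb, x ∈ D₀ ∧ (x : X ⧸ Cfsg.pPrimeCore p X) = y := by
    intro y hy
    rw [hDdef] at hy
    obtain ⟨x, hx, rfl⟩ := hy
    exact ⟨x, hx, rfl⟩
  haveI hDn : D.Normal := by
    constructor
    intro y hy g
    obtain ⟨x, hx, rfl⟩ := hDform y hy
    rw [← hconj g x]
    exact hDmem _ (hD₀inv _ x hx)
  have hDexp : ∀ y ∈ D, y ^ p = 1 := by
    intro y hy
    obtain ⟨x, hx, rfl⟩ := hDform y hy
    have := congrArg (fun z : ↥Rb => (z : X ⧸ Cfsg.pPrimeCore p X)) hx.2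
    simpa using this
  have hDcl : ∀ x ∈ D, ∀ y ∈ D, ∀ z ∈ D, ⁅x, y⁆ * z = z * ⁅x, y⁆ := by
    intro x hx y hy z hz
    obtain ⟨x', hx', rfl⟩ := hDform x hx
    obtain ⟨y', _, rfl⟩ := hDform y hy
    obtain ⟨z', hz', rfl⟩ := hDform z hz
    have := hC.comm_cent x' hx'.1 y' z' hz'.1
    have h4 := congrArg (fun w : ↥Rb => (w : X ⧸ Cfsg.pPrimeCore p X)) this
    simp only [commutatorElement_def, Subgroup.coe_mul, Subgroup.coe_inv] at h4
    simp only [commutatorElement_def]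
    exact h4
  have hDR : D ≤ Rb := by
    intro y hy
    obtain ⟨x, _, rfl⟩ := hDform y hy
    exact x.2
  -- the images of `A` and `Q`
  have hAb : IsPGroup p ↥(A.map π) := hAp.map π
  have hQcop : (Nat.card ↥Q).Coprime p := ((Nat.Prime.coprime_iff_not_dvd hpp).mpr hQ).symm
  have hQb : (Nat.card ↥(Q.map π)).Coprime p :=
    Nat.Coprime.coprime_dvd_left (Subgroup.card_map_dvd Q π) hQcop
  have hAQb : A.map π ≤ Subgroup.normalizer ((Q.map π : Subgroup _) : Set (X ⧸ Cfsg.pPrimeCore p X)) :=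
    (Subgroup.map_mono hAQ).trans (Subgroup.le_normalizer_map π)
  have hQR : Q.map π ⊓ Rb = ⊥ := by
    apply Subgroup.inf_eq_bot_of_coprime
    obtain ⟨m, hm⟩ := IsPGroup.iff_card.mp hRbp
    rw [hm]
    exact hQb.pow_right m
  -- `Q̄` centralizes `D`
  have hQD : Q.map π ≤ Subgroup.centralizer (D : Set (X ⧸ Cfsg.pPrimeCore p X)) := by
    apply le_centralizer_of_centralizes_fixed hp D (Q.map π) (A.map π) hDexp hDcl hAb hQb hAQb
    intro x hx hxa k hk
    have hxA : x ∈ A.map π := by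
      apply hkey x (hDR hx) (hDexp x hx)
      intro a ha
      exact hxa (π a) (Subgroup.mem_map_of_mem π ha)
    have hc1 : x * k * x⁻¹ * k⁻¹ ∈ Q.map π := by
      have h5 := (Subgroup.mem_normalizer_iff.mp (hAQb hxA) k).mp hk
      exact mul_mem h5 (inv_mem hk)
    have hc2 : x * k * x⁻¹ * k⁻¹ ∈ Rb := by
      have h5 : k * x⁻¹ * k⁻¹ ∈ Rb := hRbn.conj_mem _ (inv_mem (hDR hx)) k
      have h6 : x * k * x⁻¹ * k⁻¹ = x * (k * x⁻¹ * k⁻¹) := by group
      rw [h6]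
      exact mul_mem (hDR hx) h5
    have hc3 : x * k * x⁻¹ * k⁻¹ ∈ Q.map π ⊓ Rb := Subgroup.mem_inf.mpr ⟨hc1, hc2⟩
    rw [hQR, Subgroup.mem_bot] at hc3
    calc k * x = (x * k * x⁻¹ * k⁻¹)⁻¹ * (x * k) := by group
      _ = x * k := by rw [hc3, inv_one, one_mul]
  -- hence `Q̄` centralizes `Rb`
  have hQRb : Q.map π ≤ Subgroup.centralizer (Rb : Set (X ⧸ Cfsg.pPrimeCore p X)) := by
    intro k hk
    have hkD := hQD hk
    have hordk : (orderOf k).Coprime p := by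
      have h5 : orderOf k ∣ Nat.card ↥(Q.map π) := by
        have := orderOf_dvd_natCard (⟨k, hk⟩ : ↥(Q.map π))
        rwa [Subgroup.orderOf_mk] at this
      exact Nat.Coprime.coprime_dvd_left h5 hQb
    have hα : (orderOf (MulAut.conjNormal (H := Rb) k)).Coprime p :=
      Nat.Coprime.coprime_dvd_left (orderOf_map_dvd (MulAut.conjNormal (H := Rb)) k) hordk
    have hfixD : ∀ x ∈ D₀, MulAut.conjNormal (H := Rb) k x = x := by
      intro x hx
      apply Subtype.ext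
      rw [hconj]
      have h5 := Subgroup.mem_centralizer_iff.mp hkD _ (hDmem x hx)
      rw [← h5, mul_inv_cancel_right]
    have hfixH : ∀ x ∈ H, MulAut.conjNormal (H := Rb) k x = x := by
      apply Cfsg.Agent.Lib.Helper1.CritExtra.fixes_of_fixes_omega hRbp hC _ hα (Nat.card ↥H) H rfl
        le_rfl (hHinv _)
      intro x hx hxe
      rw [hexpo] at hxe
      exact hfixD x ⟨hx, hxe⟩
    have hα1 := Cfsg.Agent.S0121.result hRbp H hHchar h1 h2 h3 _ hα hfixH
    rw [Subgroup.mem_centralizer_iff]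
    intro r hr
    have h5 := congrArg (fun f : MulAut ↥Rb => ((f ⟨r, hr⟩ : ↥Rb) : X ⧸ Cfsg.pPrimeCore p X)) hα1
    simp only [hconj, MulAut.one_apply] at h5
    calc r * k = k * r * k⁻¹ * k := by rw [h5]
      _ = k * r := by rw [inv_mul_cancel_right]
  -- conclusion
  intro q hq
  have h5 : π q ∈ Q.map π ⊓ Rb :=
    Subgroup.mem_inf.mpr ⟨Subgroup.mem_map_of_mem π hq, hCR (hQRb (Subgroup.mem_map_of_mem π hq))⟩
  rw [hQR, Subgroup.mem_bot] at h5
  exact (hπker q).mp h5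

end Cfsg.Agent.Lib.Helper8.InvPPrime
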