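import Mathlib
import Cfsg.Prelude.Def_OddOrderLocal
import Cfsg.Agent.Lib.Helper8.InvPPrime
import Cfsg.Agent.Lib.Helper9.PConstrainedSolv
import Cfsg.Agent.Lib.Helper25.PSolvableOfSolvable
import Cfsg.Agent.Lib.Helper17.BGTrans

/-!
# Bender–Glauberman, Theorem 7.6: criteria for the transitivity hypothesis
-/

set_option autoImplicit false

namespace Cfsg.Agent.Lib.Helper8.BG76

variable {G : Type*} [Group G]

/-- A `p`-subgroup `T` of a subgroup `L` containing the Sylow `p`-subgroup `P` of `G` is conjugate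
into `P` by an element of `L`. -/
theorem exists_conj_le_sylow [Finite G] {p : ℕ} [Fact p.Prime] (P : Sylow p G) {L T : Subgroup G}
    (hPL : (P : Subgroup G) ≤ L) (hTL : T ≤ L) (hT : IsPGroup p ↥T) :
    ∃ g ∈ L, ∀ t ∈ T, g * t * g⁻¹ ∈ (P : Subgroup G) := by
  have hT' : IsPGroup p ↥(T.subgroupOf L) := hT.comap_subtype
  obtain ⟨Q, hQ⟩ := hT'.exists_le_sylow
  obtain ⟨g, hg⟩ := MulAction.exists_smul_eq ↥L Q (P.subtype hPL)
  refine ⟨g, g.2, fun t ht => ?_⟩
  have h1 : (⟨t, hTL ht⟩ : ↥L) ∈ (Q : Subgroup ↥L) := hQ (Subgroup.mem_subgroupOf.mpr ht)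
  have h2 : g * ⟨t, hTL ht⟩ * g⁻¹ ∈ ((g • Q : Sylow p ↥L) : Subgroup ↥L) := by
    rw [Sylow.coe_subgroup_smul]
    have := Subgroup.smul_mem_pointwise_smul (⟨t, hTL ht⟩ : ↥L) (MulAut.conj g) (Q : Subgroup ↥L) h1
    simpa [MulAut.smul_def] using this
  rw [hg] at h2
  have h3 : g * ⟨t, hTL ht⟩ * g⁻¹ ∈ (P : Subgroup G).subgroupOf L := h2
  exact Subgroup.mem_subgroupOf.mp h3

/-- If `A` is a self-centralizing normal subgroup of the Sylow `p`-subgroup `P` of `G`, then every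
`p`-element of `C_G(A)` lies in `A`. -/
theorem mem_of_mem_centralizer_of_isSCN [Finite G] {p : ℕ} [Fact p.Prime] (P : Sylow p G)
    {A : Subgroup G} (hA : Cfsg.IsSCN (P : Subgroup G) A) {x : G}
    (hx : x ∈ Subgroup.centralizer (A : Set G)) (hxp : IsPGroup p ↥(Subgroup.zpowers x)) :
    x ∈ A := by
  obtain ⟨hAP, hPN, hCA⟩ := hA
  have hAp : IsPGroup p ↥A := P.isPGroup'.to_le hAP
  have hxN : Subgroup.zpowers x ≤ Subgroup.normalizer (A : Set G) := by
    rw [Subgroup.zpowers_le]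
    exact Subgroup.centralizer_le_normalizer _ hx
  have hT : IsPGroup p ↥(Subgroup.zpowers x ⊔ A) := hxp.to_sup_of_normal_right' hAp hxN
  have hTL : Subgroup.zpowers x ⊔ A ≤ Subgroup.normalizer (A : Set G) :=
    sup_le hxN Subgroup.le_normalizer
  obtain ⟨g, hgN, hg⟩ := exists_conj_le_sylow P hPN hTL hT
  have hgx : g * x * g⁻¹ ∈ (P : Subgroup G) :=
    hg x (Subgroup.mem_sup_left (Subgroup.mem_zpowers x))
  have hgA : ∀ a : G, a ∈ A ↔ g * a * g⁻¹ ∈ A := Subgroup.mem_normalizer_iff.mp hgN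
  have hgxc : g * x * g⁻¹ ∈ Subgroup.centralizer (A : Set G) := by
    rw [Subgroup.mem_centralizer_iff]
    intro b hb
    have hb' : g⁻¹ * b * g ∈ A := by
      rw [hgA]
      have : g * (g⁻¹ * b * g) * g⁻¹ = b := by group
      rw [this]; exact hb
    have h1 := Subgroup.mem_centralizer_iff.mp hx _ hb'
    calc b * (g * x * g⁻¹) = g * ((g⁻¹ * b * g) * x) * g⁻¹ := by group
      _ = g * (x * (g⁻¹ * b * g)) * g⁻¹ := by rw [h1]
      _ = g * x * g⁻¹ * b := by group
  have h2 : g * x * g⁻¹ ∈ (P : Subgroup G) ⊓ Subgroup.centralizer (A : Set G) :=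
    Subgroup.mem_inf.mpr ⟨hgx, hgxc⟩
  rw [hCA] at h2
  exact (hgA x).mpr h2

/-- The main step of B&G 7.6: for a solvable subgroup `X ≥ A` (`p` odd, `A` a nontrivial `p`-group
containing every element of order `p` of `C_G(A)`), the `A`-invariant `π(A)'`-subgroups of `X`
generate `O_{π(A)'}(X)`. -/
theorem sSup_invSubgroups_eq [Finite G] {p : ℕ} [hpf : Fact p.Prime] (hp2 : p ≠ 2)
    {A : Subgroup G} (hAp : IsPGroup p ↥A) (hA1 : A ≠ ⊥)
    (hΩ : ∀ x ∈ Subgroup.centralizer (A : Set G), orderOf x = p → x ∈ A)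
    {X : Subgroup G} (hXs : Group.IsSolvable ↥X) (hAX : A ≤ X) :
    sSup (Cfsg.invSubgroups X A (Cfsg.primesNotDvd (Nat.card ↥A))) =
      Cfsg.piCoreOf (Cfsg.primesNotDvd (Nat.card ↥A)) X := by
  have hpp : p.Prime := hpf.out
  have hpA : p ∣ Nat.card ↥A := by
    obtain ⟨k, hk⟩ := IsPGroup.iff_card.mp hAp
    have hk0 : k ≠ 0 := by
      intro hk0
      rw [hk0, pow_zero] at hk
      exact hA1 (Subgroup.card_eq_one.mp hk)
    rw [hk]
    exact dvd_pow_self p hk0
  apply le_antisymm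
  · apply sSup_le
    rintro Y ⟨hYX, hYπ, hAY⟩
    -- the `p'`-core of `X` inside `G`
    have hWle : (Cfsg.pPrimeCore p ↥X).map X.subtype ≤
        Cfsg.piCoreOf (Cfsg.primesNotDvd (Nat.card ↥A)) X := by
      apply Cfsg.Agent.Lib.Helper17.le_piCoreOf (Subgroup.map_subtype_le _)
      · haveI : (Cfsg.pPrimeCore p ↥X).Normal := Cfsg.Agent.Lib.Helper24.pPrimeCore_normal' p
        have h := Subgroup.le_normalizer_map (H := Cfsg.pPrimeCore p ↥X) X.subtype
        rw [Subgroup.normalizer_eq_top, ← MonoidHom.range_eq_map, Subgroup.range_subtype] at h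
        exact h
      · intro r hr hdvd
        refine ⟨hr, fun hrA => ?_⟩
        obtain ⟨k, hk⟩ := IsPGroup.iff_card.mp hAp
        rw [hk] at hrA
        have hrp : r = p := (Nat.prime_dvd_prime_iff_eq hr hpp).mp (hr.dvd_of_dvd_pow hrA)
        rw [Subgroup.card_map_of_injective X.subtype_injective, hrp] at hdvd
        have hcop : (Nat.card ↥(Cfsg.pPrimeCore p ↥X)).Coprime p :=
          Cfsg.Agent.Lib.Helper12.pPrimeCore_coprime p
        exact hpp.one_lt.ne' (Nat.eq_one_of_dvd_coprimes hcop hdvd (dvd_refl p))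
    refine le_trans ?_ hWle
    -- apply the lemma inside `X`
    have hXc : Cfsg.IsPConstrained p ↥X := by
      obtain ⟨P⟩ : Nonempty (Sylow p ↥(Cfsg.pPrimePCore p ↥X)) := inferInstance
      apply Cfsg.Agent.Lib.Helper9.isPConstrained_of_isPSolvable_centralizer p P
      apply Cfsg.Agent.Lib.Helper25.isPSolvable_of_isSolvable' p hpp
      infer_instance
    have hAp' : IsPGroup p ↥(A.subgroupOf X) := hAp.comap_subtype
    have hΩ' : ∀ x ∈ Subgroup.centralizer ((A.subgroupOf X : Subgroup ↥X) : Set ↥X),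
        orderOf x = p → x ∈ A.subgroupOf X := by
      intro x hx hox
      rw [Subgroup.mem_subgroupOf]
      apply hΩ
      · rw [Subgroup.mem_centralizer_iff]
        intro a ha
        have h1 := Subgroup.mem_centralizer_iff.mp hx ⟨a, hAX ha⟩ (Subgroup.mem_subgroupOf.mpr ha)
        exact congrArg Subtype.val h1
      · rw [Subgroup.orderOf_coe]
        exact hox
    have hcardY : Nat.card ↥(Y.subgroupOf X) = Nat.card ↥Y :=
      Nat.card_congr (Subgroup.subgroupOfEquivOfLe hYX).toEquiv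
    have hQ' : ¬ p ∣ Nat.card ↥(Y.subgroupOf X) := by
      rw [hcardY]
      intro hdvd
      exact (hYπ p hpp hdvd).2 hpA
    have hAQ' : A.subgroupOf X ≤
        Subgroup.normalizer ((Y.subgroupOf X : Subgroup ↥X) : Set ↥X) := by
      intro a ha
      rw [Subgroup.mem_normalizer_iff]
      intro y
      have h1 := Subgroup.mem_normalizer_iff.mp (hAY (Subgroup.mem_subgroupOf.mp ha)) (y : G)
      simp only [Subgroup.mem_subgroupOf]
      exact h1
    have hmain := Cfsg.Agent.Lib.Helper8.InvPPrime.le_pPrimeCore_of_invariant p hp2 hXc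
      (A.subgroupOf X) hAp' hΩ' (Y.subgroupOf X) hQ' hAQ'
    have h2 := Subgroup.map_mono (f := X.subtype) hmain
    rwa [Subgroup.map_subgroupOf_eq_of_le hYX] at h2
  · apply le_sSup
    refine ⟨Cfsg.Agent.Lib.Helper17.piCoreOf_le X, fun r hr hdvd => ?_,
      hAX.trans (Cfsg.Agent.Lib.Helper17.le_normalizer_piCoreOf X)⟩
    rw [Cfsg.Agent.Lib.Helper17.card_piCoreOf] at hdvd
    exact Cfsg.Agent.Lib.Helper12.piCore_mem _ r hr hdvd

end Cfsg.Agent.Lib.Helper8.BG76
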