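import Mathlib

/-!
# Offenders on `F₂`-modules for groups with an abelian odd-order normal subgroup (helper8 library)

Abstract module-theoretic core of Thompson's normal `2`-complement theorem for `S₄`-free groups:
if an elementary abelian `2`-group `Ā` acting faithfully on an abelian odd order group `Q̄`
is an offender on a faithful `F₂`-module `V` of `Ā Q̄`, then there are an involution `f ∈ Ā`, an element
`r ∈ Q̄` of order `3` inverted by `f` and an invariant subgroup `V₁` of `V` of order `4` on which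
`r` acts fixed-point-freely.
-/

set_option autoImplicit false
open Subgroup

namespace Cfsg.Agent.Lib.Helper8.ThTwo

section action
variable {Γ V : Type*} [Group Γ] [Group V] [MulDistribMulAction Γ V]

/-- fixed points of an element -/
def fixElt (g : Γ) : Subgroup V where
  carrier := {v | g • v = v}
  one_mem' := smul_one g
  mul_mem' := by
    intro a b ha hb
    show g • (a * b) = a * b
    rw [smul_mul', ha, hb]
  inv_mem' := by
    intro a ha
    show g • a⁻¹ = a⁻¹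
    rw [smul_inv', ha]

theorem mem_fixElt {g : Γ} {v : V} : v ∈ fixElt (V := V) g ↔ g • v = v := Iff.rfl

/-- fixed points of a subgroup -/
def fixSub (H : Subgroup Γ) : Subgroup V where
  carrier := {v | ∀ h ∈ H, h • v = v}
  one_mem' := fun h _ => smul_one h
  mul_mem' := by
    intro a b ha hb h hh
    rw [smul_mul', ha h hh, hb h hh]
  inv_mem' := by
    intro a ha h hh
    rw [smul_inv', ha h hh]

theorem mem_fixSub {H : Subgroup Γ} {v : V} : v ∈ fixSub (V := V) H ↔ ∀ h ∈ H, h • v = v := Iff.rfl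

theorem fixSub_anti {H K : Subgroup Γ} (h : H ≤ K) : fixSub (V := V) K ≤ fixSub H :=
  fun _ hv g hg => hv g (h hg)

/-- the restricted action on an invariant subgroup -/
@[instance_reducible]
def subAct (F : Subgroup Γ) (W : Subgroup V) (hW : ∀ g ∈ F, ∀ w ∈ W, g • w ∈ W) : MulAction F W where
  smul g w := ⟨g.1 • w.1, hW g.1 g.2 w.1 w.2⟩
  one_smul w := Subtype.ext (one_smul Γ w.1)
  mul_smul g h w := Subtype.ext (mul_smul g.1 h.1 w.1)

/-- a `p`-group acting on a nontrivial `p`-group has a nontrivial fixed point -/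
theorem exists_fixed_ne_one [Finite V] {p : ℕ} [Fact p.Prime] (F : Subgroup Γ) (hF : IsPGroup p F)
    (W : Subgroup V) (hW : ∀ g ∈ F, ∀ w ∈ W, g • w ∈ W) (hWp : p ∣ Nat.card W) :
    ∃ w ∈ W, w ≠ 1 ∧ ∀ g ∈ F, g • w = w := by
  let _ := subAct F W hW
  have h1 : (1 : W) ∈ MulAction.fixedPoints F W := by
    intro g
    apply Subtype.ext
    show g.1 • (1 : V) = 1
    exact smul_one _
  obtain ⟨b, hb, hne⟩ := hF.exists_fixed_point_of_prime_dvd_card_of_fixed_point W hWp h1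
  refine ⟨b.1, b.2, ?_, ?_⟩
  · intro h
    apply hne
    exact (Subtype.ext h).symm
  · intro g hg
    have := hb ⟨g, hg⟩
    exact congrArg Subtype.val this

/-- fixed point congruence on an invariant subgroup with a single fixed point -/
theorem card_modEq_one_of_fpf [Finite V] {p : ℕ} [Fact p.Prime] (F : Subgroup Γ) (hF : IsPGroup p F)
    (W : Subgroup V) (hW : ∀ g ∈ F, ∀ w ∈ W, g • w ∈ W)
    (hfpf : ∀ w ∈ W, (∀ g ∈ F, g • w = w) → w = 1) : Nat.card W ≡ 1 [MOD p] := by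
  let _ := subAct F W hW
  have h := hF.card_modEq_card_fixedPoints W
  have h2 : Nat.card (MulAction.fixedPoints F W) = 1 := by
    rw [Nat.card_eq_one_iff_unique]
    refine ⟨⟨?_⟩, ⟨⟨1, ?_⟩⟩⟩
    · rintro ⟨a, ha⟩ ⟨b, hb⟩
      have ha1 : a = 1 := by
        apply Subtype.ext
        apply hfpf a.1 a.2
        intro g hg
        exact congrArg Subtype.val (ha ⟨g, hg⟩)
      have hb1 : b = 1 := by
        apply Subtype.ext
        apply hfpf b.1 b.2
        intro g hg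
        exact congrArg Subtype.val (hb ⟨g, hg⟩)
      apply Subtype.ext
      show a = b
      rw [ha1, hb1]
    · intro g
      apply Subtype.ext
      show g.1 • (1 : V) = 1
      exact smul_one _
  rw [h2] at h
  exact h

end action

section comm
variable {Γ V : Type*} [Group Γ] [Group V] [MulDistribMulAction Γ V]

/-- `v ↦ v⁻¹ (g • v)` on a commutative group `V` -/
def delta (hVc : ∀ a b : V, a * b = b * a) (g : Γ) : V →* V where
  toFun v := v⁻¹ * g • v
  map_one' := by simp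
  map_mul' a b := by
    rw [smul_mul', mul_inv_rev, hVc b⁻¹ a⁻¹, mul_assoc, mul_assoc]
    congr 1
    rw [← mul_assoc, ← mul_assoc, hVc b⁻¹ (g • a)]

variable (hVc : ∀ a b : V, a * b = b * a)

theorem delta_apply (g : Γ) (v : V) : delta hVc g v = v⁻¹ * g • v := rfl

theorem ker_delta (g : Γ) : (delta hVc g).ker = fixElt g := by
  ext v
  rw [MonoidHom.mem_ker, delta_apply, mem_fixElt, inv_mul_eq_one, eq_comm]

theorem card_range_delta [Finite V] (g : Γ) :
    Nat.card (delta hVc g).range * Nat.card (fixElt (V := V) g) = Nat.card V := by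
  rw [← Subgroup.index_ker, ker_delta, mul_comm]
  exact Subgroup.card_mul_index _

/-- `[V,g]` is invariant under elements commuting with `g` -/
theorem smul_mem_range_delta_of_comm (g h : Γ) (hgh : h * g = g * h) {v : V}
    (hv : v ∈ (delta hVc g).range) : h • v ∈ (delta hVc g).range := by
  obtain ⟨u, rfl⟩ := hv
  refine ⟨h • u, ?_⟩
  rw [delta_apply, delta_apply, smul_mul', smul_inv', ← mul_smul, ← mul_smul, hgh]

/-- `[V,g]` is invariant under elements inverting `g` -/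
theorem smul_mem_range_delta_of_inv (g h : Γ) (hgh : h * g = g⁻¹ * h) {v : V}
    (hv : v ∈ (delta hVc g).range) : h • v ∈ (delta hVc g).range := by
  obtain ⟨u, rfl⟩ := hv
  refine ⟨g⁻¹ • (h • u)⁻¹, ?_⟩
  have h1 : h • (g • u) = g⁻¹ • (h • u) := by rw [← mul_smul, hgh, mul_smul]
  have h2 : g • (g⁻¹ • (h • u)⁻¹) = (h • u)⁻¹ := by rw [← mul_smul, mul_inv_cancel, one_smul]
  have h3 : (g⁻¹ • (h • u)⁻¹)⁻¹ = g⁻¹ • (h • u) := by rw [smul_inv', inv_inv]
  have h4 : h • (u⁻¹ * g • u) = (h • u)⁻¹ * g⁻¹ • (h • u) := by rw [smul_mul', smul_inv', h1]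
  rw [delta_apply, delta_apply, h4, h2, h3]
  exact hVc _ _

theorem smul_mem_range_delta_self (g : Γ) {v : V}
    (hv : v ∈ (delta hVc g).range) : g • v ∈ (delta hVc g).range :=
  smul_mem_range_delta_of_comm hVc g g rfl hv

/-- a fixed point of `g` in `[V,g]` has order dividing the order of `g` -/
theorem pow_eq_one_of_mem_range_of_fixed (g : Γ) (n : ℕ) (hg : g ^ n = 1) {v : V}
    (hv : v ∈ (delta hVc g).range) (hfix : g • v = v) : v ^ n = 1 := by
  obtain ⟨u, hu⟩ := hv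
  rw [delta_apply] at hu
  have hgu : g • u = u * v := by rw [← hu, mul_inv_cancel_left]
  have key : ∀ i : ℕ, g ^ i • u = u * v ^ i := by
    intro i
    induction i with
    | zero => simp
    | succ i ih =>
      rw [pow_succ', mul_smul, ih, smul_mul', smul_pow', hgu, hfix, mul_assoc, ← pow_succ']
  have := key n
  rw [hg, one_smul] at this
  exact (mul_eq_left.mp this.symm)

/-- coprime action on an elementary abelian `2`-group: `C_{[V,g]}(g) = 1` for `g` of odd order -/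
theorem eq_one_of_mem_range_of_fixed (hV2 : ∀ v : V, v ^ 2 = 1) (g : Γ) (n : ℕ) (hn : Odd n)
    (hg : g ^ n = 1) {v : V} (hv : v ∈ (delta hVc g).range) (hfix : g • v = v) : v = 1 := by
  have h1 := pow_eq_one_of_mem_range_of_fixed hVc g n hg hv hfix
  obtain ⟨k, rfl⟩ := hn
  rw [pow_succ, pow_mul, hV2, one_pow, one_mul] at h1
  exact h1

/-- for `g` of odd order, `C_V(g²) = C_V(g)` -/
theorem smul_eq_of_sq_smul_eq (g : Γ) (n : ℕ) (hn : Odd n) (hg : g ^ n = 1) {v : V}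
    (h : (g ^ 2) • v = v) : g • v = v := by
  obtain ⟨k, rfl⟩ := hn
  have h1 : g = (g ^ 2) ^ (k + 1) := by
    rw [← pow_mul]
    have : 2 * (k + 1) = (2 * k + 1) + 1 := by ring
    rw [this, pow_succ, hg, one_mul]
  have h2 : ∀ i : ℕ, ((g ^ 2) ^ i) • v = v := by
    intro i
    induction i with
    | zero => simp
    | succ i ih => rw [pow_succ, mul_smul, h, ih]
  rw [h1]
  exact h2 (k + 1)

end comm

section eigen
variable {Γ : Type*} [Group Γ]

theorem conj_conj_comm (g h r : Γ) (hgh : g * h = h * g) :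
    g * (h * r * h⁻¹) * g⁻¹ = h * (g * r * g⁻¹) * h⁻¹ := by
  have h1 : g * (h * r * h⁻¹) * g⁻¹ = (g * h) * r * (g * h)⁻¹ := by group
  have h2 : h * (g * r * g⁻¹) * h⁻¹ = (h * g) * r * (h * g)⁻¹ := by group
  rw [h1, h2, hgh]

theorem conj_mul' (g a b : Γ) : g * (a * b) * g⁻¹ = (g * a * g⁻¹) * (g * b * g⁻¹) := by group

theorem conj_inv' (g a : Γ) : g * a⁻¹ * g⁻¹ = (g * a * g⁻¹)⁻¹ := by group

/-- one step of the simultaneous diagonalisation -/
theorem eigen_step' (Q : Subgroup Γ) (hQab : ∀ x ∈ Q, ∀ y ∈ Q, x * y = y * x)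
    (g r c : Γ) (hr : r ∈ Q) (hc : c ∈ Q) :
    (g * r * g⁻¹ = r → g * c * g⁻¹ = c → g * (r * c) * g⁻¹ = r * c ∧ g * (r * c⁻¹) * g⁻¹ = r * c⁻¹) ∧
    (g * r * g⁻¹ = r⁻¹ → g * c * g⁻¹ = c⁻¹ → g * (r * c) * g⁻¹ = (r * c)⁻¹ ∧
      g * (r * c⁻¹) * g⁻¹ = (r * c⁻¹)⁻¹) := by
  constructor
  · intro h1 h2
    constructor
    · rw [conj_mul', h1, h2]
    · rw [conj_mul', conj_inv', h1, h2]
  · intro h1 h2
    constructor
    · rw [conj_mul', h1, h2]
      have : (r * c)⁻¹ = c⁻¹ * r⁻¹ := mul_inv_rev r c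
      rw [this]
      exact hQab _ (Q.inv_mem hr) _ (Q.inv_mem hc)
    · rw [conj_mul', conj_inv', h1, h2]
      have : (r * c⁻¹)⁻¹ = c⁻¹⁻¹ * r⁻¹ := mul_inv_rev r c⁻¹
      rw [this]
      exact hQab _ (Q.inv_mem hr) _ (Q.inv_mem (Q.inv_mem hc))

theorem eigen_step (Q : Subgroup Γ) (hQab : ∀ x ∈ Q, ∀ y ∈ Q, x * y = y * x)
    (g h r : Γ) (hgh : g * h = h * g) (hr : r ∈ Q) (hc : h * r * h⁻¹ ∈ Q) :
    (g * r * g⁻¹ = r → g * (r * (h * r * h⁻¹)) * g⁻¹ = r * (h * r * h⁻¹) ∧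
      g * (r * (h * r * h⁻¹)⁻¹) * g⁻¹ = r * (h * r * h⁻¹)⁻¹) ∧
    (g * r * g⁻¹ = r⁻¹ → g * (r * (h * r * h⁻¹)) * g⁻¹ = (r * (h * r * h⁻¹))⁻¹ ∧
      g * (r * (h * r * h⁻¹)⁻¹) * g⁻¹ = (r * (h * r * h⁻¹)⁻¹)⁻¹) := by
  have hstep := eigen_step' Q hQab g r (h * r * h⁻¹) hr hc
  constructor
  · intro h1
    have h2 : g * (h * r * h⁻¹) * g⁻¹ = h * r * h⁻¹ := by rw [conj_conj_comm g h r hgh, h1]
    exact hstep.1 h1 h2
  · intro h1
    have h2 : g * (h * r * h⁻¹) * g⁻¹ = (h * r * h⁻¹)⁻¹ := by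
      rw [conj_conj_comm g h r hgh, h1, conj_inv']
    exact hstep.2 h1 h2

theorem eq_one_of_sq_eq_one_of_odd [Finite Γ] (Q : Subgroup Γ) (hQodd : Odd (Nat.card Q)) {r : Γ}
    (hr : r ∈ Q) (h2 : r ^ 2 = 1) : r = 1 := by
  have h1 : orderOf r ∣ 2 := orderOf_dvd_of_pow_eq_one h2
  have h3 : orderOf r ∣ Nat.card Q := by
    have := orderOf_dvd_natCard (⟨r, hr⟩ : Q)
    rwa [Subgroup.orderOf_mk] at this
  have h4 : orderOf r ∣ Nat.gcd 2 (Nat.card Q) := Nat.dvd_gcd h1 h3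
  have h5 : Nat.gcd 2 (Nat.card Q) = 1 := Nat.coprime_two_left.mpr hQodd
  rw [h5, Nat.dvd_one] at h4
  exact orderOf_eq_one_iff.mp h4

/-- simultaneous eigenvector for an elementary abelian `2`-group acting on an abelian group of odd order -/
theorem exists_eigen [Finite Γ] (Q F : Subgroup Γ) (hQab : ∀ x ∈ Q, ∀ y ∈ Q, x * y = y * x)
    (hQodd : Odd (Nat.card Q)) (hFQ : ∀ g ∈ F, ∀ x ∈ Q, g * x * g⁻¹ ∈ Q)
    (hFab : ∀ a ∈ F, ∀ b ∈ F, a * b = b * a) (hF2 : ∀ a ∈ F, a ^ 2 = 1)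
    (f : Γ) (hf : f ∈ F) (x₀ : Γ) (hx₀ : x₀ ∈ Q) (hx₀1 : x₀ ≠ 1) (hfx : f * x₀ * f⁻¹ = x₀⁻¹) :
    ∃ r ∈ Q, r ≠ 1 ∧ f * r * f⁻¹ = r⁻¹ ∧ ∀ g ∈ F, g * r * g⁻¹ = r ∨ g * r * g⁻¹ = r⁻¹ := by
  classical
  have key : ∀ S : Finset Γ, (∀ g ∈ S, g ∈ F) →
      ∃ r ∈ Q, r ≠ 1 ∧ f * r * f⁻¹ = r⁻¹ ∧ ∀ g ∈ S, g * r * g⁻¹ = r ∨ g * r * g⁻¹ = r⁻¹ := by
    intro S
    induction S using Finset.induction_on with
    | empty =>
      intro _
      exact ⟨x₀, hx₀, hx₀1, hfx, fun g hg => absurd hg (Finset.notMem_empty g)⟩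
    | insert h S hhS ih =>
      intro hS
      have hhF : h ∈ F := hS h (Finset.mem_insert_self h S)
      obtain ⟨r, hrQ, hr1, hfr, hrS⟩ := ih (fun g hg => hS g (Finset.mem_insert_of_mem hg))
      have hcQ : h * r * h⁻¹ ∈ Q := hFQ h hhF r hrQ
      have hhinv : h⁻¹ = h := by
        have := hF2 h hhF
        rw [pow_two] at this
        exact inv_eq_of_mul_eq_one_left this
      have hhc : h * (h * r * h⁻¹) * h⁻¹ = r := by
        have : h * (h * r * h⁻¹) * h⁻¹ = (h * h) * r * (h * h)⁻¹ := by group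
        rw [this, ← pow_two, hF2 h hhF]; simp
      -- the two candidates
      have hp_h : h * (r * (h * r * h⁻¹)) * h⁻¹ = r * (h * r * h⁻¹) := by
        rw [conj_mul', hhc]
        exact hQab _ hcQ _ hrQ
      have hm_h : h * (r * (h * r * h⁻¹)⁻¹) * h⁻¹ = (r * (h * r * h⁻¹)⁻¹)⁻¹ := by
        rw [conj_mul', conj_inv', hhc, mul_inv_rev, inv_inv]
      have hprod : (r * (h * r * h⁻¹)) * (r * (h * r * h⁻¹)⁻¹) = r ^ 2 := by
        have h1 : (h * r * h⁻¹) * (r * (h * r * h⁻¹)⁻¹) = r := by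
          rw [hQab _ hrQ _ (Q.inv_mem hcQ), mul_inv_cancel_left]
        rw [mul_assoc, h1, pow_two]
      have hne : r * (h * r * h⁻¹) ≠ 1 ∨ r * (h * r * h⁻¹)⁻¹ ≠ 1 := by
        by_contra hcon
        rw [not_or, not_not, not_not] at hcon
        rw [hcon.1, hcon.2, one_mul] at hprod
        exact hr1 (eq_one_of_sq_eq_one_of_odd Q hQodd hrQ hprod.symm)
      have hfh : f * h = h * f := hFab f hf h hhF
      have hstepf := (eigen_step Q hQab f h r hfh hrQ hcQ).2 hfr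
      rcases hne with hne | hne
      · refine ⟨r * (h * r * h⁻¹), Q.mul_mem hrQ hcQ, hne, hstepf.1, ?_⟩
        intro g hg
        rcases Finset.mem_insert.mp hg with rfl | hgS
        · left; exact hp_h
        · have hgF : g ∈ F := hS g hg
          have hgh : g * h = h * g := hFab g hgF h hhF
          have hstep := eigen_step Q hQab g h r hgh hrQ hcQ
          rcases hrS g hgS with h1 | h1
          · left; exact (hstep.1 h1).1
          · right; exact (hstep.2 h1).1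
      · refine ⟨r * (h * r * h⁻¹)⁻¹, Q.mul_mem hrQ (Q.inv_mem hcQ), hne, hstepf.2, ?_⟩
        intro g hg
        rcases Finset.mem_insert.mp hg with rfl | hgS
        · right; exact hm_h
        · have hgF : g ∈ F := hS g hg
          have hgh : g * h = h * g := hFab g hgF h hhF
          have hstep := eigen_step Q hQab g h r hgh hrQ hcQ
          rcases hrS g hgS with h1 | h1
          · left; exact (hstep.1 h1).2
          · right; exact (hstep.2 h1).2
  obtain ⟨r, hrQ, hr1, hfr, hr⟩ := key (Set.toFinite (F : Set Γ)).toFinset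
    (fun g hg => by simpa using hg)
  exact ⟨r, hrQ, hr1, hfr, fun g hg => hr g (by simpa using hg)⟩

end eigen

section cards
variable {G : Type*} [Group G]

theorem card_subgroupOf_le {H K : Subgroup G} (h : H ≤ K) : Nat.card (H.subgroupOf K) = Nat.card H :=
  Nat.card_congr (Subgroup.subgroupOfEquivOfLe h).toEquiv

theorem relIndex_mul_card_eq {H K : Subgroup G} (h : H ≤ K) : H.relIndex K * Nat.card H = Nat.card K := by
  have := (H.subgroupOf K).card_mul_index
  rw [card_subgroupOf_le h] at this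
  rw [mul_comm]
  exact this

theorem relIndex_mul_card_inf (H K : Subgroup G) : K.relIndex H * Nat.card (H ⊓ K : Subgroup G) = Nat.card H := by
  rw [← Subgroup.inf_relIndex_left H K]
  exact relIndex_mul_card_eq inf_le_left

theorem card_mul_card_le [Finite G] (H K L : Subgroup G) (hH : H ≤ L) (hK : K ≤ L) :
    Nat.card H * Nat.card K ≤ Nat.card L * Nat.card (H ⊓ K : Subgroup G) := by
  have h1 := relIndex_mul_card_inf H K
  have h2 := relIndex_mul_card_eq hK
  have h3 : K.relIndex H ≤ K.relIndex L := by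
    apply Subgroup.relIndex_le_of_le_right hH
    intro h0
    rw [h0, zero_mul] at h2
    exact (Nat.card_pos (α := L)).ne h2
  calc Nat.card H * Nat.card K = K.relIndex H * Nat.card (H ⊓ K : Subgroup G) * Nat.card K := by rw [h1]
    _ ≤ K.relIndex L * Nat.card (H ⊓ K : Subgroup G) * Nat.card K := by
        apply Nat.mul_le_mul_right
        exact Nat.mul_le_mul_right _ h3
    _ = Nat.card L * Nat.card (H ⊓ K : Subgroup G) := by rw [← h2]; ring

theorem two_mul_card_le_of_lt [Finite G] {H K : Subgroup G} (h : H < K) : 2 * Nat.card H ≤ Nat.card K := by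
  have h1 := relIndex_mul_card_eq h.le
  have h2 : H.relIndex K ≠ 1 := by
    intro h3
    rw [Subgroup.relIndex_eq_one] at h3
    exact (not_le_of_gt h) h3
  have h3 : H.relIndex K ≠ 0 := by
    intro h0
    rw [h0, zero_mul] at h1
    exact (Nat.card_pos (α := K)).ne h1
  have h4 : 2 ≤ H.relIndex K := by omega
  calc 2 * Nat.card H ≤ H.relIndex K * Nat.card H := Nat.mul_le_mul_right _ h4
    _ = Nat.card K := h1

end cards

section main
variable {Γ V : Type*} [Group Γ] [Group V] [Finite V] [MulDistribMulAction Γ V]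

/-- from a transvection `f` inverting an element `r` of odd prime order to the `S₃`-configuration -/
theorem S3_of_transvection (hVc : ∀ a b : V, a * b = b * a) (hV2 : ∀ v : V, v ^ 2 = 1)
    (r f : Γ) (q : ℕ) (hq : q.Prime) (hqodd : Odd q) (hrq : orderOf r = q)
    (hrV : ∃ v : V, r • v ≠ v) (hf2 : f ^ 2 = 1) (hfr : f * r * f⁻¹ = r⁻¹)
    (htr : Nat.card V ≤ 2 * Nat.card (fixElt (V := V) f)) :
    orderOf r = 3 ∧ ∃ V₁ : Subgroup V, Nat.card V₁ = 4 ∧ (∀ v ∈ V₁, r • v ∈ V₁) ∧ (∀ v ∈ V₁, f • v ∈ V₁) ∧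
      (∀ v ∈ V₁, r • v = v → v = 1) := by
  have hqf : Fact q.Prime := ⟨hq⟩
  have hrpow : r ^ q = 1 := by rw [← hrq]; exact pow_orderOf_eq_one r
  obtain ⟨V₁, hV₁⟩ : ∃ V₁, V₁ = (delta hVc r).range := ⟨_, rfl⟩
  have hfinv : f⁻¹ = f := by
    rw [pow_two] at hf2
    exact inv_eq_of_mul_eq_one_left hf2
  have hfr' : f * r = r⁻¹ * f := by
    have : f * r = (f * r * f⁻¹) * f := by group
    rw [this, hfr]
  have hrinv : ∀ v ∈ V₁, r • v ∈ V₁ := by
    intro v hv
    rw [hV₁] at hv ⊢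
    exact smul_mem_range_delta_self hVc r hv
  have hrinv' : ∀ v ∈ V₁, r⁻¹ • v ∈ V₁ := by
    intro v hv
    rw [hV₁] at hv ⊢
    exact smul_mem_range_delta_of_comm hVc r r⁻¹ (by group) hv
  have hfinvar : ∀ v ∈ V₁, f • v ∈ V₁ := by
    intro v hv
    rw [hV₁] at hv ⊢
    exact smul_mem_range_delta_of_inv hVc r f hfr' hv
  have hfpf : ∀ v ∈ V₁, r • v = v → v = 1 := by
    intro v hv hfix
    rw [hV₁] at hv
    exact eq_one_of_mem_range_of_fixed hVc hV2 r q hqodd hrpow hv hfix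
  have hV₁ne : V₁ ≠ ⊥ := by
    intro h
    obtain ⟨v, hv⟩ := hrV
    apply hv
    have : delta hVc r v ∈ V₁ := by rw [hV₁]; exact ⟨v, rfl⟩
    rw [h, Subgroup.mem_bot, delta_apply, inv_mul_eq_one] at this
    exact this.symm
  -- counting
  obtain ⟨X, hX⟩ : ∃ X, X = V₁ ⊓ fixElt (V := V) f := ⟨_, rfl⟩
  obtain ⟨X', hX'⟩ : ∃ X', X' = X.map (MulDistribMulAction.toMulEquiv V r).toMonoidHom := ⟨_, rfl⟩
  have hcardX' : Nat.card X' = Nat.card X := by
    rw [hX']
    exact Subgroup.card_map_of_injective (MulDistribMulAction.toMulEquiv V r).injective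
  have hXV₁ : X ≤ V₁ := by rw [hX]; exact inf_le_left
  have hX'V₁ : X' ≤ V₁ := by
    rw [hX']
    rintro _ ⟨x, hx, rfl⟩
    exact hrinv x (hXV₁ hx)
  have hdisj : X ⊓ X' = ⊥ := by
    rw [eq_bot_iff]
    rintro v ⟨hvX, hvX'⟩
    rw [Subgroup.mem_bot]
    rw [hX'] at hvX'
    obtain ⟨x, hx, hxv⟩ := hvX'
    have hxv' : r • x = v := hxv
    rw [hX] at hvX hx
    have hfv : f • v = v := hvX.2
    have hfx : f • x = x := hx.2
    have h1 : r⁻¹ • x = r • x := by
      calc r⁻¹ • x = r⁻¹ • (f • x) := by rw [hfx]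
        _ = (r⁻¹ * f) • x := (mul_smul _ _ _).symm
        _ = (f * r) • x := by rw [hfr']
        _ = f • (r • x) := mul_smul _ _ _
        _ = f • v := by rw [hxv']
        _ = v := hfv
        _ = r • x := hxv'.symm
    have h2 : (r ^ 2) • x = x := by
      rw [pow_two, mul_smul, ← h1, ← mul_smul, mul_inv_cancel, one_smul]
    have h3 : r • x = x := smul_eq_of_sq_smul_eq r q hqodd hrpow h2
    have hx1 : x = 1 := hfpf x hx.1 h3
    rw [← hxv', hx1, smul_one]
  -- `|X|² ≤ |V₁| ≤ 2 |X|`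
  have hc1 : Nat.card X * Nat.card X' ≤ Nat.card V₁ := by
    have := card_mul_card_le X X' V₁ hXV₁ hX'V₁
    rw [hdisj, Subgroup.card_bot, mul_one] at this
    exact this
  have hc2 : Nat.card V₁ ≤ 2 * Nat.card X := by
    have h1 := card_mul_card_le V₁ (fixElt (V := V) f) ⊤ le_top le_top
    rw [Subgroup.card_top, ← hX] at h1
    have hpos : 0 < Nat.card (fixElt (V := V) f) := Nat.card_pos
    have h2 : Nat.card V₁ * Nat.card (fixElt (V := V) f) ≤
        2 * Nat.card X * Nat.card (fixElt (V := V) f) := by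
      calc Nat.card V₁ * Nat.card (fixElt (V := V) f) ≤ Nat.card V * Nat.card X := h1
        _ ≤ 2 * Nat.card (fixElt (V := V) f) * Nat.card X := Nat.mul_le_mul_right _ htr
        _ = 2 * Nat.card X * Nat.card (fixElt (V := V) f) := by ring
    exact Nat.le_of_mul_le_mul_right h2 hpos
  have hXpos : 0 < Nat.card X := Nat.card_pos
  have hXle : Nat.card X ≤ 2 := by
    rw [hcardX'] at hc1
    by_contra hcon
    push Not at hcon
    nlinarith
  have hV₁le : Nat.card V₁ ≤ 4 := by omega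
  -- `|V₁|` is a power of two
  have hVp : IsPGroup 2 V := by
    intro v
    exact ⟨1, by rw [pow_one]; exact hV2 v⟩
  obtain ⟨j, hj⟩ := IsPGroup.iff_card.mp (hVp.to_subgroup V₁)
  have hj1 : j ≠ 0 := by
    intro h0
    rw [h0, pow_zero] at hj
    exact hV₁ne (Subgroup.card_eq_one.mp hj)
  -- fixed point congruence
  have hzp : IsPGroup q (Subgroup.zpowers r) := by
    apply IsPGroup.of_card (n := 1)
    rw [Nat.card_zpowers, hrq, pow_one]
  have hzinv : ∀ g ∈ Subgroup.zpowers r, ∀ w ∈ V₁, g • w ∈ V₁ := by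
    intro g hg w hw
    obtain ⟨k, rfl⟩ := Subgroup.mem_zpowers_iff.mp hg
    rw [hV₁] at hw ⊢
    exact smul_mem_range_delta_of_comm hVc r (r ^ k) (by group) hw
  have hmod := card_modEq_one_of_fpf (Subgroup.zpowers r) hzp V₁ hzinv
    (fun w hw hfix => hfpf w hw (hfix r (Subgroup.mem_zpowers r)))
  have hdvd : q ∣ Nat.card V₁ - 1 :=
    (Nat.modEq_iff_dvd' Nat.card_pos).mp hmod.symm
  have hq3 : 3 ≤ q := by
    have := hq.two_le
    rcases hqodd with ⟨k, hk⟩
    omega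
  have hj2 : j = 2 := by
    have hjle : j ≤ 2 := by
      by_contra hcon
      push Not at hcon
      have : 2 ^ 3 ≤ 2 ^ j := Nat.pow_le_pow_right (by norm_num) hcon
      omega
    interval_cases j
    · exact absurd rfl hj1
    · exfalso
      rw [hj] at hdvd
      norm_num at hdvd
      omega
    · rfl
  rw [hj2] at hj
  have hq3' : q = 3 := by
    rw [hj] at hdvd
    norm_num at hdvd
    have := Nat.le_of_dvd (by norm_num) hdvd
    omega
  refine ⟨by rw [hrq, hq3'], V₁, by rw [hj]; norm_num, hrinv, hfinvar, hfpf⟩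

/-- a minimal offender is generated by a transvection inverting an element of odd prime order -/
theorem exists_transvection [Finite Γ] (hfaith : ∀ g : Γ, (∀ v : V, g • v = v) → g = 1)
    (hVc : ∀ a b : V, a * b = b * a) (hV2 : ∀ v : V, v ^ 2 = 1)
    (Q : Subgroup Γ) (hQab : ∀ x ∈ Q, ∀ y ∈ Q, x * y = y * x) (hQodd : Odd (Nat.card Q))
    (A : Subgroup Γ) (hAQ : ∀ a ∈ A, ∀ x ∈ Q, a * x * a⁻¹ ∈ Q)
    (hAab : ∀ a ∈ A, ∀ b ∈ A, a * b = b * a) (hA2 : ∀ a ∈ A, a ^ 2 = 1)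
    (hAfaith : ∀ a ∈ A, (∀ x ∈ Q, a * x * a⁻¹ = x) → a = 1) (hAne : A ≠ ⊥)
    (hoff : Nat.card V ≤ Nat.card A * Nat.card (fixSub (V := V) A)) :
    ∃ (r f : Γ) (q : ℕ), r ∈ Q ∧ f ∈ A ∧ q.Prime ∧ Odd q ∧ orderOf r = q ∧ f ≠ 1 ∧ f * r * f⁻¹ = r⁻¹ ∧
      Nat.card V ≤ 2 * Nat.card (fixElt (V := V) f) := by
  classical
  -- a minimal offender
  let 𝒮 : Set (Subgroup Γ) := {F | F ≤ A ∧ F ≠ ⊥ ∧ Nat.card V ≤ Nat.card F * Nat.card (fixSub (V := V) F)}
  have hne : 𝒮.Nonempty := ⟨A, le_rfl, hAne, hoff⟩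
  obtain ⟨F, ⟨hFA, hFne, hFoff⟩, hFmin⟩ :=
    Set.exists_min_image 𝒮 (fun F => Nat.card F) (Set.toFinite 𝒮) hne
  obtain ⟨⟨f, hfF⟩, hf1'⟩ := Subgroup.ne_bot_iff_exists_ne_one.mp hFne
  have hf1 : f ≠ 1 := fun h => hf1' (Subtype.ext h)
  have hfA : f ∈ A := hFA hfF
  have hf2 : f ^ 2 = 1 := hA2 f hfA
  have hfinv : f⁻¹ = f := by
    rw [pow_two] at hf2
    exact inv_eq_of_mul_eq_one_left hf2
  -- an element inverted by `f`
  obtain ⟨y, hyQ, hy⟩ : ∃ y ∈ Q, f * y * f⁻¹ ≠ y := by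
    by_contra hcon
    push Not at hcon
    exact hf1 (hAfaith f hfA hcon)
  have hx₀Q : y⁻¹ * (f * y * f⁻¹) ∈ Q := Q.mul_mem (Q.inv_mem hyQ) (hAQ f hfA y hyQ)
  have hx₀1 : y⁻¹ * (f * y * f⁻¹) ≠ 1 := by
    intro h
    apply hy
    rw [inv_mul_eq_one] at h
    exact h.symm
  have hfx₀ : f * (y⁻¹ * (f * y * f⁻¹)) * f⁻¹ = (y⁻¹ * (f * y * f⁻¹))⁻¹ := by
    have h1 : f * (y⁻¹ * (f * y * f⁻¹)) * f⁻¹ = (f * y * f⁻¹)⁻¹ * ((f * f) * y * (f * f)⁻¹) := by group
    rw [h1, ← pow_two, hf2]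
    group
  obtain ⟨r₀, hr₀Q, hr₀1, hfr₀, hr₀F⟩ := exists_eigen Q F hQab hQodd
    (fun g hg x hx => hAQ g (hFA hg) x hx) (fun a ha b hb => hAab a (hFA ha) b (hFA hb))
    (fun a ha => hA2 a (hFA ha)) f hfF _ hx₀Q hx₀1 hfx₀
  -- prime order
  have hn1 : orderOf r₀ ≠ 1 := fun h => hr₀1 (orderOf_eq_one_iff.mp h)
  have hn0 : orderOf r₀ ≠ 0 := (orderOf_pos r₀).ne'
  have hndvd : orderOf r₀ ∣ Nat.card Q := by
    have := orderOf_dvd_natCard (⟨r₀, hr₀Q⟩ : Q)
    rwa [Subgroup.orderOf_mk] at this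
  obtain ⟨q, hq⟩ : ∃ q, q = (orderOf r₀).minFac := ⟨_, rfl⟩
  have hqp : q.Prime := by rw [hq]; exact Nat.minFac_prime hn1
  have hqdvd : q ∣ orderOf r₀ := by rw [hq]; exact Nat.minFac_dvd _
  have hqodd : Odd q := (hQodd.of_dvd_nat hndvd).of_dvd_nat hqdvd
  obtain ⟨r, hr⟩ : ∃ r, r = r₀ ^ (orderOf r₀ / q) := ⟨_, rfl⟩
  have hrq : orderOf r = q := by rw [hr]; exact orderOf_pow_orderOf_div hn0 hqdvd
  have hrQ : r ∈ Q := by rw [hr]; exact Q.pow_mem hr₀Q _
  have hr1 : r ≠ 1 := by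
    intro h
    rw [h, orderOf_one] at hrq
    exact hqp.one_lt.ne hrq
  have hconj : ∀ g : Γ, (g * r₀ * g⁻¹ = r₀ → g * r * g⁻¹ = r) ∧ (g * r₀ * g⁻¹ = r₀⁻¹ → g * r * g⁻¹ = r⁻¹) := by
    intro g
    constructor
    · intro h
      rw [hr, ← conj_pow, h]
    · intro h
      rw [hr, ← conj_pow, h, inv_pow]
  have hfr : f * r * f⁻¹ = r⁻¹ := (hconj f).2 hfr₀
  have hrF : ∀ g ∈ F, g * r * g⁻¹ = r ∨ g * r * g⁻¹ = r⁻¹ := by
    intro g hg
    rcases hr₀F g hg with h | h
    · left; exact (hconj g).1 h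
    · right; exact (hconj g).2 h
  have hrpow : r ^ q = 1 := by rw [← hrq]; exact pow_orderOf_eq_one r
  have hrinvne : r⁻¹ ≠ r := by
    intro h
    apply hr1
    apply eq_one_of_sq_eq_one_of_odd Q hQodd hrQ
    rw [pow_two]
    nth_rewrite 1 [← h]
    exact inv_mul_cancel r
  refine ⟨r, f, q, hrQ, hfA, hqp, hqodd, hrq, hf1, hfr, ?_⟩
  -- the centralizer of `r` in `F`
  obtain ⟨F₀, hF₀⟩ : ∃ F₀, F₀ = F ⊓ Subgroup.centralizer {r} := ⟨_, rfl⟩
  have hF₀F : F₀ ≤ F := by rw [hF₀]; exact inf_le_left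
  have hmemF₀ : ∀ g, g ∈ F₀ ↔ g ∈ F ∧ g * r * g⁻¹ = r := by
    intro g
    rw [hF₀, Subgroup.mem_inf, Subgroup.mem_centralizer_singleton_iff]
    constructor
    · rintro ⟨h1, h2⟩
      exact ⟨h1, by rw [h2]; group⟩
    · rintro ⟨h1, h2⟩
      refine ⟨h1, ?_⟩
      calc g * r = (g * r * g⁻¹) * g := by group
        _ = r * g := by rw [h2]
  have hfF₀ : f ∉ F₀ := by
    intro h
    have := ((hmemF₀ f).mp h).2
    rw [hfr] at this
    exact hrinvne this
  have hrel : F₀.relIndex F = 2 := by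
    rw [Subgroup.relIndex_eq_two_iff]
    refine ⟨f, hfF, ?_⟩
    intro b hb
    have hbf : (b * f) * r * (b * f)⁻¹ = b * (f * r * f⁻¹) * b⁻¹ := by group
    rcases hrF b hb with h | h
    · right
      refine ⟨(hmemF₀ b).mpr ⟨hb, h⟩, ?_⟩
      intro hcon
      have := ((hmemF₀ _).mp hcon).2
      rw [hbf, hfr, conj_inv', h] at this
      exact hrinvne this
    · left
      refine ⟨(hmemF₀ _).mpr ⟨F.mul_mem hb hfF, ?_⟩, ?_⟩
      · rw [hbf, hfr, conj_inv', h, inv_inv]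
      · intro hcon
        have := ((hmemF₀ b).mp hcon).2
        rw [h] at this
        exact hrinvne this
  have hcardF : Nat.card F = 2 * Nat.card F₀ := by
    have := relIndex_mul_card_eq hF₀F
    rw [hrel] at this
    exact this.symm
  have hF₀bot : F₀ = ⊥ := by
    by_contra hF₀ne
    have hnotin : ¬ (Nat.card V ≤ Nat.card F₀ * Nat.card (fixSub (V := V) F₀)) := by
      intro h
      have := hFmin F₀ ⟨hF₀F.trans hFA, hF₀ne, h⟩
      have hpos : 0 < Nat.card F₀ := Nat.card_pos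
      omega
    have hfixeq : fixSub (V := V) F₀ = fixSub F := by
      by_contra hne'
      have hlt : fixSub (V := V) F < fixSub F₀ :=
        lt_of_le_of_ne (fixSub_anti hF₀F) (fun h => hne' h.symm)
      have h2 := two_mul_card_le_of_lt hlt
      apply hnotin
      calc Nat.card V ≤ Nat.card F * Nat.card (fixSub (V := V) F) := hFoff
        _ = Nat.card F₀ * (2 * Nat.card (fixSub (V := V) F)) := by rw [hcardF]; ring
        _ ≤ Nat.card F₀ * Nat.card (fixSub (V := V) F₀) := Nat.mul_le_mul_left _ h2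
    -- `r` centralizes `C_V(F)`
    have hrU : ∀ u ∈ fixSub (V := V) F, r • u = u := by
      intro u hu
      have h1 : r • u ∈ fixSub (V := V) F := by
        rw [← hfixeq] at hu ⊢
        intro g hg
        have hgr : g * r = r * g := by
          have := ((hmemF₀ g).mp hg).2
          calc g * r = (g * r * g⁻¹) * g := by group
            _ = r * g := by rw [this]
        rw [← mul_smul, hgr, mul_smul, hu g hg]
      have h2 : f • (r • u) = r • u := h1 f hfF
      have hfr' : f * r = r⁻¹ * f := by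
        have : f * r = (f * r * f⁻¹) * f := by group
        rw [this, hfr]
      have h3 : f • (r • u) = r⁻¹ • u := by
        rw [← mul_smul, hfr', mul_smul, hu f hfF]
      have h4 : (r ^ 2) • u = u := by
        rw [pow_two, mul_smul, ← h2, h3, ← mul_smul, mul_inv_cancel, one_smul]
      exact smul_eq_of_sq_smul_eq r q hqodd hrpow h4
    -- a nontrivial `F`-fixed point of `[V,r]`
    have hFp : IsPGroup 2 F := by
      intro g
      refine ⟨1, ?_⟩
      rw [pow_one]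
      apply Subtype.ext
      simpa using hA2 g.1 (hFA g.2)
    have hinv : ∀ g ∈ F, ∀ w ∈ (delta hVc r).range, g • w ∈ (delta hVc r).range := by
      intro g hg w hw
      rcases hrF g hg with h | h
      · apply smul_mem_range_delta_of_comm hVc r g _ hw
        calc g * r = (g * r * g⁻¹) * g := by group
          _ = r * g := by rw [h]
      · apply smul_mem_range_delta_of_inv hVc r g _ hw
        calc g * r = (g * r * g⁻¹) * g := by group
          _ = r⁻¹ * g := by rw [h]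
    have hVp : IsPGroup 2 V := fun v => ⟨1, by rw [pow_one]; exact hV2 v⟩
    have hrange_ne : (delta hVc r).range ≠ ⊥ := by
      intro h
      apply hr1
      apply hfaith
      intro v
      have : delta hVc r v ∈ (delta hVc r).range := ⟨v, rfl⟩
      rw [h, Subgroup.mem_bot, delta_apply, inv_mul_eq_one] at this
      exact this.symm
    have h2dvd : 2 ∣ Nat.card (delta hVc r).range := by
      rcases (hVp.to_subgroup (delta hVc r).range).card_eq_or_dvd with h | h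
      · exact absurd (Subgroup.card_eq_one.mp h) hrange_ne
      · exact h
    obtain ⟨w, hw, hw1, hwfix⟩ := exists_fixed_ne_one F hFp (delta hVc r).range hinv h2dvd
    apply hw1
    exact eq_one_of_mem_range_of_fixed hVc hV2 r q hqodd hrpow hw (hrU w hwfix)
  -- so `F = {1, f}`
  rw [hF₀bot, Subgroup.card_bot, mul_one] at hcardF
  have hfix : fixSub (V := V) F ≤ fixElt f := fun v hv => hv f hfF
  calc Nat.card V ≤ Nat.card F * Nat.card (fixSub (V := V) F) := hFoff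
    _ = 2 * Nat.card (fixSub (V := V) F) := by rw [hcardF]
    _ ≤ 2 * Nat.card (fixElt (V := V) f) := Nat.mul_le_mul_left _ (Subgroup.card_le_of_le hfix)

/-- **offenders give an `S₃`-configuration** -/
theorem exists_S3_config [Finite Γ] (hfaith : ∀ g : Γ, (∀ v : V, g • v = v) → g = 1)
    (hVc : ∀ a b : V, a * b = b * a) (hV2 : ∀ v : V, v ^ 2 = 1)
    (Q : Subgroup Γ) (hQab : ∀ x ∈ Q, ∀ y ∈ Q, x * y = y * x) (hQodd : Odd (Nat.card Q))
    (A : Subgroup Γ) (hAQ : ∀ a ∈ A, ∀ x ∈ Q, a * x * a⁻¹ ∈ Q)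
    (hAab : ∀ a ∈ A, ∀ b ∈ A, a * b = b * a) (hA2 : ∀ a ∈ A, a ^ 2 = 1)
    (hAfaith : ∀ a ∈ A, (∀ x ∈ Q, a * x * a⁻¹ = x) → a = 1) (hAne : A ≠ ⊥)
    (hoff : Nat.card V ≤ Nat.card A * Nat.card (fixSub (V := V) A)) :
    ∃ (r f : Γ) (V₁ : Subgroup V), r ∈ Q ∧ f ∈ A ∧ orderOf r = 3 ∧ f ≠ 1 ∧ f ^ 2 = 1 ∧ f * r * f⁻¹ = r⁻¹ ∧
      Nat.card V₁ = 4 ∧ (∀ v ∈ V₁, r • v ∈ V₁) ∧ (∀ v ∈ V₁, f • v ∈ V₁) ∧
      (∀ v ∈ V₁, r • v = v → v = 1) := by
  obtain ⟨r, f, q, hrQ, hfA, hqp, hqodd, hrq, hf1, hfr, htr⟩ :=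
    exists_transvection hfaith hVc hV2 Q hQab hQodd A hAQ hAab hA2 hAfaith hAne hoff
  have hrV : ∃ v : V, r • v ≠ v := by
    by_contra hcon
    push Not at hcon
    have := hfaith r hcon
    rw [this, orderOf_one] at hrq
    exact hqp.one_lt.ne hrq
  obtain ⟨h3, V₁, h4, hr, hf, hfpf⟩ :=
    S3_of_transvection hVc hV2 r f q hqp hqodd hrq hrV (hA2 f hfA) hfr htr
  exact ⟨r, f, V₁, hrQ, hfA, h3, hf1, hA2 f hfA, hfr, h4, hr, hf, hfpf⟩

end main

end Cfsg.Agent.Lib.Helper8.ThTwo
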