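import Mathlib
import Cfsg.Agent.Lib.Helper8.ThTwoA
import Cfsg.Agent.Lib.Helper27.Involves

/-!
# Finding a section isomorphic to `S₄` (helper8 library)
-/

set_option autoImplicit false
open Subgroup
open scoped Pointwise

namespace Cfsg.Agent.Lib.Helper8.ThTwo

section perm4

/-- a group `V ⋊ D` with `|V| = 4` and `D` inducing a group of order divisible by `6` on `V` maps onto `S₄` -/
theorem exists_surj_perm4 {L : Type*} [Group L] [Finite L] (V D : Subgroup L) [hVn : V.Normal]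
    (hV4 : Nat.card V = 4) (hdisj : V ⊓ D = ⊥) (htop : V ⊔ D = ⊤)
    (h6 : 6 ∣ (D ⊓ Subgroup.centralizer (V : Set L)).relIndex D) :
    ∃ g : L →* Equiv.Perm (Fin 4), Function.Surjective g := by
  have hcompl : V.IsComplement' D := by
    apply Subgroup.isComplement'_of_disjoint_and_mul_eq_univ (disjoint_iff.mpr hdisj)
    rw [← Subgroup.normal_mul, htop, Subgroup.coe_top]
  have hidx : D.index = 4 := by rw [hcompl.index_eq_card, hV4]
  have hcardX : Nat.card (L ⧸ D) = 4 := by rw [← Subgroup.index_eq_card, hidx]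
  have hcore_le : D.normalCore ≤ D := Subgroup.normalCore_le D
  have hcoren : D.normalCore.Normal := Subgroup.normalCore_normal D
  have hcoreC : D.normalCore ≤ D ⊓ Subgroup.centralizer (V : Set L) := by
    refine le_inf hcore_le ?_
    intro c hc
    refine Subgroup.mem_centralizer_iff.mpr ?_
    intro v hv
    have hd : Disjoint D.normalCore V := by
      rw [disjoint_iff, eq_bot_iff, ← hdisj]
      exact le_inf inf_le_right (inf_le_left.trans hcore_le)
    exact (Subgroup.commute_of_normal_of_disjoint D.normalCore V hcoren hVn hd c v hc hv).eq.symm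
  have h6' : 6 ∣ D.normalCore.relIndex D := by
    rw [← Subgroup.relIndex_mul_relIndex _ _ _ hcoreC inf_le_left]
    exact Dvd.dvd.mul_left h6 _
  have h24 : 24 ∣ D.normalCore.index := by
    rw [← Subgroup.relIndex_mul_index hcore_le, hidx]
    obtain ⟨k, hk⟩ := h6'
    rw [hk]
    exact ⟨k, by ring⟩
  have hrange : Nat.card (MulAction.toPermHom L (L ⧸ D)).range = D.normalCore.index := by
    rw [← Subgroup.index_ker, ← Subgroup.normalCore_eq_ker]
  have hperm : Nat.card (Equiv.Perm (L ⧸ D)) = 24 := by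
    rw [Nat.card_perm, hcardX]; rfl
  have hdvd : Nat.card (MulAction.toPermHom L (L ⧸ D)).range ∣ 24 := by
    rw [← hperm]
    exact Subgroup.card_subgroup_dvd_card _
  have heq : Nat.card (MulAction.toPermHom L (L ⧸ D)).range = 24 := by
    rw [hrange] at hdvd ⊢
    exact Nat.dvd_antisymm hdvd h24
  have hsurj : (MulAction.toPermHom L (L ⧸ D)).range = ⊤ := by
    rw [← Subgroup.card_eq_iff_eq_top, heq, hperm]
  let e : (L ⧸ D) ≃ Fin 4 := Finite.equivFinOfCardEq hcardX
  refine ⟨(Equiv.permCongrHom e).toMonoidHom.comp (MulAction.toPermHom L (L ⧸ D)), ?_⟩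
  intro σ
  obtain ⟨τ, hτ⟩ := (Equiv.permCongrHom e).surjective σ
  have : τ ∈ (MulAction.toPermHom L (L ⧸ D)).range := by rw [hsurj]; exact Subgroup.mem_top τ
  obtain ⟨l, hl⟩ := this
  refine ⟨l, ?_⟩
  show (Equiv.permCongrHom e) ((MulAction.toPermHom L (L ⧸ D)) l) = σ
  rw [hl, hτ]

end perm4

section fixedpoints
variable {Γ V : Type*} [Group Γ] [Group V] [MulDistribMulAction Γ V]

/-- fixed point congruence for a `p`-group acting on an invariant subgroup -/
theorem card_modEq_card_inf_fixSub [Finite V] {p : ℕ} [Fact p.Prime] (F : Subgroup Γ) (hF : IsPGroup p F)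
    (W : Subgroup V) (hW : ∀ g ∈ F, ∀ w ∈ W, g • w ∈ W) :
    Nat.card W ≡ Nat.card (W ⊓ fixSub (V := V) F : Subgroup V) [MOD p] := by
  let _ := subAct F W hW
  have h := hF.card_modEq_card_fixedPoints W
  have h2 : Nat.card (MulAction.fixedPoints F W) = Nat.card (W ⊓ fixSub (V := V) F : Subgroup V) := by
    apply Nat.card_congr
    refine ⟨fun w => ⟨w.1.1, w.1.2, fun g hg => congrArg Subtype.val (w.2 ⟨g, hg⟩)⟩,
      fun v => ⟨⟨v.1, v.2.1⟩, fun g => Subtype.ext (v.2.2 g.1 g.2)⟩, ?_, ?_⟩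
    · intro w; rfl
    · intro v; rfl
  rw [h2] at h
  exact h

end fixedpoints

section involves
universe u v

/-- being involved passes from a quotient to the group -/
theorem involves_of_quotient {H : Type u} [Group H] {Y : Type v} [Group Y] (N : Subgroup Y) [N.Normal]
    (h : Cfsg.Involves H (Y ⧸ N)) : Cfsg.Involves H Y := by
  obtain ⟨K, R, hn, ⟨e⟩⟩ := h
  refine Cfsg.Agent.Lib.Helper27.involves_of_surjective_on_subgroup (K.comap (QuotientGroup.mk' N))
    ((e.toMonoidHom.comp (QuotientGroup.mk' (R.subgroupOf K))).comp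
      ((QuotientGroup.mk' N).subgroupComap K)) ?_
  intro x
  obtain ⟨y, hy⟩ := QuotientGroup.mk'_surjective (R.subgroupOf K) (e.symm x)
  obtain ⟨z, hz⟩ := MonoidHom.subgroupComap_surjective_of_surjective (QuotientGroup.mk' N) K
    (QuotientGroup.mk'_surjective N) y
  refine ⟨z, ?_⟩
  show e ((QuotientGroup.mk' (R.subgroupOf K)) (((QuotientGroup.mk' N).subgroupComap K) z)) = x
  rw [hz, hy]
  simp

end involves

section config
universe u

/-- a group `K` with a normal `2`-subgroup `B` of index `6` acting faithfully (modulo `B`) on a normal subgroup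
of order `4` involves `S₄` -/
theorem involves_perm4_of_config {K : Type u} [Group K] [Finite K] (B V₁ : Subgroup K) [hBn : B.Normal]
    [hV₁n : V₁.Normal] (hB2 : IsPGroup 2 B) (hBidx : B.index = 6) (hV4 : Nat.card V₁ = 4)
    (hcent : Subgroup.centralizer (V₁ : Set K) ≤ B) : Cfsg.Involves (Equiv.Perm (Fin 4)) K := by
  obtain ⟨k, hk⟩ := IsPGroup.iff_card.mp hB2
  have hcardK : Nat.card K = 2 ^ k * 6 := by rw [← hk, ← hBidx]; exact (B.card_mul_index).symm
  have h3f : Fact (Nat.Prime 3) := ⟨Nat.prime_three⟩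
  obtain ⟨P₃⟩ : Nonempty (Sylow 3 K) := inferInstance
  -- `|P₃| = 3`
  have hP3card : Nat.card P₃ = 3 := by
    obtain ⟨m, hm⟩ := IsPGroup.iff_card.mp P₃.2
    have hdvd : 3 ^ m ∣ 2 ^ k * 6 := by rw [← hm, ← hcardK]; exact Subgroup.card_subgroup_dvd_card _
    have hm1 : m ≤ 1 := by
      by_contra hcon
      push Not at hcon
      have h9 : 3 ^ 2 ∣ 2 ^ k * 6 := (pow_dvd_pow 3 hcon).trans hdvd
      have h9' : 3 * 3 ∣ 3 * (2 ^ k * 2) := by
        have : 3 * (2 ^ k * 2) = 2 ^ k * 6 := by ring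
        rw [this]; exact h9
      have h3 : 3 ∣ 2 ^ k * 2 := Nat.dvd_of_mul_dvd_mul_left (by norm_num) h9'
      rw [← pow_succ] at h3
      have := Nat.Prime.dvd_of_dvd_pow Nat.prime_three h3
      omega
    have hm0 : m ≠ 0 := by
      intro h0
      have hnd := P₃.not_dvd_index
      apply hnd
      have h1 := (P₃ : Subgroup K).card_mul_index
      rw [hm, h0, pow_zero, one_mul, hcardK] at h1
      rw [h1]
      exact ⟨2 ^ k * 2, by ring⟩
    have : m = 1 := by omega
    rw [hm, this, pow_one]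
  have hP3B : (P₃ : Subgroup K) ⊓ B = ⊥ := by
    apply (Subgroup.disjoint_of_coprime_natCard _).eq_bot
    rw [hP3card, hk]
    exact Nat.Coprime.pow_right k (by norm_num)
  have hP3V : V₁ ⊓ (P₃ : Subgroup K) = ⊥ := by
    apply (Subgroup.disjoint_of_coprime_natCard _).eq_bot
    rw [hP3card, hV4]
    norm_num
  -- `R₀ = B P₃` is normal of index `2`
  have hrel3 : B.relIndex (B ⊔ (P₃ : Subgroup K)) = 3 := by
    rw [Subgroup.relIndex_sup_left, ← Subgroup.inf_relIndex_right, inf_comm, hP3B,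
      Subgroup.relIndex_bot_left, hP3card]
  have hR₀idx : (B ⊔ (P₃ : Subgroup K)).index = 2 := by
    have := Subgroup.relIndex_mul_index (le_sup_left : B ≤ B ⊔ (P₃ : Subgroup K))
    rw [hrel3, hBidx] at this
    omega
  have hR₀n : (B ⊔ (P₃ : Subgroup K)).Normal := Subgroup.normal_of_index_eq_two hR₀idx
  have hfrat := Sylow.normalizer_sup_eq_top' P₃ (le_sup_right : (P₃ : Subgroup K) ≤ B ⊔ (P₃ : Subgroup K))
  obtain ⟨D, hD⟩ : ∃ D, D = Subgroup.normalizer ((P₃ : Subgroup K) : Set K) := ⟨_, rfl⟩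
  have hfrat' : D ⊔ (B ⊔ (P₃ : Subgroup K)) = ⊤ := by rw [hD]; exact hfrat
  have hP3D : (P₃ : Subgroup K) ≤ D := by rw [hD]; exact Subgroup.le_normalizer
  have hDB : D ⊔ B = ⊤ := by
    rw [eq_top_iff, ← hfrat']
    exact sup_le le_sup_left (sup_le le_sup_right (hP3D.trans le_sup_left))
  have hrelD : (D ⊓ B).relIndex D = 6 := by
    rw [Subgroup.inf_relIndex_left, ← Subgroup.relIndex_sup_right, hDB, Subgroup.relIndex_top_right, hBidx]
  have h6 : 6 ∣ (D ⊓ Subgroup.centralizer (V₁ : Set K)).relIndex D := by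
    have hle : D ⊓ Subgroup.centralizer (V₁ : Set K) ≤ D ⊓ B := inf_le_inf_left D hcent
    rw [← Subgroup.relIndex_mul_relIndex _ _ _ hle inf_le_left, hrelD]
    exact Dvd.intro_left _ rfl
  -- `V₁ ∩ D = 1`
  have hVD : V₁ ⊓ D = ⊥ := by
    rw [eq_bot_iff]
    rintro x ⟨hxV, hxD⟩
    rw [Subgroup.mem_bot]
    -- `x` centralizes `P₃`
    have hxc : ∀ ρ ∈ (P₃ : Subgroup K), ρ * x * ρ⁻¹ = x := by
      intro ρ hρ
      have h1 : x * ρ * x⁻¹ * ρ⁻¹ ∈ (P₃ : Subgroup K) := by
        rw [hD] at hxD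
        exact Subgroup.mul_mem _ ((Subgroup.mem_normalizer_iff.mp hxD ρ).mp hρ) (Subgroup.inv_mem _ hρ)
      have h2 : x * ρ * x⁻¹ * ρ⁻¹ ∈ V₁ := by
        have : x * ρ * x⁻¹ * ρ⁻¹ = x * (ρ * x⁻¹ * ρ⁻¹) := by group
        rw [this]
        exact V₁.mul_mem hxV (hV₁n.conj_mem _ (V₁.inv_mem hxV) ρ)
      have h3 : x * ρ * x⁻¹ * ρ⁻¹ ∈ V₁ ⊓ (P₃ : Subgroup K) := ⟨h2, h1⟩
      rw [hP3V, Subgroup.mem_bot] at h3
      calc ρ * x * ρ⁻¹ = (x * ρ * x⁻¹ * ρ⁻¹)⁻¹ * x := by group
        _ = x := by rw [h3, inv_one, one_mul]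
    -- fixed point congruence for `P₃` acting on `V₁` by conjugation
    obtain ⟨F, hF⟩ : ∃ F, F = (P₃ : Subgroup K).map (MulAut.conj (G := K)) := ⟨_, rfl⟩
    have hFp : IsPGroup 3 F := by rw [hF]; exact P₃.2.map _
    have hFinv : ∀ g ∈ F, ∀ w ∈ V₁, g • w ∈ V₁ := by
      intro g hg w hw
      rw [hF] at hg
      obtain ⟨ρ, hρ, rfl⟩ := hg
      exact hV₁n.conj_mem w hw ρ
    have hmod := card_modEq_card_inf_fixSub F hFp V₁ hFinv
    have hxfix : x ∈ (V₁ ⊓ fixSub (V := K) F : Subgroup K) := by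
      refine ⟨hxV, ?_⟩
      intro g hg
      rw [hF] at hg
      obtain ⟨ρ, hρ, rfl⟩ := hg
      exact hxc ρ hρ
    by_contra hx1
    have hcard_dvd : Nat.card (V₁ ⊓ fixSub (V := K) F : Subgroup K) ∣ 4 := by
      rw [← hV4]; exact Subgroup.card_dvd_of_le inf_le_left
    have hcard_ne1 : Nat.card (V₁ ⊓ fixSub (V := K) F : Subgroup K) ≠ 1 := by
      intro h1
      rw [Subgroup.card_eq_one] at h1
      rw [h1, Subgroup.mem_bot] at hxfix
      exact hx1 hxfix
    have hcard4 : Nat.card (V₁ ⊓ fixSub (V := K) F : Subgroup K) = 4 := by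
      have hle : Nat.card (V₁ ⊓ fixSub (V := K) F : Subgroup K) ≤ 4 := Nat.le_of_dvd (by norm_num) hcard_dvd
      have hpos : 0 < Nat.card (V₁ ⊓ fixSub (V := K) F : Subgroup K) := Nat.card_pos
      rw [hV4] at hmod
      have hm : 4 % 3 = Nat.card (V₁ ⊓ fixSub (V := K) F : Subgroup K) % 3 := hmod
      interval_cases (Nat.card (V₁ ⊓ fixSub (V := K) F : Subgroup K)) <;> simp_all
    have hall : V₁ ≤ fixSub (V := K) F := by
      have : V₁ ⊓ fixSub (V := K) F = V₁ :=
        Subgroup.eq_of_le_of_card_ge inf_le_left (by rw [hcard4, hV4])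
      rw [← this]; exact inf_le_right
    -- so `P₃` centralizes `V₁`
    have hP3cent : (P₃ : Subgroup K) ≤ Subgroup.centralizer (V₁ : Set K) := by
      intro ρ hρ
      refine Subgroup.mem_centralizer_iff.mpr ?_
      intro v hv
      have := hall hv (MulAut.conj ρ) (by rw [hF]; exact ⟨ρ, hρ, rfl⟩)
      have h2 : ρ * v * ρ⁻¹ = v := this
      calc v * ρ = (ρ * v * ρ⁻¹) * ρ := by rw [h2]
        _ = ρ * v := by group
    have hP3bot : (P₃ : Subgroup K) = ⊥ := by
      rw [eq_bot_iff, ← hP3B]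
      exact le_inf le_rfl (hP3cent.trans hcent)
    rw [hP3bot, Subgroup.card_bot] at hP3card
    norm_num at hP3card
  -- pass to `L = V₁ D`
  obtain ⟨L, hL⟩ : ∃ L, L = V₁ ⊔ D := ⟨_, rfl⟩
  have hV₁L : V₁ ≤ L := by rw [hL]; exact le_sup_left
  have hDL : D ≤ L := by rw [hL]; exact le_sup_right
  have hVn' : (V₁.subgroupOf L).Normal := hV₁n.subgroupOf L
  have h1 : Nat.card (V₁.subgroupOf L) = 4 := by rw [card_subgroupOf_le hV₁L, hV4]
  have h2 : V₁.subgroupOf L ⊓ D.subgroupOf L = ⊥ := by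
    rw [eq_bot_iff]
    rintro x ⟨hxV, hxD⟩
    rw [Subgroup.mem_bot]
    have : (x : K) ∈ V₁ ⊓ D := ⟨Subgroup.mem_subgroupOf.mp hxV, Subgroup.mem_subgroupOf.mp hxD⟩
    rw [hVD, Subgroup.mem_bot] at this
    exact Subtype.ext this
  have h3 : V₁.subgroupOf L ⊔ D.subgroupOf L = ⊤ := by
    rw [← Subgroup.subgroupOf_sup hV₁L hDL, ← hL, Subgroup.subgroupOf_self]
  have h4 : D.subgroupOf L ⊓ Subgroup.centralizer ((V₁.subgroupOf L : Subgroup L) : Set L) =
      (D ⊓ Subgroup.centralizer (V₁ : Set K)).subgroupOf L := by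
    ext x
    simp only [Subgroup.mem_inf, Subgroup.mem_subgroupOf, Subgroup.mem_centralizer_iff]
    constructor
    · rintro ⟨hxD, hxc⟩
      refine ⟨hxD, ?_⟩
      intro v hv
      have := hxc ⟨v, hV₁L hv⟩ (Subgroup.mem_subgroupOf.mpr hv)
      exact congrArg Subtype.val this
    · rintro ⟨hxD, hxc⟩
      refine ⟨hxD, ?_⟩
      intro v hv
      apply Subtype.ext
      exact hxc v.1 (Subgroup.mem_subgroupOf.mp hv)
  have h5 : 6 ∣ (D.subgroupOf L ⊓ Subgroup.centralizer ((V₁.subgroupOf L : Subgroup L) : Set L)).relIndex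
      (D.subgroupOf L) := by
    rw [h4, Subgroup.relIndex_subgroupOf hDL]
    exact h6
  obtain ⟨g, hg⟩ := exists_surj_perm4 (V₁.subgroupOf L) (D.subgroupOf L) h1 h2 h3 h5
  exact Cfsg.Agent.Lib.Helper27.involves_of_surjective_on_subgroup L g hg

end config

end Cfsg.Agent.Lib.Helper8.ThTwo
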