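import Mathlib
import Cfsg.Prelude.Def_PLocal
import Cfsg.Prelude.Def_ConjugacyFunctors
import Cfsg.Agent.Lib.Helper12.ThompsonNPC
import Cfsg.Agent.Lib.Helper12.ThompsonConfig
import Cfsg.Agent.Lib.Helper12.PStableSections
import Cfsg.Agent.Lib.Helper27.ZJ3
import Cfsg.Agent.Lib.Helper27.ZJ4

/-!
# The Glauberman–Thompson normal `p`-complement theorem (abelian version of `Z(J(P))`)

Assembled from helper12's Thompson reduction (`hasNormalPComplement_of_minimal_sections`,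
`exists_prime_structure_of_coatom_sylow`, `mk_mem_pCore_of_quadratic`) and helper27's
ZJ-theorem (`wSub_normal'`).
-/

set_option autoImplicit false
open scoped commutatorElement

namespace Cfsg.Agent.Lib.Helper8.GT

universe u

/-- `Z(J(Q))` (abelian version) as a functor on groups. -/
def zjA (Q : Type u) [Group Q] : Subgroup Q :=
  Cfsg.thompsonSubgroupA Q ⊓ Subgroup.centralizer (Cfsg.thompsonSubgroupA Q : Set Q)

theorem inducedFunctor_zjA {G : Type u} [Group G] (P : Subgroup G) :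
    Cfsg.inducedFunctor zjA P = Cfsg.centerThompsonAOf P := by
  unfold Cfsg.inducedFunctor zjA Cfsg.centerThompsonAOf Cfsg.thompsonSubgroupAOf
  ext x
  constructor
  · rintro ⟨y, ⟨hyJ, hyC⟩, rfl⟩
    refine ⟨Subgroup.mem_map_of_mem _ hyJ, Subgroup.mem_centralizer_iff.mpr ?_⟩
    rintro _ ⟨w, hw, rfl⟩
    exact congrArg Subtype.val ((Subgroup.mem_centralizer_iff.mp hyC) w hw)
  · rintro ⟨⟨y, hyJ, rfl⟩, hxC⟩
    refine ⟨y, ⟨hyJ, Subgroup.mem_centralizer_iff.mpr ?_⟩, rfl⟩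
    intro w hw
    apply Subtype.ext
    exact (Subgroup.mem_centralizer_iff.mp hxC) _ (Subgroup.mem_map_of_mem _ hw)

theorem maxAb_nonempty (Q : Type u) [Group Q] [Finite Q] : (Cfsg.maxAbelianSubgroups Q).Nonempty := by
  have : Nonempty {B : Subgroup Q // IsMulCommutative B} :=
    ⟨⟨⊥, isMulCommutative_iff.mpr (fun a b => Subsingleton.elim _ _)⟩⟩
  obtain ⟨⟨B₀, hB₀⟩, hmax⟩ :=
    Finite.exists_max (fun B : {B : Subgroup Q // IsMulCommutative B} => Nat.card B.1)
  exact ⟨B₀, hB₀, fun B' hB' => hmax ⟨B', hB'⟩⟩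

theorem thompsonSubgroupA_ne_bot (Q : Type u) [Group Q] [Finite Q] [Nontrivial Q] :
    Cfsg.thompsonSubgroupA Q ≠ ⊥ := by
  obtain ⟨A, hA⟩ := maxAb_nonempty Q
  obtain ⟨x, hx⟩ := exists_ne (1 : Q)
  have hz : IsMulCommutative (Subgroup.zpowers x) := inferInstance
  have h1 := hA.2 _ hz
  have h2 : 1 < Nat.card (Subgroup.zpowers x) := by
    rw [Subgroup.one_lt_card_iff_ne_bot]
    intro h
    exact hx (Subgroup.zpowers_eq_bot.mp h)
  have h3 : A ≠ ⊥ := by
    rw [← Subgroup.one_lt_card_iff_ne_bot]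
    omega
  intro h
  apply h3
  have : A ≤ Cfsg.thompsonSubgroupA Q := le_sSup hA
  rw [h] at this
  exact le_bot_iff.mp this

theorem zjA_ne_bot {p : ℕ} [Fact p.Prime] (Q : Type u) [Group Q] [Finite Q] (hQ : IsPGroup p Q)
    [Nontrivial Q] : zjA Q ≠ ⊥ := by
  have hJ := thompsonSubgroupA_ne_bot Q
  have : Nontrivial ↥(Cfsg.thompsonSubgroupA Q) := (Subgroup.nontrivial_iff_ne_bot _).mpr hJ
  have hJp : IsPGroup p ↥(Cfsg.thompsonSubgroupA Q) := hQ.to_subgroup _
  have := hJp.center_nontrivial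
  obtain ⟨z, hz⟩ := exists_ne (1 : Subgroup.center ↥(Cfsg.thompsonSubgroupA Q))
  intro h
  apply hz
  have hmem : (z.1.1 : Q) ∈ zjA Q := by
    refine ⟨z.1.2, Subgroup.mem_centralizer_iff.mpr ?_⟩
    intro w hw
    have := (Subgroup.mem_center_iff.mp z.2) ⟨w, hw⟩
    exact congrArg Subtype.val this
  rw [h, Subgroup.mem_bot] at hmem
  apply Subtype.ext
  apply Subtype.ext
  exact hmem

theorem isMulCommutative_map_equiv {Q R : Type u} [Group Q] [Group R] (φ : Q ≃* R) {A : Subgroup Q}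
    (hA : IsMulCommutative A) : IsMulCommutative (A.map φ.toMonoidHom) := by
  rw [isMulCommutative_iff] at hA ⊢
  rintro ⟨_, a, ha, rfl⟩ ⟨_, b, hb, rfl⟩
  apply Subtype.ext
  have h2 : a * b = b * a := congrArg Subtype.val (hA ⟨a, ha⟩ ⟨b, hb⟩)
  show φ a * φ b = φ b * φ a
  rw [← map_mul, ← map_mul, h2]

theorem map_symm_map_equiv {Q R : Type u} [Group Q] [Group R] (φ : Q ≃* R) (B : Subgroup R) :
    (B.map φ.symm.toMonoidHom).map φ.toMonoidHom = B := by
  ext x
  simp [Subgroup.mem_map]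

theorem maxAb_map_equiv {Q R : Type u} [Group Q] [Group R] (φ : Q ≃* R) {A : Subgroup Q}
    (hA : A ∈ Cfsg.maxAbelianSubgroups Q) : A.map φ.toMonoidHom ∈ Cfsg.maxAbelianSubgroups R := by
  refine ⟨isMulCommutative_map_equiv φ hA.1, ?_⟩
  intro B hB
  have h1 := hA.2 (B.map φ.symm.toMonoidHom) (isMulCommutative_map_equiv φ.symm hB)
  rw [Subgroup.card_map_of_injective φ.symm.injective] at h1
  rw [Subgroup.card_map_of_injective φ.injective]
  exact h1

theorem thompsonSubgroupA_map_le {Q R : Type u} [Group Q] [Group R] (φ : Q ≃* R) :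
    (Cfsg.thompsonSubgroupA Q).map φ.toMonoidHom ≤ Cfsg.thompsonSubgroupA R := by
  unfold Cfsg.thompsonSubgroupA
  rw [(Subgroup.gc_map_comap φ.toMonoidHom).l_sSup]
  apply iSup₂_le
  intro A hA
  exact le_sSup (maxAb_map_equiv φ hA)

theorem thompsonSubgroupA_map {Q R : Type u} [Group Q] [Group R] (φ : Q ≃* R) :
    (Cfsg.thompsonSubgroupA Q).map φ.toMonoidHom = Cfsg.thompsonSubgroupA R := by
  apply le_antisymm (thompsonSubgroupA_map_le φ)
  have h := thompsonSubgroupA_map_le φ.symm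
  have h2 := Subgroup.map_mono (f := φ.toMonoidHom) h
  rwa [map_symm_map_equiv] at h2

theorem zjA_map {Q R : Type u} [Group Q] [Group R] (φ : Q ≃* R) :
    (zjA Q).map φ.toMonoidHom = zjA R := by
  unfold zjA
  rw [← thompsonSubgroupA_map φ]
  ext x
  constructor
  · rintro ⟨y, ⟨hyJ, hyC⟩, rfl⟩
    refine ⟨Subgroup.mem_map_of_mem _ hyJ, Subgroup.mem_centralizer_iff.mpr ?_⟩
    rintro _ ⟨w, hw, rfl⟩
    show φ w * φ y = φ y * φ w
    rw [← map_mul, ← map_mul, (Subgroup.mem_centralizer_iff.mp hyC) w hw]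
  · rintro ⟨⟨y, hyJ, rfl⟩, hxC⟩
    refine ⟨y, ⟨hyJ, Subgroup.mem_centralizer_iff.mpr ?_⟩, rfl⟩
    intro w hw
    apply φ.injective
    rw [map_mul, map_mul]
    exact (Subgroup.mem_centralizer_iff.mp hxC) _ (Subgroup.mem_map_of_mem _ hw)

theorem isCharPFunctor_zjA (p : ℕ) [Fact p.Prime] : Cfsg.IsCharPFunctor.{u} p zjA := by
  refine ⟨?_, ?_⟩
  · intro Q _ _ hQ hnt
    exact zjA_ne_bot Q hQ
  · intro Q R _ _ _ _ φ
    exact zjA_map φ

/-- **Glauberman–Thompson**: for `p` odd, if `N_G(Z(J(P)))` has a normal `p`-complement, so does `G`. -/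
theorem glauberman_thompson {G : Type u} [Group G] [Finite G] {p : ℕ} [Fact p.Prime] (hp : p ≠ 2)
    (P : Sylow p G)
    (hN : Cfsg.HasNormalPComplement p
      ↥(Subgroup.normalizer (Cfsg.centerThompsonAOf (P : Subgroup G) : Set G))) :
    Cfsg.HasNormalPComplement p G := by
  have hmin : ∀ (Y : Type u) [Group Y] [Finite Y], True →
      Subgroup.centralizer ((Cfsg.pCore p Y : Subgroup Y) : Set Y) ≤ Cfsg.pCore p Y →
      Cfsg.HasNormalPComplement p (Y ⧸ Cfsg.pCore p Y) →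
      ∀ T : Sylow p Y, IsCoatom (T : Subgroup Y) →
        (Cfsg.inducedFunctor zjA (T : Subgroup Y)).Normal := by
    intro Y _ _ _ hc hq T hT
    obtain ⟨q, hq', hpq, hsol, hdiv, hab⟩ :=
      Cfsg.Agent.Lib.Helper12.exists_prime_structure_of_coatom_sylow hq T hT
    have hqf : Fact q.Prime := ⟨hq'⟩
    have hD : Cfsg.Agent.Lib.Helper12.IsPQAb p q Y := ⟨hsol, hdiv, hab⟩
    rw [inducedFunctor_zjA, Cfsg.Agent.Lib.Helper27.centerThompsonAOf_eq]
    apply Cfsg.Agent.Lib.Helper27.wSub_normal' Cfsg.Agent.Lib.Helper27.goodClass_abSub T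
      (Cfsg.Agent.Lib.Helper27.replHyp_abSub hp _ T.isPGroup') hc
    apply Cfsg.Agent.Lib.Helper27.quadHyp_of_stable
    intro B hBn hB a hquad
    exact Cfsg.Agent.Lib.Helper12.mk_mem_pCore_of_quadratic hp hpq hD B hB
      (Subgroup.centralizer (B : Set Y))
      (fun x hx => Subgroup.mem_centralizer_iff.mpr (fun u hu => hx u hu)) a hquad
  have := Cfsg.Agent.Lib.Helper12.hasNormalPComplement_of_minimal_sections zjA (isCharPFunctor_zjA p)
    (fun Y _ => True) (fun _ _ _ _ => trivial) (fun _ _ _ _ _ => trivial) hmin (Nat.card G) G rfl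
    trivial P
  apply this
  rw [inducedFunctor_zjA]
  exact hN

end Cfsg.Agent.Lib.Helper8.GT
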