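import Mathlib

/-!
# The Frobenius norm identity and the quadratic-action lemma (helper8 library)

`frob_norm`: a group `K⟨x⟩` acting on an abelian group `V`, `x` normalizing `K` with
`C_K(x^i) = 1` for `0 < i < r`, and all `x`-norms `∏_{i<r} x^i • w` trivial: then `K` fixes every
`v ^ |K|`.

`quadratic_comm`: an element `x` acting quadratically on an abelian group `V` of odd prime
exponent `p` (faithful action) centralizes every abelian `p'`-subgroup `R` that it normalizes.
-/

set_option autoImplicit false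

namespace Cfsg.Agent.Lib.Helper8.Thompson

open scoped BigOperators

section FrobNorm

variable {Y : Type*} [Group Y] {V : Type*} [CommGroup V] [MulDistribMulAction Y V]

theorem conj_pow_mem {K : Subgroup Y} {x : Y} (h0 : ∀ k ∈ K, x * k * x⁻¹ ∈ K) (i : ℕ) :
    ∀ k ∈ K, x ^ i * k * (x ^ i)⁻¹ ∈ K := by
  induction i with
  | zero => intro k hk; simpa using hk
  | succ i ih =>
    intro k hk
    have := h0 _ (ih k hk)
    have e : x ^ (i + 1) * k * (x ^ (i + 1))⁻¹ = x * (x ^ i * k * (x ^ i)⁻¹) * x⁻¹ := by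
      rw [pow_succ']; group
    rw [e]; exact this

/-- The Frobenius norm identity. -/
theorem frob_norm (K : Subgroup Y) [Finite K] (x : Y) (r : ℕ) (hr : 0 < r)
    (h0 : ∀ k ∈ K, x * k * x⁻¹ ∈ K)
    (h1 : ∀ i, 0 < i → i < r → ∀ k ∈ K, x ^ i * k = k * x ^ i → k = 1)
    (h3 : ∀ w : V, ∏ i ∈ Finset.range r, (x ^ i) • w = 1) (v : V) :
    ∀ k₀ ∈ K, k₀ • (v ^ Nat.card K) = v ^ Nat.card K := by
  classical
  have : Fintype K := Fintype.ofFinite K
  -- the `K`-norm
  set N : V → V := fun w => ∏ k : K, (k : Y) • w with hN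
  have hNfix : ∀ (w : V) (k₀ : Y), k₀ ∈ K → k₀ • N w = N w := by
    intro w k₀ hk₀
    have := Finset.smul_prod_perm (G := K) w ⟨k₀, hk₀⟩
    simpa [hN, Subgroup.smul_def] using this
  -- the double product
  have hA : ∏ k : K, ∏ i ∈ Finset.range r, ((k : Y) * x ^ i * (k : Y)⁻¹) • v = 1 := by
    apply Finset.prod_eq_one
    intro k _
    have e : ∀ i ∈ Finset.range r, ((k : Y) * x ^ i * (k : Y)⁻¹) • v
        = (k : Y) • ((x ^ i) • ((k : Y)⁻¹ • v)) := by
      intro i _
      rw [mul_smul, mul_smul]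
    rw [Finset.prod_congr rfl e, ← Finset.smul_prod', h3, smul_one]
  rw [Finset.prod_comm] at hA
  obtain ⟨r', rfl⟩ : ∃ r', r = r' + 1 := ⟨r - 1, by omega⟩
  rw [Finset.prod_range_succ'] at hA
  have hzero : ∏ k : K, ((k : Y) * x ^ 0 * (k : Y)⁻¹) • v = v ^ Nat.card K := by
    simp [Nat.card_eq_fintype_card]
  rw [hzero] at hA
  have hterm : ∀ i ∈ Finset.range r',
      ∏ k : K, ((k : Y) * x ^ (i + 1) * (k : Y)⁻¹) • v = N ((x ^ (i + 1)) • v) := by
    intro i hi
    have hi' : i + 1 < r' + 1 := by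
      have := Finset.mem_range.mp hi; omega
    -- the map `θ k = k x^j k⁻¹ x^{-j}` is a bijection of `K`
    set j := i + 1 with hj
    let θ : K → K := fun k => ⟨(k : Y) * (x ^ j * (k : Y)⁻¹ * (x ^ j)⁻¹),
      K.mul_mem k.2 (conj_pow_mem h0 j _ (K.inv_mem k.2))⟩
    have hθinj : Function.Injective θ := by
      intro k k' h
      have h' : (k : Y) * (x ^ j * (k : Y)⁻¹ * (x ^ j)⁻¹)
          = (k' : Y) * (x ^ j * (k' : Y)⁻¹ * (x ^ j)⁻¹) := congrArg Subtype.val h
      have hc : x ^ j * ((k' : Y)⁻¹ * (k : Y)) = ((k' : Y)⁻¹ * (k : Y)) * x ^ j := by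
        have e1 : x ^ j * ((k' : Y)⁻¹ * (k : Y))
            = (k' : Y)⁻¹ * (((k' : Y) * (x ^ j * (k' : Y)⁻¹ * (x ^ j)⁻¹)) * x ^ j) * (k : Y) := by
          group
        rw [e1, ← h']
        group
      have := h1 j (by omega) hi' _ (K.mul_mem (K.inv_mem k'.2) k.2) hc
      apply Subtype.ext
      calc (k : Y) = (k' : Y) * ((k' : Y)⁻¹ * (k : Y)) := by group
        _ = (k' : Y) := by rw [this, mul_one]
    have hθbij : Function.Bijective θ := Finite.injective_iff_bijective.mp hθinj
    have e : ∀ k : K, ((k : Y) * x ^ j * (k : Y)⁻¹) • v = ((θ k : K) : Y) • ((x ^ j) • v) := by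
      intro k
      rw [← mul_smul]
      congr 1
      show (k : Y) * x ^ j * (k : Y)⁻¹ = (k : Y) * (x ^ j * (k : Y)⁻¹ * (x ^ j)⁻¹) * x ^ j
      group
    rw [Finset.prod_congr rfl (fun k _ => e k)]
    exact Function.Bijective.prod_comp hθbij (fun k' : K => (k' : Y) • ((x ^ j) • v))
  rw [Finset.prod_congr rfl hterm] at hA
  -- so `v ^ |K|` is the inverse of a product of `K`-fixed elements
  have hv : v ^ Nat.card K = (∏ i ∈ Finset.range r', N ((x ^ (i + 1)) • v))⁻¹ :=
    eq_inv_of_mul_eq_one_right hA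
  intro k₀ hk₀
  rw [hv, smul_inv', Finset.smul_prod']
  congr 1
  apply Finset.prod_congr rfl
  intro i _
  exact hNfix _ k₀ hk₀

end FrobNorm

section Quadratic

variable {Y : Type*} [Group Y] {V : Type*} [CommGroup V] [MulDistribMulAction Y V]

theorem pow_smul_of_fix {x : Y} (v n : V) (hxv : x • v = v * n) (hxn : x • n = n) (i : ℕ) :
    (x ^ i) • v = v * n ^ i := by
  induction i with
  | zero => simp
  | succ i ih =>
    rw [pow_succ', mul_smul, ih, smul_mul', smul_pow', hxn, hxv, pow_succ', mul_assoc]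

/-- powers of a quadratic element: `x^i • v = v * (x•v / v)^i`. -/
theorem quad_pow_smul {x : Y} (hq : ∀ v : V, x • (x • v) * v = (x • v) * (x • v)) (i : ℕ) (v : V) :
    (x ^ i) • v = v * (x • v * v⁻¹) ^ i := by
  apply pow_smul_of_fix
  · rw [mul_comm (x • v), mul_inv_cancel_left]
  · rw [smul_mul', smul_inv']
    have := hq v
    calc x • x • v * (x • v)⁻¹ = (x • x • v * v) * (v⁻¹ * (x • v)⁻¹) := by
          rw [mul_assoc, mul_inv_cancel_left]
      _ = (x • v * x • v) * (v⁻¹ * (x • v)⁻¹) := by rw [this]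
      _ = x • v * v⁻¹ := by
          rw [mul_assoc, mul_comm v⁻¹, mul_inv_cancel_left]

/-- The norm of a quadratic element on a group of odd prime exponent is trivial. -/
theorem quad_norm_eq_one {p : ℕ} (hp2 : Odd p) (hexp : ∀ v : V, v ^ p = 1) {x : Y}
    (hq : ∀ v : V, x • (x • v) * v = (x • v) * (x • v)) (v : V) :
    ∏ i ∈ Finset.range p, (x ^ i) • v = 1 := by
  rw [Finset.prod_congr rfl (fun i _ => quad_pow_smul hq i v), Finset.prod_mul_distrib,
    Finset.prod_const, Finset.card_range, hexp, one_mul, Finset.prod_pow_eq_pow_sum]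
  obtain ⟨m, hm⟩ := hp2
  have hsum : ∑ i ∈ Finset.range p, i = p * m := by
    have h2 := Finset.sum_range_id_mul_two p
    have : p - 1 = 2 * m := by omega
    rw [this] at h2
    have : (∑ i ∈ Finset.range p, i) * 2 = (p * m) * 2 := by rw [h2]; ring
    exact Nat.eq_of_mul_eq_mul_right (by norm_num) this
  rw [hsum, pow_mul, hexp, one_pow]

/-- **Quadratic action lemma**: an element acting quadratically on an abelian group of odd prime
exponent `p` (faithfully) centralizes every abelian `p'`-subgroup it normalizes. -/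
theorem quadratic_comm {p : ℕ} (hp : p.Prime) (hp2 : p ≠ 2) (hexp : ∀ v : V, v ^ p = 1)
    (hfaith : ∀ y : Y, (∀ v : V, y • v = v) → y = 1) (R : Subgroup Y) [Finite R]
    (hRab : ∀ a ∈ R, ∀ b ∈ R, a * b = b * a) (hRp : (Nat.card R).Coprime p) (x : Y)
    (hxR : ∀ r ∈ R, x * r * x⁻¹ ∈ R)
    (hq : ∀ v : V, x • (x • v) * v = (x • v) * (x • v)) : ∀ r ∈ R, x * r = r * x := by
  classical
  have hodd : Odd p := hp.odd_of_ne_two hp2
  -- `x ^ p = 1`
  have hxp : x ^ p = 1 := by
    apply hfaith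
    intro v
    rw [quad_pow_smul hq, hexp, mul_one]
  let _ : CommGroup R :=
    { (inferInstance : Group R) with mul_comm := fun a b => Subtype.ext (hRab a a.2 b b.2) }
  let c : R →* R :=
    { toFun := fun r => ⟨x * r * x⁻¹, hxR r r.2⟩
      map_one' := by apply Subtype.ext; simp
      map_mul' := by
        intro a b; apply Subtype.ext
        show x * (a * b) * x⁻¹ = (x * a * x⁻¹) * (x * b * x⁻¹)
        group }
  let δ : R →* R := c / MonoidHom.id R
  have hδ : ∀ a : R, ((δ a : R) : Y) = (x * a * x⁻¹) * (a : Y)⁻¹ := fun a => by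
    show ((c a / a : R) : Y) = _
    rw [Subgroup.coe_div, div_eq_mul_inv]
    rfl
  let K : Subgroup Y := δ.range.map R.subtype
  have hKmem : ∀ k : Y, k ∈ K ↔ ∃ a : R, k = (x * a * x⁻¹) * (a : Y)⁻¹ := by
    intro k
    constructor
    · rintro ⟨_, ⟨a, rfl⟩, rfl⟩
      exact ⟨a, hδ a⟩
    · rintro ⟨a, rfl⟩
      exact ⟨δ a, ⟨a, rfl⟩, hδ a⟩
  have hKR : K ≤ R := by
    rintro _ ⟨b, _, rfl⟩
    exact b.2
  have : Finite K := Finite.of_injective (Subgroup.inclusion hKR) (Subgroup.inclusion_injective hKR)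
  have hKp : (Nat.card K).Coprime p := Nat.Coprime.coprime_dvd_left (Subgroup.card_dvd_of_le hKR) hRp
  have hKx : ∀ k ∈ K, x * k * x⁻¹ ∈ K := by
    intro k hk
    obtain ⟨a, rfl⟩ := (hKmem k).mp hk
    refine (hKmem _).mpr ⟨c a, ?_⟩
    show x * (x * a * x⁻¹ * (a : Y)⁻¹) * x⁻¹ = x * (x * a * x⁻¹) * x⁻¹ * (x * a * x⁻¹)⁻¹
    group
  -- `C_K(x) = 1`
  have hCK : ∀ k ∈ K, x * k = k * x → k = 1 := by
    intro k hk hc
    obtain ⟨a, hka⟩ := (hKmem k).mp hk
    have hxa : x * a * x⁻¹ = k * a := by rw [hka]; group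
    have hxk : ∀ n : ℕ, x * k ^ n * x⁻¹ = k ^ n := by
      intro n
      have : Commute x (k ^ n) := (show Commute x k from hc).pow_right n
      rw [this.eq]; group
    have htel : ∀ n : ℕ, x ^ n * a * (x ^ n)⁻¹ = k ^ n * a := by
      intro n
      induction n with
      | zero => simp
      | succ n ih =>
        calc x ^ (n + 1) * a * (x ^ (n + 1))⁻¹ = x * (x ^ n * a * (x ^ n)⁻¹) * x⁻¹ := by
              rw [pow_succ']; group
          _ = x * (k ^ n * a) * x⁻¹ := by rw [ih]
          _ = (x * k ^ n * x⁻¹) * (x * a * x⁻¹) := by group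
          _ = k ^ n * (k * a) := by rw [hxk, hxa]
          _ = k ^ (n + 1) * a := by rw [pow_succ]; group
    have hkp : k ^ p = 1 := by
      have := htel p
      rw [hxp] at this
      have h2 : (a : Y) = k ^ p * a := by simpa using this
      calc k ^ p = (k ^ p * a) * (a : Y)⁻¹ := by group
        _ = 1 := by rw [← h2]; group
    have ho : orderOf k ∣ p := orderOf_dvd_of_pow_eq_one hkp
    have ho' : orderOf k ∣ Nat.card R := Subgroup.orderOf_dvd_natCard R (hKR hk)
    have : orderOf k = 1 := Nat.eq_one_of_dvd_coprimes hRp ho' ho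
    exact orderOf_eq_one_iff.mp this
  have h1 : ∀ i, 0 < i → i < p → ∀ k ∈ K, x ^ i * k = k * x ^ i → k = 1 := by
    intro i hi0 hip k hk hc
    apply hCK k hk
    have hcop : Nat.Coprime i p :=
      Nat.Coprime.symm ((Nat.Prime.coprime_iff_not_dvd hp).mpr (Nat.not_dvd_of_pos_of_lt hi0 hip))
    obtain ⟨j, -, hj⟩ := Nat.exists_mul_mod_eq_one_of_coprime hcop hp.one_lt
    have hx : x = (x ^ i) ^ j := by
      rw [← pow_mul, pow_eq_pow_mod (i * j) hxp, hj, pow_one]
    have : Commute ((x ^ i) ^ j) k := (show Commute (x ^ i) k from hc).pow_left j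
    rw [← hx] at this
    exact this.eq
  have hfix := fun v => frob_norm (V := V) K x p hp.pos hKx h1 (quad_norm_eq_one hodd hexp hq) v
  -- `K` acts trivially on `V`
  obtain ⟨m, -, hm⟩ := Nat.exists_mul_mod_eq_one_of_coprime hKp hp.one_lt
  have hK1 : ∀ k ∈ K, k = 1 := by
    intro k hk
    apply hfaith
    intro v
    have hv : v = (v ^ Nat.card K) ^ m := by
      rw [← pow_mul, pow_eq_pow_mod (Nat.card K * m) (hexp v), hm, pow_one]
    rw [hv, smul_pow', hfix v k hk]
  intro r hr
  have hk : (x * r * x⁻¹) * r⁻¹ ∈ K := (hKmem _).mpr ⟨⟨r, hr⟩, rfl⟩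
  have := hK1 _ hk
  calc x * r = ((x * r * x⁻¹) * r⁻¹) * r * x := by group
    _ = r * x := by rw [this, one_mul]

end Quadratic

section Omega

variable {Y : Type*} [Group Y] {V : Type*} [CommGroup V] [MulDistribMulAction Y V]

/-- A `p'`-element acting trivially on the elements of order dividing `p` of an abelian `p`-group
acts trivially. -/
theorem coprime_trivial_of_omega {p : ℕ} {y : Y}
    (hy : (orderOf y).Coprime p) (hΩ : ∀ v : V, v ^ p = 1 → y • v = v) :
    ∀ (k : ℕ) (v : V), v ^ p ^ k = 1 → y • v = v := by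
  intro k
  induction k with
  | zero =>
    intro v hv
    rw [pow_zero, pow_one] at hv
    rw [hv, smul_one]
  | succ k ih =>
    intro v hv
    set c := y • v * v⁻¹ with hc
    have hvk : y • (v ^ p ^ k) = v ^ p ^ k := by
      apply hΩ
      rw [← pow_mul, ← pow_succ]; exact hv
    have hck : c ^ p ^ k = 1 := by
      rw [hc, mul_pow, ← smul_pow', hvk, inv_pow, mul_inv_cancel]
    have hyc : y • c = c := ih c hck
    have hyv : y • v = v * c := by rw [hc, mul_comm (y • v), mul_inv_cancel_left]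
    have hpow := pow_smul_of_fix (x := y) v c hyv hyc (orderOf y)
    rw [pow_orderOf_eq_one, one_smul] at hpow
    have hcm : c ^ orderOf y = 1 := by
      have : v * c ^ orderOf y = v * 1 := by rw [mul_one]; exact hpow.symm
      exact mul_left_cancel this
    have h1 : orderOf c ∣ orderOf y := orderOf_dvd_of_pow_eq_one hcm
    have h2 : orderOf c ∣ p ^ k := orderOf_dvd_of_pow_eq_one hck
    have h3 : orderOf c = 1 := Nat.eq_one_of_dvd_coprimes (Nat.Coprime.pow_right k hy) h1 h2
    rw [hyv, orderOf_eq_one_iff.mp h3, mul_one]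

end Omega

end Cfsg.Agent.Lib.Helper8.Thompson
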