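import Mathlib
import Cfsg.Agent.Lib.Helper8.ThFrobNorm
import Cfsg.Agent.Lib.Helper9.FpfAction

/-!
# Fixed-point-free endomorphisms of prime period: basic tools (helper8 library)

* `iter_fix_of_prime`, `mem_of_inv_mul_map_mem`
* `resEnd`, `quotEnd` : restriction / quotient of an endomorphism, with iterates and
  fixed-point-freeness
* `smul_pow_card_eq_of_fpf` : abstract Frobenius-module lemma
* `centralizes_of_fpf` : a stable subgroup of order prime to a stable normal abelian subgroup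
  centralizes it
* `exists_stable_sylow`
-/

set_option autoImplicit false

namespace Cfsg.Agent.Lib.Helper8.ThNilp

open scoped BigOperators

theorem iter_fix_of_prime {α : Type*} (f : α → α) {r i : ℕ} (hr : r.Prime)
    (hiter : ∀ a, f^[r] a = a) (hi0 : 0 < i) (hir : i < r) (a : α) (h : f^[i] a = a) :
    f a = a := by
  have h1 : Function.IsPeriodicPt f r a := hiter a
  have h2 : Function.IsPeriodicPt f i a := h
  have h3 := h1.gcd h2
  have h4 : r.gcd i = 1 := by
    have : Nat.Coprime r i := by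
      rw [Nat.Prime.coprime_iff_not_dvd hr]
      intro hd
      have := Nat.le_of_dvd hi0 hd
      omega
    exact this
  rw [h4] at h3
  simpa [Function.IsPeriodicPt, Function.IsFixedPt] using h3

theorem bijective_of_iter {α : Type*} (f : α → α) {r : ℕ} (hr : 0 < r)
    (hiter : ∀ a, f^[r] a = a) : Function.Bijective f := by
  obtain ⟨s, rfl⟩ : ∃ s, r = s + 1 := ⟨r - 1, by omega⟩
  constructor
  · intro a b hab
    have ha := hiter a
    have hb := hiter b
    rw [Function.iterate_succ_apply] at ha hb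
    rw [← ha, ← hb, hab]
  · intro b
    refine ⟨f^[s] b, ?_⟩
    have hb := hiter b
    rw [Function.iterate_succ_apply'] at hb
    exact hb

section basic

variable {G : Type*} [Group G]

/-- If `ψ` is fixed-point-free and `N` is a finite `ψ`-stable subgroup, then `g⁻¹ ψ(g) ∈ N`
forces `g ∈ N`. -/
theorem mem_of_inv_mul_map_mem (ψ : G →* G) (hfpf : ∀ g, ψ g = g → g = 1)
    (N : Subgroup G) [Finite N] (hN : ∀ n ∈ N, ψ n ∈ N) (g : G) (hg : g⁻¹ * ψ g ∈ N) :
    g ∈ N := by
  have key : ∀ a b : G, a⁻¹ * ψ a = b⁻¹ * ψ b → a = b := by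
    intro a b h
    have h1 : ψ (a * b⁻¹) = a * b⁻¹ := by
      rw [map_mul, map_inv]
      have e : ψ a = a * (b⁻¹ * ψ b) := by rw [← h]; group
      rw [e]; group
    have h2 := hfpf _ h1
    exact mul_inv_eq_one.mp h2
  let c : N → N := fun n => ⟨(n : G)⁻¹ * ψ n, N.mul_mem (N.inv_mem n.2) (hN n n.2)⟩
  have hinj : Function.Injective c := by
    intro n m h
    apply Subtype.ext
    exact key _ _ (congrArg Subtype.val h)
  obtain ⟨n, hn⟩ := (Finite.injective_iff_surjective.mp hinj) ⟨_, hg⟩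
  have h' : (n : G)⁻¹ * ψ n = g⁻¹ * ψ g := congrArg Subtype.val hn
  have := key _ _ h'
  rw [← this]
  exact n.2

/-- restriction of an endomorphism to a stable subgroup -/
def resEnd (φ : G →* G) (H : Subgroup G) (hH : ∀ h ∈ H, φ h ∈ H) : ↥H →* ↥H :=
  (φ.comp H.subtype).codRestrict H (fun h => hH h h.2)

@[simp] theorem resEnd_coe (φ : G →* G) (H : Subgroup G) (hH : ∀ h ∈ H, φ h ∈ H) (h : ↥H) :
    ((resEnd φ H hH h : ↥H) : G) = φ h := rfl

theorem resEnd_iter (φ : G →* G) (H : Subgroup G) (hH : ∀ h ∈ H, φ h ∈ H) (k : ℕ) (h : ↥H) :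
    (((resEnd φ H hH)^[k] h : ↥H) : G) = φ^[k] h := by
  induction k with
  | zero => rfl
  | succ k ih =>
    rw [Function.iterate_succ_apply', Function.iterate_succ_apply', resEnd_coe, ih]

theorem resEnd_fpf (φ : G →* G) (H : Subgroup G) (hH : ∀ h ∈ H, φ h ∈ H)
    (hfpf : ∀ g, φ g = g → g = 1) : ∀ h : ↥H, resEnd φ H hH h = h → h = 1 := by
  intro h hh
  apply Subtype.ext
  exact hfpf _ (congrArg Subtype.val hh)

/-- the endomorphism induced on a quotient by a stable normal subgroup -/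
def quotEnd (φ : G →* G) (N : Subgroup G) [N.Normal] (hN : ∀ n ∈ N, φ n ∈ N) : G ⧸ N →* G ⧸ N :=
  QuotientGroup.map N N φ (fun n hn => hN n hn)

@[simp] theorem quotEnd_mk (φ : G →* G) (N : Subgroup G) [N.Normal] (hN : ∀ n ∈ N, φ n ∈ N)
    (g : G) : quotEnd φ N hN (g : G ⧸ N) = ((φ g : G) : G ⧸ N) := rfl

theorem quotEnd_iter (φ : G →* G) (N : Subgroup G) [N.Normal] (hN : ∀ n ∈ N, φ n ∈ N) (k : ℕ)
    (g : G) : (quotEnd φ N hN)^[k] (g : G ⧸ N) = ((φ^[k] g : G) : G ⧸ N) := by
  induction k with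
  | zero => rfl
  | succ k ih =>
    rw [Function.iterate_succ_apply', Function.iterate_succ_apply', ih, quotEnd_mk]

theorem quotEnd_fpf (φ : G →* G) (N : Subgroup G) [N.Normal] [Finite N]
    (hN : ∀ n ∈ N, φ n ∈ N) (hfpf : ∀ g, φ g = g → g = 1) :
    ∀ x : G ⧸ N, quotEnd φ N hN x = x → x = 1 := by
  intro x hx
  obtain ⟨g, rfl⟩ := QuotientGroup.mk_surjective x
  rw [quotEnd_mk] at hx
  have h1 : g⁻¹ * φ g ∈ N := QuotientGroup.eq.mp hx.symm
  have h2 := mem_of_inv_mul_map_mem φ hfpf N hN g h1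
  exact (QuotientGroup.eq_one_iff g).mpr h2

/-- iterates of an endomorphism as endomorphisms -/
def iterEnd (φ : G →* G) : ℕ → (G →* G)
  | 0 => MonoidHom.id G
  | k + 1 => φ.comp (iterEnd φ k)

theorem iterEnd_apply (φ : G →* G) (k : ℕ) (g : G) : iterEnd φ k g = φ^[k] g := by
  induction k with
  | zero => rfl
  | succ k ih =>
    rw [Function.iterate_succ_apply']
    show φ (iterEnd φ k g) = _
    rw [ih]

theorem iter_mem (φ : G →* G) (H : Subgroup G) (hH : ∀ h ∈ H, φ h ∈ H) (k : ℕ) :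
    ∀ h ∈ H, φ^[k] h ∈ H := by
  induction k with
  | zero => intro h hh; exact hh
  | succ k ih =>
    intro h hh
    rw [Function.iterate_succ_apply']
    exact hH _ (ih h hh)

end basic

end Cfsg.Agent.Lib.Helper8.ThNilp
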