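import Mathlib
import Cfsg.Agent.Lib.Helper8.ThNilpA
import Cfsg.Agent.Lib.Helper29.Frobenius

/-!
# Fixed-point-free endomorphisms of prime period: the Frobenius-module lemma (helper8 library)
-/

set_option autoImplicit false

namespace Cfsg.Agent.Lib.Helper8.ThNilp

open scoped BigOperators

section Abstract

variable {K V : Type*} [Group K] [Finite K] [CommGroup V] [MulDistribMulAction K V]

omit [Finite K] in
theorem compat_iter (σ : K →* K) (x : V →* V) (hcompat : ∀ k v, x (k • v) = σ k • x v) (i : ℕ)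
    (k : K) (v : V) : x^[i] (k • v) = (σ^[i] k) • (x^[i] v) := by
  induction i generalizing k v with
  | zero => rfl
  | succ i ih =>
    rw [Function.iterate_succ_apply, Function.iterate_succ_apply, Function.iterate_succ_apply,
      hcompat, ih]

/-- the norm of a fixed-point-free endomorphism of period `r` on an abelian group is trivial -/
theorem norm_eq_one_of_fpf (x : V →* V) {r : ℕ} (hx : ∀ v, x^[r] v = v)
    (hxfpf : ∀ v, x v = v → v = 1) (w : V) : ∏ i ∈ Finset.range r, x^[i] w = 1 := by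
  apply hxfpf
  rw [map_prod]
  have h1 : ∀ j, x (x^[j] w) = x^[j + 1] w := fun j => (Function.iterate_succ_apply' x j w).symm
  simp only [h1]
  have h2 := Finset.prod_range_succ (fun j => x^[j] w) r
  have h3 := Finset.prod_range_succ' (fun j => x^[j] w) r
  rw [h2] at h3
  simp only [hx, Function.iterate_zero, id_eq] at h3
  exact (mul_right_cancel h3).symm

/-- **Abstract Frobenius-module lemma.** `K` acts on the abelian group `V`; `σ`, `x` are compatible
endomorphisms of period `r` (prime); `x` is fixed-point-free on `V`, and an element `k` with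
`σ^i k` acting like `k` acts trivially. Then `K` fixes every `|K|`-th power. -/
theorem smul_pow_card_eq_of_fpf (σ : K →* K) (x : V →* V) {r : ℕ} (hr : r.Prime)
    (hx : ∀ v, x^[r] v = v) (hcompat : ∀ k v, x (k • v) = σ k • x v)
    (hσ1 : ∀ i, 0 < i → i < r → ∀ k : K, (∀ v : V, (σ^[i] k) • v = k • v) → ∀ v : V, k • v = v)
    (hxfpf : ∀ v, x v = v → v = 1) (v : V) (k₀ : K) :
    k₀ • v ^ Nat.card K = v ^ Nat.card K := by
  classical
  have hxbij : Function.Bijective x := bijective_of_iter x hr.pos hx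
  let x' : MulAut V := MulEquiv.ofBijective x hxbij
  let ρ : K →* MulAut V := MulDistribMulAction.toMulAut K V
  have hρ : ∀ k v, ρ k v = k • v := fun k v => rfl
  have hx' : ∀ v, x' v = x v := fun v => rfl
  have hx'pow : ∀ (i : ℕ) (v : V), (x' ^ i) v = x^[i] v := by
    intro i
    induction i with
    | zero => intro v; rfl
    | succ i ih =>
      intro v
      rw [pow_succ', MulAut.mul_apply, ih, hx', Function.iterate_succ_apply']
  have h0 : ∀ k' ∈ ρ.range, x' * k' * x'⁻¹ ∈ ρ.range := by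
    rintro _ ⟨k, rfl⟩
    refine ⟨σ k, ?_⟩
    ext v
    have e : x (x'⁻¹ v) = v := MulEquiv.apply_symm_apply x' v
    show σ k • v = x (k • (x'⁻¹ v))
    rw [hcompat, e]
  have h1 : ∀ i, 0 < i → i < r → ∀ k' ∈ ρ.range, x' ^ i * k' = k' * x' ^ i → k' = 1 := by
    rintro i hi0 hir _ ⟨k, rfl⟩ hc
    have hxibij : Function.Bijective (x^[i]) := hxbij.iterate i
    have hact : ∀ w : V, (σ^[i] k) • w = k • w := by
      intro w
      obtain ⟨v, rfl⟩ := hxibij.2 w
      have := congrArg (fun f : MulAut V => f v) hc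
      simp only [MulAut.mul_apply, hρ, hx'pow] at this
      rw [← this, compat_iter σ x hcompat]
    have htriv := hσ1 i hi0 hir k hact
    ext v
    rw [hρ, htriv]
    rfl
  have h3 : ∀ w : V, ∏ i ∈ Finset.range r, (x' ^ i) • w = 1 := by
    intro w
    have := norm_eq_one_of_fpf x hx hxfpf w
    rw [← this]
    apply Finset.prod_congr rfl
    intro i _
    exact hx'pow i w
  have hfin : Finite ρ.range := Finite.of_surjective ρ.rangeRestrict ρ.rangeRestrict_surjective
  have key := Thompson.frob_norm ρ.range x' r hr.pos h0 h1 h3 v (ρ k₀) ⟨k₀, rfl⟩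
  obtain ⟨m, hm⟩ := Subgroup.card_range_dvd ρ
  rw [hm, pow_mul, smul_pow']
  congr 1

end Abstract

section Concrete

open scoped IsMulCommutative

variable {G : Type*} [Group G] [Finite G]

omit [Finite G] in
theorem iter_surj_on (φ : G →* G) {r : ℕ} (hr : 0 < r) (hiter : ∀ g, φ^[r] g = g)
    (V : Subgroup G) (hV : ∀ v ∈ V, φ v ∈ V) (i : ℕ) :
    ∀ w ∈ V, ∃ w' ∈ V, φ^[i] w' = w := by
  intro w hw
  refine ⟨φ^[i * (r - 1)] w, iter_mem φ V hV _ w hw, ?_⟩
  rw [← Function.iterate_add_apply]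
  have e : i + i * (r - 1) = r * i := by
    obtain ⟨s, rfl⟩ : ∃ s, r = s + 1 := ⟨r - 1, by omega⟩
    simp only [Nat.add_sub_cancel]
    ring
  rw [e, Function.iterate_mul]
  exact Function.iterate_fixed (hiter w) i

/-- **Frobenius-module lemma, internal form.** If `φ` is a fixed-point-free endomorphism of prime
period `r` of the finite group `G`, `V` a `φ`-stable normal abelian subgroup and `P` a `φ`-stable
subgroup of order prime to `|V|`, then `P` centralizes `V`. -/
theorem centralizes_of_fpf (φ : G →* G) {r : ℕ} (hr : r.Prime)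
    (hiter : ∀ g, φ^[r] g = g) (hfpf : ∀ g, φ g = g → g = 1)
    (V : Subgroup G) [hVn : V.Normal] (hVab : ∀ a ∈ V, ∀ b ∈ V, a * b = b * a)
    (hV : ∀ v ∈ V, φ v ∈ V)
    (P : Subgroup G) (hP : ∀ g ∈ P, φ g ∈ P) (hcop : (Nat.card P).Coprime (Nat.card V)) :
    ∀ g ∈ P, ∀ v ∈ V, g * v = v * g := by
  have : IsMulCommutative V := ⟨⟨fun a b => Subtype.ext (hVab a a.2 b b.2)⟩⟩
  have hPV : P ≤ Subgroup.normalizer (V : Set G) := by
    rw [Subgroup.normalizer_eq_top_iff.mpr hVn]; exact le_top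
  let _ := Cfsg.Agent.Lib.Helper9.conjMulDistribMulAction P V hPV
  have hsmul : ∀ (a : ↥P) (v : ↥V), ((a • v : ↥V) : G) = (a : G) * v * (a : G)⁻¹ := fun a v => rfl
  have hσ1 : ∀ i, 0 < i → i < r → ∀ k : ↥P,
      (∀ v : ↥V, ((resEnd φ P hP)^[i] k) • v = k • v) → ∀ v : ↥V, k • v = v := by
    intro i hi0 hir k hact v
    have hψfpf : ∀ g, iterEnd φ i g = g → g = 1 := by
      intro g hg
      rw [iterEnd_apply] at hg
      exact hfpf g (iter_fix_of_prime φ hr hiter hi0 hir g hg)
    have hCst : ∀ c ∈ Subgroup.centralizer (V : Set G),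
        iterEnd φ i c ∈ Subgroup.centralizer (V : Set G) := by
      intro c hc
      refine Subgroup.mem_centralizer_iff.mpr ?_
      intro w hw
      obtain ⟨w', hw', rfl⟩ := iter_surj_on φ hr.pos hiter V hV i w hw
      rw [← iterEnd_apply, ← map_mul, ← map_mul, (Subgroup.mem_centralizer_iff.mp hc) w' hw']
    have hk : (k : G)⁻¹ * iterEnd φ i k ∈ Subgroup.centralizer (V : Set G) := by
      refine Subgroup.mem_centralizer_iff.mpr ?_
      intro w hw
      have h1 := congrArg Subtype.val (hact ⟨w, hw⟩)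
      rw [hsmul, hsmul, resEnd_iter, ← iterEnd_apply] at h1
      have h1' : iterEnd φ i (k : G) * w * (iterEnd φ i (k : G))⁻¹ = (k : G) * w * (k : G)⁻¹ := h1
      calc w * ((k : G)⁻¹ * iterEnd φ i k)
          = (k : G)⁻¹ * ((k : G) * w * (k : G)⁻¹) * iterEnd φ i k := by group
        _ = (k : G)⁻¹ * (iterEnd φ i (k : G) * w * (iterEnd φ i (k : G))⁻¹) * iterEnd φ i k := by
            rw [h1']
        _ = (k : G)⁻¹ * iterEnd φ i k * w := by group
    have hkC := mem_of_inv_mul_map_mem (iterEnd φ i) hψfpf _ hCst (k : G) hk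
    apply Subtype.ext
    rw [hsmul]
    have := (Subgroup.mem_centralizer_iff.mp hkC) v v.2
    rw [← this]
    group
  have key := smul_pow_card_eq_of_fpf (K := ↥P) (V := ↥V) (resEnd φ P hP) (resEnd φ V hV) hr
    (fun v => Subtype.ext (by rw [resEnd_iter]; exact hiter _))
    (fun k v => Subtype.ext (by
      rw [resEnd_coe, hsmul, hsmul, resEnd_coe, resEnd_coe, map_mul, map_mul, map_inv]))
    hσ1 (resEnd_fpf φ V hV hfpf)
  intro g hg v hv
  obtain ⟨w, hw⟩ := (powCoprime hcop.symm).surjective ⟨v, hv⟩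
  rw [powCoprime_apply] at hw
  have h1 := congrArg Subtype.val (key w ⟨g, hg⟩)
  rw [hw, hsmul] at h1
  have h1' : g * v * g⁻¹ = v := h1
  calc g * v = g * v * g⁻¹ * g := by group
    _ = v * g := by rw [h1']

/-- a fixed-point-free automorphism stabilizes some Sylow `p`-subgroup -/
theorem exists_stable_sylow (φ : G →* G) (hbij : Function.Bijective φ)
    (hfpf : ∀ g, φ g = g → g = 1) (p : ℕ) [Fact p.Prime] :
    ∃ P : Sylow p G, ∀ g ∈ P, φ g ∈ P := by
  obtain ⟨P₀⟩ : Nonempty (Sylow p G) := inferInstance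
  obtain ⟨P₁, hP₁⟩ : ∃ P₁ : Sylow p G, P₁ = P₀.mapSurjective hbij.2 := ⟨_, rfl⟩
  obtain ⟨g, hg⟩ := MulAction.exists_smul_eq G P₀ P₁
  have hφ : MonoidHom.FixedPointFree φ := hfpf
  obtain ⟨y, hy⟩ := hφ.commutatorMap_surjective g⁻¹
  have hg' : g = φ y * y⁻¹ := by
    rw [← inv_inv g, ← hy, MonoidHom.commutatorMap_apply, div_eq_mul_inv]
    group
  refine ⟨y⁻¹ • P₀, ?_⟩
  intro h hh
  rw [Cfsg.Agent.Lib.Helper29.mem_smul_sylow_iff] at hh ⊢
  have h1 : φ (y⁻¹⁻¹ * h * y⁻¹) ∈ P₁ := by
    rw [hP₁]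
    exact ⟨_, hh, rfl⟩
  rw [← hg, Cfsg.Agent.Lib.Helper29.mem_smul_sylow_iff] at h1
  have e : g⁻¹ * φ (y⁻¹⁻¹ * h * y⁻¹) * g = y⁻¹⁻¹ * φ h * y⁻¹ := by
    rw [hg', map_mul, map_mul, map_inv, map_inv]
    group
  rw [← e]
  exact h1

end Concrete

end Cfsg.Agent.Lib.Helper8.ThNilp
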