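import Mathlib
import Cfsg.Agent.Lib.Helper8.ThNilpB
import Cfsg.Agent.Lib.Helper8.GlauThomp
import Cfsg.Agent.Lib.Helper12.PPrimeP
import Cfsg.Agent.Lib.Helper12.PNilpotent

/-!
# Thompson's theorem: a finite group with a fixed-point-free automorphism of prime order is nilpotent
(helper8 library)
-/

set_option autoImplicit false

namespace Cfsg.Agent.Lib.Helper8.ThNilp

universe u

section PComp

/-- a finite nilpotent group has a normal `p`-complement -/
theorem hasNormalPComplement_of_isNilpotent {Y : Type u} [Group Y] [Finite Y] (p : ℕ)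
    [hp : Fact p.Prime] (h : Group.IsNilpotent Y) : Cfsg.HasNormalPComplement p Y := by
  have hDcop : (Nat.card (Cfsg.pPrimeCore p Y)).Coprime p :=
    Cfsg.Agent.Lib.Helper12.pPrimeCore_coprime p
  apply Cfsg.Agent.Lib.Helper12.hasNormalPComplement_of_quotient (Cfsg.pPrimeCore p Y) hDcop
  apply Cfsg.Agent.Lib.Helper12.hasNormalPComplement_of_isPGroup
  have hcard : ∀ {l : ℕ}, l.Prime → l ∣ Nat.card (Y ⧸ Cfsg.pPrimeCore p Y) → l = p := by
    intro l hl hld
    by_contra hne
    have : Fact l.Prime := ⟨hl⟩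
    obtain ⟨L⟩ : Nonempty (Sylow l Y) := inferInstance
    have hLn : (L : Subgroup Y).Normal := inferInstance
    have hLcop : (Nat.card (L : Subgroup Y)).Coprime p := by
      obtain ⟨k, hk⟩ := IsPGroup.iff_card.mp L.2
      rw [hk]
      exact Nat.Coprime.pow_left k ((Nat.coprime_primes hl hp.out).mpr hne)
    have hLle : (L : Subgroup Y) ≤ Cfsg.pPrimeCore p Y :=
      Cfsg.Agent.Lib.Helper12.le_pPrimeCore p _ hLn hLcop
    have h1 : (Cfsg.pPrimeCore p Y).index ∣ (L : Subgroup Y).index :=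
      Subgroup.index_dvd_of_le hLle
    rw [← Subgroup.index_eq_card] at hld
    exact L.not_dvd_index (hld.trans h1)
  have hpos : Nat.card (Y ⧸ Cfsg.pPrimeCore p Y) ≠ 0 := Nat.card_pos.ne'
  exact IsPGroup.of_card (Nat.eq_prime_pow_of_unique_prime_dvd hpos hcard)

end PComp

section Steps

variable {G : Type u} [Group G] [Finite G]

theorem centerThompsonAOf_ne_bot {p : ℕ} [Fact p.Prime] (P : Sylow p G) (hdvd : p ∣ Nat.card G) :
    Cfsg.centerThompsonAOf (P : Subgroup G) ≠ ⊥ := by
  rw [← GT.inducedFunctor_zjA]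
  unfold Cfsg.inducedFunctor
  have hPne : (P : Subgroup G) ≠ ⊥ := P.ne_bot_of_dvd_card hdvd
  have : Nontrivial ↥(P : Subgroup G) := (Subgroup.nontrivial_iff_ne_bot _).mpr hPne
  have h1 := GT.zjA_ne_bot (p := p) ↥(P : Subgroup G) P.2
  intro h
  rw [Subgroup.map_eq_bot_iff_of_injective _ (Subgroup.subtype_injective _)] at h
  exact h1 h

/-- Step A: the minimal configuration is solvable. -/
theorem isSolvable_step (φ : G →* G) {r : ℕ} (hr : r.Prime)
    (hiter : ∀ g, φ^[r] g = g) (hfpf : ∀ g, φ g = g → g = 1)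
    (IHsub : ∀ H : Subgroup G, H ≠ ⊤ → (∀ h ∈ H, φ h ∈ H) → Group.IsNilpotent ↥H)
    (IHquot : ∀ (N : Subgroup G) [N.Normal], N ≠ ⊥ → (∀ h ∈ N, φ h ∈ N) →
      Group.IsNilpotent (G ⧸ N)) :
    Group.IsSolvable G := by
  have hbij : Function.Bijective φ := bijective_of_iter φ hr.pos hiter
  by_cases h2 : ∃ p, p.Prime ∧ p ≠ 2 ∧ p ∣ Nat.card G
  swap
  · -- a `2`-group
    have hcard : ∀ {l : ℕ}, l.Prime → l ∣ Nat.card G → l = 2 := by
      intro l hl hld
      by_contra hne
      exact h2 ⟨l, hl, hne, hld⟩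
    have : Fact (Nat.Prime 2) := ⟨Nat.prime_two⟩
    have hP : IsPGroup 2 G :=
      IsPGroup.of_card (Nat.eq_prime_pow_of_unique_prime_dvd Nat.card_pos.ne' hcard)
    have := hP.isNilpotent
    infer_instance
  obtain ⟨p, hp, hp2, hpd⟩ := h2
  have : Fact p.Prime := ⟨hp⟩
  obtain ⟨P, hPst⟩ := exists_stable_sylow φ hbij hfpf p
  let e : G ≃* G := MulEquiv.ofBijective φ hbij
  have he : ∀ g, e g = φ g := fun g => rfl
  have hPmap : (P : Subgroup G).map e.toMonoidHom = (P : Subgroup G) := by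
    apply Subgroup.eq_of_le_of_card_ge
    · rintro _ ⟨h, hh, rfl⟩
      exact hPst h hh
    · exact (Subgroup.card_map_of_injective (f := e.toMonoidHom) e.injective).ge
  -- W = Z(J(P))
  obtain ⟨W, hW⟩ : ∃ W, W = Cfsg.centerThompsonAOf (P : Subgroup G) := ⟨_, rfl⟩
  have hWw : W = Cfsg.Agent.Lib.Helper27.wSub Cfsg.Agent.Lib.Helper27.AbSub (P : Subgroup G) := by
    rw [hW, Cfsg.Agent.Lib.Helper27.centerThompsonAOf_eq]
  have hWmap : W.map e.toMonoidHom = W := by
    rw [hWw, ← Cfsg.Agent.Lib.Helper27.wSub_map Cfsg.Agent.Lib.Helper27.goodClass_abSub e, hPmap]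
  have hWst : ∀ w ∈ W, φ w ∈ W := by
    intro w hw
    rw [← hWmap]
    exact ⟨w, hw, rfl⟩
  have hWne : W ≠ ⊥ := by rw [hW]; exact centerThompsonAOf_ne_bot P hpd
  have hWab : ∀ a ∈ W, ∀ b ∈ W, a * b = b * a := by
    rw [hWw]
    exact Cfsg.Agent.Lib.Helper27.abSub_wSub Cfsg.Agent.Lib.Helper27.goodClass_abSub _
  have hWsolv : Group.IsSolvable ↥W :=
    Group.isSolvable_of_comm (fun a b => Subtype.ext (hWab a a.2 b b.2))
  have hNst : ∀ g ∈ Subgroup.normalizer (W : Set G), φ g ∈ Subgroup.normalizer (W : Set G) := by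
    intro g hg
    apply Subgroup.mem_normalizer_fintype
    intro w hw
    obtain ⟨w', hw', rfl⟩ : ∃ w' ∈ W, φ w' = w := by
      have : w ∈ W.map e.toMonoidHom := by rw [hWmap]; exact hw
      obtain ⟨w', hw', h⟩ := this
      exact ⟨w', hw', h⟩
    rw [← map_mul, ← map_inv, ← map_mul]
    exact hWst _ ((Subgroup.mem_normalizer_iff.mp hg w').mp hw')
  by_cases hN : Subgroup.normalizer (W : Set G) = ⊤
  · have hWn : W.Normal := Subgroup.normalizer_eq_top_iff.mp hN
    have hq : Group.IsNilpotent (G ⧸ W) := IHquot W hWne hWst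
    have hqs : Group.IsSolvable (G ⧸ W) := inferInstance
    exact Group.isSolvable_of_ker_le_range W.subtype (QuotientGroup.mk' W) (by
      rw [QuotientGroup.ker_mk', Subgroup.range_subtype])
  · have hNnil : Group.IsNilpotent ↥(Subgroup.normalizer (W : Set G)) := IHsub _ hN hNst
    have hNpc : Cfsg.HasNormalPComplement p ↥(Subgroup.normalizer (W : Set G)) :=
      hasNormalPComplement_of_isNilpotent p hNnil
    rw [hW] at hNpc
    obtain ⟨P', K, hKn, hKc⟩ := GT.glauberman_thompson hp2 P hNpc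
    have := hKn
    have hKcop : (Nat.card K).Coprime p :=
      Cfsg.Agent.Lib.Helper12.coprime_card_of_isComplement' P' K hKc
    have hKst : ∀ k ∈ K, φ k ∈ K := by
      intro k hk
      apply Cfsg.Agent.Lib.Helper29.mem_normal_complement_of_coprime P' K hKc
      have h1 : orderOf (φ k) = orderOf k := orderOf_injective φ hbij.1 k
      rw [h1]
      exact Nat.Coprime.coprime_dvd_left (Subgroup.orderOf_dvd_natCard K hk) hKcop
    have hKtop : K ≠ ⊤ := by
      intro htop
      have h1 := hKc.card_mul_card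
      rw [htop, Subgroup.card_top] at h1
      have h2 : Nat.card (P' : Subgroup G) = 1 := by
        have hpos : 0 < Nat.card G := Nat.card_pos
        nlinarith [Nat.eq_of_mul_eq_mul_left hpos (by rw [h1, mul_one] : Nat.card G * Nat.card (P' : Subgroup G) = Nat.card G * 1)]
      have h3 : (P' : Subgroup G) ≠ ⊥ := P'.ne_bot_of_dvd_card hpd
      exact h3 (Subgroup.card_eq_one.mp h2)
    have hKnil : Group.IsNilpotent ↥K := IHsub K hKtop hKst
    have hKsolv : Group.IsSolvable ↥K := inferInstance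
    have hQp : IsPGroup p (G ⧸ K) := by
      obtain ⟨k, hk⟩ := IsPGroup.iff_card.mp P'.2
      apply IsPGroup.of_card (n := k)
      rw [← Subgroup.index_eq_card, hKc.symm.index_eq_card, hk]
    have := hQp.isNilpotent
    have hqs : Group.IsSolvable (G ⧸ K) := inferInstance
    exact Group.isSolvable_of_ker_le_range K.subtype (QuotientGroup.mk' K) (by
      rw [QuotientGroup.ker_mk', Subgroup.range_subtype])

end Steps

end Cfsg.Agent.Lib.Helper8.ThNilp
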