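import Mathlib
import Cfsg.Agent.Lib.Helper8.ThNilpC

/-!
# Thompson's theorem: a finite group with a fixed-point-free automorphism of prime order is nilpotent
(helper8 library): the solvable case and the induction
-/

set_option autoImplicit false
open scoped commutatorElement Pointwise

namespace Cfsg.Agent.Lib.Helper8.ThNilp

universe u

section Omega

variable {G : Type*} [Group G]

/-- the elements of order dividing `q` of an abelian subgroup `A` -/
def omegaSub (A : Subgroup G) (hA : ∀ a ∈ A, ∀ b ∈ A, a * b = b * a) (q : ℕ) : Subgroup G where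
  carrier := {a | a ∈ A ∧ a ^ q = 1}
  one_mem' := ⟨A.one_mem, one_pow q⟩
  mul_mem' := by
    rintro a b ⟨ha, ha'⟩ ⟨hb, hb'⟩
    refine ⟨A.mul_mem ha hb, ?_⟩
    have hc : Commute a b := hA a ha b hb
    rw [hc.mul_pow, ha', hb', one_mul]
  inv_mem' := by
    rintro a ⟨ha, ha'⟩
    exact ⟨A.inv_mem ha, by rw [inv_pow, ha', inv_one]⟩

theorem mem_omegaSub {A : Subgroup G} {hA : ∀ a ∈ A, ∀ b ∈ A, a * b = b * a} {q : ℕ} {a : G} :
    a ∈ omegaSub A hA q ↔ a ∈ A ∧ a ^ q = 1 := Iff.rfl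

end Omega

section Steps

variable {G : Type u} [Group G] [Finite G]

/-- Step B: the solvable case. -/
theorem isNilpotent_step (φ : G →* G) {r : ℕ} (hr : r.Prime)
    (hiter : ∀ g, φ^[r] g = g) (hfpf : ∀ g, φ g = g → g = 1) (hsolv : Group.IsSolvable G)
    (IHquot : ∀ (N : Subgroup G) [N.Normal], N ≠ ⊥ → (∀ h ∈ N, φ h ∈ N) →
      Group.IsNilpotent (G ⧸ N)) :
    Group.IsNilpotent G := by
  classical
  have hbij := bijective_of_iter φ hr.pos hiter
  rcases subsingleton_or_nontrivial G with hss | hnt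
  · infer_instance
  have hex : ∃ n, derivedSeries G n = ⊥ := hsolv.solvable
  obtain ⟨m, hmdef⟩ : ∃ m, m = Nat.find hex := ⟨_, rfl⟩
  have hm : derivedSeries G m = ⊥ := by rw [hmdef]; exact Nat.find_spec hex
  have hm0 : m ≠ 0 := by
    intro h0
    rw [h0, derivedSeries_zero] at hm
    exact top_ne_bot hm
  obtain ⟨s, hs⟩ : ∃ s, m = s + 1 := ⟨m - 1, by omega⟩
  obtain ⟨A, hA⟩ : ∃ A, A = derivedSeries G s := ⟨_, rfl⟩
  have hAne : A ≠ ⊥ := by
    rw [hA]
    exact Nat.find_min hex (by omega : s < Nat.find hex)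
  have hAab : ∀ a ∈ A, ∀ b ∈ A, a * b = b * a := by
    intro a ha b hb
    have h1 : ⁅a, b⁆ ∈ derivedSeries G (s + 1) := by
      rw [derivedSeries_succ, ← hA]
      exact Subgroup.commutator_mem_commutator ha hb
    rw [← hs, hm, Subgroup.mem_bot, commutatorElement_eq_one_iff_mul_comm] at h1
    exact h1
  have hAn : A.Normal := by rw [hA]; infer_instance
  have hAst : ∀ a ∈ A, φ a ∈ A := by
    intro a ha
    rw [hA] at ha ⊢
    exact map_derivedSeries_le_derivedSeries φ s ⟨a, ha, rfl⟩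
  have hAcard : Nat.card A ≠ 1 := fun h => hAne (Subgroup.card_eq_one.mp h)
  obtain ⟨q, hq, hqd⟩ := Nat.exists_prime_and_dvd hAcard
  have hqf : Fact q.Prime := ⟨hq⟩
  obtain ⟨V, hVdef⟩ : ∃ V, V = omegaSub A hAab q := ⟨_, rfl⟩
  have hVmem : ∀ v, v ∈ V ↔ v ∈ A ∧ v ^ q = 1 := by
    intro v; rw [hVdef]; exact mem_omegaSub
  have hVn : V.Normal := by
    refine ⟨fun v hv g => ?_⟩
    rw [hVmem] at hv ⊢
    refine ⟨hAn.conj_mem v hv.1 g, ?_⟩
    rw [conj_pow, hv.2]; group
  have hVst : ∀ v ∈ V, φ v ∈ V := by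
    intro v hv
    rw [hVmem] at hv ⊢
    exact ⟨hAst v hv.1, by rw [← map_pow, hv.2, map_one]⟩
  have hVne : V ≠ ⊥ := by
    obtain ⟨x, hx⟩ := exists_prime_orderOf_dvd_card' q hqd
    intro hbot
    have hxV : (x : G) ∈ V := by
      rw [hVmem]
      refine ⟨x.2, ?_⟩
      have hxq : x ^ q = 1 := by rw [← hx]; exact pow_orderOf_eq_one x
      simpa using congrArg Subtype.val hxq
    rw [hbot, Subgroup.mem_bot] at hxV
    have hx1 : x = 1 := Subtype.ext hxV
    rw [hx1, orderOf_one] at hx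
    exact hq.one_lt.ne hx
  have hVab : ∀ a ∈ V, ∀ b ∈ V, a * b = b * a := fun a ha b hb =>
    hAab a ((hVmem a).mp ha).1 b ((hVmem b).mp hb).1
  have hVq : ∀ v ∈ V, v ^ q = 1 := fun v hv => ((hVmem v).mp hv).2
  have hVp : IsPGroup q V := fun v => ⟨1, Subtype.ext (by simpa using hVq v v.2)⟩
  have hQnil : Group.IsNilpotent (G ⧸ V) := IHquot V hVne hVst
  refine ((Group.isNilpotent_of_finite_tfae (G := G)).out 0 3 rfl rfl).mpr ?_
  intro p hpf S
  obtain ⟨P, hPst⟩ := exists_stable_sylow φ hbij hfpf p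
  suffices hPn : (P : Subgroup G).Normal by
    obtain ⟨g, rfl⟩ := MulAction.exists_smul_eq G P S
    rw [Sylow.smul_eq_of_normal]; exact hPn
  have hMn : ((P : Subgroup G) ⊔ V).Normal := by
    have h1 : ((P.mapSurjective (QuotientGroup.mk'_surjective V) : Sylow p (G ⧸ V)) :
        Subgroup (G ⧸ V)).Normal := inferInstance
    have h2 := h1.comap (QuotientGroup.mk' V)
    rw [Sylow.coe_mapSurjective, Subgroup.comap_map_eq, QuotientGroup.ker_mk'] at h2
    exact h2
  by_cases hpq : p = q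
  · subst hpq
    have hVP : V ≤ P := hVp.le_sylow_of_normal P
    rwa [sup_eq_left.mpr hVP] at hMn
  · have hcopp : Nat.Coprime p q := (Nat.coprime_primes hpf.out hq).mpr hpq
    have hcop : (Nat.card (P : Subgroup G)).Coprime (Nat.card V) := by
      obtain ⟨a, ha⟩ := IsPGroup.iff_card.mp P.2
      obtain ⟨b, hb⟩ := IsPGroup.iff_card.mp hVp
      rw [ha, hb]
      exact Nat.Coprime.pow _ _ hcopp
    have hcent := centralizes_of_fpf φ hr hiter hfpf V hVab hVst P hPst hcop
    have hdisj : Disjoint (P : Subgroup G) V := IsPGroup.disjoint_of_ne p q hpq _ _ P.2 hVp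
    refine ⟨fun x hx g => ?_⟩
    have hy : g * x * g⁻¹ ∈ (P : Subgroup G) ⊔ V := hMn.conj_mem x (Subgroup.mem_sup_left hx) g
    have hy' : g * x * g⁻¹ ∈ ((P : Subgroup G) : Set G) * (V : Set G) := by
      rw [← Subgroup.mul_normal]; exact hy
    obtain ⟨a, ha, v, hv, hav⟩ := hy'
    obtain ⟨k, hk⟩ := P.2 ⟨x, hx⟩
    have hxk : x ^ p ^ k = 1 := by simpa using congrArg Subtype.val hk
    have hyk : (g * x * g⁻¹) ^ p ^ k = 1 := by rw [conj_pow, hxk]; group
    have hav' : a * v = g * x * g⁻¹ := hav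
    rw [← hav', (show Commute a v from hcent a ha v hv).mul_pow] at hyk
    have h1 : v ^ p ^ k ∈ (P : Subgroup G) := by
      have : v ^ p ^ k = (a ^ p ^ k)⁻¹ := eq_inv_of_mul_eq_one_right hyk
      rw [this]; exact inv_mem (pow_mem ha _)
    have h2 : v ^ p ^ k ∈ V := pow_mem hv _
    have h3 : v ^ p ^ k = 1 := Subgroup.disjoint_def.mp hdisj h1 h2
    have h4 : v = 1 := by
      have hd1 : orderOf v ∣ p ^ k := orderOf_dvd_of_pow_eq_one h3
      have hd2 : orderOf v ∣ q := orderOf_dvd_of_pow_eq_one (hVq v hv)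
      have : orderOf v = 1 := Nat.eq_one_of_dvd_coprimes (Nat.Coprime.pow_left k hcopp) hd1 hd2
      exact orderOf_eq_one_iff.mp this
    rw [← hav', h4, mul_one]; exact ha

end Steps

/-- **Thompson's theorem**, induction form. -/
theorem isNilpotent_of_fpf_aux : ∀ (n : ℕ) (G : Type u) [Group G] [Finite G], Nat.card G = n →
    ∀ (φ : G →* G) (r : ℕ), r.Prime → (∀ g, φ^[r] g = g) → (∀ g, φ g = g → g = 1) →
    Group.IsNilpotent G := by
  intro n
  induction n using Nat.strong_induction_on with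
  | _ n IH =>
  intro G _ _ hcard φ r hr hiter hfpf
  have IHsub : ∀ H : Subgroup G, H ≠ ⊤ → (∀ h ∈ H, φ h ∈ H) → Group.IsNilpotent ↥H := by
    intro H hH hst
    have hlt : Nat.card ↥H < n := by
      rw [← hcard]
      exact lt_of_le_of_ne (Subgroup.card_le_card_group H)
        (fun h => hH ((Subgroup.card_eq_iff_eq_top H).mp h))
    exact IH _ hlt ↥H rfl (resEnd φ H hst) r hr
      (fun h => Subtype.ext (by rw [resEnd_iter]; exact hiter _)) (resEnd_fpf φ H hst hfpf)
  have IHquot : ∀ (N : Subgroup G) [N.Normal], N ≠ ⊥ → (∀ h ∈ N, φ h ∈ N) →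
      Group.IsNilpotent (G ⧸ N) := by
    intro N _ hN hst
    have hlt : Nat.card (G ⧸ N) < n := by
      rw [← hcard, Subgroup.card_eq_card_quotient_mul_card_subgroup N]
      have h1 : 1 < Nat.card N := (Subgroup.one_lt_card_iff_ne_bot N).mpr hN
      have h2 : 0 < Nat.card (G ⧸ N) := Nat.card_pos
      nlinarith
    refine IH _ hlt (G ⧸ N) rfl (quotEnd φ N hst) r hr ?_ (quotEnd_fpf φ N hst hfpf)
    intro x
    obtain ⟨g, rfl⟩ := QuotientGroup.mk_surjective x
    rw [quotEnd_iter, hiter]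
  exact isNilpotent_step φ hr hiter hfpf (isSolvable_step φ hr hiter hfpf IHsub IHquot) IHquot

/-- **Thompson's theorem**: a finite group admitting a fixed-point-free endomorphism of prime
period is nilpotent. -/
theorem isNilpotent_of_fpf {G : Type u} [Group G] [Finite G] (φ : G →* G) {r : ℕ} (hr : r.Prime)
    (hiter : ∀ g, φ^[r] g = g) (hfpf : ∀ g, φ g = g → g = 1) : Group.IsNilpotent G :=
  isNilpotent_of_fpf_aux _ G rfl φ r hr hiter hfpf

end Cfsg.Agent.Lib.Helper8.ThNilp
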