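/-
helper8: B&G section 11 ("exceptional" maximal subgroups): the standing hypothesis 11.1 as a
structure `Exc`, plus the conjugate-subgroup abbreviation `cj`.
Everything downstream (BGEx1.., other seats' BG sec.11/12 files) imports this file.
-/
import Cfsg.Prelude.Def_OddOrderLocal

set_option autoImplicit false

namespace Cfsg.Agent.Lib.Helper8.BGEx

open Cfsg Subgroup

variable {G : Type*} [Group G]

/-- the conjugate subgroup `g Y g⁻¹` (same spelling as in the frozen statements S1392, S1404, ...). -/
abbrev cj (g : G) (Y : Subgroup G) : Subgroup G := Y.map (MulAut.conj g).toMonoidHom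

/-- **Hypothesis 11.1** of Bender–Glauberman: `M` is a maximal subgroup, `p ∉ σ(M)`, `A ≤ M` is
elementary abelian of order `p ^ 2`, `A₀ ≤ A` has order `p` and `N_G(A₀) ≤ M`.
("`M` is exceptional for `(p, A, A₀)`".) -/
structure Exc (M : Subgroup G) (p : ℕ) (A A₀ : Subgroup G) : Prop where
  coatom : IsCoatom M
  prime : p.Prime
  not_sigma : p ∉ Cfsg.sigma M
  le : A ≤ M
  elem : Cfsg.IsElementaryAbelian p A
  card : Nat.card A = p ^ 2
  le₀ : A₀ ≤ A
  card₀ : Nat.card A₀ = p
  norm₀ : normalizer (A₀ : Set G) ≤ M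

end Cfsg.Agent.Lib.Helper8.BGEx
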