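import Mathlib
import Cfsg.Prelude
import Cfsg.Agent.Lib.Helper19.BG95Spec
import Cfsg.Agent.Lib.Helper8.SylIn
import Cfsg.Agent.Lib.Helper8.Hyperplane
import Cfsg.Agent.Lib.Helper17.CoprimeGen
import Cfsg.Agent.Lib.Helper4.Basic

/-!
# B&G Lemma 9.5, the kill lemma (piece E), part A: minimal invariant subgroups

See `notes/bg95/PROOF.md`, step 2h.
-/

set_option autoImplicit false

namespace Cfsg.Agent.Lib.Helper8.BG95Kill

open Subgroup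
open Cfsg.Agent.Lib.Helper19.BG95 (TypeII)

variable {G : Type*} [Group G]

theorem le_normalizer_inf' {A H K : Subgroup G} (hH : A ≤ normalizer (H : Set G))
    (hK : A ≤ normalizer (K : Set G)) : A ≤ normalizer ((H ⊓ K : Subgroup G) : Set G) := by
  intro a ha
  rw [Subgroup.mem_normalizer_iff]
  intro x
  have h1 := Subgroup.mem_normalizer_iff.mp (hH ha) x
  have h2 := Subgroup.mem_normalizer_iff.mp (hK ha) x
  simp only [Subgroup.mem_inf]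
  rw [h1, h2]

theorem le_centralizer_of_le_of_comm {A B : Subgroup G} (hBA : B ≤ A)
    (hAc : ∀ a ∈ A, ∀ b ∈ A, a * b = b * a) : A ≤ centralizer (B : Set G) := by
  intro a ha
  rw [Subgroup.mem_centralizer_iff]
  intro b hb
  exact hAc b (hBA hb) a ha

/-- Step 2h, first half: a hyperplane `B` of `E` and a minimal `A`-invariant subgroup
`Y = [Y, A]` of `C_{W₁}(B)` not contained in `H₂`. -/
theorem exists_min_inv [Finite G] {p : ℕ} [Fact p.Prime] {A E H₁ H₂ W₁ W₂ : Subgroup G}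
    {s₁ s₂ : ℕ} (h₁ : TypeII p A H₁ s₁ W₁) (h₂ : TypeII p A H₂ s₂ W₂) (hne : H₁ ≠ H₂)
    (hAc : ∀ a ∈ A, ∀ b ∈ A, a * b = b * a) (hAp : IsPGroup p A)
    (hEA : E ≤ A) (hE : Cfsg.IsElementaryAbelian p E) (hE1 : E ≠ ⊥) :
    ∃ B Y : Subgroup G, B ≤ E ∧ B.relIndex E = p ∧ Y ≤ W₁ ∧ Y ≤ centralizer (B : Set G) ∧
      A ≤ normalizer (Y : Set G) ∧ ¬ Y ≤ H₂ ∧ ⁅Y, A⁆ = Y := by
  classical
  haveI : Fact s₁.Prime := ⟨h₁.s_prime⟩
  have hW₁H₂ : ¬ W₁ ≤ H₂ := fun h => hne (h₁.uniq_nc W₁ le_rfl h₁.W_nc H₂ h₂.coatom h).symm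
  have hEp : IsPGroup p E := hAp.to_le hEA
  have hcopEW : (Nat.card E).Coprime (Nat.card W₁) :=
    IsPGroup.coprime_card_of_ne p s₁ (Ne.symm h₁.s_ne) E W₁ hEp h₁.W_pgroup
  obtain ⟨B, hBE, hBi, hBn⟩ := exists_index_p_centralizer_not_le p E W₁ H₂ hE hE1
    (hEA.trans h₁.W_inv) hcopEW hW₁H₂
  have hAB : A ≤ centralizer (B : Set G) := le_centralizer_of_le_of_comm (hBE.trans hEA) hAc
  have hAN : A ≤ normalizer ((W₁ ⊓ centralizer (B : Set G) : Subgroup G) : Set G) :=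
    le_normalizer_inf' h₁.W_inv (hAB.trans Subgroup.le_normalizer)
  let 𝒮 : Set (Subgroup G) := {Y | Y ≤ W₁ ⊓ centralizer (B : Set G) ∧
    A ≤ normalizer (Y : Set G) ∧ ¬ Y ≤ H₂}
  obtain ⟨Y, hY𝒮, hYmin⟩ := Set.exists_min_image 𝒮 (fun Y => Nat.card Y) (Set.toFinite 𝒮)
    ⟨_, le_rfl, hAN, hBn⟩
  obtain ⟨hYle, hAY, hYH₂⟩ := hY𝒮
  have hYW : Y ≤ W₁ := hYle.trans inf_le_left
  have hYs : IsPGroup s₁ Y := h₁.W_pgroup.to_le hYW
  have hcopAY : (Nat.card A).Coprime (Nat.card Y) :=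
    IsPGroup.coprime_card_of_ne p s₁ (Ne.symm h₁.s_ne) A Y hAp hYs
  have hAsolv : Group.IsSolvable A := by
    have := hAp.isNilpotent
    infer_instance
  have hgen := Cfsg.Agent.Lib.Helper17.le_centralizer_sup_commutator A Y hAY hcopAY (Or.inl hAsolv)
  have hC : Y ⊓ centralizer (A : Set G) ≤ H₂ := by
    apply h₂.cent_A_le _ _ inf_le_right
    have hCs : IsPGroup s₁ ↥(Y ⊓ centralizer (A : Set G)) := hYs.to_le inf_le_left
    obtain ⟨k, hk⟩ := IsPGroup.iff_card.mp hCs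
    rw [hk]
    apply Nat.Coprime.pow_left
    exact (Nat.coprime_primes h₁.s_prime (Fact.out : p.Prime)).mpr h₁.s_ne
  have hcomle : ⁅Y, A⁆ ≤ Y := Cfsg.Agent.Lib.Helper1.commutator_le_of_le_normalizer hAY
  have hcomH₂ : ¬ ⁅Y, A⁆ ≤ H₂ := fun h => hYH₂ (hgen.trans (sup_le hC h))
  have hmem : ⁅Y, A⁆ ∈ 𝒮 :=
    ⟨hcomle.trans hYle, Cfsg.Agent.Lib.Helper1.le_normalizer_commutator_right Y A, hcomH₂⟩
  have hcard := hYmin _ hmem
  refine ⟨B, Y, hBE, hBi, hYW, hYle.trans inf_le_right, hAY, hYH₂, ?_⟩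
  exact Subgroup.eq_of_le_of_card_ge hcomle hcard

/-- Two hyperplanes of an elementary abelian group of order more than `p ^ 2` meet nontrivially. -/
theorem exists_mem_inf_ne_one [Finite G] {p : ℕ} [Fact p.Prime] {E B₁ B₂ : Subgroup G}
    (hB₁ : B₁ ≤ E) (hB₂ : B₂ ≤ E) (hi₁ : B₁.relIndex E = p) (hi₂ : B₂.relIndex E = p)
    (hcard : p ^ 2 < Nat.card E) : ∃ b ∈ B₁ ⊓ B₂, b ≠ 1 := by
  have h1 : (B₁ ⊓ B₂).relIndex E ≤ B₁.relIndex E * B₂.relIndex E := Subgroup.relIndex_inf_le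
  rw [hi₁, hi₂] at h1
  have h2 := Cfsg.Agent.Lib.Helper4.card_mul_relIndex (inf_le_left.trans hB₁ : B₁ ⊓ B₂ ≤ E)
  have h3 : B₁ ⊓ B₂ ≠ ⊥ := by
    intro h
    rw [h, Subgroup.card_bot, one_mul] at h2
    rw [h, h2] at h1
    nlinarith
  exact (Subgroup.ne_bot_iff_exists_ne_one).mp h3 |>.elim fun ⟨b, hb⟩ hb1 =>
    ⟨b, hb, fun h => hb1 (Subtype.ext h)⟩

end Cfsg.Agent.Lib.Helper8.BG95Kill
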