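import Mathlib
import Cfsg.Prelude
import Cfsg.Agent.Lib.Helper19.BG95Spec
import Cfsg.Agent.Lib.Helper8.BG95KillA
import Cfsg.Agent.Lib.Helper12.CoreControl
import Cfsg.Agent.Lib.Helper17.Rank2Fitting
import Cfsg.Agent.Lib.Helper17.BGUniqG
import Cfsg.Agent.Lib.Helper1.SLFree3
import Cfsg.Agent.S1450

/-!
# B&G Lemma 9.5, the kill lemma (piece E), part B: the core argument in `θ = O_{p'}(C_G(b))`

See `notes/bg95/PROOF.md`, step 2h.
-/

set_option autoImplicit false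

namespace Cfsg.Agent.Lib.Helper8.BG95Kill

open Subgroup
open Cfsg.Agent.Lib.Helper19.BG95 (TypeII)
open Cfsg.Agent.Lib.Helper8 (IsSylIn conj_mem_map_conj)
open Cfsg.Agent.Lib.Helper12.CoreControl (coreQ coreQ_le coreQ_coprime normalizer_le_normalizer_coreQ)

variable {G : Type*} [Group G]

/-- TOOL N (piece (C) of `notes/bg95/SPEC.md`) as a proposition on `G`. -/
def ToolN (G : Type*) [Group G] : Prop :=
  ∀ (r : ℕ) [Fact r.Prime], r ≠ 2 → ∀ R L Y : Subgroup G, IsPGroup r R → Cfsg.PRankLE r 2 ↥R →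
    L ≤ normalizer (R : Set G) → Group.IsSolvable ↥L → Odd (Nat.card ↥L) → Y ≤ ⁅L, L⁆ →
    (Nat.card ↥Y).Coprime r → Y ≤ centralizer (R : Set G)

theorem isSolvable_of_le' {H K : Subgroup G} (hHK : H ≤ K) (hK : Group.IsSolvable ↥K) :
    Group.IsSolvable ↥H :=
  solvable_of_solvable_injective (Subgroup.inclusion_injective hHK)

/-- `p`-rank of a subgroup from the rank of one of its Sylow `p`-subgroups. -/
theorem pRankLE_of_isSylIn [Finite G] {q k : ℕ} [Fact q.Prime] {J θ : Subgroup G}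
    (hJ : IsSylIn q J θ) (h : Cfsg.PRankLE q k ↥J) : Cfsg.PRankLE q k ↥θ := by
  apply Cfsg.Agent.Lib.Helper17.BGU.pRankLE_of_sylow hJ.toSylow
  intro E hE hEc hEe
  by_contra hlt
  rw [not_le] at hlt
  have hle : E.map θ.subtype ≤ J := by
    rw [← hJ.toSylow_map]; exact Subgroup.map_mono hE
  refine Cfsg.Agent.Lib.Helper17.BGU.not_pRankLE_of_elemAb hle ?_ ?_ ?_ h
  · rintro _ ⟨a, ha, rfl⟩ _ ⟨b, hb, rfl⟩
    have := hEc.is_comm.comm (⟨a, ha⟩ : E) ⟨b, hb⟩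
    have h2 : a * b = b * a := congrArg Subtype.val this
    show (a : G) * (b : G) = (b : G) * (a : G)
    exact_mod_cast congrArg Subtype.val h2
  · rintro _ ⟨a, ha, rfl⟩
    have := hEe a ha
    show (a : G) ^ q = 1
    exact_mod_cast congrArg Subtype.val this
  · rw [Subgroup.card_map_of_injective θ.subtype_injective]; exact hlt

/-- A Sylow `s₁`-subgroup of `θ` lies in `O_{s₂'}(θ)` when `s₁` does not divide the index. -/
theorem le_coreQ_of_not_dvd_index [Finite G] {s₁ s₂ : ℕ} [Fact s₁.Prime] {J θ : Subgroup G}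
    (hJθ : J ≤ θ) (hJ : IsPGroup s₁ J) (hnd : ¬ s₁ ∣ (Cfsg.pPrimeCore s₂ ↥θ).index) :
    J ≤ coreQ s₂ θ := by
  have hs₁ : s₁.Prime := Fact.out
  haveI hOn : (Cfsg.pPrimeCore s₂ ↥θ).Normal := Cfsg.Agent.Lib.Helper1.pPrimeCore_normal s₂ ↥θ
  intro x hx
  refine ⟨⟨x, hJθ hx⟩, ?_, rfl⟩
  show (⟨x, hJθ hx⟩ : ↥θ) ∈ Cfsg.pPrimeCore s₂ ↥θ
  rw [← QuotientGroup.eq_one_iff]
  set x' : ↥θ := ⟨x, hJθ hx⟩ with hx'
  set y : ↥θ ⧸ Cfsg.pPrimeCore s₂ ↥θ := (x' : ↥θ ⧸ Cfsg.pPrimeCore s₂ ↥θ) with hy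
  obtain ⟨k, hk⟩ := hJ ⟨x, hx⟩
  have hxk : x' ^ (s₁ ^ k) = 1 := by
    apply Subtype.ext
    have := congrArg Subtype.val hk
    simpa using this
  have hyk : y ^ (s₁ ^ k) = 1 := by
    rw [hy, ← QuotientGroup.mk_pow, hxk, QuotientGroup.mk_one]
  have h1 : orderOf y ∣ s₁ ^ k := orderOf_dvd_of_pow_eq_one hyk
  obtain ⟨j, -, hj⟩ := (Nat.dvd_prime_pow hs₁).mp h1
  have h2 : orderOf y ∣ (Cfsg.pPrimeCore s₂ ↥θ).index := by
    rw [Subgroup.index_eq_card]; exact orderOf_dvd_natCard y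
  rcases Nat.eq_zero_or_pos j with rfl | hjpos
  · rw [pow_zero] at hj
    exact orderOf_eq_one_iff.mp hj
  · exfalso
    apply hnd
    refine dvd_trans ?_ h2
    rw [hj]; exact dvd_pow_self s₁ hjpos.ne'

end Cfsg.Agent.Lib.Helper8.BG95Kill
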