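import Mathlib
import Cfsg.Prelude
import Cfsg.Agent.Lib.Helper19.BG95Spec
import Cfsg.Agent.Lib.Helper8.BG95KillB

/-!
# B&G Lemma 9.5, the kill lemma (piece E), part C: the core argument

See `notes/bg95/PROOF.md`, step 2h, last bullet.
-/

set_option autoImplicit false

namespace Cfsg.Agent.Lib.Helper8.BG95Kill

open Subgroup
open Cfsg.Agent.Lib.Helper19.BG95 (TypeII)
open Cfsg.Agent.Lib.Helper8 (IsSylIn conj_mem_map_conj exists_invariant_isSylIn_ge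
  exists_conj_of_invariant_isSylIn isSylIn_of_card_le)
open Cfsg.Agent.Lib.Helper12.CoreControl (coreQ coreQ_le coreQ_coprime normalizer_le_normalizer_coreQ)

variable {G : Type*} [Group G]

/-- The core of the kill lemma: in `θ`, with `s₂ < s₁`, `Y₂ = [Y₂, A]` centralizes a conjugate
of `Y₁` under an element of `C_θ(A) ≤ H₁`, hence `Y₂ ≤ H₁`. -/
theorem kill_core [Finite G] (hodd : Odd (Nat.card G)) (hN : ToolN G) {p : ℕ} [Fact p.Prime]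
    {A H₁ W₁ : Subgroup G} {s₁ s₂ : ℕ} [Fact s₁.Prime] [Fact s₂.Prime]
    (hAp : IsPGroup p A) (h₁ : TypeII p A H₁ s₁ W₁) (hs : s₂ < s₁) (hs₂p : s₂ ≠ p)
    {C θ Y₁ Y₂ J₁ : Subgroup G} (hCsolv : Group.IsSolvable ↥C) (hAC : A ≤ C) (hθC : θ ≤ C)
    (hθcop : (Nat.card θ).Coprime p) (hAθ : A ≤ normalizer (θ : Set G))
    (hθ1 : Cfsg.PRankLE s₁ 2 ↥θ) (hθ2 : Cfsg.PRankLE s₂ 2 ↥θ)
    (hY₁W : Y₁ ≤ W₁) (hY₁ne : Y₁ ≠ ⊥)
    (hJ₁ : IsSylIn s₁ J₁ θ) (hY₁J : Y₁ ≤ J₁) (hAJ₁ : A ≤ normalizer (J₁ : Set G))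
    (hY₂θ : Y₂ ≤ θ) (hY₂s : IsPGroup s₂ Y₂) (hAY₂ : A ≤ normalizer (Y₂ : Set G))
    (hY₂c : ⁅Y₂, A⁆ = Y₂) (hY₂ne : Y₂ ≠ ⊥) : Y₂ ≤ H₁ := by
  classical
  have hpp : p.Prime := Fact.out
  have hs₁ : s₁.Prime := Fact.out
  have hs₂ : s₂.Prime := Fact.out
  have hθsolv : Group.IsSolvable ↥θ := isSolvable_of_le' hθC hCsolv
  have hoddθ : Odd (Nat.card ↥θ) := Odd.of_dvd_nat hodd (Subgroup.card_subgroup_dvd_card θ)
  -- `s₂` divides `|θ|`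
  have hs₂θ : s₂ ∣ Nat.card ↥θ := by
    obtain ⟨k, hk⟩ := IsPGroup.iff_card.mp hY₂s
    have hk0 : k ≠ 0 := by
      rintro rfl
      rw [pow_zero] at hk
      exact hY₂ne ((Subgroup.card_eq_one).mp hk)
    have h1 : s₂ ∣ Nat.card Y₂ := by rw [hk]; exact dvd_pow_self s₂ hk0
    exact h1.trans (Subgroup.card_dvd_of_le hY₂θ)
  -- TOOL O
  have hO := (Cfsg.Agent.S1450.result (G := ↥θ) hoddθ s₂ hs₂θ hθ2).1
  have hnd : ¬ s₁ ∣ (Cfsg.pPrimeCore s₂ ↥θ).index := fun h => absurd (hO s₁ hs₁ h) (not_le.mpr hs)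
  set θ₁ := coreQ s₂ θ with hθ₁
  have hθ₁θ : θ₁ ≤ θ := coreQ_le s₂ θ
  have hJ₁θ₁ : J₁ ≤ θ₁ := le_coreQ_of_not_dvd_index hJ₁.1 hJ₁.isPGroup hnd
  have hNθ₁ : normalizer (θ : Set G) ≤ normalizer (θ₁ : Set G) := normalizer_le_normalizer_coreQ s₂ θ
  have hAθ₁ : A ≤ normalizer (θ₁ : Set G) := hAθ.trans hNθ₁
  set L := A ⊔ Y₂ with hL
  have hLθ₁ : L ≤ normalizer (θ₁ : Set G) :=
    sup_le hAθ₁ (hY₂θ.trans (Subgroup.le_normalizer.trans hNθ₁))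
  have hLC : L ≤ C := sup_le hAC (hY₂θ.trans hθC)
  have hLsolv : Group.IsSolvable ↥L := isSolvable_of_le' hLC hCsolv
  have hLodd : Odd (Nat.card ↥L) := Odd.of_dvd_nat hodd (Subgroup.card_subgroup_dvd_card L)
  have hcopθ₁p : (Nat.card ↥θ₁).Coprime p :=
    Nat.Coprime.coprime_dvd_left (Subgroup.card_dvd_of_le hθ₁θ) hθcop
  have hcopAθ₁ : (Nat.card A).Coprime (Nat.card ↥θ₁) := by
    obtain ⟨k, hk⟩ := IsPGroup.iff_card.mp hAp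
    rw [hk]
    exact (Nat.Coprime.pow_left k hcopθ₁p.symm)
  have hcopYθ₁ : (Nat.card Y₂).Coprime (Nat.card ↥θ₁) := by
    obtain ⟨k, hk⟩ := IsPGroup.iff_card.mp hY₂s
    rw [hk]
    exact (Nat.Coprime.pow_left k (coreQ_coprime s₂ θ).symm)
  have hcopL : (Nat.card ↥L).Coprime (Nat.card ↥θ₁) :=
    Nat.Coprime.coprime_dvd_left
      (Cfsg.Agent.Lib.Helper1.SLFree.card_sup_dvd_of_le_normalizer A Y₂ hAY₂)
      (Nat.Coprime.mul_left hcopAθ₁ hcopYθ₁)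
  -- an `L`-invariant Sylow `s₁`-subgroup of `θ₁`
  have hLbot : L ≤ normalizer (((⊥ : Subgroup G) : Subgroup G) : Set G) := by
    intro x _
    rw [Subgroup.mem_normalizer_iff]
    intro y
    simp only [Subgroup.mem_bot]
    constructor
    · rintro rfl; simp
    · intro h
      have : y = x⁻¹ * (x * y * x⁻¹) * x := by group
      rw [this, h]; simp
  obtain ⟨J₁', hJ₁', -, hLJ₁'⟩ := exists_invariant_isSylIn_ge (A := L) (L := θ₁) hLθ₁ hcopL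
    (Or.inl hLsolv) s₁ ⊥ bot_le IsPGroup.of_bot hLbot
  -- `J₁` is Sylow in `θ₁`
  have hJ₁S : IsSylIn s₁ J₁ θ₁ := by
    apply isSylIn_of_card_le hJ₁.isPGroup hJ₁θ₁
    rw [hJ₁.2]
    apply Nat.pow_le_pow_right hs₁.pos
    exact (Nat.factorization_le_iff_dvd Nat.card_pos.ne' Nat.card_pos.ne').mpr
      (Subgroup.card_dvd_of_le hθ₁θ) s₁
  have hAsolv : Group.IsSolvable A := isSolvable_of_le' hAC hCsolv
  obtain ⟨c, hc, hcJ⟩ := exists_conj_of_invariant_isSylIn (A := A) (L := θ₁) hAθ₁ hcopAθ₁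
    (Or.inl hAsolv) s₁ hJ₁S hJ₁' hAJ₁ (le_sup_left.trans hLJ₁')
  -- `c ∈ H₁`
  have hcH₁ : c ∈ H₁ := by
    have h2 : θ ⊓ centralizer (A : Set G) ≤ H₁ := by
      apply h₁.cent_A_le _ _ inf_le_right
      exact Nat.Coprime.coprime_dvd_left (Subgroup.card_dvd_of_le inf_le_left) hθcop
    exact h2 ⟨hθ₁θ hc.1, hc.2⟩
  -- TOOL N
  have hs₁2 : s₁ ≠ 2 := by
    rintro h2
    have h3 : s₁ ∣ Nat.card G := by
      obtain ⟨k, hk⟩ := IsPGroup.iff_card.mp (hJ₁.isPGroup.to_le hY₁J)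
      have hk0 : k ≠ 0 := by
        rintro rfl
        rw [pow_zero] at hk
        exact hY₁ne ((Subgroup.card_eq_one).mp hk)
      have h1 : s₁ ∣ Nat.card Y₁ := by rw [hk]; exact dvd_pow_self s₁ hk0
      exact h1.trans (Subgroup.card_subgroup_dvd_card Y₁)
    rw [h2] at h3
    exact (Nat.not_even_iff_odd.mpr hodd) (even_iff_two_dvd.mpr h3)
  have hY₂LL : Y₂ ≤ ⁅L, L⁆ := by
    have h1 : ⁅Y₂, A⁆ ≤ ⁅L, L⁆ := Subgroup.commutator_mono le_sup_right le_sup_left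
    rwa [hY₂c] at h1
  have hcopY₂s₁ : (Nat.card ↥Y₂).Coprime s₁ := by
    obtain ⟨k, hk⟩ := IsPGroup.iff_card.mp hY₂s
    rw [hk]
    exact Nat.Coprime.pow_left k ((Nat.coprime_primes hs₂ hs₁).mpr hs.ne)
  have hcent : Y₂ ≤ centralizer (J₁' : Set G) :=
    hN s₁ hs₁2 J₁' L Y₂ hJ₁'.isPGroup
      (Cfsg.Agent.Lib.Helper17.pRankLE_of_le (hJ₁'.1.trans hθ₁θ) hθ1) hLJ₁' hLsolv hLodd hY₂LL
      hcopY₂s₁
  -- conclusion
  obtain ⟨⟨y, hy⟩, hy1⟩ := (Subgroup.ne_bot_iff_exists_ne_one).mp hY₁ne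
  have hy1' : y ≠ 1 := fun h => hy1 (Subtype.ext h)
  have hmem : c * y * c⁻¹ ∈ J₁' := by
    rw [← hcJ]; exact conj_mem_map_conj (hY₁J hy)
  have hCy := h₁.cent_le y (hY₁W hy) hy1'
  intro z hz
  have hcomm : c * y * c⁻¹ * z = z * (c * y * c⁻¹) :=
    (Subgroup.mem_centralizer_iff.mp (hcent hz)) _ hmem
  have h3 : c⁻¹ * z * c ∈ centralizer ({y} : Set G) := by
    rw [Subgroup.mem_centralizer_iff]
    intro w hw
    rw [Set.mem_singleton_iff] at hw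
    subst hw
    have e1 : w * (c⁻¹ * z * c) = c⁻¹ * (c * w * c⁻¹ * z) * c := by group
    have e2 : c⁻¹ * z * c * w = c⁻¹ * (z * (c * w * c⁻¹)) * c := by group
    rw [e1, e2, hcomm]
  have h4 : c⁻¹ * z * c ∈ H₁ := hCy h3
  have e : z = c * (c⁻¹ * z * c) * c⁻¹ := by group
  rw [e]
  exact H₁.mul_mem (H₁.mul_mem hcH₁ h4) (H₁.inv_mem hcH₁)

end Cfsg.Agent.Lib.Helper8.BG95Kill
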