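import Mathlib
import Cfsg.Prelude
import Cfsg.Agent.Lib.Helper19.BG95Spec
import Cfsg.Agent.Lib.Helper8.BG95KillC
import Cfsg.Agent.Lib.Helper17.BGTrans
import Cfsg.Agent.Lib.Helper17.BGTrans2
import Cfsg.Agent.Lib.Helper17.BGUniqC
import Cfsg.Agent.S1396

/-!
# B&G Lemma 9.5, the kill lemma (piece E), part D: assembly (modulo TOOL N)

See `notes/bg95/PROOF.md`, step 2h.
-/

set_option autoImplicit false

namespace Cfsg.Agent.Lib.Helper8.BG95Kill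

open Subgroup
open Cfsg.Agent.Lib.Helper19.BG95 (TypeII)
open Cfsg.Agent.Lib.Helper8 (IsSylIn exists_invariant_isSylIn_ge)

variable {G : Type*} [Group G]

/-- The kill lemma, assuming TOOL N: two type II maximal subgroups containing `A` coincide. -/
theorem typeII_unique_of_toolN [Finite G] (hG : Cfsg.IsMinSimpleOddOrder G) (hN : ToolN G)
    (p : ℕ) [Fact p.Prime] (P : Sylow p G) (A : Subgroup G)
    (hA : Cfsg.IsSCN (P : Subgroup G) A) (hA3 : ¬ Cfsg.PRankLE p 2 ↥A)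
    {H₁ H₂ : Subgroup G} {s₁ s₂ : ℕ} {W₁ W₂ : Subgroup G}
    (h₁ : TypeII p A H₁ s₁ W₁) (h₂ : TypeII p A H₂ s₂ W₂) : H₁ = H₂ := by
  classical
  by_contra hne
  have hodd : Odd (Nat.card G) := hG.1
  have hsimple : IsSimpleGroup G := hG.2.1
  have hnc := hG.2.2.1
  have hsolv := hG.2.2.2
  have hpp : p.Prime := Fact.out
  have hA' := hA
  obtain ⟨hAP, hPN, hCA⟩ := hA
  have hAp : IsPGroup p A := P.isPGroup'.to_le hAP
  have hAcent : A ≤ Subgroup.centralizer (A : Set G) := by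
    intro a ha
    have : a ∈ (P : Subgroup G) ⊓ Subgroup.centralizer (A : Set G) := by rw [hCA]; exact ha
    exact this.2
  have hAc : ∀ a ∈ A, ∀ b ∈ A, a * b = b * a := fun a ha b hb =>
    ((Subgroup.mem_centralizer_iff.mp (hAcent ha)) b hb).symm
  have hAcI : IsMulCommutative A := by
    refine ⟨⟨?_⟩⟩
    rintro ⟨a, ha⟩ ⟨b, hb⟩
    exact Subtype.ext (hAc a ha b hb)
  have hA1 : ¬ Cfsg.PRankLE p 1 ↥A := by
    intro h
    apply hA3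
    intro E hEc hEe
    exact (h E hEc hEe).trans (Nat.pow_le_pow_right hpp.pos (by norm_num))
  have hAne : A ≠ ⊥ := by
    intro h
    apply hA3
    intro E _ _
    have h1 : Nat.card E ≤ Nat.card A :=
      Nat.le_of_dvd Nat.card_pos (Subgroup.card_subgroup_dvd_card E)
    have h2 : Nat.card A = 1 := Subgroup.card_eq_one.mpr h
    rw [h2] at h1
    exact h1.trans (Nat.one_le_pow _ _ hpp.pos)
  obtain ⟨kA, hkA⟩ := IsPGroup.iff_card.mp hAp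
  have hkApos : 0 < kA := by
    rcases Nat.eq_zero_or_pos kA with h | h
    · exfalso
      apply hAne
      rw [← Subgroup.card_eq_one, hkA, h, pow_zero]
    · exact h
  have hpA : p ∣ Nat.card A := by rw [hkA]; exact dvd_pow_self p hkApos.ne'
  have hpG : p ∣ Nat.card G := hpA.trans (Subgroup.card_subgroup_dvd_card A)
  have hAtr : Cfsg.TransitivityHypothesis A :=
    Cfsg.Agent.S1396.result hG p hpG A hAp hAcI (Or.inr ⟨P, hA', hA1⟩)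
  have hnotdvd : ∀ s : ℕ, s.Prime → s ≠ p → ¬ s ∣ Nat.card A := by
    intro s hs hsp hdvd
    rw [hkA] at hdvd
    exact hsp ((Nat.prime_dvd_prime_iff_eq hs hpp).mp (hs.dvd_of_dvd_pow hdvd))
  haveI : Fact s₁.Prime := ⟨h₁.s_prime⟩
  haveI : Fact s₂.Prime := ⟨h₂.s_prime⟩
  -- the elementary abelian subgroup `E`
  obtain ⟨E, hEA, hEc, hEe, hEcard⟩ := Cfsg.Agent.Lib.Helper17.BGU.exists_elemAb_of_not_pRankLE hA3
  have hE : Cfsg.IsElementaryAbelian p E :=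
    ⟨⟨⟨fun a b => Subtype.ext (hEc a a.2 b b.2)⟩⟩, hEe⟩
  have hE1 : E ≠ ⊥ := by
    intro h
    rw [h, Subgroup.card_bot] at hEcard
    have := Nat.one_le_pow 2 p hpp.pos
    omega
  obtain ⟨B₁, Y₁, hB₁E, hB₁i, hY₁W, hY₁B, hAY₁, hY₁H₂, hY₁c⟩ :=
    exists_min_inv h₁ h₂ hne hAc hAp hEA hE hE1
  obtain ⟨B₂, Y₂, hB₂E, hB₂i, hY₂W, hY₂B, hAY₂, hY₂H₁, hY₂c⟩ :=
    exists_min_inv h₂ h₁ (Ne.symm hne) hAc hAp hEA hE hE1
  obtain ⟨b, hb, hb1⟩ := exists_mem_inf_ne_one hB₁E hB₂E hB₁i hB₂i hEcard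
  have hbA : b ∈ A := hEA (hB₁E hb.1)
  set C := centralizer ({b} : Set G) with hC
  have hCtop : C ≠ ⊤ := Cfsg.Agent.Lib.Helper17.centralizer_singleton_ne_top hb1 hnc
  have hCsolv : Group.IsSolvable ↥C := hsolv C hCtop
  have hAC : A ≤ C := by
    intro a ha
    rw [hC, Subgroup.mem_centralizer_iff]
    intro x hx
    rw [Set.mem_singleton_iff] at hx
    subst hx
    exact hAc x hbA a ha
  set θ := Cfsg.piCoreOf (Cfsg.primesNotDvd (Nat.card A)) C with hθ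
  have hθC : θ ≤ C := Cfsg.Agent.Lib.Helper17.piCoreOf_le C
  have hθcopA : (Nat.card A).Coprime (Nat.card ↥θ) :=
    Cfsg.Agent.Lib.Helper17.coprime_card_piCoreOf A C
  have hθcop : (Nat.card ↥θ).Coprime p :=
    (Nat.Coprime.coprime_dvd_left hpA hθcopA).symm
  have hAθ : A ≤ normalizer (θ : Set G) :=
    hAC.trans (Cfsg.Agent.Lib.Helper17.le_normalizer_piCoreOf C)
  have hY₁s : IsPGroup s₁ Y₁ := h₁.W_pgroup.to_le hY₁W
  have hY₂s : IsPGroup s₂ Y₂ := h₂.W_pgroup.to_le hY₂W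
  have hY₁C : Y₁ ≤ C := hY₁B.trans
    (Subgroup.centralizer_le (Set.singleton_subset_iff.mpr hb.1))
  have hY₂C : Y₂ ≤ C := hY₂B.trans
    (Subgroup.centralizer_le (Set.singleton_subset_iff.mpr hb.2))
  have hY₁θ : Y₁ ≤ θ := Cfsg.Agent.Lib.Helper17.le_piCoreOf_of_inv hAtr h₁.s_prime
    (hnotdvd s₁ h₁.s_prime h₁.s_ne) hCtop hAC hY₁C hY₁s hAY₁
  have hY₂θ : Y₂ ≤ θ := Cfsg.Agent.Lib.Helper17.le_piCoreOf_of_inv hAtr h₂.s_prime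
    (hnotdvd s₂ h₂.s_prime h₂.s_ne) hCtop hAC hY₂C hY₂s hAY₂
  -- the two primes differ
  have hs12 : s₁ ≠ s₂ := by
    intro h
    have hW₂ : IsPGroup s₁ W₂ := h ▸ h₂.W_pgroup
    have hle : W₂ ≤ H₁ := h₁.inv_le W₂ hW₂ h₂.W_inv
    exact hne (h₂.uniq_nc W₂ le_rfl h₂.W_nc H₁ h₁.coatom hle)
  have hAsolv : Group.IsSolvable A := isSolvable_of_le' hAC hCsolv
  obtain ⟨J₁, hJ₁, hY₁J, hAJ₁⟩ := exists_invariant_isSylIn_ge hAθ hθcopA (Or.inl hAsolv) s₁ Y₁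
    hY₁θ hY₁s hAY₁
  obtain ⟨J₂, hJ₂, hY₂J, hAJ₂⟩ := exists_invariant_isSylIn_ge hAθ hθcopA (Or.inl hAsolv) s₂ Y₂
    hY₂θ hY₂s hAY₂
  have hJ₁H : J₁ ≤ H₁ := h₁.inv_le J₁ hJ₁.isPGroup hAJ₁
  have hJ₂H : J₂ ≤ H₂ := h₂.inv_le J₂ hJ₂.isPGroup hAJ₂
  obtain ⟨M, hM, hCM⟩ := Cfsg.Agent.Lib.Helper17.BGU.exists_coatom_ge hCtop
  have hJ₁n : Cfsg.PRankLE s₁ 2 ↥J₁ := by
    by_contra hw
    have hMH := h₁.wide_uniq J₁ hJ₁.isPGroup hw hJ₁H M hM (hJ₁.1.trans (hθC.trans hCM))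
    exact hY₂H₁ (hY₂C.trans (hMH ▸ hCM))
  have hJ₂n : Cfsg.PRankLE s₂ 2 ↥J₂ := by
    by_contra hw
    have hMH := h₂.wide_uniq J₂ hJ₂.isPGroup hw hJ₂H M hM (hJ₂.1.trans (hθC.trans hCM))
    exact hY₁H₂ (hY₁C.trans (hMH ▸ hCM))
  have hθ1 : Cfsg.PRankLE s₁ 2 ↥θ := pRankLE_of_isSylIn hJ₁ hJ₁n
  have hθ2 : Cfsg.PRankLE s₂ 2 ↥θ := pRankLE_of_isSylIn hJ₂ hJ₂n
  have hY₁ne : Y₁ ≠ ⊥ := fun h => hY₁H₂ (h ▸ bot_le)
  have hY₂ne : Y₂ ≠ ⊥ := fun h => hY₂H₁ (h ▸ bot_le)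
  rcases lt_or_gt_of_ne hs12 with hlt | hgt
  · exact hY₁H₂ (kill_core hodd hN hAp h₂ hlt h₁.s_ne hCsolv hAC hθC hθcop hAθ hθ2 hθ1 hY₂W
      hY₂ne hJ₂ hY₂J hAJ₂ hY₁θ hY₁s hAY₁ hY₁c hY₁ne)
  · exact hY₂H₁ (kill_core hodd hN hAp h₁ hgt h₂.s_ne hCsolv hAC hθC hθcop hAθ hθ1 hθ2 hY₁W
      hY₁ne hJ₁ hY₁J hAJ₁ hY₂θ hY₂s hAY₂ hY₂c hY₂ne)

end Cfsg.Agent.Lib.Helper8.BG95Kill
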