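import Mathlib
import Cfsg.Prelude
import Cfsg.Agent.Lib.Helper19.BG95Spec
import Cfsg.Agent.Lib.Helper8.BG95KillD
import Cfsg.Agent.Lib.Helper2.BG95N

/-!
# B&G Lemma 9.5, the kill lemma (piece (E) of `notes/bg95/SPEC.md`)

Two type II maximal subgroups containing `A ∈ SCN_3(P)` coincide.
-/

set_option autoImplicit false

namespace Cfsg.Agent.Lib.Helper8.BG95Kill

open Cfsg.Agent.Lib.Helper19.BG95 (TypeII)

/-- TOOL N holds in every finite group (helper2, `BG95N`). -/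
theorem toolN {G : Type*} [Group G] [Finite G] : ToolN G := by
  intro r _ hr R L Y hR hrk hL hLs hLodd hY hYr
  exact Cfsg.Agent.Lib.Helper2.BG95.le_centralizer_of_le_commutator_narrow r hr R L Y hR hrk hL
    hLs hLodd hY hYr

/-- **The kill lemma** (B&G Lemma 9.5, step 2h). -/
theorem typeII_unique {G : Type*} [Group G] [Finite G] (hG : Cfsg.IsMinSimpleOddOrder G)
    (p : ℕ) [Fact p.Prime] (P : Sylow p G) (A : Subgroup G)
    (hA : Cfsg.IsSCN (P : Subgroup G) A) (hA3 : ¬ Cfsg.PRankLE p 2 ↥A)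
    {H₁ H₂ : Subgroup G} {s₁ s₂ : ℕ} {W₁ W₂ : Subgroup G}
    (h₁ : TypeII p A H₁ s₁ W₁) (h₂ : TypeII p A H₂ s₂ W₂) : H₁ = H₂ :=
  typeII_unique_of_toolN hG toolN p P A hA hA3 h₁ h₂

end Cfsg.Agent.Lib.Helper8.BG95Kill
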