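/-
helper8: B&G section 11, part 1: basic facts on σ(M), M_σ (from S1350), conjugation invariance.
-/
import Mathlib
import Cfsg.Agent.Lib.Helper8.BGEx0
import Cfsg.Agent.Lib.Helper8.SylIn
import Cfsg.Agent.S1350

set_option autoImplicit false

namespace Cfsg.Agent.Lib.Helper8.BGEx

open Cfsg Subgroup
open Cfsg.Agent.Lib.Helper8

variable {G : Type*} [Group G]

/-! ### conjugation -/

theorem normalizer_cj (g : G) (Y : Subgroup G) :
    normalizer ((cj g Y : Subgroup G) : Set G) = cj g (normalizer (Y : Set G)) :=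
  (map_equiv_normalizer_eq Y (MulAut.conj g)).symm

theorem centralizer_cj (g : G) (Y : Subgroup G) :
    centralizer ((cj g Y : Subgroup G) : Set G) = cj g (centralizer (Y : Set G)) := by
  ext x
  rw [mem_map_conj, mem_centralizer_iff, mem_centralizer_iff]
  constructor
  · intro h y hy
    have h1 := h (g * y * g⁻¹) (conj_mem_map_conj hy)
    calc y * (g⁻¹ * x * g) = g⁻¹ * ((g * y * g⁻¹) * x) * g := by group
      _ = g⁻¹ * (x * (g * y * g⁻¹)) * g := by rw [h1]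
      _ = g⁻¹ * x * g * y := by group
  · intro h z hz
    rw [SetLike.mem_coe, mem_map_conj] at hz
    have h1 := h _ hz
    calc z * x = g * ((g⁻¹ * z * g) * (g⁻¹ * x * g)) * g⁻¹ := by group
      _ = g * ((g⁻¹ * x * g) * (g⁻¹ * z * g)) * g⁻¹ := by rw [h1]
      _ = x * z := by group

theorem cj_mono {g : G} {Y Z : Subgroup G} (h : Y ≤ Z) : cj g Y ≤ cj g Z := Subgroup.map_mono h

theorem cj_inf (g : G) (Y Z : Subgroup G) : cj g (Y ⊓ Z) = cj g Y ⊓ cj g Z :=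
  Subgroup.map_inf _ _ _ (MulAut.conj g).injective

theorem cj_cj (g h : G) (Y : Subgroup G) : cj h (cj g Y) = cj (h * g) Y := map_conj_map_conj Y g h

theorem cj_one (Y : Subgroup G) : cj (1 : G) Y = Y := map_conj_one Y

theorem cj_inv_cj (g : G) (Y : Subgroup G) : cj g⁻¹ (cj g Y) = Y := by
  rw [cj_cj, inv_mul_cancel, cj_one]

theorem cj_cj_inv (g : G) (Y : Subgroup G) : cj g (cj g⁻¹ Y) = Y := by
  rw [cj_cj, mul_inv_cancel, cj_one]

theorem cj_eq_self_of_mem {g : G} {Y : Subgroup G} (hg : g ∈ Y) : cj g Y = Y :=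
  mem_normalizer_iff_map_conj.mp (le_normalizer hg)

theorem cj_eq_bot_iff {g : G} {Y : Subgroup G} : cj g Y = ⊥ ↔ Y = ⊥ :=
  Subgroup.map_eq_bot_iff_of_injective _ (MulAut.conj g).injective

theorem cj_le_cj_iff {g : G} {Y Z : Subgroup G} : cj g Y ≤ cj g Z ↔ Y ≤ Z :=
  Subgroup.map_le_map_iff_of_injective (MulAut.conj g).injective

theorem cj_injective (g : G) : Function.Injective (cj g : Subgroup G → Subgroup G) :=
  Subgroup.map_injective (MulAut.conj g).injective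

theorem cj_top (g : G) : cj g (⊤ : Subgroup G) = ⊤ := by
  ext x
  simp only [mem_map_conj, mem_top]

theorem isCoatom_cj {M : Subgroup G} (hM : IsCoatom M) (g : G) : IsCoatom (cj g M) := by
  constructor
  · intro h
    apply hM.1
    have : cj g M = cj g ⊤ := by rw [h, cj_top]
    exact cj_injective g this
  · intro Z hZ
    have h1 : M < cj g⁻¹ Z := by
      have := (cj_le_cj_iff (g := g⁻¹)).2 hZ.le
      rw [cj_inv_cj] at this
      refine lt_of_le_of_ne this ?_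
      intro h
      apply hZ.ne
      rw [h, cj_cj_inv]
    have h2 := hM.2 _ h1
    have h3 : cj g (cj g⁻¹ Z) = cj g ⊤ := by rw [h2]
    rw [cj_cj_inv] at h3
    rw [h3, cj_top]

/-! ### `IsSylIn` and conjugation -/

theorem isSylIn_cj {q : ℕ} {S L : Subgroup G} (h : IsSylIn q S L) (g : G) :
    IsSylIn q (cj g S) (cj g L) :=
  ⟨cj_mono h.1, by rw [card_map_conj, card_map_conj]; exact h.2⟩

/-- Sylow's theorem for `IsSylIn`: two Sylow `q`-subgroups of `L` are conjugate by an element of `L`. -/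
theorem isSylIn_exists_conj [Finite G] {q : ℕ} [Fact q.Prime] {S T L : Subgroup G} (hS : IsSylIn q S L)
    (hT : IsSylIn q T L) : ∃ m ∈ L, T = cj m S := by
  obtain ⟨m, hm⟩ := MulAction.exists_smul_eq ↥L hS.toSylow hT.toSylow
  refine ⟨(m : G), m.2, ?_⟩
  have hm' : MulAut.conj m • hS.toSylow = hT.toSylow := hm
  have h3 := map_subtype_smul_sylow m hS.toSylow
  rw [hm', hT.toSylow_map, hS.toSylow_map] at h3
  exact h3

/-- a `q`-subgroup of `L` lies in a Sylow `q`-subgroup of `L`. -/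
theorem exists_isSylIn_ge [Finite G] {q : ℕ} [Fact q.Prime] {U L : Subgroup G} (hU : IsPGroup q U)
    (hUL : U ≤ L) : ∃ S, IsSylIn q S L ∧ U ≤ S := by
  have hU' : IsPGroup q ↥(U.subgroupOf L) := hU.comap_subtype
  obtain ⟨Q, hQ⟩ := hU'.exists_le_sylow
  refine ⟨_, sylow_map_subtype_isSylIn Q, ?_⟩
  intro u hu
  exact ⟨⟨u, hUL hu⟩, hQ (Subgroup.mem_subgroupOf.mpr hu), rfl⟩

/-! ### σ(M) via `IsSylIn` -/

theorem mem_sigma_iff [Finite G] {M : Subgroup G} {p : ℕ} [Fact p.Prime] :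
    p ∈ Cfsg.sigma M ↔ p ∣ Nat.card M ∧ ∃ S, IsSylIn p S M ∧ normalizer (S : Set G) ≤ M := by
  constructor
  · rintro ⟨-, hdvd, P, hP⟩
    exact ⟨hdvd, _, sylow_map_subtype_isSylIn P, hP⟩
  · rintro ⟨hdvd, S, hS, hN⟩
    refine ⟨Fact.out, hdvd, hS.toSylow, ?_⟩
    rw [hS.toSylow_map]; exact hN

theorem sigma_cj [Finite G] (g : G) (M : Subgroup G) : Cfsg.sigma (cj g M) = Cfsg.sigma M := by
  have key : ∀ (g : G) (M : Subgroup G), Cfsg.sigma M ⊆ Cfsg.sigma (cj g M) := by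
    intro g M p hp
    haveI : Fact p.Prime := ⟨hp.1⟩
    rw [mem_sigma_iff] at hp ⊢
    obtain ⟨hdvd, S, hS, hN⟩ := hp
    refine ⟨by rw [card_map_conj]; exact hdvd, cj g S, isSylIn_cj hS g, ?_⟩
    rw [normalizer_cj]; exact cj_mono hN
  apply Set.Subset.antisymm
  · have := key g⁻¹ (cj g M)
    rwa [cj_inv_cj] at this
  · exact key g M

/-- all Sylow `p`-subgroups of `M` have normalizer in `M` when `p ∈ σ(M)`. -/
theorem normalizer_le_of_mem_sigma [Finite G] {M : Subgroup G} {p : ℕ} [Fact p.Prime]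
    (hp : p ∈ Cfsg.sigma M) {S : Subgroup G} (hS : IsSylIn p S M) : normalizer (S : Set G) ≤ M := by
  obtain ⟨-, T, hT, hN⟩ := mem_sigma_iff.1 hp
  obtain ⟨m, hm, rfl⟩ := isSylIn_exists_conj hT hS
  rw [normalizer_cj]
  calc cj m (normalizer (T : Set G)) ≤ cj m M := cj_mono hN
    _ = M := cj_eq_self_of_mem hm

theorem not_mem_sigma_iff [Finite G] {M : Subgroup G} {p : ℕ} [Fact p.Prime] (hdvd : p ∣ Nat.card M) :
    p ∉ Cfsg.sigma M ↔ ∀ S, IsSylIn p S M → ¬ normalizer (S : Set G) ≤ M := by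
  constructor
  · intro h S hS hN
    exact h (mem_sigma_iff.2 ⟨hdvd, S, hS, hN⟩)
  · intro h hp
    obtain ⟨-, S, hS, hN⟩ := mem_sigma_iff.1 hp
    exact h S hS hN

/-! ### normal Hall subgroups -/

/-- If `N ≤ L` has `q ∤ |L : N|`, a Sylow `q`-subgroup of `N` is a Sylow `q`-subgroup of `L`. -/
theorem isSylIn_of_not_dvd_relIndex [Finite G] {q : ℕ} [Fact q.Prime] {S N L : Subgroup G}
    (hS : IsSylIn q S N) (hNL : N ≤ L) (hq : ¬ q ∣ N.relIndex L) : IsSylIn q S L := by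
  refine ⟨hS.1.trans hNL, ?_⟩
  rw [hS.2]
  congr 1
  have h1 : Nat.card L = N.relIndex L * Nat.card N := by
    have := (N.subgroupOf L).card_mul_index
    rw [Cfsg.Agent.Lib.Helper1.card_subgroupOf_of_le hNL] at this
    rw [← this, mul_comm]; rfl
  have hN0 : Nat.card N ≠ 0 := Nat.card_pos.ne'
  have hr0 : N.relIndex L ≠ 0 := by
    intro h; rw [h, zero_mul] at h1; exact Nat.card_pos.ne' h1
  rw [h1, Nat.factorization_mul hr0 hN0, Finsupp.add_apply,
    Nat.factorization_eq_zero_of_not_dvd hq, zero_add]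

/-- A `q`-subgroup of `L` lies in the normal subgroup `N` of `L` when `q ∤ |L : N|`. -/
theorem le_of_normal_of_not_dvd_relIndex [Finite G] {q : ℕ} [Fact q.Prime] {Y N L : Subgroup G}
    (hNL : N ≤ L) (hLN : L ≤ normalizer (N : Set G)) (hq : ¬ q ∣ N.relIndex L)
    (hY : IsPGroup q Y) (hYL : Y ≤ L) : Y ≤ N := by
  obtain ⟨S₀, hS₀, -⟩ := exists_isSylIn_ge (IsPGroup.of_bot (p := q) (G := G)) (bot_le : (⊥ : Subgroup G) ≤ N)
  have hS₀L := isSylIn_of_not_dvd_relIndex hS₀ hNL hq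
  obtain ⟨T, hT, hYT⟩ := exists_isSylIn_ge hY hYL
  obtain ⟨m, hm, rfl⟩ := isSylIn_exists_conj hS₀L hT
  refine hYT.trans ?_
  calc cj m S₀ ≤ cj m N := cj_mono hS₀.1
    _ = N := mem_normalizer_iff_map_conj.mp (hLN hm)

/-! ### `M_σ` -/

theorem sigmaCore_le (M : Subgroup G) : Cfsg.sigmaCore M ≤ M := Subgroup.map_subtype_le _

theorem le_normalizer_sigmaCore (M : Subgroup G) : M ≤ normalizer (Cfsg.sigmaCore M : Set G) := by
  intro m hm
  rw [mem_normalizer_iff_map_conj]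
  ext x
  rw [mem_map_conj]
  unfold Cfsg.sigmaCore
  constructor
  · rintro ⟨y, hy, hyx⟩
    have hN : (Cfsg.piCore (Cfsg.sigma M) ↥M).Normal := inferInstance
    refine ⟨(⟨m, hm⟩ : M) * y * (⟨m, hm⟩ : M)⁻¹, hN.conj_mem y hy _, ?_⟩
    simp only [Subgroup.coe_subtype, Subgroup.coe_mul, Subgroup.coe_inv] at hyx ⊢
    rw [hyx]; group
  · rintro ⟨y, hy, rfl⟩
    have hN : (Cfsg.piCore (Cfsg.sigma M) ↥M).Normal := inferInstance
    refine ⟨(⟨m, hm⟩ : M)⁻¹ * y * (⟨m, hm⟩ : M)⁻¹⁻¹, hN.conj_mem y hy _, ?_⟩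
    simp only [Subgroup.coe_subtype, Subgroup.coe_mul, Subgroup.coe_inv, inv_inv]

section minsimple

variable [Finite G] (hG : Cfsg.IsMinSimpleOddOrder G) {M : Subgroup G} (hM : IsCoatom M)
include hG hM

theorem sigmaCore_not_dvd_relIndex {q : ℕ} (hq : q ∈ Cfsg.sigma M) :
    ¬ q ∣ (Cfsg.sigmaCore M).relIndex M :=
  (Cfsg.Agent.S1350.result hG M hM).1.2.2 q hq.1 hq

theorem sigmaCore_not_dvd_index {q : ℕ} (hq : q ∈ Cfsg.sigma M) :
    ¬ q ∣ (Cfsg.sigmaCore M).index :=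
  (Cfsg.Agent.S1350.result hG M hM).2.1.2 q hq.1 hq

theorem mem_sigma_of_dvd_card_sigmaCore {q : ℕ} (hq : q.Prime) (h : q ∣ Nat.card (Cfsg.sigmaCore M)) :
    q ∈ Cfsg.sigma M :=
  (Cfsg.Agent.S1350.result hG M hM).1.2.1 q hq h

/-- `q`-subgroups of `M` lie in `M_σ` for `q ∈ σ(M)`. -/
theorem le_sigmaCore {q : ℕ} [Fact q.Prime] (hq : q ∈ Cfsg.sigma M) {Y : Subgroup G} (hY : IsPGroup q Y)
    (hYM : Y ≤ M) : Y ≤ Cfsg.sigmaCore M :=
  le_of_normal_of_not_dvd_relIndex (sigmaCore_le M) (le_normalizer_sigmaCore M)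
    (sigmaCore_not_dvd_relIndex hG hM hq) hY hYM

/-- A Sylow `q`-subgroup of `M_σ` is a Sylow `q`-subgroup of `M`. -/
theorem isSylIn_of_sigmaCore {q : ℕ} [Fact q.Prime] (hq : q ∈ Cfsg.sigma M) {S : Subgroup G}
    (hS : IsSylIn q S (Cfsg.sigmaCore M)) : IsSylIn q S M :=
  isSylIn_of_not_dvd_relIndex hS (sigmaCore_le M) (sigmaCore_not_dvd_relIndex hG hM hq)

/-- A Sylow `q`-subgroup of `M_σ` is a Sylow `q`-subgroup of `G`. -/
theorem isSylIn_top_of_sigmaCore {q : ℕ} [Fact q.Prime] (hq : q ∈ Cfsg.sigma M) {S : Subgroup G}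
    (hS : IsSylIn q S (Cfsg.sigmaCore M)) : IsSylIn q S ⊤ := by
  apply isSylIn_of_not_dvd_relIndex hS le_top
  rw [Subgroup.relIndex_top_right]
  exact sigmaCore_not_dvd_index hG hM hq

/-- A Sylow `q`-subgroup of `M_σ` (`q ∈ σ(M)`) has its normalizer inside `M`. -/
theorem normalizer_le_of_isSylIn_sigmaCore {q : ℕ} [Fact q.Prime] (hq : q ∈ Cfsg.sigma M) {S : Subgroup G}
    (hS : IsSylIn q S (Cfsg.sigmaCore M)) : normalizer (S : Set G) ≤ M :=
  normalizer_le_of_mem_sigma hq (isSylIn_of_sigmaCore hG hM hq hS)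

end minsimple

end Cfsg.Agent.Lib.Helper8.BGEx
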