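/-
helper8: B&G section 11, part 2: first consequences of Hypothesis 11.1 (`Exc`): rank, maximality of `A`,
transitivity hypothesis, `C_G(A) ≤ M`.
-/
import Mathlib
import Cfsg.Agent.Lib.Helper8.BGEx1
import Cfsg.Agent.S1396
import Cfsg.Agent.S1408
import Cfsg.Agent.S1409
import Cfsg.Agent.S1410

set_option autoImplicit false

namespace Cfsg.Agent.Lib.Helper8.BGEx

open Cfsg Subgroup
open Cfsg.Agent.Lib.Helper8

variable {G : Type*} [Group G]

/-! ### elementary abelian subgroups -/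

theorem elemAb_sup_zpowers {p : ℕ} {A : Subgroup G} (hA : Cfsg.IsElementaryAbelian p A) {x : G}
    (hx : x ∈ centralizer (A : Set G)) (hxp : x ^ p = 1) :
    Cfsg.IsElementaryAbelian p (A ⊔ zpowers x) := by
  have hAc : ∀ a ∈ A, ∀ b ∈ A, a * b = b * a := fun a ha b hb => by
    have := hA.1.is_comm.comm ⟨a, ha⟩ ⟨b, hb⟩
    exact congrArg Subtype.val this
  have hAA : A ≤ centralizer (A : Set G) := fun a ha => by
    rw [mem_centralizer_iff]; intro b hb; exact hAc b hb a ha
  have hZA : zpowers x ≤ centralizer (A : Set G) := by rw [zpowers_le]; exact hx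
  have hAZ : A ≤ centralizer ((zpowers x : Subgroup G) : Set G) := le_centralizer_iff.mp hZA
  have hZZ : zpowers x ≤ centralizer ((zpowers x : Subgroup G) : Set G) := by
    rw [zpowers_le, mem_centralizer_iff]
    intro y hy
    obtain ⟨k, rfl⟩ := mem_zpowers_iff.mp hy
    exact (Commute.zpow_self x k).eq
  have hB1 : A ⊔ zpowers x ≤ centralizer (A : Set G) := sup_le hAA hZA
  have hB2 : A ⊔ zpowers x ≤ centralizer ((zpowers x : Subgroup G) : Set G) := sup_le hAZ hZZ
  have hBB : A ⊔ zpowers x ≤ centralizer ((A ⊔ zpowers x : Subgroup G) : Set G) :=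
    sup_le (le_centralizer_iff.mp hB1) (le_centralizer_iff.mp hB2)
  have hcomm : ∀ a ∈ A ⊔ zpowers x, ∀ b ∈ A ⊔ zpowers x, a * b = b * a := fun a ha b hb =>
    ((mem_centralizer_iff.mp (hBB hb)) a ha)
  refine ⟨⟨⟨fun a b => Subtype.ext (hcomm a a.2 b b.2)⟩⟩, ?_⟩
  intro b hb
  rw [sup_eq_closure] at hb
  have hmem : ∀ y ∈ ((A : Set G) ∪ (zpowers x : Set G)), y ∈ A ⊔ zpowers x ∧ y ^ p = 1 := by
    rintro y (ha | hz)
    · exact ⟨le_sup_left (a := A) ha, hA.2 y ha⟩
    · refine ⟨le_sup_right (b := zpowers x) hz, ?_⟩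
      obtain ⟨k, rfl⟩ := mem_zpowers_iff.mp hz
      rw [← zpow_natCast, ← zpow_mul, mul_comm, zpow_mul, zpow_natCast, hxp, one_zpow]
  have key : ∀ y ∈ closure ((A : Set G) ∪ (zpowers x : Set G)), y ∈ A ⊔ zpowers x ∧ y ^ p = 1 := by
    intro y hy
    induction hy using closure_induction with
    | mem y hy => exact hmem y hy
    | one => exact ⟨one_mem _, one_pow _⟩
    | mul y z _ _ ihy ihz =>
      refine ⟨mul_mem ihy.1 ihz.1, ?_⟩
      have hc : Commute y z := hcomm y ihy.1 z ihz.1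
      rw [hc.mul_pow, ihy.2, ihz.2, one_mul]
    | inv y _ ihy => exact ⟨inv_mem ihy.1, by rw [inv_pow, ihy.2, inv_one]⟩
  exact (key b hb).2

/-! ### first consequences of Hypothesis 11.1 -/

section exc

variable [Finite G] {M : Subgroup G} {p : ℕ} {A A₀ : Subgroup G}

theorem Exc.fact (h : Exc M p A A₀) : Fact p.Prime := ⟨h.prime⟩

theorem Exc.isPGroup (h : Exc M p A A₀) : IsPGroup p A := by
  haveI := h.fact
  exact IsPGroup.of_card h.card

theorem Exc.le₀M (h : Exc M p A A₀) : A₀ ≤ M := h.le₀.trans h.le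

theorem Exc.dvd_card (h : Exc M p A A₀) : p ∣ Nat.card M := by
  have h1 : Nat.card A ∣ Nat.card M := Subgroup.card_dvd_of_le h.le
  rw [h.card] at h1
  exact (dvd_pow_self p two_ne_zero).trans h1

theorem Exc.dvd_card_top (h : Exc M p A A₀) : p ∣ Nat.card G :=
  h.dvd_card.trans (Subgroup.card_subgroup_dvd_card M)

theorem Exc.comm (h : Exc M p A A₀) : ∀ a ∈ A, ∀ b ∈ A, a * b = b * a := fun a ha b hb => by
  have := h.elem.1.is_comm.comm ⟨a, ha⟩ ⟨b, hb⟩
  exact congrArg Subtype.val this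

theorem Exc.le_centralizer (h : Exc M p A A₀) : A ≤ centralizer (A : Set G) := fun a ha => by
  rw [mem_centralizer_iff]; intro b hb; exact h.comm b hb a ha

theorem Exc.ne_bot (h : Exc M p A A₀) : A ≠ ⊥ := by
  intro hb
  have := h.card
  rw [hb, Subgroup.card_bot] at this
  have := h.prime.one_lt
  nlinarith [pow_le_pow_left₀ (Nat.zero_le _) this.le 2]

theorem Exc.ne_bot₀ (h : Exc M p A A₀) : A₀ ≠ ⊥ := by
  intro hb
  have := h.card₀
  rw [hb, Subgroup.card_bot] at this
  exact h.prime.one_lt.ne this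

variable (hG : Cfsg.IsMinSimpleOddOrder G)
include hG

theorem Exc.rank (h : Exc M p A A₀) : Cfsg.PRankLE p 2 M ∧ ¬ Cfsg.PRankLE p 1 M := by
  haveI := h.fact
  exact (Cfsg.Agent.S1409.result hG M h.coatom p h.not_sigma A₀ h.card₀ h.norm₀).1

theorem Exc.not_ideal (h : Exc M p A A₀) : ¬ Cfsg.IsIdealPrime p G := by
  haveI := h.fact
  exact (Cfsg.Agent.S1409.result hG M h.coatom p h.not_sigma A₀ h.card₀ h.norm₀).2.1

theorem Exc.maxElem (h : Exc M p A A₀) :
    ∀ B : Subgroup G, Cfsg.IsElementaryAbelian p B → A ≤ B → B = A := by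
  haveI := h.fact
  have hr := h.rank hG
  exact (Cfsg.Agent.S1408.result hG M h.coatom p h.not_sigma hr.1 hr.2).2 A h.le h.elem h.card

theorem Exc.mem_of_pow_eq_one (h : Exc M p A A₀) :
    ∀ x ∈ centralizer (A : Set G), x ^ p = 1 → x ∈ A := by
  intro x hx hxp
  have h1 := h.maxElem hG _ (elemAb_sup_zpowers h.elem hx hxp) le_sup_left
  rw [← h1]
  exact le_sup_right (a := A) (mem_zpowers x)

theorem Exc.transHyp (h : Exc M p A A₀) : Cfsg.TransitivityHypothesis A := by
  haveI := h.fact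
  refine Cfsg.Agent.S1396.result hG p h.dvd_card_top A h.isPGroup h.elem.1 (Or.inl ⟨?_, ?_⟩)
  · intro x hx
    exact ⟨h.mem_of_pow_eq_one hG x hx, h.elem.2 x⟩
  · intro H hH
    exact Cfsg.Agent.S1410.result hG p H hH

omit hG in
theorem Exc.centralizer_le (h : Exc M p A A₀) : centralizer (A : Set G) ≤ M :=
  (Subgroup.centralizer_le h.le₀).trans ((Subgroup.centralizer_le_normalizer _).trans h.norm₀)

end exc

end Cfsg.Agent.Lib.Helper8.BGEx
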