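/-
helper8: B&G section 11, part 3: Lemmas 11.1, 11.2, the fixed point lemma, Theorem 11.3 (M_σ nilpotent),
C_G(A) is a σ(M)'-group (11.6(b)), and the weak form of 11.4.
-/
import Mathlib
import Cfsg.Agent.Lib.Helper8.BGEx2
import Cfsg.Agent.Lib.Helper17.BGTrans
import Cfsg.Agent.Lib.Helper1.BGX3
import Cfsg.Agent.Lib.Helper2.BGCorA
import Cfsg.Agent.S1394
import Cfsg.Agent.S1404

set_option autoImplicit false

namespace Cfsg.Agent.Lib.Helper8.BGEx

open Cfsg Subgroup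
open Cfsg.Agent.Lib.Helper8
open Cfsg.Agent.Lib.Helper17 (KConj bgK kconj_of_inf_ne_bot kconj_of_common_proper mem_invq_iff
  bgK_le_centralizer)

variable {G : Type*} [Group G]

/-! ### generalities -/

theorem centralizer_ne_top [Finite G] (hG : Cfsg.IsMinSimpleOddOrder G) {B : Subgroup G} (hB : B ≠ ⊥) :
    centralizer (B : Set G) ≠ ⊤ := by
  intro h
  haveI := hG.2.1
  have hBc : B ≤ center G := by
    intro b hb
    rw [mem_center_iff]
    intro g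
    have hg : g ∈ centralizer (B : Set G) := by rw [h]; exact mem_top g
    exact (mem_centralizer_iff.mp hg b hb).symm
  rcases (inferInstance : (center G).Normal).eq_bot_or_eq_top with h1 | h1
  · exact hB (le_bot_iff.mp (h1 ▸ hBc))
  · apply hG.2.2.1
    refine ⟨⟨fun a b => ?_⟩⟩
    have ha : a ∈ center G := by rw [h1]; exact mem_top a
    exact (mem_center_iff.mp ha b).symm

theorem normalizer_ne_top [Finite G] (hG : Cfsg.IsMinSimpleOddOrder G) {B : Subgroup G} (hB : B ≠ ⊥)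
    (hB' : B ≠ ⊤) : normalizer (B : Set G) ≠ ⊤ := by
  intro h
  haveI := hG.2.1
  haveI : B.Normal := normalizer_eq_top_iff.mp h
  rcases (inferInstance : B.Normal).eq_bot_or_eq_top with h1 | h1
  · exact hB h1
  · exact hB' h1

/-- A coatom is self-normalizing... more generally, a nontrivial normal subgroup of a coatom `M` has
normalizer `M`. -/
theorem normalizer_eq_of_coatom [Finite G] (hG : Cfsg.IsMinSimpleOddOrder G) {M : Subgroup G}
    (hM : IsCoatom M) {B : Subgroup G} (hB : B ≠ ⊥) (hBM : B ≤ M) (hMB : M ≤ normalizer (B : Set G)) :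
    normalizer (B : Set G) = M := by
  rcases eq_or_lt_of_le hMB with h | h
  · exact h.symm
  · exfalso
    exact normalizer_ne_top hG hB (fun hT => hM.1 (top_le_iff.mp (hT ▸ hBM))) (hM.2 _ h)

theorem isSylIn_ne_bot [Finite G] {q : ℕ} [Fact q.Prime] {S L : Subgroup G} (hS : IsSylIn q S L)
    (hq : q ∣ Nat.card L) : S ≠ ⊥ := by
  intro h
  have h1 := hS.2
  rw [h, Subgroup.card_bot] at h1
  have hq' : q.Prime := Fact.out
  have h2 : 1 ≤ (Nat.card L).factorization q :=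
    (hq'.dvd_iff_one_le_factorization Nat.card_pos.ne').mp hq
  have h3 : q ^ 1 ≤ q ^ (Nat.card L).factorization q := Nat.pow_le_pow_right hq'.pos h2
  rw [← h1, pow_one] at h3
  exact absurd hq'.one_lt (not_lt.mpr h3)

/-- An `A`-invariant Sylow `q`-subgroup of `G` is a maximal `A`-invariant `q`-subgroup. -/
theorem mem_maxInv_of_isSylIn_top [Finite G] {q : ℕ} [Fact q.Prime] {A S : Subgroup G}
    (hS : IsSylIn q S ⊤) (hAS : A ≤ normalizer (S : Set G)) :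
    S ∈ Cfsg.maxInvSubgroups ⊤ A {q} := by
  have hq : q.Prime := Fact.out
  refine ⟨(mem_invq_iff hq).2 ⟨hS.isPGroup, hAS⟩, ?_⟩
  intro R hR hSR
  exact hS.eq_of_le ((mem_invq_iff hq).1 hR).1 hSR le_top

/-- a subgroup of prime order is generated by any of its non-identity elements. -/
theorem exists_generator_of_card_prime [Finite G] {p : ℕ} (hp : p.Prime) {X : Subgroup G}
    (hX : Nat.card X = p) : ∃ x ∈ X, x ≠ 1 ∧ x ^ p = 1 ∧ X = zpowers x := by
  haveI : Fact p.Prime := ⟨hp⟩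
  have hne : X ≠ ⊥ := by
    intro h; rw [h, Subgroup.card_bot] at hX; exact hp.one_lt.ne hX
  obtain ⟨x, hx, hx1⟩ := X.bot_or_exists_ne_one.resolve_left hne
  refine ⟨x, hx, hx1, ?_, ?_⟩
  · have h1 : (⟨x, hx⟩ : X) ^ Nat.card X = 1 := pow_card_eq_one'
    rw [hX] at h1
    exact congrArg Subtype.val h1
  · have h1 : zpowers (⟨x, hx⟩ : X) = ⊤ :=
      zpowers_eq_top_of_prime_card hX (fun h => hx1 (congrArg Subtype.val h))
    apply le_antisymm
    · intro y hy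
      have h2 : (⟨y, hy⟩ : X) ∈ zpowers (⟨x, hx⟩ : X) := by rw [h1]; exact mem_top _
      obtain ⟨k, hk⟩ := mem_zpowers_iff.mp h2
      rw [mem_zpowers_iff]
      exact ⟨k, by simpa using congrArg Subtype.val hk⟩
    · rw [zpowers_le]; exact hx

theorem le_normalizer_inf {A X Y : Subgroup G} (hX : A ≤ normalizer (X : Set G))
    (hY : A ≤ normalizer (Y : Set G)) : A ≤ normalizer ((X ⊓ Y : Subgroup G) : Set G) := by
  intro a ha
  rw [mem_normalizer_iff_map_conj, Subgroup.map_inf _ _ _ (MulAut.conj a).injective,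
    mem_normalizer_iff_map_conj.1 (hX ha), mem_normalizer_iff_map_conj.1 (hY ha)]

theorem le_normalizer_bot (A : Subgroup G) : A ≤ normalizer (((⊥ : Subgroup G)) : Set G) := by
  intro a _
  rw [mem_normalizer_iff_map_conj]
  exact Subgroup.map_bot _

theorem exists_prime_dvd_card_of_ne_bot [Finite G] {D : Subgroup G} (hD : D ≠ ⊥) :
    ∃ q : ℕ, q.Prime ∧ q ∣ Nat.card D := by
  apply Nat.exists_prime_and_dvd
  intro h1
  exact hD (Subgroup.card_eq_one.mp h1)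

/-- `A` normalizes `C_G(B)` when it normalizes `B`. -/
theorem le_normalizer_centralizer {A B : Subgroup G} (h : A ≤ normalizer (B : Set G)) :
    A ≤ normalizer ((centralizer (B : Set G) : Subgroup G) : Set G) := by
  intro a ha
  rw [mem_normalizer_iff_map_conj]
  have := centralizer_cj a B
  rw [show cj a B = B from mem_normalizer_iff_map_conj.1 (h ha)] at this
  exact this.symm

/-! ### `M_σ` again -/

section minsimple

variable [Finite G] (hG : Cfsg.IsMinSimpleOddOrder G) {M : Subgroup G} (hM : IsCoatom M)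
include hG hM

theorem dvd_card_sigmaCore {q : ℕ} (hq : q ∈ Cfsg.sigma M) : q ∣ Nat.card (Cfsg.sigmaCore M) := by
  have h1 : Nat.card M = (Cfsg.sigmaCore M).relIndex M * Nat.card (Cfsg.sigmaCore M) := by
    have := ((Cfsg.sigmaCore M).subgroupOf M).card_mul_index
    rw [Cfsg.Agent.Lib.Helper1.card_subgroupOf_of_le (sigmaCore_le M)] at this
    rw [← this, mul_comm]; rfl
  have h2 : q ∣ (Cfsg.sigmaCore M).relIndex M * Nat.card (Cfsg.sigmaCore M) := h1 ▸ hq.2.1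
  rcases (Nat.Prime.dvd_mul hq.1).mp h2 with h | h
  · exact absurd h (sigmaCore_not_dvd_relIndex hG hM hq)
  · exact h

end minsimple

/-! ### Hypothesis 11.1: invariance and coprimality -/

section exc

variable [Finite G] {M : Subgroup G} {p : ℕ} {A A₀ : Subgroup G}

theorem Exc.le_norm_sigmaCore (h : Exc M p A A₀) : A ≤ normalizer (Cfsg.sigmaCore M : Set G) :=
  h.le.trans (BGEx.le_normalizer_sigmaCore M)

theorem Exc.le_norm_cj_sigmaCore (h : Exc M p A A₀) {x : G} (hA : A ≤ cj x M) :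
    A ≤ normalizer ((cj x (Cfsg.sigmaCore M) : Subgroup G) : Set G) := by
  rw [normalizer_cj]
  exact hA.trans (cj_mono (BGEx.le_normalizer_sigmaCore M))

theorem Exc.solvable (h : Exc M p A A₀) : Group.IsSolvable A := by
  haveI : IsMulCommutative A := h.elem.1
  have : ∀ a b : A, a * b = b * a := fun a b => h.elem.1.is_comm.comm a b
  exact isSolvable_of_comm this

variable (hG : Cfsg.IsMinSimpleOddOrder G)
include hG

theorem Exc.not_dvd_card_sigmaCore (h : Exc M p A A₀) : ¬ p ∣ Nat.card (Cfsg.sigmaCore M) :=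
  fun hd => h.not_sigma (mem_sigma_of_dvd_card_sigmaCore hG h.coatom h.prime hd)

theorem Exc.coprime_sigmaCore (h : Exc M p A A₀) :
    (Nat.card A).Coprime (Nat.card (Cfsg.sigmaCore M)) := by
  rw [h.card]
  exact Nat.Coprime.pow_left 2 ((Nat.Prime.coprime_iff_not_dvd h.prime).mpr (h.not_dvd_card_sigmaCore hG))

theorem Exc.ne_of_mem_sigma (h : Exc M p A A₀) {q : ℕ} (hq : q ∈ Cfsg.sigma M) : q ≠ p :=
  fun e => h.not_sigma (e ▸ hq)

theorem Exc.not_dvd_card_of_mem_sigma (h : Exc M p A A₀) {q : ℕ} (hq : q ∈ Cfsg.sigma M) :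
    ¬ q ∣ Nat.card A := by
  rw [h.card]
  intro hd
  exact h.ne_of_mem_sigma hG hq ((Nat.prime_dvd_prime_iff_eq hq.1 h.prime).mp (hq.1.dvd_of_dvd_pow hd))

theorem Exc.bgK_le (h : Exc M p A A₀) : bgK A ≤ M := (bgK_le_centralizer A).trans h.centralizer_le

/-- **Core of 11.1**: an `A`-invariant Sylow `q`-subgroup of `M_σ` and one of `x M_σ x⁻¹` (`x ∉ M`) are never
conjugate under `K = O_{p'}(C_G(A))`. -/
theorem Exc.not_kconj (h : Exc M p A A₀) {x : G} (hx : x ∉ M) {q : ℕ} [Fact q.Prime]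
    (hq : q ∈ Cfsg.sigma M) {Q₁ Q₂ : Subgroup G} (hQ₁ : IsSylIn q Q₁ (Cfsg.sigmaCore M))
    (hQ₂ : IsSylIn q Q₂ (cj x (Cfsg.sigmaCore M))) : ¬ KConj A Q₁ Q₂ := by
  rintro ⟨k, hk, hkQ⟩
  have hkM : k ∈ M := h.bgK_le hG hk
  -- `Q₂ = k Q₁ k⁻¹` is a Sylow `q`-subgroup of `M_σ`
  have hQ₂' : IsSylIn q Q₂ (Cfsg.sigmaCore M) := by
    have := isSylIn_cj hQ₁ k
    rw [show cj k Q₁ = Q₂ from hkQ.symm, show cj k (Cfsg.sigmaCore M) = Cfsg.sigmaCore M from
      mem_normalizer_iff_map_conj.mp (BGEx.le_normalizer_sigmaCore M hkM)] at this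
    exact this
  have hN : normalizer (Q₂ : Set G) ≤ M := normalizer_le_of_isSylIn_sigmaCore hG h.coatom hq hQ₂'
  have hQ₂M : Q₂ ≤ M := hQ₂'.1.trans (sigmaCore_le M)
  have hQ₂1 : Q₂ ≠ ⊥ := isSylIn_ne_bot hQ₂' (dvd_card_sigmaCore hG h.coatom hq)
  have hconj : Q₂.map (MulAut.conj x⁻¹).toMonoidHom ≤ M := by
    have h1 : cj x⁻¹ Q₂ ≤ cj x⁻¹ (cj x (Cfsg.sigmaCore M)) := cj_mono hQ₂.1
    rw [cj_inv_cj] at h1
    exact h1.trans (sigmaCore_le M)
  obtain ⟨m, hm, c, hc, hmc⟩ :=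
    (Cfsg.Agent.S1404.result hG M h.coatom q hq Q₂ hQ₂'.isPGroup hQ₂1 hQ₂M).1 x⁻¹ hconj
  have hcM : c ∈ M := hN (centralizer_le_normalizer _ hc)
  apply hx
  have : x = (m * c)⁻¹ := by rw [← hmc, inv_inv]
  rw [this]
  exact M.inv_mem (M.mul_mem hm hcM)

/-- **Lemma 11.1(a)**. -/
theorem Exc.inf_eq_bot (h : Exc M p A A₀) {x : G} (hx : x ∉ M) {q : ℕ} [Fact q.Prime]
    (hq : q ∈ Cfsg.sigma M) {Q₁ Q₂ : Subgroup G} (hQ₁ : IsSylIn q Q₁ (Cfsg.sigmaCore M))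
    (hAQ₁ : A ≤ normalizer (Q₁ : Set G)) (hQ₂ : IsSylIn q Q₂ (cj x (Cfsg.sigmaCore M)))
    (hAQ₂ : A ≤ normalizer (Q₂ : Set G)) : Q₁ ⊓ Q₂ = ⊥ := by
  by_contra hne
  haveI := hG.2.1
  have h1 : Q₁ ∈ Cfsg.maxInvSubgroups ⊤ A {q} :=
    mem_maxInv_of_isSylIn_top (isSylIn_top_of_sigmaCore hG h.coatom hq hQ₁) hAQ₁
  have h2 : Q₂ ∈ Cfsg.maxInvSubgroups ⊤ A {q} := by
    apply mem_maxInv_of_isSylIn_top _ hAQ₂
    have h3 : IsSylIn q (cj x⁻¹ Q₂) (Cfsg.sigmaCore M) := by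
      have := isSylIn_cj hQ₂ x⁻¹
      rwa [cj_inv_cj] at this
    have h4 := isSylIn_cj (isSylIn_top_of_sigmaCore hG h.coatom hq h3) x
    rwa [cj_cj_inv, cj_top] at h4
  exact h.not_kconj hG hx hq hQ₁ hQ₂
    (kconj_of_inf_ne_bot hG.2.2.2 (h.transHyp hG) hq.1 (h.not_dvd_card_of_mem_sigma hG hq) h1 h2 hne)

/-- **Lemma 11.1(b)**. -/
theorem Exc.centralizer_inf_eq_bot (h : Exc M p A A₀) {x : G} (hx : x ∉ M) {q : ℕ} [Fact q.Prime]
    (hq : q ∈ Cfsg.sigma M) {Q₁ Q₂ : Subgroup G} (hQ₁ : IsSylIn q Q₁ (Cfsg.sigmaCore M))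
    (hAQ₁ : A ≤ normalizer (Q₁ : Set G)) (hQ₂ : IsSylIn q Q₂ (cj x (Cfsg.sigmaCore M)))
    (hAQ₂ : A ≤ normalizer (Q₂ : Set G)) {B : Subgroup G} (hB : B ≤ A) (hB1 : B ≠ ⊥) :
    centralizer (B : Set G) ⊓ Q₁ = ⊥ ∨ centralizer (B : Set G) ⊓ Q₂ = ⊥ := by
  by_contra hne
  rw [not_or] at hne
  haveI := hG.2.1
  have h1 : Q₁ ∈ Cfsg.maxInvSubgroups ⊤ A {q} :=
    mem_maxInv_of_isSylIn_top (isSylIn_top_of_sigmaCore hG h.coatom hq hQ₁) hAQ₁
  have h2 : Q₂ ∈ Cfsg.maxInvSubgroups ⊤ A {q} := by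
    apply mem_maxInv_of_isSylIn_top _ hAQ₂
    have h3 : IsSylIn q (cj x⁻¹ Q₂) (Cfsg.sigmaCore M) := by
      have := isSylIn_cj hQ₂ x⁻¹
      rwa [cj_inv_cj] at this
    have h4 := isSylIn_cj (isSylIn_top_of_sigmaCore hG h.coatom hq h3) x
    rwa [cj_cj_inv, cj_top] at h4
  have hAC : A ≤ centralizer (B : Set G) := h.le_centralizer.trans (Subgroup.centralizer_le hB)
  exact h.not_kconj hG hx hq hQ₁ hQ₂
    (kconj_of_common_proper hG.2.2.2 (h.transHyp hG) hq.1 (h.not_dvd_card_of_mem_sigma hG hq) h1 h2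
      (centralizer_ne_top hG hB1) hAC hne.1 hne.2)

/-- **Lemma 11.2**, first part. -/
theorem Exc.sigmaCore_inf_cj (h : Exc M p A A₀) {x : G} (hx : x ∉ M) (hA : A ≤ cj x M) :
    Cfsg.sigmaCore M ⊓ cj x M = ⊥ := by
  by_contra hne
  obtain ⟨q, hq, hqD⟩ := exists_prime_dvd_card_of_ne_bot hne
  haveI : Fact q.Prime := ⟨hq⟩
  have hqσ : q ∈ Cfsg.sigma M := mem_sigma_of_dvd_card_sigmaCore hG h.coatom hq
    (hqD.trans (Subgroup.card_dvd_of_le inf_le_left))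
  have hAD : A ≤ normalizer ((Cfsg.sigmaCore M ⊓ cj x M : Subgroup G) : Set G) :=
    le_normalizer_inf h.le_norm_sigmaCore (hA.trans le_normalizer)
  have hcop : (Nat.card A).Coprime (Nat.card ↥(Cfsg.sigmaCore M ⊓ cj x M)) :=
    Nat.Coprime.coprime_dvd_right (Subgroup.card_dvd_of_le inf_le_left) (h.coprime_sigmaCore hG)
  obtain ⟨Dq, hDq, -, hADq⟩ := exists_invariant_isSylIn_ge hAD hcop (Or.inl h.solvable) q ⊥ bot_le
    IsPGroup.of_bot (le_normalizer_bot A)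
  have hDq1 : Dq ≠ ⊥ := isSylIn_ne_bot hDq hqD
  obtain ⟨Q₁, hQ₁, hDQ₁, hAQ₁⟩ := exists_invariant_isSylIn_ge h.le_norm_sigmaCore
    (h.coprime_sigmaCore hG) (Or.inl h.solvable) q Dq (hDq.1.trans inf_le_left) hDq.isPGroup hADq
  have hDq2 : Dq ≤ cj x (Cfsg.sigmaCore M) := by
    have h1 : cj x⁻¹ Dq ≤ M := by
      have := cj_mono (g := x⁻¹) (hDq.1.trans inf_le_right)
      rwa [cj_inv_cj] at this
    have h2 := le_sigmaCore hG h.coatom hqσ (hDq.isPGroup.map (MulAut.conj x⁻¹).toMonoidHom) h1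
    have := cj_mono (g := x) h2
    rwa [cj_cj_inv] at this
  have hcop2 : (Nat.card A).Coprime (Nat.card ↥(cj x (Cfsg.sigmaCore M))) := by
    rw [card_map_conj]; exact h.coprime_sigmaCore hG
  obtain ⟨Q₂, hQ₂, hDQ₂, hAQ₂⟩ := exists_invariant_isSylIn_ge (h.le_norm_cj_sigmaCore hA) hcop2
    (Or.inl h.solvable) q Dq hDq2 hDq.isPGroup hADq
  have := h.inf_eq_bot hG hx hqσ hQ₁ hAQ₁ hQ₂ hAQ₂
  exact hDq1 (le_bot_iff.mp (this ▸ le_inf hDQ₁ hDQ₂))

/-- **Lemma 11.2**, second part: `x A₀ x⁻¹` acts fixed-point-freely on `M_σ`. -/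
theorem Exc.sigmaCore_inf_centralizer_cj (h : Exc M p A A₀) {x : G} (hx : x ∉ M) (hA : A ≤ cj x M) :
    Cfsg.sigmaCore M ⊓ centralizer ((cj x A₀ : Subgroup G) : Set G) = ⊥ := by
  rw [eq_bot_iff, ← h.sigmaCore_inf_cj hG hx hA]
  refine inf_le_inf_left _ ?_
  calc centralizer ((cj x A₀ : Subgroup G) : Set G) ≤ normalizer ((cj x A₀ : Subgroup G) : Set G) :=
        centralizer_le_normalizer _
    _ = cj x (normalizer (A₀ : Set G)) := normalizer_cj x A₀
    _ ≤ cj x M := cj_mono h.norm₀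

/-- consequence of 11.1(b): a nontrivial subgroup `B ≤ A` fixed by some `x ∉ M` with `A ≤ xMx⁻¹` acts
fixed-point-freely on `M_σ`. -/
theorem Exc.fpf_of_cj_fixed (h : Exc M p A A₀) {x : G} (hx : x ∉ M) (hA : A ≤ cj x M) {B : Subgroup G}
    (hB : B ≤ A) (hB1 : B ≠ ⊥) (hfix : cj x B = B) :
    Cfsg.sigmaCore M ⊓ centralizer (B : Set G) = ⊥ := by
  by_contra hne
  obtain ⟨q, hq, hqD⟩ := exists_prime_dvd_card_of_ne_bot hne
  haveI : Fact q.Prime := ⟨hq⟩
  have hqσ : q ∈ Cfsg.sigma M := mem_sigma_of_dvd_card_sigmaCore hG h.coatom hq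
    (hqD.trans (Subgroup.card_dvd_of_le inf_le_left))
  have hAB : A ≤ normalizer (B : Set G) := by
    intro a ha
    rw [mem_normalizer_iff_map_conj]
    apply le_antisymm
    · rintro _ ⟨b, hb, rfl⟩
      have : a * b * a⁻¹ = b := by rw [h.comm a ha b (hB hb)]; group
      simpa [MulAut.conj_apply, this] using hb
    · intro b hb
      refine ⟨b, hb, ?_⟩
      have : a * b * a⁻¹ = b := by rw [h.comm a ha b (hB hb)]; group
      simpa [MulAut.conj_apply] using this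
  have hAC : A ≤ normalizer ((centralizer (B : Set G) : Subgroup G) : Set G) :=
    le_normalizer_centralizer hAB
  -- the two centralizers
  have hC2 : cj x (Cfsg.sigmaCore M) ⊓ centralizer (B : Set G) =
      cj x (Cfsg.sigmaCore M ⊓ centralizer (B : Set G)) := by
    rw [cj_inf, ← centralizer_cj, hfix]
  have hAD₁ : A ≤ normalizer ((Cfsg.sigmaCore M ⊓ centralizer (B : Set G) : Subgroup G) : Set G) :=
    le_normalizer_inf h.le_norm_sigmaCore hAC
  have hAD₂ : A ≤ normalizer ((cj x (Cfsg.sigmaCore M) ⊓ centralizer (B : Set G) : Subgroup G) : Set G) :=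
    le_normalizer_inf (h.le_norm_cj_sigmaCore hA) hAC
  have hcop₁ : (Nat.card A).Coprime (Nat.card ↥(Cfsg.sigmaCore M ⊓ centralizer (B : Set G))) :=
    Nat.Coprime.coprime_dvd_right (Subgroup.card_dvd_of_le inf_le_left) (h.coprime_sigmaCore hG)
  have hcop2 : (Nat.card A).Coprime (Nat.card ↥(cj x (Cfsg.sigmaCore M))) := by
    rw [card_map_conj]; exact h.coprime_sigmaCore hG
  have hcop₂ : (Nat.card A).Coprime (Nat.card ↥(cj x (Cfsg.sigmaCore M) ⊓ centralizer (B : Set G))) :=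
    Nat.Coprime.coprime_dvd_right (Subgroup.card_dvd_of_le inf_le_left) hcop2
  have hqD₂ : q ∣ Nat.card ↥(cj x (Cfsg.sigmaCore M) ⊓ centralizer (B : Set G)) := by
    rw [hC2, card_map_conj]; exact hqD
  obtain ⟨Y₁, hY₁, -, hAY₁⟩ := exists_invariant_isSylIn_ge hAD₁ hcop₁ (Or.inl h.solvable) q ⊥ bot_le
    IsPGroup.of_bot (le_normalizer_bot A)
  obtain ⟨Y₂, hY₂, -, hAY₂⟩ := exists_invariant_isSylIn_ge hAD₂ hcop₂ (Or.inl h.solvable) q ⊥ bot_le
    IsPGroup.of_bot (le_normalizer_bot A)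
  have hY₁1 : Y₁ ≠ ⊥ := isSylIn_ne_bot hY₁ hqD
  have hY₂1 : Y₂ ≠ ⊥ := isSylIn_ne_bot hY₂ hqD₂
  obtain ⟨Q₁, hQ₁, hYQ₁, hAQ₁⟩ := exists_invariant_isSylIn_ge h.le_norm_sigmaCore
    (h.coprime_sigmaCore hG) (Or.inl h.solvable) q Y₁ (hY₁.1.trans inf_le_left) hY₁.isPGroup hAY₁
  obtain ⟨Q₂, hQ₂, hYQ₂, hAQ₂⟩ := exists_invariant_isSylIn_ge (h.le_norm_cj_sigmaCore hA) hcop2
    (Or.inl h.solvable) q Y₂ (hY₂.1.trans inf_le_left) hY₂.isPGroup hAY₂
  rcases h.centralizer_inf_eq_bot hG hx hqσ hQ₁ hAQ₁ hQ₂ hAQ₂ hB hB1 with h1 | h1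
  · exact hY₁1 (le_bot_iff.mp (h1 ▸ le_inf (hY₁.1.trans inf_le_right) hYQ₁))
  · exact hY₂1 (le_bot_iff.mp (h1 ▸ le_inf (hY₂.1.trans inf_le_right) hYQ₂))

end exc

end Cfsg.Agent.Lib.Helper8.BGEx
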