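/-
helper8: B&G section 11, part 4: Theorem 11.3 (M_σ nilpotent), 11.6(b) (C_G(A) is a σ(M)'-group),
weak form of 11.4.
-/
import Mathlib
import Cfsg.Agent.Lib.Helper8.BGEx3

set_option autoImplicit false

namespace Cfsg.Agent.Lib.Helper8.BGEx

open Cfsg Subgroup
open Cfsg.Agent.Lib.Helper8
open Cfsg.Agent.Lib.Helper17 (KConj bgK)

variable {G : Type*} [Group G]

/-- In a nilpotent group Sylow subgroups are unique. -/
theorem isSylIn_unique_of_nilpotent [Finite G] {q : ℕ} [Fact q.Prime] {S T L : Subgroup G}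
    (hL : Group.IsNilpotent L) (hS : IsSylIn q S L) (hT : IsSylIn q T L) : S = T := by
  have h1 : ∀ (p : ℕ) (_ : Fact p.Prime) (P : Sylow p ↥L), (P : Subgroup ↥L).Normal :=
    ((isNilpotent_of_finite_tfae (G := ↥L)).out 0 3).mp hL
  haveI := Sylow.unique_of_normal hS.toSylow (h1 q inferInstance hS.toSylow)
  have h2 : hS.toSylow = hT.toSylow := Subsingleton.elim _ _
  rw [← hS.toSylow_map, ← hT.toSylow_map, h2]

section exc

variable [Finite G] {M : Subgroup G} {p : ℕ} {A A₀ : Subgroup G}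

theorem Exc.exists_sylow_ge (h : Exc M p A A₀) : ∃ S, IsSylIn p S M ∧ A ≤ S := by
  haveI := h.fact
  exact exists_isSylIn_ge h.isPGroup h.le

theorem Exc.exists_normalizer_not_mem (h : Exc M p A A₀) {S : Subgroup G} (hS : IsSylIn p S M) :
    ∃ g ∈ normalizer (S : Set G), g ∉ M := by
  haveI := h.fact
  have := (not_mem_sigma_iff h.dvd_card).1 h.not_sigma S hS
  exact Set.not_subset.mp this

variable (hG : Cfsg.IsMinSimpleOddOrder G)
include hG

/-- for `g ∈ N_G(S) - M` (`S ≥ A` a Sylow `p`-subgroup of `M`): `g A₀ g⁻¹ ≤ M` acts f.p.f. on `M_σ`. -/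
theorem Exc.fpf_cj_of_mem_normalizer_sylow (h : Exc M p A A₀) {S : Subgroup G} (hS : IsSylIn p S M)
    (hAS : A ≤ S) {g : G} (hg : g ∈ normalizer (S : Set G)) (hgM : g ∉ M) :
    cj g A₀ ≤ S ∧ Cfsg.sigmaCore M ⊓ centralizer ((cj g A₀ : Subgroup G) : Set G) = ⊥ := by
  have hgS : cj g S = S := mem_normalizer_iff_map_conj.mp hg
  have hA : A ≤ cj g M := by
    calc A ≤ S := hAS
      _ = cj g S := hgS.symm
      _ ≤ cj g M := cj_mono hS.1
  refine ⟨?_, h.sigmaCore_inf_centralizer_cj hG hgM hA⟩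
  calc cj g A₀ ≤ cj g S := cj_mono (h.le₀.trans hAS)
    _ = S := hgS

/-- **Theorem 11.3**: `M_σ` is nilpotent. -/
theorem Exc.nilpotent (h : Exc M p A A₀) : Group.IsNilpotent (Cfsg.sigmaCore M) := by
  obtain ⟨S, hS, hAS⟩ := h.exists_sylow_ge
  obtain ⟨g, hg, hgM⟩ := h.exists_normalizer_not_mem hS
  obtain ⟨hXS, hfpf⟩ := h.fpf_cj_of_mem_normalizer_sylow hG hS hAS hg hgM
  have hXcard : Nat.card (cj g A₀) = p := by rw [card_map_conj]; exact h.card₀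
  obtain ⟨x₀, hx₀, hx₀1, hx₀p, hXz⟩ := exists_generator_of_card_prime h.prime hXcard
  have hx₀M : x₀ ∈ M := hS.1 (hXS hx₀)
  refine Cfsg.Agent.Lib.Helper2.BGCor.sigmaCore_nilpotent_of_fpf h.prime ⟨x₀, hx₀M⟩ ?_ ?_
  · exact Subtype.ext (by simpa using hx₀p)
  · intro y hy hy1 hxy
    apply hy1
    have : y ∈ Cfsg.sigmaCore M ⊓ centralizer ((cj g A₀ : Subgroup G) : Set G) := by
      refine ⟨hy, ?_⟩
      rw [hXz]
      show y ∈ centralizer ((zpowers x₀ : Subgroup G) : Set G)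
      rw [mem_centralizer_iff]
      intro z hz
      obtain ⟨k, rfl⟩ := mem_zpowers_iff.mp hz
      have hc : Commute x₀ y := hxy
      exact (hc.zpow_left k).eq
    rw [hfpf] at this
    exact (mem_bot.mp this)

/-- **11.6(b)** (strong form): no prime of `σ(M)` divides `|C_G(A)|`. -/
theorem Exc.not_dvd_card_centralizer (h : Exc M p A A₀) {q : ℕ} (hq : q ∈ Cfsg.sigma M) :
    ¬ q ∣ Nat.card (centralizer (A : Set G)) := by
  intro hd
  haveI : Fact q.Prime := ⟨hq.1⟩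
  obtain ⟨S, hS, hAS⟩ := h.exists_sylow_ge
  obtain ⟨g, hg, hgM⟩ := h.exists_normalizer_not_mem hS
  have hgS : cj g S = S := mem_normalizer_iff_map_conj.mp hg
  have hA : A ≤ cj g M := by
    calc A ≤ S := hAS
      _ = cj g S := hgS.symm
      _ ≤ cj g M := cj_mono hS.1
  have hcop2 : (Nat.card A).Coprime (Nat.card ↥(cj g (Cfsg.sigmaCore M))) := by
    rw [card_map_conj]; exact h.coprime_sigmaCore hG
  obtain ⟨Q₁, hQ₁, -, hAQ₁⟩ := exists_invariant_isSylIn_ge h.le_norm_sigmaCore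
    (h.coprime_sigmaCore hG) (Or.inl h.solvable) q ⊥ bot_le IsPGroup.of_bot (le_normalizer_bot A)
  obtain ⟨Q₂, hQ₂, -, hAQ₂⟩ := exists_invariant_isSylIn_ge (h.le_norm_cj_sigmaCore hA) hcop2
    (Or.inl h.solvable) q ⊥ bot_le IsPGroup.of_bot (le_normalizer_bot A)
  have h1 : Q₁ ∈ Cfsg.maxInvSubgroups ⊤ A {q} :=
    mem_maxInv_of_isSylIn_top (isSylIn_top_of_sigmaCore hG h.coatom hq hQ₁) hAQ₁
  have h2 : Q₂ ∈ Cfsg.maxInvSubgroups ⊤ A {q} := by
    apply mem_maxInv_of_isSylIn_top _ hAQ₂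
    have h3 : IsSylIn q (cj g⁻¹ Q₂) (Cfsg.sigmaCore M) := by
      have := isSylIn_cj hQ₂ g⁻¹
      rwa [cj_inv_cj] at this
    have h4 := isSylIn_cj (isSylIn_top_of_sigmaCore hG h.coatom hq h3) g
    rwa [cj_cj_inv, cj_top] at h4
  have hZ : ¬ Cfsg.RankLE 1 ↥(A ⊓ centralizer (A : Set G)) := by
    rw [inf_eq_left.mpr h.le_centralizer]
    exact Cfsg.Agent.Lib.Helper1.BGX.not_rankLE_one_of_sq_le h.prime h.elem h.card.ge
  exact h.not_kconj hG hgM hq hQ₁ hQ₂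
    (Cfsg.Agent.S1394.result hG A (h.transHyp hG) hZ q hq.1 (h.not_dvd_card_of_mem_sigma hG hq) hd
      Q₁ h1 Q₂ h2)

/-- **11.6(b)**: `C_{M_σ}(A) = 1`. -/
theorem Exc.sigmaCore_inf_centralizer (h : Exc M p A A₀) :
    Cfsg.sigmaCore M ⊓ centralizer (A : Set G) = ⊥ := by
  by_contra hne
  obtain ⟨q, hq, hqD⟩ := exists_prime_dvd_card_of_ne_bot hne
  have hqσ : q ∈ Cfsg.sigma M := mem_sigma_of_dvd_card_sigmaCore hG h.coatom hq
    (hqD.trans (Subgroup.card_dvd_of_le inf_le_left))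
  exact h.not_dvd_card_centralizer hG hqσ (hqD.trans (Subgroup.card_dvd_of_le inf_le_right))

/-- The Sylow `q`-subgroup of the nilpotent `M_σ` is normal in `M`, with normalizer `M`. -/
theorem Exc.normalizer_sylow_sigmaCore (h : Exc M p A A₀) {q : ℕ} [Fact q.Prime] (hq : q ∈ Cfsg.sigma M)
    {Q : Subgroup G} (hQ : IsSylIn q Q (Cfsg.sigmaCore M)) : normalizer (Q : Set G) = M := by
  apply normalizer_eq_of_coatom hG h.coatom (isSylIn_ne_bot hQ (dvd_card_sigmaCore hG h.coatom hq))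
    (hQ.1.trans (sigmaCore_le M))
  intro m hm
  rw [mem_normalizer_iff_map_conj]
  have h1 := isSylIn_cj hQ m
  rw [show cj m (Cfsg.sigmaCore M) = Cfsg.sigmaCore M from
    mem_normalizer_iff_map_conj.mp (BGEx.le_normalizer_sigmaCore M hm)] at h1
  exact isSylIn_unique_of_nilpotent (h.nilpotent hG) h1 hQ

/-- **11.4 (weak form, generalized)**: a maximal subgroup `H ≥ A` sharing with `M` a nontrivial `q`-subgroup for
some `q ∈ σ(H) ∩ σ(M)` is `M`. -/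
theorem Exc.eq_of_common_sigma_subgroup (h : Exc M p A A₀) {H : Subgroup G} (hH : IsCoatom H) (hAH : A ≤ H)
    {q : ℕ} [Fact q.Prime] (hqH : q ∈ Cfsg.sigma H) (hqM : q ∈ Cfsg.sigma M) {D : Subgroup G}
    (hD : IsPGroup q D) (hD1 : D ≠ ⊥) (hDH : D ≤ H) (hDM : D ≤ M) : H = M := by
  by_contra hHM
  have hDMσ : D ≤ Cfsg.sigmaCore M := le_sigmaCore hG h.coatom hqM hD hDM
  have hDHσ : D ≤ Cfsg.sigmaCore H := le_sigmaCore hG hH hqH hD hDH
  obtain ⟨Q₁, hQ₁, hDQ₁⟩ := exists_isSylIn_ge hD hDMσ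
  obtain ⟨T, hT, hDT⟩ := exists_isSylIn_ge hD hDHσ
  have hNQ₁ : normalizer (Q₁ : Set G) = M := h.normalizer_sylow_sigmaCore hG hqM hQ₁
  have hNT : normalizer (T : Set G) ≤ H := normalizer_le_of_isSylIn_sigmaCore hG hH hqH hT
  obtain ⟨g, -, hg⟩ := isSylIn_exists_conj (isSylIn_top_of_sigmaCore hG h.coatom hqM hQ₁)
    (isSylIn_top_of_sigmaCore hG hH hqH hT)
  have hconj : D.map (MulAut.conj g⁻¹).toMonoidHom ≤ M := by
    have h1 : cj g⁻¹ D ≤ cj g⁻¹ T := cj_mono hDT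
    rw [hg, cj_inv_cj] at h1
    exact h1.trans (hQ₁.1.trans (sigmaCore_le M))
  obtain ⟨m, hm, c, hc, hmc⟩ := (Cfsg.Agent.S1404.result hG M h.coatom q hqM D hD hD1 hDM).1 g⁻¹ hconj
  have hgc : g = c⁻¹ * m⁻¹ := by
    have : g = (m * c)⁻¹ := by rw [← hmc, inv_inv]
    rw [this, mul_inv_rev]
  have hTc : T = cj c⁻¹ Q₁ := by
    rw [hg, hgc, ← cj_cj]
    congr 1
    exact mem_normalizer_iff_map_conj.mp (hNQ₁.symm ▸ M.inv_mem hm)
  have hHc : cj c⁻¹ M = H := by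
    have h1 : cj c⁻¹ M ≤ H := by
      rw [← hNQ₁, ← normalizer_cj, ← hTc]; exact hNT
    exact ((isCoatom_cj h.coatom c⁻¹).le_iff_eq hH.1 |>.mp h1).symm
  have hcM : c⁻¹ ∉ M := by
    intro hcM
    apply hHM
    rw [← hHc]
    exact cj_eq_self_of_mem hcM
  have h2 := h.sigmaCore_inf_cj hG hcM (hHc ▸ hAH)
  apply hD1
  rw [← le_bot_iff, ← h2]
  exact le_inf hDMσ (hHc ▸ hDH)

/-- **11.4 (weak form)**: `H ∈ 𝓜(A)`, `H_σ ∩ M_σ ≠ 1` ⇒ `H = M`. -/
theorem Exc.eq_of_sigmaCore_inf_ne_bot (h : Exc M p A A₀) {H : Subgroup G} (hH : IsCoatom H) (hAH : A ≤ H)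
    (hne : Cfsg.sigmaCore H ⊓ Cfsg.sigmaCore M ≠ ⊥) : H = M := by
  obtain ⟨q, hq, hqD⟩ := exists_prime_dvd_card_of_ne_bot hne
  haveI : Fact q.Prime := ⟨hq⟩
  have hqM : q ∈ Cfsg.sigma M := mem_sigma_of_dvd_card_sigmaCore hG h.coatom hq
    (hqD.trans (Subgroup.card_dvd_of_le inf_le_right))
  have hqH : q ∈ Cfsg.sigma H := mem_sigma_of_dvd_card_sigmaCore hG hH hq
    (hqD.trans (Subgroup.card_dvd_of_le inf_le_left))
  obtain ⟨D, hD, -⟩ := exists_isSylIn_ge (IsPGroup.of_bot (p := q) (G := G))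
    (bot_le : (⊥ : Subgroup G) ≤ Cfsg.sigmaCore H ⊓ Cfsg.sigmaCore M)
  exact h.eq_of_common_sigma_subgroup hG hH hAH hqH hqM hD.isPGroup (isSylIn_ne_bot hD hqD)
    (hD.1.trans (inf_le_left.trans (sigmaCore_le H))) (hD.1.trans (inf_le_right.trans (sigmaCore_le M)))

end exc

end Cfsg.Agent.Lib.Helper8.BGEx
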