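import Mathlib
import Cfsg.Prelude.Def_Solvable
import Cfsg.Prelude.Def_LieExceptional
import Cfsg.Agent.Lib.Helper9.FStar4
import Cfsg.Agent.Lib.Helper10.CNGroup
import Cfsg.Agent.Lib.Helper18.FrobComp
import Cfsg.Agent.Lib.Helper18.UniqueInvolution
import Cfsg.Agent.S0068

/-!
# Fixed-point-free subgroups of CN-groups (helper8)

`B` acts fixed-point-freely on the nontrivial normal subgroup `F` of the CN-group `G`
(`Fpf F B`).  Then `B` is nilpotent (if solvable), and a nilpotent such `B` is cyclic or
`C × Q` with `C` cyclic of odd order and `Q` generalized quaternion.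
-/

set_option autoImplicit false

namespace Cfsg.Agent.Lib.Helper8.SolvCN

open Subgroup

variable {G : Type*} [Group G]

/-- every nonidentity element of `B` centralizes no nonidentity element of `F` -/
def Fpf (F B : Subgroup G) : Prop := ∀ b ∈ B, b ≠ 1 → F ⊓ centralizer {b} = ⊥

theorem Fpf.mono {F B B' : Subgroup G} (h : Fpf F B) (hle : B' ≤ B) : Fpf F B' :=
  fun b hb hb1 => h b (hle hb) hb1

variable [Finite G]

/-- a group acting fixed-point-freely has at most one involution -/
theorem Fpf.involution_unique {F B : Subgroup G} [F.Normal] (hF : F ≠ ⊥) (h : Fpf F B)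
    {s t : G} (hs : s ∈ B) (ht : t ∈ B) (hs2 : orderOf s = 2) (ht2 : orderOf t = 2) : s = t := by
  have hsi := Cfsg.Agent.S0068.inverts F B h s hs hs2
  have hti := Cfsg.Agent.S0068.inverts F B h t ht ht2
  by_contra hne
  have htt : t * t = 1 := by
    have := pow_orderOf_eq_one t
    rwa [ht2, pow_two] at this
  have hst1 : s * t ≠ 1 := by
    intro h1
    apply hne
    have : s = t⁻¹ := eq_inv_of_mul_eq_one_left h1
    rw [this]
    exact inv_eq_of_mul_eq_one_left htt
  have hbot := h (s * t) (B.mul_mem hs ht) hst1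
  apply hF
  rw [eq_bot_iff]
  intro k hk
  rw [← hbot]
  refine Subgroup.mem_inf.mpr ⟨hk, ?_⟩
  rw [mem_centralizer_singleton_iff]
  have h1 : t * k * t⁻¹ = k⁻¹ := hti k hk
  have h2 : s * k⁻¹ * s⁻¹ = k := by
    have := hsi k⁻¹ (F.inv_mem hk)
    rwa [inv_inv] at this
  have h3 : (s * t) * k * (s * t)⁻¹ = k := by
    calc (s * t) * k * (s * t)⁻¹ = s * (t * k * t⁻¹) * s⁻¹ := by group
      _ = k := by rw [h1, h2]
  calc k * (s * t) = ((s * t) * k * (s * t)⁻¹) * (s * t) := by rw [h3]
    _ = (s * t) * k := by group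

/-- odd order groups acting fixed-point-freely have cyclic Sylow subgroups -/
theorem Fpf.isZGroup_of_odd {F B : Subgroup G} [F.Normal] (hF : F ≠ ⊥) (h : Fpf F B)
    (hodd : Odd (Nat.card B)) : IsZGroup ↥B := by
  refine ⟨?_⟩
  intro p hp P
  haveI : Fact p.Prime := ⟨hp⟩
  by_cases hp2 : p = 2
  · subst hp2
    have hc : Nat.card (P : Subgroup B) = 1 := by
      obtain ⟨n, hn⟩ := IsPGroup.iff_card.mp P.isPGroup'
      have hdvd : Nat.card (P : Subgroup B) ∣ Nat.card B := Subgroup.card_subgroup_dvd_card _
      rcases Nat.eq_zero_or_pos n with h0 | hpos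
      · rw [hn, h0, pow_zero]
      · exfalso
        have : 2 ∣ Nat.card B := dvd_trans (by rw [hn]; exact dvd_pow_self 2 hpos.ne') hdvd
        exact (Nat.not_even_iff_odd.mpr hodd) (even_iff_two_dvd.mpr this)
    haveI : Subsingleton (P : Subgroup B) := (Nat.card_eq_one_iff_unique.mp hc).1
    exact isCyclic_of_subsingleton
  · exact Cfsg.Agent.Lib.Helper18.isCyclic_sylow_of_fpf F B hF h p hp2 P

/-- a subgroup with a nonidentity central element is nilpotent in a CN-group -/
theorem isNilpotent_of_central (hCN : Cfsg.IsCNGroup G) (B : Subgroup G) (z : G) (hz1 : z ≠ 1)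
    (hzc : ∀ b ∈ B, b * z = z * b) : Group.IsNilpotent ↥B := by
  apply Cfsg.Agent.Lib.Helper9.isNilpotent_of_le (B := centralizer {z}) _ (hCN z hz1)
  intro b hb
  rw [mem_centralizer_singleton_iff]
  exact hzc b hb

/-- **Lemma N**: a solvable subgroup of a CN-group acting fixed-point-freely on a nontrivial
normal subgroup is nilpotent. -/
theorem Fpf.isNilpotent (hCN : Cfsg.IsCNGroup G) {F B : Subgroup G} [F.Normal] (hF : F ≠ ⊥)
    (h : Fpf F B) (hsolv : Group.IsSolvable ↥B) : Group.IsNilpotent ↥B := by
  by_cases hB : B = ⊥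
  · subst hB
    infer_instance
  haveI : Nontrivial ↥B := (Subgroup.nontrivial_iff_ne_bot B).mpr hB
  obtain ⟨z, hzB, hz1, hzc⟩ : ∃ z ∈ B, z ≠ 1 ∧ ∀ b ∈ B, b * z = z * b := by
    by_cases heven : 2 ∣ Nat.card B
    · haveI : Fact (Nat.Prime 2) := ⟨Nat.prime_two⟩
      obtain ⟨t, ht⟩ := exists_prime_orderOf_dvd_card' (G := ↥B) 2 heven
      have ht2 : orderOf (t : G) = 2 := by rw [Subgroup.orderOf_coe]; exact ht
      refine ⟨t, t.2, ?_, ?_⟩
      · intro h1
        rw [h1, orderOf_one] at ht2
        omega
      · intro b hb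
        have hconj : orderOf (b * (t : G) * b⁻¹) = 2 := by
          have := orderOf_injective (MulAut.conj b).toMonoidHom (MulAut.conj b).injective (t : G)
          rw [← ht2, ← this]
          rfl
        have := h.involution_unique hF (B.mul_mem (B.mul_mem hb t.2) (B.inv_mem hb)) t.2 hconj ht2
        calc b * (t : G) = (b * t * b⁻¹) * b := by group
          _ = t * b := by rw [this]
    · have hodd : Odd (Nat.card B) := by
        rcases Nat.even_or_odd (Nat.card B) with he | ho
        · exact absurd (even_iff_two_dvd.mp he) heven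
        · exact ho
      haveI := h.isZGroup_of_odd hF hodd
      have hpq : ∀ (p q : ℕ), p.Prime → q.Prime → p ≠ q → ∀ a b : ↥B, orderOf a = q →
          orderOf b = p → b * a * b⁻¹ ∈ Subgroup.zpowers a → b * a * b⁻¹ = a := by
        intro p q hp hq hpq a b ha hb hmem
        apply Subtype.ext
        have := Cfsg.Agent.Lib.Helper18.conj_eq_of_fpf_pq F B hF h hsolv p q hp hq hpq (a : G) (b : G)
          a.2 b.2 (by rw [Subgroup.orderOf_coe]; exact ha) (by rw [Subgroup.orderOf_coe]; exact hb)
          (by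
            obtain ⟨k, hk⟩ := Subgroup.mem_zpowers_iff.mp hmem
            rw [Subgroup.mem_zpowers_iff]
            refine ⟨k, ?_⟩
            have := congrArg Subtype.val hk
            simpa using this)
        simpa using this
      have hcen := Cfsg.Agent.Lib.Helper18.center_ne_bot_of_isZGroup (L := ↥B) hpq
      obtain ⟨z, hz1⟩ := (Subgroup.ne_bot_iff_exists_ne_one).mp hcen
      refine ⟨((z : ↥B) : G), (z : ↥B).2, ?_, ?_⟩
      · intro h1
        apply hz1
        apply Subtype.ext
        apply Subtype.ext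
        exact h1
      · intro b hb
        have := (Subgroup.mem_center_iff.mp z.2) ⟨b, hb⟩
        exact congrArg Subtype.val this
  exact isNilpotent_of_central hCN B z hz1 hzc


/-- **structure**: a nilpotent group acting fixed-point-freely is cyclic, or the product of a cyclic
group of odd order and a generalized quaternion group -/
theorem Fpf.structure {F B : Subgroup G} [F.Normal] (hF : F ≠ ⊥) (h : Fpf F B)
    (hnil : Group.IsNilpotent ↥B) :
    IsCyclic ↥B ∨ ∃ C Q : Subgroup G, C ⊔ Q = B ∧ (∀ a ∈ C, ∀ b ∈ Q, a * b = b * a) ∧ IsCyclic ↥C ∧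
      Odd (Nat.card C) ∧ ∃ n : ℕ, Nonempty (↥Q ≃* QuaternionGroup (2 ^ n)) := by
  haveI : Fact (Nat.Prime 2) := ⟨Nat.prime_two⟩
  obtain ⟨P2⟩ : Nonempty (Sylow 2 ↥B) := inferInstance
  have huniq : ∀ s t : (P2 : Subgroup B), orderOf s = 2 → orderOf t = 2 → s = t := by
    intro s t hs ht
    apply Subtype.ext; apply Subtype.ext
    exact h.involution_unique hF (s : ↥B).2 (t : ↥B).2
      (by rw [Subgroup.orderOf_coe, Subgroup.orderOf_coe]; exact hs)
      (by rw [Subgroup.orderOf_coe, Subgroup.orderOf_coe]; exact ht)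
  rcases Cfsg.Agent.Lib.Helper18.isCyclic_or_quaternion_of_unique_involution P2.isPGroup' huniq
    with hcyc | ⟨n, hn1, ⟨e⟩⟩
  · left
    haveI : IsZGroup ↥B := by
      refine ⟨?_⟩
      intro p hp P
      haveI : Fact p.Prime := ⟨hp⟩
      by_cases hp2 : p = 2
      · subst hp2
        have e := Sylow.equiv P2 P
        exact isCyclic_of_surjective e e.surjective
      · exact Cfsg.Agent.Lib.Helper18.isCyclic_sylow_of_fpf F B hF h p hp2 P
    infer_instance
  · right
    have hall := ((Group.isNilpotent_of_finite_tfae (G := ↥B)).out 0 3).mp hnil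
    haveI hP2n : (P2 : Subgroup B).Normal := hall 2 inferInstance P2
    obtain ⟨C', hC'⟩ := Subgroup.exists_right_complement'_of_coprime
      (N := (P2 : Subgroup B)) P2.card_coprime_index
    have hCB : C'.map B.subtype ≤ B := Subgroup.map_subtype_le C'
    have hcardC : Nat.card (C'.map B.subtype) = (P2 : Subgroup B).index := by
      rw [Subgroup.card_map_of_injective B.subtype_injective]
      exact hC'.symm.index_eq_card.symm
    have hoddC : Odd (Nat.card (C'.map B.subtype)) := by
      rw [hcardC]
      rcases Nat.even_or_odd (P2 : Subgroup B).index with he | ho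
      · exact absurd (even_iff_two_dvd.mp he) P2.not_dvd_index
      · exact ho
    refine ⟨C'.map B.subtype, (P2 : Subgroup B).map B.subtype, ?_, ?_, ?_, hoddC, n, ?_⟩
    · rw [sup_comm, ← Subgroup.map_sup, hC'.sup_eq_top, ← MonoidHom.range_eq_map,
        Subgroup.range_subtype]
    · rintro a ha b ⟨b', hb', rfl⟩
      obtain ⟨k, hk⟩ := P2.isPGroup' ⟨b', hb'⟩
      have hk' : ((b' : ↥B) : G) ^ 2 ^ k = 1 := by
        have := congrArg Subtype.val (congrArg Subtype.val hk)
        simpa using this
      have hcop : (orderOf a).Coprime 2 := by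
        have hdvd : orderOf a ∣ Nat.card (C'.map B.subtype) := by
          have := orderOf_dvd_natCard (⟨a, ha⟩ : ↥(C'.map B.subtype))
          rwa [Subgroup.orderOf_mk] at this
        exact Nat.Coprime.coprime_dvd_left hdvd (Nat.Coprime.symm
          ((Nat.coprime_two_left).mpr hoddC))
      exact (Cfsg.Agent.Lib.Helper10.nilp_commute_of_coprime B hnil (b' : ↥B).2 (hCB ha) k hk'
        hcop).symm
    · haveI := (h.mono hCB).isZGroup_of_odd hF hoddC
      haveI : Group.IsNilpotent ↥(C'.map B.subtype) :=
        Cfsg.Agent.Lib.Helper9.isNilpotent_of_le hCB hnil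
      infer_instance
    · exact ⟨(Subgroup.equivMapOfInjective (P2 : Subgroup B) B.subtype
        B.subtype_injective).symm.trans e⟩

end Cfsg.Agent.Lib.Helper8.SolvCN
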