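import Mathlib
import Cfsg.Agent.Lib.Helper8.SolvCN1
import Cfsg.Agent.Lib.Helper8.HallSCN1
import Cfsg.Agent.Lib.Helper1.Fitting
import Cfsg.Agent.Lib.Helper10.PGroupBasic

/-!
# Solvable CN-groups: the case `F(G) = O_p(G)` (helper8)
-/

set_option autoImplicit false

namespace Cfsg.Agent.Lib.Helper8.SolvCN

open Subgroup
open scoped Pointwise

variable {G : Type*} [Group G] [Finite G]

/-- **Lemma T**: in a CN-group with `O_p(G) ≠ 1 ≠ O_q(G)`, `p ≠ q`, the Sylow `p`-subgroups are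
normal. -/
theorem sylow_normal_of_two_cores (hCN : Cfsg.IsCNGroup G) {p q : ℕ} [hp : Fact p.Prime]
    [hq : Fact q.Prime] (hpq : p ≠ q) (hpc : Cfsg.pCore p G ≠ ⊥) (hqc : Cfsg.pCore q G ≠ ⊥)
    (S : Sylow p G) : (S : Subgroup G).Normal := by
  have hle : Cfsg.pCore p G ≤ S := Cfsg.Agent.Lib.Helper1.pCore_le_sylow S
  haveI hFn : (Cfsg.pCore p G).Normal := Cfsg.Agent.Lib.Helper1.pCore_normal p G
  haveI hQn : (Cfsg.pCore q G).Normal := Cfsg.Agent.Lib.Helper1.pCore_normal q G
  haveI : ((Cfsg.pCore p G).subgroupOf S).Normal := hFn.subgroupOf S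
  have hne : (Cfsg.pCore p G).subgroupOf (S : Subgroup G) ≠ ⊥ := by
    intro h
    apply hpc
    rw [Subgroup.subgroupOf_eq_bot, disjoint_iff, inf_eq_left.mpr hle] at h
    exact h
  obtain ⟨x, hxN, hxc, hx1⟩ := Cfsg.Agent.Lib.Helper10.exists_mem_center_of_normal_ne_bot p
    S.isPGroup' ((Cfsg.pCore p G).subgroupOf (S : Subgroup G)) hne
  have hz1 : (x : G) ≠ 1 := fun h => hx1 (Subtype.ext h)
  have hzS : ∀ s ∈ (S : Subgroup G), s * (x : G) = (x : G) * s := by
    intro s hs
    have := (Subgroup.mem_center_iff.mp hxc) ⟨s, hs⟩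
    exact congrArg Subtype.val this
  have hzF : (x : G) ∈ Cfsg.pCore p G := Subgroup.mem_subgroupOf.mp hxN
  have hQp : IsPGroup q (Cfsg.pCore q G) := Cfsg.Agent.Lib.Helper1.pCore_isPGroup q G
  -- S centralizes O_q(G)
  have hSD : (S : Subgroup G) ≤ centralizer (Cfsg.pCore q G : Set G) := by
    intro s hs
    rw [Subgroup.mem_centralizer_iff]
    intro y hy
    have hnil := hCN (x : G) hz1
    have hsC : s ∈ centralizer ({(x : G)} : Set G) := by
      rw [mem_centralizer_singleton_iff]; exact hzS s hs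
    have hyC : y ∈ centralizer ({(x : G)} : Set G) := by
      rw [mem_centralizer_singleton_iff]
      exact (Cfsg.Agent.Lib.Helper1.pCore_commute hpq (x : G) y hzF hy).eq.symm
    obtain ⟨k, hk⟩ := S.isPGroup' ⟨s, hs⟩
    have hk' : s ^ p ^ k = 1 := by simpa using congrArg Subtype.val hk
    have hcop : (orderOf y).Coprime p := by
      obtain ⟨m, hm⟩ := hQp ⟨y, hy⟩
      have hm' : y ^ q ^ m = 1 := by simpa using congrArg Subtype.val hm
      have hdvd : orderOf y ∣ q ^ m := orderOf_dvd_of_pow_eq_one hm'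
      exact Nat.Coprime.coprime_dvd_left hdvd
        (Nat.Coprime.pow_left m ((Nat.coprime_primes hq.out hp.out).mpr (Ne.symm hpq)))
    exact (Cfsg.Agent.Lib.Helper10.nilp_commute_of_coprime _ hnil hsC hyC k hk' hcop).symm
  -- D nilpotent
  obtain ⟨y, hy1⟩ := (Subgroup.ne_bot_iff_exists_ne_one).mp hqc
  have hy1' : (y : G) ≠ 1 := fun h => hy1 (Subtype.ext h)
  have hDnil : Group.IsNilpotent ↥(centralizer (Cfsg.pCore q G : Set G)) := by
    apply Cfsg.Agent.Lib.Helper9.isNilpotent_of_le (B := centralizer {(y : G)}) _ (hCN _ hy1')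
    apply Subgroup.centralizer_le
    intro w hw
    rw [Set.mem_singleton_iff.mp hw]
    exact y.2
  obtain ⟨P, hP⟩ := Cfsg.Agent.Lib.Helper10.nilp_exists_sylow _ hDnil p
  have hSP : (S : Subgroup G) ≤ P := hP.2.2 _ hSD S.isPGroup'
  have hPS : P = S := S.is_maximal' hP.2.1 hSP
  haveI hDn : (centralizer (Cfsg.pCore q G : Set G)).Normal := inferInstance
  refine ⟨fun s hs g => ?_⟩
  have h1 : MulAut.conj g • (S : Subgroup G) ≤ centralizer (Cfsg.pCore q G : Set G) := by
    intro w hw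
    rw [Cfsg.Agent.Lib.Helper1.mem_conj_smul_iff] at hw
    have := hDn.conj_mem _ (hSD hw) g
    have e : g * (g⁻¹ * w * g) * g⁻¹ = w := by group
    rwa [e] at this
  have h2 : IsPGroup p ↥(MulAut.conj g • (S : Subgroup G)) := by
    have := S.isPGroup'.map (MulAut.conj g).toMonoidHom
    exact this
  have h3 := hP.2.2 _ h1 h2
  rw [hPS] at h3
  apply h3
  rw [Cfsg.Agent.Lib.Helper1.mem_conj_smul_iff]
  have e : g⁻¹ * (g * s * g⁻¹) * g = s := by group
  rw [e]
  exact hs

/-- Standing hypotheses of the "one core" case. -/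
structure OneCore (p : ℕ) (G : Type*) [Group G] : Prop where
  cn : Cfsg.IsCNGroup G
  ne_bot : Cfsg.pCore p G ≠ ⊥
  cent : centralizer (Cfsg.pCore p G : Set G) ≤ Cfsg.pCore p G

variable {p : ℕ} [hp : Fact p.Prime]

/-- **Claim 1**: elements of order prime to `p` act fixed-point-freely on `O_p(G)`. -/
theorem OneCore.fpf (h : OneCore p G) (a : G) (ha1 : a ≠ 1) (ha : (orderOf a).Coprime p) :
    Cfsg.pCore p G ⊓ centralizer {a} = ⊥ := by
  have hFp : IsPGroup p (Cfsg.pCore p G) := Cfsg.Agent.Lib.Helper1.pCore_isPGroup p G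
  obtain ⟨u, huF, huc, hu1⟩ := Cfsg.Agent.Lib.Helper10.exists_central_of_pgroup hFp h.ne_bot
  rw [eq_bot_iff]
  intro v hv
  rw [mem_bot]
  by_contra hv1
  obtain ⟨hvF, hvC⟩ := Subgroup.mem_inf.mp hv
  rw [mem_centralizer_singleton_iff] at hvC
  -- a commutes with u, inside C(v)
  have haCv : a ∈ centralizer ({v} : Set G) := by
    rw [mem_centralizer_singleton_iff]; exact hvC.symm
  have huCv : u ∈ centralizer ({v} : Set G) := by
    rw [mem_centralizer_singleton_iff]; exact (huc v hvF).symm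
  obtain ⟨k, hk⟩ := hFp ⟨u, huF⟩
  have hk' : u ^ p ^ k = 1 := by simpa using congrArg Subtype.val hk
  have hau : u * a = a * u :=
    Cfsg.Agent.Lib.Helper10.nilp_commute_of_coprime _ (h.cn v hv1) huCv haCv k hk' ha
  -- a centralizes F, inside C(u)
  have haCu : a ∈ centralizer ({u} : Set G) := by
    rw [mem_centralizer_singleton_iff]; exact hau.symm
  have haF : a ∈ centralizer (Cfsg.pCore p G : Set G) := by
    rw [Subgroup.mem_centralizer_iff]
    intro f hf
    have hfCu : f ∈ centralizer ({u} : Set G) := by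
      rw [mem_centralizer_singleton_iff]; exact huc f hf
    obtain ⟨m, hm⟩ := hFp ⟨f, hf⟩
    have hm' : f ^ p ^ m = 1 := by simpa using congrArg Subtype.val hm
    exact Cfsg.Agent.Lib.Helper10.nilp_commute_of_coprime _ (h.cn u hu1) hfCu haCu m hm' ha
  have haF' : a ∈ Cfsg.pCore p G := h.cent haF
  obtain ⟨m, hm⟩ := hFp ⟨a, haF'⟩
  have hm' : a ^ p ^ m = 1 := by simpa using congrArg Subtype.val hm
  have hdvd : orderOf a ∣ p ^ m := orderOf_dvd_of_pow_eq_one hm'
  have h1 : orderOf a = 1 := by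
    have := Nat.Coprime.eq_one_of_dvd (Nat.Coprime.pow_right m ha) hdvd
    exact this
  exact ha1 (orderOf_eq_one_iff.mp h1)

/-- **Claim 3'**: a nonidentity `p`-element never commutes with a nonidentity `p'`-element. -/
theorem OneCore.not_commute (h : OneCore p G) (x b : G) (hx1 : x ≠ 1) (k : ℕ) (hx : x ^ p ^ k = 1)
    (hb1 : b ≠ 1) (hb : (orderOf b).Coprime p) : x * b ≠ b * x := by
  intro hxb
  have hFp : IsPGroup p (Cfsg.pCore p G) := Cfsg.Agent.Lib.Helper1.pCore_isPGroup p G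
  haveI hFn : (Cfsg.pCore p G).Normal := Cfsg.Agent.Lib.Helper1.pCore_normal p G
  have hC : IsPGroup p (Subgroup.zpowers x) := Cfsg.Agent.Lib.Helper10.isPGroup_zpowers_of_pow_eq_one x k hx
  have hdvd : p ∣ Nat.card (Cfsg.pCore p G) := by
    rcases hFp.card_eq_or_dvd with h1 | h1
    · exact absurd (Subgroup.card_eq_one.mp h1) h.ne_bot
    · exact h1
  have hnorm : Subgroup.zpowers x ≤ normalizer ((Cfsg.pCore p G : Subgroup G) : Set G) := by
    rw [Subgroup.normalizer_eq_top]; exact le_top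
  obtain ⟨w, hwF, hw1, hwc⟩ := Cfsg.Agent.Lib.Helper18.exists_ne_one_fixed_of_dvd_card
    (Cfsg.pCore p G) (Subgroup.zpowers x) hC hdvd hnorm
  have hxw : x * w = w * x := hwc x (Subgroup.mem_zpowers x)
  have hwCx : w ∈ centralizer ({x} : Set G) := by
    rw [mem_centralizer_singleton_iff]; exact hxw.symm
  have hbCx : b ∈ centralizer ({x} : Set G) := by
    rw [mem_centralizer_singleton_iff]; exact hxb.symm
  obtain ⟨m, hm⟩ := hFp ⟨w, hwF⟩
  have hm' : w ^ p ^ m = 1 := by simpa using congrArg Subtype.val hm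
  have hwb : w * b = b * w :=
    Cfsg.Agent.Lib.Helper10.nilp_commute_of_coprime _ (h.cn x hx1) hwCx hbCx m hm' hb
  have hmem : w ∈ Cfsg.pCore p G ⊓ centralizer {b} := by
    refine Subgroup.mem_inf.mpr ⟨hwF, ?_⟩
    rw [mem_centralizer_singleton_iff]; exact hwb
  rw [h.fpf b hb1 hb, mem_bot] at hmem
  exact hw1 hmem

end Cfsg.Agent.Lib.Helper8.SolvCN
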