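import Mathlib
import Cfsg.Agent.Lib.Helper8.SolvCN2
import Cfsg.Agent.Lib.Helper1.Coprime
import Cfsg.Agent.Lib.Helper1.MinNormal
import Cfsg.Agent.Lib.Helper1.Hall

/-!
# Solvable CN-groups: `O_{p,p'}(G)` and its complement (helper8)
-/

set_option autoImplicit false

namespace Cfsg.Agent.Lib.Helper8.SolvCN

open Subgroup
open scoped Pointwise

variable {G : Type*} [Group G] [Finite G]

/-- `A` is a complement of `O_p(G)` in `O_{p,p'}(G)`. -/
structure ThreeData (p : ℕ) (A : Subgroup G) : Prop where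
  cop : (Nat.card A).Coprime p
  ne_bot : A ≠ ⊥
  normal : (Cfsg.pCore p G ⊔ A).Normal
  max : ∀ Y : Subgroup G, Y.Normal → Cfsg.pCore p G ≤ Y →
    ((Cfsg.pCore p G).relIndex Y).Coprime p → Y ≤ Cfsg.pCore p G ⊔ A

theorem card_mul_relIndex_of_le {H K : Subgroup G} (h : H ≤ K) :
    Nat.card H * H.relIndex K = Nat.card K := by
  have := (H.subgroupOf K).card_mul_index
  rwa [Cfsg.Agent.Lib.Helper1.card_subgroupOf_of_le h] at this

theorem exists_threeData {p : ℕ} [hp : Fact p.Prime] [Group.IsSolvable G]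
    (hF : Cfsg.pCore p G ≠ ⊤) : ∃ A : Subgroup G, ThreeData p A := by
  classical
  set F := Cfsg.pCore p G with hFdef
  haveI hFn : F.Normal := Cfsg.Agent.Lib.Helper1.pCore_normal p G
  have hFp : IsPGroup p F := Cfsg.Agent.Lib.Helper1.pCore_isPGroup p G
  obtain ⟨a, ha⟩ := IsPGroup.iff_card.mp hFp
  let S : Set (Subgroup G) := {Y | Y.Normal ∧ F ≤ Y ∧ (F.relIndex Y).Coprime p}
  have hFS : F ∈ S := by
    refine ⟨hFn, le_rfl, ?_⟩
    rw [Subgroup.relIndex_self]
    exact Nat.coprime_one_left p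
  obtain ⟨L, hLS, hLmax⟩ := Set.exists_max_image S (fun Y => Nat.card Y) (Set.toFinite S) ⟨F, hFS⟩
  obtain ⟨hLn, hFL, hLcop⟩ := hLS
  have hmax : ∀ Y ∈ S, Y ≤ L := by
    rintro Y ⟨hYn, hFY, hYcop⟩
    have hS : L ⊔ Y ∈ S := by
      refine ⟨Subgroup.sup_normal L Y, le_trans hFL le_sup_left, ?_⟩
      rw [← Subgroup.relIndex_mul_relIndex (H := F) (K := L) (L := L ⊔ Y) hFL le_sup_left,
        Subgroup.relIndex_sup_left]
      exact Nat.Coprime.mul_left hLcop
        (Nat.Coprime.coprime_dvd_left (Subgroup.relIndex_dvd_of_le_left Y hFL) hYcop)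
    have hcard := hLmax (L ⊔ Y) hS
    have : L ⊔ Y = L := (Subgroup.eq_of_le_of_card_ge le_sup_left hcard).symm
    rw [← this]
    exact le_sup_right
  -- the complement
  have hcopF : Nat.Coprime (Nat.card F) (F.relIndex L) := by
    rw [ha]
    exact Nat.Coprime.pow_left a (Nat.Coprime.symm hLcop)
  obtain ⟨A, hA⟩ := Cfsg.Agent.Lib.Helper1.internal_sz_exists hFL
    (by rw [Subgroup.normalizer_eq_top]; exact le_top) hcopF
  have hsup : F ⊔ A = L := by
    apply le_antisymm (sup_le hA.1 hA.2.1)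
    intro γ hγ
    obtain ⟨k, hk, b, hb, rfl⟩ := hA.2.2.2 γ hγ
    exact Subgroup.mul_mem _ (Subgroup.mem_sup_left hk) (Subgroup.mem_sup_right hb)
  have hcardA : Nat.card A = F.relIndex L := by
    have h1 := hA.card_mul_card
    have h2 := card_mul_relIndex_of_le hFL
    have hpos : 0 < Nat.card F := Nat.card_pos
    exact Nat.eq_of_mul_eq_mul_left hpos (h1.trans h2.symm)
  -- `L ≠ F`
  have hLF : Nat.card F < Nat.card L := by
    haveI : Nontrivial (G ⧸ F) := by
      rw [QuotientGroup.nontrivial_iff]  -- placeholder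
      exact hF
    obtain ⟨M, hM⟩ := Cfsg.Agent.Lib.Helper1.exists_isMinNormal (G := G ⧸ F)
    obtain ⟨r, hr, hMr⟩ := hM.exists_prime_isPGroup
    haveI : Fact r.Prime := ⟨hr⟩
    obtain ⟨b, hb⟩ := IsPGroup.iff_card.mp hMr
    have hb0 : b ≠ 0 := by
      rintro rfl
      rw [pow_zero] at hb
      exact hM.2.1 (Subgroup.card_eq_one.mp hb)
    set Y := M.comap (QuotientGroup.mk' F) with hY
    haveI hYn : Y.Normal := hM.1.comap _
    have hFY : F ≤ Y := by
      intro x hx
      rw [hY, Subgroup.mem_comap]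
      have : (QuotientGroup.mk' F) x = 1 := (QuotientGroup.eq_one_iff x).mpr hx
      rw [this]; exact M.one_mem
    have hcardY : Nat.card Y = Nat.card M * Nat.card F := Cfsg.Agent.Lib.Helper1.card_comap_mk' F M
    have hrel : F.relIndex Y = Nat.card M := by
      have h2 := card_mul_relIndex_of_le hFY
      have hpos : 0 < Nat.card F := Nat.card_pos
      rw [hcardY, mul_comm (Nat.card M)] at h2
      exact Nat.eq_of_mul_eq_mul_left hpos h2
    have hrp : r ≠ p := by
      rintro rfl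
      have hYp : IsPGroup r Y := by
        apply IsPGroup.of_card (n := b + a)
        rw [hcardY, hb, ha, pow_add]
      have hYF : Y ≤ F := Cfsg.Agent.Lib.Helper1.le_pCore hYn hYp
      have h1 : Nat.card Y ≤ Nat.card F := Subgroup.card_le_of_le hYF
      rw [hcardY, hb] at h1
      have h2 : 1 < r ^ b := Nat.one_lt_pow hb0 hr.one_lt
      have hpos : 0 < Nat.card F := Nat.card_pos
      nlinarith
    have hYS : Y ∈ S := by
      refine ⟨hYn, hFY, ?_⟩
      rw [hrel, hb]
      exact Nat.Coprime.pow_left b ((Nat.coprime_primes hr hp.out).mpr hrp)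
    have hYL := hmax Y hYS
    have h1 : Nat.card Y ≤ Nat.card L := Subgroup.card_le_of_le hYL
    have h2 : 1 < Nat.card M := by rw [hb]; exact Nat.one_lt_pow hb0 hr.one_lt
    have hpos : 0 < Nat.card F := Nat.card_pos
    rw [hcardY] at h1
    nlinarith
  refine ⟨A, ?_, ?_, ?_, ?_⟩
  · rw [hcardA]; exact hLcop
  · rintro rfl
    rw [sup_bot_eq] at hsup
    rw [hsup] at hLF
    exact lt_irrefl _ hLF
  · rw [hsup]; exact hLn
  · intro Y hYn hFY hYcop
    rw [hsup]
    exact hmax Y ⟨hYn, hFY, hYcop⟩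

end Cfsg.Agent.Lib.Helper8.SolvCN
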