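import Mathlib
import Cfsg.Agent.Lib.Helper8.SolvCN3
import Cfsg.Agent.Lib.Helper12.Cores

/-!
# Solvable CN-groups: the complement `N_G(A)` of `O_p(G)` (helper8)
-/

set_option autoImplicit false

namespace Cfsg.Agent.Lib.Helper8.SolvCN

open Subgroup
open scoped Pointwise

variable {G : Type*} [Group G] [Finite G]

theorem card_sup_dvd_of_le_normalizer (H K : Subgroup G) (h : K ≤ normalizer (H : Set G)) :
    Nat.card ↥(H ⊔ K) ∣ Nat.card H * Nat.card K := by
  have hH : H ≤ normalizer (H : Set G) := Subgroup.le_normalizer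
  haveI : (H.subgroupOf (normalizer (H : Set G))).Normal := Subgroup.normal_in_normalizer
  have h1 := Cfsg.Agent.Lib.Helper12.card_sup_dvd_of_normal (K.subgroupOf (normalizer (H : Set G)))
    (H.subgroupOf (normalizer (H : Set G)))
  rw [← Subgroup.subgroupOf_sup h hH, Cfsg.Agent.Lib.Helper1.card_subgroupOf_of_le (sup_le h hH),
    Cfsg.Agent.Lib.Helper1.card_subgroupOf_of_le h, Cfsg.Agent.Lib.Helper1.card_subgroupOf_of_le hH,
    sup_comm, mul_comm] at h1
  exact h1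

variable {p : ℕ} [hp : Fact p.Prime]

theorem OneCore.fpf_of_card_coprime (h : OneCore p G) (B : Subgroup G)
    (hB : (Nat.card B).Coprime p) : Fpf (Cfsg.pCore p G) B := by
  intro b hb hb1
  apply h.fpf b hb1
  have hdvd : orderOf b ∣ Nat.card B := by
    have := orderOf_dvd_natCard (⟨b, hb⟩ : ↥B)
    rwa [Subgroup.orderOf_mk] at this
  exact Nat.Coprime.coprime_dvd_left hdvd hB

theorem ThreeData.disjoint {A : Subgroup G} (hA : ThreeData p A) : Disjoint (Cfsg.pCore p G) A := by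
  apply Subgroup.disjoint_of_coprime_natCard
  obtain ⟨n, hn⟩ := IsPGroup.iff_card.mp (Cfsg.Agent.Lib.Helper1.pCore_isPGroup p G)
  rw [hn]
  exact Nat.Coprime.pow_left n hA.cop.symm

/-- **(N1)** Frattini: `G = O_p(G) N_G(A)`. -/
theorem ThreeData.exists_mul_mem_normalizer [Group.IsSolvable G] {A : Subgroup G}
    (hA : ThreeData p A) (g : G) :
    ∃ f ∈ Cfsg.pCore p G, f * g ∈ normalizer (A : Set G) := by
  set F := Cfsg.pCore p G with hFdef
  haveI hFn : F.Normal := Cfsg.Agent.Lib.Helper1.pCore_normal p G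
  haveI := hA.normal
  have hAF : A ≤ normalizer (F : Set G) := by rw [Subgroup.normalizer_eq_top]; exact le_top
  have hc : Cfsg.Agent.Lib.Helper1.IsComplIn F A (F ⊔ A) :=
    Cfsg.Agent.Lib.Helper1.isComplIn_sup hAF hA.disjoint
  have hcard : Nat.card (MulAut.conj g • A : Subgroup G) = Nat.card A :=
    Cfsg.Agent.Lib.Helper1.card_conj_smul A g
  have hc₁ : Cfsg.Agent.Lib.Helper1.IsComplIn F (MulAut.conj g • A) (F ⊔ A) := by
    refine ⟨le_sup_left, ?_, ?_, ?_⟩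
    · intro w hw
      rw [Cfsg.Agent.Lib.Helper1.mem_conj_smul_iff] at hw
      have := hA.normal.conj_mem _ (Subgroup.mem_sup_right hw) g
      have e : g * (g⁻¹ * w * g) * g⁻¹ = w := by group
      rwa [e] at this
    · apply Subgroup.disjoint_of_coprime_natCard
      obtain ⟨n, hn⟩ := IsPGroup.iff_card.mp (Cfsg.Agent.Lib.Helper1.pCore_isPGroup p G)
      rw [hcard, hn]
      exact Nat.Coprime.pow_left n hA.cop.symm
    · intro γ hγ
      have h1 := hA.normal.conj_mem _ hγ g⁻¹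
      obtain ⟨k, hk, a, ha, hka⟩ := hc.2.2.2 _ h1
      refine ⟨g * k * g⁻¹, hFn.conj_mem _ hk g, g * a * g⁻¹, ?_, ?_⟩
      · rw [Cfsg.Agent.Lib.Helper1.mem_conj_smul_iff]
        have e : g⁻¹ * (g * a * g⁻¹) * g = a := by group
        rw [e]; exact ha
      · have e : g * k * g⁻¹ * (g * a * g⁻¹) = g * (k * a) * g⁻¹ := by group
        rw [e, hka]; group
  have hcop : Nat.Coprime (Nat.card F) (Nat.card A) := by
    obtain ⟨n, hn⟩ := IsPGroup.iff_card.mp (Cfsg.Agent.Lib.Helper1.pCore_isPGroup p G)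
    rw [hn]
    exact Nat.Coprime.pow_left n hA.cop.symm
  obtain ⟨k, hk, hkA⟩ := Cfsg.Agent.Lib.Helper1.internal_sz_conj
    (by rw [Subgroup.normalizer_eq_top]; exact le_top) hc hc₁ hcop (Or.inl inferInstance)
  refine ⟨k, hk, Cfsg.Agent.Lib.Helper1.mem_normalizer_of_forall_conj_mem A (k * g) ?_⟩
  intro x hx
  rw [← hkA, Cfsg.Agent.Lib.Helper1.mem_conj_smul_iff, Cfsg.Agent.Lib.Helper1.mem_conj_smul_iff]
  have e : g⁻¹ * (k⁻¹ * (k * g * x * (k * g)⁻¹) * k) * g = x := by group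
  rw [e]; exact hx

/-- **(N2)** `O_p(G) ∩ N_G(A) = 1`. -/
theorem ThreeData.inf_normalizer (h : OneCore p G) {A : Subgroup G} (hA : ThreeData p A) :
    Cfsg.pCore p G ⊓ normalizer (A : Set G) = ⊥ := by
  haveI hFn : (Cfsg.pCore p G).Normal := Cfsg.Agent.Lib.Helper1.pCore_normal p G
  rw [eq_bot_iff]
  intro f hf
  obtain ⟨hfF, hfN⟩ := Subgroup.mem_inf.mp hf
  obtain ⟨a, ha1⟩ := (Subgroup.ne_bot_iff_exists_ne_one).mp hA.ne_bot
  have ha1' : (a : G) ≠ 1 := fun h => ha1 (Subtype.ext h)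
  have hfpf := h.fpf_of_card_coprime A hA.cop (a : G) a.2 ha1'
  rw [← hfpf]
  refine Subgroup.mem_inf.mpr ⟨hfF, ?_⟩
  rw [mem_centralizer_singleton_iff]
  -- `f a f⁻¹ a⁻¹ ∈ F ∩ A = 1`
  have h1 : f * (a : G) * f⁻¹ * (a : G)⁻¹ ∈ Cfsg.pCore p G := by
    have : f * (a : G) * f⁻¹ * (a : G)⁻¹ = f * ((a : G) * f⁻¹ * (a : G)⁻¹) := by group
    rw [this]
    exact Subgroup.mul_mem _ hfF (hFn.conj_mem _ (Subgroup.inv_mem _ hfF) _)
  have h2 : f * (a : G) * f⁻¹ * (a : G)⁻¹ ∈ A :=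
    A.mul_mem ((Subgroup.mem_normalizer_iff.mp hfN (a : G)).mp a.2) (A.inv_mem a.2)
  have h3 : f * (a : G) * f⁻¹ * (a : G)⁻¹ = 1 := Subgroup.disjoint_def.mp hA.disjoint h1 h2
  calc f * (a : G) = (f * (a : G) * f⁻¹ * (a : G)⁻¹) * (a : G) * f := by group
    _ = (a : G) * f := by rw [h3, one_mul]

/-- Dedekind: `O_p(G) A ∩ N_G(A) = A`. -/
theorem ThreeData.mem_of_mem_sup (h : OneCore p G) {A : Subgroup G} (hA : ThreeData p A) {y : G}
    (hy : y ∈ Cfsg.pCore p G ⊔ A) (hyN : y ∈ normalizer (A : Set G)) : y ∈ A := by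
  haveI hFn : (Cfsg.pCore p G).Normal := Cfsg.Agent.Lib.Helper1.pCore_normal p G
  have hAF : A ≤ normalizer ((Cfsg.pCore p G : Subgroup G) : Set G) := by
    rw [Subgroup.normalizer_eq_top]; exact le_top
  obtain ⟨f, hf, a, ha, rfl⟩ := (Cfsg.Agent.Lib.Helper1.isComplIn_sup hAF hA.disjoint).2.2.2 y hy
  have hfN : f ∈ normalizer (A : Set G) := by
    have : f = (f * a) * a⁻¹ := by group
    rw [this]
    exact Subgroup.mul_mem _ hyN (Subgroup.inv_mem _ (Subgroup.le_normalizer ha))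
  have : f ∈ Cfsg.pCore p G ⊓ normalizer (A : Set G) := Subgroup.mem_inf.mpr ⟨hf, hfN⟩
  rw [hA.inf_normalizer h, Subgroup.mem_bot] at this
  rw [this, one_mul]; exact ha

/-- **(N3a)** a `p'`-subgroup of `N_G(A)` normalized by `N_G(A)` lies in `A`. -/
theorem ThreeData.le_of_normalized [Group.IsSolvable G] (h : OneCore p G) {A : Subgroup G}
    (hA : ThreeData p A) (Y : Subgroup G) (hYN : Y ≤ normalizer (A : Set G))
    (hnorm : normalizer (A : Set G) ≤ normalizer (Y : Set G)) (hYcop : (Nat.card Y).Coprime p) :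
    Y ≤ A := by
  set F := Cfsg.pCore p G with hFdef
  haveI hFn : F.Normal := Cfsg.Agent.Lib.Helper1.pCore_normal p G
  have hYF : Y ≤ normalizer (F : Set G) := by rw [Subgroup.normalizer_eq_top]; exact le_top
  have hmul : ∀ w ∈ F ⊔ Y, ∃ f ∈ F, ∃ y ∈ Y, f * y = w := by
    intro w hw
    rw [← SetLike.mem_coe, Subgroup.coe_mul_of_right_le_normalizer_left F Y hYF, Set.mem_mul] at hw
    exact hw
  have hnormal : (F ⊔ Y).Normal := by
    refine ⟨fun w hw g => ?_⟩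
    obtain ⟨f, hf, hfg⟩ := hA.exists_mul_mem_normalizer g
    obtain ⟨f₁, hf₁, y, hy, rfl⟩ := hmul w hw
    -- g = f⁻¹ (f g)
    set n := f * g with hn
    have hg : g = f⁻¹ * n := by rw [hn]; group
    have hny : n * y * n⁻¹ ∈ Y := (Subgroup.mem_normalizer_iff.mp (hnorm hfg) y).mp hy
    have e : g * (f₁ * y) * g⁻¹ = (g * f₁ * g⁻¹) * (f⁻¹ * (n * y * n⁻¹) * f) := by
      rw [hg]; group
    rw [e]
    apply Subgroup.mul_mem _ (Subgroup.mem_sup_left (hFn.conj_mem _ hf₁ g))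
    have e2 : f⁻¹ * (n * y * n⁻¹) * f = (f⁻¹ * (n * y * n⁻¹) * f * (n * y * n⁻¹)⁻¹) * (n * y * n⁻¹) := by
      group
    rw [e2]
    apply Subgroup.mul_mem _ (Subgroup.mem_sup_left _) (Subgroup.mem_sup_right hny)
    have e3 : f⁻¹ * (n * y * n⁻¹) * f * (n * y * n⁻¹)⁻¹
        = f⁻¹ * ((n * y * n⁻¹) * f * (n * y * n⁻¹)⁻¹) := by group
    rw [e3]
    exact Subgroup.mul_mem _ (Subgroup.inv_mem _ hf) (hFn.conj_mem _ hf _)
  have hrel : (F.relIndex (F ⊔ Y)).Coprime p := by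
    rw [Subgroup.relIndex_sup_left]
    exact Nat.Coprime.coprime_dvd_left (Subgroup.relIndex_dvd_card F Y) hYcop
  have hle := hA.max (F ⊔ Y) hnormal le_sup_left hrel
  intro y hy
  exact hA.mem_of_mem_sup h (hle (Subgroup.mem_sup_right hy)) (hYN hy)

end Cfsg.Agent.Lib.Helper8.SolvCN
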