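import Mathlib
import Cfsg.Agent.Lib.Helper8.SolvCN4

/-!
# Solvable CN-groups: the three-step structure (helper8)
-/

set_option autoImplicit false

namespace Cfsg.Agent.Lib.Helper8.SolvCN

open Subgroup
open scoped Pointwise

variable {G : Type*} [Group G] [Finite G]

/-- a normalizing element acts on a cyclic subgroup as a power map -/
theorem exists_zpow_of_mem_normalizer {A : Subgroup G} [hc : IsCyclic ↥A] {w : G}
    (hw : w ∈ normalizer (A : Set G)) : ∃ i : ℤ, ∀ a ∈ A, w * a * w⁻¹ = a ^ i := by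
  obtain ⟨g, hg⟩ := hc.exists_generator
  have hwg : w * (g : G) * w⁻¹ ∈ A := (Subgroup.mem_normalizer_iff.mp hw (g : G)).mp g.2
  obtain ⟨i, hi⟩ := Subgroup.mem_zpowers_iff.mp (hg ⟨_, hwg⟩)
  have hi' : (g : G) ^ i = w * (g : G) * w⁻¹ := by
    have := congrArg Subtype.val hi
    simpa using this
  refine ⟨i, fun a ha => ?_⟩
  obtain ⟨k, hk⟩ := Subgroup.mem_zpowers_iff.mp (hg ⟨a, ha⟩)
  have hk' : (g : G) ^ k = a := by
    have := congrArg Subtype.val hk
    simpa using this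
  rw [← hk', ← conj_zpow, ← hi', ← zpow_mul, ← zpow_mul, mul_comm]

/-- **(N3b)** commutators of elements of `N_G(A)` centralize the cyclic group `A` -/
theorem commutator_mem_centralizer {A : Subgroup G} [IsCyclic ↥A] {u v : G}
    (hu : u ∈ normalizer (A : Set G)) (hv : v ∈ normalizer (A : Set G)) :
    u * v * u⁻¹ * v⁻¹ ∈ centralizer (A : Set G) := by
  have hu' := Subgroup.inv_mem _ hu
  have hv' := Subgroup.inv_mem _ hv
  obtain ⟨i, hi⟩ := exists_zpow_of_mem_normalizer hu'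
  obtain ⟨j, hj⟩ := exists_zpow_of_mem_normalizer hv'
  rw [Subgroup.mem_centralizer_iff]
  intro a ha
  have h1 : u⁻¹ * (v⁻¹ * a * v⁻¹⁻¹) * u⁻¹⁻¹ = (a ^ i) ^ j := by
    rw [hj a ha, ← conj_zpow, hi a ha]
  have h2 : v⁻¹ * (u⁻¹ * a * u⁻¹⁻¹) * v⁻¹⁻¹ = (a ^ j) ^ i := by
    rw [hi a ha, ← conj_zpow, hj a ha]
  have h3 : u⁻¹ * (v⁻¹ * a * v⁻¹⁻¹) * u⁻¹⁻¹ = v⁻¹ * (u⁻¹ * a * u⁻¹⁻¹) * v⁻¹⁻¹ := by
    rw [h1, h2, ← zpow_mul, ← zpow_mul, mul_comm]
  have h4 : (u * v * u⁻¹ * v⁻¹) * a * (u * v * u⁻¹ * v⁻¹)⁻¹ = a := by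
    have e : (u * v * u⁻¹ * v⁻¹) * a * (u * v * u⁻¹ * v⁻¹)⁻¹
        = u * v * (u⁻¹ * (v⁻¹ * a * v⁻¹⁻¹) * u⁻¹⁻¹) * v⁻¹ * u⁻¹ := by group
    rw [e, h3]; group
  calc a * (u * v * u⁻¹ * v⁻¹)
      = ((u * v * u⁻¹ * v⁻¹) * a * (u * v * u⁻¹ * v⁻¹)⁻¹) * (u * v * u⁻¹ * v⁻¹) := by rw [h4]
    _ = (u * v * u⁻¹ * v⁻¹) * a := by group

variable {p : ℕ} [hp : Fact p.Prime]

/-- `|O_p(G)| |N_G(A)| = |G|` -/
theorem ThreeData.card_mul_card_normalizer [Group.IsSolvable G] (h : OneCore p G) {A : Subgroup G}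
    (hA : ThreeData p A) :
    Nat.card (Cfsg.pCore p G) * Nat.card (normalizer (A : Set G)) = Nat.card G := by
  have hc : Cfsg.Agent.Lib.Helper1.IsComplIn (Cfsg.pCore p G) (normalizer (A : Set G)) ⊤ := by
    refine ⟨le_top, le_top, ?_, ?_⟩
    · rw [disjoint_iff]; exact hA.inf_normalizer h
    · intro g _
      obtain ⟨f, hf, hfg⟩ := hA.exists_mul_mem_normalizer g
      exact ⟨f⁻¹, Subgroup.inv_mem _ hf, f * g, hfg, by group⟩
  rw [hc.card_mul_card, Subgroup.card_top]

theorem ThreeData.exists_orderOf_eq [Group.IsSolvable G] (h : OneCore p G) {A : Subgroup G}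
    (hA : ThreeData p A) (hidx : p ∣ (Cfsg.pCore p G).index) :
    ∃ x ∈ normalizer (A : Set G), orderOf x = p := by
  have h1 := hA.card_mul_card_normalizer h
  have h2 := (Cfsg.pCore p G).card_mul_index
  have h3 : Nat.card (normalizer (A : Set G)) = (Cfsg.pCore p G).index := by
    have hpos : 0 < Nat.card (Cfsg.pCore p G) := Nat.card_pos
    exact Nat.eq_of_mul_eq_mul_left hpos (h1.trans h2.symm)
  rw [← h3] at hidx
  obtain ⟨x, hx⟩ := exists_prime_orderOf_dvd_card' p hidx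
  exact ⟨x, x.2, by rw [← hx, Subgroup.orderOf_coe]⟩

theorem ThreeData.odd_card [Group.IsSolvable G] (h : OneCore p G) {A : Subgroup G}
    (hA : ThreeData p A) (hidx : p ∣ (Cfsg.pCore p G).index) : Odd (Nat.card A) := by
  haveI hFn : (Cfsg.pCore p G).Normal := Cfsg.Agent.Lib.Helper1.pCore_normal p G
  by_contra hodd
  rw [Nat.not_odd_iff_even] at hodd
  have h2 : 2 ∣ Nat.card A := hodd.two_dvd
  haveI : Fact (Nat.Prime 2) := ⟨Nat.prime_two⟩
  obtain ⟨t, ht⟩ := exists_prime_orderOf_dvd_card' 2 h2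
  have ht2 : orderOf (t : G) = 2 := by rw [Subgroup.orderOf_coe]; exact ht
  obtain ⟨x, hxN, hxp⟩ := hA.exists_orderOf_eq h hidx
  have hfpf := h.fpf_of_card_coprime A hA.cop
  have hp2 : p ≠ 2 := by
    intro hp2
    have hc := hA.cop
    rw [hp2] at hc
    have := Nat.Coprime.eq_one_of_dvd hc.symm h2
    omega
  have hconj : x * (t : G) * x⁻¹ ∈ A := (Subgroup.mem_normalizer_iff.mp hxN (t : G)).mp t.2
  have hconj2 : orderOf (x * (t : G) * x⁻¹) = 2 := by
    rw [← ht2]
    exact orderOf_injective (MulAut.conj x).toMonoidHom (MulAut.conj x).injective (t : G)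
  have heq := hfpf.involution_unique h.ne_bot hconj t.2 hconj2 ht2
  have hcomm : x * (t : G) = (t : G) * x := by
    calc x * (t : G) = (x * (t : G) * x⁻¹) * x := by group
      _ = (t : G) * x := by rw [heq]
  apply h.not_commute x (t : G) ?_ 1 ?_ ?_ ?_ hcomm
  · intro hx1; rw [hx1, orderOf_one] at hxp; exact hp.out.one_lt.ne hxp
  · rw [pow_one, ← hxp]; exact pow_orderOf_eq_one x
  · intro ht1; rw [ht1, orderOf_one] at ht2; omega
  · rw [ht2]; exact (Nat.coprime_primes Nat.prime_two hp.out).mpr (Ne.symm hp2)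

theorem ThreeData.isCyclic [Group.IsSolvable G] (h : OneCore p G) {A : Subgroup G}
    (hA : ThreeData p A) (hidx : p ∣ (Cfsg.pCore p G).index) : IsCyclic ↥A := by
  haveI hFn : (Cfsg.pCore p G).Normal := Cfsg.Agent.Lib.Helper1.pCore_normal p G
  have hfpf := h.fpf_of_card_coprime A hA.cop
  haveI : Group.IsNilpotent ↥A := hfpf.isNilpotent h.cn h.ne_bot inferInstance
  haveI : IsZGroup ↥A := hfpf.isZGroup_of_odd h.ne_bot (hA.odd_card h hidx)
  infer_instance

/-- `C_G(A) ∩ N_G(A) ≤ A` -/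
theorem ThreeData.centralizer_inf_le [Group.IsSolvable G] (h : OneCore p G) {A : Subgroup G}
    (hA : ThreeData p A) : centralizer (A : Set G) ⊓ normalizer (A : Set G) ≤ A := by
  apply hA.le_of_normalized h _ inf_le_right
  · intro n hn
    apply Cfsg.Agent.Lib.Helper1.mem_normalizer_of_forall_conj_mem
    intro c hc
    obtain ⟨hc1, hc2⟩ := Subgroup.mem_inf.mp hc
    refine Subgroup.mem_inf.mpr ⟨?_, ?_⟩
    · rw [Subgroup.mem_centralizer_iff]
      intro a ha
      have ha' : n⁻¹ * a * n ∈ A := by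
        have := (Subgroup.mem_normalizer_iff.mp (Subgroup.inv_mem _ hn) a).mp ha
        simpa using this
      have hcomm := (Subgroup.mem_centralizer_iff.mp hc1) _ ha'
      calc a * (n * c * n⁻¹) = n * ((n⁻¹ * a * n) * c) * n⁻¹ := by group
        _ = n * (c * (n⁻¹ * a * n)) * n⁻¹ := by rw [hcomm]
        _ = n * c * n⁻¹ * a := by group
    · exact Subgroup.mul_mem _ (Subgroup.mul_mem _ hn hc2) (Subgroup.inv_mem _ hn)
  · rw [Nat.coprime_comm, Nat.Prime.coprime_iff_not_dvd hp.out]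
    intro hdvd
    obtain ⟨z, hz⟩ := exists_prime_orderOf_dvd_card' p hdvd
    have hz' : orderOf (z : G) = p := by rw [Subgroup.orderOf_coe]; exact hz
    obtain ⟨a, ha1⟩ := (Subgroup.ne_bot_iff_exists_ne_one).mp hA.ne_bot
    have ha1' : (a : G) ≠ 1 := fun h => ha1 (Subtype.ext h)
    have hzc := (Subgroup.mem_inf.mp z.2).1
    have hcomm := (Subgroup.mem_centralizer_iff.mp hzc) (a : G) a.2
    apply h.not_commute (z : G) (a : G) ?_ 1 ?_ ha1' ?_ hcomm.symm
    · intro hz1; rw [hz1, orderOf_one] at hz'; exact hp.out.one_lt.ne hz'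
    · rw [pow_one, ← hz']; exact pow_orderOf_eq_one _
    · have hdvd : orderOf (a : G) ∣ Nat.card A := by
        have := orderOf_dvd_natCard a
        rwa [← Subgroup.orderOf_coe] at this
      exact Nat.Coprime.coprime_dvd_left hdvd hA.cop

/-- **(N3)** every `p'`-element of `N_G(A)` lies in `A` -/
theorem ThreeData.mem_of_coprime [Group.IsSolvable G] (h : OneCore p G) {A : Subgroup G}
    (hA : ThreeData p A) [IsCyclic ↥A] {y : G} (hyN : y ∈ normalizer (A : Set G))
    (hy : (orderOf y).Coprime p) : y ∈ A := by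
  have hzN : zpowers y ≤ normalizer (A : Set G) := Subgroup.zpowers_le.mpr hyN
  have hle : A ⊔ zpowers y ≤ A := by
    apply hA.le_of_normalized h _ (sup_le Subgroup.le_normalizer hzN)
    · intro n hn
      apply Cfsg.Agent.Lib.Helper1.mem_normalizer_of_forall_conj_mem
      have hcomap : A ⊔ zpowers y ≤ (A ⊔ zpowers y).comap (MulAut.conj n).toMonoidHom := by
        apply sup_le
        · intro a ha
          rw [Subgroup.mem_comap]
          apply Subgroup.mem_sup_left
          simpa using (Subgroup.mem_normalizer_iff.mp hn a).mp ha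
        · rw [Subgroup.zpowers_le, Subgroup.mem_comap]
          have hc : n * y * n⁻¹ * y⁻¹ ∈ A := hA.centralizer_inf_le h
            (Subgroup.mem_inf.mpr ⟨commutator_mem_centralizer hn hyN,
              Subgroup.mul_mem _ (Subgroup.mul_mem _ (Subgroup.mul_mem _ hn hyN)
                (Subgroup.inv_mem _ hn)) (Subgroup.inv_mem _ hyN)⟩)
          have e : (MulAut.conj n).toMonoidHom y = (n * y * n⁻¹ * y⁻¹) * y := by
            simp [MulAut.conj_apply]
          rw [e]
          exact Subgroup.mul_mem _ (Subgroup.mem_sup_left hc)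
            (Subgroup.mem_sup_right (Subgroup.mem_zpowers y))
      intro w hw
      have := hcomap hw
      rw [Subgroup.mem_comap] at this
      simpa using this
    · have hdvd := card_sup_dvd_of_le_normalizer A (zpowers y) hzN
      apply Nat.Coprime.coprime_dvd_left hdvd
      apply Nat.Coprime.mul_left hA.cop
      rw [Nat.card_zpowers]; exact hy
  exact hle (Subgroup.mem_sup_right (Subgroup.mem_zpowers y))

/-- **(N4)** `|G : O_p(G) A|` is a power of `p` -/
theorem ThreeData.index_eq [Group.IsSolvable G] (h : OneCore p G) {A : Subgroup G}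
    (hA : ThreeData p A) [IsCyclic ↥A] : ∃ n : ℕ, (Cfsg.pCore p G ⊔ A).index = p ^ n := by
  haveI hFn : (Cfsg.pCore p G).Normal := Cfsg.Agent.Lib.Helper1.pCore_normal p G
  haveI : (A.subgroupOf (normalizer (A : Set G))).Normal := Subgroup.normal_in_normalizer
  have hP : IsPGroup p (↥(normalizer (A : Set G)) ⧸ A.subgroupOf (normalizer (A : Set G))) := by
    intro q
    induction q using QuotientGroup.induction_on with
    | H n =>
      have hn : orderOf (n : G) ≠ 0 := (orderOf_pos _).ne'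
      obtain ⟨k, m, hm, hkm⟩ := Nat.exists_eq_pow_mul_and_not_dvd hn p hp.out.ne_one
      refine ⟨k, ?_⟩
      rw [← QuotientGroup.mk_pow, QuotientGroup.eq_one_iff, Subgroup.mem_subgroupOf]
      have e : ((n ^ p ^ k : ↥(normalizer (A : Set G))) : G) = (n : G) ^ p ^ k := by simp
      rw [e]
      apply hA.mem_of_coprime h (Subgroup.pow_mem _ n.2 _)
      have hd : orderOf ((n : G) ^ p ^ k) ∣ m :=
        orderOf_dvd_of_pow_eq_one (by rw [← pow_mul, ← hkm, pow_orderOf_eq_one])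
      exact Nat.Coprime.coprime_dvd_left hd ((Nat.Prime.coprime_iff_not_dvd hp.out).mpr hm).symm
  obtain ⟨n, hn⟩ := IsPGroup.iff_card.mp hP
  refine ⟨n, ?_⟩
  rw [← hn]
  have h1 : Nat.card (↥(normalizer (A : Set G)) ⧸ A.subgroupOf (normalizer (A : Set G)))
      = A.relIndex (normalizer (A : Set G)) := rfl
  have hAF : A ≤ normalizer ((Cfsg.pCore p G : Subgroup G) : Set G) := by
    rw [Subgroup.normalizer_eq_top]; exact le_top
  have e1 := card_mul_relIndex_of_le (Subgroup.le_normalizer (H := A))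
  have e2 := hA.card_mul_card_normalizer h
  have e3 := (Cfsg.Agent.Lib.Helper1.isComplIn_sup hAF hA.disjoint).card_mul_card
  have e4 := (Cfsg.pCore p G ⊔ A).card_mul_index
  have hpos : 0 < Nat.card (Cfsg.pCore p G) * Nat.card A := Nat.mul_pos Nat.card_pos Nat.card_pos
  apply Nat.eq_of_mul_eq_mul_left hpos
  calc Nat.card (Cfsg.pCore p G) * Nat.card A * (Cfsg.pCore p G ⊔ A).index
      = Nat.card ↥(Cfsg.pCore p G ⊔ A) * (Cfsg.pCore p G ⊔ A).index := by rw [e3]
    _ = Nat.card G := e4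
    _ = Nat.card (Cfsg.pCore p G) * Nat.card (normalizer (A : Set G)) := e2.symm
    _ = Nat.card (Cfsg.pCore p G) * (Nat.card A * A.relIndex (normalizer (A : Set G))) := by rw [e1]
    _ = Nat.card (Cfsg.pCore p G) * Nat.card A *
        Nat.card (↥(normalizer (A : Set G)) ⧸ A.subgroupOf (normalizer (A : Set G))) := by
      rw [h1, mul_assoc]

/-- **(N5)** `O_p(G) A` is proper when `p` divides `|G : O_p(G)|` -/
theorem ThreeData.sup_ne_top {A : Subgroup G} (hA : ThreeData p A)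
    (hidx : p ∣ (Cfsg.pCore p G).index) : Cfsg.pCore p G ⊔ A ≠ ⊤ := by
  haveI hFn : (Cfsg.pCore p G).Normal := Cfsg.Agent.Lib.Helper1.pCore_normal p G
  intro htop
  have hAF : A ≤ normalizer ((Cfsg.pCore p G : Subgroup G) : Set G) := by
    rw [Subgroup.normalizer_eq_top]; exact le_top
  have e3 := (Cfsg.Agent.Lib.Helper1.isComplIn_sup hAF hA.disjoint).card_mul_card
  rw [htop, Subgroup.card_top] at e3
  have e4 := (Cfsg.pCore p G).card_mul_index
  have : (Cfsg.pCore p G).index = Nat.card A :=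
    Nat.eq_of_mul_eq_mul_left Nat.card_pos (e4.trans e3.symm)
  rw [this] at hidx
  exact (Nat.Prime.coprime_iff_not_dvd hp.out).mp hA.cop.symm hidx

/-- **(N6)** no element outside `O_p(G) A` centralizes a nonidentity element of `A` modulo `O_p(G)` -/
theorem ThreeData.commutator_not_mem [Group.IsSolvable G] (h : OneCore p G) {A : Subgroup G}
    (hA : ThreeData p A) [IsCyclic ↥A] {x a : G} (hx : x ∉ Cfsg.pCore p G ⊔ A) (ha : a ∈ A)
    (ha1 : a ≠ 1) : x * a * x⁻¹ * a⁻¹ ∉ Cfsg.pCore p G := by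
  haveI hFn : (Cfsg.pCore p G).Normal := Cfsg.Agent.Lib.Helper1.pCore_normal p G
  intro hmem
  obtain ⟨f, hf, hfx⟩ := hA.exists_mul_mem_normalizer x
  obtain ⟨n, hn⟩ : ∃ n, n = f * x := ⟨_, rfl⟩
  rw [← hn] at hfx
  have hxn : x = f⁻¹ * n := by rw [hn]; group
  have ha' : n * a * n⁻¹ ∈ A := (Subgroup.mem_normalizer_iff.mp hfx a).mp ha
  have h1 : f⁻¹ * (n * a * n⁻¹) * f * (n * a * n⁻¹)⁻¹ ∈ Cfsg.pCore p G := by
    have e : f⁻¹ * (n * a * n⁻¹) * f * (n * a * n⁻¹)⁻¹
        = f⁻¹ * ((n * a * n⁻¹) * f * (n * a * n⁻¹)⁻¹) := by group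
    rw [e]
    exact Subgroup.mul_mem _ (Subgroup.inv_mem _ hf) (hFn.conj_mem _ hf _)
  have h2 : (n * a * n⁻¹) * a⁻¹ ∈ Cfsg.pCore p G := by
    have e : (n * a * n⁻¹) * a⁻¹
        = (f⁻¹ * (n * a * n⁻¹) * f * (n * a * n⁻¹)⁻¹)⁻¹ * (x * a * x⁻¹ * a⁻¹) := by
      rw [hxn]; group
    rw [e]
    exact Subgroup.mul_mem _ (Subgroup.inv_mem _ h1) hmem
  have h3 : (n * a * n⁻¹) * a⁻¹ = 1 :=
    Subgroup.disjoint_def.mp hA.disjoint h2 (A.mul_mem ha' (A.inv_mem ha))
  have hna : n * a = a * n := by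
    calc n * a = ((n * a * n⁻¹) * a⁻¹) * a * n := by group
      _ = a * n := by rw [h3, one_mul]
  have hnA : n ∈ A := by
    have hcen : zpowers n ≤ centralizer ({a} : Set G) := by
      rw [Subgroup.zpowers_le, mem_centralizer_singleton_iff]; exact hna
    have haord : (orderOf a).Coprime p := by
      have hdvd : orderOf a ∣ Nat.card A := by
        have := orderOf_dvd_natCard (⟨a, ha⟩ : ↥A)
        rwa [Subgroup.orderOf_mk] at this
      exact Nat.Coprime.coprime_dvd_left hdvd hA.cop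
    apply Cfsg.Agent.Lib.Helper10.mem_of_parts_mem p A n
    · intro k y hy hyk
      by_contra hyA
      have hy1 : y ≠ 1 := fun h1 => hyA (h1 ▸ A.one_mem)
      have hya : y * a = a * y := mem_centralizer_singleton_iff.mp (hcen hy)
      exact h.not_commute y a hy1 k hyk ha1 haord hya
    · intro y hy hyc
      exact hA.mem_of_coprime h ((Subgroup.zpowers_le.mpr hfx) hy) hyc
  apply hx
  rw [hxn]
  exact Subgroup.mul_mem _ (Subgroup.mem_sup_left (Subgroup.inv_mem _ hf))
    (Subgroup.mem_sup_right hnA)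

/-- a solvable CN-group with `F(G) = O_p(G)` self-centralizing and not a Sylow subgroup is a
three-step group -/
theorem OneCore.isThreeStepGroup [Group.IsSolvable G] (h : OneCore p G)
    (hidx : p ∣ (Cfsg.pCore p G).index) : Cfsg.IsThreeStepGroup p G := by
  have hne : Cfsg.pCore p G ≠ ⊤ := by
    intro htop
    rw [htop, Subgroup.index_top] at hidx
    exact hp.out.one_lt.ne' (Nat.dvd_one.mp hidx)
  obtain ⟨A, hA⟩ := exists_threeData (p := p) hne
  haveI := hA.isCyclic h hidx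
  refine ⟨h.ne_bot, A, hA.ne_bot, inferInstance, hA.odd_card h hidx, hA.cop, hA.normal,
    hA.sup_ne_top hidx, hA.index_eq h, ?_, ?_⟩
  · exact h.fpf_of_card_coprime A hA.cop
  · intro x hx a ha ha1
    exact hA.commutator_not_mem h hx ha ha1

end Cfsg.Agent.Lib.Helper8.SolvCN
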