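/-
helper8: B&G section 11, part 5: 11.5 (Sylow p-subgroups abelian; helper24's `sylow_comm`), 11.6 (helper24 BGExD),
`M_σ ≠ 1`, and aliases with the exact names/signatures of notes/bg11/Skeleton.lean.
-/
import Mathlib
import Cfsg.Agent.Lib.Helper8.BGEx4
import Cfsg.Agent.Lib.Helper24.BGExB
import Cfsg.Agent.Lib.Helper24.BGExD
import Cfsg.Agent.Lib.Helper2.BGCorD
import Cfsg.Agent.S1403

set_option autoImplicit false

namespace Cfsg.Agent.Lib.Helper8.BGEx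

open Cfsg Subgroup
open Cfsg.Agent.Lib.Helper8

variable {G : Type*} [Group G] [Finite G] {M : Subgroup G} {p : ℕ} {A A₀ : Subgroup G}

theorem sigmaCore_ne_bot_of_coatom (hG : Cfsg.IsMinSimpleOddOrder G) (hM : IsCoatom M) :
    Cfsg.sigmaCore M ≠ ⊥ :=
  Cfsg.Agent.Lib.Helper2.BGCor.sigmaCore_ne_bot hG
    (fun K hK h2 h3 => Cfsg.Agent.S1403.result hG K hK h2 h3) hM (Cfsg.Agent.S1350.result hG M hM).1

variable (hG : Cfsg.IsMinSimpleOddOrder G)
include hG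

theorem Exc.sigmaCore_ne_bot (h : Exc M p A A₀) : Cfsg.sigmaCore M ≠ ⊥ :=
  sigmaCore_ne_bot_of_coatom hG h.coatom

/-- 11.2 (Skeleton form). -/
theorem Exc.sigmaCore_inf_conj (h : Exc M p A A₀) (x : G) (hx : x ∉ M) (hA : A ≤ cj x M) :
    Cfsg.sigmaCore M ⊓ cj x M = ⊥ ∧ Cfsg.sigmaCore M ⊓ centralizer (cj x A₀ : Set G) = ⊥ :=
  ⟨h.sigmaCore_inf_cj hG hx hA, h.sigmaCore_inf_centralizer_cj hG hx hA⟩

/-- fixed point lemma (Skeleton form). -/
theorem Exc.fpf_of_conj_fixed (h : Exc M p A A₀) (x : G) (hx : x ∉ M) (hA : A ≤ cj x M) (B : Subgroup G)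
    (hB : B ≤ A) (hB1 : B ≠ ⊥) (hfix : cj x B = B) :
    Cfsg.sigmaCore M ⊓ centralizer (B : Set G) = ⊥ :=
  h.fpf_of_cj_fixed hG hx hA hB hB1 hfix

/-- **Lemma 11.5**: Sylow `p`-subgroups of `M` are abelian. -/
theorem Exc.sylow_comm (h : Exc M p A A₀) [Fact p.Prime] (P : Sylow p M) :
    IsMulCommutative (P : Subgroup M) :=
  Cfsg.Agent.Lib.Helper24.BGExB.sylow_comm hG h (h.maxElem hG) h.centralizer_le (h.sigmaCore_ne_bot hG)
    (fun x hx hA => h.sigmaCore_inf_centralizer_cj hG hx hA)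
    (fun x hx hA B hB hB1 hfix => h.fpf_of_cj_fixed hG hx hA hB hB1 hfix) P

/-- 11.6(a) -/
theorem Exc.omega (h : Exc M p A A₀) [Fact p.Prime] (P : Sylow p M)
    (hAP : A ≤ (P : Subgroup M).map M.subtype) :
    ∀ x ∈ (P : Subgroup M).map M.subtype, x ^ p = 1 ↔ x ∈ A :=
  Cfsg.Agent.Lib.Helper24.BGExD.omega_of_comm h (h.maxElem hG) P (h.sylow_comm hG P) hAP

theorem Exc.normalizer_sylow_le (h : Exc M p A A₀) [Fact p.Prime] (P : Sylow p M)
    (hAP : A ≤ (P : Subgroup M).map M.subtype) :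
    normalizer (((P : Subgroup M).map M.subtype : Subgroup G) : Set G) ≤ normalizer (A : Set G) :=
  Cfsg.Agent.Lib.Helper24.BGExD.normalizer_sylow_le_of_comm h (h.maxElem hG) P (h.sylow_comm hG P) hAP

theorem Exc.normalizer_sylow_not_le (h : Exc M p A A₀) [Fact p.Prime] (P : Sylow p M) :
    ¬ normalizer (((P : Subgroup M).map M.subtype : Subgroup G) : Set G) ≤ M :=
  (not_mem_sigma_iff h.dvd_card).1 h.not_sigma _ (sylow_map_subtype_isSylIn P)

theorem Exc.normalizer_not_le (h : Exc M p A A₀) : ¬ normalizer (A : Set G) ≤ M := by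
  haveI := h.fact
  exact Cfsg.Agent.Lib.Helper24.BGExD.normalizer_not_le_of_comm h (h.maxElem hG)
    (fun P => h.sylow_comm hG P)

/-- 11.6(c): at least two points of `A` act fixed-point-freely on `M_σ`. -/
theorem Exc.two_fpf (h : Exc M p A A₀) :
    ∃ X₁ X₂ : Subgroup G, X₁ ≤ A ∧ X₂ ≤ A ∧ Nat.card X₁ = p ∧ Nat.card X₂ = p ∧ X₁ ≠ X₂ ∧
      Cfsg.sigmaCore M ⊓ centralizer (X₁ : Set G) = ⊥ ∧
      Cfsg.sigmaCore M ⊓ centralizer (X₂ : Set G) = ⊥ :=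
  Cfsg.Agent.Lib.Helper24.BGExD.two_fpf_of hG h
    (fun x hx hA => h.sigmaCore_inf_centralizer_cj hG hx hA) (h.normalizer_not_le hG)

end Cfsg.Agent.Lib.Helper8.BGEx
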