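import Mathlib
import Cfsg.Agent.Lib.Helper12.BSFDeg

/-!
helper8: variant of helper12's `BSF.core` (degree equation from lead's Brauer-Leonard theorem for a
self-centralizing Sylow subgroup of prime order `p` with `|N(P)| = p m`, `m` prime) WITHOUT the
hypothesis `m + 2 ≤ (p - 1) / m`; the integer `d` is kept in the equations.
-/

set_option autoImplicit false
set_option linter.style.haveILetI false
set_option linter.unusedSectionVars false

namespace Cfsg.Agent.Lib.Helper8.BSFGen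

open Cfsg Cfsg.Agent.CharLib Cfsg.Agent.Lib.Helper24 Cfsg.Agent.Lib.Helper6
open Cfsg.Agent.Lib.Helper12.BSF
open scoped ComplexConjugate

universe u

variable {G : Type u} [Group G] [Finite G]

/-- **Degree equation** for a self-centralizing Sylow subgroup `P` of prime order `p` with
`|N_G(P)| = p * m`, `m` prime, `m + 1 < p`; `t = (p-1)/m`. -/
theorem core_gen (p : ℕ) [hp : Fact p.Prime] (P : Sylow p G)
    (hP : Nat.card (P : Subgroup G) = p)
    (hC : Subgroup.centralizer ((P : Subgroup G) : Set G) = (P : Subgroup G))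
    (m : ℕ) (hmp : m.Prime) (hm2 : m + 1 < p)
    (hN : Nat.card (Subgroup.normalizer ((P : Subgroup G) : Set G)) = p * m) :
    ∃ (X : Finset (IrrCharacter G)) (a : IrrCharacter G → ℤ) (η : IrrCharacter G) (d δ : ℤ),
      (δ = 1 ∨ δ = -1) ∧ X.card + 1 ≤ m ∧ (∀ χ ∈ X, (χ : G → ℂ) ≠ fun _ => 1) ∧
      (∀ χ ∈ X, a χ ≠ 0) ∧
      (d - δ) ^ 2 + ((((p - 1) / m : ℕ) : ℤ) - 1) * d ^ 2 + ∑ χ ∈ X, a χ ^ 2 = (m : ℤ) ∧
      (∀ χ ∈ X, (p : ℤ) ∣ (charDegree (χ : G → ℂ) : ℤ) - a χ) ∧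
      ((((p - 1) / m : ℕ) : ℤ) * d - δ) * (charDegree (η : G → ℂ) : ℤ) + 1 +
        ∑ χ ∈ X, a χ * (charDegree (χ : G → ℂ) : ℤ) = 0 := by
  classical
  have hpp : p.Prime := hp.out
  obtain ⟨M, hM⟩ := exists_isPModular p
  have hPc : Nat.card P = p := hP
  have hcyc0 : IsCyclic ↥(P : Subgroup G) := isCyclic_of_prime_card hP
  have hab : IsMulCommutative P := IsCyclic.isMulCommutative
  have hm1 : 1 < m := hmp.one_lt
  have hm2' : m + 1 < Nat.card P := by rw [hPc]; exact hm2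
  have hCleN : Subgroup.centralizer ((P : Subgroup G) : Set G) ≤
      Subgroup.normalizer ((P : Subgroup G) : Set G) := Subgroup.centralizer_le_normalizer _
  have hCN : (Subgroup.centralizer ((P : Subgroup G) : Set G)).relIndex
      (Subgroup.normalizer ((P : Subgroup G) : Set G)) = m := by
    have h1 := Subgroup.relIndex_mul_relIndex (⊥ : Subgroup G)
      (Subgroup.centralizer ((P : Subgroup G) : Set G))
      (Subgroup.normalizer ((P : Subgroup G) : Set G)) bot_le hCleN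
    have hCcard : Nat.card (Subgroup.centralizer ((P : Subgroup G) : Set G)) = p := by
      rw [hC]; exact hP
    rw [Subgroup.relIndex_bot_left, Subgroup.relIndex_bot_left, hN, hCcard] at h1
    exact Nat.eq_of_mul_eq_mul_left hpp.pos h1
  have hcyc := exists_cyc_of_relIndex_prime _ _ hCleN m hmp hCN
  have hfrob : ∀ y : G, y ∈ (P : Subgroup G) → y ≠ 1 →
      Subgroup.centralizer ({y} : Set G) ⊓ Subgroup.normalizer ((P : Subgroup G) : Set G) =
        Subgroup.centralizer ((P : Subgroup G) : Set G) := by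
    intro y hy hy1
    apply le_antisymm
    · intro g hg
      have hgy : g ∈ Subgroup.centralizer ({y} : Set G) := hg.1
      rw [Subgroup.mem_centralizer_singleton_iff] at hgy
      rw [Subgroup.mem_centralizer_iff]
      intro h hh
      have hz := le_zpowers_of_card_prime p (P : Subgroup G) hP y hy hy1 hh
      obtain ⟨k, rfl⟩ := Subgroup.mem_zpowers_iff.mp hz
      have hc : Commute g y := hgy
      exact ((hc.zpow_right k).eq).symm
    · apply le_inf _ hCleN
      intro g hg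
      rw [Subgroup.mem_centralizer_singleton_iff]
      rw [Subgroup.mem_centralizer_iff] at hg
      exact (hg y hy).symm
  obtain ⟨s, X, Y, hsm, -, -, hXs, hYr, ⟨χ₁, hχ₁X, hχ₁⟩, a, d, δ, ζ, hδ, hX, -, -, -, -,
    hnorm, -, hdeg⟩ := Cfsg.Agent.CharLib.brauer_leonard_main p M hM P hab m hm1 hm2' hCN hcyc hfrob
  -- a non-identity element of P
  have hnt : Nontrivial ↥(P : Subgroup G) := by
    haveI : Finite ↥(P : Subgroup G) := inferInstance
    rw [← Finite.one_lt_card_iff_nontrivial, hP]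
    exact hpp.one_lt
  obtain ⟨y₀, hy₀⟩ := exists_ne (1 : ↥(P : Subgroup G))
  -- values on P minus 1
  have hval : ∀ χ ∈ X, ∀ y : ↥(P : Subgroup G), y ≠ 1 → (χ : G → ℂ) (y : G) = (a χ : ℂ) := by
    intro χ hχ y hy
    have hy1 : (y : G) ≠ 1 := fun h => hy (Subtype.ext h)
    refine (hX χ hχ).2 (y : G) (y : G) ?_ y.2 hy1
    refine ⟨1, mul_one _, Commute.one_right _, ⟨1, ?_⟩, ?_⟩
    · rw [pow_one]
      exact orderOf_eq_of_card_prime p (P : Subgroup G) hP (y : G) y.2 hy1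
    · rw [orderOf_one]
      exact hpp.one_lt.ne' ∘ Nat.dvd_one.mp
  -- a χ₁ = 1
  have ha1 : a χ₁ = 1 := by
    have h1 := hval χ₁ hχ₁X y₀ hy₀
    rw [hχ₁] at h1
    have h2 : ((a χ₁ : ℤ) : ℂ) = ((1 : ℤ) : ℂ) := by rw [← h1]; simp
    exact_mod_cast h2
  -- congruences
  have hcong : ∀ χ ∈ X, (p : ℤ) ∣ (charDegree (χ : G → ℂ) : ℤ) - a χ := by
    intro χ hχ
    haveI : Fintype ↥(P : Subgroup G) := Fintype.ofFinite _
    obtain ⟨n, hn⟩ := sum_subgroup_irr (P : Subgroup G) χ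
    have hcardF : Fintype.card ↥(P : Subgroup G) = p := by
      rw [← Nat.card_eq_fintype_card, hP]
    rw [← Finset.add_sum_erase Finset.univ _ (Finset.mem_univ (1 : ↥(P : Subgroup G)))] at hn
    have h1 : ∀ y ∈ Finset.univ.erase (1 : ↥(P : Subgroup G)),
        (χ : G → ℂ) (y : G) = (a χ : ℂ) := fun y hy => hval χ hχ y (Finset.ne_of_mem_erase hy)
    rw [Finset.sum_congr rfl h1, Finset.sum_const, Finset.card_erase_of_mem (Finset.mem_univ _),
      Finset.card_univ, nsmul_eq_mul, hcardF] at hn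
    have h2 : (χ : G → ℂ) ((1 : ↥(P : Subgroup G)) : G) = (charDegree (χ : G → ℂ) : ℂ) := by
      rw [Subgroup.coe_one, irr_apply_one]
    rw [h2] at hn
    refine ⟨(n : ℤ) - a χ, ?_⟩
    have h3 : (((charDegree (χ : G → ℂ) : ℤ) - a χ : ℤ) : ℂ) =
        (((p : ℤ) * ((n : ℤ) - a χ) : ℤ) : ℂ) := by
      push_cast
      rw [Nat.cast_sub hpp.pos] at hn
      push_cast at hn
      linear_combination hn
    exact_mod_cast h3
  -- finite set X
  have hXfin : X.Finite := Set.toFinite X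
  set XF : Finset (IrrCharacter G) := hXfin.toFinset with hXF
  have hmemXF : ∀ χ, χ ∈ XF ↔ χ ∈ X := fun χ => Set.Finite.mem_toFinset hXfin
  have hχ₁XF : χ₁ ∈ XF := (hmemXF χ₁).mpr hχ₁X
  have hXFcard : XF.card = s := by
    rw [← hXs, Nat.card_coe_set_eq, Set.ncard_eq_toFinset_card X hXfin]
  -- norm equation
  rw [finsum_mem_eq_finite_toFinset_sum _ hXfin] at hnorm
  have hr : ((Nat.card P : ℤ) - 1) / (m : ℤ) = (((p - 1) / m : ℕ) : ℤ) := by
    rw [hPc, Int.natCast_div, Nat.cast_sub hpp.pos]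
    simp
  rw [hr] at hnorm
  have hsplit : ∑ χ ∈ XF, a χ ^ 2 = 1 + ∑ χ ∈ XF.erase χ₁, a χ ^ 2 := by
    rw [← Finset.add_sum_erase XF _ hχ₁XF, ha1]
    norm_num
  -- Y nonempty
  have hYne : Nonempty ↥Y := by
    have h1 : Nat.card ↥Y ≠ 0 := by
      rw [hYr, hPc]
      have : 1 ≤ (p - 1) / m := by
        rw [Nat.le_div_iff_mul_le (by omega)]
        omega
      omega
    exact (Nat.card_ne_zero.mp h1).1
  obtain ⟨⟨η, hη⟩⟩ := hYne
  have hdeg1 := hdeg η hη 1 (by rw [orderOf_one]; exact hpp.one_lt.ne' ∘ Nat.dvd_one.mp)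
  rw [finsum_mem_eq_finite_toFinset_sum _ hXfin, hPc] at hdeg1
  rw [← Finset.add_sum_erase XF _ hχ₁XF, ha1, hχ₁] at hdeg1
  have hdeg2 : ∑ χ ∈ XF.erase χ₁, (a χ : ℂ) * (χ : G → ℂ) 1 =
      ((∑ χ ∈ XF.erase χ₁, a χ * (charDegree (χ : G → ℂ) : ℤ) : ℤ) : ℂ) := by
    push_cast
    apply Finset.sum_congr rfl
    intro χ _
    rw [irr_apply_one]
  rw [hdeg2, irr_apply_one] at hdeg1
  clear hr
  generalize (p - 1) / m = t at hdeg1 hnorm ⊢
  refine ⟨XF.erase χ₁, a, η, d, δ, hδ, ?_, ?_, ?_, ?_, ?_, ?_⟩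
  · rw [Finset.card_erase_of_mem hχ₁XF, hXFcard]
    have : 0 < s := by rw [← hXFcard]; exact Finset.card_pos.mpr ⟨χ₁, hχ₁XF⟩
    omega
  · intro χ hχ hχ1
    apply Finset.ne_of_mem_erase hχ
    apply Subtype.ext
    rw [hχ1, hχ₁]
  · intro χ hχ
    exact (hX χ ((hmemXF χ).mp (Finset.mem_of_mem_erase hχ))).1
  · rw [hsplit] at hnorm
    linarith
  · intro χ hχ
    exact hcong χ ((hmemXF χ).mp (Finset.mem_of_mem_erase hχ))
  · have h4 : ((((t : ℤ) * d - δ) * (charDegree (η : G → ℂ) : ℤ) + 1 +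
        ∑ χ ∈ XF.erase χ₁, a χ * (charDegree (χ : G → ℂ) : ℤ) : ℤ) : ℂ) = ((0 : ℤ) : ℂ) := by
      push_cast
      push_cast at hdeg1
      linear_combination hdeg1
    exact_mod_cast h4

end Cfsg.Agent.Lib.Helper8.BSFGen
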