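import Mathlib
import Cfsg.Agent.Lib.Helper8.OrdSieveB

/-!
Order sieve for non-abelian simple groups, part C: the Boolean sieve `sieveOK` and its soundness
(helper8).  `sieveOK n = true` implies that there is no non-abelian finite simple group of order `n`.
All Boolean functions are written so that the kernel can evaluate them quickly (`decide +kernel`).
-/

set_option autoImplicit false
set_option linter.style.haveILetI false

namespace Cfsg.Agent.Lib.Helper8.OrdSieve

open Cfsg.Agent.Lib.Helper7

/-! ### Boolean arithmetic -/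

/-- trial-division primality -/
def primeB (p : ℕ) : Bool :=
  decide (2 ≤ p) && (List.range p).all fun d => decide (d < 2) || decide (p % d ≠ 0)

theorem prime_of_primeB {p : ℕ} (h : primeB p = true) : p.Prime := by
  unfold primeB at h
  rw [Bool.and_eq_true, decide_eq_true_eq, List.all_eq_true] at h
  obtain ⟨h2, hall⟩ := h
  rw [Nat.prime_def_lt]
  refine ⟨h2, fun m hm hmp => ?_⟩
  have h3 := hall m (List.mem_range.mpr hm)
  rw [Bool.or_eq_true, decide_eq_true_eq, decide_eq_true_eq] at h3
  rcases h3 with h3 | h3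
  · have : m ≠ 0 := by
      rintro rfl
      rw [zero_dvd_iff] at hmp
      omega
    omega
  · exact absurd (Nat.mod_eq_zero_of_dvd hmp) h3

/-- the positive divisors of `m` -/
def divs (m : ℕ) : List ℕ :=
  (List.range (m + 1)).filter fun d => decide (0 < d) && decide (m % d = 0)

theorem mem_divs {m d : ℕ} (hm : 0 < m) (hd : d ∣ m) : d ∈ divs m := by
  unfold divs
  rw [List.mem_filter, List.mem_range, Bool.and_eq_true, decide_eq_true_eq, decide_eq_true_eq]
  have hd0 : 0 < d := Nat.pos_of_dvd_of_pos hd hm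
  exact ⟨Nat.lt_succ_of_le (Nat.le_of_dvd hm hd), hd0, Nat.mod_eq_zero_of_dvd hd⟩

/-- `splitAux p f m = (a, m')` with `m = p^a m'` (if the fuel suffices, `p ∤ m'`) -/
def splitAux (p : ℕ) : ℕ → ℕ → ℕ × ℕ
  | 0, m => (0, m)
  | f + 1, m =>
    if m % p = 0 ∧ m ≠ 0 then ((splitAux p f (m / p)).1 + 1, (splitAux p f (m / p)).2) else (0, m)

/-- the `p`-part exponent and the `p'`-part of `n` (certified by a later Boolean check) -/
def split (p n : ℕ) : ℕ × ℕ := splitAux p 40 n

/-- `(j!/2) mod n`, computed with small numbers -/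
def hfm (n : ℕ) : ℕ → ℕ
  | 0 => 0 % n
  | 1 => 0 % n
  | 2 => 1 % n
  | j + 3 => (j + 3) * hfm n (j + 2) % n

theorem even_factorial {j : ℕ} (hj : 2 ≤ j) : 2 ∣ j.factorial :=
  Nat.dvd_factorial (by norm_num) hj

theorem hfm_eq (n j : ℕ) : hfm n j = (j.factorial / 2) % n := by
  induction j using Nat.strongRecOn with
  | _ j ih =>
    match j, ih with
    | 0, _ => simp [hfm]
    | 1, _ => simp [hfm]
    | 2, _ => simp [hfm, Nat.factorial]
    | j + 3, ih =>
      have h1 := ih (j + 2) (by omega)
      obtain ⟨c, hc⟩ := even_factorial (j := j + 2) (by omega)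
      have h2 : (j + 3).factorial / 2 = (j + 3) * ((j + 2).factorial / 2) := by
        rw [Nat.factorial_succ (j + 2), hc]
        rw [show (j + 2 + 1) * (2 * c) = 2 * ((j + 3) * c) by ring,
          Nat.mul_div_cancel_left _ (by norm_num), Nat.mul_div_cancel_left _ (by norm_num)]
      show (j + 3) * hfm n (j + 2) % n = _
      rw [h1, h2, Nat.mul_mod, Nat.mod_mod, ← Nat.mul_mod]

/-- necessary condition for a proper subgroup of index `j` in a simple group of order `n` -/
def idxOK (n j : ℕ) : Bool :=
  decide (hfm n j = 0) && (!primeB j || decide (n % (j * (j - 1)) = 0))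

/-- necessary conditions on the number `d` of Sylow `p`-subgroups (`n = p^a m`) -/
def npOK (n p a m d : ℕ) : Bool :=
  idxOK n d &&
  !(decide (a = 1) && decide (Nat.gcd (n / d / p) (p - 1) = 1)) &&
  !(decide (a = 1) && decide (p ≠ 2) && decide (d = p + 1) &&
      decide ((p * (p - 1) / 2) % (n / d) ≠ 0)) &&
  !(decide (2 ≤ a) && decide (d % (p * p) ≠ 1) &&
      !((divs m).any fun j => decide (1 < j) && idxOK n j &&
          ((divs (m / j)).any fun e => decide (1 < e) && decide (e % p = 1))))

/-- the prime `p` shows that no simple group of order `n` exists -/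
def primeKill (n p : ℕ) : Bool :=
  decide (n % p = 0) && primeB p &&
    (decide (1 ≤ (split p n).1) && decide (1 < (split p n).2) &&
      decide (n = p ^ (split p n).1 * (split p n).2) && decide ((split p n).2 % p ≠ 0) &&
      (divs (split p n).2).all fun d =>
        !(decide (d % p = 1) && decide (d ≠ 1)) || !npOK n p (split p n).1 (split p n).2 d)

/-- the least divisor `≥ 2` (certified by later Boolean checks) -/
def firstDiv (n : ℕ) : ℕ :=
  ((List.range (n + 1)).find? fun d => decide (2 ≤ d) && decide (n % d = 0)).getD 0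

/-- `n = p^a q^b` -/
def pqKill (n : ℕ) : Bool :=
  primeB (firstDiv n) &&
    primeB (if (split (firstDiv n) n).2 = 1 then 2 else firstDiv (split (firstDiv n) n).2) &&
    decide (n = firstDiv n ^ (split (firstDiv n) n).1 *
      (if (split (firstDiv n) n).2 = 1 then 2 else firstDiv (split (firstDiv n) n).2) ^
        (split (if (split (firstDiv n) n).2 = 1 then 2 else firstDiv (split (firstDiv n) n).2)
          (split (firstDiv n) n).2).1)

/-- `n` even, not divisible by `12`, `16` or `56` -/
def s499 (n : ℕ) : Bool :=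
  decide (n % 2 = 0) && decide (n % 12 ≠ 0) && decide (n % 16 ≠ 0) && decide (n % 56 ≠ 0)

/-- the least prime divisor of `n` divides `n` exactly once -/
def mincyc (n : ℕ) : Bool :=
  primeB (firstDiv n) && decide (n % firstDiv n = 0) &&
    decide (n % (firstDiv n * firstDiv n) ≠ 0) &&
    (List.range (firstDiv n)).all fun d => decide (d < 2) || decide (n % d ≠ 0)

/-- the sieve -/
def sieveOK (n : ℕ) : Bool :=
  pqKill n || s499 n || mincyc n || (List.range (n + 1)).any (primeKill n)

/-! ### Soundness -/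

variable {G : Type*} [Group G] [Finite G] [IsSimpleGroup G]

theorem idxOK_of_subgroup (hG : ¬ IsMulCommutative G) (H : Subgroup G) (hH : H ≠ ⊤) :
    idxOK (Nat.card G) H.index = true := by
  unfold idxOK
  rw [Bool.and_eq_true, decide_eq_true_eq, hfm_eq]
  refine ⟨Nat.mod_eq_zero_of_dvd (card_dvd_half_factorial hG H hH), ?_⟩
  rw [Bool.or_eq_true, Bool.not_eq_true', decide_eq_true_eq]
  by_cases hpr : primeB H.index = true
  · right
    exact Nat.mod_eq_zero_of_dvd (prime_index_dvd hG H (prime_of_primeB hpr))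
  · left
    simpa using hpr

theorem npOK_count (hG : ¬ IsMulCommutative G) {p a m : ℕ} (hp : p.Prime) (ha : 1 ≤ a)
    (hm : 1 < m) (hn : Nat.card G = p ^ a * m) (hpm : ¬ p ∣ m) :
    haveI := Fact.mk hp
    npOK (Nat.card G) p a m (Nat.card (Sylow p G)) = true := by
  haveI := Fact.mk hp
  obtain ⟨hdvd, hmod, hne1⟩ := sylow_count_facts hp ha hm hn hpm
  obtain ⟨P⟩ : Nonempty (Sylow p G) := inferInstance
  unfold npOK
  rw [Bool.and_eq_true, Bool.and_eq_true, Bool.and_eq_true]
  refine ⟨⟨⟨?_, ?_⟩, ?_⟩, ?_⟩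
  · -- index of the normaliser
    have hidx := index_normalizer_sylow hp P
    rw [← hidx]
    apply idxOK_of_subgroup hG
    intro h
    rw [h, Subgroup.index_top] at hidx
    exact hne1 hidx.symm
  · -- transfer
    rw [Bool.not_eq_true', Bool.and_eq_false_iff, decide_eq_false_iff_not, decide_eq_false_iff_not]
    by_cases ha1 : a = 1
    · right
      subst ha1
      rw [pow_one] at hn
      exact transfer_prime hG hp hm hn hpm
    · left; exact ha1
  · -- `n_p = p + 1`
    rw [Bool.not_eq_true']
    by_contra hcon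
    rw [Bool.not_eq_false, Bool.and_eq_true, Bool.and_eq_true, Bool.and_eq_true, decide_eq_true_eq,
      decide_eq_true_eq, decide_eq_true_eq, decide_eq_true_eq] at hcon
    obtain ⟨⟨⟨ha1, hp2⟩, hcnt⟩, hnd⟩ := hcon
    subst ha1
    rw [pow_one] at hn
    apply hnd
    rw [hcnt]
    exact Nat.mod_eq_zero_of_dvd (normalizer_dvd_of_count_succ hG hp hp2 hn hpm hcnt)
  · -- large Sylow intersections
    rw [Bool.not_eq_true']
    by_contra hcon
    rw [Bool.not_eq_false, Bool.and_eq_true, Bool.and_eq_true, decide_eq_true_eq,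
      decide_eq_true_eq, Bool.not_eq_true'] at hcon
    obtain ⟨⟨ha2, hcnt⟩, hnone⟩ := hcon
    obtain ⟨H, hHtop, hHm, e, he, hep, he1⟩ := exists_big_normalizer hp ha2 hm hn hpm hcnt
    have hm0 : 0 < m := by omega
    have hj1 : 1 < H.index := by
      have h0 : H.index ≠ 0 := Subgroup.index_ne_zero_of_finite
      have h1 : H.index ≠ 1 := fun h => hHtop (Subgroup.index_eq_one.mp h)
      omega
    have hmj : 0 < m / H.index :=
      Nat.div_pos (Nat.le_of_dvd hm0 hHm) (by omega)
    have : ((divs m).any fun j => decide (1 < j) && idxOK (Nat.card G) j &&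
        ((divs (m / j)).any fun e => decide (1 < e) && decide (e % p = 1))) = true := by
      rw [List.any_eq_true]
      refine ⟨H.index, mem_divs hm0 hHm, ?_⟩
      rw [Bool.and_eq_true, Bool.and_eq_true, decide_eq_true_eq, List.any_eq_true]
      refine ⟨⟨hj1, idxOK_of_subgroup hG H hHtop⟩, e, mem_divs hmj he, ?_⟩
      rw [Bool.and_eq_true, decide_eq_true_eq, decide_eq_true_eq]
      exact ⟨he1, hep⟩
    rw [this] at hnone
    exact Bool.noConfusion hnone

theorem not_primeKill (hG : ¬ IsMulCommutative G) (p : ℕ) :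
    primeKill (Nat.card G) p = false := by
  by_contra hcon
  rw [Bool.not_eq_false] at hcon
  unfold primeKill at hcon
  rw [Bool.and_eq_true, Bool.and_eq_true, Bool.and_eq_true, Bool.and_eq_true, Bool.and_eq_true,
    Bool.and_eq_true, decide_eq_true_eq, decide_eq_true_eq, decide_eq_true_eq, decide_eq_true_eq,
    decide_eq_true_eq, List.all_eq_true] at hcon
  obtain ⟨⟨-, hpB⟩, ⟨⟨⟨⟨ha, hm⟩, hn⟩, hpm⟩, hall⟩⟩ := hcon
  have hp := prime_of_primeB hpB
  haveI := Fact.mk hp
  have hpm' : ¬ p ∣ (split p (Nat.card G)).2 := fun h => hpm (Nat.mod_eq_zero_of_dvd h)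
  obtain ⟨hdvd, hmod, hne1⟩ := sylow_count_facts hp ha hm hn hpm'
  have h1 := hall (Nat.card (Sylow p G)) (mem_divs (by omega) hdvd)
  have h2 := npOK_count hG hp ha hm hn hpm'
  rw [h2] at h1
  simp only [Bool.not_true, Bool.or_false, Bool.not_eq_true', Bool.and_eq_false_iff,
    decide_eq_false_iff_not] at h1
  rcases h1 with h1 | h1
  · exact h1 hmod
  · exact h1 hne1

theorem not_pqKill (hG : ¬ IsMulCommutative G) : pqKill (Nat.card G) = false := by
  by_contra hcon
  rw [Bool.not_eq_false] at hcon
  unfold pqKill at hcon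
  rw [Bool.and_eq_true, Bool.and_eq_true, decide_eq_true_eq] at hcon
  obtain ⟨⟨hp, hq⟩, hn⟩ := hcon
  exact not_card_eq_pq hG _ _ _ _ (prime_of_primeB hp) (prime_of_primeB hq) hn

theorem not_s499 (hG : ¬ IsMulCommutative G) : s499 (Nat.card G) = false := by
  by_contra hcon
  rw [Bool.not_eq_false] at hcon
  unfold s499 at hcon
  rw [Bool.and_eq_true, Bool.and_eq_true, Bool.and_eq_true, decide_eq_true_eq, decide_eq_true_eq,
    decide_eq_true_eq, decide_eq_true_eq] at hcon
  obtain ⟨⟨⟨h2, h12⟩, h16⟩, h56⟩ := hcon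
  rcases Cfsg.Agent.S0499.result hG (Nat.even_iff.mpr h2) with h | h | h
  · exact h12 (Nat.mod_eq_zero_of_dvd h)
  · exact h16 (Nat.mod_eq_zero_of_dvd h)
  · exact h56 (Nat.mod_eq_zero_of_dvd h)

theorem not_mincyc (hG : ¬ IsMulCommutative G) : mincyc (Nat.card G) = false := by
  by_contra hcon
  rw [Bool.not_eq_false] at hcon
  unfold mincyc at hcon
  rw [Bool.and_eq_true, Bool.and_eq_true, Bool.and_eq_true, decide_eq_true_eq, decide_eq_true_eq,
    List.all_eq_true] at hcon
  obtain ⟨⟨⟨hpB, hdiv⟩, hsq⟩, hmin⟩ := hcon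
  set p := firstDiv (Nat.card G) with hpdef
  have hp := prime_of_primeB hpB
  haveI := Fact.mk hp
  have hpd : p ∣ Nat.card G := Nat.dvd_of_mod_eq_zero hdiv
  -- `p` is the least prime factor
  have hmf : (Nat.card G).minFac = p := by
    have hn1 : Nat.card G ≠ 1 := by
      intro h
      rw [h] at hpd
      exact hp.one_lt.ne' (Nat.dvd_one.mp hpd)
    have hle : (Nat.card G).minFac ≤ p := Nat.minFac_le_of_dvd hp.two_le hpd
    by_contra hne
    have hlt : (Nat.card G).minFac < p := lt_of_le_of_ne hle hne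
    have h3 := hmin _ (List.mem_range.mpr hlt)
    rw [Bool.or_eq_true, decide_eq_true_eq, decide_eq_true_eq] at h3
    have h4 := (Nat.minFac_prime hn1).two_le
    rcases h3 with h3 | h3
    · omega
    · exact h3 (Nat.mod_eq_zero_of_dvd (Nat.minFac_dvd _))
  obtain ⟨m, hm⟩ := hpd
  have hpm : ¬ p ∣ m := by
    rintro ⟨c, rfl⟩
    apply hsq
    rw [hm, ← mul_assoc]
    exact Nat.mul_mod_right _ _
  obtain ⟨P⟩ : Nonempty (Sylow p G) := inferInstance
  obtain ⟨hc, -⟩ := sylow_card_index_of_exact hm hpm P
  have hcyc : IsCyclic ↥(P : Subgroup G) := isCyclic_of_prime_card hc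
  have hK := IsCyclic.isComplement' hmf (P := P) hcyc
  exact no_normal_complement hG P (by rw [hc]; exact hp.one_lt)
    (comm_of_card_prime (P : Subgroup G) hc) _ hK

/-- **soundness of the sieve** -/
theorem sieve_sound (hG : ¬ IsMulCommutative G) : sieveOK (Nat.card G) = false := by
  unfold sieveOK
  rw [not_pqKill hG, not_s499 hG, not_mincyc hG, Bool.false_or, Bool.false_or, Bool.false_or]
  rw [List.any_eq_false]
  intro p _
  rw [not_primeKill hG p]
  exact Bool.false_ne_true

end Cfsg.Agent.Lib.Helper8.OrdSieve
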