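import Mathlib
import Cfsg.Agent.Lib.Helper8.OrdSieveC
import Cfsg.Agent.Lib.Helper8.SmallSimple2

/-!
Order sieve, part E (helper8): tools for the residual orders.
* `npList p a m`: the Sylow counts that survive the sieve; `sylow_count_mem`.
* `no_invol_centralizer`: if `n_p = 2p+1` (`|P| = p` odd) then `|C(P)|` is odd.
-/

set_option autoImplicit false
set_option linter.style.haveILetI false

namespace Cfsg.Agent.Lib.Helper8.OrdSieve

open Cfsg.Agent.Lib.Helper7 Cfsg.Agent.Lib.Helper8.SmallSimple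

variable {G : Type*} [Group G] [Finite G] [IsSimpleGroup G]

/-- the possible numbers of Sylow `p`-subgroups of a simple group of order `p^a m` -/
def npList (p a m : ℕ) : List ℕ :=
  (divs m).filter fun d => decide (d % p = 1) && decide (d ≠ 1) && npOK (p ^ a * m) p a m d

theorem sylow_count_mem (hG : ¬ IsMulCommutative G) {p a m : ℕ} (hp : p.Prime) (ha : 1 ≤ a)
    (hm : 1 < m) (hn : Nat.card G = p ^ a * m) (hpm : ¬ p ∣ m) :
    haveI := Fact.mk hp
    Nat.card (Sylow p G) ∈ npList p a m := by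
  haveI := Fact.mk hp
  obtain ⟨hdvd, hmod, hne1⟩ := sylow_count_facts hp ha hm hn hpm
  have h2 := npOK_count hG hp ha hm hn hpm
  rw [hn] at h2
  unfold npList
  rw [List.mem_filter, Bool.and_eq_true, Bool.and_eq_true, decide_eq_true_eq, decide_eq_true_eq]
  exact ⟨mem_divs (by omega) hdvd, ⟨hmod, hne1⟩, h2⟩

/-- the order of the normaliser of a Sylow subgroup from the Sylow count -/
theorem card_normalizer_of_count {p : ℕ} (hp : p.Prime) {n k N : ℕ}
    (hN : Nat.card G = N) (hnk : n * k = N) :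
    haveI := Fact.mk hp
    ∀ P : Sylow p G, Nat.card (Sylow p G) = n →
      Nat.card ↥(Subgroup.normalizer ((P : Subgroup G) : Set G)) = k := by
  haveI := Fact.mk hp
  intro P hn
  have h := card_sylow_mul_card_normalizer P
  rw [hn, hN, ← hnk] at h
  have hn0 : 0 < n := by
    rw [← hn]; exact Nat.card_pos
  exact Nat.eq_of_mul_eq_mul_left hn0 h

/-- Sylow `p`-subgroup of odd prime order `p` with `2p + 1` conjugates: the centraliser of `P`
has odd order. -/
theorem odd_card_centralizer_of_count {p : ℕ} [Fact p.Prime] (hG2 : 2 < Nat.card G) (hp2 : p ≠ 2)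
    (P : Sylow p G) (hP : Nat.card ↥(P : Subgroup G) = p)
    (hn : Nat.card (Sylow p G) = 2 * p + 1) :
    ¬ 2 ∣ Nat.card ↥(Subgroup.centralizer ((P : Subgroup G) : Set G)) := by
  intro h2
  have hp : p.Prime := Fact.out
  haveI : Fact (Nat.Prime 2) := ⟨Nat.prime_two⟩
  obtain ⟨t0, ht0⟩ := exists_prime_orderOf_dvd_card' (G := ↥(Subgroup.centralizer
    ((P : Subgroup G) : Set G))) 2 h2
  have hto : orderOf (t0 : G) = 2 := by rw [Subgroup.orderOf_coe]; exact ht0
  have hidx : (Subgroup.normalizer ((P : Subgroup G) : Set G)).index = 2 * p + 1 := by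
    rw [← hn]; exact (Sylow.card_eq_index_normalizer P).symm
  have hNtop : Subgroup.normalizer ((P : Subgroup G) : Set G) ≠ ⊤ := by
    intro h
    rw [h, Subgroup.index_top] at hidx
    have := hp.two_le
    omega
  obtain ⟨h1, ⟨s, hs4, hs⟩, h3⟩ :=
    Cfsg.Agent.Lib.Helper8.SmallSimple2.invol_fix_data hG2 P hP hNtop (t0 : G) t0.2 hto
  rw [hidx] at hs h3
  set f := Nat.card (MulAction.fixedBy (G ⧸ Subgroup.normalizer ((P : Subgroup G) : Set G))
    (t0 : G)) with hf
  have hp3 : 3 ≤ p := by
    have := hp.two_le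
    omega
  -- `f ≡ 1 mod p`, `f ≤ 2p+1`, `f ≠ 2p+1`: `f = 1` or `f = p + 1`
  have hcases : f = 1 ∨ f = p + 1 := by
    have hle : f ≤ 2 * p + 1 := by omega
    obtain ⟨q, hq⟩ : ∃ q, f = p * q + 1 := by
      refine ⟨f / p, ?_⟩
      have := Nat.div_add_mod f p
      rw [h1] at this
      omega
    have hq2 : q ≤ 2 := by
      by_contra hcon
      have : 3 ≤ q := by omega
      have : p * 3 ≤ p * q := Nat.mul_le_mul_left p this
      omega
    interval_cases q
    · left; omega
    · right; omega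
    · exfalso; omega
  obtain ⟨j, hj⟩ := hs4
  rcases hcases with hc | hc
  · -- `s = 2p`, so `2 ∣ p`
    have : p = 2 * j := by omega
    have h2p : 2 ∣ p := ⟨j, this⟩
    rcases (Nat.dvd_prime hp).mp h2p with h | h
    · omega
    · omega
  · have : p = 4 * j := by omega
    have h2p : 2 ∣ p := ⟨2 * j, by omega⟩
    rcases (Nat.dvd_prime hp).mp h2p with h | h
    · omega
    · omega

end Cfsg.Agent.Lib.Helper8.OrdSieve
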