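/-
helper8: vocabulary for the module-theoretic part ("Theorem M") of the defect-one cluster
S4441 / S4442 / S4502 / S4507 / S0960.

For a representation `ρ` of `G` on an `F`-vector space `V` and a subgroup `H`:
* `IsInv ρ H W`     : the subspace `W` is stable under `ρ h`, `h ∈ H`
* `fixed ρ H`      : the `H`-fixed vectors
* `nrm ρ H`        : the norm operator `∑_{h ∈ H} ρ h` (finsum)
* `tr1 ρ σ H γ`    : the relative trace `∑_{h ∈ H} σ h ∘ γ ∘ ρ h⁻¹` of a linear map `γ : V → W`
* `Nz P`          : the normalizer `N_G(P)`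
* `Comm ρ H φ`     : `φ` commutes with `ρ h`, `h ∈ H`
* `StableFix ρ P`  : `V^P ≠ ν V`  (the Tate group `Ĥ⁰(P, V)` is nonzero)
-/
import Mathlib

set_option autoImplicit false

namespace Cfsg.Agent.Lib.Helper8.DOM

universe u v w w'

variable {F : Type u} [Field F] {G : Type v} [Group G]
variable {V : Type w} [AddCommGroup V] [Module F V] {W : Type w'} [AddCommGroup W] [Module F W]

/-- the subspace `U` is stable under `ρ h` for all `h ∈ H` -/
def IsInv (ρ : Representation F G V) (H : Subgroup G) (U : Submodule F V) : Prop :=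
  ∀ h ∈ H, ∀ v ∈ U, ρ h v ∈ U

/-- the vectors fixed by `ρ h` for all `h ∈ H` -/
def fixed (ρ : Representation F G V) (H : Subgroup G) : Submodule F V where
  carrier := {v | ∀ h ∈ H, ρ h v = v}
  add_mem' := by
    intro a b ha hb h hh
    rw [map_add, ha h hh, hb h hh]
  zero_mem' := by
    intro h _
    exact map_zero _
  smul_mem' := by
    intro c a ha h hh
    rw [map_smul, ha h hh]

theorem mem_fixed {ρ : Representation F G V} {H : Subgroup G} {v : V} :
    v ∈ fixed ρ H ↔ ∀ h ∈ H, ρ h v = v := Iff.rfl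

/-- the norm operator `∑_{h ∈ H} ρ h` of a (finite) subgroup -/
noncomputable def nrm (ρ : Representation F G V) (H : Subgroup G) : V →ₗ[F] V :=
  ∑ᶠ h : H, ρ (h : G)

theorem nrm_eq_sum (ρ : Representation F G V) (H : Subgroup G) [Fintype H] :
    nrm ρ H = ∑ h : H, ρ (h : G) := finsum_eq_sum_of_fintype _

/-- the relative trace from `1` to `H` of a linear map -/
noncomputable def tr1 (ρ : Representation F G V) (σ : Representation F G W) (H : Subgroup G)
    (γ : V →ₗ[F] W) : V →ₗ[F] W :=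
  ∑ᶠ h : H, σ (h : G) ∘ₗ γ ∘ₗ ρ ((h : G)⁻¹)

theorem tr1_eq_sum (ρ : Representation F G V) (σ : Representation F G W) (H : Subgroup G)
    [Fintype H] (γ : V →ₗ[F] W) :
    tr1 ρ σ H γ = ∑ h : H, σ (h : G) ∘ₗ γ ∘ₗ ρ ((h : G)⁻¹) := finsum_eq_sum_of_fintype _

/-- the normalizer of `P` (as a subgroup) -/
abbrev Nz (P : Subgroup G) : Subgroup G := Subgroup.normalizer (P : Set G)

/-- `φ` commutes with `ρ h` for all `h ∈ H` -/
def Comm (ρ : Representation F G V) (H : Subgroup G) (φ : V →ₗ[F] V) : Prop :=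
  ∀ h ∈ H, ρ h ∘ₗ φ = φ ∘ₗ ρ h

/-- the `P`-fixed vectors are not all norms: `Ĥ⁰(P, V) ≠ 0` -/
def StableFix (ρ : Representation F G V) (P : Subgroup G) : Prop :=
  ¬ fixed ρ P ≤ LinearMap.range (nrm ρ P)

end Cfsg.Agent.Lib.Helper8.DOM
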