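/-
helper8: defect-one cluster, Part O, leaf DO-RANKD (`blockRank_add_le_of_data`): `blockRank p B + (p-1)/e ≤ |B|` from
the group-side data, via helper29 `DORANK.blockRank_add_card_le` with the coset columns (Gram matrix `I + e J`).
-/
import Mathlib
import Cfsg.Prelude.Def_BlockRank
import Cfsg.Agent.Lib.Helper27.DODefs
import Cfsg.Agent.Lib.Helper27.BlkAlgDefs2
import Cfsg.Agent.Lib.Helper24.IrrFacts
import Cfsg.Agent.Lib.Lead.CharOrtho
import Cfsg.Agent.Lib.Helper29.DORANK

set_option autoImplicit false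

namespace Cfsg.Agent.Lib.Helper8.DORANKD

open Cfsg Cfsg.Agent.Lib.Helper8.DOM Cfsg.Agent.Lib.Helper27.DO Cfsg.Agent.Lib.Helper27.BlkAlg
open Cfsg.Agent.Lib.Helper29.DORANK
open scoped ComplexConjugate

universe u

/-- a `finsum` over a set with a `Fintype` structure on its subtype as a `Finset.sum` over the subtype -/
theorem finsum_mem_eq_sum_coe' {α M : Type*} [AddCommMonoid M] (s : Set α) [Fintype ↥s] (f : α → M) :
    ∑ᶠ i ∈ s, f i = ∑ i : ↥s, f i := by
  rw [← finsum_set_coe_eq_finsum_mem, finsum_eq_sum_of_fintype]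

variable {G : Type u} [Group G] [Finite G] {p : ℕ} [Fact p.Prime] {M : Ideal AlgInt}
  {P : Subgroup G} {B : Set (IrrCharacter G)} {θ : IrrCharacter (Cz P)} {T : Subgroup G} {x0 : G}
  {E : Subgroup (ZMod p)ˣ} {μ : IrrCharacter G → ZMod p → ℤ} {D : IrrCharacter G → G → ℂ}

/-- representatives of cosets of `E`: `out O (out O')⁻¹ ∈ E ↔ O = O'` -/
theorem out_mul_inv_mem_iff (E : Subgroup (ZMod p)ˣ) (O O' : (ZMod p)ˣ ⧸ E) :
    (Quotient.out O : (ZMod p)ˣ) * (Quotient.out O')⁻¹ ∈ E ↔ O = O' := by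
  have h1 : O = O' ↔ (QuotientGroup.mk (Quotient.out O) : (ZMod p)ˣ ⧸ E) =
      QuotientGroup.mk (Quotient.out O') := by
    rw [QuotientGroup.out_eq', QuotientGroup.out_eq']
  rw [h1, QuotientGroup.eq, ← inv_mem_iff (x := (Quotient.out O)⁻¹ * Quotient.out O')]
  simp [mul_comm]

/-- the number of cosets of `E` in `(ℤ/p)ˣ` -/
theorem card_quot (E : Subgroup (ZMod p)ˣ) [Fintype ((ZMod p)ˣ ⧸ E)] :
    Fintype.card ((ZMod p)ˣ ⧸ E) = (p - 1) / Nat.card E := by
  have h1 := Subgroup.card_eq_card_quotient_mul_card_subgroup E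
  rw [Nat.card_eq_fintype_card (α := (ZMod p)ˣ), ZMod.card_units p,
    Nat.card_eq_fintype_card (α := (ZMod p)ˣ ⧸ E)] at h1
  have he0 : 0 < Nat.card E := Nat.card_pos
  rw [h1]
  exact (Nat.mul_div_cancel _ he0).symm

/-- RANKD : `blockRank p B + (p-1)/e ≤ |B|`. -/
theorem blockRank_add_le_of_data (d : GSData p P B θ T x0 E μ D) :
    blockRank p B + (p - 1) / Nat.card E ≤ Nat.card B := by
  classical
  have : Finite (IrrCharacter G) := Cfsg.Agent.CharLib.finite_irrCharacter
  have : Fintype ↥B := Fintype.ofFinite _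
  have : Fintype ((ZMod p)ˣ ⧸ E) := Fintype.ofFinite _
  set e := Nat.card E with he
  -- the integer columns, indexed by the cosets
  set a : IrrCharacter G → (ZMod p)ˣ ⧸ E → ℤ :=
    fun χ O => μ χ ((Quotient.out O : (ZMod p)ˣ) : ZMod p) - μ χ 0 with ha
  have hgram : ∀ O O' : (ZMod p)ˣ ⧸ E,
      ∑ χ : ↥B, (a χ.1 O : ℂ) * (a χ.1 O' : ℂ) = (e : ℂ) + if O = O' then 1 else 0 := by
    intro O O'
    by_cases h : O = O'
    · have h1 := d.gram1 (Quotient.out O) (Quotient.out O') ((out_mul_inv_mem_iff E O O').mpr h)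
      rw [finsum_mem_eq_sum_coe'] at h1
      rw [if_pos h]
      have h2 : ((∑ χ : ↥B, a χ.1 O * a χ.1 O' : ℤ) : ℂ) = ((e : ℤ) + 1 : ℤ) := by
        rw [← h1]
      push_cast at h2
      exact h2
    · have h1 := d.gram0 (Quotient.out O) (Quotient.out O')
        (fun hm => h ((out_mul_inv_mem_iff E O O').mp hm))
      rw [finsum_mem_eq_sum_coe'] at h1
      rw [if_neg h, add_zero]
      have h2 : ((∑ χ : ↥B, a χ.1 O * a χ.1 O' : ℤ) : ℂ) = ((e : ℤ) : ℂ) := by
        rw [← h1]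
      push_cast at h2
      exact h2
  have h := blockRank_add_card_le p B (J := (ZMod p)ˣ ⧸ E)
    (fun O χ => (a χ O : ℂ)) ?_ ?_
  · rwa [card_quot E] at h
  · -- independence
    intro c hc
    set S : ℂ := ∑ O, c O with hS
    have hkey : ∀ O' : (ZMod p)ˣ ⧸ E, (e : ℂ) * S + c O' = 0 := by
      intro O'
      have h1 : ∑ χ : ↥B, (∑ O, c O * (a χ.1 O : ℂ)) * (a χ.1 O' : ℂ) = 0 := by
        apply Finset.sum_eq_zero
        intro χ _
        rw [hc χ.1 χ.2, zero_mul]
      rw [← h1]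
      simp only [Finset.sum_mul]
      rw [Finset.sum_comm]
      have h2 : ∀ O : (ZMod p)ˣ ⧸ E, ∑ χ : ↥B, c O * (a χ.1 O : ℂ) * (a χ.1 O' : ℂ) =
          c O * ((e : ℂ) + if O = O' then 1 else 0) := by
        intro O
        rw [← hgram O O', Finset.mul_sum]
        apply Finset.sum_congr rfl
        intro χ _
        ring
      rw [Finset.sum_congr rfl (fun O _ => h2 O)]
      simp only [mul_add, Finset.sum_add_distrib, mul_ite, mul_one, mul_zero]
      rw [Finset.sum_ite_eq' Finset.univ O', if_pos (Finset.mem_univ _), ← Finset.sum_mul, ← hS]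
      ring
    have hS0 : S = 0 := by
      have h1 : ∑ O' : (ZMod p)ˣ ⧸ E, ((e : ℂ) * S + c O') = 0 :=
        Finset.sum_eq_zero (fun O' _ => hkey O')
      rw [Finset.sum_add_distrib, Finset.sum_const, Finset.card_univ, ← hS, nsmul_eq_mul] at h1
      have h2 : S * ((Fintype.card ((ZMod p)ˣ ⧸ E) : ℂ) * (e : ℂ) + 1) = 0 := by
        rw [← h1]; ring
      rcases mul_eq_zero.mp h2 with h3 | h3
      · exact h3
      · exfalso
        have h4 : ((Fintype.card ((ZMod p)ˣ ⧸ E) * e + 1 : ℕ) : ℂ) = 0 := by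
          push_cast
          exact h3
        exact Nat.succ_ne_zero _ (Nat.cast_eq_zero.mp h4)
    intro O'
    have := hkey O'
    rw [hS0, mul_zero, zero_add] at this
    exact this
  · -- orthogonality
    intro O g hg
    exact d.orth (Quotient.out O) g hg

end Cfsg.Agent.Lib.Helper8.DORANKD
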