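/-
helper8: defect-one cluster, Part O, leaf DO-UPPER (`card_le_of_data`): `|B| ≤ e + (p-1)/e` from the group-side data,
via helper6 `DOMAINGRAM.main_of_gram` on `↥B`.
-/
import Mathlib
import Cfsg.Prelude.Def_BlockRank
import Cfsg.Agent.Lib.Helper27.DODefs
import Cfsg.Agent.Lib.Helper27.BlkAlgDefs2
import Cfsg.Agent.Lib.Helper24.IrrFacts
import Cfsg.Agent.Lib.Lead.CharOrtho
import Cfsg.Agent.Lib.Helper6.DOMAINGRAM

set_option autoImplicit false

namespace Cfsg.Agent.Lib.Helper8.DOUPPER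

open Cfsg Cfsg.Agent.Lib.Helper8.DOM Cfsg.Agent.Lib.Helper27.DO Cfsg.Agent.Lib.Helper27.BlkAlg
open Cfsg.Agent.Lib.Helper6.DOMAINGRAM
open scoped ComplexConjugate

universe u

/-- a `finsum` over a set with a `Fintype` structure on its subtype as a `Finset.sum` over the subtype -/
theorem finsum_mem_eq_sum_coe {α M : Type*} [AddCommMonoid M] (s : Set α) [Fintype ↥s] (f : α → M) :
    ∑ᶠ i ∈ s, f i = ∑ i : ↥s, f i := by
  rw [← finsum_set_coe_eq_finsum_mem, finsum_eq_sum_of_fintype]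

variable {G : Type u} [Group G] [Finite G] {p : ℕ} [Fact p.Prime] {M : Ideal AlgInt}
  {P : Subgroup G} {B : Set (IrrCharacter G)} {θ : IrrCharacter (Cz P)} {T : Subgroup G} {x0 : G}
  {E : Subgroup (ZMod p)ˣ} {μ : IrrCharacter G → ZMod p → ℤ} {D : IrrCharacter G → G → ℂ}

/-- the degree relation `∑_{χ ∈ B} a χ i χ(1) = 0` in `ℤ` -/
theorem sum_mul_degree (d : GSData p P B θ T x0 E μ D) [Fintype ↥B] (i : (ZMod p)ˣ) :
    ∑ χ : ↥B, (μ χ.1 i - μ χ.1 0) * (charDegree ((χ.1 : IrrCharacter G) : G → ℂ) : ℤ) = 0 := by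
  have h1 := d.orth i 1 (by
    rw [orderOf_one]
    exact fun h => (Fact.out : p.Prime).one_lt.ne' (Nat.dvd_one.mp h))
  rw [finsum_mem_eq_sum_coe] at h1
  have h2 : ((∑ χ : ↥B, (μ χ.1 i - μ χ.1 0) *
      (charDegree ((χ.1 : IrrCharacter G) : G → ℂ) : ℤ) : ℤ) : ℂ) = 0 := by
    rw [← h1]
    push_cast
    apply Finset.sum_congr rfl
    intro χ _
    rw [Cfsg.Agent.Lib.Helper24.irr_apply_one]
  exact_mod_cast h2

/-- UPPER : `|B| ≤ e + (p-1)/e`. -/
theorem card_le_of_data (d : GSData p P B θ T x0 E μ D) :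
    Nat.card B ≤ Nat.card E + (p - 1) / Nat.card E := by
  classical
  have : Finite (IrrCharacter G) := Cfsg.Agent.CharLib.finite_irrCharacter
  have : Fintype ↥B := Fintype.ofFinite _
  have h := (main_of_gram (B := ↥B) E (fun χ => μ χ.1) (fun χ τ hτ i => d.mu_inv χ.1 τ hτ i)
    (fun i j hij => by
      have := d.gram1 i j hij
      rwa [finsum_mem_eq_sum_coe] at this)
    (fun i j hij => by
      have := d.gram0 i j hij
      rwa [finsum_mem_eq_sum_coe] at this)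
    (fun χ => (charDegree ((χ.1 : IrrCharacter G) : G → ℂ) : ℤ))
    (fun χ => by exact_mod_cast Cfsg.Agent.Lib.Helper24.irr_charDegree_pos χ.1)
    (fun i => sum_mul_degree d i)
    (fun χ => d.supp χ.1 χ.2)).1
  rwa [Nat.card_eq_fintype_card]

end Cfsg.Agent.Lib.Helper8.DOUPPER
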