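/-
helper8: defect-one cluster, Part O, leaf DO-SQUEEZE, the core counting argument (`blockRank_eq_core`, all cited leaves
as hypotheses) and the `_of` form over DEFP / ROOT / GSASM (`blockRank_eq_of_leaves`).
∑_B e_B ≤ k(N/P) (GCOUNT) ≤ ∑_B l(B) (Part M FINAL) ≤ ∑_B e_B (UPPER + RANKD), so l(B) = e_B for all B.
-/
import Mathlib
import Cfsg.Prelude.Def_BlockRank
import Cfsg.Agent.Lib.Helper27.DODefs
import Cfsg.Agent.Lib.Helper27.BlkAlgDefs2
import Cfsg.Agent.Lib.Lead.SecondMain4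
import Cfsg.Agent.Lib.Helper6.DefectOrder
import Cfsg.Agent.Lib.Helper16.DOINERT
import Cfsg.Agent.Lib.Helper16.DOCONJ
import Cfsg.Agent.Lib.Helper23.DOGCOUNT
import Cfsg.Agent.Lib.Helper8.DOUPPER
import Cfsg.Agent.Lib.Helper8.DORANKD

set_option autoImplicit false

namespace Cfsg.Agent.Lib.Helper8.DOSQUEEZECore

open Cfsg Cfsg.Agent.Lib.Helper8.DOM Cfsg.Agent.Lib.Helper27.DO Cfsg.Agent.Lib.Helper27.BlkAlg
open scoped ComplexConjugate

universe u

variable {G : Type u} [Group G] [Finite G] {p : ℕ} [Fact p.Prime] {M : Ideal AlgInt}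

/-- a block with a defect group of order `p` has positive defect -/
theorem blockDefect_pos_of_ctx {P : Subgroup G} {B : Set (IrrCharacter G)} {θ : IrrCharacter (Cz P)}
    {T : Subgroup G} {x0 : G} (c : Ctx p M P B θ T x0) : 0 < blockDefect p B := by
  have h1 := Cfsg.Agent.Lib.Helper6.card_defectGroup_eq c.hM B c.hB P c.hBP
  rw [c.hP] at h1
  rcases Nat.eq_zero_or_pos (blockDefect p B) with h | h
  · rw [h, pow_zero] at h1
    exact absurd h1 (Fact.out : p.Prime).one_lt.ne'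
  · exact h

/-- SQUEEZE, the core: the counting argument with all the cited leaves as hypotheses. -/
theorem blockRank_eq_core [Fintype (IrrCharacter G)] (hM : IsPModular p M) (P : Subgroup G)
    (hfinal : Nat.card (ConjClasses ((Nz P) ⧸ P.subgroupOf (Nz P))) ≤
      ∑ B ∈ blocks M G, if 0 < blockDefect p B then blockRank p B else 0)
    (x0 : G)
    (hblock : ∀ B' : Set (IrrCharacter G), IsPBlock M B' → 0 < blockDefect p B' →
      ∃ (θ' : IrrCharacter (Cz P)) (T' : Subgroup G), Ctx p M P B' θ' T' x0)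
    (hle : ∀ (B' : Set (IrrCharacter G)) (θ' : IrrCharacter (Cz P)) (T' : Subgroup G),
      Ctx p M P B' θ' T' x0 → blockRank p B' ≤ (Cz P).relIndex T')
    (hconj : ∀ (n : Nz P) (φ : IrrCharacter (Cz P)) (B' : Set (IrrCharacter G)),
      IsInducedBlock M (Cz P) (blockOf M (φ : Cz P → ℂ)) B' →
      IsInducedBlock M (Cz P) (blockOf M (conjC P n (φ : Cz P → ℂ))) B')
    (hcount : ∀ (ι : Type u) [Fintype ι] (θ : ι → IrrCharacter (Cz P))
      (_ : ∀ j, PTriv P (θ j : Cz P → ℂ)) (T : ι → Subgroup G)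
      (_ : ∀ j, IsInertia P (θ j : Cz P → ℂ) (T j))
      (_ : ∀ j j', j ≠ j' → ∀ n : Nz P, (θ j' : Cz P → ℂ) ≠ conjC P n (θ j : Cz P → ℂ)),
      ∑ j, (Cz P).relIndex (T j) ≤ Nat.card (ConjClasses ((Nz P) ⧸ P.subgroupOf (Nz P))))
    (B : Set (IrrCharacter G)) (θ : IrrCharacter (Cz P)) (T : Subgroup G)
    (c : Ctx p M P B θ T x0) : blockRank p B = (Cz P).relIndex T := by
  classical
  have hprime : M.IsPrime := Cfsg.Agent.Lib.Helper24.isPrime_of_isPModular hM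
  set 𝔅 : Finset (Set (IrrCharacter G)) := (blocks M G).filter (fun B' => 0 < blockDefect p B') with h𝔅
  have hmem : ∀ B' : Set (IrrCharacter G), B' ∈ 𝔅 ↔ IsPBlock M B' ∧ 0 < blockDefect p B' := by
    intro B'
    rw [h𝔅, Finset.mem_filter, mem_blocks]
  have hB𝔅 : B ∈ 𝔅 := (hmem B).mpr ⟨c.hB, blockDefect_pos_of_ctx c⟩
  -- the choice of roots and inertia groups, equal to the given ones at `B`
  have hchoice : ∀ j : ↥𝔅, ∃ q : IrrCharacter (Cz P) × Subgroup G,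
      Ctx p M P j.1 q.1 q.2 x0 ∧ (j.1 = B → q = (θ, T)) := by
    intro j
    by_cases h : j.1 = B
    · exact ⟨(θ, T), by rw [h]; exact c, fun _ => rfl⟩
    · obtain ⟨θ', T', c'⟩ := hblock j.1 ((hmem j.1).mp j.2).1 ((hmem j.1).mp j.2).2
      exact ⟨(θ', T'), c', fun h' => absurd h' h⟩
  choose q hq hqB using hchoice
  have hnc : ∀ j j' : ↥𝔅, j ≠ j' → ∀ n : Nz P,
      ((q j').1 : Cz P → ℂ) ≠ conjC P n ((q j).1 : Cz P → ℂ) := by
    intro j j' hjj' n heq
    apply hjj'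
    apply Subtype.ext
    have h1 := hconj n (q j).1 j.1 (hq j).hind
    rw [← heq] at h1
    exact Cfsg.Agent.CharLib.isInducedBlock_unique h1 (hq j').hind
  have h1 := hcount ↥𝔅 (fun j => (q j).1) (fun j => (hq j).hθP) (fun j => (q j).2)
    (fun j => (hq j).hT) hnc
  have h2 : ∑ B' ∈ blocks M G, (if 0 < blockDefect p B' then blockRank p B' else 0) =
      ∑ j : ↥𝔅, blockRank p j.1 := by
    rw [← Finset.sum_filter, ← h𝔅]
    exact (Finset.sum_coe_sort 𝔅 (fun B' => blockRank p B')).symm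
  have h3 : ∀ j ∈ (Finset.univ : Finset ↥𝔅), blockRank p j.1 ≤ (Cz P).relIndex (q j).2 :=
    fun j _ => hle j.1 (q j).1 (q j).2 (hq j)
  have h4 : ∑ j : ↥𝔅, blockRank p j.1 = ∑ j : ↥𝔅, (Cz P).relIndex (q j).2 := by
    apply le_antisymm (Finset.sum_le_sum h3)
    rw [← h2]
    exact le_trans h1 hfinal
  have h5 := (Finset.sum_eq_sum_iff_of_le h3).mp h4 ⟨B, hB𝔅⟩ (Finset.mem_univ _)
  have h6 : q ⟨B, hB𝔅⟩ = (θ, T) := hqB ⟨B, hB𝔅⟩ rfl
  rw [h6] at h5
  exact h5

/-- SQUEEZE in `_of` form over the leaves DEFP, ROOT, GSASM (the other cited leaves are on main). -/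
theorem blockRank_eq_of_leaves [Fintype (IrrCharacter G)] (hM : IsPModular p M) (P : Subgroup G)
    (hP : Nat.card P = p) (hSyl : ¬ p ∣ P.index)
    (hfinal : Nat.card (ConjClasses ((Nz P) ⧸ P.subgroupOf (Nz P))) ≤
      ∑ B ∈ blocks M G, if 0 < blockDefect p B then blockRank p B else 0)
    (hdefp : ∀ B' : Set (IrrCharacter G), IsPBlock M B' → 0 < blockDefect p B' →
      IsDefectGroup p M B' P)
    (hroot : ∀ B' : Set (IrrCharacter G), IsPBlock M B' → IsDefectGroup p M B' P →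
      ∃ θ' : IrrCharacter (Cz P), PTriv P (θ' : Cz P → ℂ) ∧
        IsInducedBlock M (Cz P) (blockOf M (θ' : Cz P → ℂ)) B')
    (x0 : G)
    (hgs : ∀ (B' : Set (IrrCharacter G)) (θ' : IrrCharacter (Cz P)) (T' : Subgroup G),
      Ctx p M P B' θ' T' x0 → ∃ E : Subgroup (ZMod p)ˣ, GSData p P B' θ' T' x0 E (muZ p M P θ' x0)
        (fun χ => Dfun p x0 (muZ p M P θ' x0 χ)))
    (B : Set (IrrCharacter G)) (θ : IrrCharacter (Cz P)) (T : Subgroup G)
    (c : Ctx p M P B θ T x0) : blockRank p B = (Cz P).relIndex T := by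
  refine blockRank_eq_core hM P hfinal x0 ?_ ?_
    (fun n φ B' h => Cfsg.Agent.Lib.Helper16.DOCONJ.isInducedBlock_conjC P n φ B' h)
    (fun ι _ θ' hθ' T' hT' hnc =>
      Cfsg.Agent.Lib.Helper23.DOGCOUNT.sum_relIndex_le P hP θ' hθ' T' hT' hnc) B θ T c
  · intro B' hB' hd
    have hBP := hdefp B' hB' hd
    obtain ⟨θ', hθ', hind⟩ := hroot B' hB' hBP
    obtain ⟨T', hT'⟩ := Cfsg.Agent.Lib.Helper16.DOINERT.exists_inertia P (θ' : Cz P → ℂ)
    exact ⟨θ', T', ⟨hM, hP, hSyl, hB', hBP, hθ', hind, hT', c.gen⟩⟩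
  · intro B' θ' T' c'
    obtain ⟨E, d⟩ := hgs B' θ' T' c'
    have h1 := Cfsg.Agent.Lib.Helper8.DOUPPER.card_le_of_data d
    have h2 := Cfsg.Agent.Lib.Helper8.DORANKD.blockRank_add_le_of_data d
    rw [← d.cardE]
    omega

end Cfsg.Agent.Lib.Helper8.DOSQUEEZECore
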