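/-
helper8: defect-one cluster, Part O, leaf DO-SQUEEZE (`blockRank_eq_of`): `blockRank p B = e` for every block with
defect group `P`; the counting argument is `DOSQUEEZECore.blockRank_eq_core`.
-/
import Mathlib
import Cfsg.Prelude.Def_BlockRank
import Cfsg.Agent.Lib.Helper27.DODefs
import Cfsg.Agent.Lib.Helper27.BlkAlgDefs2
import Cfsg.Agent.Lib.Helper8.DOSQUEEZECore
import Cfsg.Agent.Lib.Helper26.DODEFP
import Cfsg.Agent.Lib.Helper13.DOROOT
import Cfsg.Agent.Lib.Helper22.DOGSASM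

set_option autoImplicit false

namespace Cfsg.Agent.Lib.Helper8.DOSQUEEZE

open Cfsg Cfsg.Agent.Lib.Helper8.DOM Cfsg.Agent.Lib.Helper27.DO Cfsg.Agent.Lib.Helper27.BlkAlg
open scoped ComplexConjugate

universe u

variable {G : Type u} [Group G] [Finite G] {p : ℕ} [Fact p.Prime] {M : Ideal AlgInt}

/-- SQUEEZE (`_of` form over Part M's FINAL): `blockRank p B = e` for every block with defect group `P`. -/
theorem blockRank_eq_of [Fintype (IrrCharacter G)] (hM : IsPModular p M) (P : Subgroup G)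
    (hP : Nat.card P = p) (hSyl : ¬ p ∣ P.index)
    (hfinal : Nat.card (ConjClasses ((Nz P) ⧸ P.subgroupOf (Nz P))) ≤
      ∑ B ∈ blocks M G, if 0 < blockDefect p B then blockRank p B else 0)
    (B : Set (IrrCharacter G)) (θ : IrrCharacter (Cz P)) (T : Subgroup G) (x0 : G)
    (c : Ctx p M P B θ T x0) : blockRank p B = (Cz P).relIndex T := by
  exact Cfsg.Agent.Lib.Helper8.DOSQUEEZECore.blockRank_eq_of_leaves hM P hP hSyl hfinal
    (fun B' hB' hd => Cfsg.Agent.Lib.Helper26.DODEFP.isDefectGroup_of_pos hM P hP hSyl B' hB' hd)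
    (fun B' hB' hBP => Cfsg.Agent.Lib.Helper13.DOROOT.exists_root hM P hP hSyl B' hB' hBP) x0
    (fun _ _ _ c' => Cfsg.Agent.Lib.Helper22.DOGSASM.exists_gsdata c') B θ T c

end Cfsg.Agent.Lib.Helper8.DOSQUEEZE
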