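/-
helper8: defect-one cluster, Part O, leaf DO-FULL (`struct_full_of`): the full structure theorem of a block of defect
one under the hypotheses of S4442 (assembly of GSASM, SQUEEZE, RANKD, UPPER, STRUCT).
-/
import Mathlib
import Cfsg.Prelude.Def_BlockRank
import Cfsg.Agent.Lib.Helper27.DODefs
import Cfsg.Agent.Lib.Helper27.BlkAlgDefs2
import Cfsg.Agent.Lib.Helper8.DOSQUEEZE
import Cfsg.Agent.Lib.Helper22.DOGSASM
import Cfsg.Agent.Lib.Helper13.DOSTRUCT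

set_option autoImplicit false

namespace Cfsg.Agent.Lib.Helper8.DOFULL

open Cfsg Cfsg.Agent.Lib.Helper8.DOM Cfsg.Agent.Lib.Helper27.DO Cfsg.Agent.Lib.Helper27.BlkAlg
open scoped ComplexConjugate

universe u

variable {G : Type u} [Group G] [Finite G] {p : ℕ} [Fact p.Prime] {M : Ideal AlgInt}

/-- a subgroup of prime order is generated by one element -/
theorem exists_gen (P : Subgroup G) (hP : Nat.card P = p) : ∃ x0 : G, P = Subgroup.zpowers x0 := by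
  have : IsCyclic ↥P := isCyclic_of_prime_card hP
  obtain ⟨g, hg⟩ := IsCyclic.exists_generator (α := ↥P)
  refine ⟨(g : G), ?_⟩
  ext x
  constructor
  · intro hx
    obtain ⟨k, hk⟩ := Subgroup.mem_zpowers_iff.mp (hg ⟨x, hx⟩)
    refine Subgroup.mem_zpowers_iff.mpr ⟨k, ?_⟩
    have := congrArg Subtype.val hk
    simpa using this
  · intro hx
    obtain ⟨k, hk⟩ := Subgroup.mem_zpowers_iff.mp hx
    rw [← hk]
    exact P.zpow_mem g.2 k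

/-- STRUCT (`_of` form over Part M's FINAL): the full structure theorem under the hypotheses of S4442. -/
theorem struct_full_of [Fintype (IrrCharacter G)] (hM : IsPModular p M) (P : Subgroup G)
    (hP : Nat.card P = p) (hSyl : ¬ p ∣ P.index)
    (hfinal : Nat.card (ConjClasses ((Nz P) ⧸ P.subgroupOf (Nz P))) ≤
      ∑ B ∈ blocks M G, if 0 < blockDefect p B then blockRank p B else 0)
    (B : Set (IrrCharacter G)) (hB : IsPBlock M B) (hBP : IsDefectGroup p M B P)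
    (θ : IrrCharacter (Cz P)) (hθP : PTriv P (θ : Cz P → ℂ))
    (hind : IsInducedBlock M (Cz P) (blockOf M (θ : Cz P → ℂ)) B)
    (T : Subgroup G) (hT : IsInertia P (θ : Cz P → ℂ) T) :
    (Cz P).relIndex T ∣ p - 1 ∧
    Nat.card B = (Cz P).relIndex T + (p - 1) / (Cz P).relIndex T ∧
    ∃ (X Y : Set (IrrCharacter G)) (εX : IrrCharacter G → ℤ) (ε : ℤ),
      B = X ∪ Y ∧ Disjoint X Y ∧ Nat.card X = (Cz P).relIndex T ∧
      Nat.card Y = (p - 1) / (Cz P).relIndex T ∧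
      (∀ χ ∈ X, εX χ = 1 ∨ εX χ = -1) ∧ (ε = 1 ∨ ε = -1) ∧
      (∀ ψ ∈ Y, ∀ ψ' ∈ Y, ∀ g : G, ¬ p ∣ orderOf g → (ψ : G → ℂ) g = (ψ' : G → ℂ) g) ∧
      (∀ ψ ∈ Y, ∀ g : G, ¬ p ∣ orderOf g →
        (ε : ℂ) * (ψ : G → ℂ) g = ∑ᶠ χ ∈ X, (εX χ : ℂ) * (χ : G → ℂ) g) ∧
      (∀ χ ∈ X, (charDegree (χ : G → ℂ) : ℤ) ≡
        εX χ * (((Cz P).relIndex (Nz P) / (Cz P).relIndex T * charDegree (θ : Cz P → ℂ) : ℕ) : ℤ)
          [ZMOD p]) ∧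
      (∀ ψ ∈ Y, (charDegree (ψ : G → ℂ) : ℤ) ≡
        ε * (((Cz P).relIndex (Nz P) * charDegree (θ : Cz P → ℂ) : ℕ) : ℤ) [ZMOD p]) ∧
      (∀ χ ∈ X, ∀ x ∈ P, x ≠ 1 → ∀ y ∈ Cz P, ¬ p ∣ orderOf y →
        (χ : G → ℂ) (x * y) = (εX χ : ℂ) * thetaSum P (θ : Cz P → ℂ) T y) ∧
      (∀ ψ ∈ Y, ∀ k : ℕ, ¬ p ∣ k → ∃ ψ' ∈ Y, ∀ x ∈ P, x ≠ 1 → ∀ y ∈ Cz P, ¬ p ∣ orderOf y →
        (ψ' : G → ℂ) (x * y) = (ψ : G → ℂ) (x ^ k * y)) ∧
      (∀ ψ ∈ Y, ∀ ψ' ∈ Y, ∃ k : ℕ, ¬ p ∣ k ∧ ∀ x ∈ P, x ≠ 1 → ∀ y ∈ Cz P, ¬ p ∣ orderOf y →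
        (ψ' : G → ℂ) (x * y) = (ψ : G → ℂ) (x ^ k * y)) := by
  obtain ⟨x0, hx0⟩ := exists_gen P hP
  have c : Ctx p M P B θ T x0 := ⟨hM, hP, hSyl, hB, hBP, hθP, hind, hT, hx0⟩
  obtain ⟨E, d⟩ := Cfsg.Agent.Lib.Helper22.DOGSASM.exists_gsdata c
  have hsq := Cfsg.Agent.Lib.Helper8.DOSQUEEZE.blockRank_eq_of hM P hP hSyl hfinal B θ T x0 c
  have h1 := Cfsg.Agent.Lib.Helper8.DOUPPER.card_le_of_data d
  have h2 := Cfsg.Agent.Lib.Helper8.DORANKD.blockRank_add_le_of_data d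
  have hcard : Nat.card B = Nat.card E + (p - 1) / Nat.card E := by
    rw [hsq, ← d.cardE] at h2
    omega
  obtain ⟨hdiv, hrest⟩ := Cfsg.Agent.Lib.Helper13.DOSTRUCT.struct_of_data d hP hT hcard
  refine ⟨hdiv, ?_, hrest⟩
  rw [hcard, d.cardE]

end Cfsg.Agent.Lib.Helper8.DOFULL
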