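/-
helper8: defect-one cluster, Part M: basic facts on `fixed`, `nrm`, `IsInv`, `Nz`.
-/
import Mathlib
import Cfsg.Agent.Lib.Helper8.DOMDefs

set_option autoImplicit false

namespace Cfsg.Agent.Lib.Helper8.DOMBasic

open Cfsg.Agent.Lib.Helper8.DOM

universe u v w

variable {F : Type u} [Field F] {G : Type v} [Group G]
variable {V : Type w} [AddCommGroup V] [Module F V]

theorem le_Nz (P : Subgroup G) : P ≤ Nz P := Subgroup.le_normalizer

theorem conj_mem_of_mem_Nz {P : Subgroup G} {n x : G} (hn : n ∈ Nz P) (hx : x ∈ P) :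
    n * x * n⁻¹ ∈ P := (Subgroup.mem_normalizer_iff.mp hn x).mp hx

theorem conj_inv_mem_of_mem_Nz {P : Subgroup G} {n x : G} (hn : n ∈ Nz P) (hx : x ∈ P) :
    n⁻¹ * x * n ∈ P := by
  have := conj_mem_of_mem_Nz ((Nz P).inv_mem hn) hx
  simpa using this

/-- the fixed points of `P` are stable under the normalizer -/
theorem fixed_isInv (ρ : Representation F G V) (P : Subgroup G) : IsInv ρ (Nz P) (fixed ρ P) := by
  intro n hn v hv x hx
  have h1 : x * n = n * (n⁻¹ * x * n) := by group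
  have h2 := hv _ (conj_inv_mem_of_mem_Nz hn hx)
  calc ρ x (ρ n v) = ρ (x * n) v := by rw [map_mul]; rfl
    _ = ρ (n * (n⁻¹ * x * n)) v := by rw [h1]
    _ = ρ n (ρ (n⁻¹ * x * n) v) := by rw [map_mul]; rfl
    _ = ρ n v := by rw [h2]

theorem IsInv.inf {ρ : Representation F G V} {H : Subgroup G} {U W : Submodule F V}
    (hU : IsInv ρ H U) (hW : IsInv ρ H W) : IsInv ρ H (U ⊓ W) :=
  fun h hh v hv => ⟨hU h hh v hv.1, hW h hh v hv.2⟩

theorem IsInv.mono {ρ : Representation F G V} {H K : Subgroup G} {U : Submodule F V}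
    (hU : IsInv ρ H U) (hK : K ≤ H) : IsInv ρ K U :=
  fun h hh v hv => hU h (hK hh) v hv

variable [Finite G]

/-- the norm operator commutes with the normalizer -/
theorem nrm_comm (ρ : Representation F G V) (P : Subgroup G) {n : G} (hn : n ∈ Nz P) (v : V) :
    ρ n (nrm ρ P v) = nrm ρ P (ρ n v) := by
  classical
  haveI : Fintype P := Fintype.ofFinite P
  rw [nrm_eq_sum]
  simp only [LinearMap.sum_apply, map_sum]
  let e : P ≃ P :=
    { toFun := fun x => ⟨n * x * n⁻¹, conj_mem_of_mem_Nz hn x.2⟩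
      invFun := fun x => ⟨n⁻¹ * x * n, conj_inv_mem_of_mem_Nz hn x.2⟩
      left_inv := fun x => by
        apply Subtype.ext
        show n⁻¹ * (n * x * n⁻¹) * n = x
        group
      right_inv := fun x => by
        apply Subtype.ext
        show n * (n⁻¹ * x * n) * n⁻¹ = x
        group }
  rw [← Equiv.sum_comp e (fun x : P => ρ (x : G) (ρ n v))]
  apply Finset.sum_congr rfl
  intro x _
  show ρ n (ρ (x : G) v) = ρ (n * x * n⁻¹) (ρ n v)
  have : n * x * n⁻¹ * n = n * x := by group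
  calc ρ n (ρ (x : G) v) = ρ (n * x) v := by rw [map_mul]; rfl
    _ = ρ (n * x * n⁻¹ * n) v := by rw [this]
    _ = ρ (n * x * n⁻¹) (ρ n v) := by rw [map_mul]; rfl

/-- the range of the norm operator is stable under the normalizer -/
theorem range_nrm_isInv (ρ : Representation F G V) (P : Subgroup G) :
    IsInv ρ (Nz P) (LinearMap.range (nrm ρ P)) := by
  rintro n hn _ ⟨w, rfl⟩
  exact ⟨ρ n w, (nrm_comm ρ P hn w).symm⟩

/-- norms are fixed -/
theorem range_nrm_le_fixed (ρ : Representation F G V) (P : Subgroup G) :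
    LinearMap.range (nrm ρ P) ≤ fixed ρ P := by
  classical
  haveI : Fintype P := Fintype.ofFinite P
  rintro _ ⟨w, rfl⟩ x hx
  rw [nrm_eq_sum]
  simp only [LinearMap.sum_apply, map_sum]
  let e : P ≃ P := Equiv.mulLeft (⟨x, hx⟩ : P)
  rw [← Equiv.sum_comp e (fun y : P => ρ (y : G) w)]
  apply Finset.sum_congr rfl
  intro y _
  show ρ x (ρ (y : G) w) = ρ ((⟨x, hx⟩ * y : P) : G) w
  rw [Subgroup.coe_mul, map_mul]
  rfl

/-- a `P`-stable subspace is mapped into itself by the norm -/
theorem nrm_mem_of_isInv (ρ : Representation F G V) (P : Subgroup G) {U : Submodule F V}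
    (hU : IsInv ρ P U) {u : V} (hu : u ∈ U) : nrm ρ P u ∈ U := by
  classical
  haveI : Fintype P := Fintype.ofFinite P
  rw [nrm_eq_sum, LinearMap.sum_apply]
  exact Submodule.sum_mem _ fun x _ => hU x x.2 u hu

end Cfsg.Agent.Lib.Helper8.DOMBasic
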