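/-
helper8: defect-one cluster, Part M: projections of an internal direct sum of submodules
(`exists_proj`), their equivariance (`proj_comm`), and small facts on `fixed` / `nrm` / `IsInv`.
-/
import Mathlib
import Cfsg.Agent.Lib.Helper8.DOMDefs

set_option autoImplicit false

namespace Cfsg.Agent.Lib.Helper8.DOMProj

open Cfsg.Agent.Lib.Helper8.DOM DirectSum

universe u v w

variable {F : Type u} [Field F] {V : Type w} [AddCommGroup V] [Module F V]

/-- projections of an internal direct sum -/
theorem exists_proj {ι : Type*} [Fintype ι] [DecidableEq ι] (U : ι → Submodule F V)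
    (hind : iSupIndep U) (hsup : (⨆ i, U i) = ⊤) :
    ∃ π : ι → V →ₗ[F] V, (∀ i v, π i v ∈ U i) ∧ (∀ v, ∑ i, π i v = v) ∧
      (∀ i, ∀ u ∈ U i, π i u = u) ∧ (∀ i j, i ≠ j → ∀ u ∈ U j, π i u = 0) := by
  classical
  have h : DirectSum.IsInternal U :=
    (DirectSum.isInternal_submodule_iff_iSupIndep_and_iSup_eq_top U).2 ⟨hind, hsup⟩
  let dec := LinearEquiv.ofBijective (DirectSum.coeLinearMap U) h
  refine ⟨fun i => (U i).subtype ∘ₗ (DirectSum.component F ι (fun i => U i) i) ∘ₗ dec.symm.toLinearMap,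
    ?_, ?_, ?_, ?_⟩
  · intro i v
    exact Submodule.coe_mem _
  · intro v
    have h1 : dec (dec.symm v) = v := dec.apply_symm_apply v
    have h2 : ∑ i, (DirectSum.of (fun i => U i) i) ((dec.symm v) i) = dec.symm v :=
      DirectSum.sum_univ_of (dec.symm v)
    have h3 : dec (∑ i, (DirectSum.of (fun i => U i) i) ((dec.symm v) i)) = v := by
      rw [h2, h1]
    rw [map_sum] at h3
    calc ∑ i, ((U i).subtype ∘ₗ (DirectSum.component F ι (fun i => U i) i) ∘ₗ dec.symm.toLinearMap) v
        = ∑ i, dec ((DirectSum.of (fun i => U i) i) ((dec.symm v) i)) := by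
          apply Finset.sum_congr rfl
          intro i _
          show (((dec.symm v) i : U i) : V) =
            DirectSum.coeLinearMap U (DirectSum.of (fun i => U i) i ((dec.symm v) i))
          rw [DirectSum.coeLinearMap_of]
      _ = v := h3
  · intro i u hu
    have := DirectSum.IsInternal.ofBijective_coeLinearMap_same h (i := i) ⟨u, hu⟩
    show (((dec.symm u) i : U i) : V) = u
    have h' : dec.symm u = (LinearEquiv.ofBijective (DirectSum.coeLinearMap U) h).symm ((⟨u, hu⟩ : U i) : V) := rfl
    rw [h', this]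
  · intro i j hij u hu
    have := DirectSum.IsInternal.ofBijective_coeLinearMap_of_ne h (i := j) (j := i) (Ne.symm hij) ⟨u, hu⟩
    show (((dec.symm u) i : U i) : V) = 0
    have h' : dec.symm u = (LinearEquiv.ofBijective (DirectSum.coeLinearMap U) h).symm ((⟨u, hu⟩ : U j) : V) := rfl
    rw [h', this]
    rfl

/-- a linear map preserving all the summands commutes with the projections -/
theorem proj_comm {ι : Type*} [Fintype ι] [DecidableEq ι] (U : ι → Submodule F V)
    (π : ι → V →ₗ[F] V) (h1 : ∀ i v, π i v ∈ U i) (h2 : ∀ v, ∑ i, π i v = v)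
    (h3 : ∀ i, ∀ u ∈ U i, π i u = u) (h4 : ∀ i j, i ≠ j → ∀ u ∈ U j, π i u = 0)
    (g : V →ₗ[F] V) (hg : ∀ i, ∀ u ∈ U i, g u ∈ U i) (i : ι) (v : V) :
    π i (g v) = g (π i v) := by
  classical
  conv_lhs => rw [← h2 v]
  rw [map_sum, map_sum, Finset.sum_eq_single i]
  · exact h3 i _ (hg i _ (h1 i v))
  · intro j _ hji
    exact h4 i j (Ne.symm hji) _ (hg j _ (h1 j v))
  · intro hi
    exact absurd (Finset.mem_univ i) hi

end Cfsg.Agent.Lib.Helper8.DOMProj
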