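/-
helper8: defect-one cluster, Part M, SIMPLEZ: for an irreducible representation `ρ` of `G` over an algebraically
closed field of characteristic `p`, `|P| = p`, `p ∤ |N_G(P) : P|`: there is no `N_G(P)`-stable subspace strictly
between `ν V` and `V^P`  (`Z(V) = V^P / ν V` is a simple `N`-module or zero).
-/
import Mathlib
import Cfsg.Agent.Lib.Helper8.DOMDefs
import Cfsg.Agent.Lib.Helper8.DOMBasic
import Cfsg.Agent.Lib.Helper8.DOMProj
import Cfsg.Agent.Lib.Helper9.DOMTRACE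
import Cfsg.Agent.Lib.Helper9.DOMTRFIX
import Cfsg.Agent.Lib.Helper17.DOMCORE
import Cfsg.Agent.Lib.Helper17.DOMDECOMP

set_option autoImplicit false

namespace Cfsg.Agent.Lib.Helper8.DOMSimpleZ

open Cfsg.Agent.Lib.Helper8.DOM Cfsg.Agent.Lib.Helper8.DOMBasic Cfsg.Agent.Lib.Helper8.DOMProj

universe u v w

variable {F : Type u} [Field F] [IsAlgClosed F] {G : Type v} [Group G] [Finite G]
variable (p : ℕ) [Fact p.Prime] [CharP F p]

/-- Schur: an endomorphism commuting with all of `G` is a scalar -/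
theorem eq_smul_of_comm_top {V : Type w} [AddCommGroup V] [Module F V] [FiniteDimensional F V]
    (ρ : Representation F G V) (hirr : ρ.IsIrreducible) (ψ : V →ₗ[F] V) (hψ : Comm ρ ⊤ ψ) :
    ∃ c : F, ∀ v, ψ v = c • v := by
  haveI := hirr
  let f : Representation.IntertwiningMap ρ ρ :=
    { toLinearMap := ψ
      isIntertwining' := fun g => (hψ g (Subgroup.mem_top g)).symm }
  obtain ⟨c, hc⟩ :=
    (Representation.IsIrreducible.algebraMap_intertwiningMap_bijective_of_isAlgClosed (ρ := ρ)).2 f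
  refine ⟨c, fun v => ?_⟩
  have h1 : (algebraMap F (Representation.IntertwiningMap ρ ρ) c).toLinearMap v = f.toLinearMap v := by
    rw [hc]
  rw [show f.toLinearMap v = ψ v from rfl] at h1
  rw [← h1]
  simp [Algebra.algebraMap_eq_smul_one]


/-- SIMPLEZ -/
theorem stable_fix_simple {V : Type w} [AddCommGroup V] [Module F V] [FiniteDimensional F V]
    (ρ : Representation F G V) (hirr : ρ.IsIrreducible) (P : Subgroup G) (hP : Nat.card P = p)
    (hidx : ¬ p ∣ P.relIndex (Nz P)) (W : Submodule F V) (hW : IsInv ρ (Nz P) W)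
    (h1 : LinearMap.range (nrm ρ P) ≤ W) (h2 : W ≤ fixed ρ P) :
    W = LinearMap.range (nrm ρ P) ∨ W = fixed ρ P := by
  classical
  obtain ⟨n, U, hind, hsup, hU⟩ := Cfsg.Agent.Lib.Helper17.DOMDECOMP.exists_decomp_of ρ P
    (fun V₀ h h' => Cfsg.Agent.Lib.Helper17.DOMCORE.exists_summand p ρ P hP hidx V₀ h h')
  obtain ⟨π, hπ1, hπ2, hπ3, hπ4⟩ := exists_proj U hind hsup
  -- the projections commute with `N`
  have hπN : ∀ i, ∀ g ∈ Nz P, ∀ v, π i (ρ g v) = ρ g (π i v) := fun i g hg v =>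
    proj_comm U π hπ1 hπ2 hπ3 hπ4 (ρ g) (fun j u hu => (hU j).1 g hg u hu) i v
  -- and with the norm
  have hπν : ∀ i v, π i (nrm ρ P v) = nrm ρ P (π i v) := fun i v =>
    proj_comm U π hπ1 hπ2 hπ3 hπ4 (nrm ρ P)
      (fun j u hu => nrm_mem_of_isInv ρ P (IsInv.mono (hU j).1 (le_Nz P)) hu) i v
  -- `U i ∩ range ν = ν (U i)`
  have hUν : ∀ i, ∀ v ∈ U i, v ∈ LinearMap.range (nrm ρ P) → v ∈ (U i).map (nrm ρ P) := by
    rintro i v hv ⟨w, rfl⟩
    refine ⟨π i w, hπ1 i w, ?_⟩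
    rw [← hπν, hπ3 i _ hv]
  -- components of fixed vectors are fixed
  have hπfix : ∀ i, ∀ v ∈ fixed ρ P, π i v ∈ fixed ρ P := by
    intro i v hv x hx
    rw [← hπN i x (le_Nz P hx), hv x hx]
  -- at most one bad index
  have hbad : ∀ i₁ i₂, ¬ (U i₁ ⊓ fixed ρ P ≤ (U i₁).map (nrm ρ P)) →
      ¬ (U i₂ ⊓ fixed ρ P ≤ (U i₂).map (nrm ρ P)) → i₁ = i₂ := by
    intro i₁ i₂ hb1 hb2
    by_contra hne
    have hk1 : U i₁ ≤ LinearMap.ker (nrm ρ P) := ((hU i₁).2.2).resolve_right hb1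
    have hk2 : U i₂ ≤ LinearMap.ker (nrm ρ P) := ((hU i₂).2.2).resolve_right hb2
    have hm1 : (U i₁).map (nrm ρ P) = ⊥ := by
      rw [eq_bot_iff]
      rintro _ ⟨u, hu, rfl⟩
      exact hk1 hu
    have hm2 : (U i₂).map (nrm ρ P) = ⊥ := by
      rw [eq_bot_iff]
      rintro _ ⟨u, hu, rfl⟩
      exact hk2 hu
    have hcomm : Comm ρ (Nz P) (π i₁) := by
      intro g hg
      ext v
      exact (hπN i₁ g hg v).symm
    obtain ⟨ψ, γ, hψ, hψe⟩ := Cfsg.Agent.Lib.Helper9.DOMTRACE.exists_tr1_eq p ρ P hP hidx (π i₁) hcomm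
    obtain ⟨c, hc⟩ := eq_smul_of_comm_top ρ hirr ψ hψ
    -- `c = 0`
    have hc0 : c = 0 := by
      by_contra hc0
      apply hb2
      intro u hu
      rw [hm2]
      have e1 : π i₁ u = 0 := hπ4 i₁ i₂ hne u hu.1
      have e2 : c • u = tr1 ρ ρ (Nz P) γ u := by
        rw [← hc u, hψe, LinearMap.add_apply, e1, zero_add]
      have e3 : c • u ∈ (U i₂).map (nrm ρ P) :=
        hUν i₂ _ ((U i₂).smul_mem c hu.1) (e2 ▸ Cfsg.Agent.Lib.Helper9.DOMTRFIX.tr1_mem_range_nrm ρ P γ u hu.2)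
      rw [hm2, Submodule.mem_bot] at e3
      rw [Submodule.mem_bot]
      exact (smul_eq_zero.mp e3).resolve_left hc0
    apply hb1
    intro u hu
    rw [hm1]
    have e1 : π i₁ u = u := hπ3 i₁ u hu.1
    have e2 : u = - tr1 ρ ρ (Nz P) γ u := by
      have := hc u
      rw [hc0, zero_smul, hψe, LinearMap.add_apply, e1] at this
      exact eq_neg_of_add_eq_zero_left this
    have e3 : u ∈ (U i₁).map (nrm ρ P) := by
      apply hUν i₁ u hu.1
      rw [e2]
      exact Submodule.neg_mem _ (Cfsg.Agent.Lib.Helper9.DOMTRFIX.tr1_mem_range_nrm ρ P γ u hu.2)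
    rw [hm1] at e3
    exact e3
  by_cases hex : ∃ i₀, ¬ (U i₀ ⊓ fixed ρ P ≤ (U i₀).map (nrm ρ P))
  · obtain ⟨i₀, hi₀⟩ := hex
    -- `fixed ≤ range ν ⊔ (U i₀ ⊓ fixed)`
    have hfix : ∀ v ∈ fixed ρ P, ∃ a ∈ LinearMap.range (nrm ρ P), ∃ b ∈ U i₀ ⊓ fixed ρ P,
        v = a + b := by
      intro v hv
      refine ⟨∑ i ∈ Finset.univ.erase i₀, π i v, ?_, π i₀ v, ⟨hπ1 i₀ v, hπfix i₀ v hv⟩, ?_⟩
      · apply Submodule.sum_mem
        intro i hi
        have hne : i ≠ i₀ := Finset.ne_of_mem_erase hi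
        have hgood : U i ⊓ fixed ρ P ≤ (U i).map (nrm ρ P) := by
          by_contra hb
          exact hne (hbad i i₀ hb hi₀)
        exact LinearMap.map_le_range (hgood ⟨hπ1 i v, hπfix i v hv⟩)
      · rw [Finset.sum_erase_add _ _ (Finset.mem_univ i₀), hπ2]
    have hW0 : IsInv ρ (Nz P) (W ⊓ (U i₀ ⊓ fixed ρ P)) :=
      IsInv.inf hW (IsInv.inf (hU i₀).1 (fixed_isInv ρ P))
    rcases (hU i₀).2.1 _ hW0 inf_le_right with h0 | h0
    · left
      apply le_antisymm _ h1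
      intro w hw
      obtain ⟨a, ha, b, hb, hab⟩ := hfix w (h2 hw)
      have hbW : b ∈ W := by
        have : b = w - a := by rw [hab]; abel
        rw [this]
        exact W.sub_mem hw (h1 ha)
      have hb0 : b ∈ W ⊓ (U i₀ ⊓ fixed ρ P) := ⟨hbW, hb⟩
      rw [h0, Submodule.mem_bot] at hb0
      rw [hab, hb0, add_zero]
      exact ha
    · right
      apply le_antisymm h2
      intro v hv
      obtain ⟨a, ha, b, hb, hab⟩ := hfix v hv
      rw [hab]
      have hb' : b ∈ W ⊓ (U i₀ ⊓ fixed ρ P) := by rw [h0]; exact hb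
      exact W.add_mem (h1 ha) hb'.1
  · simp only [not_exists, not_not] at hex
    left
    apply le_antisymm _ h1
    intro w hw
    have hv := h2 hw
    rw [← hπ2 w]
    apply Submodule.sum_mem
    intro i _
    exact LinearMap.map_le_range (hex i ⟨hπ1 i w, hπfix i w hv⟩)

end Cfsg.Agent.Lib.Helper8.DOMSimpleZ
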