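/-
helper8: defect-one cluster, Part M, INJ: two irreducible `N`-modules `T`, `T'` (with `P` acting trivially) mapping
to `V^P` outside `ν V` for the same irreducible `G`-module `V` are isomorphic (uses SIMPLEZ).
-/
import Mathlib
import Cfsg.Agent.Lib.Helper8.DOMSimpleZ

set_option autoImplicit false

namespace Cfsg.Agent.Lib.Helper8.DOMInj

open Cfsg.Agent.Lib.Helper8.DOM Cfsg.Agent.Lib.Helper8.DOMBasic Cfsg.Agent.Lib.Helper8.DOMSimpleZ

universe u v w w₁ w₂

variable {F : Type u} [Field F] [IsAlgClosed F] {G : Type v} [Group G] [Finite G]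
variable (p : ℕ) [Fact p.Prime] [CharP F p]

/-- the kernel-type subrepresentation attached to an equivariant map and an invariant target subspace -/
def comapSub {N : Type*} [Group N] {T : Type w₁} [AddCommGroup T] [Module F T]
    {V : Type w} [AddCommGroup V] [Module F V]
    (τ : Representation F N T) (σ : Representation F G V) (ι : N →* G) (f : T →ₗ[F] V)
    (hf : ∀ n t, f (τ n t) = σ (ι n) (f t)) (R : Submodule F V)
    (hR : ∀ n : N, ∀ v ∈ R, σ (ι n) v ∈ R) : Subrepresentation τ where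
  toSubmodule := R.comap f
  apply_mem_toSubmodule := by
    intro n t ht
    show f (τ n t) ∈ R
    rw [hf]
    exact hR n _ ht

/-- `range f ⊔ ν V = V^P` -/
theorem range_sup_eq_fixed {V : Type w} [AddCommGroup V] [Module F V] [FiniteDimensional F V]
    (σ : Representation F G V) (hirr : σ.IsIrreducible) (P : Subgroup G) (hP : Nat.card P = p)
    (hidx : ¬ p ∣ P.relIndex (Nz P))
    {T₀ : Type w₁} [AddCommGroup T₀] [Module F T₀] (τ₀ : Representation F (Nz P) T₀)
    (f₀ : T₀ →ₗ[F] V) (hf₀ : ∀ (n : Nz P) t, f₀ (τ₀ n t) = σ (n : G) (f₀ t))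
    (hfix₀ : ∀ x, f₀ x ∈ fixed σ P) (t₀ : T₀) (ht₀ : f₀ t₀ ∉ LinearMap.range (nrm σ P)) :
    LinearMap.range f₀ ⊔ LinearMap.range (nrm σ P) = fixed σ P := by
  have hinv : IsInv σ (Nz P) (LinearMap.range f₀ ⊔ LinearMap.range (nrm σ P)) := by
    intro n hn v hv
    obtain ⟨a, ha, b, hb, rfl⟩ := Submodule.mem_sup.mp hv
    obtain ⟨x, rfl⟩ := ha
    rw [map_add]
    refine Submodule.add_mem _ (Submodule.mem_sup_left ⟨τ₀ ⟨n, hn⟩ x, hf₀ ⟨n, hn⟩ x⟩)
      (Submodule.mem_sup_right (range_nrm_isInv σ P n hn b hb))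
  have hle : LinearMap.range f₀ ⊔ LinearMap.range (nrm σ P) ≤ fixed σ P := by
    apply sup_le
    · rintro _ ⟨x, rfl⟩
      exact hfix₀ x
    · exact range_nrm_le_fixed σ P
  rcases stable_fix_simple p σ hirr P hP hidx _ hinv le_sup_right hle with h | h
  · exfalso
    apply ht₀
    have : f₀ t₀ ∈ LinearMap.range f₀ ⊔ LinearMap.range (nrm σ P) :=
      Submodule.mem_sup_left ⟨t₀, rfl⟩
    rw [h] at this
    exact this
  · exact h

/-- INJ -/
theorem exists_equiv_of_maps {V : Type w} [AddCommGroup V] [Module F V] [FiniteDimensional F V]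
    (σ : Representation F G V) (hirr : σ.IsIrreducible) (P : Subgroup G) (hP : Nat.card P = p)
    (hidx : ¬ p ∣ P.relIndex (Nz P))
    {T : Type w₁} [AddCommGroup T] [Module F T] (τ : Representation F (Nz P) T) (hτ : τ.IsIrreducible)
    (hτP : ∀ x : Nz P, (x : G) ∈ P → τ x = 1)
    {T' : Type w₂} [AddCommGroup T'] [Module F T'] (τ' : Representation F (Nz P) T')
    (hτ' : τ'.IsIrreducible) (hτP' : ∀ x : Nz P, (x : G) ∈ P → τ' x = 1)
    (f : T →ₗ[F] V) (hf : ∀ (n : Nz P) t, f (τ n t) = σ (n : G) (f t))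
    (t : T) (ht : f t ∉ LinearMap.range (nrm σ P))
    (f' : T' →ₗ[F] V) (hf' : ∀ (n : Nz P) t, f' (τ' n t) = σ (n : G) (f' t))
    (t' : T') (ht' : f' t' ∉ LinearMap.range (nrm σ P)) :
    ∃ θ : T ≃ₗ[F] T', ∀ (n : Nz P) x, θ (τ n x) = τ' n (θ x) := by
  classical
  set R := LinearMap.range (nrm σ P) with hRdef
  have hRinv : ∀ n : Nz P, ∀ v ∈ R, σ ((Nz P).subtype n) v ∈ R := fun n v hv =>
    range_nrm_isInv σ P n n.2 v hv
  -- images land in the fixed points
  have himfix : ∀ x, f x ∈ fixed σ P := by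
    intro x y hy
    have h1 := hf ⟨y, le_Nz P hy⟩ x
    rw [hτP ⟨y, le_Nz P hy⟩ hy] at h1
    exact h1.symm
  have himfix' : ∀ x, f' x ∈ fixed σ P := by
    intro x y hy
    have h1 := hf' ⟨y, le_Nz P hy⟩ x
    rw [hτP' ⟨y, le_Nz P hy⟩ hy] at h1
    exact h1.symm
  -- `comap f R = ⊥`
  have hcomap : R.comap f = ⊥ := by
    haveI := hτ
    have h := eq_bot_or_eq_top (comapSub τ σ (Nz P).subtype f hf R hRinv)
    rcases h with h | h
    · have := congrArg Subrepresentation.toSubmodule h
      exact this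
    · exfalso
      have := congrArg Subrepresentation.toSubmodule h
      have h2 : t ∈ R.comap f := by
        show t ∈ (comapSub τ σ (Nz P).subtype f hf R hRinv).toSubmodule
        rw [this]
        trivial
      exact ht h2
  have hcomap' : R.comap f' = ⊥ := by
    haveI := hτ'
    have h := eq_bot_or_eq_top (comapSub τ' σ (Nz P).subtype f' hf' R hRinv)
    rcases h with h | h
    · exact congrArg Subrepresentation.toSubmodule h
    · exfalso
      have := congrArg Subrepresentation.toSubmodule h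
      have h2 : t' ∈ R.comap f' := by
        show t' ∈ (comapSub τ' σ (Nz P).subtype f' hf' R hRinv).toSubmodule
        rw [this]
        trivial
      exact ht' h2
  have hs := range_sup_eq_fixed p σ hirr P hP hidx τ f hf himfix t ht
  have hs' := range_sup_eq_fixed p σ hirr P hP hidx τ' f' hf' himfix' t' ht'
  -- the maps to the quotient
  let q : V →ₗ[F] V ⧸ R := R.mkQ
  have hinj : Function.Injective (q ∘ₗ f) := by
    rw [← LinearMap.ker_eq_bot, LinearMap.ker_comp, Submodule.ker_mkQ]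
    exact hcomap
  have hinj' : Function.Injective (q ∘ₗ f') := by
    rw [← LinearMap.ker_eq_bot, LinearMap.ker_comp, Submodule.ker_mkQ]
    exact hcomap'
  have hrange : LinearMap.range (q ∘ₗ f) = LinearMap.range (q ∘ₗ f') := by
    have e1 : LinearMap.range (q ∘ₗ f) = (LinearMap.range f ⊔ R).map q := by
      rw [LinearMap.range_comp, Submodule.map_sup]
      have : R.map q = ⊥ := by
        rw [eq_bot_iff]
        rintro _ ⟨r, hr, rfl⟩
        exact (Submodule.Quotient.mk_eq_zero R).mpr hr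
      rw [this, sup_bot_eq]
    have e2 : LinearMap.range (q ∘ₗ f') = (LinearMap.range f' ⊔ R).map q := by
      rw [LinearMap.range_comp, Submodule.map_sup]
      have : R.map q = ⊥ := by
        rw [eq_bot_iff]
        rintro _ ⟨r, hr, rfl⟩
        exact (Submodule.Quotient.mk_eq_zero R).mpr hr
      rw [this, sup_bot_eq]
    rw [e1, e2, hs, hs']
  let E := LinearEquiv.ofInjective (q ∘ₗ f) hinj
  let E' := LinearEquiv.ofInjective (q ∘ₗ f') hinj'
  let θ : T ≃ₗ[F] T' := E.trans ((LinearEquiv.ofEq _ _ hrange).trans E'.symm)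
  have hθ : ∀ x, q (f' (θ x)) = q (f x) := by
    intro x
    have h1 : (E' (θ x) : V ⧸ R) = (E x : V ⧸ R) := by
      show (E' (E'.symm ((LinearEquiv.ofEq _ _ hrange) (E x))) : V ⧸ R) = _
      rw [LinearEquiv.apply_symm_apply]
      rfl
    exact h1
  refine ⟨θ, fun n x => ?_⟩
  apply hinj'
  show q (f' (θ (τ n x))) = q (f' (τ' n (θ x)))
  rw [hθ, hf, hf']
  have h1 := hθ x
  have h2 : f' (θ x) - f x ∈ R := by
    have : q (f' (θ x) - f x) = 0 := by rw [map_sub, h1, sub_self]
    exact (Submodule.Quotient.mk_eq_zero R).mp this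
  have h3 : σ (n : G) (f' (θ x)) - σ (n : G) (f x) ∈ R := by
    rw [← map_sub]
    exact range_nrm_isInv σ P n n.2 _ h2
  have : q (σ (n : G) (f' (θ x)) - σ (n : G) (f x)) = 0 :=
    (Submodule.Quotient.mk_eq_zero R).mpr h3
  rw [map_sub, sub_eq_zero] at this
  exact this.symm

end Cfsg.Agent.Lib.Helper8.DOMInj
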