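/-
helper8: defect-one cluster, Part M, COUNT (= Theorem M): the number of classes of `N_G(P)/P` is at most the number
of members `i` of a complete family of representations with `V_i^P ≠ ν V_i`.
-/
import Mathlib
import Cfsg.Agent.Lib.Helper8.DOMInj
import Cfsg.Agent.Lib.Helper29.DOMCNT
import Cfsg.Agent.Lib.Helper20.DOMDEVISS

set_option autoImplicit false

namespace Cfsg.Agent.Lib.Helper8.DOMCount

open Cfsg.Agent.Lib.Helper8.DOM Cfsg.Agent.Lib.Helper8.DOMBasic Cfsg.Agent.Lib.Helper8.DOMSimpleZ
open Cfsg.Agent.Lib.Helper8.DOMInj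

universe u v w

variable {F : Type u} [Field F] [IsAlgClosed F] {G : Type v} [Group G] [Finite G]
variable (p : ℕ) [Fact p.Prime] [CharP F p]

/-- an equivariant linear equivalence intertwines the norm operators -/
theorem equiv_nrm {V : Type*} [AddCommGroup V] [Module F V] {X : Type*} [AddCommGroup X] [Module F X]
    (σ : Representation F G V) (ρ : Representation F G X) (e : V ≃ₗ[F] X)
    (he : ∀ g x, e (σ g x) = ρ g (e x)) (P : Subgroup G) (v : V) :
    e (nrm σ P v) = nrm ρ P (e v) := by
  classical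
  have : Fintype P := Fintype.ofFinite P
  rw [nrm_eq_sum, nrm_eq_sum, LinearMap.sum_apply, LinearMap.sum_apply, map_sum]
  exact Finset.sum_congr rfl fun x _ => he x v

/-- transport of irreducibility along an equivariant linear equivalence -/
theorem irreducible_of_equiv {V : Type*} [AddCommGroup V] [Module F V] {X : Type*} [AddCommGroup X]
    [Module F X] (σ : Representation F G V) (ρ : Representation F G X) (e : V ≃ₗ[F] X)
    (he : ∀ g x, e (σ g x) = ρ g (e x)) (hσ : σ.IsIrreducible) : ρ.IsIrreducible := by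
  have he' : ∀ g y, e.symm (ρ g y) = σ g (e.symm y) := by
    intro g y
    apply e.injective
    rw [e.apply_symm_apply, he, e.apply_symm_apply]
  let φ : Subrepresentation ρ ≃o Subrepresentation σ :=
    { toFun := fun W => ⟨W.toSubmodule.comap e.toLinearMap, fun g v hv => by
        show e (σ g v) ∈ W.toSubmodule
        rw [he]
        exact W.apply_mem_toSubmodule g hv⟩
      invFun := fun W => ⟨W.toSubmodule.comap e.symm.toLinearMap, fun g v hv => by
        show e.symm (ρ g v) ∈ W.toSubmodule
        rw [he']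
        exact W.apply_mem_toSubmodule g hv⟩
      left_inv := fun W => by
        apply Subrepresentation.toSubmodule_injective
        ext v
        show e (e.symm v) ∈ W.toSubmodule ↔ _
        rw [e.apply_symm_apply]
      right_inv := fun W => by
        apply Subrepresentation.toSubmodule_injective
        ext v
        show e.symm (e v) ∈ W.toSubmodule ↔ _
        rw [e.symm_apply_apply]
      map_rel_iff' := by
        intro W W'
        constructor
        · intro h v hv
          have := h (show e.symm v ∈ W.toSubmodule.comap e.toLinearMap by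
            show e (e.symm v) ∈ W.toSubmodule
            rw [e.apply_symm_apply]; exact hv)
          have h2 : e (e.symm v) ∈ W'.toSubmodule := this
          rwa [e.apply_symm_apply] at h2
        · intro h v hv
          exact h hv }
  exact (OrderIso.isSimpleOrder_iff φ).2 hσ


/-- COUNT : Theorem M -/
theorem card_conjClasses_le_card_stableFix (P : Subgroup G) (hP : Nat.card P = p)
    (hidx : ¬ p ∣ P.relIndex (Nz P)) (l : ℕ) (d : Fin l → ℕ)
    (ρ : ∀ i, Representation F G (Fin (d i) → F))
    (hcomplete : ∀ (V : Type (max u v)) [AddCommGroup V] [Module F V] (σ : Representation F G V),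
      σ.IsIrreducible → ∃ i, ∃ e : V ≃ₗ[F] (Fin (d i) → F), ∀ g x, e (σ g x) = ρ i g (e x)) :
    Nat.card (ConjClasses ((Nz P) ⧸ P.subgroupOf (Nz P))) ≤
      Nat.card {i : Fin l // StableFix (ρ i) P} := by
  classical
  -- the quotient `H = N/P` is a `p'`-group
  have hH : (Nat.card ((Nz P) ⧸ P.subgroupOf (Nz P)) : F) ≠ 0 := by
    have h1 : Nat.card ((Nz P) ⧸ P.subgroupOf (Nz P)) = P.relIndex (Nz P) := by
      rw [Subgroup.relIndex, Subgroup.index]
    rw [h1]
    intro h0
    exact hidx ((CharP.cast_eq_zero_iff F p _).mp h0)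
  obtain ⟨d', τ', hτ'irr, hτ'ne⟩ :=
    Cfsg.Agent.Lib.Helper29.DOMCNT.exists_irr_family (F := F) ((Nz P) ⧸ P.subgroupOf (Nz P)) hH
  -- pull back to `N`
  let mk : (Nz P) →* (Nz P) ⧸ P.subgroupOf (Nz P) := QuotientGroup.mk' _
  let τ : ∀ a, Representation F (Nz P) (Fin (d' a) → F) := fun a => (τ' a).comp mk
  have hτP : ∀ a, ∀ x : Nz P, (x : G) ∈ P → τ a x = 1 := by
    intro a x hx
    have : mk x = 1 := by
      show (QuotientGroup.mk x : (Nz P) ⧸ P.subgroupOf (Nz P)) = 1
      rw [QuotientGroup.eq_one_iff]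
      exact Subgroup.mem_subgroupOf.mpr hx
    show τ' a (mk x) = 1
    rw [this, map_one]
  have hmk : Function.Surjective mk := QuotientGroup.mk'_surjective _
  have hτirr : ∀ a, (τ a).IsIrreducible := by
    intro a
    let φ : Subrepresentation (τ a) ≃o Subrepresentation (τ' a) :=
      { toFun := fun W => ⟨W.toSubmodule, fun h v hv => by
          obtain ⟨n, rfl⟩ := hmk h
          exact W.apply_mem_toSubmodule n hv⟩
        invFun := fun W => ⟨W.toSubmodule, fun n v hv => W.apply_mem_toSubmodule (mk n) hv⟩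
        left_inv := fun W => rfl
        right_inv := fun W => rfl
        map_rel_iff' := Iff.rfl }
    exact (OrderIso.isSimpleOrder_iff φ).2 (hτ'irr a)
  have hnontriv : ∀ a, Nontrivial (Fin (d' a) → F) := by
    intro a
    haveI := hτ'irr a
    have h1 : IsSimpleModule (MonoidAlgebra F ((Nz P) ⧸ P.subgroupOf (Nz P))) (τ' a).asModule :=
      inferInstance
    exact IsSimpleModule.nontrivial (MonoidAlgebra F ((Nz P) ⧸ P.subgroupOf (Nz P))) (τ' a).asModule
  -- for every `a` an index `i` and a map
  have key : ∀ a, ∃ i : Fin l, (ρ i).IsIrreducible ∧ ∃ g : (Fin (d' a) → F) →ₗ[F] (Fin (d i) → F),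
      (∀ (n : Nz P) t, g (τ a n t) = ρ i (n : G) (g t)) ∧
      ∃ t, g t ∉ LinearMap.range (nrm (ρ i) P) := by
    intro a
    haveI := hnontriv a
    obtain ⟨V, _, _, _, σ, hσ, f, hf, t, ht⟩ :=
      Cfsg.Agent.Lib.Helper20.DOMDEVISS.exists_irr_stable_map (F := F) p P hP hidx (τ a) (hτP a)
    obtain ⟨i, e, he⟩ := hcomplete V σ hσ
    refine ⟨i, irreducible_of_equiv σ (ρ i) e he hσ, e.toLinearMap ∘ₗ f, ?_, t, ?_⟩
    · intro n x
      show e (f (τ a n x)) = ρ i (n : G) (e (f x))
      rw [hf, he]
    · rintro ⟨w, hw⟩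
      apply ht
      refine ⟨e.symm w, ?_⟩
      apply e.injective
      rw [equiv_nrm σ (ρ i) e he P, e.apply_symm_apply]
      exact hw
  choose ι hιirr g hg t ht using key
  -- the map `a ↦ ι a` lands in the stable-fix indices
  have hstab : ∀ a, StableFix (ρ (ι a)) P := by
    intro a hle
    apply ht a
    apply hle
    intro y hy
    have h1 := hg a ⟨y, le_Nz P hy⟩ (t a)
    rw [hτP a ⟨y, le_Nz P hy⟩ hy] at h1
    exact h1.symm
  -- and is injective
  have hinj : Function.Injective (fun a => (⟨ι a, hstab a⟩ : {i : Fin l // StableFix (ρ i) P})) := by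
    intro a b hab
    have hιab : ι a = ι b := congrArg Subtype.val hab
    by_contra hne
    -- transport the data of `b` to the index `ι a`
    have hb : ∃ g' : (Fin (d' b) → F) →ₗ[F] (Fin (d (ι a)) → F),
        (∀ (n : Nz P) t, g' (τ b n t) = ρ (ι a) (n : G) (g' t)) ∧
        ∃ t, g' t ∉ LinearMap.range (nrm (ρ (ι a)) P) := by
      rw [hιab]
      exact ⟨g b, hg b, t b, ht b⟩
    obtain ⟨g', hg', t', ht'⟩ := hb
    obtain ⟨θ, hθ⟩ := exists_equiv_of_maps p (ρ (ι a)) (hιirr a) P hP hidx (τ a) (hτirr a) (hτP a)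
      (τ b) (hτirr b) (hτP b) (g a) (hg a) (t a) (ht a) g' hg' t' ht'
    apply hτ'ne a b hne
    refine ⟨θ, fun h x => ?_⟩
    obtain ⟨n, rfl⟩ := hmk h
    exact hθ n x
  calc Nat.card (ConjClasses ((Nz P) ⧸ P.subgroupOf (Nz P)))
      = Nat.card (Fin (Nat.card (ConjClasses ((Nz P) ⧸ P.subgroupOf (Nz P))))) := by
        rw [Nat.card_fin]
    _ ≤ Nat.card {i : Fin l // StableFix (ρ i) P} := Nat.card_le_card_of_injective _ hinj

end Cfsg.Agent.Lib.Helper8.DOMCount
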