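/-
helper8: defect-one cluster, Part M, FINAL (the interface with Part O): for a subgroup `P` of order `p` with
`p ∤ |N_G(P) : P|`, the number of classes of `N_G(P)/P` is at most the sum of the `p`-regular ranks of the blocks of
positive defect.
-/
import Mathlib
import Cfsg.Agent.Lib.Helper8.DOMCount
import Cfsg.Agent.Lib.Helper22.DOMBLK
import Cfsg.Agent.Lib.Helper29.DOMCNT
import Cfsg.Agent.Lib.Helper12.DOMWEDD
import Cfsg.Agent.Lib.Helper22.DOMDEFZERO

set_option autoImplicit false

namespace Cfsg.Agent.Lib.Helper8.DOMFinal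

open Cfsg Cfsg.Agent.Lib.Helper8.DOM Cfsg.Agent.Lib.Helper27.BlkAlg

universe v

variable (M : Ideal AlgInt) [M.IsMaximal] {G : Type v} [Group G] [Fintype G]
variable [Fintype (IrrCharacter G)] {p : ℕ} [Fact p.Prime]

/-- FINAL : the interface with Part O -/
theorem card_conjClasses_le_sum_blockRank (hM : IsPModular p M) (P : Subgroup G)
    (hP : Nat.card P = p) (hidx : ¬ p ∣ P.relIndex (Nz P)) :
    Nat.card (ConjClasses ((Nz P) ⧸ P.subgroupOf (Nz P))) ≤
      ∑ B ∈ blocks M G, if 0 < blockDefect p B then blockRank p B else 0 := by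
  classical
  haveI := Cfsg.Agent.Lib.Helper19.BlkAlgB1.isAlgClosed_resField M
  haveI := Cfsg.Agent.Lib.Helper27.BlkAlgL.charP_resField M hM
  obtain ⟨l, d, hd, π, hπ, hcomplete⟩ := Cfsg.Agent.Lib.Helper12.DOMWEDD.exists_wedderburn.{0, v, v} (F := ResField M) G
  let ρ : ∀ i, Representation (ResField M) G (Fin (d i) → ResField M) :=
    fun i => Cfsg.Agent.Lib.Helper29.DOMCNT.compRep π i
  have h1 := Cfsg.Agent.Lib.Helper8.DOMCount.card_conjClasses_le_card_stableFix
    (F := ResField M) p P hP hidx l d ρ
    (fun V _ _ σ hσ => hcomplete V σ hσ)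
  refine le_trans h1 ?_
  -- every stable-fix index lies in a block of positive defect
  have hcover : ∀ i : Fin l, StableFix (ρ i) P →
      ∃ B ∈ (blocks M G).filter (fun B => 0 < blockDefect p B), π (ebar M B) i ≠ 0 := by
    intro i hi
    have hsum : ∑ B ∈ blocks M G, π (ebar M B) i = 1 := by
      have := congrArg (fun x => π x i) (Cfsg.Agent.Lib.Helper18.BlkAlgB3.sum_ebar M (G := G) hM)
      simp only [map_sum, map_one, Finset.sum_apply, Pi.one_apply] at this
      exact this
    have hex : ∃ B ∈ blocks M G, π (ebar M B) i ≠ 0 := by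
      by_contra hcon
      push Not at hcon
      rw [Finset.sum_eq_zero (fun B hB => hcon B hB)] at hsum
      haveI := hd i
      exact zero_ne_one hsum
    obtain ⟨B, hB, hne⟩ := hex
    refine ⟨B, Finset.mem_filter.mpr ⟨hB, ?_⟩, hne⟩
    by_contra hdef
    have hd0 : blockDefect p B = 0 := Nat.eq_zero_of_not_pos hdef
    have hBblock : IsPBlock M B := (mem_blocks M B).mp hB
    apply hi
    apply Cfsg.Agent.Lib.Helper22.DOMDEFZERO.fixed_le_range_nrm_of_defect_zero M hM hBblock hd0 (ρ i) _ P
    -- `ebar` acts as the identity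
    haveI := hd i
    have hidem : π (ebar M B) i * π (ebar M B) i = π (ebar M B) i := by
      have := congrArg (fun x => π x i) (Cfsg.Agent.Lib.Helper18.BlkAlgB3.ebar_mul_self M hM hBblock)
      simpa only [map_mul, Pi.mul_apply] using this
    have hcomm : ∀ m : Matrix (Fin (d i)) (Fin (d i)) (ResField M),
        π (ebar M B) i * m = m * π (ebar M B) i := by
      intro m
      obtain ⟨a, ha⟩ := hπ (Pi.single i m)
      have := congrArg (fun x => π x i) (Cfsg.Agent.Lib.Helper18.BlkAlgB3.ebar_comm M B a)
      simp only [map_mul, Pi.mul_apply, ha, Pi.single_eq_same] at this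
      exact this
    rcases Cfsg.Agent.Lib.Helper22.DOMBLK.matrix_eq_zero_or_one _ hidem hcomm with h0 | h0
    · exact absurd h0 hne
    · apply LinearMap.ext
      intro x
      show (Cfsg.Agent.Lib.Helper29.DOMCNT.compRep π i).asAlgebraHom (ebar M B) x = x
      rw [Cfsg.Agent.Lib.Helper29.DOMCNT.compRep_asAlgebraHom, h0, Matrix.one_mulVec]
  -- count
  have hsub : (Finset.univ.filter (fun i : Fin l => StableFix (ρ i) P)) ⊆
      ((blocks M G).filter (fun B => 0 < blockDefect p B)).biUnion
        (fun B => Finset.univ.filter (fun i : Fin l => π (ebar M B) i ≠ 0)) := by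
    intro i hi
    obtain ⟨B, hB, hne⟩ := hcover i (Finset.mem_filter.mp hi).2
    exact Finset.mem_biUnion.mpr ⟨B, hB, Finset.mem_filter.mpr ⟨Finset.mem_univ i, hne⟩⟩
  calc Nat.card {i : Fin l // StableFix (ρ i) P}
      = (Finset.univ.filter (fun i : Fin l => StableFix (ρ i) P)).card := by
        rw [Nat.card_eq_fintype_card, Fintype.card_subtype]
    _ ≤ (((blocks M G).filter (fun B => 0 < blockDefect p B)).biUnion
        (fun B => Finset.univ.filter (fun i : Fin l => π (ebar M B) i ≠ 0))).card :=
        Finset.card_le_card hsub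
    _ ≤ ∑ B ∈ (blocks M G).filter (fun B => 0 < blockDefect p B),
        (Finset.univ.filter (fun i : Fin l => π (ebar M B) i ≠ 0)).card := Finset.card_biUnion_le
    _ ≤ ∑ B ∈ (blocks M G).filter (fun B => 0 < blockDefect p B), blockRank p B := by
        apply Finset.sum_le_sum
        intro B hB
        have hBblock : IsPBlock M B := (mem_blocks M B).mp (Finset.mem_filter.mp hB).1
        have := Cfsg.Agent.Lib.Helper22.DOMBLK.card_factors_le_blockRank M hM hBblock l d π hπ
        rw [Nat.card_eq_fintype_card, Fintype.card_subtype] at this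
        exact this
    _ = ∑ B ∈ blocks M G, if 0 < blockDefect p B then blockRank p B else 0 := by
        rw [Finset.sum_filter]

end Cfsg.Agent.Lib.Helper8.DOMFinal
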