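/-
helper8: defect-one cluster, Part M FINAL in the form consumed by Part O (`hfinal` of DO-SQUEEZE / DO-FULL):
only `[Finite G]`, `hM : IsPModular p M` (no `M.IsMaximal` / `Fintype G` instances) and `hSyl : ¬ p ∣ P.index`.
-/
import Mathlib
import Cfsg.Agent.Lib.Helper8.DOMFinal

set_option autoImplicit false

namespace Cfsg.Agent.Lib.Helper8.DOMFinalB

open Cfsg Cfsg.Agent.Lib.Helper8.DOM Cfsg.Agent.Lib.Helper27.BlkAlg

universe v

/-- Part M FINAL with the hypotheses of Part O: `k(N_G(P)/P) ≤ ∑_{B, defect > 0} blockRank p B`. -/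
theorem hfinal {G : Type v} [Group G] [Finite G] [Fintype (IrrCharacter G)] {p : ℕ} [Fact p.Prime]
    {M : Ideal AlgInt} (hM : IsPModular p M) (P : Subgroup G) (hP : Nat.card P = p)
    (hSyl : ¬ p ∣ P.index) :
    Nat.card (ConjClasses ((Nz P) ⧸ P.subgroupOf (Nz P))) ≤
      ∑ B ∈ blocks M G, if 0 < blockDefect p B then blockRank p B else 0 := by
  have : M.IsMaximal := hM.2.1
  let _ : Fintype G := Fintype.ofFinite G
  refine Cfsg.Agent.Lib.Helper8.DOMFinal.card_conjClasses_le_sum_blockRank M hM P hP ?_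
  intro h
  apply hSyl
  exact dvd_trans h (Subgroup.relIndex_dvd_index_of_le Subgroup.le_normalizer)

end Cfsg.Agent.Lib.Helper8.DOMFinalB
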