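import Mathlib
import Cfsg.Prelude.Def_GeometricClasses
import Cfsg.Agent.Lib.Helper25.TensDefs
import Cfsg.Agent.Lib.Helper25.TensStmt

/-!
helper8: leaf TIIa-ii (`stageIIa_ii`) of helper25's S5637 market (`notes/S5637_plan.md`), together with
leaf TU (`U1form_det`) which it uses.
-/

set_option autoImplicit false
set_option linter.unusedSectionVars false
set_option linter.unusedVariables false
set_option linter.unusedSimpArgs false

namespace Cfsg.Agent.Lib.Helper8.TensLeaf
open Matrix Cfsg.Agent.Lib.Helper25.Tens Cfsg.Agent.Lib.Helper25.TensLeaves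
open scoped Kronecker

variable {F : Type*} [Field F] {a b : ℕ}

/-- (TU) a matrix of `U₁`-form has determinant one. -/
theorem U1form_det (o : Fin b) (u : Matrix (Idx a b) (Idx a b) F) (hu : U1form o u) : u.det = 1 := by
  classical
  set C : Matrix (Idx a b) (Fin a) F := fun p i' => if p.2 = o ∧ p.1 = i' then 1 else 0 with hC
  set R : Matrix (Fin a) (Idx a b) F := fun i p => if p.2 = o then 0 else u (i, o) p with hR
  have h1 : u = 1 + C * R := by
    ext ⟨i, l⟩ ⟨i', l'⟩
    rw [Matrix.add_apply, Matrix.mul_apply]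
    simp only [hC, hR]
    by_cases hl : l = o
    · subst hl
      rw [Finset.sum_eq_single i]
      · by_cases hl' : l' = l
        · subst hl'
          simp [hu i i' l' l' (Or.inr rfl)]
        · simp [hl', Matrix.one_apply, hl']
          intro _ h
          exact absurd h.symm hl'
      · intro j _ hj
        simp [Ne.symm hj]
      · simp
    · rw [hu i i' l l' (Or.inl hl)]
      simp [hl]
  have h2 : R * C = 0 := by
    ext i i''
    rw [Matrix.mul_apply]
    apply Finset.sum_eq_zero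
    rintro ⟨i', l'⟩ _
    simp only [hC, hR]
    by_cases hl' : l' = o
    · simp [hl']
    · simp [hl']
  rw [h1, Matrix.det_one_add_mul_comm, h2, add_zero, Matrix.det_one]

/-- (TIIa-ii) case (ii): all blocks `h₁ * blk h⁻¹ k l` (`k ≠ o`) are scalar. -/
theorem stageIIa_ii (ha : 1 ≤ a) (o : Fin b) (M : Subgroup (GL (Idx a b) F))
    (hKM : KG a b F ⊓ SLG a b F ≤ M) (hMS : M ≤ SLG a b F)
    (h : GL (Idx a b) F) (hM : h ∈ M) (hK : h ∉ KG a b F) (h₁ : GL (Fin a) F)
    (hh : ∀ x : Fin a → F, ((h : GL (Idx a b) F) : Matrix (Idx a b) (Idx a b) F) *ᵥ pt x (Pi.single o 1) =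
        pt ((h₁ : Matrix (Fin a) (Fin a) F) *ᵥ x) (Pi.single o 1))
    (hh' : ∀ x : Fin a → F, ((h⁻¹ : GL (Idx a b) F) : Matrix (Idx a b) (Idx a b) F) *ᵥ pt x (Pi.single o 1) =
        pt (((h₁⁻¹ : GL (Fin a) F) : Matrix (Fin a) (Fin a) F) *ᵥ x) (Pi.single o 1))
    (hsc : ∀ k l : Fin b, k ≠ o → IsScalarMat ((h₁ : Matrix (Fin a) (Fin a) F) *
      blk ((h⁻¹ : GL (Idx a b) F) : Matrix (Idx a b) (Idx a b) F) k l)) : R3 o M := by
  classical
  obtain ⟨H, hH⟩ : ∃ H, H = ((h : GL (Idx a b) F) : Matrix (Idx a b) (Idx a b) F) := ⟨_, rfl⟩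
  obtain ⟨Hi, hHi⟩ : ∃ H, H = ((h⁻¹ : GL (Idx a b) F) : Matrix (Idx a b) (Idx a b) F) := ⟨_, rfl⟩
  obtain ⟨A, hA⟩ : ∃ A, A = ((h₁ : GL (Fin a) F) : Matrix (Fin a) (Fin a) F) := ⟨_, rfl⟩
  obtain ⟨Ai, hAi⟩ : ∃ A, A = ((h₁⁻¹ : GL (Fin a) F) : Matrix (Fin a) (Fin a) F) := ⟨_, rfl⟩
  rw [← hH, ← hA] at hh
  rw [← hHi, ← hAi] at hh'
  rw [← hHi, ← hA] at hsc
  have hAAi : A * Ai = 1 := by rw [hA, hAi, ← Units.val_mul, mul_inv_cancel, Units.val_one]
  have hAiA : Ai * A = 1 := by rw [hA, hAi, ← Units.val_mul, inv_mul_cancel, Units.val_one]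
  have hHHi : H * Hi = 1 := by rw [hH, hHi, ← Units.val_mul, mul_inv_cancel, Units.val_one]
  -- the column blocks at `o`
  have F1 : ∀ p, blk H p o = if p = o then A else 0 := by
    intro p
    ext i' i
    have e := congrFun (hh (Pi.single i 1)) (i', p)
    rw [mulVec_pt_single] at e
    change H (i', p) (i, o) = _ at e
    rw [blk_apply, e]
    by_cases hp : p = o
    · subst hp
      simp [pt]
    · simp [pt, hp]
  have F2 : ∀ p, blk Hi p o = if p = o then Ai else 0 := by
    intro p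
    ext i' i
    have e := congrFun (hh' (Pi.single i 1)) (i', p)
    rw [mulVec_pt_single] at e
    change Hi (i', p) (i, o) = _ at e
    rw [blk_apply, e]
    by_cases hp : p = o
    · subst hp
      simp [pt]
    · simp [pt, hp]
  have F3 : ∀ p q, ∑ r, blk H p r * blk Hi r q = if p = q then 1 else 0 := by
    intro p q
    rw [← blk_mul, hHHi, blk_one]
  -- the matrix `β0`
  obtain ⟨β0, hβ0⟩ : ∃ β0 : Matrix (Fin b) (Fin b) F, β0 = fun k l =>
      if hk : k = o then (if l = o then 1 else 0) else Classical.choose (hsc k l hk) := ⟨_, rfl⟩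
  have F4 : ∀ k l, k ≠ o → blk Hi k l = β0 k l • Ai := by
    intro k l hk
    have e := Classical.choose_spec (hsc k l hk)
    have e2 : β0 k l = Classical.choose (hsc k l hk) := by rw [hβ0]; simp [hk]
    rw [← e2] at e
    calc blk Hi k l = Ai * (A * blk Hi k l) := by rw [← Matrix.mul_assoc, hAiA, Matrix.one_mul]
      _ = β0 k l • Ai := by rw [e, Matrix.mul_smul, Matrix.mul_one]
  have F4o : ∀ l, β0 o l = if l = o then 1 else 0 := by
    intro l
    rw [hβ0]
    simp
  obtain ⟨K0, hK0⟩ : ∃ K0 : Matrix (Idx a b) (Idx a b) F, K0 = Ai ⊗ₖ β0 := ⟨_, rfl⟩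
  have F5 : ∀ r q, r ≠ o → blk K0 r q = blk Hi r q := by
    intro r q hr
    rw [hK0, blk_kron, F4 r q hr]
  have F5o : ∀ q, blk K0 o q = if q = o then Ai else 0 := by
    intro q
    rw [hK0, blk_kron, F4o]
    by_cases hq : q = o
    · simp [hq]
    · simp [hq]
  have F6 : ∀ p q, blk (H * K0) p q =
      blk H p o * blk K0 o q + ((if p = q then 1 else 0) - blk H p o * blk Hi o q) := by
    intro p q
    rw [blk_mul, ← F3 p q, ← Finset.add_sum_erase Finset.univ _ (Finset.mem_univ o),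
      ← Finset.add_sum_erase Finset.univ (fun r => blk H p r * blk Hi r q) (Finset.mem_univ o)]
    have e : ∑ r ∈ Finset.univ.erase o, blk H p r * blk K0 r q =
        ∑ r ∈ Finset.univ.erase o, blk H p r * blk Hi r q := by
      apply Finset.sum_congr rfl
      intro r hr
      rw [F5 r q (Finset.ne_of_mem_erase hr)]
    rw [e]
    abel
  have hU : U1form o (H * K0) := by
    intro i i' l l' hll
    change blk (H * K0) l l' i i' = blk (1 : Matrix (Idx a b) (Idx a b) F) l l' i i'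
    rw [F6, blk_one, F1]
    by_cases hl : l = o
    · have hl' : l' = o := by
        rcases hll with h' | h'
        · exact absurd hl h'
        · exact h'
      subst hl
      subst hl'
      rw [F5o, F2]
      simp [hAAi]
    · simp [hl]
  have hdetU : (H * K0).det = 1 := U1form_det o _ hU
  have hdetH : H.det = 1 := by rw [hH]; exact (mem_SLG_iff h).1 (hMS hM)
  have hdetK0 : K0.det = 1 := by
    rw [Matrix.det_mul, hdetH, one_mul] at hdetU
    exact hdetU
  have hdetβ : β0.det ≠ 0 := by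
    intro h0
    rw [hK0, Matrix.det_kronecker, h0] at hdetK0
    simp only [Fintype.card_fin] at hdetK0
    rw [zero_pow (by omega), mul_zero] at hdetK0
    exact zero_ne_one hdetK0
  obtain ⟨β0', hβ0'⟩ : ∃ β0' : GL (Fin b) F, (β0' : Matrix (Fin b) (Fin b) F) = β0 :=
    ⟨Matrix.GeneralLinearGroup.mkOfDetNeZero β0 hdetβ, rfl⟩
  have hk0val : ((kel h₁⁻¹ β0' : GL (Idx a b) F) : Matrix (Idx a b) (Idx a b) F) = K0 := by
    rw [kel_val, hβ0', ← hAi, hK0]
  have hk0M : kel h₁⁻¹ β0' ∈ M := by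
    apply hKM
    refine ⟨kel_mem_KG _ _, (mem_SLG_iff _).2 ?_⟩
    rw [hk0val]
    exact hdetK0
  refine ⟨h * kel h₁⁻¹ β0', M.mul_mem hM hk0M, ?_, ?_⟩
  · intro hcon
    apply hK
    have e : h = (h * kel h₁⁻¹ β0') * (kel h₁⁻¹ β0')⁻¹ := by group
    rw [e]
    exact (KG a b F).mul_mem hcon ((KG a b F).inv_mem (kel_mem_KG _ _))
  · rw [Units.val_mul, hk0val, ← hH]
    exact hU

end Cfsg.Agent.Lib.Helper8.TensLeaf
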