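import Mathlib
import Cfsg.Agent.Lib.Helper6.Clifford
import Cfsg.Agent.Lib.Helper6.Gallagher2

/-!
helper8: S4711 leaves L4 / L3 (pure character theory).  For a normal subgroup `Q` of a finite group `N` and an
irreducible character `ψ` of `N`, either `ψ` is constant on `Q` (`Q ≤ ker ψ`) or the sum of `ψ` over `Q` vanishes
(the trivial character of `Q` is not a constituent of `ψ|_Q`): Clifford's theorem for the invariant trivial character.
-/

set_option autoImplicit false

namespace Cfsg.Agent.Lib.Helper8.PLenBlk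

open Cfsg Cfsg.Agent.CharLib Cfsg.Agent.Lib.Helper6
open scoped ComplexConjugate

universe u

/-- L4: Clifford dichotomy for the trivial character of a normal subgroup. -/
theorem sum_normal_eq_zero_or_const {N : Type u} [Group N] [Finite N] (Q : Subgroup N) [Q.Normal]
    {ψ : N → ℂ} (hψ : IsIrrCharacter N ψ) :
    (∀ x ∈ Q, ψ x = ψ 1) ∨ ∑ᶠ x : Q, ψ (x : N) = 0 := by
  classical
  letI : Fintype N := Fintype.ofFinite N
  letI : Fintype Q := Fintype.ofFinite Q
  have hone : IsIrrCharacter Q (1 : Q → ℂ) := Cfsg.Agent.Lib.Helper6.isIrrCharacter_one Q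
  have hinner : classInner (resFun Q ψ) (1 : Q → ℂ) = (Nat.card Q : ℂ)⁻¹ * ∑ x : Q, ψ (x : N) := by
    unfold classInner
    congr 1
    apply Finset.sum_congr rfl
    intro x _
    rw [resFun_apply, Pi.one_apply, map_one, mul_one]
  by_cases h0 : classInner (resFun Q ψ) (1 : Q → ℂ) = 0
  · right
    rw [finsum_eq_sum_of_fintype]
    rw [hinner] at h0
    have hQ : (Nat.card Q : ℂ) ≠ 0 := by
      exact_mod_cast (Nat.card_pos (α := Q)).ne'
    rcases mul_eq_zero.mp h0 with h | h
    · exact absurd (inv_eq_zero.mp h) hQ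
    · exact h
  · left
    have hinv : ∀ g : N, conjFun Q g (1 : Q → ℂ) = 1 := by
      intro g
      funext x
      rw [conjFun_apply]
      rfl
    have h := clifford_of_invariant Q hψ hone h0 hinv
    intro x hx
    have hx' := congrFun h ⟨x, hx⟩
    have h1' := congrFun h (1 : Q)
    rw [resFun_apply] at hx' h1'
    simp only [Pi.smul_apply, Pi.one_apply, smul_eq_mul, mul_one] at hx' h1'
    have e1 : ψ ((1 : Q) : N) = ψ 1 := rfl
    rw [e1] at h1'
    show ψ x = ψ 1
    rw [h1']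
    exact hx'

/-- L3: a function vanishing on the non-identity elements of `P` sums to its value at `1` over `P`. -/
theorem sum_sub_eq_of_vanish {G : Type u} [Group G] [Finite G] (P : Subgroup G) (ψ : G → ℂ)
    (hvan : ∀ x ∈ P, x ≠ 1 → ψ x = 0) : ∑ᶠ x : P, ψ (x : G) = ψ 1 := by
  classical
  letI : Fintype P := Fintype.ofFinite P
  rw [finsum_eq_sum_of_fintype, Finset.sum_eq_single (1 : P)]
  · rfl
  · intro x _ hx
    apply hvan x x.2
    intro h
    exact hx (Subtype.ext h)
  · intro h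
    exact absurd (Finset.mem_univ _) h

end Cfsg.Agent.Lib.Helper8.PLenBlk

namespace Cfsg.Agent.Lib.Helper8.PLenBlk

open Cfsg Cfsg.Agent.CharLib Cfsg.Agent.Lib.Helper6
open scoped ComplexConjugate Classical

universe u

/-- the sum over `P` of a function whose restriction to `N ≥ P` (with `P` normal in `N`) is an irreducible character:
either `|P| χ(1)` (`P ≤ ker χ`) or `0`. -/
theorem sum_sylow_of_irr_res {G : Type u} [Group G] [Finite G] (P N : Subgroup G) (hPN : P ≤ N)
    (hN : N ≤ Subgroup.normalizer (P : Set G)) (χ : G → ℂ)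
    (hres : IsIrrCharacter ↥N (fun n : N => χ n)) :
    ((∀ x ∈ P, χ x = χ 1) ∧ ∑ᶠ x : P, χ (x : G) = (Nat.card P : ℂ) * χ 1) ∨
      ((¬ ∀ x ∈ P, χ x = χ 1) ∧ ∑ᶠ x : P, χ (x : G) = 0) := by
  haveI : (P.subgroupOf N).Normal := by
    refine ⟨fun n hn g => ?_⟩
    rw [Subgroup.mem_subgroupOf] at hn ⊢
    have hg := hN g.2
    rw [Subgroup.mem_normalizer_iff] at hg
    simpa using (hg n).mp hn
  have hbij : ∑ᶠ x : P.subgroupOf N, χ ((x : N) : G) = ∑ᶠ x : P, χ (x : G) := by
    let e : P.subgroupOf N ≃ P := (Subgroup.subgroupOfEquivOfLe hPN).toEquiv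
    have := finsum_comp_equiv e (f := fun x : P => χ (x : G))
    rw [← this]
    rfl
  by_cases hc : ∀ x ∈ P, χ x = χ 1
  · left
    refine ⟨hc, ?_⟩
    letI : Fintype P := Fintype.ofFinite P
    have hcc : ∀ x ∈ (Finset.univ : Finset P), χ ((x : P) : G) = χ 1 := fun x _ => hc x x.2
    rw [finsum_eq_sum_of_fintype, Finset.sum_congr rfl hcc, Finset.sum_const,
      nsmul_eq_mul, Finset.card_univ, Nat.card_eq_fintype_card]
  · right
    refine ⟨hc, ?_⟩
    rcases sum_normal_eq_zero_or_const (P.subgroupOf N) hres with h | h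
    · exfalso
      apply hc
      intro x hx
      have := h ⟨x, hPN hx⟩ (by rw [Subgroup.mem_subgroupOf]; exact hx)
      exact this
    · rw [← hbij]
      exact h

/-- L34: `λ = |P| · Σ_{P ≤ ker χ} χ(1)²` for a finite family `B` of functions whose restrictions to `N` are irreducible
and such that `Σ_{χ ∈ B} χ(1) χ` vanishes on `P \ {1}`. -/
theorem lambda_eq {G : Type u} [Group G] [Finite G] (P N : Subgroup G) (hPN : P ≤ N)
    (hN : N ≤ Subgroup.normalizer (P : Set G)) (B : Finset (G → ℂ))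
    (hres : ∀ χ ∈ B, IsIrrCharacter ↥N (fun n : N => χ n))
    (hvan : ∀ x ∈ P, x ≠ 1 → ∑ χ ∈ B, χ 1 * χ x = 0) :
    ∑ χ ∈ B, χ 1 * χ 1 =
      (Nat.card P : ℂ) * ∑ χ ∈ B.filter (fun χ => ∀ x ∈ P, χ x = χ 1), χ 1 * χ 1 := by
  letI : Fintype P := Fintype.ofFinite P
  have h1 := sum_sub_eq_of_vanish P (fun g => ∑ χ ∈ B, χ 1 * χ g) hvan
  rw [finsum_eq_sum_of_fintype] at h1
  rw [← h1, Finset.sum_comm, Finset.mul_sum, Finset.sum_filter]
  apply Finset.sum_congr rfl
  intro χ hχ
  rw [← Finset.mul_sum]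
  have hs : ∑ x : P, χ (x : G) = ∑ᶠ x : P, χ (x : G) := (finsum_eq_sum_of_fintype _).symm
  rw [hs]
  rcases sum_sylow_of_irr_res P N hPN hN χ (hres χ hχ) with ⟨hc, h⟩ | ⟨hc, h⟩
  · rw [if_pos hc, h]
    ring
  · rw [if_neg hc, h, mul_zero]

end Cfsg.Agent.Lib.Helper8.PLenBlk
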