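import Mathlib
import Cfsg.Agent.S0675

/-!
helper8: leaf PD2T of market "PD" (S3611, planner helper6): Burnside's theorem on groups of prime degree
(S0675) for an abstract faithful action.
-/

set_option autoImplicit false

namespace Cfsg.Agent.Lib.Helper8.PD2T

open MulAction

/-- the image of `G` in `Equiv.Perm Ω` is transitive -/
theorem range_isPretransitive {G Ω : Type*} [Group G] [MulAction G Ω]
    (htrans : MulAction.IsPretransitive G Ω) :
    MulAction.IsPretransitive (MulAction.toPermHom G Ω).range Ω := by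
  refine ⟨fun a b => ?_⟩
  obtain ⟨g, hg⟩ := htrans.exists_smul_eq a b
  exact ⟨⟨MulAction.toPermHom G Ω g, ⟨g, rfl⟩⟩, hg⟩

/-- the image of a faithful action is isomorphic to the group -/
noncomputable def equivRange (G Ω : Type*) [Group G] [MulAction G Ω] [FaithfulSMul G Ω] :
    G ≃* (MulAction.toPermHom G Ω).range :=
  MonoidHom.ofInjective (f := MulAction.toPermHom G Ω) MulAction.toPerm_injective

/-- **PD2T**. -/
theorem PD2T {G Ω : Type*} [Group G] [Finite G] [MulAction G Ω] [FaithfulSMul G Ω] [Fintype Ω]
    [DecidableEq Ω] {p : ℕ} [Fact p.Prime] (hΩ : Fintype.card Ω = p)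
    (htrans : MulAction.IsPretransitive G Ω) (hins : ¬ Group.IsSolvable G) :
    MulAction.IsMultiplyPretransitive G Ω 2 := by
  have hp : (Fintype.card Ω).Prime := by rw [hΩ]; exact Fact.out
  have := range_isPretransitive htrans
  rcases Cfsg.Agent.S0675.result hp (MulAction.toPermHom G Ω).range with hsol | h2
  · exfalso
    apply hins
    exact Group.isSolvable_of_isSolvable_injective (f := (equivRange G Ω).toMonoidHom) (equivRange G Ω).injective
  · refine ⟨fun x y => ?_⟩
    obtain ⟨⟨h, ⟨g, rfl⟩⟩, hg⟩ := h2.exists_smul_eq x y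
    refine ⟨g, ?_⟩
    rw [← hg]
    rfl

end Cfsg.Agent.Lib.Helper8.PD2T
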