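import Mathlib
import Cfsg.Agent.Lib.Helper6.PDDefs
import Cfsg.Agent.Lib.Helper5.PrimeDeg
import Cfsg.Agent.Lib.Helper8.PD2T

/-!
helper8: leaf PDINV of market "PD" (S3611, planner helper6): `Helper5.PrimeDeg.finrank_invariant` for
the image of `G` in `Equiv.Perm Ω`.
-/

set_option autoImplicit false

namespace Cfsg.Agent.Lib.Helper8.PDINV

open Module MulAction Cfsg.Agent.Lib.Helper6.PD

/-- **PDINV**. -/
theorem PDINV {G Ω : Type*} [Group G] [Finite G] [MulAction G Ω] [FaithfulSMul G Ω] [Fintype Ω]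
    [DecidableEq Ω] {p : ℕ} [Fact p.Prime] (hΩ : Fintype.card Ω = p)
    (htrans : MulAction.IsPretransitive G Ω) (hins : ¬ Group.IsSolvable G) :
    InvDims p G Ω := by
  intro W hW
  have := Cfsg.Agent.Lib.Helper8.PD2T.range_isPretransitive htrans
  have hns : ¬ Group.IsSolvable (MulAction.toPermHom G Ω).range := by
    intro hsol
    apply hins
    exact Group.isSolvable_of_isSolvable_injective
      (f := (Cfsg.Agent.Lib.Helper8.PD2T.equivRange G Ω).toMonoidHom)
      (Cfsg.Agent.Lib.Helper8.PD2T.equivRange G Ω).injective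
  apply Cfsg.Agent.Lib.Helper5.PrimeDeg.finrank_invariant (K := ZMod p) hΩ
    (MulAction.toPermHom G Ω).range hns W
  rintro σ ⟨g, rfl⟩ f hf
  exact hW g f hf

end Cfsg.Agent.Lib.Helper8.PDINV
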