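import Mathlib
import Cfsg.Prelude.Def_ClassicalGeometry
import Cfsg.Prelude.Def_GeometricClasses
import Cfsg.Agent.Lib.Helper5.SpMax
import Cfsg.Agent.Lib.Helper2.SpSubDefs
import Cfsg.Agent.Lib.Helper2.SpSubBasic
import Cfsg.Agent.Lib.Helper29.SpSubB

/-!
helper8: leaf E0 (`sp_le_of_top`) of helper2's S5650 market (`notes/S5650_plan.md`):
if an overgroup `M` of the standard subfield group `H0` inside `Sp_2m(F)` contains all the Levi root
elements `Sab (ee i) (ff j) c` (all `c : F`, `i ≠ j`), then `M = Sp_2m(F)`.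
-/

set_option autoImplicit false
set_option linter.unusedSectionVars false
set_option linter.unusedVariables false
set_option linter.unusedSimpArgs false

namespace Cfsg.Agent.Lib.Helper8.SpSubLeaf
open Cfsg Matrix Cfsg.Agent.Lib.Helper5 Cfsg.Agent.Lib.Helper5.SpMax Cfsg.Agent.Lib.Helper2.SpSub

variable {F : Type*} [Field F] {m : ℕ}


/-! ### basic computations -/

theorem e0_gl_ext {g h : GL (Fin m ⊕ Fin m) F} (H : ∀ x, mv g x = mv h x) : g = h :=
  Units.ext (mat_eq_of_mulVec H)

theorem e0_B_right_ee (x : Fin m ⊕ Fin m → F) (i : Fin m) :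
    sympForm m F x (ee i) = x (Sum.inr i) := by
  rw [sympForm_eq_sum]
  unfold ee
  simp [Pi.single_apply]

theorem e0_B_right_ff (x : Fin m ⊕ Fin m → F) (i : Fin m) :
    sympForm m F x (ff i) = - x (Sum.inl i) := by
  rw [sympForm_eq_sum]
  unfold ff
  simp [Pi.single_apply]

theorem e0_Sab_mulVec {a b : Fin m ⊕ Fin m → F} (hab : sympForm m F a b = 0) (c : F)
    (x : Fin m ⊕ Fin m → F) :
    mv (Sab a b c) x = x + c • (sympForm m F x a • b + sympForm m F x b • a) := by
  have hba : sympForm m F b a = 0 := by rw [sympForm_swap, hab, neg_zero]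
  unfold Sab mv
  rw [Units.val_mul, Units.val_mul, ← Matrix.mulVec_mulVec, ← Matrix.mulVec_mulVec, tvc_mulVec,
    tvc_mulVec, tvc_mulVec]
  simp only [sympForm_add_left, sympForm_add_right, sympForm_smul_left, sympForm_self, hab, hba]
  ext k
  simp only [Pi.add_apply, Pi.smul_apply, smul_eq_mul]
  ring

@[simp] theorem e0_ee_inl (i k : Fin m) :
    (ee i : Fin m ⊕ Fin m → F) (Sum.inl k) = if k = i then 1 else 0 := by
  unfold ee
  simp [Pi.single_apply]

@[simp] theorem e0_ee_inr (i k : Fin m) : (ee i : Fin m ⊕ Fin m → F) (Sum.inr k) = 0 := by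
  unfold ee
  simp [Pi.single_apply]

@[simp] theorem e0_ff_inr (i k : Fin m) :
    (ff i : Fin m ⊕ Fin m → F) (Sum.inr k) = if k = i then 1 else 0 := by
  unfold ff
  simp [Pi.single_apply]

@[simp] theorem e0_ff_inl (i k : Fin m) : (ff i : Fin m ⊕ Fin m → F) (Sum.inl k) = 0 := by
  unfold ff
  simp [Pi.single_apply]

theorem e0_ratV_ee (F₀ : Subfield F) (i : Fin m) : RatV F₀ (ee i : Fin m ⊕ Fin m → F) := by
  intro u
  rcases u with k | k
  · rw [e0_ee_inl]; split_ifs
    · exact F₀.one_mem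
    · exact F₀.zero_mem
  · rw [e0_ee_inr]; exact F₀.zero_mem

theorem e0_ratV_ff (F₀ : Subfield F) (i : Fin m) : RatV F₀ (ff i : Fin m ⊕ Fin m → F) := by
  intro u
  rcases u with k | k
  · rw [e0_ff_inl]; exact F₀.zero_mem
  · rw [e0_ff_inr]; split_ifs
    · exact F₀.one_mem
    · exact F₀.zero_mem

theorem e0_tvc_smul (l : F) (a : Fin m ⊕ Fin m → F) (c : F) :
    tvc (l • a) c = tvc a (l ^ 2 * c) := by
  apply e0_gl_ext
  intro x
  unfold mv
  rw [tvc_mulVec, tvc_mulVec, sympForm_smul_right, smul_smul]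
  congr 2
  ring

theorem e0_tvc_mul (a : Fin m ⊕ Fin m → F) (c c' : F) : tvc a c * tvc a c' = tvc a (c + c') := by
  apply Units.ext
  exact sympTransvection_mul m a c c'

theorem e0_tvc_add_orth {a b : Fin m ⊕ Fin m → F} (hab : sympForm m F a b = 0) (c : F) :
    tvc (a + b) c = tvc a c * tvc b c * Sab a b c := by
  have hba : sympForm m F b a = 0 := by rw [sympForm_swap, hab, neg_zero]
  apply e0_gl_ext
  intro x
  have h1 := e0_Sab_mulVec hab c x
  unfold mv at h1 ⊢
  rw [Units.val_mul, Units.val_mul, ← Matrix.mulVec_mulVec, ← Matrix.mulVec_mulVec, h1, tvc_mulVec,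
    tvc_mulVec, tvc_mulVec]
  simp only [sympForm_add_left, sympForm_add_right, sympForm_smul_left, sympForm_self, hab, hba]
  ext k
  simp only [Pi.add_apply, Pi.smul_apply, smul_eq_mul]
  ring

theorem e0_Sab_smul_right {a b : Fin m ⊕ Fin m → F} (hab : sympForm m F a b = 0) (l c : F) :
    Sab a (l • b) c = Sab a b (l * c) := by
  have hab' : sympForm m F a (l • b) = 0 := by rw [sympForm_smul_right, hab, mul_zero]
  apply e0_gl_ext
  intro x
  rw [e0_Sab_mulVec hab', e0_Sab_mulVec hab, sympForm_smul_right]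
  ext k
  simp only [Pi.add_apply, Pi.smul_apply, smul_eq_mul]
  ring

theorem e0_Sab_symm {a b : Fin m ⊕ Fin m → F} (hab : sympForm m F a b = 0) (c : F) :
    Sab a b c = Sab b a c := by
  have hba : sympForm m F b a = 0 := by rw [sympForm_swap, hab, neg_zero]
  apply e0_gl_ext
  intro x
  rw [e0_Sab_mulVec hab, e0_Sab_mulVec hba, add_comm (sympForm m F x a • b)]

theorem e0_Sset_smul {M : Subgroup (GL (Fin m ⊕ Fin m) F)} {a : Fin m ⊕ Fin m → F}
    (ha : a ∈ Sset M) (l : F) : l • a ∈ Sset M := by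
  intro c
  rw [e0_tvc_smul]
  exact ha _

theorem e0_Sset_add {M : Subgroup (GL (Fin m ⊕ Fin m) F)} (hsp : M ≤ spGL m F)
    {a b : Fin m ⊕ Fin m → F} (ha : a ∈ Sset M) (hb : b ∈ Sset M)
    (h : sympForm m F a b ≠ 0) : a + b ∈ Sset M := by
  have h1 : mv (tvc b (sympForm m F a b)⁻¹) a = a + b := by
    unfold mv
    rw [tvc_mulVec, inv_mul_cancel₀ h, one_smul]
  rw [← h1]
  exact Sset_mulVec_mem hsp (hb _) ha

theorem e0_exists_ne (hm : 3 ≤ m) (i j : Fin m) : ∃ k : Fin m, k ≠ i ∧ k ≠ j := by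
  classical
  have h1 : ({i, j} : Finset (Fin m)).card < (Finset.univ : Finset (Fin m)).card := by
    rw [Finset.card_univ, Fintype.card_fin]
    exact lt_of_le_of_lt Finset.card_le_two (by omega)
  obtain ⟨k, _, hk⟩ := Finset.exists_mem_notMem_of_card_lt_card h1
  refine ⟨k, ?_, ?_⟩
  · rintro rfl; exact hk (by simp)
  · rintro rfl; exact hk (by simp)

theorem e0_sq_add_sq [Fintype F] (w : F) : ∃ u v : F, u ^ 2 + v ^ 2 = w := by
  by_cases hodd : Fintype.card F % 2 = 1
  · have hf : (Polynomial.X ^ 2 : Polynomial F).degree = 2 := Polynomial.degree_X_pow 2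
    have hg : (Polynomial.X ^ 2 - Polynomial.C w : Polynomial F).degree = 2 :=
      Polynomial.degree_X_pow_sub_C (by norm_num) w
    obtain ⟨a, b, hab⟩ := FiniteField.exists_root_sum_quadratic hf hg hodd
    refine ⟨a, b, ?_⟩
    simp only [Polynomial.eval_pow, Polynomial.eval_X, Polynomial.eval_sub, Polynomial.eval_C] at hab
    linear_combination hab
  · have h2 : ringChar F = 2 := FiniteField.even_card_iff_char_two.mpr (by omega)
    obtain ⟨r, hr⟩ := FiniteField.isSquare_of_char_two h2 w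
    exact ⟨r, 0, by rw [hr]; ring⟩

/-- the hypotheses of the leaf -/
structure E0Hyp (F₀ : Subfield F) (M : Subgroup (GL (Fin m ⊕ Fin m) F)) : Prop where
  le : H0 m F₀ ≤ M
  sp : M ≤ spGL m F
  all : ∀ (c : F) (i j : Fin m), i ≠ j → Sab (ee i) (ff j) c ∈ M

section Main
variable {F₀ : Subfield F} {M : Subgroup (GL (Fin m ⊕ Fin m) F)}

/-- (a) -/
theorem e0_See (hm : 3 ≤ m) (h : E0Hyp F₀ M) (c : F) {i j : Fin m} (hij : i ≠ j) :
    Sab (ee i) (ee j) c ∈ M := by
  obtain ⟨k, hki, hkj⟩ := e0_exists_ne hm i j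
  have h1 : Sab (ee i) (ff k) (-c) ∈ M := h.all (-c) i k (Ne.symm hki)
  have h2 : Sab (ee k) (ee j) (1 : F) ∈ M :=
    h.le (Cfsg.Agent.Lib.Helper2.SpSub.Sab_mem_H0 (e0_ratV_ee F₀ k) (e0_ratV_ee F₀ j) F₀.one_mem)
  have e1 : sympForm m F (ee i) (ff k) = 0 := by
    rw [e0_B_right_ff, e0_ee_inl, if_neg hki, neg_zero]
  have e2 : sympForm m F (ee k) (ee j) = 0 := by rw [e0_B_right_ee, e0_ee_inr]
  have e3 : sympForm m F (ee i) (ee k) = 0 := by rw [e0_B_right_ee, e0_ee_inr]
  have e4 : sympForm m F (ee i) (ee j) = 0 := by rw [e0_B_right_ee, e0_ee_inr]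
  have e5 : sympForm m F (ff k) (ee j) = 0 := by
    rw [e0_B_right_ee, e0_ff_inr, if_neg (Ne.symm hkj)]
  have h3 := Cfsg.Agent.Lib.Helper29.SpSubLeaf.Sab_comm e1 e2 e3 e4 e5 (-c) 1
  have h4 : -c * 1 * sympForm m F (ee k) (ff k) = c := by
    rw [e0_B_right_ff, e0_ee_inl, if_pos rfl]; ring
  rw [h4] at h3
  rw [← h3]
  exact M.mul_mem (M.mul_mem (M.mul_mem h1 h2) (M.inv_mem h1)) (M.inv_mem h2)

/-- (b) -/
theorem e0_tvc_ee_sq (hm : 3 ≤ m) (h : E0Hyp F₀ M) (i : Fin m) (a : F) :
    tvc (ee i) (a ^ 2) ∈ M := by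
  obtain ⟨j, hji, _⟩ := e0_exists_ne hm i i
  have hX : Sab (ee i) (ff j) a ∈ M := h.all a i j (Ne.symm hji)
  have hTj : tvc (ee j) (1 : F) ∈ M := h.le (Cfsg.Agent.Lib.Helper2.SpSub.tvc_mem_H0 (e0_ratV_ee F₀ j) F₀.one_mem)
  have e1 : sympForm m F (ee i) (ff j) = 0 := by
    rw [e0_B_right_ff, e0_ee_inl, if_neg hji, neg_zero]
  have hXe : mv (Sab (ee i) (ff j) a) (ee j) = ee j + (-a) • ee i := by
    rw [e0_Sab_mulVec e1, e0_B_right_ee, e0_B_right_ff, e0_ee_inr, e0_ee_inl, if_pos rfl]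
    ext k
    simp
  have h1 : tvc (ee j + (-a) • ee i) (1 : F) ∈ M := by
    rw [← hXe, ← conj_tvc (h.sp hX)]
    exact M.mul_mem (M.mul_mem hX hTj) (M.inv_mem hX)
  have e2' : sympForm m F (ee j) (ee i) = 0 := by rw [e0_B_right_ee, e0_ee_inr]
  have e2 : sympForm m F (ee j) ((-a) • ee i) = 0 := by
    rw [sympForm_smul_right, e2', mul_zero]
  rw [e0_tvc_add_orth e2, e0_tvc_smul, e0_Sab_smul_right e2'] at h1
  have h2 : Sab (ee j) (ee i) (-a * 1) ∈ M := e0_See hm h _ hji
  have h3 := (Subgroup.mul_mem_cancel_right M h2).mp h1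
  have h4 := (Subgroup.mul_mem_cancel_left M hTj).mp h3
  convert h4 using 2
  ring

theorem e0_ee_mem [Fintype F] (hm : 3 ≤ m) (h : E0Hyp F₀ M) (i : Fin m) :
    (ee i : Fin m ⊕ Fin m → F) ∈ Sset M := by
  intro c
  obtain ⟨u, v, huv⟩ := e0_sq_add_sq c
  rw [← huv, ← e0_tvc_mul]
  exact M.mul_mem (e0_tvc_ee_sq hm h i u) (e0_tvc_ee_sq hm h i v)

theorem e0_ff_mem [Fintype F] (hm : 3 ≤ m) (h : E0Hyp F₀ M) (i : Fin m) :
    (ff i : Fin m ⊕ Fin m → F) ∈ Sset M := by
  have hTe : tvc (ee i) (1 : F) ∈ M := h.le (Cfsg.Agent.Lib.Helper2.SpSub.tvc_mem_H0 (e0_ratV_ee F₀ i) F₀.one_mem)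
  have hTf : tvc (ff i) (1 : F) ∈ M := h.le (Cfsg.Agent.Lib.Helper2.SpSub.tvc_mem_H0 (e0_ratV_ff F₀ i) F₀.one_mem)
  have hwM : tvc (ee i) (1 : F) * tvc (ff i) 1 * tvc (ee i) 1 ∈ M :=
    M.mul_mem (M.mul_mem hTe hTf) hTe
  have hwe : mv (tvc (ee i) (1 : F) * tvc (ff i) 1 * tvc (ee i) 1) (ee i) = (-1 : F) • ff i := by
    unfold mv
    rw [Units.val_mul, Units.val_mul, ← Matrix.mulVec_mulVec, ← Matrix.mulVec_mulVec, tvc_mulVec,
      tvc_mulVec, tvc_mulVec]
    simp only [sympForm_add_left, sympForm_smul_left, e0_B_right_ee, e0_B_right_ff, e0_ee_inr,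
      e0_ee_inl, e0_ff_inr, e0_ff_inl, if_pos rfl]
    ext k
    simp
  have h1 := Sset_mulVec_mem h.sp hwM (e0_ee_mem hm h i)
  change mv _ _ ∈ Sset M at h1
  rw [hwe] at h1
  have h2 := e0_Sset_smul h1 (-1)
  rwa [smul_smul, neg_mul_neg, one_mul, one_smul] at h2

/-- (c) vectors of `L = ⟨e_k⟩` with coordinate `1` at `e_i` -/
theorem e0_L_aux [Fintype F] (hm : 3 ≤ m) (h : E0Hyp F₀ M) (i : Fin m) (s : Finset (Fin m)) :
    ∀ x : Fin m ⊕ Fin m → F, (∀ k, x (Sum.inr k) = 0) → x (Sum.inl i) = 1 →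
      (∀ k, k ∉ s → k ≠ i → x (Sum.inl k) = 0) → x ∈ Sset M := by
  classical
  induction s using Finset.induction_on with
  | empty =>
    intro x hr hi h0
    have hx : x = ee i := by
      funext u
      rcases u with k | k
      · rw [e0_ee_inl]
        by_cases hk : k = i
        · rw [if_pos hk, hk, hi]
        · rw [if_neg hk]; exact h0 k (Finset.notMem_empty k) hk
      · rw [e0_ee_inr]; exact hr k
    rw [hx]
    exact e0_ee_mem hm h i
  | insert k s hks ih =>
    intro x hr hi h0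
    by_cases hki : k = i
    · apply ih x hr hi
      intro k' hk' hk'i
      apply h0 k' _ hk'i
      rw [Finset.mem_insert, not_or]
      exact ⟨fun e => hk'i (e.trans hki), hk'⟩
    · have hne : (Sum.inl i : Fin m ⊕ Fin m) ≠ Sum.inl k := fun e => hki (Sum.inl.inj e).symm
      have hx'M : Function.update x (Sum.inl k) 0 ∈ Sset M := by
        apply ih
        · intro k'
          rw [Function.update_of_ne (by simp)]
          exact hr k'
        · rw [Function.update_of_ne hne]
          exact hi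
        · intro k' hk' hk'i
          by_cases e : k' = k
          · rw [e, Function.update_self]
          · rw [Function.update_of_ne (fun e' => e (Sum.inl.inj e'))]
            apply h0 k' _ hk'i
            rw [Finset.mem_insert, not_or]
            exact ⟨e, hk'⟩
      have hX : Sab (ee k) (ff i) (-(x (Sum.inl k))) ∈ M := h.all _ k i hki
      have e1 : sympForm m F (ee k) (ff i) = 0 := by
        rw [e0_B_right_ff, e0_ee_inl, if_neg (Ne.symm hki), neg_zero]
      have hXx : mv (Sab (ee k) (ff i) (-(x (Sum.inl k)))) (Function.update x (Sum.inl k) 0) = x := by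
        rw [e0_Sab_mulVec e1, e0_B_right_ee, e0_B_right_ff, Function.update_of_ne (by simp),
          Function.update_of_ne hne, hr k, hi]
        funext u
        rcases u with l | l
        · by_cases hl : l = k
          · subst hl
            simp
          · have : (Sum.inl l : Fin m ⊕ Fin m) ≠ Sum.inl k := fun e' => hl (Sum.inl.inj e')
            simp [Function.update_of_ne this, hl]
        · simp
      rw [← hXx]
      exact Sset_mulVec_mem h.sp hX hx'M

theorem e0_L_all [Fintype F] (hm : 3 ≤ m) (h : E0Hyp F₀ M) (x : Fin m ⊕ Fin m → F)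
    (hr : ∀ k, x (Sum.inr k) = 0) : x ∈ Sset M := by
  by_cases hx : ∃ i, x (Sum.inl i) ≠ 0
  · obtain ⟨i, hi⟩ := hx
    have h1 : (x (Sum.inl i))⁻¹ • x ∈ Sset M := by
      apply e0_L_aux hm h i Finset.univ
      · intro k
        simp [hr k]
      · simp [hi]
      · intro k hk
        exact absurd (Finset.mem_univ k) hk
    have h2 := e0_Sset_smul h1 (x (Sum.inl i))
    rwa [smul_smul, mul_inv_cancel₀ hi, one_smul] at h2
  · push Not at hx
    have h0 : x = (0 : F) • (ee (⟨0, by omega⟩ : Fin m)) := by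
      funext u
      rcases u with k | k
      · simp [hx k]
      · simp [hr k]
    rw [h0]
    exact e0_Sset_smul (e0_ee_mem hm h _) 0

/-- (d) vectors of `L' = ⟨f_k⟩` with coordinate `1` at `f_i` -/
theorem e0_L'_aux [Fintype F] (hm : 3 ≤ m) (h : E0Hyp F₀ M) (i : Fin m) (s : Finset (Fin m)) :
    ∀ x : Fin m ⊕ Fin m → F, (∀ k, x (Sum.inl k) = 0) → x (Sum.inr i) = 1 →
      (∀ k, k ∉ s → k ≠ i → x (Sum.inr k) = 0) → x ∈ Sset M := by
  classical
  induction s using Finset.induction_on with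
  | empty =>
    intro x hr hi h0
    have hx : x = ff i := by
      funext u
      rcases u with k | k
      · rw [e0_ff_inl]; exact hr k
      · rw [e0_ff_inr]
        by_cases hk : k = i
        · rw [if_pos hk, hk, hi]
        · rw [if_neg hk]; exact h0 k (Finset.notMem_empty k) hk
    rw [hx]
    exact e0_ff_mem hm h i
  | insert k s hks ih =>
    intro x hr hi h0
    by_cases hki : k = i
    · apply ih x hr hi
      intro k' hk' hk'i
      apply h0 k' _ hk'i
      rw [Finset.mem_insert, not_or]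
      exact ⟨fun e => hk'i (e.trans hki), hk'⟩
    · have hne : (Sum.inr i : Fin m ⊕ Fin m) ≠ Sum.inr k := fun e => hki (Sum.inr.inj e).symm
      have hx'M : Function.update x (Sum.inr k) 0 ∈ Sset M := by
        apply ih
        · intro k'
          rw [Function.update_of_ne (by simp)]
          exact hr k'
        · rw [Function.update_of_ne hne]
          exact hi
        · intro k' hk' hk'i
          by_cases e : k' = k
          · rw [e, Function.update_self]
          · rw [Function.update_of_ne (fun e' => e (Sum.inr.inj e'))]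
            apply h0 k' _ hk'i
            rw [Finset.mem_insert, not_or]
            exact ⟨e, hk'⟩
      have hX : Sab (ee i) (ff k) (x (Sum.inr k)) ∈ M := h.all _ i k (Ne.symm hki)
      have e1 : sympForm m F (ee i) (ff k) = 0 := by
        rw [e0_B_right_ff, e0_ee_inl, if_neg hki, neg_zero]
      have hXx : mv (Sab (ee i) (ff k) (x (Sum.inr k))) (Function.update x (Sum.inr k) 0) = x := by
        rw [e0_Sab_mulVec e1, e0_B_right_ee, e0_B_right_ff, Function.update_of_ne hne,
          Function.update_of_ne (by simp), hr k, hi]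
        funext u
        rcases u with l | l
        · simp
        · by_cases hl : l = k
          · subst hl
            simp
          · have : (Sum.inr l : Fin m ⊕ Fin m) ≠ Sum.inr k := fun e' => hl (Sum.inr.inj e')
            simp [Function.update_of_ne this, hl]
      rw [← hXx]
      exact Sset_mulVec_mem h.sp hX hx'M

theorem e0_L'_all [Fintype F] (hm : 3 ≤ m) (h : E0Hyp F₀ M) (x : Fin m ⊕ Fin m → F)
    (hr : ∀ k, x (Sum.inl k) = 0) : x ∈ Sset M := by
  by_cases hx : ∃ i, x (Sum.inr i) ≠ 0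
  · obtain ⟨i, hi⟩ := hx
    have h1 : (x (Sum.inr i))⁻¹ • x ∈ Sset M := by
      apply e0_L'_aux hm h i Finset.univ
      · intro k
        simp [hr k]
      · simp [hi]
      · intro k hk
        exact absurd (Finset.mem_univ k) hk
    have h2 := e0_Sset_smul h1 (x (Sum.inr i))
    rwa [smul_smul, mul_inv_cancel₀ hi, one_smul] at h2
  · push Not at hx
    have h0 : x = (0 : F) • (ee (⟨0, by omega⟩ : Fin m)) := by
      funext u
      rcases u with k | k
      · simp [hr k]
      · simp [hx k]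
    rw [h0]
    exact e0_Sset_smul (e0_ee_mem hm h _) 0

/-- two vectors of `L'` are orthogonal -/
theorem e0_L'_orth (x y : Fin m ⊕ Fin m → F) (hx : ∀ k, x (Sum.inl k) = 0)
    (hy : ∀ k, y (Sum.inl k) = 0) : sympForm m F x y = 0 := by
  rw [sympForm_eq_sum]
  apply Finset.sum_eq_zero
  intro k _
  rw [hx k, hy k]
  ring

/-- (e) -/
theorem e0_mixed [Fintype F] (hm : 3 ≤ m) (h : E0Hyp F₀ M) (l l' : Fin m ⊕ Fin m → F)
    (hl : ∀ k, l (Sum.inr k) = 0) (hl' : ∀ k, l' (Sum.inl k) = 0) : l + l' ∈ Sset M := by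
  have hlM := e0_L_all hm h l hl
  have hl'M := e0_L'_all hm h l' hl'
  by_cases hB : sympForm m F l l' = 0
  · by_cases hl0 : ∃ k, l (Sum.inl k) ≠ 0
    · obtain ⟨k, hk⟩ := hl0
      have hfk : (ff k : Fin m ⊕ Fin m → F) ∈ Sset M := e0_ff_mem hm h k
      have hB2 : sympForm m F l (ff k) ≠ 0 := by
        rw [e0_B_right_ff]
        exact neg_ne_zero.mpr hk
      have h1 : l + ff k ∈ Sset M := e0_Sset_add h.sp hlM hfk hB2
      have h2 : l' - ff k ∈ Sset M := by
        apply e0_L'_all hm h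
        intro j
        simp [hl' j]
      have hB3 : sympForm m F (l + ff k) (l' - ff k) ≠ 0 := by
        rw [sympForm_add_left, sympForm_sub_right, sympForm_sub_right, hB,
          e0_L'_orth (ff k) l' (fun j => e0_ff_inl k j) hl', sympForm_self]
        simpa using hB2
      have h3 := e0_Sset_add h.sp h1 h2 hB3
      have h4 : l + ff k + (l' - ff k) = l + l' := by abel
      rwa [h4] at h3
    · push Not at hl0
      have : l = 0 := by
        funext u
        rcases u with k | k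
        · exact hl0 k
        · exact hl k
      rw [this, zero_add]
      exact hl'M
  · exact e0_Sset_add h.sp hlM hl'M hB

end Main

/-- **Leaf E0** of S5650: if all Levi root elements with all coefficients lie in `M` then `M = Sp`. -/
theorem sp_le_of_top [Fintype F] (F₀ : Subfield F) (hm : 3 ≤ m)
    {M : Subgroup (GL (Fin m ⊕ Fin m) F)}
    (hle : H0 m F₀ ≤ M) (hsp : M ≤ spGL m F)
    (hall : ∀ (c : F) (i j : Fin m), i ≠ j → Sab (ee i) (ff j) c ∈ M) : spGL m F ≤ M := by
  have h : E0Hyp F₀ M := ⟨hle, hsp, hall⟩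
  apply le_of_forall_mem_Sset
  intro v
  have hv : v = (fun u => Sum.elim (fun k => v (Sum.inl k)) (fun _ => 0) u) +
      (fun u => Sum.elim (fun _ => 0) (fun k => v (Sum.inr k)) u) := by
    funext u
    rcases u with k | k
    · simp
    · simp
  rw [hv]
  exact e0_mixed hm h _ _ (fun k => rfl) (fun k => rfl)

end Cfsg.Agent.Lib.Helper8.SpSubLeaf
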