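import Mathlib
import Cfsg.Agent.Lib.Helper5.TWS.Defs
import Cfsg.Agent.Lib.Helper28.TWU2ADefs
import Cfsg.Agent.Lib.Helper29.TWSOneSlot
import Cfsg.Agent.Lib.Helper26.TWFibA

/-!
# S5668 (C7 symplectic; owner helper5) — STAGE II, CASE A: definitions and block calculus (helper8)

`StableAtS l 𝒯`: `𝒯` is an ADDITIVE group of matrices stable under conjugation by `slot l Sp(A)`.
`famS J1 J2 z x x'`: the weight family `N_{z l}` on `J1`, `x l ∧ x' l` on `J2`, `1` elsewhere.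
`blk l Ψ p p'`: the `k × k` block of `Ψ` at position `l` through `(p, p')`.
Form-free `WForm`, `Triv` are helper28's (`Helper28.TWU2A`); one-slot calculus is helper29's (`Helper29.TWSOne`).
-/

set_option autoImplicit false
set_option linter.unusedSectionVars false
set_option linter.unusedVariables false

namespace Cfsg.Agent.Lib.Helper8.TWS2A
open Matrix Cfsg.Geo Cfsg.Agent.Lib.Helper18.AschA89 Cfsg.Agent.Lib.Helper8.TW
open Cfsg.Agent.Lib.Helper5.TWS Cfsg.Agent.Lib.Helper28.TWU2A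
open Cfsg.Agent.Lib.Helper25.SpT (sf sfv)
open Cfsg.Agent.Lib.Helper29.TWSOne

variable {F : Type*} [Field F] {t k : ℕ}

/-- `𝒯` is an additive group of matrices, stable under conjugation by `slot l g`, `g ∈ Sp(A)` -/
structure StableAtS (l : Fin t) (𝒯 : Matrix (Idx t k) (Idx t k) F → Prop) : Prop where
  add : ∀ Ψ Ψ', 𝒯 Ψ → 𝒯 Ψ' → 𝒯 (Ψ + Ψ')
  neg : ∀ Ψ, 𝒯 Ψ → 𝒯 (-Ψ)
  conj : ∀ (g : GL (Fin k) F), g ∈ GSA k F → ∀ Ψ, 𝒯 Ψ →
    𝒯 (slot k t l (g : Matrix (Fin k) (Fin k) F) * Ψ *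
      slot k t l ((g⁻¹ : GL (Fin k) F) : Matrix (Fin k) (Fin k) F))

/-- the weight family: `N_{z l}` on `J1`, `x l ∧ x' l` on `J2`, `1` elsewhere -/
def famS (J1 J2 : Finset (Fin t)) (z x x' : Fin t → Fin k → F) : Fin t → Matrix (Fin k) (Fin k) F :=
  fun l => if l ∈ J1 then Nz (z l) else if l ∈ J2 then wedge (x l) (x' l) else 1

/-- an `N`-type weight -/
def IsNW (w : Matrix (Fin k) (Fin k) F) : Prop := ∃ z : Fin k → F, z ≠ 0 ∧ w = Nz z

/-- a `Λ²`-type weight: `x ∧ x'` for a t.i. independent pair -/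
def IsLW (w : Matrix (Fin k) (Fin k) F) : Prop :=
  ∃ x x' : Fin k → F, x ≠ 0 ∧ sf x x' = 0 ∧ (¬ ∃ c : F, x' = c • x) ∧ w = wedge x x'

/-- the family of the recursion: `1 + Ψ ∈ X`, weight `N_y` at `i`, weights `w l` at the positions `l ∈ D` -/
def TDS (X : Subgroup (GL (Idx t k) F)) (i : Fin t) (y : Fin k → F) (D : Finset (Fin t))
    (w : Fin t → Matrix (Fin k) (Fin k) F) (Ψ : Matrix (Idx t k) (Idx t k) F) : Prop :=
  InM X (1 + Ψ) ∧ WForm i (Nz y) Ψ ∧ ∀ l ∈ D, WForm l (w l) Ψ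

lemma famS_mem1 {J1 J2 : Finset (Fin t)} (z x x' : Fin t → Fin k → F) {l : Fin t} (h : l ∈ J1) :
    famS J1 J2 z x x' l = Nz (z l) := by
  unfold famS; rw [if_pos h]

lemma famS_mem2 {J1 J2 : Finset (Fin t)} (z x x' : Fin t → Fin k → F) {l : Fin t} (h1 : l ∉ J1) (h2 : l ∈ J2) :
    famS J1 J2 z x x' l = wedge (x l) (x' l) := by
  unfold famS; rw [if_neg h1, if_pos h2]

lemma famS_not_mem {J1 J2 : Finset (Fin t)} (z x x' : Fin t → Fin k → F) {l : Fin t} (h1 : l ∉ J1) (h2 : l ∉ J2) :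
    famS J1 J2 z x x' l = 1 := by
  unfold famS; rw [if_neg h1, if_neg h2]

/-- changing the data at a position `l` does not change the other weights -/
lemma famS_insert1_ne [DecidableEq (Fin t)] {J1 J2 : Finset (Fin t)} (z x x' : Fin t → Fin k → F) (l : Fin t) (z₀ : Fin k → F)
    {l' : Fin t} (h : l' ≠ l) :
    famS (insert l J1) J2 (Function.update z l z₀) x x' l' = famS J1 J2 z x x' l' := by
  unfold famS
  rw [Function.update_of_ne h]
  by_cases h1 : l' ∈ J1
  · rw [if_pos (Finset.mem_insert_of_mem h1), if_pos h1]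
  · rw [if_neg (by rw [Finset.mem_insert]; exact fun h' => h'.elim h h1), if_neg h1]

lemma famS_insert2_ne [DecidableEq (Fin t)] {J1 J2 : Finset (Fin t)} (z x x' : Fin t → Fin k → F) (l : Fin t) (x₀ x₀' : Fin k → F)
    {l' : Fin t} (h : l' ≠ l) :
    famS J1 (insert l J2) z (Function.update x l x₀) (Function.update x' l x₀') l' = famS J1 J2 z x x' l' := by
  unfold famS
  rw [Function.update_of_ne h, Function.update_of_ne h]
  by_cases h1 : l' ∈ J1
  · rw [if_pos h1, if_pos h1]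
  · rw [if_neg h1, if_neg h1]
    by_cases h2 : l' ∈ J2
    · rw [if_pos (Finset.mem_insert_of_mem h2), if_pos h2]
    · rw [if_neg (by rw [Finset.mem_insert]; exact fun h' => h'.elim h h2), if_neg h2]

/-! ### blocks -/

/-- the `k × k` block of `Ψ` at position `l` through `(p, p')` -/
def blk (l : Fin t) (Ψ : Matrix (Idx t k) (Idx t k) F) (p p' : Idx t k) : Matrix (Fin k) (Fin k) F :=
  fun a b => Ψ (Function.update p l a) (Function.update p' l b)

lemma blk_apply (l : Fin t) (Ψ : Matrix (Idx t k) (Idx t k) F) (p p' : Idx t k) (a b : Fin k) :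
    blk l Ψ p p' a b = Ψ (Function.update p l a) (Function.update p' l b) := rfl

lemma blk_self (l : Fin t) (Ψ : Matrix (Idx t k) (Idx t k) F) (p p' : Idx t k) :
    blk l Ψ p p' (p l) (p' l) = Ψ p p' := by
  rw [blk_apply, Function.update_eq_self, Function.update_eq_self]

lemma slot_mul_apply8 (l : Fin t) (A : Matrix (Fin k) (Fin k) F) (M : Matrix (Idx t k) (Idx t k) F)
    (x x' : Idx t k) :
    (slot k t l A * M) x x' = ∑ a, A (x l) a * M (Function.update x l a) x' := by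
  have h := Cfsg.Agent.Lib.Helper26.TWLeaf.slot_mulVec_apply26 l A (fun y => M y x') x
  rw [← h]
  rfl

lemma mul_slot_apply8 (l : Fin t) (A : Matrix (Fin k) (Fin k) F) (M : Matrix (Idx t k) (Idx t k) F)
    (x x' : Idx t k) :
    (M * slot k t l A) x x' = ∑ b, M x (Function.update x' l b) * A b (x' l) := by
  rw [Matrix.mul_apply]
  have h1 : ∀ y : Idx t k, M x y * slot k t l A y x' =
      if (∀ j, j ≠ l → x' j = y j) then M x y * A (y l) (x' l) else 0 := by
    intro y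
    rw [slot_apply]
    by_cases h : ∀ j, j ≠ l → y j = x' j
    · rw [if_pos h, if_pos (fun j hj => (h j hj).symm)]
    · rw [if_neg h, if_neg (fun h' => h (fun j hj => (h' j hj).symm)), mul_zero]
  simp only [h1]
  rw [Cfsg.Agent.Lib.Helper26.TWLeaf.sum_line26 l x' (fun y => M x y * A (y l) (x' l))]
  simp only [Function.update_self]

lemma blk_slot_mul (l : Fin t) (A : Matrix (Fin k) (Fin k) F) (Ψ : Matrix (Idx t k) (Idx t k) F)
    (p p' : Idx t k) : blk l (slot k t l A * Ψ) p p' = A * blk l Ψ p p' := by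
  ext a b
  rw [blk_apply, slot_mul_apply8, Matrix.mul_apply]
  apply Finset.sum_congr rfl
  intro c _
  rw [Function.update_self, Function.update_idem, blk_apply]

lemma blk_mul_slot (l : Fin t) (B : Matrix (Fin k) (Fin k) F) (Ψ : Matrix (Idx t k) (Idx t k) F)
    (p p' : Idx t k) : blk l (Ψ * slot k t l B) p p' = blk l Ψ p p' * B := by
  ext a b
  rw [blk_apply, mul_slot_apply8, Matrix.mul_apply]
  apply Finset.sum_congr rfl
  intro c _
  rw [Function.update_self, Function.update_idem, blk_apply]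

lemma blk_add (l : Fin t) (Ψ Ψ' : Matrix (Idx t k) (Idx t k) F) (p p' : Idx t k) :
    blk l (Ψ + Ψ') p p' = blk l Ψ p p' + blk l Ψ' p p' := rfl

lemma blk_sub (l : Fin t) (Ψ Ψ' : Matrix (Idx t k) (Idx t k) F) (p p' : Idx t k) :
    blk l (Ψ - Ψ') p p' = blk l Ψ p p' - blk l Ψ' p p' := rfl

lemma blk_neg (l : Fin t) (Ψ : Matrix (Idx t k) (Idx t k) F) (p p' : Idx t k) :
    blk l (-Ψ) p p' = - blk l Ψ p p' := rfl

lemma blk_smul (l : Fin t) (c : F) (Ψ : Matrix (Idx t k) (Idx t k) F) (p p' : Idx t k) :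
    blk l (c • Ψ) p p' = c • blk l Ψ p p' := rfl

/-- a matrix all of whose blocks at `l` are multiples of `w` has weight `w` at `l` -/
lemma wform_of_blk (l : Fin t) (w : Matrix (Fin k) (Fin k) F) (Ψ : Matrix (Idx t k) (Idx t k) F)
    (h : ∀ p p', ∃ c : F, blk l Ψ p p' = c • w) : WForm l w Ψ := by
  intro p p' a b
  obtain ⟨c, hc⟩ := h p p'
  have h1 : Ψ (Function.update p l a) (Function.update p' l b) = c * w a b := by
    have := congrFun (congrFun hc a) b
    rw [blk_apply] at this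
    rw [this]; rfl
  have h2 : Ψ p p' = c * w (p l) (p' l) := by
    rw [← blk_self l Ψ p p', hc]; rfl
  rw [h1, h2]; ring

/-- a matrix which is not trivial at `l` has a non-scalar block -/
lemma exists_blk_not_scalar (l : Fin t) (Ψ : Matrix (Idx t k) (Idx t k) F) (h : ¬ Triv l Ψ) :
    ∃ p p', ¬ ∃ c : F, blk l Ψ p p' = c • (1 : Matrix (Fin k) (Fin k) F) := by
  by_contra hcon
  push Not at hcon
  exact h (wform_of_blk l 1 Ψ hcon)

lemma eq_zero_of_blk (l : Fin t) (Ψ : Matrix (Idx t k) (Idx t k) F) (h : ∀ p p', blk l Ψ p p' = 0) :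
    Ψ = 0 := by
  ext p p'
  rw [← blk_self l Ψ p p', h p p']
  rfl

/-! ### the symplectic transvections of `A` -/

lemma Nz_smul_sq (u : Fin k → F) (c : F) : (c • Nz u) * (c • Nz u) = 0 := by
  rw [Matrix.smul_mul, Matrix.mul_smul, Nz_sq, smul_zero, smul_zero]

/-- `1 + c N_u ∈ Sp(A)` -/
lemma unipNz_mem_GSA (u : Fin k → F) (c : F) : unip (c • Nz u) (Nz_smul_sq u c) ∈ GSA k F := by
  rw [mem_GSA]
  intro a b
  rw [unip_val, Matrix.add_mulVec, Matrix.add_mulVec, Matrix.one_mulVec, Matrix.one_mulVec,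
    Matrix.smul_mulVec, Matrix.smul_mulVec, dy_mulVec, dy_mulVec]
  simp only [Cfsg.Agent.Lib.Helper25.SpT.sf_add_left, Cfsg.Agent.Lib.Helper25.SpT.sf_add_right,
    Cfsg.Agent.Lib.Helper25.SpT.sf_smul_left, Cfsg.Agent.Lib.Helper25.SpT.sf_smul_right,
    Cfsg.Agent.Lib.Helper25.SpT.sf_self]
  rw [Cfsg.Agent.Lib.Helper25.SpT.sf_skew u b]
  ring

/-! ### unipotent calculus in a subgroup (copies of helper17's `TWU3A16` tools) -/

lemma inv_val_sq0 {κ : Type} [Fintype κ] [DecidableEq κ] (g : GL κ F) (N : Matrix κ κ F)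
    (hg : (g : Matrix κ κ F) = 1 + N) (hN : N * N = 0) : ((g⁻¹ : GL κ F) : Matrix κ κ F) = 1 - N := by
  apply Units.inv_eq_of_mul_eq_one_right
  have e : (1 + N) * (1 - N) = 1 - N * N := by noncomm_ring
  rw [hg, e, hN, sub_zero]

/-- commutator of two unipotents `1 + a`, `1 + b` with `a² = b² = aba = bab = 0` -/
lemma InM_comm8 {κ : Type} [Fintype κ] [DecidableEq κ] (X : Subgroup (GL κ F)) (a b : Matrix κ κ F)
    (ha : InM X (1 + a)) (hb : InM X (1 + b)) (haa : a * a = 0) (hbb : b * b = 0)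
    (haba : a * b * a = 0) (hbab : b * a * b = 0) : InM X (1 + (a * b - b * a)) := by
  obtain ⟨u, hu, hua⟩ := ha
  obtain ⟨v, hv, hvb⟩ := hb
  refine ⟨u * v * u⁻¹ * v⁻¹, X.mul_mem (X.mul_mem (X.mul_mem hu hv) (X.inv_mem hu)) (X.inv_mem hv), ?_⟩
  rw [Units.val_mul, Units.val_mul, Units.val_mul, inv_val_sq0 u a hua haa,
    inv_val_sq0 v b hvb hbb, hua, hvb]
  have key : (1 + a) * (1 + b) * (1 - a) * (1 - b) =
      1 + (a * b - b * a) - a * a - a * b * a - b * b - a * (b * b) + a * a * b + b * a * b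
        + a * b * a * b := by
    noncomm_ring
  rw [key, haa, hbb, haba, hbab]
  simp

/-- quotient of two unipotents -/
lemma InM_quot8 {κ : Type} [Fintype κ] [DecidableEq κ] (X : Subgroup (GL κ F)) (A B : Matrix κ κ F)
    (hA : InM X (1 + A)) (hB : InM X (1 + B)) (hBB : B * B = 0) (hAB : A * B = 0) :
    InM X (1 + (A - B)) := by
  obtain ⟨u, hu, hua⟩ := hA
  obtain ⟨v, hv, hvb⟩ := hB
  refine ⟨u * v⁻¹, X.mul_mem hu (X.inv_mem hv), ?_⟩
  have e : (1 + A) * (1 - B) = 1 + (A - B) - A * B := by noncomm_ring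
  rw [Units.val_mul, inv_val_sq0 v B hvb hBB, hua, e, hAB, sub_zero]

/-- product of two unipotents annihilating each other -/
lemma InM_mul8 {κ : Type} [Fintype κ] [DecidableEq κ] (X : Subgroup (GL κ F)) (A B : Matrix κ κ F)
    (hA : InM X (1 + A)) (hB : InM X (1 + B)) (hAB : A * B = 0) : InM X (1 + (A + B)) := by
  obtain ⟨u, hu, hua⟩ := hA
  obtain ⟨v, hv, hvb⟩ := hB
  refine ⟨u * v, X.mul_mem hu hv, ?_⟩
  have e : (1 + A) * (1 + B) = 1 + (A + B) + A * B := by noncomm_ring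
  rw [Units.val_mul, hua, hvb, e, hAB, add_zero]

/-- conjugation of a unipotent by an element of the subgroup -/
lemma InM_conj8 {κ : Type} [Fintype κ] [DecidableEq κ] (X : Subgroup (GL κ F)) (g : GL κ F) (hg : g ∈ X)
    (A : Matrix κ κ F) (hA : InM X (1 + A)) :
    InM X (1 + (g : Matrix κ κ F) * A * ((g⁻¹ : GL κ F) : Matrix κ κ F)) := by
  obtain ⟨u, hu, hua⟩ := hA
  refine ⟨g * u * g⁻¹, X.mul_mem (X.mul_mem hg hu) (X.inv_mem hg), ?_⟩
  rw [Units.val_mul, Units.val_mul, hua, mul_add, mul_one, add_mul, ← Units.val_mul, mul_inv_cancel,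
    Units.val_one]

/-- the two ring identities behind Lemma A with `c = ±1` -/
lemma conj_pm_add {κ : Type} [Fintype κ] [DecidableEq κ] (n Ψ : Matrix κ κ F) :
    (1 + n) * Ψ * (1 - n) + (1 - n) * Ψ * (1 + n) + -Ψ + -Ψ = -(n * Ψ * n + n * Ψ * n) := by
  noncomm_ring

lemma conj_pm_sub {κ : Type} [Fintype κ] [DecidableEq κ] (n Ψ : Matrix κ κ F) :
    (1 + n) * Ψ * (1 - n) + -((1 - n) * Ψ * (1 + n)) = (n * Ψ - Ψ * n) + (n * Ψ - Ψ * n) := by
  noncomm_ring

end Cfsg.Agent.Lib.Helper8.TWS2A
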