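import Mathlib
import Cfsg.Agent.Lib.Helper5.TWU.Defs
import Cfsg.Agent.Lib.Helper5.TWU.StageIDefs
import Cfsg.Agent.Lib.Helper5.TWU.IB0
import Cfsg.Agent.Lib.Helper16.TWImg
import Cfsg.Agent.Lib.Helper16.TWRootA
import Cfsg.Agent.Lib.Helper16.TWRootB
import Cfsg.Agent.Lib.Helper16.TWRootC
import Cfsg.Agent.Lib.Helper26.TWFibA
import Cfsg.Agent.Lib.Helper26.TWFibB
import Cfsg.Agent.Lib.Helper22.TWExtBasic
import Cfsg.Agent.Lib.Helper22.TWExtMore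
import Cfsg.Agent.Lib.Helper22.TWQStab
import Cfsg.Agent.Lib.Helper23.TWUQMain
import Cfsg.Agent.Lib.Helper23.TWUQSc
import Cfsg.Agent.Lib.Helper23.TWUQU
import Cfsg.Agent.Lib.Helper22.TWQPure
import Cfsg.Agent.Lib.Helper22.TWQK
import Cfsg.Agent.Lib.Helper23.TWUT
import Cfsg.Agent.Lib.Helper23.TWUT2
import Cfsg.Agent.Lib.Helper23.TWUT3
import Cfsg.Agent.Lib.Helper23.TWUIUT1

/-!
S5672 (C7 unitary; owner helper5) Stage I, leaf I6-st `step6` (helper8); `step6_three` is in `TWUI6k3`.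
-/

set_option autoImplicit false
set_option linter.unusedSectionVars false
set_option linter.unusedVariables false

namespace Cfsg.Agent.Lib.Helper8.TWULeaf
open Matrix Cfsg.Geo Cfsg.Agent.Lib.Helper18.AschA89 Cfsg.Agent.Lib.Helper8.TW Cfsg.Agent.Lib.Helper5.TWU
open Cfsg.Agent.Lib.Helper20.UT (hv)
open Cfsg.Agent.Lib.Helper23.TWUQ (NSp FCp)
open Cfsg.Agent.Lib.Helper22.TWLeaf

variable {F : Type*} [Field F] [Fintype F] {t k q : ℕ}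

lemma mv_one8 {ι : Type} [Fintype ι] [DecidableEq ι] (v : ι → F) : mv (1 : GL ι F) v = v := by
  unfold mv
  rw [Units.val_one, Matrix.one_mulVec]

/-- conjugating an isometry by a similitude gives an isometry -/
theorem conj_mem_GUV {g u : GL (Idx t k) F} (hg : g ∈ DUV t k q F) (hu : u ∈ GUV t k q F) :
    g * u * g⁻¹ ∈ GUV t k q F := by
  obtain ⟨c, hc⟩ := mem_DUV.1 hg
  rw [mem_GUV] at hu ⊢
  intro a b
  rw [Cfsg.Agent.Lib.Helper16.TWLeaf.mv_mul, Cfsg.Agent.Lib.Helper16.TWLeaf.mv_mul,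
    Cfsg.Agent.Lib.Helper16.TWLeaf.mv_mul (g * u), Cfsg.Agent.Lib.Helper16.TWLeaf.mv_mul g u, hc, hu, ← hc,
    ← Cfsg.Agent.Lib.Helper16.TWLeaf.mv_mul, ← Cfsg.Agent.Lib.Helper16.TWLeaf.mv_mul, mul_inv_cancel, mv_one8, mv_one8]

/-- the group generated by the unitary root group of `r₁` and the `g`-conjugate of that of `r₂` consists of isometries -/
theorem usup_le_GUV (hF : Fintype.card F = q ^ 2) {g : GL (Idx t k) F} (hg : g ∈ DUV t k q F) {r₁ r₂ : RD t k F}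
    (hr₁ : RU q r₁) (hr₂ : RU q r₂) : ugrp hF r₁ ⊔ conjG g (ugrp hF r₂) ≤ GUV t k q F := by
  apply sup_le
  · rintro a ⟨d, hd, rfl⟩
    exact Cfsg.Agent.Lib.Helper23.TWUT.elt_mem_GUV hF hr₁ (mem_Sk.2 hd)
  · intro a ha
    rw [mem_conjG] at ha
    obtain ⟨u, ⟨d, hd, rfl⟩, rfl⟩ := ha
    exact conj_mem_GUV hg (Cfsg.Agent.Lib.Helper23.TWUT.elt_mem_GUV hF hr₂ (mem_Sk.2 hd))

/-- ... and lies in `X` as soon as `H ≤ X` and `g ∈ X` -/
theorem usup_le_X (hF : Fintype.card F = q ^ 2) {X : Subgroup (GL (Idx t k) F)} (hHX : HU t k q F ≤ X)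
    {g : GL (Idx t k) F} (hg : g ∈ X) {r₁ r₂ : RD t k F}
    (hr₁ : RU q r₁) (hr₂ : RU q r₂) : ugrp hF r₁ ⊔ conjG g (ugrp hF r₂) ≤ X := by
  apply sup_le
  · rintro a ⟨d, hd, rfl⟩
    exact hHX (Cfsg.Agent.Lib.Helper23.TWUT.elt_mem_HU hF hr₁ (mem_Sk.2 hd))
  · intro a ha
    rw [mem_conjG] at ha
    obtain ⟨u, ⟨d, hd, rfl⟩, rfl⟩ := ha
    exact X.mul_mem (X.mul_mem hg (hHX (Cfsg.Agent.Lib.Helper23.TWUT.elt_mem_HU hF hr₂ (mem_Sk.2 hd))))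
      (X.inv_mem hg)

/-- for an admissible root datum the dual fibre is the perp of the fibre -/
theorem C_eq_perpU8 (hF : Fintype.card F = q ^ 2) (r : RD t k F) (hr : RU q r) : r.C = perpU q r.W := by
  have h1 : r.C = Cf r.i (dag q r.y) := by rw [← hr.2]; rfl
  have h2 : r.W = Wf r.i r.y := rfl
  rw [h1, h2, Cfsg.Agent.Lib.Helper23.TWUT.perpU_Wf hF r.i r.y r.hy]

/-- the fixed space of `slot i A` is the fibre of the fixed space of `A` -/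
theorem fix_slot (i : Fin t) (A : Matrix (Fin k) (Fin k) F) (v : Idx t k → F) :
    slot k t i A *ᵥ v = v ↔ v ∈ fib i (LinearMap.ker (Matrix.toLin' (A - 1))) := by
  rw [mem_fib]
  constructor
  · intro h x
    rw [LinearMap.mem_ker, Matrix.toLin'_apply, Matrix.sub_mulVec, Matrix.one_mulVec,
      ← Cfsg.Agent.Lib.Helper26.TWLeaf.slot_mulVec_slice26, h, sub_self]
  · intro h
    apply Cfsg.Agent.Lib.Helper26.TWLeaf.ext_slice26 i
    intro x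
    have := h x
    rw [LinearMap.mem_ker, Matrix.toLin'_apply, Matrix.sub_mulVec, Matrix.one_mulVec, sub_eq_zero] at this
    rw [Cfsg.Agent.Lib.Helper26.TWLeaf.slot_mulVec_slice26, this]

/-- I6-st: STEP 6, structure -/
theorem step6 {X : Subgroup (GL (Idx t k) F)} (c : CtxU q X) (hq : 3 ≤ q) (g : GL (Idx t k) F) (r₂ : RD t k F)
    (w : FRWU q X g r₂) (r₁ : RD t k F) (hr₁ : RU q r₁) (x : GL (Idx t k) F) (K' : KeyU c.hF g r₁ r₂ x r₁) :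
    ∃ A₀ : Submodule F (Fin k → F), Module.finrank F A₀ = k - 2 ∧ (∀ a ∈ A₀, hv q a r₁.y = 0) ∧ r₁.y ∉ A₀ ∧
      img g r₂.W ≤ fib r₁.i (perpU q A₀) := by
  classical
  obtain ⟨t', rfl⟩ : ∃ t', t = t' + 1 := ⟨t - 1, by have := c.ht; omega⟩
  have hk3 := c.hk
  have hk2 : 2 ≤ k := by omega
  have hF := c.hF
  have hq0 : q ≠ 0 := by omega
  have hgD : g ∈ DUV (t' + 1) k q F := c.hXD w.hgX
  have hW₁ : r₁.W = Wf r₁.i r₁.y := rfl
  have hC₁ : r₁.C = Cf r₁.i (dag q r₁.y) := by rw [← hr₁.2]; rfl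
  have hWC₁ : r₁.W ≤ r₁.C := Cfsg.Agent.Lib.Helper16.TWLeaf.RD_W_le_C r₁
  have hWC' : img g r₂.W ≤ img g r₂.C :=
    (Cfsg.Agent.Lib.Helper16.TWLeaf.img_le_img_iff g _ _).2 (Cfsg.Agent.Lib.Helper16.TWLeaf.RD_W_le_C r₂)
  have hfr2 : r₁.W ⊓ img g r₂.C = ⊥ := w.fr2 r₁.i r₁.y r₁.hy hr₁.1
  obtain ⟨ν, hνq, hν0, hν1⟩ := Cfsg.Agent.Lib.Helper23.TWUQ.exists_fixed hF hq
  -- `b₀`
  obtain ⟨b₀, hb₀mem, hb₀fix, hb₀W⟩ := Cfsg.Agent.Lib.Helper5.TWULeaf.b0U c g r₁ r₂ hr₁ w.hr₂ x K' ⊥ bot_le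
    (by
      rw [← hfr2]
      exact inf_le_inf le_rfl (sup_le hWC' inf_le_right))
    ν hν0 hνq
  have hb₀W' : ∀ v ∈ r₁.W, mv b₀ v = ν⁻¹ • v := by
    intro v hv
    have := hb₀W v hv
    rw [Submodule.mem_bot] at this
    exact sub_eq_zero.1 this
  have hb₀X : b₀ ∈ X := usup_le_X hF c.hHX w.hgX hr₁ w.hr₂ hb₀mem
  have hb₀U : b₀ ∈ GUV (t' + 1) k q F := usup_le_GUV hF hgD hr₁ w.hr₂ hb₀mem
  -- `b₀` stabilises `W₁`
  have himg : img b₀ r₁.W = r₁.W := by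
    apply Submodule.eq_of_le_of_finrank_le
    · rintro v ⟨u, hu, rfl⟩
      rw [Matrix.toLin'_apply]
      have := hb₀W' u hu
      unfold mv at this
      rw [this]
      exact Submodule.smul_mem _ _ hu
    · rw [Cfsg.Agent.Lib.Helper16.TWLeaf.finrank_img]
  rw [hW₁] at himg
  have hb₀G : b₀ ∈ Gstd (t' + 1) k F :=
    c.ns b₀ hb₀X ⟨r₁.i, r₁.i, r₁.y, r₁.y, r₁.hy, r₁.hy, hr₁.1, hr₁.1, himg⟩
  obtain ⟨γ, α, -, hval, cc, hcc⟩ := Cfsg.Agent.Lib.Helper22.TWQLeaf.stab_form hk2 b₀ hb₀G r₁.i r₁.y r₁.y r₁.hy r₁.hy himg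
  obtain ⟨ψ, hψ⟩ := Cfsg.Agent.Lib.Helper26.TWLeaf.exists_dot_one26 r₁.y r₁.hy
  rw [dotProduct_comm] at hψ
  -- `cc • γ b = ν⁻¹ • b`
  have hγ : ∀ b : Idx t' k → F, cc • ((γ : Matrix (Idx t' k) (Idx t' k) F) *ᵥ b) = ν⁻¹ • b := by
    intro b
    have hmem : tens r₁.i b r₁.y ∈ r₁.W := (mem_Wf_iff_tens r₁.i r₁.y r₁.hy _).mpr ⟨b, rfl⟩
    have e1 := hb₀W' _ hmem
    unfold mv at e1
    rw [hval, ← Matrix.mulVec_mulVec, slot_mulVec_tens, ext_mulVec_tens, hcc] at e1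
    have e2 := congrArg (ctr r₁.i ψ) e1
    rw [ctr_tens, Cfsg.Agent.Lib.Helper22.TWLeaf.ctr_smul, ctr_tens, dotProduct_smul, hψ, smul_eq_mul, mul_one,
      one_smul] at e2
    exact e2
  have hu₀ : Nonempty (Idx t' k) := ⟨fun _ => ⟨0, by omega⟩⟩
  obtain ⟨u₀⟩ := hu₀
  have hνi0 : ν⁻¹ ≠ 0 := inv_ne_zero hν0
  have hcc0 : cc ≠ 0 := by
    rintro rfl
    have := congrFun (hγ (fun _ => 1)) u₀
    simp at this
    exact hν0 this.symm
  have hγ' : (γ : Matrix (Idx t' k) (Idx t' k) F) = (cc⁻¹ * ν⁻¹) • 1 := by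
    apply Cfsg.Agent.Lib.Helper22.TWQLeaf.eq_smul_one_of_mulVec
    intro b
    rw [mul_smul, ← hγ b, smul_smul, inv_mul_cancel₀ hcc0, one_smul]
  -- `b₀ = slot i A`
  obtain ⟨A, hA⟩ : ∃ A : Matrix (Fin k) (Fin k) F, A = (cc⁻¹ * ν⁻¹) • (α : Matrix (Fin k) (Fin k) F) := ⟨_, rfl⟩
  have hval' : (b₀ : Matrix (Idx (t' + 1) k) (Idx (t' + 1) k) F) = slot k (t' + 1) r₁.i A := by
    rw [hval, hγ', Cfsg.Agent.Lib.Helper22.TWQLeaf.ext_smul_one, Matrix.smul_mul, Matrix.one_mul, hA, slot_smul]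
  have hAy : A *ᵥ r₁.y = ν⁻¹ • r₁.y := by
    rw [hA, Matrix.smul_mulVec, hcc, smul_smul, mul_comm cc⁻¹, mul_assoc, inv_mul_cancel₀ hcc0, mul_one]
  -- `A` is an isometry of `A`
  have hAiso : ∀ a a' : Fin k → F, hv q (A *ᵥ a) (A *ᵥ a') = hv q a a' := by
    intro a a'
    have h1 := (mem_GUV.1 hb₀U) (tens r₁.i (Pi.single u₀ 1) a) (tens r₁.i (Pi.single u₀ 1) a')
    unfold mv at h1
    rw [hval', slot_mulVec_tens, slot_mulVec_tens, Cfsg.Agent.Lib.Helper23.TWULeaf.hv_tens,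
      Cfsg.Agent.Lib.Helper23.TWULeaf.hv_tens, Cfsg.Agent.Lib.Helper23.TWUT.hv_single_right hq0,
      Pi.single_eq_same, one_mul, one_mul] at h1
    exact h1
  -- the fixed space `A₀`
  obtain ⟨A₀, hA₀⟩ : ∃ A₀ : Submodule F (Fin k → F), A₀ = LinearMap.ker (Matrix.toLin' (A - 1)) := ⟨_, rfl⟩
  have hmemA₀ : ∀ a : Fin k → F, a ∈ A₀ ↔ A *ᵥ a = a := by
    intro a
    rw [hA₀, LinearMap.mem_ker, Matrix.toLin'_apply, Matrix.sub_mulVec, Matrix.one_mulVec, sub_eq_zero]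
  have hν1' : (1 : F) - ν⁻¹ ≠ 0 := by
    intro h
    apply hν1
    have : ν⁻¹ = 1 := (sub_eq_zero.1 h).symm
    rw [inv_eq_one] at this
    exact this
  have hνiq : (ν⁻¹) ^ q = ν⁻¹ := by rw [inv_pow, hνq]
  -- `A₀ ≤ y^⊥`
  have hperp : ∀ a ∈ A₀, hv q a r₁.y = 0 := by
    intro a ha
    have h1 := hAiso a r₁.y
    rw [(hmemA₀ a).1 ha, hAy, Cfsg.Agent.Lib.Helper20.UT.hv_smul_right, hνiq] at h1
    have h2 : (1 - ν⁻¹) * hv q a r₁.y = 0 := by rw [sub_mul, one_mul, h1, sub_self]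
    rcases mul_eq_zero.1 h2 with h | h
    · exact absurd h hν1'
    · exact h
  -- `y ∉ A₀`
  have hynot : r₁.y ∉ A₀ := by
    intro h
    have h1 := (hmemA₀ _).1 h
    rw [hAy] at h1
    have h2 : (1 - ν⁻¹) • r₁.y = 0 := by rw [sub_smul, one_smul, h1, sub_self]
    rcases smul_eq_zero.1 h2 with h | h
    · exact hν1' h
    · exact r₁.hy h
  -- `finrank A₀ ≤ k - 2`
  have hη : dag q r₁.y ≠ 0 := dag_ne_zero r₁.hy
  have hle1 : A₀ ≤ kerF (dag q r₁.y) := by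
    intro a ha
    change dag q r₁.y ⬝ᵥ a = 0
    rw [← Cfsg.Agent.Lib.Helper20.UT.hv_eq_dot]
    exact hperp a ha
  have hlt1 : A₀ < kerF (dag q r₁.y) := by
    refine lt_of_le_of_ne hle1 ?_
    intro h
    apply hynot
    rw [h]
    change dag q r₁.y ⬝ᵥ r₁.y = 0
    rw [← Cfsg.Agent.Lib.Helper20.UT.hv_eq_dot]
    exact hr₁.1
  have hfr1 := Submodule.finrank_lt_finrank_of_lt hlt1
  rw [Cfsg.Agent.Lib.Helper26.TWLeaf.finrank_kerF _ hη] at hfr1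
  -- `C₁ ⊓ C' ≤ fib i A₀`
  have hfixle : r₁.C ⊓ img g r₂.C ≤ fib r₁.i A₀ := by
    intro v hv
    have h1 := hb₀fix v hv
    unfold mv at h1
    rw [hval', fix_slot] at h1
    rw [hA₀]
    exact h1
  -- the dimension count
  have hcard : Module.finrank F (Idx (t' + 1) k → F) = k ^ t' * k := by
    rw [Module.finrank_fintype_fun_eq_card, Fintype.card_fun, Fintype.card_fin, Fintype.card_fin, pow_succ]
  have hd1 := Submodule.finrank_sup_add_finrank_inf_eq r₁.C (img g r₂.C)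
  have hd2 : Module.finrank F (r₁.C ⊔ img g r₂.C : Submodule F (Idx (t' + 1) k → F)) ≤ k ^ t' * k := by
    rw [← hcard]
    exact Submodule.finrank_le _
  rw [Cfsg.Agent.Lib.Helper16.TWLeaf.finrank_img, Cfsg.Agent.Lib.Helper16.TWLeaf.RD_finrank_C,
    Cfsg.Agent.Lib.Helper16.TWLeaf.RD_finrank_C, Nat.add_sub_cancel] at hd1
  have hd3 := Submodule.finrank_mono hfixle
  rw [Cfsg.Agent.Lib.Helper26.TWLeaf.finrank_fib, Nat.add_sub_cancel] at hd3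
  have hκ : 0 < k ^ t' := Nat.pow_pos (by omega)
  obtain ⟨m, rfl⟩ : ∃ m, k = m + 3 := ⟨k - 3, by omega⟩
  have hfrA₀ : Module.finrank F A₀ = m + 1 := by
    have h5 : (m + 3) ^ t' * (m + 1) ≤ (m + 3) ^ t' * Module.finrank F A₀ := by
      have e1 : (m + 3) ^ t' * (m + 3 - 1) = (m + 3) ^ t' * (m + 1) + (m + 3) ^ t' := by
        rw [show m + 3 - 1 = (m + 1) + 1 by omega, Nat.mul_succ]
      have e2 : (m + 3) ^ t' * (m + 3) = (m + 3) ^ t' * (m + 1) + (m + 3) ^ t' + (m + 3) ^ t' := by ring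
      rw [e1] at hd1
      rw [e2] at hd2
      omega
    have h6 := Nat.le_of_mul_le_mul_left h5 hκ
    omega
  have hfixeq : r₁.C ⊓ img g r₂.C = fib r₁.i A₀ := by
    apply Submodule.eq_of_le_of_finrank_le hfixle
    rw [Cfsg.Agent.Lib.Helper26.TWLeaf.finrank_fib, Nat.add_sub_cancel, hfrA₀]
    have e1 : (m + 3) ^ t' * (m + 3 - 1) = (m + 3) ^ t' * (m + 1) + (m + 3) ^ t' := by
      rw [show m + 3 - 1 = (m + 1) + 1 by omega, Nat.mul_succ]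
    have e2 : (m + 3) ^ t' * (m + 3) = (m + 3) ^ t' * (m + 1) + (m + 3) ^ t' + (m + 3) ^ t' := by ring
    rw [e1] at hd1
    rw [e2] at hd2
    omega
  refine ⟨A₀, by rw [hfrA₀]; omega, hperp, hynot, ?_⟩
  -- `W' = perpU C' ≤ perpU (C₁ ⊓ C') = fib i (perpU A₀)`
  have hC' : img g r₂.C = perpU q (img g r₂.W) := by
    rw [C_eq_perpU8 hF r₂ w.hr₂, Cfsg.Agent.Lib.Helper23.TWUT.img_perpU hgD]
  have hW' : img g r₂.W = perpU q (img g r₂.C) := by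
    rw [hC', Cfsg.Agent.Lib.Helper23.TWUT.perpU_perpU hF]
  rw [← Cfsg.Agent.Lib.Helper23.TWULeaf.perpU_fib hF, ← hfixeq]
  conv_lhs => rw [hW']
  exact Cfsg.Agent.Lib.Helper23.TWUT.perpU_anti inf_le_right

end Cfsg.Agent.Lib.Helper8.TWULeaf
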