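import Mathlib
import Cfsg.Prelude.Def_Local
import Cfsg.Agent.Lib.Helper1.Fitting
import Cfsg.Agent.Lib.Helper12.Cores
import Cfsg.Agent.Lib.Helper9.PComponent
import Cfsg.Agent.Lib.Helper9.PConstrained
import Cfsg.Agent.S0017

/-!
# `O_{p',p}(X)` for solvable `X`: Hall–Higman Lemma 1.2.3 in preimage form
-/

set_option autoImplicit false

namespace Cfsg.Agent.Lib.Helper8

open Subgroup

variable {X : Type*} [Group X]

/-- `p'`-elements of `O_{p',p}(X)` lie in `O_{p'}(X)`. -/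
theorem mem_pPrimeCore_of_mem_pPrimePCore_of_coprime [Finite X] (p : ℕ) [Fact p.Prime] {r : X}
    (hr : r ∈ Cfsg.pPrimePCore p X) (hcop : (orderOf r).Coprime p) : r ∈ Cfsg.pPrimeCore p X := by
  haveI : (Cfsg.pPrimeCore p X).Normal := Cfsg.Agent.Lib.Helper1.pPrimeCore_normal p X
  rw [Cfsg.Agent.Lib.Helper9.mem_pPrimePCore_iff] at hr
  have hpg : IsPGroup p (Cfsg.pCore p (X ⧸ Cfsg.pPrimeCore p X)) :=
    Cfsg.Agent.Lib.Helper1.pCore_isPGroup p _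
  obtain ⟨k, hk⟩ := hpg ⟨_, hr⟩
  have hk' : (QuotientGroup.mk' (Cfsg.pPrimeCore p X) r) ^ (p ^ k) = 1 := by
    have := congrArg Subtype.val hk
    simpa using this
  have h1 : orderOf (QuotientGroup.mk' (Cfsg.pPrimeCore p X) r) ∣ p ^ k :=
    orderOf_dvd_of_pow_eq_one hk'
  have h2 : orderOf (QuotientGroup.mk' (Cfsg.pPrimeCore p X) r) ∣ orderOf r :=
    orderOf_map_dvd _ r
  have h3 : orderOf (QuotientGroup.mk' (Cfsg.pPrimeCore p X) r) = 1 :=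
    Nat.eq_one_of_dvd_coprimes (Nat.Coprime.pow_right k hcop) h2 h1
  exact (QuotientGroup.eq_one_iff r).mp (orderOf_eq_one_iff.mp h3)

/-- Hall–Higman 1.2.3 in preimage form: in a finite solvable group, an element acting trivially
on `O_{p',p}(X)/O_{p'}(X)` lies in `O_{p',p}(X)`. -/
theorem mem_pPrimePCore_of_commutator_mem [Finite X] [Group.IsSolvable X] (p : ℕ) [Fact p.Prime]
    {k : X} (hk : ∀ r ∈ Cfsg.pPrimePCore p X, k * r * k⁻¹ * r⁻¹ ∈ Cfsg.pPrimeCore p X) :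
    k ∈ Cfsg.pPrimePCore p X := by
  haveI : (Cfsg.pPrimeCore p X).Normal := Cfsg.Agent.Lib.Helper1.pPrimeCore_normal p X
  rw [Cfsg.Agent.Lib.Helper9.mem_pPrimePCore_iff]
  have hbot : Cfsg.pPrimeCore p (X ⧸ Cfsg.pPrimeCore p X) = ⊥ :=
    Cfsg.Agent.Lib.Helper9.pPrimeCore_quotient_eq_bot p
  apply Cfsg.Agent.S0017.result (G := X ⧸ Cfsg.pPrimeCore p X) p hbot
  rw [Subgroup.mem_centralizer_iff]
  intro y hy
  obtain ⟨r, rfl⟩ := QuotientGroup.mk'_surjective (Cfsg.pPrimeCore p X) y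
  have hr : r ∈ Cfsg.pPrimePCore p X := (Cfsg.Agent.Lib.Helper9.mem_pPrimePCore_iff p r).mpr hy
  have h1 := (QuotientGroup.eq_one_iff _).mpr (hk r hr)
  have h2 : QuotientGroup.mk' (Cfsg.pPrimeCore p X) (k * r * k⁻¹ * r⁻¹) = 1 := h1
  rw [map_mul, map_mul, map_mul, map_inv, map_inv] at h2
  set a := QuotientGroup.mk' (Cfsg.pPrimeCore p X) k
  set b := QuotientGroup.mk' (Cfsg.pPrimeCore p X) r
  calc b * a = (a * b * a⁻¹ * b⁻¹)⁻¹ * (a * b) := by group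
    _ = a * b := by rw [h2, inv_one, one_mul]

/-- `O_{p',p}` is invariant under automorphisms. -/
theorem pPrimePCore_map_equiv_le (p : ℕ) (φ : X ≃* X) :
    (Cfsg.pPrimePCore p X).map φ.toMonoidHom ≤ Cfsg.pPrimePCore p X := by
  haveI : (Cfsg.pPrimeCore p X).Normal := Cfsg.Agent.Lib.Helper1.pPrimeCore_normal p X
  have hO : (Cfsg.pPrimeCore p X).map φ.toMonoidHom = Cfsg.pPrimeCore p X :=
    Cfsg.Agent.Lib.Helper12.pPrimeCore_map_equiv p φ
  let φbar : X ⧸ Cfsg.pPrimeCore p X ≃* X ⧸ Cfsg.pPrimeCore p X :=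
    QuotientGroup.congr _ _ φ hO
  have hR := Cfsg.Agent.Lib.Helper12.pCore_map_equiv' p φbar
  rintro _ ⟨x, hx, rfl⟩
  rw [SetLike.mem_coe, Cfsg.Agent.Lib.Helper9.mem_pPrimePCore_iff] at hx
  rw [Cfsg.Agent.Lib.Helper9.mem_pPrimePCore_iff, ← hR]
  exact ⟨_, hx, rfl⟩

end Cfsg.Agent.Lib.Helper8
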