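import Mathlib
import Cfsg.Prelude.Def_Involutions
import Cfsg.Agent.Lib.Helper2.StronglyEmbedded
import Cfsg.Agent.Lib.Helper8.Isolated

/-!
# Strongly embedded subgroups: involutions and fixed cosets (helper8 library)
-/

set_option autoImplicit false

namespace Cfsg.Agent.Lib.Helper8

open Cfsg.Agent.Lib.Helper2

variable {G : Type*} [Group G]

/-- `i` fixes the coset `aH` iff `a⁻¹ i a ∈ H`. -/
theorem smul_mk_eq_iff (H : Subgroup G) (i a : G) :
    i • (QuotientGroup.mk a : G ⧸ H) = QuotientGroup.mk a ↔ a⁻¹ * i * a ∈ H := by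
  rw [MulAction.Quotient.smul_mk, QuotientGroup.eq]
  have e : (a⁻¹ * i * a)⁻¹ = (i • a)⁻¹ * a := by
    rw [smul_eq_mul]; group
  constructor
  · intro h
    have := H.inv_mem h
    rwa [← e, inv_inv] at this
  · intro h
    rw [← e]; exact H.inv_mem h

theorem se_conj_mem [Finite G] {H : Subgroup G} (hH : Cfsg.IsStronglyEmbedded H) {t g : G}
    (ht : t ∈ H) (ht2 : orderOf t = 2) (hg : g * t * g⁻¹ ∈ H) : g ∈ H :=
  ((stronglyEmbedded_iff H).mp hH).2.2 g t ht ht2 hg

theorem se_exists_invol [Finite G] {H : Subgroup G} (hH : Cfsg.IsStronglyEmbedded H) :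
    ∃ t ∈ H, orderOf t = 2 :=
  (even_card_iff_exists_invol H).mp hH.2.1

/-- An involution fixes at most one coset of a strongly embedded subgroup. -/
theorem se_fix_unique [Finite G] {H : Subgroup G} (hH : Cfsg.IsStronglyEmbedded H) {i : G}
    (hi : orderOf i = 2) {x y : G ⧸ H} (hx : i • x = x) (hy : i • y = y) : x = y := by
  induction x using QuotientGroup.induction_on with | _ a
  induction y using QuotientGroup.induction_on with | _ b
  rw [smul_mk_eq_iff] at hx hy
  rw [QuotientGroup.eq]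
  have ht2 : orderOf (a⁻¹ * i * a) = 2 := by
    have := orderOf_conj_two a⁻¹ hi
    rwa [inv_inv] at this
  have h1 : b⁻¹ * a ∈ H := se_conj_mem hH hx ht2 (by
    have : (b⁻¹ * a) * (a⁻¹ * i * a) * (b⁻¹ * a)⁻¹ = b⁻¹ * i * b := by group
    rw [this]; exact hy)
  have := H.inv_mem h1
  simpa using this

/-- Every involution fixes some coset of a strongly embedded subgroup. -/
theorem se_fix_exists [Finite G] {H : Subgroup G} (hH : Cfsg.IsStronglyEmbedded H) {i : G}
    (hi : orderOf i = 2) : ∃ x : G ⧸ H, i • x = x := by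
  obtain ⟨t, htH, ht2⟩ := se_exists_invol hH
  have htt := invol_mul_self ht2
  have hii := invol_mul_self hi
  by_cases hodd : Odd (orderOf (t * i))
  · obtain ⟨d, _, hd⟩ := dih_conj_of_odd htt hii hodd
    refine ⟨QuotientGroup.mk d, ?_⟩
    rw [smul_mk_eq_iff, ← hd]
    have : d⁻¹ * (d * t * d⁻¹) * d = t := by group
    rw [this]; exact htH
  · rw [Nat.not_odd_iff_even] at hodd
    obtain ⟨hz2, hzt, hzi⟩ := dih_central_invol htt hii (orderOf_pos _) hodd
    set z := (t * i) ^ (orderOf (t * i) / 2) with hz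
    have hzH : z ∈ H := se_conj_mem hH htH ht2 (by
      have : z * t * z⁻¹ = t := by rw [hzt.eq]; group
      rw [this]; exact htH)
    have hiH : i ∈ H := se_conj_mem hH hzH hz2 (by
      have : i * z * i⁻¹ = z := by rw [← hzi.eq]; group
      rw [this]; exact hzH)
    refine ⟨QuotientGroup.mk 1, ?_⟩
    rw [smul_mk_eq_iff]
    simpa using hiH

/-- Involutions with different fixed cosets have a product of odd order. -/
theorem se_odd_mul [Finite G] {H : Subgroup G} (hH : Cfsg.IsStronglyEmbedded H) {a b : G}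
    (ha : orderOf a = 2) (hb : orderOf b = 2) {x y : G ⧸ H} (hax : a • x = x) (hby : b • y = y)
    (hxy : x ≠ y) : Odd (orderOf (a * b)) := by
  by_contra hodd
  rw [Nat.not_odd_iff_even] at hodd
  obtain ⟨hz2, hza, hzb⟩ := dih_central_invol (invol_mul_self ha) (invol_mul_self hb)
    (orderOf_pos _) hodd
  set z := (a * b) ^ (orderOf (a * b) / 2) with hz
  obtain ⟨p, hp⟩ := se_fix_exists hH hz2
  have h1 : z • (a • p) = a • p := by rw [← mul_smul, hza.eq, mul_smul, hp]
  have h2 : a • p = p := se_fix_unique hH hz2 h1 hp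
  have h3 : p = x := se_fix_unique hH ha h2 hax
  have h1' : z • (b • p) = b • p := by rw [← mul_smul, hzb.eq, mul_smul, hp]
  have h2' : b • p = p := se_fix_unique hH hz2 h1' hp
  have h3' : p = y := se_fix_unique hH hb h2' hby
  exact hxy (h3.symm.trans h3')

/-- The midpoint of two involutions whose product has odd order. -/
theorem invol_midpoint {t s : G} (ht : t * t = 1) (hs : s * s = 1)
    (hodd : Odd (orderOf (t * s))) : ∃ w : G, w * w = 1 ∧ w * t * w⁻¹ = s := by
  obtain ⟨k, hk⟩ := hodd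
  have hti : t⁻¹ = t := inv_eq_of_mul_eq_one_left ht
  have hsi : s⁻¹ = s := inv_eq_of_mul_eq_one_left hs
  set r := t * s with hr
  have hconj : t * r * t⁻¹ = r⁻¹ := by
    rw [hr, mul_inv_rev, hti, hsi, ← mul_assoc, ht, one_mul]
  have hconjk : ∀ n : ℕ, t * r ^ n * t⁻¹ = (r ^ n)⁻¹ := by
    intro n; rw [← conj_pow, hconj, inv_pow]
  have hconjk' : ∀ n : ℕ, t * (r ^ n)⁻¹ = r ^ n * t := by
    intro n
    have h1 := hconjk n
    have h2 : t * (r ^ n)⁻¹ * t⁻¹ = r ^ n := by
      have := congrArg (·⁻¹) h1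
      simp only [mul_inv_rev, inv_inv] at this
      rw [← mul_assoc] at this
      exact this
    calc t * (r ^ n)⁻¹ = (t * (r ^ n)⁻¹ * t⁻¹) * t := by group
      _ = r ^ n * t := by rw [h2]
  have hr1 : r ^ (2 * k + 1) = 1 := by rw [← hk, pow_orderOf_eq_one]
  have hr2 : r ^ (2 * k) = r⁻¹ := by
    rw [pow_succ] at hr1
    exact eq_inv_of_mul_eq_one_left hr1
  refine ⟨r ^ k * t, ?_, ?_⟩
  · calc r ^ k * t * (r ^ k * t) = r ^ k * (t * r ^ k * t⁻¹) := by rw [hti]; group
      _ = 1 := by rw [hconjk k]; group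
  · calc r ^ k * t * t * (r ^ k * t)⁻¹ = r ^ k * (t * t) * t⁻¹ * (r ^ k)⁻¹ := by group
      _ = r ^ k * (t * (r ^ k)⁻¹) := by rw [ht, hti]; group
      _ = r ^ k * (r ^ k * t) := by rw [hconjk' k]
      _ = r ^ (2 * k) * t := by rw [two_mul, pow_add]; group
      _ = s := by rw [hr2, hr, mul_inv_rev, hti, hsi, mul_assoc, ht, mul_one]

/-- The midpoint is unique. -/
theorem invol_midpoint_unique [Finite G] {t w w' : G} (hw : w * w = 1)
    (hw' : w' * w' = 1) (h : w * t * w⁻¹ = w' * t * w'⁻¹) (ho : Odd (orderOf (w * t)))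
    (ho' : Odd (orderOf (w' * t))) : w = w' := by
  have hwi : w⁻¹ = w := inv_eq_of_mul_eq_one_left hw
  have hwi' : w'⁻¹ = w' := inv_eq_of_mul_eq_one_left hw'
  have h1 : (w * t) * (w * t) = (w' * t) * (w' * t) := by
    calc (w * t) * (w * t) = (w * t * w⁻¹) * t := by rw [hwi]; group
      _ = (w' * t * w'⁻¹) * t := by rw [h]
      _ = (w' * t) * (w' * t) := by rw [hwi']; group
  exact mul_right_cancel (odd_sq_inj ho ho' h1)

/-- A conjugating element maps fixed point to fixed point. -/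
theorem se_conj_smul [Finite G] {H : Subgroup G} (hH : Cfsg.IsStronglyEmbedded H) {t s w : G}
    (hs : orderOf s = 2) {x y : G ⧸ H} (htx : t • x = x) (hsy : s • y = y)
    (hw : w * t * w⁻¹ = s) : w • x = y := by
  apply se_fix_unique hH hs _ hsy
  rw [← hw, ← mul_smul]
  have : w * t * w⁻¹ * w = w * t := by group
  rw [this, mul_smul, htx]

/-- Involutions `s`, `t` of `H` are conjugate by an element of `D = H ∩ uHu⁻¹`. -/
theorem se_conj_in_inter [Finite G] {H : Subgroup G} (hH : Cfsg.IsStronglyEmbedded H) {u : G}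
    (hu : orderOf u = 2) (huH : u ∉ H) {s t : G} (hs : orderOf s = 2) (hsH : s ∈ H)
    (ht : orderOf t = 2) (htH : t ∈ H) :
    ∃ d ∈ (H ⊓ H.map (MulAut.conj u).toMonoidHom), d * s * d⁻¹ = t := by
  have huu := invol_mul_self hu
  have hui := invol_inv hu
  have hsx : s • (QuotientGroup.mk 1 : G ⧸ H) = QuotientGroup.mk 1 := by
    rw [smul_mk_eq_iff]; simpa using hsH
  have ht' : orderOf (u * t * u⁻¹) = 2 := orderOf_conj_two u ht
  have hty : (u * t * u⁻¹) • (QuotientGroup.mk u : G ⧸ H) = QuotientGroup.mk u := by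
    rw [smul_mk_eq_iff]
    have : u⁻¹ * (u * t * u⁻¹) * u = t := by group
    rw [this]; exact htH
  have hxy : (QuotientGroup.mk 1 : G ⧸ H) ≠ QuotientGroup.mk u := by
    intro h
    rw [QuotientGroup.eq] at h
    apply huH
    simpa using h
  have hodd := se_odd_mul hH hs ht' hsx hty hxy
  obtain ⟨w, hww, hw⟩ := invol_midpoint (invol_mul_self hs) (invol_mul_self ht') hodd
  have hwx : w • (QuotientGroup.mk 1 : G ⧸ H) = QuotientGroup.mk u :=
    se_conj_smul hH ht' hsx hty hw
  have hwy : w • (QuotientGroup.mk u : G ⧸ H) = QuotientGroup.mk 1 := by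
    rw [← hwx, ← mul_smul, hww, one_smul]
  refine ⟨u⁻¹ * w, Subgroup.mem_inf.mpr ⟨?_, ?_⟩, ?_⟩
  · have h1 : (u⁻¹ * w) • (QuotientGroup.mk 1 : G ⧸ H) = QuotientGroup.mk 1 := by
      rw [mul_smul, hwx, MulAction.Quotient.smul_mk, smul_eq_mul, inv_mul_cancel]
    rw [smul_mk_eq_iff] at h1
    simpa using h1
  · rw [Cfsg.Agent.Lib.Helper2.mem_map_conj]
    have h1 : (w * u) • (QuotientGroup.mk 1 : G ⧸ H) = QuotientGroup.mk 1 := by
      rw [mul_smul, MulAction.Quotient.smul_mk, smul_eq_mul, mul_one, hwy]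
    rw [smul_mk_eq_iff] at h1
    have h2 : u⁻¹ * (u⁻¹ * w) * u = w * u := by
      rw [hui]
      calc u * (u * w) * u = (u * u) * w * u := by group
        _ = w * u := by rw [huu, one_mul]
    rw [h2]
    simpa using h1
  · calc u⁻¹ * w * s * (u⁻¹ * w)⁻¹ = u⁻¹ * (w * s * w⁻¹) * u := by group
      _ = u⁻¹ * (u * t * u⁻¹) * u := by rw [hw]
      _ = t := by group

/-- Any two distinct cosets are interchanged by an involution. -/
theorem se_exists_swap [Finite G] {H : Subgroup G} (hH : Cfsg.IsStronglyEmbedded H)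
    {x y : G ⧸ H} (hxy : x ≠ y) : ∃ w : G, orderOf w = 2 ∧ w • x = y ∧ w • y = x := by
  induction x using QuotientGroup.induction_on with | _ a
  induction y using QuotientGroup.induction_on with | _ b
  obtain ⟨t0, ht0H, ht02⟩ := se_exists_invol hH
  have ht2 : orderOf (a * t0 * a⁻¹) = 2 := orderOf_conj_two a ht02
  have hs2 : orderOf (b * t0 * b⁻¹) = 2 := orderOf_conj_two b ht02
  have htx : (a * t0 * a⁻¹) • (QuotientGroup.mk a : G ⧸ H) = QuotientGroup.mk a := by
    rw [smul_mk_eq_iff]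
    have : a⁻¹ * (a * t0 * a⁻¹) * a = t0 := by group
    rw [this]; exact ht0H
  have hsy : (b * t0 * b⁻¹) • (QuotientGroup.mk b : G ⧸ H) = QuotientGroup.mk b := by
    rw [smul_mk_eq_iff]
    have : b⁻¹ * (b * t0 * b⁻¹) * b = t0 := by group
    rw [this]; exact ht0H
  have hodd := se_odd_mul hH ht2 hs2 htx hsy hxy
  obtain ⟨w, hww, hw⟩ := invol_midpoint (invol_mul_self ht2) (invol_mul_self hs2) hodd
  have hwx : w • (QuotientGroup.mk a : G ⧸ H) = QuotientGroup.mk b :=
    se_conj_smul hH hs2 htx hsy hw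
  have hw1 : w ≠ 1 := by
    intro h1
    rw [h1, one_smul] at hwx
    exact hxy hwx
  refine ⟨w, orderOf_two_of hw1 hww, hwx, ?_⟩
  rw [← hwx, ← mul_smul, hww, one_smul]

/-- Membership in `H ∩ uHu⁻¹` in terms of fixed cosets. -/
theorem mem_inter_conj_iff (H : Subgroup G) (u d : G) :
    d ∈ H ⊓ H.map (MulAut.conj u).toMonoidHom ↔
      d • (QuotientGroup.mk 1 : G ⧸ H) = QuotientGroup.mk 1 ∧
      d • (QuotientGroup.mk u : G ⧸ H) = QuotientGroup.mk u := by
  rw [Subgroup.mem_inf, smul_mk_eq_iff, smul_mk_eq_iff, Cfsg.Agent.Lib.Helper2.mem_map_conj]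
  simp

end Cfsg.Agent.Lib.Helper8
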