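import Mathlib
import Cfsg.Prelude.Def_Involutions
import Cfsg.Agent.Lib.Helper8.StrongEmb

/-!
# Groups in which centralizers of involutions are elementary abelian 2-groups (helper8 library)
-/

set_option autoImplicit false

namespace Cfsg.Agent.Lib.Helper8

open Cfsg.Agent.Lib.Helper2

section CIT

variable {G : Type*} [Group G] [Finite G]

/-- The hypothesis: every involution centralizer is an elementary abelian 2-group. -/
def CITHyp (G : Type*) [Group G] : Prop :=
  ∀ t : G, orderOf t = 2 → IsMulCommutative (Subgroup.centralizer ({t} : Set G)) ∧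
    ∀ c ∈ Subgroup.centralizer ({t} : Set G), c ^ 2 = 1

omit [Finite G] in
theorem isPGroup_two_of_exp {K : Subgroup G} (h : ∀ c ∈ K, c ^ 2 = 1) : IsPGroup 2 K := by
  rintro ⟨c, hc⟩
  refine ⟨1, ?_⟩
  apply Subtype.ext
  simp only [pow_one, Subgroup.coe_pow, Subgroup.coe_one]
  exact h c hc

/-- A nontrivial Sylow 2-subgroup contains a central involution. -/
theorem sylow_exists_central_invol (T : Sylow 2 G) (hT : (T : Subgroup G) ≠ ⊥) :
    ∃ t0 ∈ (T : Subgroup G), orderOf t0 = 2 ∧ ∀ s ∈ (T : Subgroup G), s * t0 = t0 * s := by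
  have : Fact (Nat.Prime 2) := ⟨Nat.prime_two⟩
  have : Nontrivial (T : Subgroup G) := (Subgroup.nontrivial_iff_ne_bot _).mpr hT
  have hZ : Nontrivial (Subgroup.center (T : Subgroup G)) := IsPGroup.center_nontrivial T.2
  have hZp : IsPGroup 2 (Subgroup.center (T : Subgroup G)) := T.2.to_subgroup _
  obtain ⟨n, hn⟩ := hZp.exists_card_eq
  have hn0 : n ≠ 0 := by
    intro h0
    rw [h0, pow_zero] at hn
    have := Finite.one_lt_card (α := Subgroup.center (T : Subgroup G))
    omega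
  have hdvd : 2 ∣ Nat.card (Subgroup.center (T : Subgroup G)) := by
    rw [hn]; exact dvd_pow_self 2 hn0
  obtain ⟨z, hz⟩ := exists_prime_orderOf_dvd_card' (G := Subgroup.center (T : Subgroup G)) 2 hdvd
  refine ⟨((z : (T : Subgroup G)) : G), (z : (T : Subgroup G)).2, ?_, ?_⟩
  · rw [Subgroup.orderOf_coe, Subgroup.orderOf_coe]; exact hz
  · intro s hs
    have := Subgroup.mem_center_iff.mp z.2 ⟨s, hs⟩
    exact congrArg Subtype.val this

variable (T : Sylow 2 G) (hC : CITHyp G)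

include hC in
/-- The Sylow 2-subgroup is elementary abelian and equals the centralizer of each of its
nonidentity elements. -/
theorem cit_sylow (hT : (T : Subgroup G) ≠ ⊥) :
    (∀ a ∈ (T : Subgroup G), ∀ b ∈ (T : Subgroup G), a * b = b * a) ∧
    (∀ a ∈ (T : Subgroup G), a ^ 2 = 1) ∧
    (∀ t ∈ (T : Subgroup G), t ≠ 1 → Subgroup.centralizer ({t} : Set G) = T) := by
  obtain ⟨t0, ht0T, ht02, ht0c⟩ := sylow_exists_central_invol T hT
  have hle : (T : Subgroup G) ≤ Subgroup.centralizer ({t0} : Set G) := by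
    intro s hs
    rw [Subgroup.mem_centralizer_singleton_iff]
    exact ht0c s hs
  obtain ⟨hcomm, hexp⟩ := hC t0 ht02
  have hab : ∀ a ∈ (T : Subgroup G), ∀ b ∈ (T : Subgroup G), a * b = b * a := by
    intro a ha b hb
    have := hcomm.is_comm.comm ⟨a, hle ha⟩ ⟨b, hle hb⟩
    exact congrArg Subtype.val this
  have hex : ∀ a ∈ (T : Subgroup G), a ^ 2 = 1 := fun a ha => hexp a (hle ha)
  refine ⟨hab, hex, ?_⟩
  intro t ht ht1
  have ht2 : orderOf t = 2 := orderOf_eq_prime (hex t ht) ht1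
  obtain ⟨_, hexp'⟩ := hC t ht2
  have hle' : (T : Subgroup G) ≤ Subgroup.centralizer ({t} : Set G) := by
    intro s hs
    rw [Subgroup.mem_centralizer_singleton_iff]
    exact hab s hs t ht
  exact T.is_maximal' (isPGroup_two_of_exp hexp') hle'

omit [Finite G] in
/-- An involution normalizing a Sylow 2-subgroup lies in it. -/
theorem invol_mem_of_mem_normalizer {t : G} (ht2 : orderOf t = 2)
    (ht : t ∈ Subgroup.normalizer ((T : Subgroup G) : Set G)) : t ∈ (T : Subgroup G) := by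
  have : Fact (Nat.Prime 2) := ⟨Nat.prime_two⟩
  have hz : IsPGroup 2 (Subgroup.zpowers t) := by
    apply IsPGroup.of_card (n := 1)
    rw [Nat.card_zpowers, ht2, pow_one]
  have hle : Subgroup.zpowers t ≤ Subgroup.normalizer ((T : Subgroup G) : Set G) := by
    rw [Subgroup.zpowers_le]; exact ht
  have hsup := IsPGroup.to_sup_of_normal_right' hz T.2 hle
  have := T.is_maximal' hsup le_sup_right
  have h2 : Subgroup.zpowers t ≤ (T : Subgroup G) := by
    rw [← this]; exact le_sup_left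
  exact h2 (Subgroup.mem_zpowers t)

include hC in
/-- `N_G(T)` is strongly embedded. -/
theorem cit_stronglyEmbedded (hnc : ¬ IsCyclic (T : Subgroup G))
    (hnn : ¬ (T : Subgroup G).Normal) :
    Cfsg.IsStronglyEmbedded (Subgroup.normalizer ((T : Subgroup G) : Set G)) := by
  have hT : (T : Subgroup G) ≠ ⊥ := by
    intro h
    apply hnc
    rw [h]
    exact isCyclic_of_subsingleton
  obtain ⟨hab, hex, hcent⟩ := cit_sylow T hC hT
  obtain ⟨t0, ht0T, ht02, _⟩ := sylow_exists_central_invol T hT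
  rw [stronglyEmbedded_iff]
  refine ⟨?_, ?_, ?_⟩
  · intro h
    exact hnn (Subgroup.normalizer_eq_top_iff.mp h)
  · rw [even_card_iff_exists_invol]
    exact ⟨t0, Subgroup.le_normalizer ht0T, ht02⟩
  · intro g t ht ht2 hgt
    have htT : t ∈ (T : Subgroup G) := invol_mem_of_mem_normalizer T ht2 ht
    have hgtT : g * t * g⁻¹ ∈ (T : Subgroup G) :=
      invol_mem_of_mem_normalizer T (orderOf_conj_two g ht2) hgt
    have ht1 : t ≠ 1 := invol_ne_one ht2
    have hgt1 : g * t * g⁻¹ ≠ 1 := invol_ne_one (orderOf_conj_two g ht2)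
    have hc1 := hcent t htT ht1
    have hc2 := hcent (g * t * g⁻¹) hgtT hgt1
    rw [Subgroup.mem_normalizer_iff]
    intro h
    constructor
    · intro hh
      have hh' : h ∈ (T : Subgroup G) := hh
      show g * h * g⁻¹ ∈ (T : Subgroup G)
      have h1 : h ∈ Subgroup.centralizer ({t} : Set G) := by rw [hc1]; exact hh'
      rw [Subgroup.mem_centralizer_singleton_iff] at h1
      have h2 : g * h * g⁻¹ ∈ Subgroup.centralizer ({g * t * g⁻¹} : Set G) := by
        rw [Subgroup.mem_centralizer_singleton_iff]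
        calc g * h * g⁻¹ * (g * t * g⁻¹) = g * (h * t) * g⁻¹ := by group
          _ = g * (t * h) * g⁻¹ := by rw [h1]
          _ = g * t * g⁻¹ * (g * h * g⁻¹) := by group
      rw [hc2] at h2
      exact h2
    · intro hh
      have hh' : g * h * g⁻¹ ∈ (T : Subgroup G) := hh
      show h ∈ (T : Subgroup G)
      have h2 : g * h * g⁻¹ ∈ Subgroup.centralizer ({g * t * g⁻¹} : Set G) := by
        rw [hc2]; exact hh'
      rw [Subgroup.mem_centralizer_singleton_iff] at h2
      have h1 : h ∈ Subgroup.centralizer ({t} : Set G) := by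
        rw [Subgroup.mem_centralizer_singleton_iff]
        have e1 : h * t = g⁻¹ * (g * h * g⁻¹ * (g * t * g⁻¹)) * g := by group
        have e2 : t * h = g⁻¹ * (g * t * g⁻¹ * (g * h * g⁻¹)) * g := by group
        rw [e1, e2, h2]
      rw [hc1] at h1
      exact h1

/-! ### The two-point stabilizer `D = H ∩ uHu⁻¹` for `H = N_G(T)` -/

section TwoPoint

variable (hnc : ¬ IsCyclic (T : Subgroup G)) (hnn : ¬ (T : Subgroup G).Normal)
  {u : G} (hu : orderOf u = 2)
  (huH : u ∉ Subgroup.normalizer ((T : Subgroup G) : Set G))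

include hC hnc hnn huH in
/-- elements of `D ∩ T` are trivial -/
theorem cit_inter_sylow_eq_one {d : G}
    (hd : d ∈ Subgroup.normalizer ((T : Subgroup G) : Set G) ⊓
      (Subgroup.normalizer ((T : Subgroup G) : Set G)).map (MulAut.conj u).toMonoidHom)
    (hd2 : d ^ 2 = 1) : d = 1 := by
  have hH := cit_stronglyEmbedded T hC hnc hnn
  have hodd := hH.2.2 u huH
  have h1 : orderOf d ∣ 2 := orderOf_dvd_of_pow_eq_one hd2
  have h2 : orderOf d ∣ Nat.card (↥(Subgroup.normalizer ((T : Subgroup G) : Set G) ⊓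
      (Subgroup.normalizer ((T : Subgroup G) : Set G)).map (MulAut.conj u).toMonoidHom)) :=
    Subgroup.orderOf_dvd_natCard _ hd
  have h3 : Nat.Coprime 2 (Nat.card (↥(Subgroup.normalizer ((T : Subgroup G) : Set G) ⊓
      (Subgroup.normalizer ((T : Subgroup G) : Set G)).map (MulAut.conj u).toMonoidHom))) :=
    Nat.coprime_two_left.mpr hodd
  have h4 := Nat.dvd_gcd h1 h2
  rw [h3.gcd_eq_one, Nat.dvd_one, orderOf_eq_one_iff] at h4
  exact h4

include hC hnc hnn hu huH in
/-- `u` inverts `D`. -/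
theorem cit_inverts :
    ∀ d ∈ Subgroup.normalizer ((T : Subgroup G) : Set G) ⊓
      (Subgroup.normalizer ((T : Subgroup G) : Set G)).map (MulAut.conj u).toMonoidHom,
      u * d * u⁻¹ = d⁻¹ := by
  set H := Subgroup.normalizer ((T : Subgroup G) : Set G) with hHdef
  set D := H ⊓ H.map (MulAut.conj u).toMonoidHom with hDdef
  have huu := invol_mul_self hu
  have hui := invol_inv hu
  -- u normalizes D
  have hnorm : ∀ d ∈ D, u * d * u⁻¹ ∈ D := by
    intro d hd
    obtain ⟨hd1, hd2⟩ := Subgroup.mem_inf.mp hd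
    rw [Cfsg.Agent.Lib.Helper2.mem_map_conj] at hd2
    refine Subgroup.mem_inf.mpr ⟨?_, ?_⟩
    · have : u * d * u⁻¹ = u⁻¹ * d * u := by rw [hui]
      rw [this]; exact hd2
    · rw [Cfsg.Agent.Lib.Helper2.mem_map_conj]
      have : u⁻¹ * (u * d * u⁻¹) * u = d := by group
      rw [this]; exact hd1
  -- fixed points are trivial
  have hfix : ∀ d ∈ D, u * d * u⁻¹ = d → d = 1 := by
    intro d hd hdu
    apply cit_inter_sylow_eq_one T hC hnc hnn huH hd
    have : d ∈ Subgroup.centralizer ({u} : Set G) := by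
      rw [Subgroup.mem_centralizer_singleton_iff]
      calc d * u = (u * d * u⁻¹)⁻¹⁻¹ * u := by rw [hdu, inv_inv]
        _ = u * d := by group
    exact (hC u hu).2 d this
  -- the map d ↦ d⁻¹ * u d u⁻¹ on D is injective hence surjective
  let φ : D → D := fun d => ⟨d.1⁻¹ * (u * d.1 * u⁻¹), D.mul_mem (D.inv_mem d.2) (hnorm d.1 d.2)⟩
  have hinj : Function.Injective φ := by
    intro d e h
    have h1 : d.1⁻¹ * (u * d.1 * u⁻¹) = e.1⁻¹ * (u * e.1 * u⁻¹) := congrArg Subtype.val h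
    have h2 : u * (e.1 * d.1⁻¹) * u⁻¹ = e.1 * d.1⁻¹ := by
      have e1 : u * (e.1 * d.1⁻¹) * u⁻¹ = (u * e.1 * u⁻¹) * (u * d.1 * u⁻¹)⁻¹ := by group
      have e2 : u * e.1 * u⁻¹ = e.1 * (d.1⁻¹ * (u * d.1 * u⁻¹)) := by rw [h1]; group
      rw [e1, e2]; group
    have h3 := hfix _ (D.mul_mem e.2 (D.inv_mem d.2)) h2
    apply Subtype.ext
    have := mul_inv_eq_one.mp h3
    exact this.symm
  have hsurj : Function.Surjective φ := Finite.injective_iff_surjective.mp hinj
  intro d hd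
  obtain ⟨e, he⟩ := hsurj ⟨d, hd⟩
  have he' : e.1⁻¹ * (u * e.1 * u⁻¹) = d := congrArg Subtype.val he
  rw [← he']
  calc u * (e.1⁻¹ * (u * e.1 * u⁻¹)) * u⁻¹ = (u * e.1 * u⁻¹)⁻¹ * ((u * u) * e.1 * (u * u)⁻¹) := by
        group
    _ = (e.1⁻¹ * (u * e.1 * u⁻¹))⁻¹ := by rw [huu]; group

include hC hnc hnn hu huH in
/-- `|D| = |T| - 1` -/
theorem cit_card_inter :
    Nat.card (↥(Subgroup.normalizer ((T : Subgroup G) : Set G) ⊓
      (Subgroup.normalizer ((T : Subgroup G) : Set G)).map (MulAut.conj u).toMonoidHom)) =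
      Nat.card (T : Subgroup G) - 1 := by
  have hH := cit_stronglyEmbedded T hC hnc hnn
  have hT : (T : Subgroup G) ≠ ⊥ := by
    intro h
    apply hnc
    rw [h]
    exact isCyclic_of_subsingleton
  obtain ⟨hab, hex, hcent⟩ := cit_sylow T hC hT
  obtain ⟨t0, ht0T, ht02, _⟩ := sylow_exists_central_invol T hT
  set H := Subgroup.normalizer ((T : Subgroup G) : Set G) with hHdef
  set D := H ⊓ H.map (MulAut.conj u).toMonoidHom with hDdef
  have hcard : Nat.card (T : Subgroup G) - 1 = Nat.card ↥(((T : Subgroup G) : Set G) \ {1}) := by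
    rw [Nat.card_coe_set_eq, Set.ncard_sdiff_singleton_of_mem (Subgroup.one_mem _)]
    rfl
  rw [hcard]
  have hmem : ∀ d : D, d.1 * t0 * d.1⁻¹ ∈ (((T : Subgroup G) : Set G) \ {1}) := by
    intro d
    have hdH : d.1 ∈ H := (Subgroup.mem_inf.mp d.2).1
    refine ⟨?_, ?_⟩
    · exact (Subgroup.mem_normalizer_iff.mp hdH t0).mp ht0T
    · intro h1
      exact invol_ne_one (orderOf_conj_two d.1 ht02) h1
  apply Nat.card_eq_of_bijective (fun d => ⟨d.1 * t0 * d.1⁻¹, hmem d⟩)
  constructor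
  · intro d e h
    have h1 : d.1 * t0 * d.1⁻¹ = e.1 * t0 * e.1⁻¹ := congrArg Subtype.val h
    have h2 : e.1⁻¹ * d.1 ∈ Subgroup.centralizer ({t0} : Set G) := by
      rw [Subgroup.mem_centralizer_singleton_iff]
      calc e.1⁻¹ * d.1 * t0 = e.1⁻¹ * (d.1 * t0 * d.1⁻¹) * d.1 := by group
        _ = e.1⁻¹ * (e.1 * t0 * e.1⁻¹) * d.1 := by rw [h1]
        _ = t0 * (e.1⁻¹ * d.1) := by group
    rw [hcent t0 ht0T (invol_ne_one ht02)] at h2
    have h3 := cit_inter_sylow_eq_one T hC hnc hnn huH (D.mul_mem (D.inv_mem e.2) d.2) (hex _ h2)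
    apply Subtype.ext
    exact (inv_mul_eq_one.mp h3).symm
  · rintro ⟨t, htT, ht1⟩
    have ht1' : t ≠ 1 := fun h => ht1 (by rw [h]; rfl)
    have ht2 : orderOf t = 2 := orderOf_eq_prime (hex t htT) ht1'
    obtain ⟨d, hd, hdt⟩ := se_conj_in_inter hH hu huH ht02 (Subgroup.le_normalizer ht0T) ht2
      (Subgroup.le_normalizer htT)
    exact ⟨⟨d, hd⟩, Subtype.ext hdt⟩

include hC hnc hnn hu huH in
/-- `|H| = |D| |T|` -/
theorem cit_card_normalizer_eq_mul :
    Nat.card (Subgroup.normalizer ((T : Subgroup G) : Set G)) =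
      Nat.card (↥(Subgroup.normalizer ((T : Subgroup G) : Set G) ⊓
      (Subgroup.normalizer ((T : Subgroup G) : Set G)).map (MulAut.conj u).toMonoidHom)) *
      Nat.card (T : Subgroup G) := by
  have hH := cit_stronglyEmbedded T hC hnc hnn
  have hT : (T : Subgroup G) ≠ ⊥ := by
    intro h
    apply hnc
    rw [h]
    exact isCyclic_of_subsingleton
  obtain ⟨hab, hex, hcent⟩ := cit_sylow T hC hT
  obtain ⟨t0, ht0T, ht02, _⟩ := sylow_exists_central_invol T hT
  set H := Subgroup.normalizer ((T : Subgroup G) : Set G) with hHdef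
  set D := H ⊓ H.map (MulAut.conj u).toMonoidHom with hDdef
  rw [← Nat.card_prod]
  symm
  have hmem : ∀ p : D × (T : Subgroup G), p.1.1 * p.2.1 ∈ H := fun p =>
    H.mul_mem (Subgroup.mem_inf.mp p.1.2).1 (Subgroup.le_normalizer p.2.2)
  apply Nat.card_eq_of_bijective (fun p => ⟨p.1.1 * p.2.1, hmem p⟩)
  constructor
  · rintro ⟨⟨d, hd⟩, ⟨t, ht⟩⟩ ⟨⟨e, he⟩, ⟨s, hs⟩⟩ h
    have h1 : d * t = e * s := congrArg Subtype.val h
    have h2 : e⁻¹ * d = s * t⁻¹ := by
      calc e⁻¹ * d = e⁻¹ * (d * t) * t⁻¹ := by group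
        _ = e⁻¹ * (e * s) * t⁻¹ := by rw [h1]
        _ = s * t⁻¹ := by group
    have h3 : e⁻¹ * d ∈ (T : Subgroup G) := by
      rw [h2]; exact Subgroup.mul_mem _ hs (Subgroup.inv_mem _ ht)
    have h4 := cit_inter_sylow_eq_one T hC hnc hnn huH (D.mul_mem (D.inv_mem he) hd) (hex _ h3)
    have h5 : d = e := (inv_mul_eq_one.mp h4).symm
    subst h5
    have h6 : t = s := mul_left_cancel h1
    subst h6
    rfl
  · rintro ⟨h, hh⟩
    have hconj : h * t0 * h⁻¹ ∈ (T : Subgroup G) := (Subgroup.mem_normalizer_iff.mp hh t0).mp ht0T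
    have hconj2 : orderOf (h * t0 * h⁻¹) = 2 := orderOf_conj_two h ht02
    obtain ⟨d, hd, hdt⟩ := se_conj_in_inter hH hu huH ht02 (Subgroup.le_normalizer ht0T) hconj2
      (Subgroup.le_normalizer hconj)
    have h2 : d⁻¹ * h ∈ Subgroup.centralizer ({t0} : Set G) := by
      rw [Subgroup.mem_centralizer_singleton_iff]
      calc d⁻¹ * h * t0 = d⁻¹ * (h * t0 * h⁻¹) * h := by group
        _ = d⁻¹ * (d * t0 * d⁻¹) * h := by rw [hdt]
        _ = t0 * (d⁻¹ * h) := by group
    rw [hcent t0 ht0T (invol_ne_one ht02)] at h2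
    refine ⟨(⟨d, hd⟩, ⟨d⁻¹ * h, h2⟩), ?_⟩
    apply Subtype.ext
    show d * (d⁻¹ * h) = h
    group

end TwoPoint

end CIT

end Cfsg.Agent.Lib.Helper8
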