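import Mathlib
import Cfsg.Prelude.Def_Involutions
import Cfsg.Agent.Lib.Helper8.CIT

/-!
# CIT groups: the action on the cosets of `N_G(T)` is sharply 3-transitive (helper8 library)
-/

set_option autoImplicit false

namespace Cfsg.Agent.Lib.Helper8

open Cfsg.Agent.Lib.Helper2

section CIT2

variable {G : Type*} [Group G] [Finite G] (T : Sylow 2 G) (hC : CITHyp G)
  (hnc : ¬ IsCyclic (T : Subgroup G)) (hnn : ¬ (T : Subgroup G).Normal)

omit [Finite G] in
include hnc in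
theorem cit_sylow_ne_bot : (T : Subgroup G) ≠ ⊥ := by
  intro h
  apply hnc
  rw [h]
  exact isCyclic_of_subsingleton

include hC hnc hnn in
/-- An involution `w` inverts every element fixing a point `x` and its image `w • x ≠ x`. -/
theorem cit_inverts_general {w d : G} (hw : orderOf w = 2)
    {x : G ⧸ Subgroup.normalizer ((T : Subgroup G) : Set G)} (hx : d • x = x)
    (hwx : d • (w • x) = w • x) (hne : w • x ≠ x) : w * d * w⁻¹ = d⁻¹ := by
  induction x using QuotientGroup.induction_on with | _ g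
  have hu2 : orderOf (g⁻¹ * w * g) = 2 := by
    have := orderOf_conj_two g⁻¹ hw
    rwa [inv_inv] at this
  have huH : g⁻¹ * w * g ∉ Subgroup.normalizer ((T : Subgroup G) : Set G) := by
    intro h
    apply hne
    rw [smul_mk_eq_iff]; exact h
  have hd1 : g⁻¹ * d * g ∈ Subgroup.normalizer ((T : Subgroup G) : Set G) := by
    rw [← smul_mk_eq_iff]; exact hx
  have hd2 : g⁻¹ * d * g ∈ (Subgroup.normalizer ((T : Subgroup G) : Set G)).map
      (MulAut.conj (g⁻¹ * w * g)).toMonoidHom := by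
    rw [Cfsg.Agent.Lib.Helper2.mem_map_conj]
    rw [MulAction.Quotient.smul_mk, smul_mk_eq_iff] at hwx
    have : (g⁻¹ * w * g)⁻¹ * (g⁻¹ * d * g) * (g⁻¹ * w * g) = (w • g)⁻¹ * d * (w • g) := by
      rw [smul_eq_mul]; group
    rw [this]; exact hwx
  have h3 := cit_inverts T hC hnc hnn hu2 huH _ (Subgroup.mem_inf.mpr ⟨hd1, hd2⟩)
  have e1 : w * d * w⁻¹ =
      g * ((g⁻¹ * w * g) * (g⁻¹ * d * g) * (g⁻¹ * w * g)⁻¹) * g⁻¹ := by group
  rw [e1, h3]; group

variable {u : G} (hu : orderOf u = 2)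
  (huH : u ∉ Subgroup.normalizer ((T : Subgroup G) : Set G))

local notation "NT" => Subgroup.normalizer ((T : Subgroup G) : Set G)
local notation "DU" => (Subgroup.normalizer ((T : Subgroup G) : Set G) ⊓
  Subgroup.map (MulEquiv.toMonoidHom (MulAut.conj u)) (Subgroup.normalizer ((T : Subgroup G) : Set G)))

include hC hnc hnn hu huH in
/-- `H = D T`. -/
theorem cit_normalizer_decomp {h : G}
    (hh : h ∈ Subgroup.normalizer ((T : Subgroup G) : Set G)) :
    ∃ d ∈ Subgroup.normalizer ((T : Subgroup G) : Set G) ⊓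
      (Subgroup.normalizer ((T : Subgroup G) : Set G)).map (MulAut.conj u).toMonoidHom,
      ∃ t ∈ (T : Subgroup G), h = d * t := by
  have hH := cit_stronglyEmbedded T hC hnc hnn
  have hT := cit_sylow_ne_bot T hnc
  obtain ⟨hab, hex, hcent⟩ := cit_sylow T hC hT
  obtain ⟨t0, ht0T, ht02, _⟩ := sylow_exists_central_invol T hT
  have hconj : h * t0 * h⁻¹ ∈ (T : Subgroup G) := (Subgroup.mem_normalizer_iff.mp hh t0).mp ht0T
  have hconj2 : orderOf (h * t0 * h⁻¹) = 2 := orderOf_conj_two h ht02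
  obtain ⟨d, hd, hdt⟩ := se_conj_in_inter hH hu huH ht02 (Subgroup.le_normalizer ht0T) hconj2
    (Subgroup.le_normalizer hconj)
  have h2 : d⁻¹ * h ∈ Subgroup.centralizer ({t0} : Set G) := by
    rw [Subgroup.mem_centralizer_singleton_iff]
    calc d⁻¹ * h * t0 = d⁻¹ * (h * t0 * h⁻¹) * h := by group
      _ = d⁻¹ * (d * t0 * d⁻¹) * h := by rw [hdt]
      _ = t0 * (d⁻¹ * h) := by group
  rw [hcent t0 ht0T (invol_ne_one ht02)] at h2
  exact ⟨d, hd, d⁻¹ * h, h2, by group⟩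

include hC hnc hnn hu huH in
/-- `D` is abelian. -/
theorem cit_inter_comm {d e : G}
    (hd : d ∈ Subgroup.normalizer ((T : Subgroup G) : Set G) ⊓
      (Subgroup.normalizer ((T : Subgroup G) : Set G)).map (MulAut.conj u).toMonoidHom)
    (he : e ∈ Subgroup.normalizer ((T : Subgroup G) : Set G) ⊓
      (Subgroup.normalizer ((T : Subgroup G) : Set G)).map (MulAut.conj u).toMonoidHom) :
    d * e = e * d := by
  have h1 := cit_inverts T hC hnc hnn hu huH d hd
  have h2 := cit_inverts T hC hnc hnn hu huH e he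
  have h3 := cit_inverts T hC hnc hnn hu huH (d * e) (Subgroup.mul_mem _ hd he)
  have h4 : u * (d * e) * u⁻¹ = (u * d * u⁻¹) * (u * e * u⁻¹) := by group
  rw [h3, h1, h2] at h4
  have := congrArg (·⁻¹) h4
  simpa using this

include hC hnc hnn hu huH in
/-- `D` is nontrivial. -/
theorem cit_inter_nontrivial :
    ∃ e ∈ Subgroup.normalizer ((T : Subgroup G) : Set G) ⊓
      (Subgroup.normalizer ((T : Subgroup G) : Set G)).map (MulAut.conj u).toMonoidHom, e ≠ 1 := by
  have : Fact (Nat.Prime 2) := ⟨Nat.prime_two⟩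
  have hcard := cit_card_inter T hC hnc hnn hu huH
  obtain ⟨n, hn⟩ := T.2.exists_card_eq
  have hn2 : 2 ≤ n := by
    by_contra hlt
    have hn' : n = 0 ∨ n = 1 := by omega
    apply hnc
    rcases hn' with h0 | h1
    · rw [h0, pow_zero] at hn
      have : Subsingleton (T : Subgroup G) := (Nat.card_eq_one_iff_unique.mp hn).1
      exact isCyclic_of_subsingleton
    · rw [h1, pow_one] at hn
      exact isCyclic_of_prime_card hn
  have h4 : 4 ≤ Nat.card (T : Subgroup G) := by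
    rw [hn]
    calc 4 = 2 ^ 2 := by norm_num
      _ ≤ 2 ^ n := Nat.pow_le_pow_right (by norm_num) hn2
  have h1 : 1 < Nat.card (↥(Subgroup.normalizer ((T : Subgroup G) : Set G) ⊓
      (Subgroup.normalizer ((T : Subgroup G) : Set G)).map (MulAut.conj u).toMonoidHom)) := by
    rw [hcard]; omega
  rw [Finite.one_lt_card_iff_nontrivial] at h1
  obtain ⟨e, he⟩ := exists_ne (1 : ↥(Subgroup.normalizer ((T : Subgroup G) : Set G) ⊓
      (Subgroup.normalizer ((T : Subgroup G) : Set G)).map (MulAut.conj u).toMonoidHom))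
  refine ⟨e.1, e.2, ?_⟩
  intro h
  apply he
  exact Subtype.ext h

include hC hnc hnn hu huH in
/-- An element of `H` commuting with a nonidentity element of `D` lies in `D`. -/
theorem cit_mem_inter_of_commute {e f : G}
    (he : e ∈ Subgroup.normalizer ((T : Subgroup G) : Set G) ⊓
      (Subgroup.normalizer ((T : Subgroup G) : Set G)).map (MulAut.conj u).toMonoidHom)
    (he1 : e ≠ 1) (hf : f ∈ Subgroup.normalizer ((T : Subgroup G) : Set G))
    (hfe : f * e = e * f) :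
    f ∈ Subgroup.normalizer ((T : Subgroup G) : Set G) ⊓
      (Subgroup.normalizer ((T : Subgroup G) : Set G)).map (MulAut.conj u).toMonoidHom := by
  have hT := cit_sylow_ne_bot T hnc
  obtain ⟨hab, hex, hcent⟩ := cit_sylow T hC hT
  obtain ⟨e1, he1D, t1, ht1, hft⟩ := cit_normalizer_decomp T hC hnc hnn hu huH hf
  have hcomm := cit_inter_comm T hC hnc hnn hu huH he1D he
  have ht1e : t1 * e = e * t1 := by
    have e2 : t1 = e1⁻¹ * f := by rw [hft]; group
    have hcomm' : e1⁻¹ * e = e * e1⁻¹ := by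
      calc e1⁻¹ * e = e1⁻¹ * (e * e1) * e1⁻¹ := by group
        _ = e1⁻¹ * (e1 * e) * e1⁻¹ := by rw [hcomm]
        _ = e * e1⁻¹ := by group
    calc t1 * e = e1⁻¹ * (f * e) := by rw [e2]; group
      _ = e1⁻¹ * (e * f) := by rw [hfe]
      _ = (e1⁻¹ * e) * f := by group
      _ = (e * e1⁻¹) * f := by rw [hcomm']
      _ = e * t1 := by rw [e2]; group
  by_cases ht11 : t1 = 1
  · rw [hft, ht11, mul_one]; exact he1D
  · exfalso
    have : e ∈ Subgroup.centralizer ({t1} : Set G) := by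
      rw [Subgroup.mem_centralizer_singleton_iff]; exact ht1e.symm
    rw [hcent t1 ht1 ht11] at this
    exact he1 (cit_inter_sylow_eq_one T hC hnc hnn huH he (hex e this))

include hC hnc hnn hu huH in
/-- The cosets fixed by all of `D` are `H` and `uH`. -/
theorem cit_fix_inter {x : G ⧸ Subgroup.normalizer ((T : Subgroup G) : Set G)}
    (hx : ∀ d ∈ Subgroup.normalizer ((T : Subgroup G) : Set G) ⊓
      (Subgroup.normalizer ((T : Subgroup G) : Set G)).map (MulAut.conj u).toMonoidHom,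
      d • x = x) :
    x = QuotientGroup.mk 1 ∨ x = QuotientGroup.mk u := by
  by_contra hcon
  push Not at hcon
  obtain ⟨hx0, hxu⟩ := hcon
  have hH := cit_stronglyEmbedded T hC hnc hnn
  have hT := cit_sylow_ne_bot T hnc
  obtain ⟨hab, hex, hcent⟩ := cit_sylow T hC hT
  have hui := invol_inv hu
  have hD0 : ∀ d ∈ DU, d • (QuotientGroup.mk 1 : G ⧸ NT) = QuotientGroup.mk 1 :=
    fun d hd => ((mem_inter_conj_iff NT u d).mp hd).1
  have hDu : ∀ d ∈ DU, d • (QuotientGroup.mk u : G ⧸ NT) = QuotientGroup.mk u :=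
    fun d hd => ((mem_inter_conj_iff NT u d).mp hd).2
  have huinv := cit_inverts T hC hnc hnn hu huH
  -- w swaps `mk 1` and `x`
  obtain ⟨w, hw2, hw1, hw1'⟩ := se_exists_swap hH (Ne.symm hx0)
  have hwinv : ∀ d ∈ DU, w * d * w⁻¹ = d⁻¹ := by
    intro d hd
    apply cit_inverts_general T hC hnc hnn hw2 (x := QuotientGroup.mk 1) (hD0 d hd)
    · rw [hw1]; exact hx d hd
    · rw [hw1]; exact hx0
  -- z1 := u • x is fixed by D
  have hz1fix : ∀ d ∈ DU, d • (u • x) = u • x := by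
    intro d hd
    have h1 : d * u = u * d⁻¹ := by
      have := huinv d hd
      calc d * u = u * (u⁻¹ * d * u) := by group
        _ = u * (u * d * u⁻¹) := by rw [hui]
        _ = u * d⁻¹ := by rw [this]
    rw [← mul_smul, h1, mul_smul, hx d⁻¹ ((DU).inv_mem hd)]
  have hz1ne : u • x ≠ (QuotientGroup.mk 1 : G ⧸ NT) := by
    intro h
    apply hxu
    have : x = u⁻¹ • (QuotientGroup.mk 1 : G ⧸ NT) := by rw [← h, ← mul_smul, inv_mul_cancel, one_smul]
    rw [this, hui, MulAction.Quotient.smul_mk, smul_eq_mul, mul_one]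
  obtain ⟨w', hw'2, hw'1, hw'1'⟩ := se_exists_swap hH (Ne.symm hz1ne)
  have hw'inv : ∀ d ∈ DU, w' * d * w'⁻¹ = d⁻¹ := by
    intro d hd
    apply cit_inverts_general T hC hnc hnn hw'2 (x := QuotientGroup.mk 1) (hD0 d hd)
    · rw [hw'1]; exact hz1fix d hd
    · rw [hw'1]; exact hz1ne
  -- h := w' * u * w fixes `mk 1`
  have hhH : w' * u * w ∈ NT := by
    have : (w' * u * w) • (QuotientGroup.mk 1 : G ⧸ NT) = QuotientGroup.mk 1 := by
      rw [mul_smul, mul_smul, hw1, hw'1']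
    rw [smul_mk_eq_iff] at this
    simpa using this
  have hhinv : ∀ d ∈ DU, (w' * u * w) * d * (w' * u * w)⁻¹ = d⁻¹ := by
    intro d hd
    have h1 := hwinv d hd
    have h2 := huinv d⁻¹ ((DU).inv_mem hd)
    have h3 := hw'inv d hd
    rw [inv_inv] at h2
    calc (w' * u * w) * d * (w' * u * w)⁻¹ = w' * (u * (w * d * w⁻¹) * u⁻¹) * w'⁻¹ := by group
      _ = d⁻¹ := by rw [h1, h2, h3]
  obtain ⟨d1, hd1, t1, ht1, hdt⟩ := cit_normalizer_decomp T hC hnc hnn hu huH hhH
  obtain ⟨e, he, he1⟩ := cit_inter_nontrivial T hC hnc hnn hu huH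
  have h5 := hhinv e he
  rw [hdt] at h5
  -- t1 e t1⁻¹ = e⁻¹
  have hcomm := cit_inter_comm T hC hnc hnn hu huH hd1 ((DU).inv_mem he)
  have h6 : t1 * e * t1⁻¹ = e⁻¹ := by
    calc t1 * e * t1⁻¹ = d1⁻¹ * (d1 * t1 * e * (d1 * t1)⁻¹) * d1 := by group
      _ = d1⁻¹ * e⁻¹ * d1 := by rw [h5]
      _ = d1⁻¹ * (e⁻¹ * d1) := by group
      _ = d1⁻¹ * (d1 * e⁻¹) := by rw [hcomm]
      _ = e⁻¹ := by group
  have heH : e ∈ NT := (Subgroup.mem_inf.mp he).1
  have h7 : e⁻¹ * e⁻¹ ∈ (T : Subgroup G) := by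
    have e1 : e⁻¹ * e⁻¹ = t1 * (e * t1⁻¹ * e⁻¹) := by
      calc e⁻¹ * e⁻¹ = (t1 * e * t1⁻¹) * e⁻¹ := by rw [h6]
        _ = t1 * (e * t1⁻¹ * e⁻¹) := by group
    rw [e1]
    exact Subgroup.mul_mem _ ht1
      ((Subgroup.mem_normalizer_iff.mp heH t1⁻¹).mp (Subgroup.inv_mem _ ht1))
  have h8 : e⁻¹ * e⁻¹ = 1 :=
    cit_inter_sylow_eq_one T hC hnc hnn huH ((DU).mul_mem ((DU).inv_mem he) ((DU).inv_mem he)) (hex _ h7)
  have h9 : e⁻¹ = 1 :=
    cit_inter_sylow_eq_one T hC hnc hnn huH ((DU).inv_mem he) (by rw [pow_two]; exact h8)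
  exact he1 (inv_eq_one.mp h9)

include hC hnc hnn hu huH in
/-- `N_G(D) = D⟨u⟩`. -/
theorem cit_normalizer_inter :
    Subgroup.normalizer ((DU : Subgroup G) : Set G) = DU ⊔ Subgroup.zpowers u := by
  have hui := invol_inv hu
  have huinv := cit_inverts T hC hnc hnn hu huH
  have hD0 : ∀ d ∈ DU, d • (QuotientGroup.mk 1 : G ⧸ NT) = QuotientGroup.mk 1 :=
    fun d hd => ((mem_inter_conj_iff NT u d).mp hd).1
  have hDu : ∀ d ∈ DU, d • (QuotientGroup.mk u : G ⧸ NT) = QuotientGroup.mk u :=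
    fun d hd => ((mem_inter_conj_iff NT u d).mp hd).2
  have hne : (QuotientGroup.mk 1 : G ⧸ NT) ≠ QuotientGroup.mk u := by
    intro h
    rw [QuotientGroup.eq] at h
    apply huH
    simpa using h
  apply le_antisymm
  · intro n hn
    have hn' : n⁻¹ ∈ Subgroup.normalizer ((DU : Subgroup G) : Set G) := Subgroup.inv_mem _ hn
    have hfix : ∀ x : G ⧸ NT, (∀ d ∈ DU, d • x = x) → ∀ d ∈ DU, d • (n • x) = n • x := by
      intro x hx d hd
      have h1 : n⁻¹ * d * n ∈ DU := by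
        have := (Subgroup.mem_normalizer_iff.mp hn' d).mp hd
        rwa [inv_inv] at this
      have h2 : d * n = n * (n⁻¹ * d * n) := by group
      rw [← mul_smul, h2, mul_smul, hx _ h1]
    have h1 := cit_fix_inter T hC hnc hnn hu huH (hfix _ hD0)
    have h2 := cit_fix_inter T hC hnc hnn hu huH (hfix _ hDu)
    have hinj : n • (QuotientGroup.mk 1 : G ⧸ NT) ≠ n • (QuotientGroup.mk u : G ⧸ NT) := by
      intro h
      exact hne (MulAction.injective n h)
    rcases h1 with h1 | h1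
    · have h2' : n • (QuotientGroup.mk u : G ⧸ NT) = QuotientGroup.mk u := by
        rcases h2 with h2 | h2
        · exfalso; exact hinj (h1.trans h2.symm)
        · exact h2
      exact Subgroup.mem_sup_left ((mem_inter_conj_iff NT u n).mpr ⟨h1, h2'⟩)
    · have h2' : n • (QuotientGroup.mk u : G ⧸ NT) = QuotientGroup.mk 1 := by
        rcases h2 with h2 | h2
        · exact h2
        · exfalso; exact hinj (h1.trans h2.symm)
      have h3 : u⁻¹ * n ∈ DU := by
        rw [mem_inter_conj_iff]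
        refine ⟨?_, ?_⟩
        · rw [mul_smul, h1, MulAction.Quotient.smul_mk, smul_eq_mul, inv_mul_cancel]
        · rw [mul_smul, h2', MulAction.Quotient.smul_mk, smul_eq_mul, mul_one, hui]
      have h4 : n = u * (u⁻¹ * n) := by group
      rw [h4]
      exact Subgroup.mul_mem _ (Subgroup.mem_sup_right (Subgroup.mem_zpowers u))
        (Subgroup.mem_sup_left h3)
  · apply sup_le Subgroup.le_normalizer
    rw [Subgroup.zpowers_le, Subgroup.mem_normalizer_iff]
    intro h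
    constructor
    · intro hh
      show u * h * u⁻¹ ∈ DU
      rw [huinv h hh]; exact Subgroup.inv_mem _ hh
    · intro hh
      have hh' : u * h * u⁻¹ ∈ DU := hh
      show h ∈ DU
      have h1 := huinv _ hh'
      have h2 : h = (u * h * u⁻¹)⁻¹ := by
        rw [← h1, hui]
        calc h = (u * u) * h * (u * u) := by rw [invol_mul_self hu]; group
          _ = u * (u * h * u) * u := by group
      rw [h2]; exact Subgroup.inv_mem _ hh'

include hC hnc hnn hu huH in
/-- A nonidentity element of `D` fixes only `H` and `uH`. -/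
theorem cit_fix_elt {g : G} (hg : g ∈ DU) {z : G ⧸ NT} (hz : g • z = z)
    (hz0 : z ≠ QuotientGroup.mk 1) (hzu : z ≠ QuotientGroup.mk u) : g = 1 := by
  by_contra hg1
  have hH := cit_stronglyEmbedded T hC hnc hnn
  obtain ⟨w, hw2, hw1, hw1'⟩ := se_exists_swap hH (Ne.symm hz0)
  have hzw : z = QuotientGroup.mk w := by
    rw [← hw1, MulAction.Quotient.smul_mk, smul_eq_mul, mul_one]
  have hwH : w ∉ NT := by
    intro h
    apply hz0
    rw [hzw, QuotientGroup.eq]
    simpa using h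
  have hg0 : g • (QuotientGroup.mk 1 : G ⧸ NT) = QuotientGroup.mk 1 :=
    ((mem_inter_conj_iff NT u g).mp hg).1
  have hgD1 : g ∈ NT ⊓ Subgroup.map (MulEquiv.toMonoidHom (MulAut.conj w)) NT := by
    rw [mem_inter_conj_iff]
    exact ⟨hg0, by rw [← hzw]; exact hz⟩
  -- every element of D lies in D1
  have hall : ∀ d ∈ DU, d • z = z := by
    intro d hd
    have hdH : d ∈ NT := (Subgroup.mem_inf.mp hd).1
    have hcomm := cit_inter_comm T hC hnc hnn hu huH hd hg
    have := cit_mem_inter_of_commute T hC hnc hnn hw2 hwH hgD1 hg1 hdH hcomm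
    rw [hzw]
    exact ((mem_inter_conj_iff NT w d).mp this).2
  rcases cit_fix_inter T hC hnc hnn hu huH hall with h | h
  · exact hz0 h
  · exact hzu h

include hC hnc in
/-- `T` acts semiregularly away from the coset `H`. -/
theorem cit_sylow_semiregular {t : G} (ht : t ∈ (T : Subgroup G)) {x : G ⧸ NT}
    (hx : x ≠ QuotientGroup.mk 1) (htx : t • x = x) (hnn : ¬ (T : Subgroup G).Normal) : t = 1 := by
  by_contra ht1
  have hH := cit_stronglyEmbedded T hC hnc hnn
  have hT := cit_sylow_ne_bot T hnc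
  obtain ⟨hab, hex, hcent⟩ := cit_sylow T hC hT
  have ht2 : orderOf t = 2 := orderOf_eq_prime (hex t ht) ht1
  have ht0 : t • (QuotientGroup.mk 1 : G ⧸ NT) = QuotientGroup.mk 1 := by
    rw [smul_mk_eq_iff]
    simpa using Subgroup.le_normalizer ht
  exact hx (se_fix_unique hH ht2 htx ht0)

include hC hnc hnn hu huH in
/-- `T` is transitive on the cosets other than `H`. -/
theorem cit_sylow_transitive {y1 : G ⧸ NT} (hy1 : y1 ≠ QuotientGroup.mk 1) :
    ∃ t ∈ (T : Subgroup G), t • (QuotientGroup.mk u : G ⧸ NT) = y1 := by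
  have hH := cit_stronglyEmbedded T hC hnc hnn
  have hT := cit_sylow_ne_bot T hnc
  obtain ⟨hab, hex, hcent⟩ := cit_sylow T hC hT
  obtain ⟨u1, hu12, hu11, hu11'⟩ := se_exists_swap hH (Ne.symm hy1)
  have hy1u : y1 = QuotientGroup.mk u1 := by
    rw [← hu11, MulAction.Quotient.smul_mk, smul_eq_mul, mul_one]
  have hu1H : u1 ∉ NT := by
    intro h
    apply hy1
    rw [hy1u, QuotientGroup.eq]
    simpa using h
  obtain ⟨d, hd, hd1⟩ := cit_inter_nontrivial T hC hnc hnn hu huH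
  have hdH : d ∈ NT := (Subgroup.mem_inf.mp hd).1
  obtain ⟨e, he, t0, ht0, hdet⟩ := cit_normalizer_decomp T hC hnc hnn hu12 hu1H hdH
  have he1 : e ≠ 1 := by
    intro h
    rw [h, one_mul] at hdet
    apply hd1
    exact cit_inter_sylow_eq_one T hC hnc hnn huH hd (by rw [hdet]; exact hex t0 ht0)
  have heH : e ∈ NT := (Subgroup.mem_inf.mp he).1
  have heH' : e⁻¹ ∈ NT := Subgroup.inv_mem _ heH
  -- the map ψ
  have hψmem : ∀ t : (T : Subgroup G), e⁻¹ * t.1 * e * t.1⁻¹ ∈ (T : Subgroup G) := by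
    intro t
    have h1 : e⁻¹ * t.1 * e⁻¹⁻¹ ∈ (T : Subgroup G) :=
      (Subgroup.mem_normalizer_iff.mp heH' t.1).mp t.2
    rw [inv_inv] at h1
    exact Subgroup.mul_mem _ h1 (Subgroup.inv_mem _ t.2)
  let ψ : ↥(T : Subgroup G) → ↥(T : Subgroup G) := fun t => ⟨e⁻¹ * t.1 * e * t.1⁻¹, hψmem t⟩
  have hinj : Function.Injective ψ := by
    intro t s h
    have h1 : e⁻¹ * t.1 * e * t.1⁻¹ = e⁻¹ * s.1 * e * s.1⁻¹ := congrArg Subtype.val h
    have h2 : e⁻¹ * (s.1⁻¹ * t.1) * e = s.1⁻¹ * t.1 := by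
      have e1 : e⁻¹ * t.1 * e = (e⁻¹ * s.1 * e * s.1⁻¹) * t.1 := by rw [← h1]; group
      calc e⁻¹ * (s.1⁻¹ * t.1) * e = (e⁻¹ * s.1 * e)⁻¹ * (e⁻¹ * t.1 * e) := by group
        _ = (e⁻¹ * s.1 * e)⁻¹ * ((e⁻¹ * s.1 * e * s.1⁻¹) * t.1) := by rw [e1]
        _ = s.1⁻¹ * t.1 := by group
    have h3 : (s.1⁻¹ * t.1) * e = e * (s.1⁻¹ * t.1) := by
      calc (s.1⁻¹ * t.1) * e = e * (e⁻¹ * (s.1⁻¹ * t.1) * e) := by group
        _ = e * (s.1⁻¹ * t.1) := by rw [h2]
    have hr : s.1⁻¹ * t.1 ∈ (T : Subgroup G) := Subgroup.mul_mem _ (Subgroup.inv_mem _ s.2) t.2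
    by_cases hr1 : s.1⁻¹ * t.1 = 1
    · apply Subtype.ext
      exact (inv_mul_eq_one.mp hr1).symm
    · exfalso
      have : e ∈ Subgroup.centralizer ({s.1⁻¹ * t.1} : Set G) := by
        rw [Subgroup.mem_centralizer_singleton_iff]; exact h3.symm
      rw [hcent _ hr hr1] at this
      exact he1 (cit_inter_sylow_eq_one T hC hnc hnn hu1H he (hex e this))
  have hsurj : Function.Surjective ψ := Finite.injective_iff_surjective.mp hinj
  obtain ⟨t, ht⟩ := hsurj ⟨t0⁻¹, Subgroup.inv_mem _ ht0⟩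
  have ht' : e⁻¹ * t.1 * e * t.1⁻¹ = t0⁻¹ := congrArg Subtype.val ht
  -- t d t⁻¹ = e
  have hconj : t.1 * d * t.1⁻¹ = e := by
    have hcomm : t0 * t.1⁻¹ = t.1⁻¹ * t0 := hab t0 ht0 t.1⁻¹ (Subgroup.inv_mem _ t.2)
    calc t.1 * d * t.1⁻¹ = e * (e⁻¹ * t.1 * e) * (t0 * t.1⁻¹) := by rw [hdet]; group
      _ = e * (e⁻¹ * t.1 * e) * (t.1⁻¹ * t0) := by rw [hcomm]
      _ = e * (e⁻¹ * t.1 * e * t.1⁻¹) * t0 := by group
      _ = e := by rw [ht']; group
  -- D fixes t⁻¹ • y1
  have hall : ∀ d' ∈ DU, d' • (t.1⁻¹ • y1) = t.1⁻¹ • y1 := by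
    intro d' hd'
    have hd'H : d' ∈ NT := (Subgroup.mem_inf.mp hd').1
    have htH : t.1 ∈ NT := Subgroup.le_normalizer t.2
    have hfH : t.1 * d' * t.1⁻¹ ∈ NT :=
      Subgroup.mul_mem _ (Subgroup.mul_mem _ htH hd'H) (Subgroup.inv_mem _ htH)
    have hcomm := cit_inter_comm T hC hnc hnn hu huH hd' hd
    have hfe : (t.1 * d' * t.1⁻¹) * e = e * (t.1 * d' * t.1⁻¹) := by
      rw [← hconj]
      calc t.1 * d' * t.1⁻¹ * (t.1 * d * t.1⁻¹) = t.1 * (d' * d) * t.1⁻¹ := by group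
        _ = t.1 * (d * d') * t.1⁻¹ := by rw [hcomm]
        _ = t.1 * d * t.1⁻¹ * (t.1 * d' * t.1⁻¹) := by group
    have hfD := cit_mem_inter_of_commute T hC hnc hnn hu12 hu1H he he1 hfH hfe
    have hfy : (t.1 * d' * t.1⁻¹) • y1 = y1 := by
      rw [hy1u]; exact ((mem_inter_conj_iff NT u1 _).mp hfD).2
    have e1 : d' * t.1⁻¹ = t.1⁻¹ * (t.1 * d' * t.1⁻¹) := by group
    rw [← mul_smul, e1, mul_smul, hfy]
  rcases cit_fix_inter T hC hnc hnn hu huH hall with h | h
  · exfalso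
    apply hy1
    have h1 : y1 = t.1 • (QuotientGroup.mk 1 : G ⧸ NT) := by
      rw [← h, ← mul_smul, mul_inv_cancel, one_smul]
    rw [h1, smul_mk_eq_iff]
    simpa using Subgroup.le_normalizer t.2
  · refine ⟨t.1, t.2, ?_⟩
    rw [← h, ← mul_smul, mul_inv_cancel, one_smul]

include hC hnc hnn hu huH in
/-- Any triple of distinct cosets can be moved to the standard triple `(H, uH, t'uH)`. -/
theorem cit_three_to_std {t' : G} (ht' : t' ∈ (T : Subgroup G)) (ht'1 : t' ≠ 1)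
    {x1 x2 x3 : G ⧸ NT} (h12 : x1 ≠ x2) (h13 : x1 ≠ x3) (h23 : x2 ≠ x3) :
    ∃ g : G, g • x1 = QuotientGroup.mk 1 ∧ g • x2 = QuotientGroup.mk u ∧
      g • x3 = t' • (QuotientGroup.mk u : G ⧸ NT) := by
  have hH := cit_stronglyEmbedded T hC hnc hnn
  have hT := cit_sylow_ne_bot T hnc
  obtain ⟨hab, hex, hcent⟩ := cit_sylow T hC hT
  induction x1 using QuotientGroup.induction_on with | _ a
  have hg1 : a⁻¹ • (QuotientGroup.mk a : G ⧸ NT) = QuotientGroup.mk 1 := by
    rw [MulAction.Quotient.smul_mk, smul_eq_mul, inv_mul_cancel]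
  have hx2' : a⁻¹ • x2 ≠ QuotientGroup.mk 1 := by
    intro h
    rw [← hg1] at h
    exact h12 (MulAction.injective a⁻¹ h).symm
  obtain ⟨t2, ht2, ht2u⟩ := cit_sylow_transitive T hC hnc hnn hu huH hx2'
  have ht2fix : t2⁻¹ • (QuotientGroup.mk 1 : G ⧸ NT) = QuotientGroup.mk 1 := by
    rw [smul_mk_eq_iff]
    simpa using Subgroup.le_normalizer ht2
  have hx2'' : t2⁻¹ • a⁻¹ • x2 = QuotientGroup.mk u := by
    rw [← ht2u, ← mul_smul, inv_mul_cancel, one_smul]
  have hx3'0 : t2⁻¹ • a⁻¹ • x3 ≠ QuotientGroup.mk 1 := by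
    intro h
    rw [← ht2fix, ← hg1] at h
    exact h13 (MulAction.injective a⁻¹ (MulAction.injective t2⁻¹ h)).symm
  have hx3'u : t2⁻¹ • a⁻¹ • x3 ≠ QuotientGroup.mk u := by
    intro h
    rw [← hx2''] at h
    exact h23 (MulAction.injective a⁻¹ (MulAction.injective t2⁻¹ h)).symm
  obtain ⟨s, hs, hsu⟩ := cit_sylow_transitive T hC hnc hnn hu huH hx3'0
  have hs1 : s ≠ 1 := by
    intro h
    rw [h, one_smul] at hsu
    exact hx3'u hsu.symm
  have hs2 : orderOf s = 2 := orderOf_eq_prime (hex s hs) hs1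
  have ht'2 : orderOf t' = 2 := orderOf_eq_prime (hex t' ht') ht'1
  obtain ⟨d, hd, hdst⟩ := se_conj_in_inter hH hu huH hs2 (Subgroup.le_normalizer hs) ht'2
    (Subgroup.le_normalizer ht')
  have hd0 : d • (QuotientGroup.mk 1 : G ⧸ NT) = QuotientGroup.mk 1 :=
    ((mem_inter_conj_iff NT u d).mp hd).1
  have hdu : d • (QuotientGroup.mk u : G ⧸ NT) = QuotientGroup.mk u :=
    ((mem_inter_conj_iff NT u d).mp hd).2
  refine ⟨d * t2⁻¹ * a⁻¹, ?_, ?_, ?_⟩
  · rw [mul_smul, mul_smul, hg1, ht2fix, hd0]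
  · rw [mul_smul, mul_smul, hx2'', hdu]
  · rw [mul_smul, mul_smul, ← hsu, ← mul_smul]
    have e1 : d * s = (d * s * d⁻¹) * d := by group
    rw [e1, hdst, mul_smul, hdu]

end CIT2

end Cfsg.Agent.Lib.Helper8
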