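import Mathlib
import Cfsg.Agent.Lib.Helper11.LSDefs
import Cfsg.Agent.Lib.Helper11.LSA1
import Cfsg.Agent.Lib.Helper11.WLBIso
import Cfsg.Agent.Lib.Helper18.LSO

/-!
# S2524 Part W (numerics core): isometry groups of quadratic forms of rank `≥ 2`, `q` odd

* `card_binary_ne`, `card_binary_zero`: the number of solutions of `a s² + b t² = d` over a finite
  field of odd order (`q - χ(-ab)` for `d ≠ 0`, `q + (q - 1) χ(-ab)` for `d = 0`), through Mathlib's
  `jacobiSum_nontrivial_inv`.
* `card_sphere_le2`: a sphere of non-zero radius of a form of rank `≥ 2` in `m + 2` variables has at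
  most `(q + 1) q^m` points.
* `card_isoGroup_le_Bb_odd`: such a form has at most `Bb q n` isometries (Theorem T of
  `Helper11.LS` for odd `q`).
* `orbit_bound_odd2`: the orbit count `(q^n - 1)(q^n - q) ≤ 2 (q + 1) |W|`.
* `rank_dichotomy`: rank `≥ 2` or `Q = a f²`.
-/

set_option autoImplicit false

namespace Cfsg.Agent.Lib.Helper8.WLB2

open Finset

section binary

variable {F : Type*} [Field F] [Fintype F] [DecidableEq F]

theorem quadraticChar_div {b e : F} (hb : b ≠ 0) :
    quadraticChar F (e / b) = quadraticChar F e * quadraticChar F b := by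
  have h : e / b = e * b * (b⁻¹) ^ 2 := by field_simp
  rw [h, map_mul, map_mul, quadraticChar_sq_one' (inv_ne_zero hb), mul_one]

/-- `∑ t, χ (e - b t²)` for `e ≠ 0` -/
theorem sum_quadraticChar_sub_sq (hF : ringChar F ≠ 2) {b e : F} (hb : b ≠ 0) (he : e ≠ 0) :
    ∑ t : F, quadraticChar F (e - b * t ^ 2) = - quadraticChar F (-b) := by
  -- regroup by `z = t²`
  have h1 : ∑ t : F, quadraticChar F (e - b * t ^ 2) =
      ∑ z : F, (quadraticChar F z + 1) * quadraticChar F (e - b * z) := by
    rw [← Finset.sum_fiberwise (s := univ) (g := fun t : F => t ^ 2)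
      (f := fun t => quadraticChar F (e - b * t ^ 2))]
    refine Finset.sum_congr rfl fun z _ => ?_
    have h2 : ∀ t ∈ univ.filter (fun t : F => t ^ 2 = z),
        quadraticChar F (e - b * t ^ 2) = quadraticChar F (e - b * z) := by
      intro t ht
      rw [(Finset.mem_filter.mp ht).2]
    have h0 : {x : F | x ^ 2 = z}.toFinset = univ.filter (fun t : F => t ^ 2 = z) := by
      ext t
      simp
    rw [Finset.sum_congr rfl h2, Finset.sum_const, ← quadraticChar_card_sqrts hF z, nsmul_eq_mul,
      h0]
  rw [h1]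
  simp only [add_mul, one_mul, Finset.sum_add_distrib]
  -- the second sum vanishes
  have h3 : ∑ z : F, quadraticChar F (e - b * z) = 0 := by
    have := quadraticChar_sum_zero (F := F) hF
    rw [← this]
    refine Fintype.sum_equiv ⟨fun z => e - b * z, fun y => (e - y) / b, fun z => by field_simp; ring,
      fun y => by field_simp; ring⟩ _ _ (fun z => rfl)
  rw [h3, add_zero]
  -- the first sum is a Jacobi sum
  have hχ : quadraticChar F ≠ 1 := quadraticChar_ne_one hF
  have hJ := jacobiSum_nontrivial_inv hχ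
  rw [(quadraticChar_isQuadratic F).inv, jacobiSum] at hJ
  have h4 : ∑ z : F, quadraticChar F z * quadraticChar F (e - b * z) =
      ∑ y : F, quadraticChar F b * (quadraticChar F y * quadraticChar F (1 - y)) := by
    refine (Fintype.sum_equiv ⟨fun y => e / b * y, fun z => b / e * z, fun z => by field_simp,
      fun y => by field_simp⟩ _ _ (fun y => ?_)).symm
    show _ = quadraticChar F (e / b * y) * quadraticChar F (e - b * (e / b * y))
    have h5 : e - b * (e / b * y) = e * (1 - y) := by field_simp
    rw [h5, map_mul, map_mul, quadraticChar_div hb]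
    have h6 : quadraticChar F e * quadraticChar F e = 1 := by
      rw [← pow_two]; exact quadraticChar_sq_one he
    linear_combination (-(quadraticChar F b * quadraticChar F y * quadraticChar F (1 - y))) * h6
  rw [h4, ← Finset.mul_sum, hJ]
  have h9 : (-b : F) = b * (-1) := by ring
  rw [h9, map_mul]
  ring

/-- `∑ t, χ (- b t²)` -/
theorem sum_quadraticChar_neg_sq (hF : ringChar F ≠ 2) {b : F} (hb : b ≠ 0) :
    ∑ t : F, quadraticChar F (0 - b * t ^ 2) = ((Fintype.card F : ℤ) - 1) * quadraticChar F (-b) := by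
  have h1 : ∀ t : F, quadraticChar F (0 - b * t ^ 2) =
      if t = 0 then 0 else quadraticChar F (-b) := by
    intro t
    split_ifs with ht
    · rw [ht]; simp
    · have : 0 - b * t ^ 2 = -b * t ^ 2 := by ring
      rw [this, map_mul, quadraticChar_sq_one' ht, mul_one]
  rw [Finset.sum_congr rfl (fun t _ => h1 t), Finset.sum_ite, Finset.sum_const_zero, zero_add,
    Finset.sum_const, nsmul_eq_mul]
  congr 1
  have : (univ.filter (fun t : F => ¬ t = 0)) = univ.erase 0 := by
    ext t; simp
  rw [this, Finset.card_erase_of_mem (Finset.mem_univ _), Finset.card_univ,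
    Nat.cast_sub Fintype.card_pos]
  simp

theorem card_binary (hF : ringChar F ≠ 2) {a : F} (ha : a ≠ 0) (b d : F) :
    ((univ.filter (fun p : F × F => a * p.1 ^ 2 + b * p.2 ^ 2 = d)).card : ℤ) =
      Fintype.card F + quadraticChar F a * ∑ t : F, quadraticChar F (d - b * t ^ 2) := by
  rw [Finset.card_filter, Fintype.sum_prod_type_right]
  push_cast
  have h1 : ∀ t : F, ∑ s : F, (if a * s ^ 2 + b * t ^ 2 = d then (1 : ℤ) else 0) =
      quadraticChar F a * quadraticChar F (d - b * t ^ 2) + 1 := by
    intro t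
    rw [mul_comm (quadraticChar F a), ← quadraticChar_div ha, ← quadraticChar_card_sqrts hF,
      Set.toFinset_ofPred, Finset.card_filter]
    push_cast
    refine Finset.sum_congr rfl fun s _ => ?_
    congr 1
    apply propext
    constructor
    · intro h
      field_simp
      linear_combination h
    · intro h
      field_simp at h
      linear_combination h
  rw [Finset.sum_congr rfl (fun t _ => h1 t), Finset.sum_add_distrib, Finset.mul_sum]
  simp
  ring

/-- the number of solutions of `a s² + b t² = d`, `d ≠ 0` -/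
theorem card_binary_ne (hF : ringChar F ≠ 2) {a b d : F} (ha : a ≠ 0) (hb : b ≠ 0) (hd : d ≠ 0) :
    ((univ.filter (fun p : F × F => a * p.1 ^ 2 + b * p.2 ^ 2 = d)).card : ℤ) =
      Fintype.card F - quadraticChar F a * quadraticChar F (-b) := by
  rw [card_binary hF ha, sum_quadraticChar_sub_sq hF hb hd]
  ring

/-- the number of solutions of `a s² + b t² = 0` -/
theorem card_binary_zero (hF : ringChar F ≠ 2) {a b : F} (ha : a ≠ 0) (hb : b ≠ 0) :
    ((univ.filter (fun p : F × F => a * p.1 ^ 2 + b * p.2 ^ 2 = 0)).card : ℤ) =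
      Fintype.card F + ((Fintype.card F : ℤ) - 1) * (quadraticChar F a * quadraticChar F (-b)) := by
  rw [card_binary hF ha, sum_quadraticChar_neg_sq hF hb]
  ring

end binary

open Finset QuadraticMap Module Cfsg.Agent.Lib.Helper11.LS Cfsg.Agent.Lib.Helper11.WLB

universe u
variable {F : Type*} [Field F] {V : Type u} [AddCommGroup V] [Module F V]

/-- the orthogonal complement of two vectors, as the kernel of a map onto `F × F` -/
def perpK (Q : QuadraticForm F V) (v w : V) : Submodule F V :=
  LinearMap.ker ((Q.polarBilin v).prod (Q.polarBilin w))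

theorem mem_perpK {Q : QuadraticForm F V} {v w x : V} :
    x ∈ perpK Q v w ↔ polar Q v x = 0 ∧ polar Q w x = 0 := by
  rw [perpK, LinearMap.mem_ker, LinearMap.prod_apply, Function.prod_apply, Prod.mk_eq_zero,
    polarBilin_apply_apply, polarBilin_apply_apply]

theorem polar_self_ne (h2 : (2 : F) ≠ 0) (Q : QuadraticForm F V) {v : V} (hv : Q v ≠ 0) :
    polar Q v v ≠ 0 := by
  rw [polar_self]
  intro h
  have h3 : (2 : F) * Q v = 0 := by
    rw [← h]
    simp [two_smul, two_mul]
  rcases mul_eq_zero.mp h3 with h4 | h4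
  · exact h2 h4
  · exact hv h4

theorem polar_self_eq (Q : QuadraticForm F V) (v : V) : polar Q v v = 2 * Q v := by
  rw [polar_self]
  simp [two_smul, two_mul]

theorem finrank_perpK [FiniteDimensional F V] (h2 : (2 : F) ≠ 0) (Q : QuadraticForm F V) {v w : V}
    (hv : Q v ≠ 0) (hw : Q w ≠ 0) (hvw : polar Q v w = 0) {m : ℕ} (hm : finrank F V = m + 2) :
    finrank F (perpK Q v w) = m := by
  have hvv := polar_self_ne h2 Q hv
  have hww := polar_self_ne h2 Q hw
  have hwv : polar Q w v = 0 := by rw [polar_comm]; exact hvw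
  have hsurj : LinearMap.range ((Q.polarBilin v).prod (Q.polarBilin w)) = ⊤ := by
    rw [LinearMap.range_eq_top]
    rintro ⟨x, y⟩
    refine ⟨(x / polar Q v v) • v + (y / polar Q w w) • w, ?_⟩
    rw [LinearMap.prod_apply, Function.prod_apply, polarBilin_apply_apply, polarBilin_apply_apply,
      polar_add_right, polar_add_right, polar_smul_right, polar_smul_right, polar_smul_right,
      polar_smul_right, hvw, hwv]
    simp only [smul_eq_mul, mul_zero, add_zero, zero_add]
    rw [div_mul_cancel₀ _ hvv, div_mul_cancel₀ _ hww]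
  have h := LinearMap.finrank_range_add_finrank_ker ((Q.polarBilin v).prod (Q.polarBilin w))
  rw [hsurj, finrank_top, Module.finrank_prod, Module.finrank_self, hm] at h
  unfold perpK
  omega

/-- the decomposition `x = s v + t w + u` with `u ⊥ v, w` -/
theorem sub_mem_perpK (Q : QuadraticForm F V) {v w : V} (hvv : polar Q v v ≠ 0)
    (hww : polar Q w w ≠ 0) (hvw : polar Q v w = 0) (x : V) :
    x - (polar Q v x / polar Q v v) • v - (polar Q w x / polar Q w w) • w ∈ perpK Q v w := by
  have hwv : polar Q w v = 0 := by rw [polar_comm]; exact hvw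
  rw [mem_perpK]
  constructor
  · rw [polar_sub_right, polar_sub_right, polar_smul_right, polar_smul_right, hvw]
    simp only [smul_eq_mul, mul_zero, sub_zero]
    rw [div_mul_cancel₀ _ hvv, sub_self]
  · rw [polar_sub_right, polar_sub_right, polar_smul_right, polar_smul_right, hwv]
    simp only [smul_eq_mul, mul_zero, sub_zero]
    rw [div_mul_cancel₀ _ hww, sub_self]

theorem map_decomp (Q : QuadraticForm F V) {v w : V} (hvw : polar Q v w = 0) (s t : F) {y : V}
    (hy : y ∈ perpK Q v w) :
    Q (s • v + t • w + y) = Q v * s ^ 2 + Q w * t ^ 2 + Q y := by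
  rw [mem_perpK] at hy
  have h1 : Q (s • v + t • w + y) = Q (s • v + t • w) + Q y + polar Q (s • v + t • w) y := by
    unfold polar; ring
  have h2 : Q (s • v + t • w) = Q (s • v) + Q (t • w) + polar Q (s • v) (t • w) := by
    unfold polar; ring
  rw [h1, h2, polar_add_left, polar_smul_left, polar_smul_left, polar_smul_left, polar_smul_right,
    hvw, hy.1, hy.2, QuadraticMap.map_smul, QuadraticMap.map_smul]
  simp only [smul_eq_mul, mul_zero, add_zero]
  ring

theorem ringChar_ne_two_of (h2 : (2 : F) ≠ 0) : ringChar F ≠ 2 := by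
  intro h
  apply h2
  have h1 := ringChar.Nat.cast_ringChar (R := F)
  rw [h] at h1
  exact_mod_cast h1

/-- the number of points of `U` on the sphere `Q = c`, times `q`, is at most `2 q^m` -/
theorem card_sphere_mul_le [Fintype F] [Finite V] (Q : QuadraticForm F V) {m : ℕ}
    (hm : finrank F V = m) {c : F} (hc : c ≠ 0) :
    Fintype.card F * Nat.card {x : V // Q x = c} ≤ 2 * Fintype.card F ^ m := by
  by_cases hex : ∃ x, Q x = c
  · obtain ⟨x0, hx0⟩ := hex
    have hx0' : Q x0 ≠ 0 := by rw [hx0]; exact hc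
    have hne : x0 ≠ 0 := by
      rintro rfl
      exact hx0' (map_zero Q)
    have : Module.Finite F V := Module.Finite.of_finite
    have hpos : 0 < finrank F V := Module.finrank_pos_iff_exists_ne_zero.mpr ⟨x0, hne⟩
    obtain ⟨m', rfl⟩ : ∃ m', m = m' + 1 := ⟨m - 1, by omega⟩
    have h := card_sphere_le Q hx0' hm
    rw [hx0] at h
    calc Fintype.card F * Nat.card {x : V // Q x = c}
        ≤ Fintype.card F * (2 * Fintype.card F ^ m') := Nat.mul_le_mul_left _ h
      _ = 2 * Fintype.card F ^ (m' + 1) := by ring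
  · have : IsEmpty {x : V // Q x = c} := ⟨fun x => hex ⟨x.1, x.2⟩⟩
    rw [Nat.card_of_isEmpty]
    simp

/-- a sphere of non-zero radius of a form of rank `≥ 2` in `m + 2` variables has at most
`(q + 1) q^m` points -/
theorem card_sphere_le2 [Fintype F] [Finite V] (h2 : (2 : F) ≠ 0) (Q : QuadraticForm F V)
    {v w : V} (hv : Q v ≠ 0) (hw : Q w ≠ 0) (hvw : polar Q v w = 0) {m : ℕ}
    (hm : finrank F V = m + 2) {c : F} (hc : c ≠ 0) :
    Nat.card {x : V // Q x = c} ≤ (Fintype.card F + 1) * Fintype.card F ^ m := by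
  classical
  have : Fintype V := Fintype.ofFinite V
  have : Module.Finite F V := Module.Finite.of_finite
  have hF : ringChar F ≠ 2 := ringChar_ne_two_of h2
  have hvv := polar_self_ne h2 Q hv
  have hww := polar_self_ne h2 Q hw
  set a : F := Q v with ha
  set b : F := Q w with hb
  set η : ℤ := quadraticChar F a * quadraticChar F (-b) with hη
  have hη1 : η = 1 ∨ η = -1 := by
    rcases quadraticChar_dichotomy hv with h | h <;>
      rcases quadraticChar_dichotomy (neg_ne_zero.mpr hw) with h' | h' <;>
      rw [hη, h, h'] <;> simp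
  set U : Submodule F V := perpK Q v w with hU
  have : Fintype U := Fintype.ofFinite U
  let s : V → F := fun x => polar Q v x / polar Q v v
  let t : V → F := fun x => polar Q w x / polar Q w w
  let p : V → U := fun x => ⟨x - s x • v - t x • w, sub_mem_perpK Q hvv hww hvw x⟩
  have hdec : ∀ x : V, x = s x • v + t x • w + (p x : V) := by
    intro x
    show x = s x • v + t x • w + (x - s x • v - t x • w)
    abel
  have hQ : ∀ x : V, Q x = a * s x ^ 2 + b * t x ^ 2 + Q (p x : V) := by
    intro x
    conv_lhs => rw [hdec x]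
    exact map_decomp Q hvw (s x) (t x) (p x).2
  let S : Finset V := univ.filter (fun x => Q x = c)
  have hS : Nat.card {x : V // Q x = c} = S.card := by
    rw [Nat.card_eq_fintype_card, Fintype.card_subtype]
  -- Step A
  have hA : (S.card : ℤ) ≤ ∑ y : U,
      ((univ.filter (fun q : F × F => a * q.1 ^ 2 + b * q.2 ^ 2 = c - Q (y : V))).card : ℤ) := by
    rw [Finset.card_eq_sum_card_fiberwise (f := p) (s := S) (t := univ) (fun x _ => mem_univ _)]
    push_cast
    refine Finset.sum_le_sum fun y _ => ?_
    norm_cast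
    refine Finset.card_le_card_of_injOn (fun x => (s x, t x)) ?_ ?_
    · intro x hx
      rw [Finset.coe_filter] at hx
      obtain ⟨hx1, hx2⟩ := hx
      have hx3 : Q x = c := (Finset.mem_filter.mp hx1).2
      rw [Finset.coe_filter]
      refine ⟨mem_univ _, ?_⟩
      show a * s x ^ 2 + b * t x ^ 2 = c - Q (y : V)
      rw [← hx2, ← hx3, hQ x]
      ring
    · intro x hx x' hx' hxx
      rw [Finset.coe_filter] at hx hx'
      have h1 : s x = s x' := congrArg Prod.fst hxx
      have h3 : t x = t x' := congrArg Prod.snd hxx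
      rw [hdec x, hdec x', h1, h3, hx.2, hx'.2]
  -- Step B
  have hB : ∀ y : U,
      ((univ.filter (fun q : F × F => a * q.1 ^ 2 + b * q.2 ^ 2 = c - Q (y : V))).card : ℤ) =
      ((Fintype.card F : ℤ) - η) + if Q (y : V) = c then (Fintype.card F : ℤ) * η else 0 := by
    intro y
    by_cases hy : Q (y : V) = c
    · rw [if_pos hy, hy, sub_self, card_binary_zero hF hv hw]
      ring
    · rw [if_neg hy, card_binary_ne hF hv hw (sub_ne_zero.mpr (Ne.symm hy))]
      ring
  rw [Finset.sum_congr rfl (fun y _ => hB y), Finset.sum_add_distrib, Finset.sum_const,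
    Finset.card_univ, nsmul_eq_mul, ← Finset.sum_filter, Finset.sum_const, nsmul_eq_mul] at hA
  -- Step D
  have hUc : Fintype.card U = Fintype.card F ^ m := by
    rw [Module.card_eq_pow_finrank (K := F) (V := U), finrank_perpK h2 Q hv hw hvw hm]
  have hM := card_sphere_mul_le (Q.comp U.subtype) (finrank_perpK h2 Q hv hw hvw hm) hc
  have hM' : Nat.card {x : U // (Q.comp U.subtype) x = c} =
      (univ.filter (fun y : U => Q (y : V) = c)).card := by
    rw [Nat.card_eq_fintype_card, Fintype.card_subtype]
    rfl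
  rw [hM'] at hM
  rw [hUc] at hA
  rw [hS]
  have hM2 : ((Fintype.card F : ℤ)) * ((univ.filter (fun y : U => Q (y : V) = c)).card : ℤ) ≤
      2 * (Fintype.card F : ℤ) ^ m := by exact_mod_cast hM
  have hM0 : (0 : ℤ) ≤ (Fintype.card F : ℤ) * ((univ.filter (fun y : U => Q (y : V) = c)).card : ℤ) :=
    mul_nonneg (Nat.cast_nonneg _) (Nat.cast_nonneg _)
  have hfin : (S.card : ℤ) ≤ ((Fintype.card F : ℤ) + 1) * (Fintype.card F : ℤ) ^ m := by
    rw [Nat.cast_pow] at hA
    rcases hη1 with h | h
    · rw [h] at hA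
      linarith [hA, hM2]
    · rw [h] at hA
      linarith [hA, hM0]
  exact_mod_cast hfin

theorem finrank_perpK_add [FiniteDimensional F V] (h2 : (2 : F) ≠ 0) (Q : QuadraticForm F V)
    {v w : V} (hv : Q v ≠ 0) (hw : Q w ≠ 0) (hvw : polar Q v w = 0) :
    finrank F V = finrank F (perpK Q v w) + 2 := by
  have h2' : 2 ≤ finrank F V := by
    by_contra hlt
    push Not at hlt
    -- v, w are linearly independent
    have hvv := polar_self_ne h2 Q hv
    have hww := polar_self_ne h2 Q hw
    have hwv : polar Q w v = 0 := by rw [polar_comm]; exact hvw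
    have hli : LinearIndependent F ![v, w] := by
      rw [LinearIndependent.pair_iff]
      intro s t hst
      have h1 : polar Q v (s • v + t • w) = 0 := by rw [hst]; simp [polar]
      have h3 : polar Q w (s • v + t • w) = 0 := by rw [hst]; simp [polar]
      rw [polar_add_right, polar_smul_right, polar_smul_right, hvw] at h1
      rw [polar_add_right, polar_smul_right, polar_smul_right, hwv] at h3
      simp only [smul_eq_mul, mul_zero, add_zero, zero_add] at h1 h3
      exact ⟨(mul_eq_zero.mp h1).resolve_right hvv, (mul_eq_zero.mp h3).resolve_right hww⟩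
    have := hli.fintype_card_le_finrank
    simp at this
    omega
  obtain ⟨m, hm⟩ : ∃ m, finrank F V = m + 2 := ⟨finrank F V - 2, by omega⟩
  rw [finrank_perpK h2 Q hv hw hvw hm, hm]

/-- the stabiliser of a non-singular vector `v` embeds in the isometry group of `Q` on `v^⊥` -/
theorem card_stab_le_iso [Fintype F] [Finite V] (h2 : (2 : F) ≠ 0) (Q : QuadraticForm F V) {v : V}
    (hv : Q v ≠ 0) :
    Nat.card {g : V ≃ₗ[F] V // g ∈ isoGroup Q ∧ g v = v} ≤
      Nat.card (isoGroup (Q.comp (hyp Q v).subtype)) := by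
  classical
  have : Module.Finite F V := Module.Finite.of_finite
  let r : {g : V ≃ₗ[F] V // g ∈ isoGroup Q ∧ g v = v} →
      isoGroup (Q.comp (hyp Q v).subtype) := fun g =>
    ⟨LinearEquiv.ofSubmodules g.1 (hyp Q v) (hyp Q v) (map_hyp g.2.1 g.2.2), by
      intro x
      exact g.2.1 (x : V)⟩
  have hr : Function.Injective r := by
    intro g g' hgg
    apply Subtype.ext
    ext w
    have hvv := polar_self_ne h2 Q hv
    set t : F := polar Q v w / polar Q v v with ht
    have hu : w - t • v ∈ hyp Q v := by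
      rw [mem_hyp, polar_sub_right, polar_smul_right, ht, smul_eq_mul, div_mul_cancel₀ _ hvv,
        sub_self]
    have h0 : ((r g : isoGroup (Q.comp (hyp Q v).subtype)) : hyp Q v ≃ₗ[F] hyp Q v) =
        ((r g' : isoGroup (Q.comp (hyp Q v).subtype)) : hyp Q v ≃ₗ[F] hyp Q v) := by rw [hgg]
    have h1 : (((r g : isoGroup (Q.comp (hyp Q v).subtype)) : hyp Q v ≃ₗ[F] hyp Q v)
        ⟨w - t • v, hu⟩ : V) =
        (((r g' : isoGroup (Q.comp (hyp Q v).subtype)) : hyp Q v ≃ₗ[F] hyp Q v)
        ⟨w - t • v, hu⟩ : V) := by rw [h0]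
    have h3 : g.1 (w - t • v) = g'.1 (w - t • v) := h1
    have hw : w = t • v + (w - t • v) := by abel
    rw [hw, map_add, map_add, map_smul, map_smul, g.2.2, g'.2.2, h3]
  have : Finite (hyp Q v ≃ₗ[F] hyp Q v) :=
    Finite.of_injective (fun g => (g : hyp Q v → hyp Q v)) DFunLike.coe_injective
  exact Nat.card_le_card_of_injective r hr

/-- **Theorem T for odd `q`**: a quadratic form of rank `≥ 2` in `n` variables over a finite field
of odd order `q` has at most `Bb q n = 2 (q + 1) q^(2(n-2)) |GL_{n-2}(q)|` isometries -/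
theorem card_isoGroup_le_Bb_odd [Fintype F] [Finite V] (h2 : (2 : F) ≠ 0) (Q : QuadraticForm F V)
    (hr : ∃ v w, Q v ≠ 0 ∧ Q w ≠ 0 ∧ polar Q v w = 0) :
    Nat.card (isoGroup Q) ≤ Bb (Fintype.card F) (finrank F V) := by
  classical
  obtain ⟨v, w, hv, hw, hvw⟩ := hr
  have : Module.Finite F V := Module.Finite.of_finite
  have hm := finrank_perpK_add h2 Q hv hw hvw
  set m := finrank F (perpK Q v w) with hmdef
  have : Finite (V ≃ₗ[F] V) := Finite.of_injective (fun g => (g : V → V)) (fun g h hgh => by
    ext x; exact congrFun hgh x)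
  have h1 := Subgroup.index_mul_card (MulAction.stabilizer (isoGroup Q) v)
  rw [MulAction.index_stabilizer] at h1
  have h3 : (MulAction.orbit (isoGroup Q) v).ncard ≤ (Fintype.card F + 1) * Fintype.card F ^ m := by
    have hsub : MulAction.orbit (isoGroup Q) v ⊆ {x : V | Q x = Q v} := by
      rintro x ⟨g, rfl⟩
      exact g.2 v
    have hle := Set.ncard_le_ncard hsub (Set.toFinite _)
    refine le_trans hle ?_
    have h5 := card_sphere_le2 h2 Q hv hw hvw hm hv
    have h6 : {x : V | Q x = Q v}.ncard = Nat.card {x : V // Q x = Q v} :=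
      (Nat.card_coe_set_eq {x : V | Q x = Q v}).symm
    rw [h6]
    exact h5
  have h4 : Nat.card (MulAction.stabilizer (isoGroup Q) v) ≤
      2 * Fintype.card F ^ m * gl (Fintype.card F) m := by
    have hwmem : w ∈ hyp Q v := mem_hyp.mpr hvw
    have hne : Q.comp (hyp Q v).subtype ≠ 0 := by
      intro h
      have h7 : (Q.comp (hyp Q v).subtype) ⟨w, hwmem⟩ = 0 := by rw [h]; rfl
      exact hw h7
    have hfr : finrank F (hyp Q v) = m + 1 := finrank_hyp h2 Q hv hm
    refine le_trans ?_ (card_isoGroup_le_odd h2 (Q.comp (hyp Q v).subtype) hne hfr)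
    refine le_trans ?_ (card_stab_le_iso h2 Q hv)
    let e : MulAction.stabilizer (isoGroup Q) v → {g : V ≃ₗ[F] V // g ∈ isoGroup Q ∧ g v = v} :=
      fun g => ⟨g.1.1, g.1.2, MulAction.mem_stabilizer_iff.mp g.2⟩
    apply Nat.card_le_card_of_injective e
    intro g g' hgg
    apply Subtype.ext
    apply Subtype.ext
    have h5 := congrArg Subtype.val hgg
    exact h5
  rw [← h1, hm, Cfsg.Agent.Lib.Helper11.LS.Bb_succ2]
  calc (MulAction.orbit (isoGroup Q) v).ncard * Nat.card (MulAction.stabilizer (isoGroup Q) v)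
      ≤ ((Fintype.card F + 1) * Fintype.card F ^ m) *
        (2 * Fintype.card F ^ m * gl (Fintype.card F) m) := Nat.mul_le_mul h3 h4
    _ = 2 * (Fintype.card F + 1) * Fintype.card F ^ (2 * m) * gl (Fintype.card F) m := by ring

/-- the orbit count for forms of rank `≥ 2` in odd characteristic -/
theorem orbit_bound_odd2 [Fintype F] (h2 : (2 : F) ≠ 0) {n : ℕ} (hn : 2 ≤ n) {W : Type*} [Fintype W]
    (Φ : W → QuadraticForm F (Fin n → F)) (hΦ : Function.Injective Φ)
    (hcl : ∀ (a : W) (g : (Fin n → F) ≃ₗ[F] (Fin n → F)), ∃ b : W, Φ b = (Φ a).comp g.toLinearMap)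
    (a₀ : W) (hr : ∃ v w, Φ a₀ v ≠ 0 ∧ Φ a₀ w ≠ 0 ∧ polar (Φ a₀) v w = 0) :
    (Fintype.card F ^ n - 1) * (Fintype.card F ^ n - Fintype.card F) ≤
      2 * (Fintype.card F + 1) * Fintype.card W := by
  have hq : 2 ≤ Fintype.card F := by
    have := Fintype.one_lt_card (α := F)
    omega
  refine Cfsg.Agent.Lib.Helper18.LSLeaf.orbit_bound_of Φ hΦ hcl a₀ (gl_eq _ hq n hn)
    (Bb_pos _ hq n) ?_
  have h := card_isoGroup_le_Bb_odd h2 (Φ a₀) hr
  rwa [Module.finrank_fin_fun] at h

/-- in odd characteristic a quadratic form has rank `≥ 2` (two orthogonal non-singular vectors)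
or is `a * f²` for a linear form `f` -/
theorem rank_dichotomy (h2 : (2 : F) ≠ 0) (Q : QuadraticForm F V) :
    (∃ v w, Q v ≠ 0 ∧ Q w ≠ 0 ∧ polar Q v w = 0) ∨
      (∃ (a : F) (f : Module.Dual F V), ∀ x, Q x = a * f x ^ 2) := by
  by_cases hQ : ∃ v, Q v ≠ 0
  · obtain ⟨v, hv⟩ := hQ
    by_cases hw : ∃ w, Q w ≠ 0 ∧ polar Q v w = 0
    · obtain ⟨w, hw1, hw2⟩ := hw
      exact Or.inl ⟨v, w, hv, hw1, hw2⟩
    · push Not at hw
      right
      have hvv := polar_self_ne h2 Q hv
      refine ⟨Q v, (polar Q v v)⁻¹ • Q.polarBilin v, fun x => ?_⟩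
      set s : F := polar Q v x / polar Q v v with hs
      have hf : ((polar Q v v)⁻¹ • Q.polarBilin v : Module.Dual F V) x = s := by
        rw [LinearMap.smul_apply, polarBilin_apply_apply, hs, smul_eq_mul, div_eq_inv_mul]
      rw [hf]
      have hy : polar Q v (x - s • v) = 0 := by
        rw [polar_sub_right, polar_smul_right, hs, smul_eq_mul, div_mul_cancel₀ _ hvv, sub_self]
      have hQy : Q (x - s • v) = 0 := by
        by_contra h
        exact hw _ h hy
      have hx : x = s • v + (x - s • v) := by abel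
      have h1 : Q (s • v + (x - s • v)) = Q (s • v) + Q (x - s • v) + polar Q (s • v) (x - s • v) := by
        unfold polar; ring
      rw [hx, h1, polar_smul_left, hy, hQy, QuadraticMap.map_smul]
      simp only [smul_eq_mul, mul_zero, add_zero]
      ring
  · push Not at hQ
    right
    exact ⟨0, 0, fun x => by rw [hQ x]; simp⟩

end Cfsg.Agent.Lib.Helper8.WLB2
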