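import Mathlib
import Cfsg.Agent.Lib.Helper8.WLB2

/-!
# S2524 Part W: the orbit count in the language of symmetric matrices

`orbit_bound_sym`: a finite set of symmetric `n × n` matrices over a finite field of odd order `q`
which is closed under `B ↦ g⁻ᵀ B g⁻¹` (`g ∈ GL_n`) and contains a matrix not of the form
`a • vecMulVec v v` has at least `(q^n - 1)(q^n - q) / (2 (q + 1))` members.
-/

set_option autoImplicit false

namespace Cfsg.Agent.Lib.Helper8.WLB3

open Matrix QuadraticMap Cfsg.Agent.Lib.Helper8.WLB2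

variable {F : Type*} [Field F] {n : ℕ}

/-- the quadratic form `x ↦ x ⬝ᵥ B *ᵥ x` -/
noncomputable def qB (B : Matrix (Fin n) (Fin n) F) : QuadraticForm F (Fin n → F) :=
  Matrix.toQuadraticForm' B

theorem qB_apply (B : Matrix (Fin n) (Fin n) F) (x : Fin n → F) : qB B x = x ⬝ᵥ (B *ᵥ x) := by
  rw [qB, Matrix.toQuadraticForm', LinearMap.BilinMap.toQuadraticMap_apply,
    Matrix.toLinearMap₂'_apply']

theorem polar_qB (B : Matrix (Fin n) (Fin n) F) (x y : Fin n → F) :
    polar (qB B) x y = x ⬝ᵥ (B *ᵥ y) + y ⬝ᵥ (B *ᵥ x) := by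
  unfold polar
  rw [qB_apply, qB_apply, qB_apply, Matrix.mulVec_add, add_dotProduct, dotProduct_add,
    dotProduct_add]
  ring

theorem dotProduct_mulVec_symm {B : Matrix (Fin n) (Fin n) F} (hB : Bᵀ = B) (x y : Fin n → F) :
    y ⬝ᵥ (B *ᵥ x) = x ⬝ᵥ (B *ᵥ y) := by
  rw [Matrix.dotProduct_mulVec, ← Matrix.mulVec_transpose, hB, dotProduct_comm]

theorem polar_qB_sym {B : Matrix (Fin n) (Fin n) F} (hB : Bᵀ = B) (x y : Fin n → F) :
    polar (qB B) x y = 2 * (x ⬝ᵥ (B *ᵥ y)) := by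
  rw [polar_qB, dotProduct_mulVec_symm hB]
  ring

theorem polar_qB_single {B : Matrix (Fin n) (Fin n) F} (hB : Bᵀ = B) (i j : Fin n) :
    polar (qB B) (Pi.single i 1) (Pi.single j 1) = 2 * B i j := by
  rw [polar_qB_sym hB]
  simp

theorem qB_injective (h2 : (2 : F) ≠ 0) {B B' : Matrix (Fin n) (Fin n) F} (hB : Bᵀ = B)
    (hB' : B'ᵀ = B') (h : qB B = qB B') : B = B' := by
  ext i j
  have h1 := polar_qB_single hB i j
  rw [h, polar_qB_single hB' i j] at h1
  exact (mul_left_cancel₀ h2 h1).symm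

theorem qB_comp (B : Matrix (Fin n) (Fin n) F) (g : (Fin n → F) →ₗ[F] (Fin n → F)) :
    (qB B).comp g = qB ((LinearMap.toMatrix' g)ᵀ * B * LinearMap.toMatrix' g) := by
  ext x
  rw [QuadraticMap.comp_apply, qB_apply, qB_apply]
  have h1 : g x = LinearMap.toMatrix' g *ᵥ x := (LinearMap.toMatrix'_mulVec g x).symm
  rw [h1, ← Matrix.mulVec_mulVec, ← Matrix.mulVec_mulVec, Matrix.dotProduct_mulVec x,
    Matrix.vecMul_transpose]

theorem qB_rankone (a : F) (v x : Fin n → F) : qB (a • vecMulVec v v) x = a * (v ⬝ᵥ x) ^ 2 := by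
  rw [qB_apply, Matrix.smul_mulVec, dotProduct_smul, Matrix.vecMulVec_mulVec]
  simp only [smul_eq_mul]
  rw [dotProduct_smul, MulOpposite.smul_eq_mul_unop, MulOpposite.unop_op, dotProduct_comm x v]
  ring

theorem vecMulVec_transpose' (v : Fin n → F) : (vecMulVec v v)ᵀ = vecMulVec v v := by
  ext i j
  simp [vecMulVec_apply, mul_comm]

/-- a symmetric matrix not of rank `≤ 1` gives a form of rank `≥ 2` -/
theorem hr_of_not_rankone (h2 : (2 : F) ≠ 0) {B : Matrix (Fin n) (Fin n) F} (hB : Bᵀ = B)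
    (hno : ¬ ∃ (a : F) (v : Fin n → F), B = a • vecMulVec v v) :
    ∃ v w, qB B v ≠ 0 ∧ qB B w ≠ 0 ∧ polar (qB B) v w = 0 := by
  rcases rank_dichotomy h2 (qB B) with h | ⟨a, f, hf⟩
  · exact h
  · exfalso
    apply hno
    refine ⟨a, fun i => f (Pi.single i 1), ?_⟩
    apply qB_injective h2 hB
    · rw [transpose_smul, vecMulVec_transpose']
    · ext x
      rw [hf x, qB_rankone]
      congr 2
      have hx : x = ∑ i, x i • (Pi.single i 1 : Fin n → F) := by
        ext j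
        simp [Finset.sum_apply, Pi.single_apply]
      conv_lhs => rw [hx]
      rw [map_sum]
      unfold dotProduct
      refine Finset.sum_congr rfl fun i _ => ?_
      rw [map_smul, smul_eq_mul, mul_comm]

/-- **the orbit count for symmetric matrices** (indexed family): a family of symmetric matrices
closed under `B ↦ g⁻ᵀ B g⁻¹` containing a matrix not of rank `≤ 1` has at least
`(q^n - 1)(q^n - q) / (2 (q + 1))` members -/
theorem orbit_bound_symT [Fintype F] (h2 : (2 : F) ≠ 0) (hn : 2 ≤ n) {ι : Type*} [Fintype ι]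
    (Ψ : ι → Matrix (Fin n) (Fin n) F) (hinj : Function.Injective Ψ) (hsym : ∀ i, (Ψ i)ᵀ = Ψ i)
    (hcl : ∀ (i : ι) (g : GL (Fin n) F), ∃ j, Ψ j =
      ((g⁻¹ : GL (Fin n) F) : Matrix (Fin n) (Fin n) F)ᵀ * Ψ i *
        ((g⁻¹ : GL (Fin n) F) : Matrix (Fin n) (Fin n) F))
    (i₀ : ι) (hno : ¬ ∃ (a : F) (v : Fin n → F), Ψ i₀ = a • vecMulVec v v) :
    (Fintype.card F ^ n - 1) * (Fintype.card F ^ n - Fintype.card F) ≤
      2 * (Fintype.card F + 1) * Fintype.card ι := by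
  refine orbit_bound_odd2 h2 hn (fun i => qB (Ψ i)) ?_ ?_ i₀ (hr_of_not_rankone h2 (hsym i₀) hno)
  · intro i j hij
    exact hinj (qB_injective h2 (hsym i) (hsym j) hij)
  · intro i g
    set M : Matrix (Fin n) (Fin n) F := LinearMap.toMatrix' g.symm.toLinearMap with hM
    set M' : Matrix (Fin n) (Fin n) F := LinearMap.toMatrix' g.toLinearMap with hM'
    have hMM' : M * M' = 1 := by
      rw [hM, hM', ← LinearMap.toMatrix'_comp]
      have : g.symm.toLinearMap ∘ₗ g.toLinearMap = LinearMap.id := by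
        ext v : 1
        simp
      rw [this, LinearMap.toMatrix'_id]
    have hM'M : M' * M = 1 := by
      rw [hM, hM', ← LinearMap.toMatrix'_comp]
      have : g.toLinearMap ∘ₗ g.symm.toLinearMap = LinearMap.id := by
        ext v : 1
        simp
      rw [this, LinearMap.toMatrix'_id]
    obtain ⟨j, hj⟩ := hcl i ⟨M, M', hMM', hM'M⟩
    refine ⟨j, ?_⟩
    show qB (Ψ j) = (qB (Ψ i)).comp g.toLinearMap
    rw [qB_comp, hj]
    rfl

/-- the orbit count for a finite set of symmetric matrices -/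
theorem orbit_bound_sym [Fintype F] (h2 : (2 : F) ≠ 0) (hn : 2 ≤ n)
    (W : Finset (Matrix (Fin n) (Fin n) F)) (hsym : ∀ B ∈ W, Bᵀ = B)
    (hcl : ∀ B ∈ W, ∀ g : GL (Fin n) F,
      ((g⁻¹ : GL (Fin n) F) : Matrix (Fin n) (Fin n) F)ᵀ * B *
        ((g⁻¹ : GL (Fin n) F) : Matrix (Fin n) (Fin n) F) ∈ W)
    {B₀ : Matrix (Fin n) (Fin n) F} (hB₀ : B₀ ∈ W)
    (hno : ¬ ∃ (a : F) (v : Fin n → F), B₀ = a • vecMulVec v v) :
    (Fintype.card F ^ n - 1) * (Fintype.card F ^ n - Fintype.card F) ≤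
      2 * (Fintype.card F + 1) * W.card := by
  have h := orbit_bound_symT h2 hn (ι := {B // B ∈ W}) (fun B => B.1) Subtype.val_injective
    (fun B => hsym B.1 B.2) (fun B g => ⟨⟨_, hcl B.1 B.2 g⟩, rfl⟩) ⟨B₀, hB₀⟩ hno
  rwa [Fintype.card_coe] at h

end Cfsg.Agent.Lib.Helper8.WLB3
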