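import Mathlib
import Cfsg.Agent.Lib.Helper10.WGDefs
import Cfsg.Agent.Lib.Helper17.WGWD
import Cfsg.Agent.Lib.Helper23.WGLVW
import Cfsg.Agent.Lib.Helper8.WLB3

/-!
# S2524 leaf PW: modules of dimension `< (q^n - 1)(q^n - q) / (2 (q + 1))` are (W)-modules

The weights of the Siegel radical that occur are closed under the Levi factor (`LvG_mem_wt`), the weight spaces
are independent (`wtProj`), so at most `dim V` weights occur; a symmetric matrix not of the form `a v vᵀ`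
has at least `(q^n - 1)(q^n - q) / (2 (q + 1))` images (`WLB3.orbit_bound_symT`).
-/

set_option autoImplicit false

namespace Cfsg.Agent.Lib.Helper8.WGPW

open Matrix Cfsg.Agent.Lib.Helper11.LS Cfsg.Agent.Lib.Helper10.WG

universe u

variable {F : Type*} [Field F] [Fintype F] [DecidableEq F]

/-- the weight spaces of the Siegel radical are independent -/
theorem iSupIndep_wt {n : ℕ} {V : Type u} [AddCommGroup V] [Module ℂ V] (h2 : (2 : F) ≠ 0)
    (ψ : AddChar F ℂ) (hψ : ψ.IsPrimitive) (ρ : Representation ℂ (SpG F n) V) :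
    iSupIndep (fun B : SymM F n => wt ψ ρ B.1) := by
  intro B
  rw [Submodule.disjoint_def]
  intro x hx hx'
  have hle : (⨆ (j : SymM F n) (_ : j ≠ B), wt ψ ρ j.1) ≤ LinearMap.ker (wtProj ψ ρ B.1) := by
    refine iSup_le fun j => iSup_le fun hj => ?_
    intro y hy
    rw [LinearMap.mem_ker]
    refine Cfsg.Agent.Lib.Helper17.WGWD.wtProj_of_mem_ne h2 ψ hψ ρ B.1 j.1 B.2 j.2 ?_ y hy
    intro h
    exact hj (Subtype.ext h.symm)
  have h1 := hle hx'
  rw [LinearMap.mem_ker, Cfsg.Agent.Lib.Helper17.WGWD.wtProj_of_mem ψ ρ B.1 x hx] at h1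
  exact h1

/-- (PW) a module of dimension less than `(q^n - 1)(q^n - q) / (2 (q + 1))` is a (W)-module -/
theorem isW_of_finrank_lt {n : ℕ} (hn : 2 ≤ n) {V : Type u} [AddCommGroup V] [Module ℂ V]
    [FiniteDimensional ℂ V] (h2 : (2 : F) ≠ 0) (ψ : AddChar F ℂ) (hψ : ψ.IsPrimitive)
    (ρ : Representation ℂ (SpG F n) V)
    (hd : 2 * (Fintype.card F + 1) * Module.finrank ℂ V <
      (Fintype.card F ^ n - 1) * (Fintype.card F ^ n - Fintype.card F)) : IsW ψ ρ := by
  classical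
  intro B hB hne
  by_contra hno
  have hcard := (iSupIndep_wt h2 ψ hψ ρ).subtype_ne_bot_le_finrank
  have key := Cfsg.Agent.Lib.Helper8.WLB3.orbit_bound_symT h2 hn
    (ι := {B : SymM F n // wt ψ ρ B.1 ≠ ⊥}) (fun B => B.1.1)
    (fun a b h => Subtype.ext (Subtype.ext h)) (fun B => B.1.2)
    (fun i g => by
      have hsym : ((((g⁻¹ : GL (Fin n) F) : Matrix (Fin n) (Fin n) F)ᵀ * i.1.1 *
          ((g⁻¹ : GL (Fin n) F) : Matrix (Fin n) (Fin n) F)))ᵀ =
          ((g⁻¹ : GL (Fin n) F) : Matrix (Fin n) (Fin n) F)ᵀ * i.1.1 *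
          ((g⁻¹ : GL (Fin n) F) : Matrix (Fin n) (Fin n) F) := by
        rw [Matrix.transpose_mul, Matrix.transpose_mul, Matrix.transpose_transpose, i.1.2,
          Matrix.mul_assoc]
      have hne' : wt ψ ρ (((g⁻¹ : GL (Fin n) F) : Matrix (Fin n) (Fin n) F)ᵀ * i.1.1 *
          ((g⁻¹ : GL (Fin n) F) : Matrix (Fin n) (Fin n) F)) ≠ ⊥ := by
        obtain ⟨v, hv, hv0⟩ := (Submodule.ne_bot_iff _).mp i.2
        refine (Submodule.ne_bot_iff _).mpr
          ⟨ρ (LvG g) v, Cfsg.Agent.Lib.Helper23.WGLVW.LvG_mem_wt ψ ρ g i.1.1 v hv, ?_⟩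
        intro h0
        apply hv0
        have h3 : ρ (LvG g)⁻¹ (ρ (LvG g) v) = v := by
          rw [← Module.End.mul_apply, ← map_mul, inv_mul_cancel, map_one]
          rfl
        rw [← h3, h0, map_zero]
      exact ⟨⟨⟨_, hsym⟩, hne'⟩, rfl⟩)
    ⟨⟨B, hB⟩, hne⟩ hno
  have h3 : 2 * (Fintype.card F + 1) * Fintype.card {B : SymM F n // wt ψ ρ B.1 ≠ ⊥} ≤
      2 * (Fintype.card F + 1) * Module.finrank ℂ V := Nat.mul_le_mul_left _ hcard
  omega

end Cfsg.Agent.Lib.Helper8.WGPW
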