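import Mathlib
import Cfsg.Agent.Lib.Helper25.WeilDefs
import Cfsg.Agent.Lib.Helper5.SympGen2
import Cfsg.Agent.Lib.Helper25.WeilMain
import Cfsg.Agent.Lib.Helper25.WeilSp

/-!
# S2524 leaf WEILP: the even part of the Weil representation of `Sp_{2n}(q)`, `q` odd

`symp_exists_plus`: an irreducible representation of degree `(q^n + 1)/2`; the `plus = ker (E - N)` twin of
`Helper25.WeilSp.symp_exists` (`finrank_plus`, `plus_irreducible`, `exists_irreducible_plus`).
-/

set_option autoImplicit false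

open Cfsg.Agent.Lib.Helper25.Weil Module
open Cfsg.Agent.Lib.Helper25.WeilLeaf Cfsg.Agent.Lib.Helper23.WeilLeaf Cfsg.Agent.Lib.Helper6.WeilLeaf
  Cfsg.Agent.Lib.Helper9.WeilLeaf Cfsg.Agent.Lib.Helper7.WeilLeaf Cfsg.Agent.Lib.Helper18.WeilLeaf

namespace Cfsg.Agent.Lib.Helper8.WGWEILP

section abstract

variable {F V : Type*} [Field F] [AddCommGroup V] [Module F V] {S : Setting F V}
variable {M : Type*} [AddCommGroup M] [Module ℂ M]

/-- the even part: the eigenspace of `E` for the eigenvalue `finrank M` -/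
noncomputable def plus [Fintype V] (𝒲 : S.Weyl M) : Submodule ℂ M :=
  LinearMap.ker (𝒲.E - (Module.finrank ℂ M : ℂ) • (1 : Module.End ℂ M))

theorem mem_plus [Fintype V] (𝒲 : S.Weyl M) (x : M) :
    x ∈ plus 𝒲 ↔ 𝒲.E x - (Module.finrank ℂ M : ℂ) • x = 0 := by
  unfold plus
  rw [LinearMap.mem_ker, LinearMap.sub_apply, LinearMap.smul_apply, Module.End.one_apply]

/-- the dimension of the even part -/
theorem finrank_plus [Fintype V] (𝒲 : S.Weyl M)
    (hN : finrank ℂ M * finrank ℂ M = Fintype.card V)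
    (hEE : 𝒲.E * 𝒲.E = (Fintype.card V : ℂ) • 1)
    (htr : ∀ v : V, v ≠ 0 → LinearMap.trace ℂ M (𝒲.W v) = 0) :
    2 * finrank ℂ (plus 𝒲) = finrank ℂ M + 1 := by
  classical
  set N : ℕ := finrank ℂ M with hNdef
  have hNpos : 0 < N := by
    rcases Nat.eq_zero_or_pos N with h | h
    · exfalso
      rw [h, mul_zero] at hN
      exact (Fintype.card_ne_zero (α := V)) hN.symm
    · exact h
  have : Module.Finite ℂ M := Module.finite_of_finrank_pos hNpos
  have hNc : (N : ℂ) ≠ 0 := by exact_mod_cast hNpos.ne'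
  have hEE' : 𝒲.E * 𝒲.E = ((N : ℂ) * (N : ℂ)) • (1 : Module.End ℂ M) := by
    rw [hEE, ← hN]; push_cast; rfl
  -- trace of `E`
  have htrE : LinearMap.trace ℂ M 𝒲.E = (N : ℂ) := by
    unfold Setting.Weyl.E
    rw [map_sum, Finset.sum_eq_single (0 : V)]
    · rw [𝒲.W_zero, LinearMap.trace_one ℂ M]
    · intro v _ hv; exact htr v hv
    · intro h; exact absurd (Finset.mem_univ _) h
  -- the projection onto the even part
  set P : Module.End ℂ M := (2 * (N : ℂ))⁻¹ • ((N : ℂ) • (1 : Module.End ℂ M) + 𝒲.E) with hP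
  have h2N : (2 * (N : ℂ)) ≠ 0 := mul_ne_zero two_ne_zero hNc
  have hproj : LinearMap.IsProj (plus 𝒲) P := by
    constructor
    · intro x
      rw [mem_plus, ← hNdef]
      have h1 : (𝒲.E - (N : ℂ) • (1 : Module.End ℂ M)) * ((N : ℂ) • (1 : Module.End ℂ M) + 𝒲.E)
          = 0 := by
        rw [sub_mul, mul_add, mul_add, hEE', smul_mul_smul_comm, mul_one, smul_mul_assoc, one_mul,
          mul_smul_comm, mul_one]
        abel
      have h1' : (𝒲.E - (N : ℂ) • (1 : Module.End ℂ M)) * P = 0 := by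
        rw [hP, mul_smul_comm, h1, smul_zero]
      have h2 : (𝒲.E - (N : ℂ) • (1 : Module.End ℂ M)) (P x) = 0 := by
        rw [← Module.End.mul_apply, h1', LinearMap.zero_apply]
      generalize P x = y at h2 ⊢
      rw [LinearMap.sub_apply, LinearMap.smul_apply, Module.End.one_apply] at h2
      exact h2
    · intro x hx
      have hE : 𝒲.E x = (N : ℂ) • x := sub_eq_zero.mp ((mem_plus 𝒲 x).1 hx)
      rw [hP, LinearMap.smul_apply, LinearMap.add_apply, LinearMap.smul_apply,
        Module.End.one_apply, hE, ← add_smul, smul_smul, ← two_mul,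
        inv_mul_cancel₀ h2N, one_smul]
  have htrP : LinearMap.trace ℂ M P = (finrank ℂ (plus 𝒲) : ℂ) := hproj.trace
  have htrP' : LinearMap.trace ℂ M P = (2 * (N : ℂ))⁻¹ * ((N : ℂ) * (N : ℂ) + (N : ℂ)) := by
    rw [hP, map_smul, map_add, map_smul, LinearMap.trace_one ℂ M, htrE, smul_eq_mul, smul_eq_mul]
  have hfin : (2 : ℂ) * (finrank ℂ (plus 𝒲) : ℂ) = (N : ℂ) + 1 := by
    rw [← htrP, htrP']
    field_simp
  exact_mod_cast hfin

/-- the even part of a Weil representation is irreducible -/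
theorem plus_irreducible [Fintype V] [FiniteDimensional ℂ M] (𝒲 : S.Weyl M)
    {G : Type*} [Group G] [Finite G]
    (ω : G →* (Module.End ℂ M)ˣ)
    (hcomm : ∀ T : Module.End ℂ M, (∀ g, T * (ω g : Module.End ℂ M) = (ω g : Module.End ℂ M) * T) →
      ∃ a b : ℂ, T = a • 1 + b • 𝒲.E)
    (U : Submodule ℂ M) (hU : U ≤ plus 𝒲)
    (hinv : ∀ g, ∀ x ∈ U, (ω g : Module.End ℂ M) x ∈ U) : U = ⊥ ∨ U = plus 𝒲 := by
  classical
  by_cases hbot : U = ⊥
  · exact Or.inl hbot
  right
  obtain ⟨π, hπU, hπid, hπc⟩ := exists_equivariant_projection ω U hinv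
  obtain ⟨a, b, hab⟩ := hcomm π hπc
  -- on the even part `π` is the scalar `a + b N`
  have hscal : ∀ x ∈ plus 𝒲, π x = (a + b * (finrank ℂ M : ℂ)) • x := by
    intro x hx
    have hE : 𝒲.E x = (finrank ℂ M : ℂ) • x := sub_eq_zero.mp ((mem_plus 𝒲 x).1 hx)
    rw [hab, LinearMap.add_apply, LinearMap.smul_apply, LinearMap.smul_apply, Module.End.one_apply,
      hE, smul_smul, add_smul]
  obtain ⟨x, hxU, hx0⟩ := (Submodule.ne_bot_iff U).1 hbot
  have hone : a + b * (finrank ℂ M : ℂ) = 1 := by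
    have h1 := hscal x (hU hxU)
    rw [hπid x hxU] at h1
    have h2 : ((a + b * (finrank ℂ M : ℂ)) - 1) • x = 0 := by
      rw [sub_smul, one_smul, ← h1, sub_self]
    rcases smul_eq_zero.1 h2 with h | h
    · exact sub_eq_zero.1 h
    · exact absurd h hx0
  apply le_antisymm hU
  intro y hy
  have := hπU y
  rw [hscal y hy, hone, one_smul] at this
  exact this

/-! ### the abstract assembly (twin of `Helper25.WeilMain.exists_irreducible`) -/

set_option linter.unusedSectionVars false in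
set_option linter.unusedVariables false in
theorem exists_irreducible_plus [Fintype F] [Fintype V] (S : Setting F V) {p : ℕ} [Fact p.Prime]
    [CharP F p]
    {G : Type*} [Group G] [Finite G] [DistribMulAction G V] [SMulCommClass G F V]
    (hiso : ∀ (g : G) (u v : V), S.B (g • u) (g • v) = S.B u v)
    (hgen : Subgroup.closure {g : G | ∃ (w : V) (c : F), ∀ x : V, g • x = x + (c * S.B x w) • w} = ⊤)
    (htrans : ∀ u v : V, u ≠ 0 → v ≠ 0 → ∃ g : G, g • u = v)
    (N : ℕ) (hN : N * N = Fintype.card V) (hN3 : 3 ≤ N) :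
    ∃ ρ : Representation ℂ G (Fin ((N + 1) / 2) → ℂ), ρ.IsIrreducible := by
  classical
  -- a Sylow subgroup and its Lagrangian
  obtain ⟨P⟩ : Nonempty (Sylow p G) := inferInstance
  have hPp : IsPGroup p (P : Subgroup G) := P.isPGroup'
  have hidx : ¬ p ∣ (P : Subgroup G).index := P.not_dvd_index
  obtain ⟨Y, hYiso, hYstab, hYcard⟩ := exists_lagrangian S (P := (P : Subgroup G)) hPp
    (fun g u v => hiso (g : G) u v)
  -- the model
  have hcV : Nat.card V = Fintype.card V := Nat.card_eq_fintype_card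
  have hfin := finrank_model S Y hYiso
  have hYpos : 0 < Nat.card Y := Nat.card_pos
  have hNY : N = Nat.card Y := by
    have h1 : N * N = Nat.card Y * Nat.card Y := by rw [hN, hYcard, hcV]
    exact Nat.mul_self_inj.mp h1
  have hfM : finrank ℂ (S.model Y) = N := by
    rw [← hYcard] at hfin
    rw [hNY]
    exact Nat.eq_of_mul_eq_mul_right hYpos hfin
  have hNN : finrank ℂ (S.model Y) * finrank ℂ (S.model Y) = Fintype.card V := by
    rw [hfM, hN]
  have hnt : Nontrivial (S.model Y) := Module.nontrivial_of_finrank_pos (R := ℂ) (by rw [hfM]; omega)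
  set 𝒲 := S.modelW Y with h𝒲
  have hli := linearIndependent_W 𝒲
  have hspan := exists_eq_sum 𝒲 hli hNN
  -- the finite rank is a power of p
  obtain ⟨a, ha⟩ : ∃ a, N = p ^ a := by
    obtain ⟨k, hp, hk⟩ := FiniteField.card F p
    have h1 : Fintype.card V = p ^ ((k : ℕ) * finrank F V) := by
      rw [Module.card_eq_pow_finrank (K := F) (V := V), hk, pow_mul]
    have h2 : N ∣ p ^ ((k : ℕ) * finrank F V) := by
      rw [← h1, ← hN]
      exact Dvd.intro _ rfl
    obtain ⟨a, -, ha⟩ := (Nat.dvd_prime_pow hp).mp h2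
    exact ⟨a, ha⟩
  -- the lift over the Sylow subgroup
  obtain ⟨τ, hτ⟩ := exists_lift S (P := (P : Subgroup G)) (fun g u v => hiso (g : G) u v) Y hYstab
  -- the homomorphism
  obtain ⟨ω, hω⟩ := exists_hom_of_projective p a (hfM.trans ha) (𝒲.implGroup G)
    (fun g => exists_impl 𝒲 hgen g)
    (by
      intro c g T hT
      rw [Setting.Weyl.mem_implGroup] at hT ⊢
      exact Setting.Weyl.Impl.smul 𝒲 hT (c : ℂ))
    (by
      intro T hT
      rw [Setting.Weyl.mem_implGroup] at hT
      apply schur 𝒲 hli hspan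
      intro v
      have := hT v
      simp only [one_smul] at this
      exact this)
    (P : Subgroup G) hPp hidx τ (fun g => hτ g)
  have hω' : ∀ g, 𝒲.Impl (fun v => g • v) (ω g : Module.End ℂ (S.model Y)) := fun g => hω g
  -- the even part
  have hEE := E_mul_E 𝒲
  have hfm := finrank_plus 𝒲 hNN hEE (fun v hv => trace_W 𝒲 hv)
  have hk : finrank ℂ (plus 𝒲) = (N + 1) / 2 := by
    rw [hfM] at hfm
    omega
  have hEc : ∀ g, (ω g : Module.End ℂ (S.model Y)) * 𝒲.E = 𝒲.E * (ω g : Module.End ℂ (S.model Y)) :=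
    fun g => E_comm_of_impl 𝒲 (MulAction.bijective g) (hω' g)
  have hinv : ∀ g, ∀ x ∈ plus 𝒲, (ω g : Module.End ℂ (S.model Y)) x ∈ plus 𝒲 := by
    intro g x hx
    rw [mem_plus] at hx ⊢
    have h1 : 𝒲.E ((ω g : Module.End ℂ (S.model Y)) x) =
        (ω g : Module.End ℂ (S.model Y)) (𝒲.E x) := by
      have := congrArg (fun T : Module.End ℂ (S.model Y) => T x) (hEc g)
      exact this.symm
    rw [h1, ← map_smul, ← map_sub, hx, map_zero]
  have hcomm : ∀ T : Module.End ℂ (S.model Y),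
      (∀ g, T * (ω g : Module.End ℂ (S.model Y)) = (ω g : Module.End ℂ (S.model Y)) * T) →
      ∃ a b : ℂ, T = a • 1 + b • 𝒲.E := by
    intro T hT
    exact commutant 𝒲 hli hspan htrans (fun g => (ω g : Module.End ℂ (S.model Y))) hω'
      (fun g => (ω g).isUnit) T hT
  refine exists_rep_of_invariant ω (plus 𝒲) hinv ?_ ((N + 1) / 2) hk (by omega)
  intro U' hU' hinv'
  exact plus_irreducible 𝒲 ω hcomm U' hU' hinv'

end abstract

section symp

open Matrix Cfsg.Agent.Lib.Helper25.WeilSp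

variable {F : Type*} [Field F] [Fintype F] [DecidableEq F]

/-- (WEILP) the even part of the Weil representation: an irreducible representation of degree
`(q ^ n + 1) / 2` -/
theorem symp_exists_plus (n : ℕ) (hn : 1 ≤ n) (hodd : Odd (Fintype.card F)) :
    ∃ ρ : Representation ℂ (Matrix.symplecticGroup (Fin n) F)
      (Fin ((Fintype.card F ^ n + 1) / 2) → ℂ), ρ.IsIrreducible := by
  classical
  obtain ⟨p, hp⟩ := CharP.exists F
  have hpp : p.Prime := by
    obtain ⟨m, hpp, -⟩ := FiniteField.card F p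
    exact hpp
  have : Fact p.Prime := ⟨hpp⟩
  have h2 : (2 : F) ≠ 0 := by
    intro h
    have h3 : ((2 : ℕ) : F) = 0 := by exact_mod_cast h
    have h4 : p ∣ 2 := (CharP.cast_eq_zero_iff F p 2).mp h3
    obtain ⟨m, -, hm⟩ := FiniteField.card F p
    have h5 : p = 2 := (Nat.prime_dvd_prime_iff_eq hpp Nat.prime_two).mp h4
    rw [hm, h5] at hodd
    have h6 : (m : ℕ) ≠ 0 := m.ne_zero
    exact (Nat.not_even_iff_odd.mpr hodd) ((Nat.even_pow.mpr ⟨even_two, h6⟩))
  have hq3 : 3 ≤ Fintype.card F := by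
    have h1 : 1 < Fintype.card F := Fintype.one_lt_card
    rcases hodd with ⟨k, hk⟩
    omega
  have hN3 : 3 ≤ Fintype.card F ^ n := by
    calc 3 ≤ Fintype.card F ^ 1 := by rw [pow_one]; exact hq3
      _ ≤ Fintype.card F ^ n := Nat.pow_le_pow_right (by omega) hn
  have hcard : Fintype.card F ^ n * Fintype.card F ^ n = Fintype.card (Fin n ⊕ Fin n → F) := by
    rw [Fintype.card_fun, Fintype.card_sum, Fintype.card_fin, pow_add]
  refine exists_irreducible_plus (sympSetting n h2) (p := p)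
    (G := Matrix.symplecticGroup (Fin n) F) ?_ ?_ ?_ (Fintype.card F ^ n) hcard hN3
  · intro g u v
    exact Cfsg.Agent.Lib.Helper5.sympForm_mulVec_of_mem g.2 u v
  · rw [eq_top_iff, ← Cfsg.Agent.Lib.Helper5.transvGroup_eq_top]
    apply Subgroup.closure_mono
    rintro A ⟨w, c, hA⟩
    refine ⟨w, c, fun x => ?_⟩
    show (A : Matrix (Fin n ⊕ Fin n) (Fin n ⊕ Fin n) F) *ᵥ x = _
    rw [hA, Cfsg.Agent.Lib.Helper5.sympTransvection_mulVec]
    rfl
  · intro u v hu hv
    obtain ⟨A, -, hA⟩ := Cfsg.Agent.Lib.Helper5.transv_trans1 u v hu hv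
    exact ⟨A, hA⟩

end symp

end Cfsg.Agent.Lib.Helper8.WGWEILP
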