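import Mathlib
import Cfsg.Prelude.Def_ClassicalGeometry
import Cfsg.Prelude.Def_GeometricClasses
import Cfsg.Agent.Lib.Helper19.OSubDefs
import Cfsg.Agent.Lib.Helper19.OSubBasic
import Cfsg.Agent.Lib.Helper19.OSubDescent

/-!
helper8: leaves BR1 (`omegaGL_smul`) and BR2 (`smul_nondeg`) of helper19's S5702 round-2 market
(`notes/S5702_leaves.lean`): scaling a quadratic form by a nonzero scalar changes neither `Ω` nor
nondegeneracy.
-/

set_option autoImplicit false
set_option linter.unusedSectionVars false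

namespace Cfsg.Agent.Lib.Helper8.OSubLeaf19
open Cfsg Matrix QuadraticMap Module Cfsg.Agent.Lib.Helper19.OSub

variable {ι : Type} [Fintype ι] [DecidableEq ι] {F : Type*} [Field F]

theorem isometryGroup_smul (Q : QuadraticForm F (ι → F)) {ζ : F} (hζ : ζ ≠ 0) :
    Cfsg.isometryGroup F ⇑(ζ • Q) = Cfsg.isometryGroup F ⇑Q := by
  ext g
  constructor
  · intro hg u v
    have := hg u v
    simp only [_root_.smul_apply, smul_eq_mul] at this
    exact mul_left_cancel₀ hζ this
  · intro hg u v
    have e : Q ((Units.coeHom (Matrix ι ι F)) g *ᵥ u) = Q u := hg u v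
    simp only [_root_.smul_apply, smul_eq_mul]
    rw [e]

/-- BR1 -/
theorem omegaGL_smul (Q : QuadraticForm F (ι → F)) {ζ : F} (hζ : ζ ≠ 0) :
    Cfsg.Geo.omegaGL ⇑(ζ • Q) = Cfsg.Geo.omegaGL ⇑Q := by
  rw [omegaGL_eq_comm, omegaGL_eq_comm, isometryGroup_smul Q hζ]

theorem polar_smul_form (Q : QuadraticForm F (ι → F)) (ζ : F) (x y : ι → F) :
    polar (ζ • Q) x y = ζ * polar Q x y := by
  unfold polar
  simp only [_root_.smul_apply, smul_eq_mul]
  ring

/-- BR2 -/
theorem smul_nondeg (Q : QuadraticForm F (ι → F)) {ζ : F} (hζ : ζ ≠ 0)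
    (hQ : (polarBilin Q).Nondegenerate) : (polarBilin (ζ • Q)).Nondegenerate := by
  constructor
  · intro u hu
    apply hQ.1
    intro y
    have := hu y
    rw [polarBilin_apply_apply, polar_smul_form] at this
    rw [polarBilin_apply_apply]
    exact (mul_eq_zero.mp this).resolve_left hζ
  · intro u hu
    apply hQ.2
    intro y
    have := hu y
    rw [polarBilin_apply_apply, polar_smul_form] at this
    rw [polarBilin_apply_apply]
    exact (mul_eq_zero.mp this).resolve_left hζ

end Cfsg.Agent.Lib.Helper8.OSubLeaf19
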