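import Mathlib
import Cfsg.Agent.Lib.Helper11.Om2Rel
import Cfsg.Agent.Lib.Helper11.Om2I5Tools

/-!
helper8: sub-leaf HB of step (I), `m = 4`, of market "OM2" (S2146, planner helper11): a hyperbolic basis
`a, b, a', b'` of a complement of a totally singular line `l = {0, x, y, x + y}` in `l^⊥`, with the
coordinate formula modulo `l`.
-/

set_option autoImplicit false

namespace Cfsg.Agent.Lib.Helper8.Om2Leaf

open Cfsg.Agent.Lib.Helper11.Om2 MulAction

variable {F V G : Type*} [Field F] [AddCommGroup V] [Module F V] [Group G] [DistribMulAction G V]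
  (S : Setting F V G)

/-- halving: a functional `B c ·` which takes the value `1` on a translation vector of `P` cuts `P` in half -/
theorem card_halve [Finite V] (P : V → Prop) (c u0 : V) (hP : ∀ u, P u → P (u + u0))
    (h1 : S.B c u0 = 1) :
    Nat.card {u : V // P u} = 2 * Nat.card {u : V // P u ∧ S.B c u = 0} := by
  have : Finite F := S.finite_F
  have hPt : ∀ (t : F) u, P u → P (u + t • u0) := by
    intro t u hu
    rcases S.h01 t with rfl | rfl
    · simpa using hu
    · simpa using hP u hu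
  let e : {u : V // P u} ≃ {u : V // P u ∧ S.B c u = 0} × F :=
    { toFun := fun u => (⟨u.1 + S.B c u.1 • u0, hPt _ _ u.2, by
          rw [S.Badd_right, S.Bsmul_right, h1, mul_one, S.fadd_self]⟩, S.B c u.1)
      invFun := fun p => ⟨p.1.1 + p.2 • u0, hPt _ _ p.1.2.1⟩
      left_inv := by
        intro u
        apply Subtype.ext
        simp only
        rw [add_assoc, ← add_smul, S.fadd_self, zero_smul, add_zero]
      right_inv := by
        rintro ⟨⟨w, hw, hw0⟩, t⟩
        have hc : S.B c (w + t • u0) = t := by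
          rw [S.Badd_right, S.Bsmul_right, h1, mul_one, hw0, zero_add]
        apply Prod.ext
        · apply Subtype.ext
          simp only
          rw [hc, add_assoc, ← add_smul, S.fadd_self, zero_smul, add_zero]
        · exact hc }
  rw [Nat.card_congr e, Nat.card_prod, S.natCard_F, mul_comm]

/-- the flip `u ↦ u + z`: counting singular vectors in `P` and in `P ∩ z^⊥` -/
theorem card_sing_flip [Finite V] (P : V → Prop) (z u0 : V) (hz : S.Q z = 0)
    (hPz : ∀ u, P u → P (u + z)) (hPu : ∀ u, P u → P (u + u0)) (h1 : S.B z u0 = 1) :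
    2 * Nat.card {u : V // P u ∧ S.Q u = 0} =
      2 * Nat.card {u : V // (P u ∧ S.B z u = 0) ∧ S.Q u = 0} +
        Nat.card {u : V // P u ∧ S.B z u = 0} := by
  classical
  have : Fintype V := Fintype.ofFinite V
  simp only [Nat.card_eq_fintype_card, Fintype.card_subtype]
  set A := Finset.univ.filter (fun u : V => P u ∧ S.Q u = 0) with hA
  set A0 := Finset.univ.filter (fun u : V => (P u ∧ S.B z u = 0) ∧ S.Q u = 0) with hA0
  set A1 := Finset.univ.filter (fun u : V => (P u ∧ ¬ S.B z u = 0) ∧ S.Q u = 0) with hA1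
  set C1 := Finset.univ.filter (fun u : V => (P u ∧ ¬ S.B z u = 0) ∧ ¬ S.Q u = 0) with hC1
  set D0 := Finset.univ.filter (fun u : V => P u ∧ S.B z u = 0) with hD0
  set D1 := Finset.univ.filter (fun u : V => P u ∧ ¬ S.B z u = 0) with hD1
  have e1 : A.card = A0.card + A1.card := by
    have h := Finset.card_filter_add_card_filter_not (s := A) (fun u : V => S.B z u = 0)
    rw [← h]
    congr 1
    · congr 1
      rw [hA, hA0, Finset.filter_filter]
      apply Finset.filter_congr
      intro u _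
      tauto
    · congr 1
      rw [hA, hA1, Finset.filter_filter]
      apply Finset.filter_congr
      intro u _
      tauto
  have e2 : D1.card = A1.card + C1.card := by
    have h := Finset.card_filter_add_card_filter_not (s := D1) (fun u : V => S.Q u = 0)
    rw [← h]
    congr 1
    · congr 1
      rw [hD1, hA1, Finset.filter_filter]
    · congr 1
      rw [hD1, hC1, Finset.filter_filter]
  have e3 : A1.card = C1.card := by
    apply Finset.card_nbij' (fun u => u + z) (fun u => u + z)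
    · intro u hu
      simp only [hA1, hC1, Finset.coe_filter, Finset.mem_univ, true_and, Set.mem_ofPred_eq] at hu ⊢
      obtain ⟨⟨hPu', hb⟩, hq⟩ := hu
      have hb1 : S.B z u = 1 := S.eq_one_of_ne_zero hb
      refine ⟨⟨hPz u hPu', ?_⟩, ?_⟩
      · rw [S.Badd_right, S.alt, add_zero]; exact hb
      · rw [S.Q_add, hq, hz, S.B_symm, hb1]; simp
    · intro u hu
      simp only [hA1, hC1, Finset.coe_filter, Finset.mem_univ, true_and, Set.mem_ofPred_eq] at hu ⊢
      obtain ⟨⟨hPu', hb⟩, hq⟩ := hu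
      have hb1 : S.B z u = 1 := S.eq_one_of_ne_zero hb
      have hq1 : S.Q u = 1 := S.eq_one_of_ne_zero hq
      refine ⟨⟨hPz u hPu', ?_⟩, ?_⟩
      · rw [S.Badd_right, S.alt, add_zero]; exact hb
      · rw [S.Q_add, hq1, hz, S.B_symm, hb1, add_zero, S.one_add_one]
    · intro u _
      simp only
      rw [add_assoc, S.vadd_self, add_zero]
    · intro u _
      simp only
      rw [add_assoc, S.vadd_self, add_zero]
  have e4 : D1.card = D0.card := by
    apply Finset.card_nbij' (fun u => u + u0) (fun u => u + u0)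
    · intro u hu
      simp only [hD1, hD0, Finset.coe_filter, Finset.mem_univ, true_and, Set.mem_ofPred_eq] at hu ⊢
      obtain ⟨hPu', hb⟩ := hu
      have hb1 : S.B z u = 1 := S.eq_one_of_ne_zero hb
      refine ⟨hPu u hPu', ?_⟩
      rw [S.Badd_right, hb1, h1, S.one_add_one]
    · intro u hu
      simp only [hD1, hD0, Finset.coe_filter, Finset.mem_univ, true_and, Set.mem_ofPred_eq] at hu ⊢
      obtain ⟨hPu', hb⟩ := hu
      refine ⟨hPu u hPu', ?_⟩
      rw [S.Badd_right, hb, h1, zero_add]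
      exact one_ne_zero
    · intro u _
      simp only
      rw [add_assoc, S.vadd_self, add_zero]
    · intro u _
      simp only
      rw [add_assoc, S.vadd_self, add_zero]
  omega

include S in
/-- a nonzero vector different from `x` is not in the span of `x` -/
theorem not_mem_span_singleton {x y : V} (hy0 : y ≠ 0) (hne : x ≠ y) :
    y ∉ Submodule.span F {x} := by
  intro h
  obtain ⟨c, rfl⟩ := Submodule.mem_span_singleton.mp h
  rcases S.h01 c with rfl | rfl
  · exact hy0 (zero_smul _ _)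
  · exact hne (one_smul _ _).symm

/-- HB (`m = 4`). -/
theorem exists_hyp_basis [Finite V] (hV : Nat.card V = 2 ^ (2 * 4))
    (hs : Nat.card {v : V // S.Q v = 0} = 2 ^ (2 * 4 - 1) + 2 ^ (4 - 1)) {x y : V}
    (hx0 : x ≠ 0) (hy0 : y ≠ 0) (hx : S.Q x = 0) (hy : S.Q y = 0) (hxy : S.B x y = 0)
    (hne : x ≠ y) :
    ∃ a b a' b' : V,
      (S.B x a = 0 ∧ S.B y a = 0) ∧ (S.B x b = 0 ∧ S.B y b = 0) ∧
      (S.B x a' = 0 ∧ S.B y a' = 0) ∧ (S.B x b' = 0 ∧ S.B y b' = 0) ∧
      S.Q a = 0 ∧ S.Q b = 0 ∧ S.Q a' = 0 ∧ S.Q b' = 0 ∧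
      S.B a a' = 1 ∧ S.B b b' = 1 ∧ S.B a b = 0 ∧ S.B a b' = 0 ∧ S.B a' b = 0 ∧ S.B a' b' = 0 ∧
      ∀ v, S.B x v = 0 → S.B y v = 0 →
        OnLine x y (v + S.B v a' • a + S.B v b' • b + S.B v a • a' + S.B v b • b') := by
  classical
  have hyx : S.B y x = 0 := by rw [S.B_symm]; exact hxy
  -- the line as a submodule
  set P : Submodule F V := Submodule.span F (Set.range ![x, y]) with hPdef
  have hxP : x ∈ P := Submodule.subset_span ⟨0, rfl⟩
  have hyP : y ∈ P := Submodule.subset_span ⟨1, rfl⟩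
  have hvP : ∀ i, ![x, y] i ∈ P := fun i => Submodule.subset_span ⟨i, rfl⟩
  have hPcard : Nat.card P ≤ 2 ^ 2 := Cfsg.Agent.Lib.Helper11.Om2I5.card_span_range_le S ![x, y]
  have hPsmall : Nat.card P * Nat.card P < Nat.card V := by
    rw [hV]
    calc Nat.card P * Nat.card P ≤ 2 ^ 2 * 2 ^ 2 := Nat.mul_le_mul hPcard hPcard
      _ < 2 ^ (2 * 4) := by norm_num
  -- `a`
  obtain ⟨a, haQ, haperp, haP⟩ :=
    Cfsg.Agent.Lib.Helper11.Om2I5.exists_sing_escape S hV (r := 2) (by norm_num) ![x, y] P hvP hPsmall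
  have hax : S.B a x = 0 := haperp 0
  have hay : S.B a y = 0 := haperp 1
  have hxa : S.B x a = 0 := by rw [S.B_symm]; exact hax
  have hya : S.B y a = 0 := by rw [S.B_symm]; exact hay
  -- `a'`
  obtain ⟨y0, hy0P, hy0a⟩ := Cfsg.Agent.Lib.Helper11.Om2I5.exists_perp_not_perp S P haP
  obtain ⟨a', ha'Q, ha'c⟩ :=
    Cfsg.Agent.Lib.Helper15.Om2Leaf.exists_sing_cond S hV (r := 3) (by norm_num) ![x, y, a] y0
  have ha'x : S.B a' x = 0 := by
    have := ha'c 0
    simp only [Matrix.cons_val_zero] at this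
    rw [this]; exact hy0P x hxP
  have ha'y : S.B a' y = 0 := by
    have := ha'c 1
    simp only [Matrix.cons_val_one, Matrix.cons_val_zero] at this
    rw [this]; exact hy0P y hyP
  have ha'a : S.B a' a = 1 := by
    have := ha'c 2
    simp only [Matrix.cons_val_two, Matrix.tail_cons, Matrix.head_cons] at this
    rw [this]; exact hy0a
  have hxa' : S.B x a' = 0 := by rw [S.B_symm]; exact ha'x
  have hya' : S.B y a' = 0 := by rw [S.B_symm]; exact ha'y
  have haa' : S.B a a' = 1 := by rw [S.B_symm]; exact ha'a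
  -- auxiliary translation vectors for the first two steps
  obtain ⟨ux, hux⟩ := S.exists_B_eq_one hx0
  have hxux : S.B x ux = 1 := by rw [S.B_symm]; exact hux
  obtain ⟨uy, huyP, huy⟩ := Cfsg.Agent.Lib.Helper11.Om2I5.exists_perp_not_perp S
    (Submodule.span F {x}) (not_mem_span_singleton S hy0 hne)
  have huyx : S.B uy x = 0 := huyP x (Submodule.subset_span rfl)
  have hxuy : S.B x uy = 0 := by rw [S.B_symm]; exact huyx
  have hyuy : S.B y uy = 1 := by rw [S.B_symm]; exact huy
  -- the chain of predicates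
  let P0 : V → Prop := fun _ => True
  let P1 : V → Prop := fun u => P0 u ∧ S.B x u = 0
  let P2 : V → Prop := fun u => P1 u ∧ S.B y u = 0
  let P3 : V → Prop := fun u => P2 u ∧ S.B a u = 0
  have n0 : Nat.card {u : V // P0 u} = 256 := by
    rw [Nat.card_congr (Equiv.subtypeUnivEquiv (fun _ => trivial)), hV]; norm_num
  have s0 : Nat.card {u : V // P0 u ∧ S.Q u = 0} = 136 := by
    rw [Nat.card_congr (Equiv.subtypeEquivRight (q := fun u => S.Q u = 0) (fun u => by simp [P0])), hs]
    norm_num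
  have c01 : ∀ u, P0 u → P0 (u + ux) := fun _ _ => trivial
  have c01' : ∀ u, P0 u → P0 (u + x) := fun _ _ => trivial
  have n1 := card_halve S P0 x ux c01 hxux
  have s1 := card_sing_flip S P0 x ux hx c01' c01 hxux
  have c12 : ∀ u, P1 u → P1 (u + uy) := by
    rintro u ⟨_, h⟩
    exact ⟨trivial, by rw [S.Badd_right, h, hxuy, add_zero]⟩
  have c12' : ∀ u, P1 u → P1 (u + y) := by
    rintro u ⟨_, h⟩
    exact ⟨trivial, by rw [S.Badd_right, h, hxy, add_zero]⟩
  have n2 := card_halve S P1 y uy c12 hyuy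
  have s2 := card_sing_flip S P1 y uy hy c12' c12 hyuy
  have c23 : ∀ u, P2 u → P2 (u + a') := by
    rintro u ⟨⟨_, h⟩, h'⟩
    exact ⟨⟨trivial, by rw [S.Badd_right, h, hxa', add_zero]⟩, by rw [S.Badd_right, h', hya', add_zero]⟩
  have c23' : ∀ u, P2 u → P2 (u + a) := by
    rintro u ⟨⟨_, h⟩, h'⟩
    exact ⟨⟨trivial, by rw [S.Badd_right, h, hxa, add_zero]⟩, by rw [S.Badd_right, h', hya, add_zero]⟩
  have n3 := card_halve S P2 a a' c23 haa'
  have s3 := card_sing_flip S P2 a a' haQ c23' c23 haa'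
  have hs3 : Nat.card {u : V // P3 u ∧ S.Q u = 0} = 24 := by
    change Nat.card {u : V // P0 u} = 2 * Nat.card {u : V // P1 u} at n1
    change Nat.card {u : V // P1 u} = 2 * Nat.card {u : V // P2 u} at n2
    change Nat.card {u : V // P2 u} = 2 * Nat.card {u : V // P3 u} at n3
    change 2 * Nat.card {u : V // P0 u ∧ S.Q u = 0} =
      2 * Nat.card {u : V // P1 u ∧ S.Q u = 0} + Nat.card {u : V // P1 u} at s1
    change 2 * Nat.card {u : V // P1 u ∧ S.Q u = 0} =
      2 * Nat.card {u : V // P2 u ∧ S.Q u = 0} + Nat.card {u : V // P2 u} at s2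
    change 2 * Nat.card {u : V // P2 u ∧ S.Q u = 0} =
      2 * Nat.card {u : V // P3 u ∧ S.Q u = 0} + Nat.card {u : V // P3 u} at s3
    omega
  -- `b0`: a singular vector of `P3` outside `<x, y, a>`
  set P' : Submodule F V := Submodule.span F (Set.range ![x, y, a]) with hP'def
  have hxP' : x ∈ P' := Submodule.subset_span ⟨0, rfl⟩
  have hyP' : y ∈ P' := Submodule.subset_span ⟨1, rfl⟩
  have haP' : a ∈ P' := Submodule.subset_span ⟨2, rfl⟩
  have hP'card : Nat.card P' ≤ 2 ^ 3 := Cfsg.Agent.Lib.Helper11.Om2I5.card_span_range_le S ![x, y, a]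
  obtain ⟨b0, hb0P3, hb0Q, hb0P'⟩ : ∃ b0, P3 b0 ∧ S.Q b0 = 0 ∧ b0 ∉ P' := by
    by_contra hcon
    push Not at hcon
    have hle : Nat.card {u : V // P3 u ∧ S.Q u = 0} ≤ Nat.card P' := by
      apply Nat.card_le_card_of_injective
        (fun u : {u : V // P3 u ∧ S.Q u = 0} => (⟨u.1, hcon u.1 u.2.1 u.2.2⟩ : P'))
      intro u w huw
      have h := congrArg (fun t : P' => (t : V)) huw
      exact Subtype.ext h
    rw [hs3] at hle
    omega
  obtain ⟨⟨⟨_, hxb0⟩, hyb0⟩, hab0⟩ := hb0P3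
  -- `b`
  set β : F := S.B b0 a' with hβ
  set b : V := b0 + β • a with hbdef
  have hxb : S.B x b = 0 := by
    rw [hbdef, S.Badd_right, S.Bsmul_right, hxb0, hxa]; simp
  have hyb : S.B y b = 0 := by
    rw [hbdef, S.Badd_right, S.Bsmul_right, hyb0, hya]; simp
  have hab : S.B a b = 0 := by
    rw [hbdef, S.Badd_right, S.Bsmul_right, hab0, S.alt]; simp
  have ha'b : S.B a' b = 0 := by
    rw [hbdef, S.Badd_right, S.Bsmul_right, ha'a, mul_one, S.B_symm a' b0, ← hβ, S.fadd_self]
  have hbQ : S.Q b = 0 := by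
    rw [hbdef, S.Q_add, S.Q_smul, haQ, hb0Q, S.Bsmul_right, S.B_symm b0 a, hab0]; simp
  have hbP' : b ∉ P' := by
    intro h
    apply hb0P'
    have : b0 = b + β • a := by
      rw [hbdef, add_assoc, ← add_smul, S.fadd_self, zero_smul, add_zero]
    rw [this]
    exact P'.add_mem h (P'.smul_mem _ haP')
  have hPP' : P ≤ P' := by
    rw [hPdef]
    apply Submodule.span_le.mpr
    rintro _ ⟨i, rfl⟩
    fin_cases i
    · exact hxP'
    · exact hyP'
  have hbP : b ∉ P := fun h => hbP' (hPP' h)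
  -- `b'`
  obtain ⟨y1, hy1P, hy1b⟩ := Cfsg.Agent.Lib.Helper11.Om2I5.exists_perp_not_perp S P hbP
  obtain ⟨c0, hc0Q, hc0c⟩ :=
    Cfsg.Agent.Lib.Helper15.Om2Leaf.exists_sing_cond S hV (r := 3) (by norm_num) ![x, y, b] y1
  have hc0x : S.B c0 x = 0 := by
    have := hc0c 0
    simp only [Matrix.cons_val_zero] at this
    rw [this]; exact hy1P x hxP
  have hc0y : S.B c0 y = 0 := by
    have := hc0c 1
    simp only [Matrix.cons_val_one, Matrix.cons_val_zero] at this
    rw [this]; exact hy1P y hyP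
  have hc0b : S.B c0 b = 1 := by
    have := hc0c 2
    simp only [Matrix.cons_val_two, Matrix.tail_cons, Matrix.head_cons] at this
    rw [this]; exact hy1b
  set α : F := S.B c0 a' with hα
  set α' : F := S.B c0 a with hα'
  set b' : V := c0 + α • a + α' • a' + (α * α') • b with hb'def
  have hba : S.B b a = 0 := by rw [S.B_symm]; exact hab
  have hba' : S.B b a' = 0 := by rw [S.B_symm]; exact ha'b
  have hxb' : S.B x b' = 0 := by
    rw [hb'def]
    simp only [S.Badd_right, S.Bsmul_right, hxa, hxa', hxb, S.B_symm x c0, hc0x]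
    simp
  have hyb' : S.B y b' = 0 := by
    rw [hb'def]
    simp only [S.Badd_right, S.Bsmul_right, hya, hya', hyb, S.B_symm y c0, hc0y]
    simp
  have hab' : S.B a b' = 0 := by
    rw [hb'def]
    simp only [S.Badd_right, S.Bsmul_right, S.alt, haa', hab, S.B_symm a c0, ← hα']
    rw [mul_zero, mul_zero, add_zero, mul_one, add_zero, S.fadd_self]
  have ha'b' : S.B a' b' = 0 := by
    rw [hb'def]
    simp only [S.Badd_right, S.Bsmul_right, S.alt, ha'a, ha'b, S.B_symm a' c0, ← hα]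
    rw [mul_zero, mul_zero, add_zero, mul_one, add_zero, S.fadd_self]
  have hbb' : S.B b b' = 1 := by
    rw [hb'def]
    simp only [S.Badd_right, S.Bsmul_right, S.alt, hba, hba', S.B_symm b c0, hc0b]
    simp
  have hb'Q : S.Q b' = 0 := by
    rw [hb'def]
    simp only [S.Q_add, S.Q_smul, S.Badd_left, S.Bsmul_left, S.Bsmul_right, hc0Q, haQ, ha'Q, hbQ,
      haa', hab, ha'b, hc0b, ← hα, ← hα']
    rcases S.h01 α with h | h <;> rcases S.h01 α' with h' | h' <;> rw [h, h'] <;>
      simp [S.one_add_one]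
  -- the coordinates
  let P4 : V → Prop := fun u => P3 u ∧ S.B a' u = 0
  let P5 : V → Prop := fun u => P4 u ∧ S.B b u = 0
  let P6 : V → Prop := fun u => P5 u ∧ S.B b' u = 0
  have hb'b : S.B b' b = 1 := by rw [S.B_symm]; exact hbb'
  have c34 : ∀ u, P3 u → P3 (u + a) := by
    rintro u ⟨⟨⟨_, h1⟩, h2⟩, h3⟩
    exact ⟨⟨⟨trivial, by rw [S.Badd_right, h1, hxa, add_zero]⟩, by rw [S.Badd_right, h2, hya, add_zero]⟩,
      by rw [S.Badd_right, h3, S.alt, add_zero]⟩
  have n4 := card_halve S P3 a' a c34 ha'a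
  have c45 : ∀ u, P4 u → P4 (u + b') := by
    rintro u ⟨⟨⟨⟨_, h1⟩, h2⟩, h3⟩, h4⟩
    exact ⟨⟨⟨⟨trivial, by rw [S.Badd_right, h1, hxb', add_zero]⟩, by rw [S.Badd_right, h2, hyb', add_zero]⟩,
      by rw [S.Badd_right, h3, hab', add_zero]⟩, by rw [S.Badd_right, h4, ha'b', add_zero]⟩
  have n5 := card_halve S P4 b b' c45 hbb'
  have c56 : ∀ u, P5 u → P5 (u + b) := by
    rintro u ⟨⟨⟨⟨⟨_, h1⟩, h2⟩, h3⟩, h4⟩, h5⟩
    exact ⟨⟨⟨⟨⟨trivial, by rw [S.Badd_right, h1, hxb, add_zero]⟩, by rw [S.Badd_right, h2, hyb, add_zero]⟩,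
      by rw [S.Badd_right, h3, hab, add_zero]⟩, by rw [S.Badd_right, h4, ha'b, add_zero]⟩,
      by rw [S.Badd_right, h5, S.alt, add_zero]⟩
  have n6 := card_halve S P5 b' b c56 hb'b
  have hn6 : Nat.card {u : V // P6 u} = 4 := by
    change Nat.card {u : V // P0 u} = 2 * Nat.card {u : V // P1 u} at n1
    change Nat.card {u : V // P1 u} = 2 * Nat.card {u : V // P2 u} at n2
    change Nat.card {u : V // P2 u} = 2 * Nat.card {u : V // P3 u} at n3
    change Nat.card {u : V // P3 u} = 2 * Nat.card {u : V // P4 u} at n4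
    change Nat.card {u : V // P4 u} = 2 * Nat.card {u : V // P5 u} at n5
    change Nat.card {u : V // P5 u} = 2 * Nat.card {u : V // P6 u} at n6
    omega
  -- the four points of the line exhaust `P6`
  have : Fintype V := Fintype.ofFinite V
  have hxyQ : S.B y y = 0 := S.alt y
  have hP6x : P6 x := ⟨⟨⟨⟨⟨⟨trivial, S.alt x⟩, hyx⟩, hax⟩, ha'x⟩, by rw [S.B_symm]; exact hxb⟩,
    by rw [S.B_symm]; exact hxb'⟩
  have hP6y : P6 y := ⟨⟨⟨⟨⟨⟨trivial, hxy⟩, S.alt y⟩, hay⟩, ha'y⟩, by rw [S.B_symm]; exact hyb⟩,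
    by rw [S.B_symm]; exact hyb'⟩
  have hP6add : ∀ u w, P6 u → P6 w → P6 (u + w) := by
    rintro u w ⟨⟨⟨⟨⟨⟨_, h1⟩, h2⟩, h3⟩, h4⟩, h5⟩, h6⟩ ⟨⟨⟨⟨⟨⟨_, k1⟩, k2⟩, k3⟩, k4⟩, k5⟩, k6⟩
    exact ⟨⟨⟨⟨⟨⟨trivial, by rw [S.Badd_right, h1, k1, add_zero]⟩, by rw [S.Badd_right, h2, k2, add_zero]⟩,
      by rw [S.Badd_right, h3, k3, add_zero]⟩, by rw [S.Badd_right, h4, k4, add_zero]⟩,
      by rw [S.Badd_right, h5, k5, add_zero]⟩, by rw [S.Badd_right, h6, k6, add_zero]⟩
  have hP60 : P6 0 := ⟨⟨⟨⟨⟨⟨trivial, by simp⟩, by simp⟩, by simp⟩, by simp⟩, by simp⟩, by simp⟩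
  set L : Finset V := {0, x, y, x + y} with hL
  have hLcard : L.card = 4 := by
    have h1 : x + y ≠ 0 := fun h => hne (S.vadd_eq_zero_iff.mp h)
    have h2 : x ≠ x + y := fun h => hy0 (by
      have : x + x = x + (x + y) := congrArg (fun t => x + t) h
      rw [S.vadd_self, S.vadd_cancel_left] at this
      exact this.symm)
    have h3 : y ≠ x + y := fun h => hx0 (by
      have : y + y = x + y + y := congrArg (fun t => t + y) h
      rw [S.vadd_self, S.vadd_cancel_right] at this
      exact this.symm)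
    rw [hL, Finset.card_insert_of_notMem, Finset.card_insert_of_notMem, Finset.card_insert_of_notMem,
      Finset.card_singleton]
    · simp only [Finset.mem_singleton]; exact h3
    · simp only [Finset.mem_insert, Finset.mem_singleton, not_or]; exact ⟨hne, h2⟩
    · simp only [Finset.mem_insert, Finset.mem_singleton, not_or]
      exact ⟨hx0.symm, hy0.symm, h1.symm⟩
  have hLsub : L ⊆ Finset.univ.filter (fun u : V => P6 u) := by
    intro u hu
    simp only [hL, Finset.mem_insert, Finset.mem_singleton] at hu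
    simp only [Finset.mem_filter, Finset.mem_univ, true_and]
    rcases hu with rfl | rfl | rfl | rfl
    · exact hP60
    · exact hP6x
    · exact hP6y
    · exact hP6add _ _ hP6x hP6y
  have hLeq : L = Finset.univ.filter (fun u : V => P6 u) := by
    apply Finset.eq_of_subset_of_card_le hLsub
    rw [hLcard, ← Fintype.card_subtype, ← Nat.card_eq_fintype_card, hn6]
  refine ⟨a, b, a', b', ⟨hxa, hya⟩, ⟨hxb, hyb⟩, ⟨hxa', hya'⟩, ⟨hxb', hyb'⟩, haQ, hbQ, ha'Q, hb'Q,
    haa', hbb', hab, hab', ha'b, ha'b', ?_⟩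
  intro v hxv hyv
  have hb'a : S.B b' a = 0 := by rw [S.B_symm]; exact hab'
  have hb'a' : S.B b' a' = 0 := by rw [S.B_symm]; exact ha'b'
  have hmem : v + S.B v a' • a + S.B v b' • b + S.B v a • a' + S.B v b • b' ∈
      Finset.univ.filter (fun u : V => P6 u) := by
    simp only [Finset.mem_filter, Finset.mem_univ, true_and]
    refine ⟨⟨⟨⟨⟨⟨trivial, ?_⟩, ?_⟩, ?_⟩, ?_⟩, ?_⟩, ?_⟩
    · simp only [S.Badd_right, S.Bsmul_right, hxv, hxa, hxb, hxa', hxb']; simp
    · simp only [S.Badd_right, S.Bsmul_right, hyv, hya, hyb, hya', hyb']; simp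
    · simp only [S.Badd_right, S.Bsmul_right, S.alt, hab, haa', hab']
      rw [S.B_symm a v]; simp [S.fadd_self]
    · simp only [S.Badd_right, S.Bsmul_right, S.alt, ha'a, ha'b, ha'b']
      rw [S.B_symm a' v]; simp [S.fadd_self]
    · simp only [S.Badd_right, S.Bsmul_right, S.alt, hba, hba', hbb']
      rw [S.B_symm b v]; simp [S.fadd_self]
    · simp only [S.Badd_right, S.Bsmul_right, S.alt, hb'a, hb'a', hb'b]
      rw [S.B_symm b' v]; simp [S.fadd_self]
  rw [← hLeq, hL] at hmem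
  simp only [Finset.mem_insert, Finset.mem_singleton] at hmem
  exact hmem

end Cfsg.Agent.Lib.Helper8.Om2Leaf
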