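import Mathlib
import Cfsg.Agent.Lib.Helper11.Om3Tools

/-! S2144 leaf Om3NS (helper8): three vectors have a common perpendicular nonsingular vector. -/

set_option autoImplicit false

open Cfsg.Agent.Lib.Helper11.Om3 MulAction
open scoped Pointwise

namespace Cfsg.Agent.Lib.Helper8.Om3Leaf

variable {F V G : Type*} [Field F] [AddCommGroup V] [Module F V] [Group G] [DistribMulAction G V]
  (S : Setting F V G)

/-- NS: three vectors have a common perpendicular nonsingular vector. -/
theorem exists_nonsing_perp [Finite V] {m : ℕ} (hV : Nat.card V = 3 ^ (2 * m + 1)) (hm : 3 ≤ m)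
    (v : Fin 3 → V) : ∃ c, (∀ i, S.B (v i) c = 0) ∧ S.Q c ≠ 0 := by
  classical
  have hF : Finite F := S.finite_F
  set U : Submodule F V := Submodule.span F (Set.range v) with hU
  set P : Submodule F V := S.B.orthogonal U with hP
  -- |U| ≤ 27
  have hUcard : Nat.card U ≤ 27 := by
    rw [S.card_submodule_eq_three_pow U]
    have h1 : Module.finrank F U ≤ 3 := by
      have := finrank_range_le_card (R := F) v
      simpa [Set.finrank, hU] using this
    calc 3 ^ Module.finrank F U ≤ 3 ^ 3 := Nat.pow_le_pow_right (by norm_num) h1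
      _ = 27 := by norm_num
  have hmul := S.card_mul_card_orthogonal U
  rw [hV] at hmul
  -- membership in P
  have hPmem : ∀ c ∈ P, ∀ i, S.B (v i) c = 0 := by
    intro c hc i
    exact (S.mem_orthogonal.mp hc) (v i) (Submodule.subset_span ⟨i, rfl⟩)
  by_contra hcon
  push Not at hcon
  have hQ0 : ∀ c ∈ P, S.Q c = 0 := fun c hc => hcon c (hPmem c hc)
  -- P is totally isotropic
  have hB0 : ∀ a ∈ P, ∀ b ∈ P, S.B a b = 0 := by
    intro a ha b hb
    have h1 := S.Q_add a b
    rw [hQ0 _ (P.add_mem ha hb), hQ0 a ha, hQ0 b hb] at h1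
    simpa using h1.symm
  have hPle : P ≤ S.B.orthogonal P := by
    intro b hb
    rw [S.mem_orthogonal]
    intro a ha
    exact hB0 a ha b hb
  have hmulP := S.card_mul_card_orthogonal P
  rw [hV] at hmulP
  have hle : Nat.card P ≤ Nat.card (S.B.orthogonal P) :=
    Nat.card_le_card_of_injective (Submodule.inclusion hPle) (Submodule.inclusion_injective hPle)
  -- |P|^2 ≤ 3^(2m+1)
  have hsq : Nat.card P * Nat.card P ≤ 3 ^ (2 * m + 1) := by
    calc Nat.card P * Nat.card P ≤ Nat.card P * Nat.card (S.B.orthogonal P) :=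
          Nat.mul_le_mul_left _ hle
      _ = 3 ^ (2 * m + 1) := hmulP
  -- |P| ≥ 3^(2m-2)
  have hPge : 3 ^ (2 * m - 2) ≤ Nat.card P := by
    have h27 : (27 : ℕ) = 3 ^ 3 := by norm_num
    have h3 : 3 ^ (2 * m + 1) = 27 * 3 ^ (2 * m - 2) := by
      rw [h27, ← pow_add]; congr 1; omega
    have h4 : 27 * 3 ^ (2 * m - 2) ≤ 27 * Nat.card P := by
      calc 27 * 3 ^ (2 * m - 2) = Nat.card U * Nat.card P := by rw [← h3, ← hmul]
        _ ≤ 27 * Nat.card P := Nat.mul_le_mul_right _ hUcard
    exact Nat.le_of_mul_le_mul_left h4 (by norm_num)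
  have hlt : 3 ^ (2 * m + 1) < 3 ^ (2 * m - 2) * 3 ^ (2 * m - 2) := by
    rw [← pow_add]
    exact Nat.pow_lt_pow_right (by norm_num) (by omega)
  have : 3 ^ (2 * m - 2) * 3 ^ (2 * m - 2) ≤ Nat.card P * Nat.card P :=
    Nat.mul_le_mul hPge hPge
  omega

end Cfsg.Agent.Lib.Helper8.Om3Leaf
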