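import Mathlib
import Cfsg.Agent.Lib.Helper11.Om3Tools

/-! S2144 leaf Om3OLE (helper8) in `_of` form: `D̃_x ≠ x^⊥` gives `N- = 3^(2m-1) - 3^m ≤ 2 o_x`.
The other leaves (QR, DI, COV, C2a, GC, OL0a, OL0b, OL1, OLk) enter as hypotheses at `x`. -/

set_option autoImplicit false

open Cfsg.Agent.Lib.Helper11.Om3 MulAction
open scoped Pointwise

namespace Cfsg.Agent.Lib.Helper8.Om3Leaf

variable {F V G : Type*} [Field F] [AddCommGroup V] [Module F V] [Group G] [DistribMulAction G V]
  (S : Setting F V G)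

/-- the line `<x>` as a set -/
def lineSet (x : V) : Set V := {w | ∃ a : F, w = a • x}

include S in
theorem ncard_lineSet [Finite V] {x : V} (hx0 : x ≠ 0) : (lineSet (F := F) x).ncard = 3 := by
  classical
  have hF : Finite F := S.finite_F
  have h1 : lineSet (F := F) x = (fun a : F => a • x) '' Set.univ := by
    ext w
    simp only [lineSet, Set.mem_setOf_eq, Set.image_univ, Set.mem_range]
    constructor
    · rintro ⟨a, rfl⟩; exact ⟨a, rfl⟩
    · rintro ⟨a, rfl⟩; exact ⟨a, rfl⟩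
  have hinj : Function.Injective (fun a : F => a • x) := by
    intro a b hab
    simp only at hab
    have : (a - b) • x = 0 := by rw [sub_smul, hab, sub_self]
    rcases smul_eq_zero.mp this with h | h
    · exact sub_eq_zero.mp h
    · exact absurd h hx0
  rw [h1, Set.ncard_image_of_injective _ hinj, Set.ncard_univ, S.natCard_F]

theorem lineSet_subset (U : Submodule F V) {x : V} (hxU : x ∈ U) :
    lineSet (F := F) x ⊆ (U : Set V) := by
  rintro w ⟨a, rfl⟩
  exact U.smul_mem a hxU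

/-- one `Q`-class of `U ∖ <x>` has at most `|U| - 3` elements -/
theorem card_class_add_three_le [Finite V] (U : Submodule F V) {x : V} (hx0 : x ≠ 0) (hxU : x ∈ U)
    (c : F) :
    Nat.card {w : V // w ∈ U ∧ (¬ ∃ a : F, w = a • x) ∧ S.Q w = c} + 3 ≤ Nat.card U := by
  classical
  set A : Set V := {w : V | w ∈ U ∧ (¬ ∃ a : F, w = a • x) ∧ S.Q w = c} with hA
  have h1 : Nat.card {w : V // w ∈ U ∧ (¬ ∃ a : F, w = a • x) ∧ S.Q w = c} = A.ncard :=
    _root_.Nat.card_coe_set_eq A
  have h2 : Nat.card U = (U : Set V).ncard := _root_.Nat.card_coe_set_eq (U : Set V)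
  have hdisj : Disjoint A (lineSet (F := F) x) := by
    rw [Set.disjoint_left]
    rintro w ⟨-, hw, -⟩ hw'
    exact hw hw'
  have hsub : A ∪ lineSet (F := F) x ⊆ (U : Set V) := by
    apply Set.union_subset
    · rintro w ⟨hw, -, -⟩; exact hw
    · exact lineSet_subset U hxU
  have h3 := Set.ncard_le_ncard hsub (Set.toFinite _)
  rw [Set.ncard_union_eq hdisj (Set.toFinite _) (Set.toFinite _), ncard_lineSet S hx0] at h3
  omega

/-- two different `Q`-classes of `U ∖ <x>` have together at most `|U| - 3` elements -/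
theorem card_two_classes_add_three_le [Finite V] (U : Submodule F V) {x : V} (hx0 : x ≠ 0)
    (hxU : x ∈ U) {c c' : F} (hcc : c ≠ c') :
    Nat.card {w : V // w ∈ U ∧ (¬ ∃ a : F, w = a • x) ∧ S.Q w = c} +
      Nat.card {w : V // w ∈ U ∧ (¬ ∃ a : F, w = a • x) ∧ S.Q w = c'} + 3 ≤ Nat.card U := by
  classical
  set A : Set V := {w : V | w ∈ U ∧ (¬ ∃ a : F, w = a • x) ∧ S.Q w = c} with hA
  set A' : Set V := {w : V | w ∈ U ∧ (¬ ∃ a : F, w = a • x) ∧ S.Q w = c'} with hA'
  have h1 : Nat.card {w : V // w ∈ U ∧ (¬ ∃ a : F, w = a • x) ∧ S.Q w = c} = A.ncard :=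
    _root_.Nat.card_coe_set_eq A
  have h1' : Nat.card {w : V // w ∈ U ∧ (¬ ∃ a : F, w = a • x) ∧ S.Q w = c'} = A'.ncard :=
    _root_.Nat.card_coe_set_eq A'
  have h2 : Nat.card U = (U : Set V).ncard := _root_.Nat.card_coe_set_eq (U : Set V)
  have hdisj1 : Disjoint A A' := by
    rw [Set.disjoint_left]
    rintro w ⟨-, -, hw⟩ ⟨-, -, hw'⟩
    exact hcc (hw.symm.trans hw')
  have hdisj2 : Disjoint (A ∪ A') (lineSet (F := F) x) := by
    rw [Set.disjoint_left]
    rintro w (⟨-, hw, -⟩ | ⟨-, hw, -⟩) hw'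
    · exact hw hw'
    · exact hw hw'
  have hsub : (A ∪ A') ∪ lineSet (F := F) x ⊆ (U : Set V) := by
    apply Set.union_subset
    · apply Set.union_subset
      · rintro w ⟨hw, -, -⟩; exact hw
      · rintro w ⟨hw, -, -⟩; exact hw
    · exact lineSet_subset U hxU
  have h3 := Set.ncard_le_ncard hsub (Set.toFinite _)
  rw [Set.ncard_union_eq hdisj2 (Set.toFinite _) (Set.toFinite _),
    Set.ncard_union_eq hdisj1 (Set.toFinite _) (Set.toFinite _), ncard_lineSet S hx0] at h3
  omega

include S in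
/-- a subspace with more than three elements has an element outside `<x>` -/
theorem exists_mem_not_line [Finite V] (U : Submodule F V) (h : 4 ≤ Nat.card U) {x : V}
    (hx0 : x ≠ 0) : ∃ u ∈ U, ¬ ∃ a : F, u = a • x := by
  classical
  by_contra hcon
  push Not at hcon
  have hsub : (U : Set V) ⊆ lineSet (F := F) x := fun u hu => hcon u hu
  have h1 := Set.ncard_le_ncard hsub (Set.toFinite _)
  rw [ncard_lineSet S hx0] at h1
  have h3 : Nat.card U = (U : Set V).ncard := _root_.Nat.card_coe_set_eq (U : Set V)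
  omega

/-- OLE, with the other leaves as hypotheses at `x` -/
theorem relIndex_ge_of_ne_of [Finite V] [Finite G] {m : ℕ} (hV : Nat.card V = 3 ^ (2 * m + 1))
    (hm : 3 ≤ m) (H : Subgroup G) {x : V} (hx0 : x ≠ 0) (hx : S.Q x = 0)
    (hQR : 3 * (H.relIndex (S.Qs hx) * Nat.card (S.Dt H hx)) = Nat.card V)
    (hDI : ∀ U : Submodule F V, x ∈ U → (∀ u ∈ U, S.B x u = 0) → 27 ≤ Nat.card U →
      (∀ u ∈ U, S.Q u = 0) ∨
        ∃ u ∈ U, ∃ u' ∈ U, (¬ ∃ a : F, u = a • x) ∧ (¬ ∃ a : F, u' = a • x) ∧ S.Q u ≠ S.Q u')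
    (hCOV : ∀ (U : Submodule F V), x ∈ U → (∀ u ∈ U, S.B x u = 0) → ∀ (k : ℕ) (g : Fin k → G),
      (∀ i, g i • x = x) → ∀ u0 : V, (∀ i, u0 ∈ g i • (U : Set V)) → (¬ ∃ a : F, u0 = a • x) →
      Function.Injective (fun i => g i • (U : Set V)) →
      Nat.card (Fin k) *
          Nat.card {w : V // S.B x w = 0 ∧ (¬ ∃ a : F, w = a • x) ∧ S.Q w = S.Q u0} ≤
        Nat.card {w : V // w ∈ U ∧ (¬ ∃ a : F, w = a • x) ∧ S.Q w = S.Q u0} *
          (stabilizer G (U : Set V)).relIndex (stabilizer G x))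
    (hC2a : ∀ (U : Submodule F V), x ∈ U → (∀ u ∈ U, S.Q u = 0) → 27 ≤ Nat.card U →
      ∀ u0 ∈ U, (¬ ∃ a : F, u0 = a • x) →
      ∃ g : Fin 2 → G, (∀ i, g i • x = x) ∧ (∀ i, g i • u0 = u0) ∧
        Function.Injective (fun i => g i • (U : Set V)))
    (hGC : ∀ c : F, 3 ^ (2 * m - 1) - 3 ^ m ≤
      Nat.card {w : V // S.B x w = 0 ∧ (¬ ∃ a : F, w = a • x) ∧ S.Q w = c})
    (hOL0a : (∀ w, S.B x w = 0 → S.sg x w ∈ H → ∃ a : F, w = a • x) →
      S.IsA H x ∨ 2 * 3 ^ (2 * m - 1) ≤ H.relIndex (stabilizer G x))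
    (hOL0b : S.IsA H x → 3 ^ (2 * m - 1) ≤ H.relIndex (stabilizer G x))
    (hOL1 : 9 ≤ Nat.card (S.Dt H hx) → Nat.card (S.Dt H hx) ≤ 3 ^ (m - 1) →
      3 ^ m * (3 ^ m - 1) ≤ 2 * H.relIndex (stabilizer G x))
    (hOLk : Nat.card (S.Dt H hx) = 3 ^ m →
      3 ^ m * (3 ^ m - 1) ≤ 2 * H.relIndex (stabilizer G x))
    (hne : ∃ w, S.B x w = 0 ∧ S.sg x w ∉ H) :
    3 ^ (2 * m - 1) - 3 ^ m ≤ 2 * H.relIndex (stabilizer G x) := by
  classical
  obtain ⟨w0, hw0x, hw0H⟩ := hne
  set D : Submodule F V := S.Dt H hx with hD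
  set E : Submodule F V := S.B.orthogonal D with hE
  set o : ℕ := H.relIndex (stabilizer G x) with ho
  set r : ℕ := H.relIndex (S.Qs hx) with hr
  set t : ℕ := (stabilizer G (E : Set V)).relIndex (stabilizer G x) with ht
  -- numerics
  have hpm : 3 ^ m = 3 * 3 ^ (m - 1) := by
    have : m = (m - 1) + 1 := by omega
    conv_lhs => rw [this, pow_succ]
    ring
  have hp1 : 3 ^ (2 * m - 1) = 3 ^ (m - 1) * 3 ^ m := by
    rw [← pow_add]; congr 1; omega
  have hapos : 0 < 3 ^ (m - 1) := Nat.pos_of_ne_zero (by positivity)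
  -- the bound `N- ≤ 3^m (3^m - 1)`
  have hbig : 3 ^ (2 * m - 1) - 3 ^ m ≤ 3 ^ m * (3 ^ m - 1) := by
    rw [hp1, hpm]
    generalize 3 ^ (m - 1) = a at hapos
    apply Nat.sub_le_of_le_add
    have h3 : 3 * a * (3 * a - 1) + 3 * a = 3 * a * (3 * a) := by
      have : 3 * a - 1 + 1 = 3 * a := by omega
      rw [← this, mul_add, mul_one]
      simp
    rw [h3]
    nlinarith
  -- `E`
  have hxD : x ∈ D := S.self_mem_Dt H hx
  have hDperp : ∀ u ∈ D, S.B x u = 0 := S.Dt_le_perp hx
  have hxE : x ∈ E := by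
    rw [hE, S.mem_orthogonal]
    intro u hu
    rw [S.B_symm]; exact hDperp u hu
  have hEperp : ∀ e ∈ E, S.B x e = 0 := by
    intro e he
    rw [hE, S.mem_orthogonal] at he
    exact he x hxD
  have hinv : ∀ p ∈ H, p • x = x → ∀ e ∈ E, p • e ∈ E := by
    intro p hp hpx e he
    rw [hE, S.mem_orthogonal] at he ⊢
    intro u hu
    have hpx' : p⁻¹ • x = x := by rw [inv_smul_eq_iff, hpx]
    have h1 : p⁻¹ • u ∈ D := S.smul_mem_Dt hx (H.inv_mem hp) hpx' hu
    have h2 := he _ h1
    rw [← S.iso p, smul_inv_smul] at h2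
    exact h2
  have hDE : Nat.card D * Nat.card E = 3 ^ (2 * m + 1) := by
    rw [← hV]; exact S.card_mul_card_orthogonal D
  have hQR' : 3 * (r * Nat.card D) = 3 ^ (2 * m + 1) := by
    rw [← hV]; exact hQR
  have hSB : t * r ≤ o := S.stab_bound H hx E hxE hEperp hinv
  have hDpos : 0 < Nat.card D := Nat.card_pos
  have h3r : 3 * r = Nat.card E := by
    have h1 : Nat.card D * (3 * r) = Nat.card D * Nat.card E := by
      rw [hDE, ← hQR']; ring
    exact Nat.eq_of_mul_eq_mul_left hDpos h1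
  -- powers of three
  have hDpow := S.card_submodule_eq_three_pow D
  have hEpow := S.card_submodule_eq_three_pow E
  set d : ℕ := Module.finrank F D with hd
  set e : ℕ := Module.finrank F E with he
  have hde : d + e = 2 * m + 1 := by
    rw [hDpow, hEpow, ← pow_add] at hDE
    exact Nat.pow_right_injective (le_refl 2 |>.trans (by norm_num : 2 ≤ 3)) hDE
  -- `D ≠ x^⊥`
  have hd2 : d + 2 ≤ 2 * m + 1 := by
    have h1 : (D : Set V) ⊂ {z : V | S.B x z = 0} := by
      refine ⟨fun u hu => hDperp u hu, ?_⟩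
      intro hsub
      have : w0 ∈ D := hsub hw0x
      exact hw0H this.2
    have h2 := Set.ncard_lt_ncard h1 (Set.toFinite _)
    have h3 : Nat.card D = (D : Set V).ncard := _root_.Nat.card_coe_set_eq (D : Set V)
    have h4 : Nat.card {z : V // S.B x z = 0} = ({z : V | S.B x z = 0}).ncard :=
      _root_.Nat.card_coe_set_eq {z : V | S.B x z = 0}
    have h5 := S.three_mul_card_perp hx0
    rw [hV] at h5
    have h6 : 3 * 3 ^ d < 3 ^ (2 * m + 1) := by
      rw [← hDpow]; omega
    have h7 : 3 ^ (d + 1) < 3 ^ (2 * m + 1) := by rw [pow_succ]; omega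
    have := (Nat.pow_lt_pow_iff_right (by norm_num : 1 < 3)).mp h7
    omega
  have hlineD : lineSet (F := F) x ⊆ (D : Set V) := lineSet_subset D hxD
  have hd1 : 1 ≤ d := by
    by_contra hcon
    have hd0 : d = 0 := by omega
    rw [hd0, pow_zero] at hDpow
    have h1 : Nat.card D = (D : Set V).ncard := _root_.Nat.card_coe_set_eq (D : Set V)
    have h2 := Set.ncard_le_ncard hlineD (Set.toFinite _)
    rw [ncard_lineSet S hx0] at h2
    omega
  by_cases hdm : d ≤ m
  · -- `|D| ≤ 3^m`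
    by_cases hd1' : d = 1
    · -- `D = <x>`
      have hD3 : Nat.card D = 3 := by rw [hDpow, hd1']; norm_num
      have hDeq : ∀ w, S.B x w = 0 → S.sg x w ∈ H → ∃ a : F, w = a • x := by
        intro w hw hwH
        have hwD : w ∈ D := ⟨hw, hwH⟩
        have h1 : Nat.card D = (D : Set V).ncard := _root_.Nat.card_coe_set_eq (D : Set V)
        have h2 : (D : Set V).ncard ≤ (lineSet (F := F) x).ncard := by
          rw [ncard_lineSet S hx0]; omega
        have h3 := Set.eq_of_subset_of_ncard_le hlineD h2 (Set.toFinite _)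
        have h4 : w ∈ lineSet (F := F) x := by rw [h3]; exact hwD
        exact h4
      rcases hOL0a hDeq with hA | hbig'
      · have := hOL0b hA
        omega
      · omega
    · by_cases hdm' : d = m
      · have hDm : Nat.card D = 3 ^ m := by rw [hDpow, hdm']
        have := hOLk hDm
        omega
      · have hD9 : 9 ≤ Nat.card D := by
          rw [hDpow]
          calc 9 = 3 ^ 2 := by norm_num
            _ ≤ 3 ^ d := Nat.pow_le_pow_right (by norm_num) (by omega)
        have hDm : Nat.card D ≤ 3 ^ (m - 1) := by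
          rw [hDpow]; exact Nat.pow_le_pow_right (by norm_num) (by omega)
        have := hOL1 hD9 hDm
        omega
  · -- `|D| > 3^m`, so `9 ≤ |E| ≤ 3^m`
    have hem : e ≤ m := by omega
    have he2 : 2 ≤ e := by omega
    have hE9 : 9 ≤ Nat.card E := by
      rw [hEpow]
      calc 9 = 3 ^ 2 := by norm_num
        _ ≤ 3 ^ e := Nat.pow_le_pow_right (by norm_num) he2
    obtain ⟨u0, hu0E, hu0x⟩ := exists_mem_not_line S E (by omega) hx0
    have h3tr : 3 * (t * r) ≤ 3 * o := Nat.mul_le_mul_left 3 hSB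
    by_cases he2' : e = 2
    · -- `|E| = 9`
      have hE9' : Nat.card E = 9 := by rw [hEpow, he2']; norm_num
      have hcov := hCOV E hxE hEperp 1
        (fun _ : Fin 1 => (1 : G)) (fun _ => one_smul G x) u0
        (fun _ => by rw [one_smul]; exact hu0E) hu0x
        (Function.injective_of_subsingleton _)
      rw [Nat.card_fin, one_mul, ← ht] at hcov
      have hcnt := card_class_add_three_le S E hx0 hxE (S.Q u0)
      have h1 := hGC (S.Q u0)
      have hr3 : r = 3 := by omega
      rw [hr3] at hSB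
      have h2 : Nat.card {w : V // w ∈ E ∧ (¬ ∃ a : F, w = a • x) ∧ S.Q w = S.Q u0} * t ≤ 6 * t :=
        Nat.mul_le_mul_right _ (by omega)
      omega
    · -- `27 ≤ |E| ≤ 3^m`
      have hE27 : 27 ≤ Nat.card E := by
        rw [hEpow]
        calc 27 = 3 ^ 3 := by norm_num
          _ ≤ 3 ^ e := Nat.pow_le_pow_right (by norm_num) (by omega)
      rcases hDI E hxE hEperp hE27 with hts | ⟨u, huE, u', hu'E, hux, hu'x, hQne⟩
      · -- totally singular
        obtain ⟨g, hgx, hgu, hginj⟩ := hC2a E hxE hts hE27 u0 hu0E hu0x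
        have hcov := hCOV E hxE hEperp 2 g hgx u0
          (fun i => ⟨u0, hu0E, hgu i⟩) hu0x hginj
        rw [Nat.card_fin, ← ht] at hcov
        have hcnt := card_class_add_three_le S E hx0 hxE (S.Q u0)
        have h1 := hGC (S.Q u0)
        have h2 : Nat.card {w : V // w ∈ E ∧ (¬ ∃ a : F, w = a • x) ∧ S.Q w = S.Q u0} * t ≤
            (3 * r) * t := Nat.mul_le_mul_right _ (by omega)
        have h3 : (3 * r) * t = 3 * (t * r) := by ring
        omega
      · -- two classes
        have hcov := hCOV E hxE hEperp 1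
          (fun _ : Fin 1 => (1 : G)) (fun _ => one_smul G x) u
          (fun _ => by rw [one_smul]; exact huE) hux
          (Function.injective_of_subsingleton _)
        have hcov' := hCOV E hxE hEperp 1
          (fun _ : Fin 1 => (1 : G)) (fun _ => one_smul G x) u'
          (fun _ => by rw [one_smul]; exact hu'E) hu'x
          (Function.injective_of_subsingleton _)
        rw [Nat.card_fin, one_mul, ← ht] at hcov hcov'
        have hcnt := card_two_classes_add_three_le S E hx0 hxE hQne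
        have h1 := hGC (S.Q u)
        have h1' := hGC (S.Q u')
        have h2 : (Nat.card {w : V // w ∈ E ∧ (¬ ∃ a : F, w = a • x) ∧ S.Q w = S.Q u} +
            Nat.card {w : V // w ∈ E ∧ (¬ ∃ a : F, w = a • x) ∧ S.Q w = S.Q u'}) * t ≤
            (3 * r) * t := Nat.mul_le_mul_right _ (by omega)
        rw [add_mul] at h2
        have h3 : (3 * r) * t = 3 * (t * r) := by ring
        omega

end Cfsg.Agent.Lib.Helper8.Om3Leaf
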