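import Mathlib
import Cfsg.Agent.Lib.Helper11.Om3Tools
import Cfsg.Agent.Lib.Helper8.Om3OLEOf
import Cfsg.Agent.Lib.Helper15.Om3QR
import Cfsg.Agent.Lib.Helper5.Om3DI
import Cfsg.Agent.Lib.Helper5.Om3C2a
import Cfsg.Agent.Lib.Helper27.Om3GC
import Cfsg.Agent.Lib.Helper22.Om3OL0

/-! S2144 leaf Om3OLE (helper8), half-wired: QR, DI, C2a, GC, OL0a, OL0b are the landed leaves;
COV, OL1, OLk still enter as hypotheses (at `x`). -/

set_option autoImplicit false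

open Cfsg.Agent.Lib.Helper11.Om3 MulAction
open scoped Pointwise

namespace Cfsg.Agent.Lib.Helper8.Om3Leaf

variable {F V G : Type*} [Field F] [AddCommGroup V] [Module F V] [Group G] [DistribMulAction G V]
  (S : Setting F V G)

theorem relIndex_ge_of_ne_of2 [Finite V] [Finite G] {m : ℕ} (hV : Nat.card V = 3 ^ (2 * m + 1))
    (hs : Nat.card {v : V // S.Q v = 0} = 3 ^ (2 * m))
    (h1 : Nat.card {v : V // S.Q v = 1} = 3 ^ (2 * m) + 3 ^ m) (hm : 3 ≤ m)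
    (H : Subgroup G) {x : V} (hx0 : x ≠ 0) (hx : S.Q x = 0)
    (hCOV : ∀ (U : Submodule F V), x ∈ U → (∀ u ∈ U, S.B x u = 0) → ∀ (k : ℕ) (g : Fin k → G),
      (∀ i, g i • x = x) → ∀ u0 : V, (∀ i, u0 ∈ g i • (U : Set V)) → (¬ ∃ a : F, u0 = a • x) →
      Function.Injective (fun i => g i • (U : Set V)) →
      Nat.card (Fin k) *
          Nat.card {w : V // S.B x w = 0 ∧ (¬ ∃ a : F, w = a • x) ∧ S.Q w = S.Q u0} ≤
        Nat.card {w : V // w ∈ U ∧ (¬ ∃ a : F, w = a • x) ∧ S.Q w = S.Q u0} *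
          (stabilizer G (U : Set V)).relIndex (stabilizer G x))
    (hOL1 : 9 ≤ Nat.card (S.Dt H hx) → Nat.card (S.Dt H hx) ≤ 3 ^ (m - 1) →
      3 ^ m * (3 ^ m - 1) ≤ 2 * H.relIndex (stabilizer G x))
    (hOLk : Nat.card (S.Dt H hx) = 3 ^ m →
      3 ^ m * (3 ^ m - 1) ≤ 2 * H.relIndex (stabilizer G x))
    (hne : ∃ w, S.B x w = 0 ∧ S.sg x w ∉ H) :
    3 ^ (2 * m - 1) - 3 ^ m ≤ 2 * H.relIndex (stabilizer G x) :=
  relIndex_ge_of_ne_of S hV hm H hx0 hx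
    (Cfsg.Agent.Lib.Helper15.Om3Leaf.relIndex_Qs S H hx0 hx)
    (fun U hxU hU hcard => Cfsg.Agent.Lib.Helper5.Om3Leaf.ts_or_two_classes S hx U hxU hU hcard)
    hCOV
    (fun U hxU hts hc1 u0 hu0U hu0x =>
      Cfsg.Agent.Lib.Helper5.Om3Leaf.exists_moves_two S hV hs hm hx0 hx U hxU hts hc1 hu0U hu0x)
    (fun c => Cfsg.Agent.Lib.Helper27.Om3Leaf.card_class_ge S hV hs h1 (by omega) hx0 hx c)
    (fun hD => Cfsg.Agent.Lib.Helper22.Om3Leaf.isA_or_of_Dt_trivial S hV (by omega) H hx0 hx hD)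
    (fun hA => Cfsg.Agent.Lib.Helper22.Om3Leaf.relIndex_ge_of_isA S hV (by omega) H hA)
    hOL1 hOLk hne

end Cfsg.Agent.Lib.Helper8.Om3Leaf
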