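import Mathlib
import Cfsg.Agent.Lib.Helper11.Om3Tools
import Cfsg.Agent.Lib.Helper8.Om3OLE2
import Cfsg.Agent.Lib.Helper22.Om3COVOf
import Cfsg.Agent.Lib.Helper22.Om3OL1Of
import Cfsg.Agent.Lib.Helper14.Om3OLkOf

/-! S2144 leaf Om3OLE (helper8) over the single hypothesis `T2 S` (statement of leaf T2):
COV, OL1, OLk are taken in their `_of` forms (helper22, helper14). -/

set_option autoImplicit false

open Cfsg.Agent.Lib.Helper11.Om3 MulAction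
open scoped Pointwise

namespace Cfsg.Agent.Lib.Helper8.Om3Leaf

variable {F V G : Type*} [Field F] [AddCommGroup V] [Module F V] [Group G] [DistribMulAction G V]
  (S : Setting F V G)

/-- COV at `ι = Unit`, over T2 -/
theorem cov1_of_T2 [Finite V] [Finite G] (hT2 : Cfsg.Agent.Lib.Helper22.Om3COVOf.T2 S) :
    Cfsg.Agent.Lib.Helper22.Om3OL1Of.COV1 S := by
  intro x hx0 hx U hxU hU u0 hu0U hu0x
  have h := Cfsg.Agent.Lib.Helper22.Om3COVOf.covering_of S hT2 hx0 hx U hU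
    (fun _ : Unit => (1 : G)) (fun _ => one_smul G x) (u0 := u0)
    (fun _ => by rw [one_smul]; exact hu0U) hu0x (Function.injective_of_subsingleton _)
  rw [Nat.card_unique, one_mul] at h
  exact h

/-- OL1 over T2 -/
theorem relIndex_ge_of_small_ofT2 [Finite V] [Finite G] {m : ℕ}
    (hT2 : Cfsg.Agent.Lib.Helper22.Om3COVOf.T2 S) (hV : Nat.card V = 3 ^ (2 * m + 1))
    (hs : Nat.card {v : V // S.Q v = 0} = 3 ^ (2 * m))
    (h1 : Nat.card {v : V // S.Q v = 1} = 3 ^ (2 * m) + 3 ^ m) (hm : 3 ≤ m)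
    (H : Subgroup G) {x : V} (hx0 : x ≠ 0) (hx : S.Q x = 0)
    (hc1 : 9 ≤ Nat.card (S.Dt H hx)) (hc2 : Nat.card (S.Dt H hx) ≤ 3 ^ (m - 1)) :
    3 ^ m * (3 ^ m - 1) ≤ 2 * H.relIndex (stabilizer G x) :=
  Cfsg.Agent.Lib.Helper22.Om3OL1Of.relIndex_ge_of_small_of S
    (fun H' _ hx0' hx' => Cfsg.Agent.Lib.Helper15.Om3Leaf.relIndex_Qs S H' hx0' hx')
    (cov1_of_T2 S hT2)
    (fun {_} hx0' hx' c =>
      Cfsg.Agent.Lib.Helper27.Om3Leaf.card_class_ge S hV hs h1 (by omega) hx0' hx' c)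
    hV hm H hx0 hx hc1 hc2

/-- OLk over T2 -/
theorem relIndex_ge_of_mid_ofT2 [Finite V] [Finite G] {m : ℕ}
    (hT2 : Cfsg.Agent.Lib.Helper22.Om3COVOf.T2 S) (hV : Nat.card V = 3 ^ (2 * m + 1))
    (hs : Nat.card {v : V // S.Q v = 0} = 3 ^ (2 * m))
    (h1 : Nat.card {v : V // S.Q v = 1} = 3 ^ (2 * m) + 3 ^ m) (hm : 3 ≤ m)
    (H : Subgroup G) {x : V} (hx0 : x ≠ 0) (hx : S.Q x = 0)
    (h : Nat.card (S.Dt H hx) = 3 ^ m) :
    3 ^ m * (3 ^ m - 1) ≤ 2 * H.relIndex (stabilizer G x) :=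
  Cfsg.Agent.Lib.Helper14.Om3OLkOf.relIndex_ge_of_mid_of S hV hs h1 hm H hx0 hx h
    (fun _ _ g hg _ hu0 hu0x hinj =>
      Cfsg.Agent.Lib.Helper22.Om3COVOf.covering_of S hT2 hx0 hx (S.Dt H hx) (S.Dt_le_perp hx)
        g hg hu0 hu0x hinj)

/-- OLE over T2 -/
theorem relIndex_ge_of_ne_ofT2 [Finite V] [Finite G] {m : ℕ}
    (hT2 : Cfsg.Agent.Lib.Helper22.Om3COVOf.T2 S) (hV : Nat.card V = 3 ^ (2 * m + 1))
    (hs : Nat.card {v : V // S.Q v = 0} = 3 ^ (2 * m))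
    (h1 : Nat.card {v : V // S.Q v = 1} = 3 ^ (2 * m) + 3 ^ m) (hm : 3 ≤ m)
    (H : Subgroup G) {x : V} (hx0 : x ≠ 0) (hx : S.Q x = 0)
    (hne : ∃ w, S.B x w = 0 ∧ S.sg x w ∉ H) :
    3 ^ (2 * m - 1) - 3 ^ m ≤ 2 * H.relIndex (stabilizer G x) :=
  relIndex_ge_of_ne_of2 S hV hs h1 hm H hx0 hx
    (fun U _ hU _ g hg _ hu0 hu0x hinj =>
      Cfsg.Agent.Lib.Helper22.Om3COVOf.covering_of S hT2 hx0 hx U hU g hg hu0 hu0x hinj)
    (fun hc1 hc2 => relIndex_ge_of_small_ofT2 S hT2 hV hs h1 hm H hx0 hx hc1 hc2)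
    (fun h => relIndex_ge_of_mid_ofT2 S hT2 hV hs h1 hm H hx0 hx h)
    hne

end Cfsg.Agent.Lib.Helper8.Om3Leaf
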