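import Mathlib
import Cfsg.Agent.Lib.Helper11.Om3Tools
import Cfsg.Agent.Lib.Helper8.Om3OLE3
import Cfsg.Agent.Lib.Helper15.Om3T2

/-! S2144 leaf Om3OLE (helper8): exact statement (OLE over T2, with the landed leaf T2). -/

set_option autoImplicit false

open Cfsg.Agent.Lib.Helper11.Om3 MulAction
open scoped Pointwise

namespace Cfsg.Agent.Lib.Helper8.Om3Leaf

variable {F V G : Type*} [Field F] [AddCommGroup V] [Module F V] [Group G] [DistribMulAction G V]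
  (S : Setting F V G)

/-- the statement `T2 S` from the landed leaf T2 -/
theorem t2_of_leaf [Finite V] {m : ℕ} (hV : Nat.card V = 3 ^ (2 * m + 1))
    (hs : Nat.card {v : V // S.Q v = 0} = 3 ^ (2 * m)) (hm : 3 ≤ m) :
    Cfsg.Agent.Lib.Helper22.Om3COVOf.T2 S :=
  fun hx0 hx hw hw' hwx hwx' hQ =>
    Cfsg.Agent.Lib.Helper15.Om3Leaf.exists_stab_smul_eq S hV hs hm hx0 hx hw hw' hwx hwx' hQ

/-- OL1 (twin) -/
theorem relIndex_ge_of_small [Finite V] [Finite G] {m : ℕ} (hV : Nat.card V = 3 ^ (2 * m + 1))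
    (hs : Nat.card {v : V // S.Q v = 0} = 3 ^ (2 * m))
    (h1 : Nat.card {v : V // S.Q v = 1} = 3 ^ (2 * m) + 3 ^ m) (hm : 3 ≤ m)
    (H : Subgroup G) {x : V} (hx0 : x ≠ 0) (hx : S.Q x = 0)
    (hc1 : 9 ≤ Nat.card (S.Dt H hx)) (hc2 : Nat.card (S.Dt H hx) ≤ 3 ^ (m - 1)) :
    3 ^ m * (3 ^ m - 1) ≤ 2 * H.relIndex (stabilizer G x) :=
  relIndex_ge_of_small_ofT2 S (t2_of_leaf S hV hs hm) hV hs h1 hm H hx0 hx hc1 hc2

/-- OLk (twin) -/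
theorem relIndex_ge_of_mid [Finite V] [Finite G] {m : ℕ} (hV : Nat.card V = 3 ^ (2 * m + 1))
    (hs : Nat.card {v : V // S.Q v = 0} = 3 ^ (2 * m))
    (h1 : Nat.card {v : V // S.Q v = 1} = 3 ^ (2 * m) + 3 ^ m) (hm : 3 ≤ m)
    (H : Subgroup G) {x : V} (hx0 : x ≠ 0) (hx : S.Q x = 0)
    (h : Nat.card (S.Dt H hx) = 3 ^ m) :
    3 ^ m * (3 ^ m - 1) ≤ 2 * H.relIndex (stabilizer G x) :=
  relIndex_ge_of_mid_ofT2 S (t2_of_leaf S hV hs hm) hV hs h1 hm H hx0 hx h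

/-- OLE -/
theorem relIndex_ge_of_ne [Finite V] [Finite G] {m : ℕ} (hV : Nat.card V = 3 ^ (2 * m + 1))
    (hs : Nat.card {v : V // S.Q v = 0} = 3 ^ (2 * m))
    (h1 : Nat.card {v : V // S.Q v = 1} = 3 ^ (2 * m) + 3 ^ m) (hm : 3 ≤ m)
    (H : Subgroup G) {x : V} (hx0 : x ≠ 0) (hx : S.Q x = 0)
    (hne : ∃ w, S.B x w = 0 ∧ S.sg x w ∉ H) :
    3 ^ (2 * m - 1) - 3 ^ m ≤ 2 * H.relIndex (stabilizer G x) :=
  relIndex_ge_of_ne_ofT2 S (t2_of_leaf S hV hs hm) hV hs h1 hm H hx0 hx hne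

end Cfsg.Agent.Lib.Helper8.Om3Leaf
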