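import Mathlib
import Cfsg.Agent.Lib.Helper8.TW.Defs
import Cfsg.Agent.Lib.Helper23.TWUQDefs
import Cfsg.Agent.Lib.Helper16.TWRootB

/-!
S5672 (C7 unitary; owner helper5), block (Q') (sub-planner helper23): leaf QU6 `pg_of_fcp` = (PG):
a `p`-subgroup of `X` containing an admissible root group lies in `G`.
-/

set_option autoImplicit false
set_option linter.unusedSectionVars false
set_option linter.unusedVariables false

namespace Cfsg.Agent.Lib.Helper8.TWUQLeaf
open Matrix Cfsg.Geo Cfsg.Agent.Lib.Helper18.AschA89 Cfsg.Agent.Lib.Helper20.AschLeaf Cfsg.Agent.Lib.Helper8.TW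
open Cfsg.Agent.Lib.Helper23.TWUQ

variable {F : Type*} [Field F] {t m : ℕ}

/-- (QU6) (PG): a `p`-subgroup of `X` containing an admissible root group lies in `G`. -/
theorem pg_of_fcp [Fintype F] {p : ℕ} [Fact p.Prime] {R : RD t m F → Prop} {S : Set F}
    {X : Subgroup (GL (Idx t m) F)} (hFC : FCp R S X) (P : Subgroup (GL (Idx t m) F)) (hP : IsPGroup p P)
    (hPX : P ≤ X) (r : RD t m F) (hr : R r) (hT : ∀ c ∈ S, r.elt c ∈ P) : P ≤ Gstd t m F := by
  classical
  by_contra hle
  have : Finite (GL (Idx t m) F) := inferInstance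
  have : Finite P := inferInstance
  have : Group.IsNilpotent P := hP.isNilpotent
  have hnc : NormalizerCondition P := Group.normalizerCondition_of_isNilpotent
  have hlt : (Gstd t m F).subgroupOf P < ⊤ := by
    rw [lt_top_iff_ne_top]
    intro h
    apply hle
    exact Subgroup.subgroupOf_eq_top.1 h
  obtain ⟨x, hxN, hxP₀⟩ := SetLike.exists_of_lt (hnc _ hlt)
  apply hxP₀
  rw [Subgroup.mem_subgroupOf]
  apply hFC r hr (x : GL (Idx t m) F) (hPX x.2)
  intro c hc
  have h1 : (⟨r.elt c, hT c hc⟩ : P) ∈ (Gstd t m F).subgroupOf P := by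
    rw [Subgroup.mem_subgroupOf]
    exact (Cfsg.Agent.Lib.Helper16.TWLeaf.RD_elt_mem_H r c).1
  have h2 := (Subgroup.mem_normalizer_iff''.1 hxN _).1 h1
  rw [Subgroup.mem_subgroupOf] at h2
  exact h2

end Cfsg.Agent.Lib.Helper8.TWUQLeaf
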