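import Mathlib
import Cfsg.Agent.Lib.Helper22.SylowCount
import Cfsg.Agent.Lib.Helper7.SylowCount

/-!
helper8: M. Hall's theorem `n_3 ≠ 22`, part A: reductions for a minimal counterexample
(same pattern as helper12's `Hall21A` for `n_5 ≠ 21`).
-/

set_option autoImplicit false

namespace Cfsg.Agent.Lib.Helper8.Syl22

open Subgroup MulAction
open scoped Pointwise

universe u

theorem fact3 : Fact (Nat.Prime 3) := ⟨by norm_num⟩

attribute [local instance] fact3

/-- Minimal counterexample hypothesis for `n_3 = 22`. -/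
def MinCE (G : Type u) [Group G] [Finite G] : Prop :=
  Nat.card (Sylow 3 G) = 22 ∧
    ∀ (G' : Type u) [Group G'] [Finite G'], Nat.card G' < Nat.card G → Nat.card (Sylow 3 G') ≠ 22

variable {G : Type u} [Group G] [Finite G]

theorem normal_eq_top (h : MinCE G) (Y : Subgroup G) [Y.Normal] (hY : ¬ 3 ∣ Y.index) : Y = ⊤ := by
  by_contra hne
  have hlt : Nat.card Y < Nat.card G := by
    have h1 : Nat.card Y ∣ Nat.card G := Subgroup.card_subgroup_dvd_card Y
    have h2 : Nat.card Y ≠ Nat.card G := fun h3 => hne (Subgroup.card_eq_iff_eq_top Y |>.mp h3)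
    exact lt_of_le_of_ne (Nat.le_of_dvd Nat.card_pos h1) h2
  exact h.2 Y hlt ((Cfsg.Agent.Lib.Helper22.SylowCount.card_sylow_subgroup_eq Y hY).trans h.1)

theorem hom_trivial (h : MinCE G) {A : Type*} [Group A] [Finite A] (φ : G →* A)
    (hA : ¬ 3 ∣ Nat.card A) (g : G) : φ g = 1 := by
  have h1 : φ.ker = ⊤ := by
    apply normal_eq_top h
    rw [Subgroup.index_ker]
    intro h5
    exact hA (h5.trans (Subgroup.card_subgroup_dvd_card φ.range))
  have : g ∈ φ.ker := by rw [h1]; trivial
  exact this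

theorem faithful (h : MinCE G) (K : Subgroup G) [K.Normal]
    (hK : ∀ P : Sylow 3 G, K ≤ Subgroup.normalizer ((P : Subgroup G) : Set G)) : K = ⊥ := by
  by_contra hne
  have hlt : Nat.card (G ⧸ K) < Nat.card G := by
    have h1 : Nat.card G = Nat.card (G ⧸ K) * Nat.card K :=
      Subgroup.card_eq_card_quotient_mul_card_subgroup K
    have h2 : 1 < Nat.card K := by
      rw [Subgroup.one_lt_card_iff_ne_bot]; exact hne
    have h3 : 0 < Nat.card (G ⧸ K) := Nat.card_pos
    nlinarith
  exact h.2 (G ⧸ K) hlt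
    ((Cfsg.Agent.Lib.Helper22.SylowCount.card_sylow_quotient_eq K hK).trans h.1)

omit [Finite G] in
theorem smul_eq_iff {p : ℕ} {g : G} {P : Sylow p G} :
    g • P = P ↔ g ∈ Subgroup.normalizer ((P : Subgroup G) : Set G) := by
  rw [Sylow.smul_eq_iff_mem_normalizer, ← Sylow.coe_coe]

/-- The action on the Sylow 3-subgroups is faithful. -/
theorem eq_one_of_smul_eq (h : MinCE G) (g : G) (hg : ∀ Q : Sylow 3 G, g • Q = Q) : g = 1 := by
  have h1 : (MulAction.toPermHom G (Sylow 3 G)).ker = ⊥ := by
    apply faithful h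
    intro P k hk
    rw [← smul_eq_iff]
    have : MulAction.toPermHom G (Sylow 3 G) k = 1 := hk
    have := congrArg (fun σ : Equiv.Perm (Sylow 3 G) => σ P) this
    simpa using this
  have h2 : g ∈ (MulAction.toPermHom G (Sylow 3 G)).ker := by
    rw [MonoidHom.mem_ker]
    apply Equiv.ext
    intro Q
    simpa using hg Q
  rw [h1] at h2
  exact h2

/-- All elements act as even permutations on the Sylow 3-subgroups. -/
theorem sign_eq_one [DecidableEq (Sylow 3 G)] [Fintype (Sylow 3 G)] (h : MinCE G) (g : G) :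
    Equiv.Perm.sign (MulAction.toPermHom G (Sylow 3 G) g) = 1 := by
  have := hom_trivial h ((Equiv.Perm.sign : Equiv.Perm (Sylow 3 G) →* ℤˣ).comp
    (MulAction.toPermHom G (Sylow 3 G))) (by rw [Nat.card_eq_fintype_card]; simp) g
  simpa using this

omit [Finite G] in
theorem card_subgroupOf_eq (H K : Subgroup G) :
    Nat.card (H.subgroupOf K) = Nat.card (K ⊓ H : Subgroup G) := by
  rw [← Subgroup.inf_subgroupOf_left]
  exact Nat.card_congr (Subgroup.subgroupOfEquivOfLe inf_le_left).toEquiv

omit [Finite G] in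
theorem mem_smul_sylow_iff {p : ℕ} (g x : G) (P : Sylow p G) :
    x ∈ ((g • P : Sylow p G) : Subgroup G) ↔ g⁻¹ * x * g ∈ (P : Subgroup G) := by
  change x ∈ MulAut.conj g • (P : Subgroup G) ↔ _
  rw [Subgroup.mem_pointwise_smul_iff_inv_smul_mem]
  simp [MulAut.smul_def]

/-- The theorem follows once every minimal counterexample is refuted. -/
theorem card_sylow_ne_of_minCE (hmin : ∀ (G : Type u) [Group G] [Finite G], MinCE G → False)
    (G : Type u) [Group G] [Finite G] : Nat.card (Sylow 3 G) ≠ 22 := by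
  suffices H : ∀ n : ℕ, ∀ (G : Type u) [Group G] [Finite G], Nat.card G = n →
      Nat.card (Sylow 3 G) ≠ 22 from H _ G rfl
  intro n
  induction n using Nat.strong_induction_on with
  | _ n ih =>
    intro G _ _ hn h22
    refine hmin G ⟨h22, ?_⟩
    intro G' _ _ hlt
    exact ih (Nat.card G') (hn ▸ hlt) G' rfl

end Cfsg.Agent.Lib.Helper8.Syl22
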