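/-
helper8: S4861 + S4862 + S4863 leaf R4 (`dvd_charDegree_of_over`): if no Sylow `p`-subgroup of `G`
fixes the linear character `lam` of `M ⊴ G`, every irreducible character of `G` over `lam` has degree
divisible by `p`.  (Clifford degree formula + orbit-stabiliser.)
-/
import Mathlib
import Cfsg.Prelude.Def_Blocks
import Cfsg.Agent.Lib.Helper6.Clifford
import Cfsg.Agent.Lib.Helper6.LinChar
import Cfsg.Agent.Lib.Helper12.RealPDefs
import Cfsg.Agent.Lib.Lead.CharEquiv

set_option autoImplicit false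

namespace Cfsg.Agent.Lib.Helper8.RealP

open Cfsg Cfsg.Agent.CharLib Cfsg.Agent.Lib.Helper6 Cfsg.Agent.Lib.Helper12.RealP

universe u

variable {G : Type u} [Group G]

/-- `charDegree` of a function whose value at `1` is a natural number. -/
theorem charDegree_eq_of_one {χ : G → ℂ} {d : ℕ} (h : χ 1 = d) : charDegree χ = d := by
  unfold charDegree
  rw [h]
  simp

/-- The inertia group of a homomorphism `lam : M →* ℂˣ` of a normal subgroup. -/
def homStab (M : Subgroup G) [hM : M.Normal] (lam : M →* ℂˣ) : Subgroup G where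
  carrier := {g | ∀ m : M, lam ⟨g * m * g⁻¹, hM.conj_mem m m.2 g⟩ = lam m}
  one_mem' := by
    intro m
    congr 1
    apply Subtype.ext
    simp
  mul_mem' := by
    intro a b ha hb m
    have h1 := hb m
    have h2 := ha ⟨b * m * b⁻¹, hM.conj_mem m m.2 b⟩
    rw [← h1, ← h2]
    congr 1
    apply Subtype.ext
    simp [mul_assoc]
  inv_mem' := by
    intro a ha m
    have h2 := ha ⟨a⁻¹ * m * a⁻¹⁻¹, hM.conj_mem m m.2 a⁻¹⟩
    rw [← h2]
    congr 1
    apply Subtype.ext
    simp [mul_assoc]

theorem mem_homStab (M : Subgroup G) [hM : M.Normal] (lam : M →* ℂˣ) (g : G) :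
    g ∈ homStab M lam ↔ ∀ m : M, lam ⟨g * m * g⁻¹, hM.conj_mem m m.2 g⟩ = lam m := Iff.rfl

theorem mem_homStab_iff_conjFun (M : Subgroup G) [hM : M.Normal] (lam : M →* ℂˣ) (g : G) :
    g ∈ homStab M lam ↔
      conjFun M g (fun m => ((lam m : ℂˣ) : ℂ)) = (fun m => ((lam m : ℂˣ) : ℂ)) := by
  rw [mem_homStab]
  constructor
  · intro h
    funext m
    rw [conjFun_apply]
    exact congrArg _ (h m)
  · intro h m
    have := congrFun h m
    rw [conjFun_apply] at this
    exact Units.ext this

/-- A subgroup of index prime to `p` contains a Sylow `p`-subgroup. -/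
theorem exists_sylow_le_of_index [Finite G] {p : ℕ} [hp : Fact p.Prime] (B : Subgroup G)
    (h : ¬ p ∣ B.index) : ∃ S : Sylow p G, (S : Subgroup G) ≤ B := by
  obtain ⟨P₀⟩ : Nonempty (Sylow p B) := inferInstance
  have hpg : IsPGroup p ((P₀ : Subgroup B).map B.subtype) := P₀.isPGroup'.map B.subtype
  have hidx2 : ¬ p ∣ ((P₀ : Subgroup B).map B.subtype).index := by
    rw [Subgroup.index_map_subtype]
    exact Nat.Prime.not_dvd_mul hp.out P₀.not_dvd_index h
  refine ⟨hpg.toSylow hidx2, ?_⟩
  show (P₀ : Subgroup B).map B.subtype ≤ B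
  exact Subgroup.map_subtype_le _

/-- The orbit of a linear character has size the index of its inertia group. -/
theorem card_conjOrbit_hom [Fintype G] (M : Subgroup G) [hM : M.Normal] (lam : M →* ℂˣ) :
    (conjOrbit M (fun m => ((lam m : ℂˣ) : ℂ))).card = (homStab M lam).index := by
  have h1 := card_conjOrbit_mul M (fun m : M => ((lam m : ℂˣ) : ℂ))
  have h2 : Nat.card {g : G // conjFun M g (fun m : M => ((lam m : ℂˣ) : ℂ)) =
      (fun m : M => ((lam m : ℂˣ) : ℂ))} = Nat.card (homStab M lam) := by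
    apply Nat.card_congr
    apply Equiv.subtypeEquivRight
    intro g
    exact (mem_homStab_iff_conjFun M lam g).symm
  rw [h2] at h1
  have h3 := Subgroup.index_mul_card (homStab M lam)
  have hpos : 0 < Nat.card (homStab M lam) := Nat.card_pos
  exact Nat.eq_of_mul_eq_mul_right hpos (h1.trans h3.symm)

variable [Finite G]

/-- R4: if no Sylow `p`-subgroup of `G` fixes the linear character `lam` of `M ⊴ G`, every
irreducible character of `G` over `lam` has degree divisible by `p`. -/
theorem dvd_charDegree_of_over (p : ℕ) [Fact p.Prime] (M : Subgroup G) [hM : M.Normal] [Fintype M]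
    (lam : M →* ℂˣ)
    (hfix : ∀ P : Sylow p G, ∃ x ∈ (P : Subgroup G), ∃ m : M,
      lam ⟨x * m * x⁻¹, hM.conj_mem m m.2 x⟩ ≠ lam m)
    (χ : IrrCharacter G)
    (hover : classInner (resFun M (χ : G → ℂ)) (fun m => ((lam m : ℂˣ) : ℂ)) ≠ 0) :
    p ∣ charDegree (χ : G → ℂ) := by
  classical
  let _ : Fintype G := Fintype.ofFinite G
  have hθ : IsIrrCharacter M (fun m : M => ((lam m : ℂˣ) : ℂ)) := isIrrCharacter_of_hom lam
  have hdeg := clifford_degree M χ.2 hθ hover
  obtain ⟨n, hn⟩ := IsCharacter.classInner_nat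
    (isCharacter_resFun M (IsIrrCharacter.isCharacter χ.2)) (IsIrrCharacter.isCharacter hθ)
  have hone : ((lam 1 : ℂˣ) : ℂ) = 1 := by simp
  rw [hn, hone, mul_one, card_conjOrbit_hom M lam] at hdeg
  have hdeg' : (χ : G → ℂ) 1 = ((n * (homStab M lam).index : ℕ) : ℂ) := by
    rw [hdeg]; push_cast; rfl
  rw [charDegree_eq_of_one hdeg']
  apply Dvd.dvd.mul_left
  by_contra hnd
  obtain ⟨P, hP⟩ := exists_sylow_le_of_index (homStab M lam) hnd
  obtain ⟨x, hx, m, hm⟩ := hfix P
  exact hm ((mem_homStab M lam x).mp (hP hx) m)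

end Cfsg.Agent.Lib.Helper8.RealP
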