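/-
helper8: S4861 + S4862 + S4863 leaf R5 (`dvd_charDegree_of_le_commutator`): `V ⊴ G` with `V ≤ P'`
(`P ∈ Syl_p(G)`), `lam ≠ 1` a linear character of `V`; every irreducible character of `G` over `lam`
has degree divisible by `p`.
-/
import Mathlib
import Cfsg.Prelude.Def_Blocks
import Cfsg.Agent.Lib.Helper6.Clifford
import Cfsg.Agent.Lib.Helper6.LinChar
import Cfsg.Agent.Lib.Helper6.CharExtra
import Cfsg.Agent.Lib.Helper24.IrrFacts
import Cfsg.Agent.Lib.Helper12.RealPDefs
import Cfsg.Agent.Lib.Lead.CharEquiv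
import Cfsg.Agent.Lib.Lead.CharOrtho

set_option autoImplicit false

namespace Cfsg.Agent.Lib.Helper8.RealP

open Cfsg Cfsg.Agent.CharLib Cfsg.Agent.Lib.Helper6 Cfsg.Agent.Lib.Helper24
  Cfsg.Agent.Lib.Helper12.RealP
open scoped ComplexConjugate commutatorElement

universe u

/-- A character of `p'`-degree of a finite `p`-group has a linear constituent
(helper17's `PLenBlkL6.exists_linear_constituent`, restated here to keep the import closure small). -/
theorem exists_linear_constituent_pgroup {P : Type u} [Group P] [Fintype P] (p : ℕ)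
    [hpp : Fact p.Prime] (hP : IsPGroup p P) {Φ : P → ℂ} (hΦ : IsCharacter P Φ) (n : ℕ)
    (hn : Φ 1 = n) (hpn : ¬ p ∣ n) :
    ∃ μ : P →* ℂˣ, classInner Φ (fun y : P => ((μ y : ℂˣ) : ℂ)) ≠ 0 := by
  classical
  have : Finite (IrrCharacter P) := inferInstance
  let _ : Fintype (IrrCharacter P) := Fintype.ofFinite _
  obtain ⟨m, hm, hmψ⟩ := IsCharacter.exists_decomp_sum hΦ
  have h1 : (n : ℂ) = ∑ ψ : IrrCharacter P, ((m ψ * charDegree (ψ : P → ℂ) : ℕ) : ℂ) := by
    rw [← hn]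
    conv_lhs => rw [hm]
    rw [Finset.sum_apply]
    apply Finset.sum_congr rfl
    intro ψ _
    rw [Pi.smul_apply, irr_apply_one, Nat.cast_mul, nsmul_eq_mul]
  have h2 : n = ∑ ψ : IrrCharacter P, m ψ * charDegree (ψ : P → ℂ) := by
    rw [← Nat.cast_sum] at h1
    exact_mod_cast h1
  have h3 : ∃ ψ : IrrCharacter P, m ψ ≠ 0 ∧ ¬ p ∣ charDegree (ψ : P → ℂ) := by
    by_contra hcon
    push Not at hcon
    apply hpn
    rw [h2]
    apply Finset.dvd_sum
    intro ψ _
    by_cases hmz : m ψ = 0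
    · rw [hmz, zero_mul]; exact dvd_zero p
    · exact Dvd.dvd.mul_left (hcon ψ hmz) _
  obtain ⟨ψ, hmψ0, hψp⟩ := h3
  have hdeg : charDegree (ψ : P → ℂ) = 1 := by
    have hdvd := irr_charDegree_dvd_card ψ
    obtain ⟨k, hk⟩ := IsPGroup.iff_card.mp hP
    rw [hk] at hdvd
    obtain ⟨i, -, hi⟩ := (Nat.dvd_prime_pow hpp.out).mp hdvd
    rcases Nat.eq_zero_or_pos i with h0 | hpos
    · rw [hi, h0, pow_zero]
    · exfalso
      apply hψp
      rw [hi]
      exact dvd_pow_self p hpos.ne'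
  have hψ1 : (ψ : P → ℂ) 1 = 1 := by rw [irr_apply_one, hdeg, Nat.cast_one]
  refine ⟨linCharUnitsHom (IsIrrCharacter.isCharacter ψ.2) hψ1, ?_⟩
  have e : (fun y : P => ((linCharUnitsHom (IsIrrCharacter.isCharacter ψ.2) hψ1 y : ℂˣ) : ℂ))
      = (ψ : P → ℂ) := rfl
  rw [e, hmψ ψ]
  exact_mod_cast hmψ0

variable {G : Type u} [Group G]

/-- The inner product with the trivial function, computed through an intermediate subgroup. -/
theorem classInner_resFun_subgroupOf (H V : Subgroup G) [Fintype V] [Fintype (V.subgroupOf H)]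
    (hVH : V ≤ H) (χ : G → ℂ) :
    classInner (resFun (V.subgroupOf H) (resFun H χ)) (fun _ => (1 : ℂ)) =
      classInner (resFun V χ) (fun _ => (1 : ℂ)) := by
  unfold classInner
  have hcard : Nat.card (V.subgroupOf H) = Nat.card V :=
    Nat.card_congr (Subgroup.subgroupOfEquivOfLe hVH).toEquiv
  rw [hcard]
  congr 1
  apply Fintype.sum_equiv (Subgroup.subgroupOfEquivOfLe hVH).toEquiv
  intro w
  rfl

/-- If the restriction of a character to `H` has a linear constituent trivial on `V ≤ H`, then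
the restriction to `V` contains the trivial character. -/
theorem classInner_resFun_one_ne_zero [Finite G] (H V : Subgroup G) [Fintype H] [Fintype V]
    (hVH : V ≤ H) {χ : G → ℂ} (hχ : IsCharacter G χ) (μ : H →* ℂˣ)
    (hμ : classInner (resFun H χ) (fun y : H => ((μ y : ℂˣ) : ℂ)) ≠ 0)
    (hker : ∀ (v : G) (hv : v ∈ V), μ ⟨v, hVH hv⟩ = 1) :
    classInner (resFun V χ) (fun _ => (1 : ℂ)) ≠ 0 := by
  classical
  let _ : Fintype (V.subgroupOf H) := Fintype.ofFinite _
  have : Finite (IrrCharacter H) := inferInstance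
  let _ : Fintype (IrrCharacter H) := Fintype.ofFinite _
  rw [← classInner_resFun_subgroupOf H V hVH χ]
  have hΦ : IsCharacter H (resFun H χ) := isCharacter_resFun H hχ
  obtain ⟨m, hm, hmψ⟩ := IsCharacter.exists_decomp_sum hΦ
  have hone : IsCharacter (V.subgroupOf H) (fun _ => (1 : ℂ)) :=
    IsIrrCharacter.isCharacter (isIrrCharacter_one (G := V.subgroupOf H))
  choose k hk using fun ψ : IrrCharacter H =>
    IsCharacter.classInner_nat
      (isCharacter_resFun (V.subgroupOf H) (IsIrrCharacter.isCharacter ψ.2)) hone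
  have hsum : classInner (resFun (V.subgroupOf H) (resFun H χ)) (fun _ => (1 : ℂ)) =
      ((∑ ψ : IrrCharacter H, m ψ * k ψ : ℕ) : ℂ) := by
    conv_lhs => rw [hm]
    rw [map_sum, classInner_sum_left, Nat.cast_sum]
    apply Finset.sum_congr rfl
    intro ψ _
    rw [← Nat.cast_smul_eq_nsmul ℂ, map_smul, classInner_smul_left, hk ψ, Nat.cast_mul]
  rw [hsum]
  -- the term of `μ`
  set ψ₀ : IrrCharacter H := ⟨fun y : H => ((μ y : ℂˣ) : ℂ), isIrrCharacter_of_hom μ⟩ with hψ₀
  have hm0 : m ψ₀ ≠ 0 := by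
    intro h0
    apply hμ
    have := hmψ ψ₀
    rw [h0, Nat.cast_zero] at this
    exact this
  have hk0 : k ψ₀ = 1 := by
    have h1 := hk ψ₀
    have h2 : resFun (V.subgroupOf H) (ψ₀ : H → ℂ) = (1 : (V.subgroupOf H) → ℂ) := by
      funext w
      rw [resFun_apply]
      show ((μ (w : H) : ℂˣ) : ℂ) = 1
      have hw : ((w : H) : G) ∈ V := Subgroup.mem_subgroupOf.mp w.2
      have h3 := hker ((w : H) : G) hw
      have h4 : (⟨((w : H) : G), hVH hw⟩ : H) = (w : H) := Subtype.ext rfl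
      rw [h4] at h3
      rw [h3]
      rfl
    rw [h2] at h1
    have h5 : classInner (1 : (V.subgroupOf H) → ℂ) (fun _ => (1 : ℂ)) = 1 := by
      have := classInner_irr (isIrrCharacter_one (G := V.subgroupOf H))
        (isIrrCharacter_one (G := V.subgroupOf H))
      rw [if_pos rfl] at this
      exact this
    rw [h5] at h1
    exact_mod_cast h1.symm
  have hpos : 0 < ∑ ψ : IrrCharacter H, m ψ * k ψ := by
    apply Finset.sum_pos'
    · intro ψ _; exact Nat.zero_le _
    · refine ⟨ψ₀, Finset.mem_univ _, ?_⟩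
      rw [hk0, mul_one]
      exact Nat.pos_of_ne_zero hm0
  exact_mod_cast hpos.ne'

/-- A homomorphism to an abelian group is trivial on the commutator subgroup, for a subgroup of
an ambient group. -/
theorem hom_eq_one_of_mem_commutator (H : Subgroup G) (μ : H →* ℂˣ) (v : G)
    (hv : v ∈ ⁅H, H⁆) (hvH : v ∈ H) : μ ⟨v, hvH⟩ = 1 := by
  have hle : ⁅H, H⁆ ≤ (μ.ker).map H.subtype := by
    rw [Subgroup.commutator_le]
    intro a ha b hb
    refine ⟨⁅(⟨a, ha⟩ : H), (⟨b, hb⟩ : H)⁆, ?_, rfl⟩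
    show μ ⁅(⟨a, ha⟩ : H), (⟨b, hb⟩ : H)⁆ = 1
    rw [map_commutatorElement]
    exact commutatorElement_eq_one_iff_commute.mpr (Commute.all _ _)
  obtain ⟨w, hw, hwv⟩ := hle hv
  have : w = ⟨v, hvH⟩ := Subtype.ext hwv
  rw [← this]
  exact hw

variable [Finite G]

/-- R5: `V ⊴ G` with `V ≤ P'` (`P ∈ Syl_p(G)`), `lam ≠ 1` a linear character of `V`.  Every
irreducible character of `G` over `lam` has degree divisible by `p`. -/
theorem dvd_charDegree_of_le_commutator (p : ℕ) [Fact p.Prime] (V : Subgroup G) [hV : V.Normal]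
    [Fintype V] (P : Sylow p G) (hVP : V ≤ ⁅(P : Subgroup G), (P : Subgroup G)⁆)
    (lam : V →* ℂˣ) (hlam : lam ≠ 1) (χ : IrrCharacter G)
    (hover : classInner (resFun V (χ : G → ℂ)) (fun v => ((lam v : ℂˣ) : ℂ)) ≠ 0) :
    p ∣ charDegree (χ : G → ℂ) := by
  classical
  by_contra hnd
  let _ : Fintype G := Fintype.ofFinite G
  let _ : Fintype (P : Subgroup G) := Fintype.ofFinite _
  have hχc : IsCharacter G (χ : G → ℂ) := IsIrrCharacter.isCharacter χ.2
  have hPP : ⁅(P : Subgroup G), (P : Subgroup G)⁆ ≤ (P : Subgroup G) :=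
    Subgroup.commutator_le.mpr (fun a ha b hb =>
      Subgroup.mul_mem _ (Subgroup.mul_mem _ (Subgroup.mul_mem _ ha hb) (Subgroup.inv_mem _ ha))
        (Subgroup.inv_mem _ hb))
  have hVle : V ≤ (P : Subgroup G) := hVP.trans hPP
  have hΦ : IsCharacter (P : Subgroup G) (resFun (P : Subgroup G) (χ : G → ℂ)) :=
    isCharacter_resFun _ hχc
  obtain ⟨μ, hμ⟩ := exists_linear_constituent_pgroup p P.isPGroup' hΦ
    (charDegree (χ : G → ℂ)) (by rw [resFun_apply]; exact irr_apply_one χ) hnd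
  have h1 : classInner (resFun V (χ : G → ℂ)) (fun _ => (1 : ℂ)) ≠ 0 :=
    classInner_resFun_one_ne_zero (P : Subgroup G) V hVle hχc μ hμ
      (fun v hv => hom_eq_one_of_mem_commutator (P : Subgroup G) μ v (hVP hv) (hVle hv))
  have hirr1 : IsIrrCharacter V (fun _ : V => (1 : ℂ)) := isIrrCharacter_one (G := V)
  obtain ⟨g, hg⟩ := exists_conjFun_eq_of_constituent V χ.2 (isIrrCharacter_of_hom lam) hirr1
    hover h1
  apply hlam
  apply MonoidHom.ext
  intro v
  apply Units.ext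
  have h2 := congrFun hg ⟨g⁻¹ * v * g⁻¹⁻¹, hV.conj_mem v v.2 g⁻¹⟩
  rw [conjFun_apply] at h2
  have h3 : (⟨g * ((⟨g⁻¹ * v * g⁻¹⁻¹, hV.conj_mem v v.2 g⁻¹⟩ : V) : G) * g⁻¹, hV.conj_mem _
      (⟨g⁻¹ * v * g⁻¹⁻¹, hV.conj_mem v v.2 g⁻¹⟩ : V).2 g⟩ : V) = v := by
    apply Subtype.ext
    simp [mul_assoc]
  rw [h3] at h2
  rw [h2]
  simp

end Cfsg.Agent.Lib.Helper8.RealP
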