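import Mathlib

/-!
helper8: generic leaves for S2332, part 2: fixed points of a subgroup as a subrepresentation of (a subgroup of) its
normalizer; a subgroup whose normal closure is everything acts nontrivially in a nontrivial representation;
reindexing `SL` and transport of irreducibility along a group isomorphism.
-/

set_option autoImplicit false

namespace Cfsg.Agent.Lib.Helper8.SLMinGen

open Module

variable {G V : Type*} [Group G] [AddCommGroup V] [Module ℂ V]

/-- the vectors fixed by every element of `Q` -/
def fixedPts (ρ : Representation ℂ G V) (Q : Subgroup G) : Submodule ℂ V where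
  carrier := {v | ∀ x ∈ Q, ρ x v = v}
  add_mem' := fun {u v} hu hv x hx => by rw [map_add, hu x hx, hv x hx]
  zero_mem' := fun x _ => map_zero _
  smul_mem' := fun c v hv x hx => by rw [map_smul, hv x hx]

theorem mem_fixedPts {ρ : Representation ℂ G V} {Q : Subgroup G} {v : V} :
    v ∈ fixedPts ρ Q ↔ ∀ x ∈ Q, ρ x v = v := Iff.rfl

/-- the normalizer of `Q` preserves the fixed points of `Q` -/
theorem apply_mem_fixedPts (ρ : Representation ℂ G V) (Q : Subgroup G) (n : G)
    (hn : n ∈ Subgroup.normalizer (Q : Set G)) {v : V} (hv : v ∈ fixedPts ρ Q) :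
    ρ n v ∈ fixedPts ρ Q := by
  intro x hx
  have h1 : n⁻¹ * x * n ∈ Q := by
    have := (Subgroup.mem_normalizer_iff'.mp hn (n⁻¹ * x))
    rw [Subgroup.mem_normalizer_iff] at hn
    have h2 := (hn (n⁻¹ * x * n)).mpr
    apply h2
    have : n * (n⁻¹ * x * n) * n⁻¹ = x := by group
    rw [this]
    exact hx
  have h3 : ρ x (ρ n v) = ρ n (ρ (n⁻¹ * x * n) v) := by
    rw [← Module.End.mul_apply, ← Module.End.mul_apply, ← map_mul, ← map_mul]
    congr 2
    group
  rw [h3, hv _ h1]

/-- the fixed points of `Q` as a subrepresentation of the restriction to a subgroup `L` normalizing `Q` -/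
def fixedSub (ρ : Representation ℂ G V) (Q L : Subgroup G)
    (hL : L ≤ Subgroup.normalizer (Q : Set G)) :
    Subrepresentation (ρ.comp L.subtype : Representation ℂ L V) where
  toSubmodule := fixedPts ρ Q
  apply_mem_toSubmodule := fun g _ hv => apply_mem_fixedPts ρ Q g (hL g.2) hv

/-- if `Q` acts trivially and the normal closure of `Q` is everything, the representation is trivial -/
theorem eq_one_of_normalClosure_eq_top (ρ : Representation ℂ G V) (Q : Subgroup G)
    (hQ : Subgroup.normalClosure (Q : Set G) = ⊤) (htriv : ∀ x ∈ Q, ρ x = 1) (g : G) : ρ g = 1 := by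
  have hker : Subgroup.normalClosure (Q : Set G) ≤ (ρ : G →* (V →ₗ[ℂ] V)).ker := by
    apply Subgroup.normalClosure_le_normal
    intro x hx
    exact MonoidHom.mem_ker.mpr (htriv x hx)
  have : g ∈ (ρ : G →* (V →ₗ[ℂ] V)).ker := hker (by rw [hQ]; trivial)
  exact MonoidHom.mem_ker.mp this

/-- irreducibility is invariant under precomposition with a surjective homomorphism -/
theorem isIrreducible_comp_of_surjective {H : Type*} [Group H] (f : H →* G)
    (hf : Function.Surjective f) (ρ : Representation ℂ G V) :
    Representation.IsIrreducible (ρ.comp f : Representation ℂ H V) ↔ ρ.IsIrreducible := by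
  let e : Subrepresentation (ρ.comp f : Representation ℂ H V) ≃o Subrepresentation ρ :=
    { toFun := fun W =>
        { toSubmodule := W.toSubmodule
          apply_mem_toSubmodule := fun g v hv => by
            obtain ⟨h, rfl⟩ := hf g
            exact W.apply_mem_toSubmodule h hv }
      invFun := fun W =>
        { toSubmodule := W.toSubmodule
          apply_mem_toSubmodule := fun h v hv => W.apply_mem_toSubmodule (f h) hv }
      left_inv := fun W => rfl
      right_inv := fun W => rfl
      map_rel_iff' := Iff.rfl }
  exact e.isSimpleOrder_iff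

variable {F : Type*} [CommRing F]

/-- reindexing `SL` along an equivalence of index types -/
def slReindex {m n : Type*} [Fintype m] [DecidableEq m] [Fintype n] [DecidableEq n] (e : m ≃ n) :
    Matrix.SpecialLinearGroup m F ≃* Matrix.SpecialLinearGroup n F where
  toFun A := ⟨Matrix.reindex e e A.1, by rw [Matrix.det_reindex_self]; exact A.2⟩
  invFun A := ⟨Matrix.reindex e.symm e.symm A.1, by rw [Matrix.det_reindex_self]; exact A.2⟩
  left_inv A := by
    apply Subtype.ext
    ext i j
    simp
  right_inv A := by
    apply Subtype.ext
    ext i j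
    simp
  map_mul' A B := by
    apply Subtype.ext
    show Matrix.reindex e e (A.1 * B.1) = Matrix.reindex e e A.1 * Matrix.reindex e e B.1
    simp only [Matrix.reindex_apply]
    rw [Matrix.submatrix_mul_equiv]

@[simp] theorem slReindex_apply {m n : Type*} [Fintype m] [DecidableEq m] [Fintype n] [DecidableEq n]
    (e : m ≃ n) (A : Matrix.SpecialLinearGroup m F) (i j : n) :
    (slReindex e A : Matrix n n F) i j = (A : Matrix m m F) (e.symm i) (e.symm j) := rfl

/-- transport of a representation of `SL n` to `SL m` along a reindexing keeps irreducibility -/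
theorem isIrreducible_comp_slReindex {K : Type*} [Field K] {m n : Type*} [Fintype m] [DecidableEq m]
    [Fintype n] [DecidableEq n] (e : m ≃ n)
    (ρ : Representation ℂ (Matrix.SpecialLinearGroup n K) V) :
    Representation.IsIrreducible
      (ρ.comp (slReindex (F := K) e).toMonoidHom : Representation ℂ (Matrix.SpecialLinearGroup m K) V) ↔
      ρ.IsIrreducible :=
  isIrreducible_comp_of_surjective (slReindex (F := K) e).toMonoidHom (slReindex (F := K) e).surjective ρ

end Cfsg.Agent.Lib.Helper8.SLMinGen
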