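import Mathlib
import Cfsg.Agent.Lib.Helper12.U3Defs

/-!
helper8: S2148 market "U3", leaf SWAP (`swap`): if `H` is transitive on the isotropic points and `H ∩ PP = LL`
then some `h ∈ H` swaps `⟨ve⟩` and `⟨vf⟩`.  Also the diagonal elements `diagL` of `LL` (general tool).
-/

set_option autoImplicit false

namespace Cfsg.Agent.Lib.Helper8.U3Leaf

open Cfsg.Agent.Lib.Helper18.PSUMod Cfsg.Agent.Lib.Helper5.HermBridge Cfsg.Agent.Lib.Helper12.U3

section borel

variable {F : Type*} [Field F] [Fintype F] {q : ℕ} (hF : Fintype.card F = q ^ 2)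

/-- the diagonal elements `diag(a, a^(q-1), a^(-q))` of `LL` -/
theorem exists_diagL {a : F} (ha : a ≠ 0) : ∃ l ∈ LL hF, ∀ x : V F 1,
    av l x = (a * x.1, fun i => (frobHom hF a / a) * x.2.1 i, (frobHom hF a)⁻¹ * x.2.2) := by
  have hB := barOK_frob hF
  have hbl : frobHom hF a ≠ 0 := fun h => ha ((map_eq_zero (frobHom hF)).1 h)
  let μ : Fin 1 → Fˣ := fun _ => Units.mk0 (frobHom hF a / a) (div_ne_zero hbl ha)
  have hμ : ∀ i, (μ i : F) * frobHom hF (μ i : F) = 1 := by
    intro i
    simp only [μ, Units.val_mk0, map_div₀, hB.invol]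
    field_simp
  have hprod : ∏ i, (μ i : F) = frobHom hF a / a := by
    simp [μ]
  refine ⟨dLevi hB.invol (Units.mk0 a ha) 1 μ hμ (by
    rw [hprod]; simp only [Units.val_mk0, Equiv.Perm.sign_one, Units.val_one, Int.cast_one,
      one_mul]; field_simp), dLevi_mem_Le _ _ _ _ _ _, fun x => ?_⟩
  rw [av_dLevi]
  simp only [Units.val_mk0, Prod.mk.injEq, true_and, and_true]
  funext i
  rw [monoB_apply]
  simp [μ]

include hF in
/-- a generator of `Fˣ` has three distinct "weights" when `3 ≤ q` -/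
theorem exists_regular (hq : 3 ≤ q) : ∃ a : F, a ≠ 0 ∧ a ^ (q - 2) ≠ 1 ∧ a ^ (q + 1) ≠ 1 ∧
    a ^ (2 * q - 1) ≠ 1 := by
  classical
  obtain ⟨g, hg⟩ := IsCyclic.exists_generator (α := Fˣ)
  have hord : orderOf g = q ^ 2 - 1 := by
    rw [orderOf_eq_card_of_forall_mem_zpowers hg, Nat.card_eq_fintype_card, Fintype.card_units, hF]
  have key : ∀ k : ℕ, 0 < k → k < q ^ 2 - 1 → (g : F) ^ k ≠ 1 := by
    intro k hk0 hk h
    have h1 : g ^ k = 1 := by
      apply Units.ext
      rw [Units.val_pow_eq_pow_val, h, Units.val_one]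
    have := orderOf_dvd_of_pow_eq_one h1
    rw [hord] at this
    exact absurd (Nat.le_of_dvd hk0 this) (by omega)
  have hq2 : q ^ 2 = q * q := sq q
  have h9 : 3 * q ≤ q * q := Nat.mul_le_mul_right q hq
  refine ⟨(g : F), g.ne_zero, key _ (by omega) (by omega), key _ (by omega) (by omega),
    key _ (by omega) (by omega)⟩

/-- B5 SWAP -/
theorem swap (hq : 3 ≤ q) (H : Subgroup (GG hF)) (htr : Trans hF H) (hK : H ⊓ PP hF = LL hF) :
    ∃ h ∈ H, h ∉ PP hF ∧ h * h ∈ PP hF := by
  have hB := barOK_frob hF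
  obtain ⟨g₀, a₀, ha₀, h₀⟩ := exists_vf_eq (m := 1) hB
  obtain ⟨h, hhH, b, hb, hgb⟩ := htr g₀
  have hbve : av b ve = ca b • ve := av_ve_of_mem_Pe hb
  have hcab : ca b ≠ 0 := ca_ne_zero hb
  -- `av h ve = c • vf`
  obtain ⟨c, hc0, hve⟩ : ∃ c : F, c ≠ 0 ∧ av h ve = c • (vf : V F 1) := by
    refine ⟨a₀⁻¹ * (ca b)⁻¹, mul_ne_zero (inv_ne_zero ha₀) (inv_ne_zero hcab), ?_⟩
    have h1 : av g₀ ve = ca b • av h ve := by
      rw [hgb, av_mul, hbve, av_smul]
    rw [h₀, h1, smul_smul, smul_smul]
    have : a₀⁻¹ * (ca b)⁻¹ * a₀ * ca b = 1 := by field_simp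
    rw [this, one_smul]
  refine ⟨h, hhH, ?_, ?_⟩
  · rintro ⟨a, ha⟩
    rw [hve] at ha
    have := congrArg (fun x : V F 1 => x.2.2) ha
    simp [ve, vf] at this
    exact hc0 this
  -- `u = av h vf` is an eigenvector of every `l ∈ LL`
  have heig : ∀ l ∈ LL hF, ∃ β : F, av l (av h vf) = β • av h vf := by
    intro l hl
    have hlH : l ∈ H := by
      have : l ∈ H ⊓ PP hF := by rw [hK]; exact hl
      exact this.1
    have h2 : h⁻¹ * l * h ∈ H ⊓ PP hF := by
      refine ⟨H.mul_mem (H.mul_mem (H.inv_mem hhH) hlH) hhH, ?_⟩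
      refine ⟨cb l, ?_⟩
      apply av_injective h
      rw [av_mul, av_mul, av_av_inv, hve, av_smul, av_vf_of_mem_Pf hl.2, av_smul, hve, smul_smul,
        smul_smul, mul_comm]
    rw [hK] at h2
    obtain ⟨β, hβ⟩ := h2.2
    refine ⟨β, ?_⟩
    have := congrArg (av h) hβ
    rwa [av_mul, av_mul, av_av_inv, av_smul] at this
  obtain ⟨a, ha0, ha1, ha2, ha3⟩ := exists_regular hF hq
  obtain ⟨l, hl, hlx⟩ := exists_diagL hF ha0
  obtain ⟨β, hβ⟩ := heig l hl
  set u : V F 1 := av h vf with hu
  have hu0 : u ≠ 0 := by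
    intro h0
    have := av_eq_zero.1 h0
    simp [vf, Prod.ext_iff] at this
  have huiso : hV (frobHom hF) u u = 0 := by
    rw [hu, hV_av]
    simp [hV, vf]
  rw [hlx u] at hβ
  have hbar : frobHom hF a = a ^ q := rfl
  have hbl : frobHom hF a ≠ 0 := fun h => ha0 ((map_eq_zero (frobHom hF)).1 h)
  have e1 : a * u.1 = β * u.1 := by
    have := congrArg (fun x : V F 1 => x.1) hβ
    simpa using this
  have e2 : (frobHom hF a / a) * u.2.1 0 = β * u.2.1 0 := by
    have := congrArg (fun x : V F 1 => x.2.1 0) hβ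
    simpa using this
  have e3 : (frobHom hF a)⁻¹ * u.2.2 = β * u.2.2 := by
    have := congrArg (fun x : V F 1 => x.2.2) hβ
    simpa using this
  -- the last coordinate of `u` vanishes
  have hu22 : u.2.2 = 0 := by
    by_contra h22
    have hβ3 : β = (frobHom hF a)⁻¹ := (mul_right_cancel₀ h22 e3).symm
    have hu1 : u.1 = 0 := by
      by_contra h11
      have : a = β := mul_right_cancel₀ h11 e1
      rw [hβ3, hbar] at this
      apply ha2
      have hq0 : a ^ q ≠ 0 := pow_ne_zero _ ha0
      rw [pow_succ]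
      field_simp at this
      rw [mul_comm]; exact this
    have hu21 : u.2.1 0 = 0 := by
      by_contra h21
      have : frobHom hF a / a = β := mul_right_cancel₀ h21 e2
      rw [hβ3, hbar] at this
      apply ha3
      have hq0 : a ^ q ≠ 0 := pow_ne_zero _ ha0
      field_simp at this
      have h2q : 2 * q - 1 + 1 = q + q := by omega
      have : a ^ (2 * q - 1) * a = 1 * a := by
        rw [← pow_succ, h2q, pow_add, one_mul, ← sq]; exact this
      exact mul_right_cancel₀ ha0 this
    -- then `u = u.2.2 • vf`, contradicting injectivity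
    have huvf : u = u.2.2 • (vf : V F 1) := by
      ext1
      · simp [vf, hu1]
      · ext1
        · funext i
          have : i = 0 := Subsingleton.elim _ _
          subst this
          simp [vf, hu21]
        · simp [vf]
    have : av h (u.2.2 • (ve : V F 1)) = av h (c • vf) := by
      rw [av_smul, hve, av_smul, ← hu]
      conv_rhs => rw [huvf]
      rw [smul_smul, smul_smul, mul_comm]
    have := av_injective h this
    have := congrArg (fun x : V F 1 => x.1) this
    simp [ve, vf] at this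
    exact h22 this
  have hu21 : u.2.1 0 = 0 := by
    have := huiso
    simp only [hV, hu22, map_zero, mul_zero, zero_mul, zero_add, hW, Finset.univ_unique,
      Finset.sum_singleton] at this
    rcases mul_eq_zero.1 this with h | h
    · exact h
    · exact (map_eq_zero (frobHom hF)).1 h
  refine ⟨c * u.1, ?_⟩
  rw [av_mul, hve, av_smul, ← hu, mul_smul]
  congr 1
  ext1
  · simp [ve]
  · ext1
    · funext i
      have : i = 0 := Subsingleton.elim _ _
      subst this
      simpa [ve] using hu21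
    · simpa [ve] using hu22

end borel

end Cfsg.Agent.Lib.Helper8.U3Leaf
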