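import Mathlib
import Cfsg.Agent.Lib.Helper12.U3Defs
import Cfsg.Agent.Lib.Helper4.U3BRUHAT
import Cfsg.Agent.Lib.Helper20.U3CARDQ

/-!
helper8: S2148 market "U3", leaf FIXLE (`card_fixed_le`): a non-central element of `SU_3(q)` fixes at most
`q + 1` isotropic points.  Tools: `fixed_iff`, `card_fixed_conj`, `exists_conj_mem_LL` (an element with two fixed
points is conjugate into `LL`), `fixed_LL_w` (for `l ∈ LL` non-central, the fixed points other than the base
point are `t s P` with `t ∈ TT`).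
-/

set_option autoImplicit false

namespace Cfsg.Agent.Lib.Helper8.U3Leaf

open Cfsg.Agent.Lib.Helper18.PSUMod Cfsg.Agent.Lib.Helper5.HermBridge Cfsg.Agent.Lib.Helper12.U3

section line

variable {F : Type*} [Field F] [Fintype F] {q : ℕ} (hF : Fintype.card F = q ^ 2)

/-- `g` fixes the coset `d P` iff `d⁻¹ g d ∈ P` -/
theorem fixed_iff (g d : GG hF) :
    g • ((d : GG hF) : GG hF ⧸ PP hF) = ((d : GG hF) : GG hF ⧸ PP hF) ↔ d⁻¹ * g * d ∈ PP hF := by
  rw [MulAction.Quotient.smul_mk, QuotientGroup.eq, smul_eq_mul]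
  constructor
  · intro h
    have := (PP hF).inv_mem h
    have e : ((g * d)⁻¹ * d)⁻¹ = d⁻¹ * g * d := by group
    rwa [e] at this
  · intro h
    have := (PP hF).inv_mem h
    have e : (d⁻¹ * g * d)⁻¹ = (g * d)⁻¹ * d := by group
    rwa [e] at this

/-- conjugate elements have the same number of fixed points -/
theorem card_fixed_conj (g k : GG hF) :
    Nat.card {x : GG hF ⧸ PP hF // (k⁻¹ * g * k) • x = x} =
      Nat.card {x : GG hF ⧸ PP hF // g • x = x} := by
  apply Nat.card_congr
  refine Equiv.subtypeEquiv (MulAction.toPerm k) ?_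
  intro x
  simp only [MulAction.toPerm_apply]
  rw [mul_smul, mul_smul]
  constructor
  · intro h
    have := congrArg (fun y => k • y) h
    simpa using this
  · intro h
    rw [h, inv_smul_smul]

/-- for `l ∈ LL` non-central, a fixed isotropic point `⟨(c, w, 1)⟩` has `w = 0` -/
theorem fixed_LL_w (l : GG hF) (hl : l ∈ LL hF) (hlc : l ∉ Subgroup.center (GG hF))
    (y : ↥(HS (frobHom hF) (barOK_frob hF).invol 1)) (β : F)
    (hfix : av l (av (EG (barOK_frob hF).invol y) vf) = β • av (EG (barOK_frob hF).invol y) vf) :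
    (y : HP (frobHom hF) 1).w = 0 := by
  have hB := barOK_frob hF
  by_contra hw
  apply hlc
  rw [center_eq_Zs hB, mem_Zs]
  have hve : av l ve = ca l • (ve : V F 1) := av_ve_of_mem_Pe hl.1
  have hvf : av l vf = cb l • (vf : V F 1) := av_vf_of_mem_Pf hl.2
  have hvw : ∀ w : Fin 1 → F, av l (vw w) = vw (Bof (l : V F 1 ≃ₗ[F] V F 1) w) :=
    av_vw_of_mem_Le hl
  rw [av_EG_vf] at hfix
  have hdec : ((((y : HP (frobHom hF) 1).c, (y : HP (frobHom hF) 1).w, (1 : F)) : V F 1)) =
      (y : HP (frobHom hF) 1).c • ve + vw (y : HP (frobHom hF) 1).w + vf := by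
    simp [ve, vw, vf]
  have hL : av l ((((y : HP (frobHom hF) 1).c, (y : HP (frobHom hF) 1).w, (1 : F)) : V F 1)) =
      (ca l * (y : HP (frobHom hF) 1).c, Bof (l : V F 1 ≃ₗ[F] V F 1) (y : HP (frobHom hF) 1).w,
        cb l) := by
    rw [hdec, av_add, av_add, av_smul, hve, hvw, hvf]
    simp [ve, vw, vf, mul_comm]
  rw [hL] at hfix
  have e1 : ca l * (y : HP (frobHom hF) 1).c = β * (y : HP (frobHom hF) 1).c := by
    have := congrArg (fun x : V F 1 => x.1) hfix
    simpa using this
  have e2 : Bof (l : V F 1 ≃ₗ[F] V F 1) (y : HP (frobHom hF) 1).w = β • (y : HP (frobHom hF) 1).w := by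
    have := congrArg (fun x : V F 1 => x.2.1) hfix
    simpa using this
  have e3 : cb l = β := by
    have := congrArg (fun x : V F 1 => x.2.2) hfix
    simpa using this
  have hw0 : (y : HP (frobHom hF) 1).w 0 ≠ 0 := by
    intro h0
    apply hw
    funext i
    have : i = 0 := Subsingleton.elim _ _
    subst this
    simpa using h0
  have hc0 : (y : HP (frobHom hF) 1).c ≠ 0 := by
    intro hc
    have := mem_HS.1 y.2
    rw [hc, map_zero, add_zero, hW, Finset.univ_unique, Finset.sum_singleton, eq_comm,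
      neg_eq_zero] at this
    rcases mul_eq_zero.1 this with h | h
    · exact hw0 h
    · exact hw0 ((map_eq_zero (frobHom hF)).1 h)
  have hca : ca l = β := mul_right_cancel₀ hc0 e1
  have hBof : ∀ w : Fin 1 → F, Bof (l : V F 1 ≃ₗ[F] V F 1) w = β • w := by
    intro w
    have hww : w = (w 0 / (y : HP (frobHom hF) 1).w 0) • (y : HP (frobHom hF) 1).w := by
      funext i
      have : i = 0 := Subsingleton.elim _ _
      subst this
      simp only [Pi.smul_apply, smul_eq_mul]
      field_simp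
    rw [hww, map_smul, e2, smul_comm]
  refine ⟨β, fun x => ?_⟩
  conv_lhs => rw [decomp x]
  rw [av_add, av_add, av_smul, av_smul, hve, hvf, hvw, hBof, hca, e3]
  conv_rhs => rw [decomp x]
  simp only [smul_add, smul_smul, vw, ve, vf, Prod.smul_mk, smul_zero, mul_comm]

/-- the bound for the non-central elements of `LL` -/
theorem card_fixed_le_of_mem_LL (l : GG hF) (hl : l ∈ LL hF) (hlc : l ∉ Subgroup.center (GG hF)) :
    Nat.card {x : GG hF ⧸ PP hF // l • x = x} ≤ q + 1 := by
  have hB := barOK_frob hF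
  obtain ⟨s, a₀, ha₀, hs⟩ := exists_vf_eq (m := 1) hB
  let f : Option ↥(TT hF) → GG hF ⧸ PP hF := fun o =>
    match o with
    | none => ((1 : GG hF) : GG hF ⧸ PP hF)
    | some t => (((t : GG hF) * s : GG hF) : GG hF ⧸ PP hF)
  have hsub : {x : GG hF ⧸ PP hF | l • x = x} ⊆ Set.range f := by
    intro x hx
    induction x using QuotientGroup.induction_on with
    | H d =>
      rw [Set.mem_ofPred_eq, fixed_iff] at hx
      by_cases hd : d ∈ PP hF
      · refine ⟨none, ?_⟩
        show ((1 : GG hF) : GG hF ⧸ PP hF) = d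
        rw [QuotientGroup.eq, inv_one, one_mul]
        exact hd
      · obtain ⟨hiso, hfar⟩ := Cfsg.Agent.Lib.Helper4.U3Leaf.far_of_not_mem hF d hd
        obtain ⟨y, hy⟩ := exists_EG_of_far hB.invol hiso hfar
        obtain ⟨c, hfar, hy⟩ : ∃ c : F, c ≠ 0 ∧ av d ve = c • av (EG hB.invol y) vf :=
          ⟨_, hfar, hy⟩
        obtain ⟨β, hβ⟩ := hx
        have hfix : av l (av (EG hB.invol y) vf) = β • av (EG hB.invol y) vf := by
          have h1 : av l (av d ve) = β • av d ve := by
            have := congrArg (av d) hβ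
            rwa [av_mul, av_mul, av_av_inv, av_smul] at this
          rw [hy, av_smul, smul_comm] at h1
          exact smul_right_injective _ hfar h1
        have hw := fixed_LL_w hF l hl hlc y β hfix
        have hyT : EG hB.invol y ∈ TT hF := (mem_Te hB.invol).2 ⟨y, hw, rfl⟩
        refine ⟨some ⟨EG hB.invol y, hyT⟩, ?_⟩
        show (((EG hB.invol y : GG hF) * s : GG hF) : GG hF ⧸ PP hF) = d
        rw [QuotientGroup.eq]
        refine ⟨c * a₀, ?_⟩
        rw [av_mul, hy, av_smul, hs, av_smul, ← av_mul, av_smul, av_inv_av, smul_smul]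
  have hfin : Finite (GG hF ⧸ PP hF) := inferInstance
  calc Nat.card {x : GG hF ⧸ PP hF // l • x = x}
      = Nat.card ↥{x : GG hF ⧸ PP hF | l • x = x} := rfl
    _ ≤ Nat.card ↥(Set.range f) := Nat.card_mono (Set.toFinite _) hsub
    _ ≤ Nat.card (Option ↥(TT hF)) := Finite.card_range_le f
    _ = q + 1 := by
        rw [Finite.card_option, Cfsg.Agent.Lib.Helper20.U3Leaf.card_TT hF]

/-- an element fixing two distinct isotropic points is conjugate into `LL` -/
theorem exists_conj_mem_LL (g a b : GG hF) (ha : a⁻¹ * g * a ∈ PP hF) (hb : b⁻¹ * g * b ∈ PP hF)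
    (hab : a⁻¹ * b ∉ PP hF) : ∃ k : GG hF, k⁻¹ * g * k ∈ LL hF := by
  have hB := barOK_frob hF
  obtain ⟨hiso, hfar⟩ := Cfsg.Agent.Lib.Helper4.U3Leaf.far_of_not_mem hF (a⁻¹ * b) hab
  obtain ⟨y, hy⟩ := exists_EG_of_far hB.invol hiso hfar
  obtain ⟨c, hc, hy⟩ : ∃ c : F, c ≠ 0 ∧ av (a⁻¹ * b) ve = c • av (EG hB.invol y) vf :=
    ⟨_, hfar, hy⟩
  have hE : EG hB.invol y ∈ PP hF := Qe_le_Pe hB.invol ⟨y, rfl⟩
  refine ⟨a * EG hB.invol y, ?_, ?_⟩
  · have e : (a * EG hB.invol y)⁻¹ * g * (a * EG hB.invol y) =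
        (EG hB.invol y)⁻¹ * (a⁻¹ * g * a) * EG hB.invol y := by group
    rw [e]
    exact (PP hF).mul_mem ((PP hF).mul_mem ((PP hF).inv_mem hE) ha) hE
  · obtain ⟨β, hβ⟩ := hb
    refine ⟨β, ?_⟩
    have h1 : av (EG hB.invol y) vf = c⁻¹ • av (a⁻¹ * b) ve := by
      rw [hy, smul_smul, inv_mul_cancel₀ hc, one_smul]
    have e : (a * EG hB.invol y)⁻¹ * g * (a * EG hB.invol y) =
        (EG hB.invol y)⁻¹ * ((a⁻¹ * b) * (b⁻¹ * g * b) * (a⁻¹ * b)⁻¹) * EG hB.invol y := by group
    rw [e, av_mul, h1, av_smul, av_mul, av_mul, av_mul, av_inv_av, hβ, av_smul, av_smul, hy,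
      av_smul, av_inv_av, smul_smul, smul_smul]
    congr 1
    field_simp

/-- N10a FIXBOUND: a non-central element fixes at most `q + 1` isotropic points. -/
theorem card_fixed_le (g : GG hF) (hg : g ∉ Subgroup.center (GG hF)) :
    Nat.card {x : GG hF ⧸ PP hF // g • x = x} ≤ q + 1 := by
  by_cases h1 : Nat.card {x : GG hF ⧸ PP hF // g • x = x} ≤ 1
  · omega
  · rw [not_le] at h1
    have hfin : Finite {x : GG hF ⧸ PP hF // g • x = x} := inferInstance
    obtain ⟨⟨x, hx⟩, ⟨y, hy⟩, hxy⟩ := (Finite.one_lt_card_iff_nontrivial.1 h1).exists_pair_ne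
    induction x using QuotientGroup.induction_on with
    | H a =>
      induction y using QuotientGroup.induction_on with
      | H b =>
        rw [fixed_iff] at hx hy
        have hab : a⁻¹ * b ∉ PP hF := by
          intro h
          apply hxy
          apply Subtype.ext
          exact QuotientGroup.eq.2 h
        obtain ⟨k, hk⟩ := exists_conj_mem_LL hF g a b hx hy hab
        rw [← card_fixed_conj hF g k]
        apply card_fixed_le_of_mem_LL hF _ hk
        intro hc
        apply hg
        have e : g = k * (k⁻¹ * g * k) * k⁻¹ := by group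
        rw [e]
        exact (inferInstance : (Subgroup.center (GG hF)).Normal).conj_mem _ hc k

end line

end Cfsg.Agent.Lib.Helper8.U3Leaf
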