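import Mathlib
import Cfsg.Agent.Lib.Helper12.U3Defs
import Cfsg.Agent.Lib.Helper8.U3FIXLE
import Cfsg.Agent.Lib.Helper6.U3CARDP
import Cfsg.Agent.Lib.Helper23.U3CENTER

/-!
helper8: S2148 market "U3", leaf SING (`sing_centralizer`, `sing_normalizer`): a subgroup `R` of prime order
`r > q + 1`, `r ∤ q (q^2 - 1)`: the elements of `C_G(R)` fixing an isotropic point are central, and
`|N_G(R)| ≤ d (q^3 + 1) (r - 1)`.
-/

set_option autoImplicit false

namespace Cfsg.Agent.Lib.Helper8.U3Leaf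

open Cfsg.Agent.Lib.Helper18.PSUMod Cfsg.Agent.Lib.Helper5.HermBridge Cfsg.Agent.Lib.Helper12.U3

section line

variable {F : Type*} [Field F] [Fintype F] {q : ℕ} (hF : Fintype.card F = q ^ 2)

/-- a subgroup all of whose elements fix the coset `a P` has order dividing `|P|` -/
theorem card_dvd_of_fixes (R : Subgroup (GG hF)) (a : GG hF)
    (h : ∀ ρ ∈ R, a⁻¹ * ρ * a ∈ PP hF) : Nat.card R ∣ q ^ 3 * (q ^ 2 - 1) := by
  rw [← Cfsg.Agent.Lib.Helper6.U3Leaf.card_PP hF]
  let f : ↥R →* ↥(PP hF) :=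
    ((MulAut.conj a⁻¹).toMonoidHom.comp R.subtype).codRestrict (PP hF) (by
      intro ρ
      simp only [MonoidHom.coe_comp, MulEquiv.coe_toMonoidHom, Subgroup.coe_subtype,
        Function.comp_apply, MulAut.conj_apply, inv_inv]
      exact h ρ ρ.2)
  apply Subgroup.card_dvd_of_injective f
  intro ρ ρ' hρ
  have := congrArg (fun z : ↥(PP hF) => (z : GG hF)) hρ
  simp only [f, MonoidHom.codRestrict_apply, MonoidHom.coe_comp, MulEquiv.coe_toMonoidHom,
    Subgroup.coe_subtype, Function.comp_apply, MulAut.conj_apply, inv_inv] at this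
  apply Subtype.ext
  have h2 := mul_left_cancel (mul_right_cancel this)
  exact h2

/-- N10b SING -/
theorem sing_centralizer (r : ℕ) (hr : r.Prime) (hr1 : q + 1 < r) (hr2 : ¬ r ∣ q * (q ^ 2 - 1))
    (R : Subgroup (GG hF)) (hR : Nat.card R = r) (g : GG hF)
    (hg : g ∈ Subgroup.centralizer (R : Set (GG hF))) (a : GG hF) (ha : a⁻¹ * g * a ∈ PP hF) :
    g ∈ Subgroup.center (GG hF) := by
  by_contra hgc
  have hfix := card_fixed_le hF g hgc
  have hx : g • ((a : GG hF) : GG hF ⧸ PP hF) = a := (fixed_iff hF g a).2 ha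
  have esm : ∀ (ρ : ↥R) (y : GG hF ⧸ PP hF), ρ • y = (ρ : GG hF) • y := fun _ _ => rfl
  have horb : MulAction.orbit ↥R ((a : GG hF) : GG hF ⧸ PP hF) ⊆
      {y : GG hF ⧸ PP hF | g • y = y} := by
    rintro _ ⟨ρ, rfl⟩
    show g • (ρ • ((a : GG hF) : GG hF ⧸ PP hF)) = ρ • ((a : GG hF) : GG hF ⧸ PP hF)
    rw [esm, smul_smul, ← (Subgroup.mem_centralizer_iff.1 hg) ρ ρ.2, mul_smul, hx]
  have hdvd : (MulAction.orbit ↥R ((a : GG hF) : GG hF ⧸ PP hF)).ncard ∣ r := by
    rw [← MulAction.index_stabilizer, ← hR]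
    exact Subgroup.index_dvd_card _
  have hle : (MulAction.orbit ↥R ((a : GG hF) : GG hF ⧸ PP hF)).ncard ≤ q + 1 := by
    refine le_trans (Set.ncard_le_ncard horb (Set.toFinite _)) ?_
    rw [← Nat.card_coe_set_eq]
    exact hfix
  rcases (Nat.dvd_prime hr).1 hdvd with h1 | h1
  · -- `R` fixes the coset
    apply hr2
    have hstab : MulAction.stabilizer ↥R ((a : GG hF) : GG hF ⧸ PP hF) = ⊤ := by
      rw [← Subgroup.index_eq_one, MulAction.index_stabilizer, h1]
    have hall : ∀ ρ ∈ R, a⁻¹ * ρ * a ∈ PP hF := by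
      intro ρ hρ
      have : (⟨ρ, hρ⟩ : ↥R) ∈ MulAction.stabilizer ↥R ((a : GG hF) : GG hF ⧸ PP hF) := by
        rw [hstab]; trivial
      rw [MulAction.mem_stabilizer_iff, esm] at this
      exact (fixed_iff hF ρ a).1 this
    have h3 := card_dvd_of_fixes hF R a hall
    rw [hR] at h3
    rcases (Nat.Prime.dvd_mul hr).1 h3 with h4 | h4
    · exact Dvd.dvd.mul_right (hr.dvd_of_dvd_pow h4) _
    · exact Dvd.dvd.mul_left h4 _
  · omega

/-- the centraliser of `R` has order at most `d (q^3 + 1)` -/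
theorem sing_card_centralizer (r : ℕ) (hr : r.Prime) (hr1 : q + 1 < r)
    (hr2 : ¬ r ∣ q * (q ^ 2 - 1)) (R : Subgroup (GG hF)) (hR : Nat.card R = r) :
    Nat.card ↥(Subgroup.centralizer (R : Set (GG hF))) ≤ Nat.gcd 3 (q + 1) * (q ^ 3 + 1) := by
  set C := Subgroup.centralizer (R : Set (GG hF)) with hC
  let x₀ : GG hF ⧸ PP hF := ((1 : GG hF) : GG hF ⧸ PP hF)
  have esm : ∀ (c : ↥C) (y : GG hF ⧸ PP hF), c • y = (c : GG hF) • y := fun _ _ => rfl
  have h1 : Nat.card ↥(MulAction.stabilizer ↥C x₀) * (MulAction.orbit ↥C x₀).ncard = Nat.card ↥C := by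
    rw [← MulAction.index_stabilizer]
    exact Subgroup.card_mul_index _
  have h2 : (MulAction.orbit ↥C x₀).ncard ≤ q ^ 3 + 1 := by
    rw [← Cfsg.Agent.Lib.Helper4.U3Leaf.index_PP hF]
    exact Set.ncard_le_card _
  have h3 : Nat.card ↥(MulAction.stabilizer ↥C x₀) ≤ Nat.gcd 3 (q + 1) := by
    rw [← Cfsg.Agent.Lib.Helper23.U3Leaf.card_center hF]
    have hmem : ∀ c : ↥(MulAction.stabilizer ↥C x₀),
        ((c : ↥C) : GG hF) ∈ Subgroup.center (GG hF) := by
      intro c
      have hc := c.2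
      rw [MulAction.mem_stabilizer_iff, esm] at hc
      have := (fixed_iff hF ((c : ↥C) : GG hF) 1).1 hc
      exact sing_centralizer hF r hr hr1 hr2 R hR _ (c : ↥C).2 1 this
    apply Nat.card_le_card_of_injective
      (fun c : ↥(MulAction.stabilizer ↥C x₀) => (⟨((c : ↥C) : GG hF), hmem c⟩ :
        ↥(Subgroup.center (GG hF))))
    intro c c' hcc
    have := congrArg (fun z : ↥(Subgroup.center (GG hF)) => (z : GG hF)) hcc
    exact Subtype.ext (Subtype.ext this)
  rw [← h1]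
  exact Nat.mul_le_mul h3 h2

/-- N10c SING -/
theorem sing_normalizer (r : ℕ) (hr : r.Prime) (hr1 : q + 1 < r) (hr2 : ¬ r ∣ q * (q ^ 2 - 1))
    (R : Subgroup (GG hF)) (hR : Nat.card R = r) :
    Nat.card ↥(Subgroup.normalizer (R : Set (GG hF))) ≤ Nat.gcd 3 (q + 1) * (q ^ 3 + 1) * (r - 1) := by
  have hcyc : IsCyclic ↥R := by
    have : Fact r.Prime := ⟨hr⟩
    exact isCyclic_of_prime_card hR
  have key := Subgroup.card_dvd_of_injective _
    (QuotientGroup.kerLift_injective R.normalizerMonoidHom)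
  rw [Subgroup.normalizerMonoidHom_ker, ← Subgroup.index, ← Subgroup.relIndex,
    IsCyclic.card_mulAut, hR, Nat.totient_prime hr] at key
  have hle : Subgroup.centralizer (R : Set (GG hF)) ≤ Subgroup.normalizer (R : Set (GG hF)) :=
    Subgroup.centralizer_le_normalizer _
  have h1 : (Subgroup.centralizer (R : Set (GG hF))).relIndex
      (Subgroup.normalizer (R : Set (GG hF))) * Nat.card ↥(Subgroup.centralizer (R : Set (GG hF)))
      = Nat.card ↥(Subgroup.normalizer (R : Set (GG hF))) := by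
    have := Subgroup.relIndex_mul_relIndex (⊥ : Subgroup (GG hF))
      (Subgroup.centralizer (R : Set (GG hF))) (Subgroup.normalizer (R : Set (GG hF))) bot_le hle
    rw [Subgroup.relIndex_bot_left, Subgroup.relIndex_bot_left] at this
    rw [mul_comm]; exact this
  have hr0 : 0 < r - 1 := by have := hr.two_le; omega
  have h2 := Nat.le_of_dvd hr0 key
  have h3 := sing_card_centralizer hF r hr hr1 hr2 R hR
  rw [← h1, mul_comm]
  exact Nat.mul_le_mul h3 h2

end line

end Cfsg.Agent.Lib.Helper8.U3Leaf
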