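/-
helper8: structure of a Frobenius-type kernel: a proper nontrivial normal subgroup `K` of a finite
group `L` containing the centralizer in `L` of each of its non-identity elements is a nilpotent
Hall subgroup with a complement acting fixed-point-freely (Thompson + Schur–Zassenhaus).
-/
import Mathlib
import Cfsg.Agent.Lib.Helper8.ThNilpD
import Cfsg.Agent.Lib.Helper18.FrobComp

set_option autoImplicit false

namespace Cfsg.Agent.Lib.Helper8.FrobKernel

universe u

/-- coprimality of `|K|` and `|L:K|` -/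
theorem coprime_of_centralizer_le {L : Type u} [Group L] [Finite L] (K : Subgroup L)
    [hK : K.Normal]
    (hC : ∀ k ∈ K, k ≠ 1 → ∀ x : L, x * k = k * x → x ∈ K) :
    Nat.Coprime (Nat.card K) K.index := by
  by_contra h
  obtain ⟨q, hq, hq1, hq2⟩ := Nat.Prime.not_coprime_iff_dvd.mp h
  haveI : Fact q.Prime := ⟨hq⟩
  obtain ⟨Q⟩ : Nonempty (Sylow q L) := inferInstance
  have hnot : ¬ (Q : Subgroup L) ≤ K := by
    intro hle
    have h1 := Subgroup.index_dvd_of_le hle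
    exact Q.not_dvd_index (hq2.trans h1)
  obtain ⟨x, hxQ, hxK⟩ := SetLike.not_le_iff_exists.mp hnot
  have hCq : IsPGroup q (Subgroup.zpowers x) := by
    obtain ⟨k, hk⟩ := (IsPGroup.iff_orderOf.mp Q.isPGroup') ⟨x, hxQ⟩
    apply IsPGroup.of_card (n := k)
    rw [Nat.card_zpowers, ← hk, Subgroup.orderOf_mk]
  obtain ⟨w, hw, hw1, hwc⟩ := Cfsg.Agent.Lib.Helper18.exists_ne_one_fixed_of_dvd_card K
    (Subgroup.zpowers x) hCq hq1 (by
      intro g _
      exact Subgroup.le_normalizer_of_normal (Subgroup.mem_top g))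
  exact hxK (hC w hw hw1 x (hwc x (Subgroup.mem_zpowers x)))

/-- Abstract form: nilpotent Hall kernel with a fixed-point-free complement. -/
theorem frob_kernel_abstract {L : Type u} [Group L] [Finite L] (K : Subgroup L) [hK : K.Normal]
    (hKtop : K ≠ ⊤)
    (hC : ∀ k ∈ K, k ≠ 1 → ∀ x : L, x * k = k * x → x ∈ K) :
    Nat.Coprime (Nat.card K) K.index ∧ Group.IsNilpotent K ∧
      ∃ W : Subgroup L, W ≠ ⊥ ∧ K ⊓ W = ⊥ ∧ K ⊔ W = ⊤ ∧
        ∀ w ∈ W, w ≠ 1 → ∀ k ∈ K, w * k = k * w → k = 1 := by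
  have hcop := coprime_of_centralizer_le K hC
  obtain ⟨W, hW⟩ := Subgroup.exists_right_complement'_of_coprime hcop
  have hinf : K ⊓ W = ⊥ := hW.disjoint.eq_bot
  have hsup : K ⊔ W = ⊤ := hW.sup_eq_top
  have hW1 : W ≠ ⊥ := by
    intro h
    rw [h, sup_bot_eq] at hsup
    exact hKtop hsup
  have hfpf : ∀ w ∈ W, w ≠ 1 → ∀ k ∈ K, w * k = k * w → k = 1 := by
    intro w hw hw1 k hk hcomm
    by_contra hk1
    have h1 : w ∈ K ⊓ W := ⟨hC k hk hk1 w hcomm, hw⟩
    rw [hinf, Subgroup.mem_bot] at h1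
    exact hw1 h1
  refine ⟨hcop, ?_, W, hW1, hinf, hsup, hfpf⟩
  -- Thompson
  have hWcard : Nat.card W ≠ 1 := fun h => hW1 (Subgroup.card_eq_one.mp h)
  obtain ⟨r, hr, hrd⟩ := Nat.exists_prime_and_dvd hWcard
  haveI : Fact r.Prime := ⟨hr⟩
  obtain ⟨x, hx⟩ := exists_prime_orderOf_dvd_card' r hrd
  have hx1 : (x : L) ≠ 1 := by
    intro h
    have : x = 1 := Subtype.ext h
    rw [this, orderOf_one] at hx
    exact hr.one_lt.ne hx
  have hxr : (x : L) ^ r = 1 := by
    have : x ^ r = 1 := by rw [← hx]; exact pow_orderOf_eq_one x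
    simpa using congrArg Subtype.val this
  let φ : ↥K →* ↥K := (MulAut.conjNormal (x : L) : MulAut ↥K).toMonoidHom
  have hφ : ∀ k : ↥K, ((φ k : ↥K) : L) = (x : L) * k * (x : L)⁻¹ := fun k => rfl
  have hiter : ∀ (n : ℕ) (k : ↥K), ((φ^[n] k : ↥K) : L) = (x : L) ^ n * k * ((x : L) ^ n)⁻¹ := by
    intro n
    induction n with
    | zero => intro k; simp
    | succ n ih =>
      intro k
      rw [Function.iterate_succ_apply', hφ, ih, pow_succ']
      group
  apply Cfsg.Agent.Lib.Helper8.ThNilp.isNilpotent_of_fpf φ hr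
  · intro k
    apply Subtype.ext
    rw [hiter, hxr]
    simp
  · intro k hk
    have h1 : (x : L) * k * (x : L)⁻¹ = k := by
      have := congrArg Subtype.val hk
      rwa [hφ] at this
    have h2 : (k : L) = 1 := by
      apply hfpf x x.2 hx1 k k.2
      calc (x : L) * k = ((x : L) * k * (x : L)⁻¹) * x := by group
        _ = k * x := by rw [h1]
    exact Subtype.ext h2

/-- The structure of a Frobenius-type pair `H < L` of subgroups of a finite group `G`. -/
theorem frob_kernel_structure {G : Type u} [Group G] [Finite G] (L H : Subgroup G) (hHL : H < L)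
    (hHn : ∀ x ∈ L, ∀ h ∈ H, x * h * x⁻¹ ∈ H)
    (hfrob : ∀ h ∈ H, h ≠ 1 → L ⊓ Subgroup.centralizer ({h} : Set G) ≤ H) :
    Nat.Coprime (Nat.card H) (H.subgroupOf L).index ∧ Group.IsNilpotent H ∧
      ∃ W₁ : Subgroup G, W₁ ≤ L ∧ W₁ ≠ ⊥ ∧ H ⊓ W₁ = ⊥ ∧ H ⊔ W₁ = L ∧
        (∀ w ∈ W₁, w ≠ 1 → ∀ h ∈ H, w * h = h * w → h = 1) := by
  set K := H.subgroupOf L with hKdef
  haveI hKn : K.Normal := by
    refine ⟨fun k hk x => ?_⟩
    rw [hKdef, Subgroup.mem_subgroupOf] at hk ⊢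
    exact hHn x x.2 k hk
  have hKtop : K ≠ ⊤ := by
    intro h
    rw [hKdef, Subgroup.subgroupOf_eq_top] at h
    exact (not_le_of_gt hHL) h
  have hC : ∀ k ∈ K, k ≠ 1 → ∀ x : ↥L, x * k = k * x → x ∈ K := by
    intro k hk hk1 x hx
    rw [hKdef, Subgroup.mem_subgroupOf] at hk ⊢
    apply hfrob (k : G) hk (fun h => hk1 (Subtype.ext h))
    refine ⟨x.2, Subgroup.mem_centralizer_singleton_iff.mpr ?_⟩
    exact congrArg Subtype.val hx
  obtain ⟨hcop, hnil, W, hW1, hinf, hsup, hfpf⟩ := frob_kernel_abstract K hKtop hC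
  have e : ↥K ≃* ↥H := Subgroup.subgroupOfEquivOfLe hHL.le
  have hcard : Nat.card K = Nat.card H := Nat.card_congr e.toEquiv
  refine ⟨by rw [← hcard]; exact hcop, ?_, W.map L.subtype, ?_, ?_, ?_, ?_, ?_⟩
  · haveI := hnil
    exact Group.nilpotent_of_mulEquiv e
  · rintro g ⟨w, -, rfl⟩
    exact w.2
  · intro h
    apply hW1
    rw [Subgroup.eq_bot_iff_forall]
    intro w hw
    have h1 : (w : G) ∈ W.map L.subtype := ⟨w, hw, rfl⟩
    rw [h, Subgroup.mem_bot] at h1
    exact Subtype.ext h1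
  · rw [Subgroup.eq_bot_iff_forall]
    rintro g ⟨hgH, w, hw, rfl⟩
    have h1 : w ∈ K ⊓ W := ⟨Subgroup.mem_subgroupOf.mpr hgH, hw⟩
    rw [hinf, Subgroup.mem_bot] at h1
    rw [h1]
    rfl
  · have h1 : (K ⊔ W).map L.subtype = L := by
      rw [hsup, ← MonoidHom.range_eq_map, Subgroup.range_subtype]
    rw [Subgroup.map_sup, hKdef, Subgroup.map_subgroupOf_eq_of_le hHL.le] at h1
    exact h1
  · rintro g ⟨w, hw, rfl⟩ hw1 h hh hcomm
    have hw1' : w ≠ 1 := by
      intro h0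
      apply hw1
      rw [h0]
      rfl
    have h2 := hfpf w hw hw1' ⟨h, hHL.le hh⟩ (Subgroup.mem_subgroupOf.mpr hh)
      (Subtype.ext hcomm)
    exact congrArg Subtype.val h2

end Cfsg.Agent.Lib.Helper8.FrobKernel
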