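/-
helper8: Frobenius-type kernels: a `p`-group kernel `K` (normal Hall subgroup of `L` with
`C_L(k) ≤ K` for `1 ≠ k ∈ K`) has `L/K` acting fixed-point-freely on `K/K'`; a non-abelian kernel of
odd order forces `|L|` odd.
-/
import Mathlib
import Cfsg.Agent.Lib.Helper23.WAct2

set_option autoImplicit false

namespace Cfsg.Agent.Lib.Helper8.TIFrobFpf

open Cfsg.Agent.Lib.Helper23.WAct

variable {L : Type*} [Group L] [Finite L]

/-- The Frobenius-quotient hypothesis of Peterfalvi (6.5)/(6.x) for a `p`-group kernel. -/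
theorem frob_quot_fpf (K : Subgroup L) [hK : K.Normal] (p : ℕ) [hp : Fact p.Prime]
    (hKp : IsPGroup p K) (hcop : ¬ p ∣ K.index)
    (hC : ∀ k ∈ K, k ≠ 1 → ∀ x : L, x * k = k * x → x ∈ K) :
    ∀ k ∈ K, k ∉ ⁅K, K⁆ → ∀ x : L, x * k * x⁻¹ * k⁻¹ ∈ ⁅K, K⁆ → x ∈ K := by
  intro k hk hkK' x hx
  by_contra hxK
  obtain ⟨n, hn⟩ := IsPGroup.exists_card_eq hKp
  have hK'K : ⁅K, K⁆ ≤ K := Subgroup.commutator_le_right K K
  have hK'n : (⁅K, K⁆ : Subgroup L).Normal := inferInstance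
  -- a prime `q ≠ p` dividing the order of `x` modulo `K`
  have hxbar : (QuotientGroup.mk' K x) ≠ 1 := by
    intro h
    exact hxK ((QuotientGroup.eq_one_iff x).mp h)
  have hord : orderOf (QuotientGroup.mk' K x) ≠ 1 := by
    rwa [Ne, orderOf_eq_one_iff]
  obtain ⟨q, hq, hqd⟩ := Nat.exists_prime_and_dvd hord
  haveI : Fact q.Prime := ⟨hq⟩
  have hqidx : q ∣ K.index := by
    refine dvd_trans hqd ?_
    rw [Subgroup.index_eq_card]
    exact orderOf_dvd_natCard _
  have hqp : q ≠ p := by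
    rintro rfl
    exact hcop hqidx
  have hqx : q ∣ orderOf x := dvd_trans hqd (orderOf_map_dvd (QuotientGroup.mk' K) x)
  set y := x ^ (orderOf x / q) with hydef
  have hy : orderOf y = q := orderOf_pow_orderOf_div (orderOf_pos x).ne' hqx
  have hnotdvd : ∀ m : ℕ, ¬ q ∣ p ^ m := by
    intro m h
    exact hqp ((Nat.prime_dvd_prime_iff_eq hq hp.out).mp (hq.dvd_of_dvd_pow h))
  -- the stabilizer of the coset of `k`
  let T : Subgroup L :=
    { carrier := {g | g * k * g⁻¹ * k⁻¹ ∈ ⁅K, K⁆}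
      one_mem' := by
        show (1 : L) * k * 1⁻¹ * k⁻¹ ∈ ⁅K, K⁆
        simp
      mul_mem' := by
        intro a b ha hb
        show (a * b) * k * (a * b)⁻¹ * k⁻¹ ∈ ⁅K, K⁆
        have h1 : (a * b) * k * (a * b)⁻¹ * k⁻¹ =
            (a * (b * k * b⁻¹ * k⁻¹) * a⁻¹) * (a * k * a⁻¹ * k⁻¹) := by group
        rw [h1]
        exact mul_mem (hK'n.conj_mem _ hb a) ha
      inv_mem' := by
        intro a ha
        show a⁻¹ * k * a⁻¹⁻¹ * k⁻¹ ∈ ⁅K, K⁆
        have h1 : a⁻¹ * k * a⁻¹⁻¹ * k⁻¹ = a⁻¹ * (a * k * a⁻¹ * k⁻¹)⁻¹ * a⁻¹⁻¹ := by group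
        rw [h1]
        exact hK'n.conj_mem _ (inv_mem ha) a⁻¹ }
  have hxT : x ∈ T := hx
  have hyT : y ∈ T := pow_mem hxT _
  have hzT : Subgroup.zpowers y ≤ T := Subgroup.zpowers_le.mpr hyT
  -- the action
  let φ : ↥(Subgroup.zpowers y) →* MulAut L :=
    (MulAut.conj : L →* MulAut L).comp (Subgroup.zpowers y).subtype
  have hA : IsPGroup q ↥(Subgroup.zpowers y) := by
    apply IsPGroup.of_card (n := 1)
    rw [Nat.card_zpowers, hy, pow_one]
  set X : Set L := {u | u * k⁻¹ ∈ ⁅K, K⁆} with hXdef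
  have hX : ∀ a : ↥(Subgroup.zpowers y), ∀ f ∈ X, φ a f ∈ X := by
    intro a f hf
    have haT : (a : L) ∈ T := hzT a.2
    show (a : L) * f * (a : L)⁻¹ * k⁻¹ ∈ ⁅K, K⁆
    have h1 : (a : L) * f * (a : L)⁻¹ * k⁻¹ =
        ((a : L) * (f * k⁻¹) * (a : L)⁻¹) * ((a : L) * k * (a : L)⁻¹ * k⁻¹) := by group
    rw [h1]
    exact mul_mem (hK'n.conj_mem _ hf _) haT
  have hcardX : Nat.card X = Nat.card (⁅K, K⁆ : Subgroup L) := by
    apply Nat.card_congr
    refine ⟨fun u => ⟨u.1 * k⁻¹, u.2⟩, fun c => ⟨c.1 * k, ?_⟩, ?_, ?_⟩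
    · show c.1 * k * k⁻¹ ∈ ⁅K, K⁆
      rw [mul_inv_cancel_right]
      exact c.2
    · intro u
      apply Subtype.ext
      show u.1 * k⁻¹ * k = u.1
      group
    · intro c
      apply Subtype.ext
      show c.1 * k * k⁻¹ = c.1
      group
  have hcard : ¬ q ∣ Nat.card X := by
    rw [hcardX]
    intro h
    have h1 : Nat.card (⁅K, K⁆ : Subgroup L) ∣ p ^ n := by
      rw [← hn]
      exact Subgroup.card_dvd_of_le hK'K
    exact hnotdvd n (dvd_trans h h1)
  obtain ⟨f, hfX, hfix⟩ := exists_fixed_in φ hA X hX hcard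
  have hfy : y * f * y⁻¹ = f := hfix ⟨y, Subgroup.mem_zpowers y⟩
  have hfK : f ∈ K := by
    have h1 : f = (f * k⁻¹) * k := by group
    rw [h1]
    exact mul_mem (hK'K hfX) hk
  have hf1 : f ≠ 1 := by
    rintro rfl
    apply hkK'
    have h1 : (1 : L) * k⁻¹ ∈ ⁅K, K⁆ := hfX
    rw [one_mul] at h1
    have := inv_mem h1
    rwa [inv_inv] at this
  have hyK : y ∈ K := by
    apply hC f hfK hf1 y
    calc y * f = (y * f * y⁻¹) * y := by group
      _ = f * y := by rw [hfy]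
  have h2 : orderOf y ∣ Nat.card K := Subgroup.orderOf_dvd_natCard K hyK
  rw [hy, hn] at h2
  exact hnotdvd n h2

/-- A non-abelian Frobenius-type kernel of odd order forces the whole group to have odd order. -/
theorem odd_card_of_nonabelian_kernel (K : Subgroup L) [hK : K.Normal] (hKodd : Odd (Nat.card K))
    (hna : ¬ ∀ a ∈ K, ∀ b ∈ K, a * b = b * a)
    (hC : ∀ k ∈ K, k ≠ 1 → ∀ x : L, x * k = k * x → x ∈ K) : Odd (Nat.card L) := by
  by_contra hodd
  rw [Nat.not_odd_iff_even, even_iff_two_dvd] at hodd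
  haveI : Fact (Nat.Prime 2) := ⟨Nat.prime_two⟩
  obtain ⟨t, ht⟩ := exists_prime_orderOf_dvd_card' 2 hodd
  have htK : t ∉ K := by
    intro h
    have h1 : orderOf t ∣ Nat.card K := Subgroup.orderOf_dvd_natCard K h
    rw [ht] at h1
    have := Odd.of_dvd_nat hKodd h1
    exact absurd this (by decide)
  have ht2 : t * t = 1 := by
    have := pow_orderOf_eq_one t
    rwa [ht, pow_two] at this
  have htinv : t⁻¹ = t := inv_eq_of_mul_eq_one_left ht2
  let φ : ↥K →* ↥K := (MulAut.conjNormal t : MulAut K).toMonoidHom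
  have hφapp : ∀ g : K, ((φ g : K) : L) = t * g * t⁻¹ := by
    intro g
    show ((MulAut.conjNormal t : MulAut K) g : L) = t * g * t⁻¹
    rw [MulAut.conjNormal_apply]
  have hfpf : MonoidHom.FixedPointFree φ := by
    intro g hg
    by_contra hg1
    have h1 : t * (g : L) * t⁻¹ = g := by rw [← hφapp, hg]
    have hg1' : (g : L) ≠ 1 := fun h => hg1 (Subtype.ext h)
    apply htK
    apply hC g g.2 hg1' t
    calc t * (g : L) = (t * g * t⁻¹) * t := by group
      _ = g * t := by rw [h1]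
  have hinv : Function.Involutive φ := by
    intro g
    apply Subtype.ext
    rw [hφapp, hφapp]
    rw [htinv]
    calc t * (t * (g : L) * t) * t = (t * t) * g * (t * t) := by group
      _ = g := by rw [ht2]; simp
  apply hna
  intro a ha b hb
  have := hfpf.commute_all_of_involutive hinv ⟨a, ha⟩ ⟨b, hb⟩
  exact congrArg Subtype.val this.eq

end Cfsg.Agent.Lib.Helper8.TIFrobFpf
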