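/-
helper8: in a Frobenius group `L = H ⋊ W₁` given by a fixed-point-free complement, the centralizer in
`L` of a nonidentity element of the kernel `H` lies in `H`.
-/
import Mathlib
import Cfsg.Agent.Lib.Helper10.FrobChar

set_option autoImplicit false

namespace Cfsg.Agent.Lib.Helper8.SibLocal

/-- the abstract version: `K` normal in `L`, `K ⊔ W = ⊤`, `W` acts without fixed points -/
theorem centralizer_le_kernel {L : Type*} [Group L] [Finite L] (K W : Subgroup L) [hK : K.Normal]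
    (hsup : K ⊔ W = ⊤)
    (hfpf : ∀ w ∈ W, w ≠ 1 → ∀ k ∈ K, w * k = k * w → k = 1) :
    ∀ k ∈ K, k ≠ 1 → ∀ x : L, x * k = k * x → x ∈ K := by
  intro k hk hk1 x hx
  have hxmem : x ∈ ((K ⊔ W : Subgroup L) : Set L) := by
    rw [hsup]
    exact Set.mem_univ x
  rw [Subgroup.normal_mul K W, Set.mem_mul] at hxmem
  obtain ⟨u, hu, w, hw, rfl⟩ := hxmem
  by_cases hw1 : w = 1
  · rw [hw1, mul_one]
    exact hu
  · exfalso
    obtain ⟨k', hk', hconj⟩ := Cfsg.Agent.Lib.Helper10.frob_exists_conj K W hfpf w hw hw1 u hu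
    rw [hconj] at hx
    -- `w` centralizes `k'⁻¹ k k'`
    have hmem : k'⁻¹ * k * k' ∈ K := by
      have := hK.conj_mem k hk k'⁻¹
      rwa [inv_inv] at this
    have hcomm : w * (k'⁻¹ * k * k') = (k'⁻¹ * k * k') * w := by
      calc w * (k'⁻¹ * k * k') = k'⁻¹ * ((k' * w * k'⁻¹) * k) * k' := by group
        _ = k'⁻¹ * (k * (k' * w * k'⁻¹)) * k' := by rw [hx]
        _ = (k'⁻¹ * k * k') * w := by group
    have h1 := hfpf w hw hw1 _ hmem hcomm
    apply hk1
    calc k = k' * (k'⁻¹ * k * k') * k'⁻¹ := by group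
      _ = 1 := by rw [h1]; group

/-- the concrete version -/
theorem centralizer_inf_le {G : Type*} [Group G] [Finite G] (H L W₁ : Subgroup G) (hHL : H ≤ L)
    (hW₁L : W₁ ≤ L) (hHn : ∀ x ∈ L, ∀ h ∈ H, x * h * x⁻¹ ∈ H) (hsup : H ⊔ W₁ = L)
    (hfpf : ∀ w ∈ W₁, w ≠ 1 → ∀ h ∈ H, w * h = h * w → h = 1) :
    ∀ h ∈ H, h ≠ 1 → L ⊓ Subgroup.centralizer ({h} : Set G) ≤ H := by
  intro h hh hh1 x hx
  haveI hKn : (H.subgroupOf L).Normal := by
    refine ⟨fun k hk y => ?_⟩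
    rw [Subgroup.mem_subgroupOf] at hk ⊢
    exact hHn y y.2 k hk
  have hsup' : H.subgroupOf L ⊔ W₁.subgroupOf L = ⊤ := by
    rw [← Subgroup.subgroupOf_sup hHL hW₁L, hsup, Subgroup.subgroupOf_self]
  have hfpf' : ∀ w ∈ W₁.subgroupOf L, w ≠ 1 → ∀ k ∈ H.subgroupOf L, w * k = k * w → k = 1 := by
    intro w hw hw1 k hk hwk
    apply Subtype.ext
    apply hfpf (w : G) (Subgroup.mem_subgroupOf.mp hw) (fun h0 => hw1 (Subtype.ext h0)) (k : G)
      (Subgroup.mem_subgroupOf.mp hk)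
    exact congrArg Subtype.val hwk
  have key := centralizer_le_kernel (H.subgroupOf L) (W₁.subgroupOf L) hsup' hfpf'
    ⟨h, hHL hh⟩ (Subgroup.mem_subgroupOf.mpr hh) (fun h0 => hh1 (congrArg Subtype.val h0))
    ⟨x, hx.1⟩ (by
      apply Subtype.ext
      exact Subgroup.mem_centralizer_singleton_iff.mp hx.2)
  exact Subgroup.mem_subgroupOf.mp key

end Cfsg.Agent.Lib.Helper8.SibLocal
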