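/-
helper8: coherence by adding conjugate pairs in order of increasing degree (generic induction used
for Peterfalvi (6.x): coherence of `S \ S(Z)`).
-/
import Mathlib
import Cfsg.Agent.S1516
import Cfsg.Agent.Lib.Helper10.PF65

set_option autoImplicit false

namespace Cfsg.Agent.Lib.Helper8.PFLower

open Cfsg Cfsg.Agent.CharLib Cfsg.Agent.Lib.Helper10

universe u v

variable {L : Type u} [Group L] [Fintype L] {G : Type v} [Group G] [Fintype G]

theorem d_conj {S : Set (L → ℂ)} {τ : (L → ℂ) → (G → ℂ)} {R : (L → ℂ) → Finset (G → ℂ)}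
    (hS : IsCoherenceSystem S τ R) (d : (L → ℂ) → ℕ) (hd : ∀ φ ∈ S, φ 1 = (d φ : ℂ))
    {χ : L → ℂ} (hχ : χ ∈ S) : d (conjFun χ) = d χ := by
  have h1 := hd _ (hS.conj_mem χ hχ)
  have h2 := hd χ hχ
  have h3 : conjFun χ 1 = χ 1 := cohsys_conj_one hS hχ
  rw [h3, h2] at h1
  exact_mod_cast h1.symm

open Classical in
/-- If every member of the finite conjugation-closed set `X ⊆ S` has norm one and, whenever
`d χ₁ < d χ` in `X`, `d χ₁ ∣ d χ` and `2 d χ d χ₁` is less than the sum of the squares of the degrees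
of the members of `X` of degree less than `d χ`, then every nonempty conjugation-closed
"lower" subset of `X` is coherent. -/
theorem coherent_of_lower {S : Set (L → ℂ)} {τ : (L → ℂ) → (G → ℂ)}
    {R : (L → ℂ) → Finset (G → ℂ)} (hS : IsCoherenceSystem S τ R)
    (d n : (L → ℂ) → ℕ) (hd : ∀ φ ∈ S, φ 1 = (d φ : ℂ))
    (hn : ∀ φ ∈ S, classInner φ φ = (n φ : ℂ))
    (X : Finset (L → ℂ)) (hXS : ∀ φ ∈ X, φ ∈ S)
    (hn1 : ∀ φ ∈ X, n φ = 1)
    (key : ∀ χ ∈ X, ∀ χ₁ ∈ X, d χ₁ < d χ → d χ₁ ∣ d χ ∧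
      2 * d χ * d χ₁ < ∑ η ∈ X.filter (fun η => d η < d χ), (d η) ^ 2) :
    ∀ k : ℕ, ∀ Y : Finset (L → ℂ), Y.card = k → Y ⊆ X → Y.Nonempty →
      (∀ φ ∈ Y, conjFun φ ∈ Y) → (∀ ξ ∈ Y, ∀ η ∈ X, d η < d ξ → η ∈ Y) →
      IsCoherent (↑Y : Set (L → ℂ)) {1}ᶜ τ := by
  intro k
  induction k using Nat.strong_induction_on with
  | _ k ih =>
    intro Y hYk hYX hYne hYc hYlow
    have hYS : (↑Y : Set (L → ℂ)) ⊆ S := fun φ hφ => hXS φ (hYX (Finset.mem_coe.mp hφ))
    by_cases hconst : ∀ φ ∈ Y, ∀ ψ ∈ Y, d φ = d ψ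
    · -- constant degree
      have hS' := cohsys_subset hS hYS (by simpa using hYne)
        (fun χ hχ => Finset.mem_coe.mpr (hYc χ (Finset.mem_coe.mp hχ)))
      apply cohsys_coherent_of_constant_degree hS'
      intro φ hφ ψ hψ
      rw [hd φ (hYS hφ), hd ψ (hYS hψ), hconst φ (Finset.mem_coe.mp hφ) ψ (Finset.mem_coe.mp hψ)]
    · -- remove a pair of maximal degree
      obtain ⟨χ, hχY, hχmax⟩ := Finset.exists_max_image Y d hYne
      have hχS : χ ∈ S := hXS χ (hYX hχY)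
      have hdbar : d (conjFun χ) = d χ := d_conj hS d hd hχS
      have hex : ∃ φ ∈ Y, d φ < d χ := by
        by_contra hno
        push Not at hno
        apply hconst
        intro φ hφ ψ hψ
        have h1 := le_antisymm (hχmax φ hφ) (hno φ hφ)
        have h2 := le_antisymm (hχmax ψ hψ) (hno ψ hψ)
        omega
      obtain ⟨χ₁, hχ₁Y, hχ₁lt⟩ := hex
      set Y₀ : Finset (L → ℂ) := (Y.erase χ).erase (conjFun χ) with hY₀
      have hmemY₀ : ∀ φ, φ ∈ Y₀ ↔ φ ≠ conjFun χ ∧ φ ≠ χ ∧ φ ∈ Y := by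
        intro φ
        rw [hY₀, Finset.mem_erase, Finset.mem_erase]
      have hY₀Y : Y₀ ⊆ Y := fun φ hφ => ((hmemY₀ φ).mp hφ).2.2
      have hχY₀ : χ ∉ Y₀ := fun h => ((hmemY₀ χ).mp h).2.1 rfl
      have hχbarY₀ : conjFun χ ∉ Y₀ := fun h => ((hmemY₀ _).mp h).1 rfl
      have hlowmem : ∀ η ∈ Y, d η < d χ → η ∈ Y₀ := by
        intro η hη hlt
        rw [hmemY₀]
        refine ⟨?_, ?_, hη⟩
        · intro h; rw [h, hdbar] at hlt; exact lt_irrefl _ hlt
        · intro h; rw [h] at hlt; exact lt_irrefl _ hlt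
      have hχ₁Y₀ : χ₁ ∈ Y₀ := hlowmem χ₁ hχ₁Y hχ₁lt
      have hcard : Y₀.card < k := by
        rw [← hYk]
        apply Finset.card_lt_card
        rw [Finset.ssubset_iff_of_subset hY₀Y]
        exact ⟨χ, hχY, hχY₀⟩
      have hY₀c : ∀ φ ∈ Y₀, conjFun φ ∈ Y₀ := by
        intro φ hφ
        rw [hmemY₀] at hφ ⊢
        refine ⟨?_, ?_, hYc φ hφ.2.2⟩
        · intro h
          apply hφ.2.1
          have := congrArg conjFun h
          rwa [conjFun_conjFun, conjFun_conjFun] at this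
        · intro h
          apply hφ.1
          have := congrArg conjFun h
          rwa [conjFun_conjFun] at this
      have hY₀low : ∀ ξ ∈ Y₀, ∀ η ∈ X, d η < d ξ → η ∈ Y₀ := by
        intro ξ hξ η hη hlt
        have hξY := hY₀Y hξ
        apply hlowmem η (hYlow ξ hξY η hη hlt)
        exact lt_of_lt_of_le hlt (hχmax ξ hξY)
      have hcoh₀ := ih Y₀.card hcard Y₀ rfl (hY₀Y.trans hYX) ⟨χ₁, hχ₁Y₀⟩ hY₀c hY₀low
      obtain ⟨hdvd, hkey⟩ := key χ (hYX hχY) χ₁ (hYX hχ₁Y) hχ₁lt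
      have hsub : X.filter (fun η => d η < d χ) ⊆ Y₀ := by
        intro η hη
        rw [Finset.mem_filter] at hη
        exact hlowmem η (hYlow χ hχY η hη.1 hη.2) hη.2
      have hineq : (2 * d χ * d χ₁ : ℝ) < ∑ φ ∈ Y₀, ((d φ : ℝ) ^ 2 / (n φ : ℝ)) := by
        have h1 : ∑ φ ∈ Y₀, ((d φ : ℝ) ^ 2 / (n φ : ℝ)) = ∑ φ ∈ Y₀, ((d φ : ℝ) ^ 2) := by
          apply Finset.sum_congr rfl
          intro φ hφ
          rw [hn1 φ (hYX (hY₀Y hφ))]
          simp
        rw [h1]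
        have h2 : ∑ η ∈ X.filter (fun η => d η < d χ), ((d η : ℝ) ^ 2) ≤ ∑ φ ∈ Y₀, ((d φ : ℝ) ^ 2) :=
          Finset.sum_le_sum_of_subset_of_nonneg hsub (fun _ _ _ => sq_nonneg _)
        refine lt_of_lt_of_le ?_ h2
        have h3 : ((2 * d χ * d χ₁ : ℕ) : ℝ) <
            ((∑ η ∈ X.filter (fun η => d η < d χ), (d η) ^ 2 : ℕ) : ℝ) := by
          exact_mod_cast hkey
        push_cast at h3
        exact h3
      have hres := Cfsg.Agent.S1516.result S τ R hS d n hd hn Y₀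
        (fun φ hφ => hYS (Finset.mem_coe.mpr (hY₀Y (Finset.mem_coe.mp hφ)))) hY₀c hcoh₀ χ hχS
        hχY₀ hχbarY₀ χ₁ hχ₁Y₀ hdvd hineq
      have hcoe : (↑Y : Set (L → ℂ)) = ↑Y₀ ∪ {χ, conjFun χ} := by
        ext φ
        simp only [Set.mem_union, Finset.mem_coe, Set.mem_insert_iff, Set.mem_singleton_iff]
        rw [hmemY₀]
        constructor
        · intro h
          by_cases h1 : φ = χ
          · exact Or.inr (Or.inl h1)
          · by_cases h2 : φ = conjFun χ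
            · exact Or.inr (Or.inr h2)
            · exact Or.inl ⟨h2, h1, h⟩
        · rintro (h | h | h)
          · exact h.2.2
          · rw [h]; exact hχY
          · rw [h]; exact hYc χ hχY
      rw [hcoe]
      exact hres

end Cfsg.Agent.Lib.Helper8.PFLower
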