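/-
helper8: extension of a coherent set by conjugate pairs, all tested against a fixed member `ψ` of the
base (generic induction with S1516).
-/
import Mathlib
import Cfsg.Agent.S1516
import Cfsg.Agent.Lib.Helper8.PFLower

set_option autoImplicit false

namespace Cfsg.Agent.Lib.Helper8.SibExtend

open Cfsg Cfsg.Agent.CharLib Cfsg.Agent.Lib.Helper10

universe u v

variable {L : Type u} [Group L] [Fintype L] {G : Type v} [Group G] [Fintype G]

open Classical in
/-- If `B ⊆ S` is coherent, closed under conjugation and contains `ψ`, and every member `χ` of the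
conjugation-closed finite set `T ⊆ S` has `d ψ ∣ d χ` and `2 d χ d ψ < s ≤ ∑_B d²` (all the members
of `B` having norm one), then `B ∪ T` is coherent. -/
theorem coherent_extend {S : Set (L → ℂ)} {τ : (L → ℂ) → (G → ℂ)}
    {R : (L → ℂ) → Finset (G → ℂ)} (hS : IsCoherenceSystem S τ R)
    (d n : (L → ℂ) → ℕ) (hd : ∀ φ ∈ S, φ 1 = (d φ : ℂ))
    (hn : ∀ φ ∈ S, classInner φ φ = (n φ : ℂ)) (hn1 : ∀ φ ∈ S, n φ = 1)
    (ψ : L → ℂ) (s : ℕ) (T : Finset (L → ℂ)) (hTS : ∀ φ ∈ T, φ ∈ S)
    (hTc : ∀ φ ∈ T, conjFun φ ∈ T)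
    (key : ∀ χ ∈ T, d ψ ∣ d χ ∧ 2 * d χ * d ψ < s) :
    ∀ k : ℕ, ∀ B : Finset (L → ℂ), (T \ B).card = k → (∀ φ ∈ B, φ ∈ S) →
      (∀ φ ∈ B, conjFun φ ∈ B) → ψ ∈ B → s ≤ ∑ η ∈ B, (d η) ^ 2 →
      IsCoherent (↑B : Set (L → ℂ)) {1}ᶜ τ → IsCoherent (↑B ∪ ↑T : Set (L → ℂ)) {1}ᶜ τ := by
  intro k
  induction k using Nat.strong_induction_on with
  | _ k ih =>
    intro B hBk hBS hBc hψB hs hcoh
    by_cases hsub : T ⊆ B
    · have : (↑B ∪ ↑T : Set (L → ℂ)) = ↑B := by
        apply Set.union_eq_self_of_subset_right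
        exact Finset.coe_subset.mpr hsub
      rw [this]
      exact hcoh
    · obtain ⟨χ, hχT, hχB⟩ := Finset.not_subset.mp hsub
      have hχS : χ ∈ S := hTS χ hχT
      have hχbT : conjFun χ ∈ T := hTc χ hχT
      have hχbB : conjFun χ ∉ B := by
        intro h
        have := hBc _ h
        rw [conjFun_conjFun] at this
        exact hχB this
      obtain ⟨hdvd, hlt⟩ := key χ hχT
      have hineq : (2 * d χ * d ψ : ℝ) < ∑ φ ∈ B, ((d φ : ℝ) ^ 2 / (n φ : ℝ)) := by
        have h1 : ∑ φ ∈ B, ((d φ : ℝ) ^ 2 / (n φ : ℝ)) = ∑ φ ∈ B, ((d φ : ℝ) ^ 2) := by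
          apply Finset.sum_congr rfl
          intro φ hφ
          rw [hn1 φ (hBS φ hφ)]
          simp
        rw [h1]
        have h3 : ((2 * d χ * d ψ : ℕ) : ℝ) < ((∑ η ∈ B, (d η) ^ 2 : ℕ) : ℝ) := by
          exact_mod_cast lt_of_lt_of_le hlt hs
        push_cast at h3
        exact h3
      have hres := Cfsg.Agent.S1516.result S τ R hS d n hd hn B
        (fun φ hφ => hBS φ (Finset.mem_coe.mp hφ)) hBc hcoh χ hχS hχB hχbB ψ hψB hdvd hineq
      set B' : Finset (L → ℂ) := insert χ (insert (conjFun χ) B) with hB'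
      have hcoe : (↑B' : Set (L → ℂ)) = ↑B ∪ {χ, conjFun χ} := by
        ext φ
        simp only [hB', Finset.coe_insert, Set.mem_union, Set.mem_insert_iff, Finset.mem_coe,
          Set.mem_singleton_iff]
        tauto
      have hBB' : B ⊆ B' := by
        intro φ hφ
        rw [hB', Finset.mem_insert, Finset.mem_insert]
        exact Or.inr (Or.inr hφ)
      have hB'S : ∀ φ ∈ B', φ ∈ S := by
        intro φ hφ
        rw [hB', Finset.mem_insert, Finset.mem_insert] at hφ
        rcases hφ with rfl | rfl | hφ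
        · exact hχS
        · exact hTS _ hχbT
        · exact hBS φ hφ
      have hB'c : ∀ φ ∈ B', conjFun φ ∈ B' := by
        intro φ hφ
        rw [hB', Finset.mem_insert, Finset.mem_insert] at hφ ⊢
        rcases hφ with rfl | rfl | hφ
        · exact Or.inr (Or.inl rfl)
        · rw [conjFun_conjFun]; exact Or.inl rfl
        · exact Or.inr (Or.inr (hBc φ hφ))
      have hcard : (T \ B').card < k := by
        rw [← hBk]
        apply Finset.card_lt_card
        rw [Finset.ssubset_iff_of_subset (Finset.sdiff_subset_sdiff subset_rfl hBB')]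
        refine ⟨χ, Finset.mem_sdiff.mpr ⟨hχT, hχB⟩, ?_⟩
        rw [Finset.mem_sdiff]
        rintro ⟨-, h⟩
        apply h
        rw [hB']
        exact Finset.mem_insert_self _ _
      have hs' : s ≤ ∑ η ∈ B', (d η) ^ 2 :=
        le_trans hs (Finset.sum_le_sum_of_subset hBB')
      have hcoh' : IsCoherent (↑B' : Set (L → ℂ)) {1}ᶜ τ := by
        rw [hcoe]
        exact hres
      have hfin := ih (T \ B').card hcard B' rfl hB'S hB'c (hBB' hψB) hs' hcoh'
      have heq : (↑B' ∪ ↑T : Set (L → ℂ)) = ↑B ∪ ↑T := by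
        rw [hcoe]
        ext φ
        simp only [Set.mem_union, Set.mem_insert_iff, Finset.mem_coe, Set.mem_singleton_iff]
        constructor
        · rintro ((h | h | h) | h)
          · exact Or.inl h
          · rw [h]; exact Or.inr hχT
          · rw [h]; exact Or.inr hχbT
          · exact Or.inr h
        · rintro (h | h)
          · exact Or.inl (Or.inl h)
          · exact Or.inr h
      rw [← heq]
      exact hfin

end Cfsg.Agent.Lib.Helper8.SibExtend
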