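/-
helper8: group-theoretic facts for Sibley's coherence theorem: the Frobenius-quotient condition for a
normal Hall kernel, a `p`-subgroup whose normalizer has index prime to `p` over it is a Sylow
subgroup, the central subgroup `Z = K' ∩ Z(K)` of a nonabelian `p`-group kernel, and
`|L : K|` divides `|Z| - 1`.
-/
import Mathlib
import Cfsg.Agent.Lib.Helper23.WAct2
import Cfsg.Agent.Lib.Helper18.FrobComp
import Cfsg.Agent.Lib.Helper10.FrobQuot

set_option autoImplicit false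

namespace Cfsg.Agent.Lib.Helper8.SibFrob

open Cfsg.Agent.Lib.Helper23.WAct

section fpf

variable {L : Type*} [Group L] [Finite L]

/-- The Frobenius-quotient hypothesis of Peterfalvi (6.5) for a normal Hall kernel. -/
theorem frob_quot_fpf_coprime (K : Subgroup L) [hK : K.Normal]
    (hcop : Nat.Coprime (Nat.card K) K.index)
    (hC : ∀ k ∈ K, k ≠ 1 → ∀ x : L, x * k = k * x → x ∈ K) :
    ∀ k ∈ K, k ∉ ⁅K, K⁆ → ∀ x : L, x * k * x⁻¹ * k⁻¹ ∈ ⁅K, K⁆ → x ∈ K := by
  intro k hk hkK' x hx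
  by_contra hxK
  have hK'K : ⁅K, K⁆ ≤ K := Subgroup.commutator_le_right K K
  have hK'n : (⁅K, K⁆ : Subgroup L).Normal := inferInstance
  -- a prime `q` dividing the order of `x` modulo `K`
  have hxbar : (QuotientGroup.mk' K x) ≠ 1 := by
    intro h
    exact hxK ((QuotientGroup.eq_one_iff x).mp h)
  have hord : orderOf (QuotientGroup.mk' K x) ≠ 1 := by
    rwa [Ne, orderOf_eq_one_iff]
  obtain ⟨q, hq, hqd⟩ := Nat.exists_prime_and_dvd hord
  haveI : Fact q.Prime := ⟨hq⟩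
  have hqidx : q ∣ K.index := by
    refine dvd_trans hqd ?_
    rw [Subgroup.index_eq_card]
    exact orderOf_dvd_natCard _
  have hqK : ¬ q ∣ Nat.card K := by
    intro h
    have h1 : q ∣ Nat.gcd (Nat.card K) K.index := Nat.dvd_gcd h hqidx
    rw [hcop] at h1
    exact hq.one_lt.ne' (Nat.dvd_one.mp h1)
  have hqx : q ∣ orderOf x := dvd_trans hqd (orderOf_map_dvd (QuotientGroup.mk' K) x)
  set y := x ^ (orderOf x / q) with hydef
  have hy : orderOf y = q := orderOf_pow_orderOf_div (orderOf_pos x).ne' hqx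
  -- the stabilizer of the coset of `k`
  let T : Subgroup L :=
    { carrier := {g | g * k * g⁻¹ * k⁻¹ ∈ ⁅K, K⁆}
      one_mem' := by
        show (1 : L) * k * 1⁻¹ * k⁻¹ ∈ ⁅K, K⁆
        simp
      mul_mem' := by
        intro a b ha hb
        show (a * b) * k * (a * b)⁻¹ * k⁻¹ ∈ ⁅K, K⁆
        have h1 : (a * b) * k * (a * b)⁻¹ * k⁻¹ =
            (a * (b * k * b⁻¹ * k⁻¹) * a⁻¹) * (a * k * a⁻¹ * k⁻¹) := by group
        rw [h1]
        exact mul_mem (hK'n.conj_mem _ hb a) ha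
      inv_mem' := by
        intro a ha
        show a⁻¹ * k * a⁻¹⁻¹ * k⁻¹ ∈ ⁅K, K⁆
        have h1 : a⁻¹ * k * a⁻¹⁻¹ * k⁻¹ = a⁻¹ * (a * k * a⁻¹ * k⁻¹)⁻¹ * a⁻¹⁻¹ := by group
        rw [h1]
        exact hK'n.conj_mem _ (inv_mem ha) a⁻¹ }
  have hxT : x ∈ T := hx
  have hyT : y ∈ T := pow_mem hxT _
  have hzT : Subgroup.zpowers y ≤ T := Subgroup.zpowers_le.mpr hyT
  -- the action
  let φ : ↥(Subgroup.zpowers y) →* MulAut L :=
    (MulAut.conj : L →* MulAut L).comp (Subgroup.zpowers y).subtype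
  have hA : IsPGroup q ↥(Subgroup.zpowers y) := by
    apply IsPGroup.of_card (n := 1)
    rw [Nat.card_zpowers, hy, pow_one]
  set X : Set L := {u | u * k⁻¹ ∈ ⁅K, K⁆} with hXdef
  have hX : ∀ a : ↥(Subgroup.zpowers y), ∀ f ∈ X, φ a f ∈ X := by
    intro a f hf
    have haT : (a : L) ∈ T := hzT a.2
    show (a : L) * f * (a : L)⁻¹ * k⁻¹ ∈ ⁅K, K⁆
    have h1 : (a : L) * f * (a : L)⁻¹ * k⁻¹ =
        ((a : L) * (f * k⁻¹) * (a : L)⁻¹) * ((a : L) * k * (a : L)⁻¹ * k⁻¹) := by group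
    rw [h1]
    exact mul_mem (hK'n.conj_mem _ hf _) haT
  have hcardX : Nat.card X = Nat.card (⁅K, K⁆ : Subgroup L) := by
    apply Nat.card_congr
    refine ⟨fun u => ⟨u.1 * k⁻¹, u.2⟩, fun c => ⟨c.1 * k, ?_⟩, ?_, ?_⟩
    · show c.1 * k * k⁻¹ ∈ ⁅K, K⁆
      rw [mul_inv_cancel_right]
      exact c.2
    · intro u
      apply Subtype.ext
      show u.1 * k⁻¹ * k = u.1
      group
    · intro c
      apply Subtype.ext
      show c.1 * k * k⁻¹ = c.1
      group
  have hcard : ¬ q ∣ Nat.card X := by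
    rw [hcardX]
    intro h
    exact hqK (dvd_trans h (Subgroup.card_dvd_of_le hK'K))
  obtain ⟨f, hfX, hfix⟩ := exists_fixed_in φ hA X hX hcard
  have hfy : y * f * y⁻¹ = f := hfix ⟨y, Subgroup.mem_zpowers y⟩
  have hfK : f ∈ K := by
    have h1 : f = (f * k⁻¹) * k := by group
    rw [h1]
    exact mul_mem (hK'K hfX) hk
  have hf1 : f ≠ 1 := by
    rintro rfl
    apply hkK'
    have h1 : (1 : L) * k⁻¹ ∈ ⁅K, K⁆ := hfX
    rw [one_mul] at h1
    have := inv_mem h1
    rwa [inv_inv] at this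
  have hyK : y ∈ K := by
    apply hC f hfK hf1 y
    calc y * f = (y * f * y⁻¹) * y := by group
      _ = f * y := by rw [hfy]
  have h2 : orderOf y ∣ Nat.card K := Subgroup.orderOf_dvd_natCard K hyK
  rw [hy] at h2
  exact hqK h2

end fpf

section sylow

/-- A `p`-subgroup whose index in its normalizer is prime to `p` is a Sylow `p`-subgroup. -/
theorem exists_sylow_eq_of_relIndex {G : Type*} [Group G] [Finite G] (p : ℕ) [hp : Fact p.Prime]
    (H : Subgroup G) (hH : IsPGroup p H)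
    (hcop : ¬ p ∣ H.relIndex (Subgroup.normalizer (H : Set G))) :
    ∃ P : Sylow p G, (P : Subgroup G) = H := by
  obtain ⟨Q, hHQ⟩ := hH.exists_le_sylow
  refine ⟨Q, ?_⟩
  by_contra hne
  have hlt : H.subgroupOf (Q : Subgroup G) < ⊤ := by
    rw [lt_top_iff_ne_top, Ne, Subgroup.subgroupOf_eq_top]
    intro h
    exact hne (le_antisymm h hHQ)
  haveI : Group.IsNilpotent (Q : Subgroup G) := IsPGroup.isNilpotent Q.isPGroup'
  have hnc := Group.normalizerCondition_of_isNilpotent (G := (Q : Subgroup G)) _ hlt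
  obtain ⟨x, hxN, hxH⟩ := SetLike.exists_of_lt hnc
  -- `x` normalizes `H`
  have hfwd : ∀ y : (Q : Subgroup G), y ∈ Subgroup.normalizer
      ((H.subgroupOf (Q : Subgroup G) : Subgroup (Q : Subgroup G)) : Set (Q : Subgroup G)) →
      ∀ h ∈ H, (y : G) * h * (y : G)⁻¹ ∈ H := by
    intro y hy h hh
    have h1 := (Subgroup.mem_normalizer_iff.mp hy ⟨h, hHQ hh⟩).mp (Subgroup.mem_subgroupOf.mpr hh)
    exact Subgroup.mem_subgroupOf.mp h1
  have hxNG : (x : G) ∈ Subgroup.normalizer (H : Set G) := by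
    rw [Subgroup.mem_normalizer_iff]
    intro h
    constructor
    · exact hfwd x hxN h
    · intro hh
      have h1 := hfwd x⁻¹ (inv_mem hxN) _ hh
      have h2 : ((x⁻¹ : (Q : Subgroup G)) : G) * ((x : G) * h * (x : G)⁻¹) *
          ((x⁻¹ : (Q : Subgroup G)) : G)⁻¹ = h := by
        rw [Subgroup.coe_inv]
        group
      rw [h2] at h1
      exact h1
  set R : Subgroup G := (Q : Subgroup G) ⊓ Subgroup.normalizer (H : Set G) with hR
  have hHR : H ≤ R := le_inf hHQ Subgroup.le_normalizer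
  have hRN : R ≤ Subgroup.normalizer (H : Set G) := inf_le_right
  have hxR : (x : G) ∈ R := ⟨x.2, hxNG⟩
  have hxH' : (x : G) ∉ H := fun h => hxH (Subgroup.mem_subgroupOf.mpr h)
  have hRp : IsPGroup p R := Q.isPGroup'.to_le inf_le_left
  have h1 := Subgroup.relIndex_mul_relIndex H R (Subgroup.normalizer (H : Set G)) hHR hRN
  have h2 : H.relIndex R ∣ Nat.card R := Subgroup.relIndex_dvd_card H R
  obtain ⟨n, hn⟩ := IsPGroup.exists_card_eq hRp
  rw [hn] at h2
  obtain ⟨j, -, hj⟩ := (Nat.dvd_prime_pow hp.out).mp h2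
  have hj0 : j ≠ 0 := by
    intro h0
    rw [h0, pow_zero, Subgroup.relIndex_eq_one] at hj
    exact hxH' (hj hxR)
  apply hcop
  rw [← h1, hj]
  exact dvd_mul_of_dvd_left (dvd_pow_self p hj0) _

end sylow

section central

variable {L : Type*} [Group L] [Fintype L]

/-- the subgroup `K' ∩ Z(K)` -/
def zsub (K : Subgroup L) : Subgroup L := ⁅K, K⁆ ⊓ Subgroup.centralizer (K : Set L)

instance zsub_normal (K : Subgroup L) [hK : K.Normal] : (zsub K).Normal := by
  unfold zsub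
  haveI : (Subgroup.centralizer (K : Set L)).Normal := Subgroup.normal_centralizer
  haveI : (⁅K, K⁆ : Subgroup L).Normal := inferInstance
  exact Subgroup.normal_inf_normal _ _

theorem zsub_le_comm (K : Subgroup L) : zsub K ≤ ⁅K, K⁆ := inf_le_left

theorem zsub_le (K : Subgroup L) : zsub K ≤ K :=
  le_trans inf_le_left (Subgroup.commutator_le_self K)

theorem zsub_central (K : Subgroup L) : ∀ z ∈ zsub K, ∀ k ∈ K, z * k = k * z := by
  intro z hz k hk
  have h1 : z ∈ Subgroup.centralizer (K : Set L) := hz.2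
  rw [Subgroup.mem_centralizer_iff] at h1
  exact (h1 k hk).symm

/-- `K' ∩ Z(K) ≠ 1` for a nonabelian `p`-group `K` -/
theorem zsub_ne_bot (K : Subgroup L) [hK : K.Normal] (p : ℕ) [hp : Fact p.Prime]
    (hKp : IsPGroup p K) (hna : ¬ ∀ a ∈ K, ∀ b ∈ K, a * b = b * a) : zsub K ≠ ⊥ := by
  have hK'K : ⁅K, K⁆ ≤ K := Subgroup.commutator_le_self K
  have hK'p : IsPGroup p (⁅K, K⁆ : Subgroup L) := hKp.to_le hK'K
  obtain ⟨n, hn⟩ := IsPGroup.exists_card_eq hK'p
  have hn0 : n ≠ 0 := by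
    intro h0
    rw [h0, pow_zero] at hn
    have hbot : (⁅K, K⁆ : Subgroup L) = ⊥ := Subgroup.card_eq_one.mp hn
    apply hna
    intro a ha b hb
    have h1 : a * b * a⁻¹ * b⁻¹ ∈ (⁅K, K⁆ : Subgroup L) := by
      have := Subgroup.commutator_mem_commutator ha hb
      rwa [commutatorElement_def] at this
    rw [hbot, Subgroup.mem_bot] at h1
    calc a * b = (a * b * a⁻¹ * b⁻¹) * (b * a) := by group
      _ = b * a := by rw [h1, one_mul]
  have hdvd : p ∣ Nat.card (⁅K, K⁆ : Subgroup L) := by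
    rw [hn]
    exact dvd_pow_self p hn0
  have hnorm : K ≤ Subgroup.normalizer ((⁅K, K⁆ : Subgroup L) : Set L) := by
    intro k _
    have hK'n : (⁅K, K⁆ : Subgroup L).Normal := inferInstance
    rw [Subgroup.mem_normalizer_iff]
    intro h
    constructor
    · intro hh
      exact hK'n.conj_mem h hh k
    · intro hh
      have := hK'n.conj_mem _ hh k⁻¹
      have h2 : k⁻¹ * (k * h * k⁻¹) * k⁻¹⁻¹ = h := by group
      rwa [h2] at this
  obtain ⟨w, hw, hw1, hwc⟩ := Cfsg.Agent.Lib.Helper18.exists_ne_one_fixed_of_dvd_card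
    (⁅K, K⁆ : Subgroup L) K hKp hdvd hnorm
  intro hbot
  apply hw1
  have h1 : w ∈ zsub K := by
    have h2 : w ∈ Subgroup.centralizer (K : Set L) := by
      rw [Subgroup.mem_centralizer_iff]
      intro k hk
      exact hwc k hk
    exact ⟨hw, h2⟩
  rw [hbot, Subgroup.mem_bot] at h1
  exact h1

open Classical in
/-- `|L : K|` divides `|Z| - 1` for a normal subgroup `Z` of `L`, central in the Frobenius-type
kernel `K`. -/
theorem index_dvd_card_sub_one (K Z : Subgroup L) [hZ : Z.Normal]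
    (hZK : Z ≤ K) (hZc : ∀ z ∈ Z, ∀ k ∈ K, z * k = k * z)
    (hC : ∀ k ∈ K, k ≠ 1 → ∀ x : L, x * k = k * x → x ∈ K) :
    K.index ∣ Nat.card Z - 1 := by
  let _ : MulAction L ↥Z := MulAction.compHom ↥Z (MulAut.conjNormal (H := Z))
  have hsmul : ∀ (x : L) (z : ↥Z), ((x • z : ↥Z) : L) = x * z * x⁻¹ := by
    intro x z
    exact MulAut.conjNormal_apply x z
  rw [Nat.card_eq_fintype_card]
  apply Cfsg.Agent.Lib.Helper10.index_dvd_card_sub_one_of_free K (1 : ↥Z)
  · intro k hk z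
    apply Subtype.ext
    rw [hsmul, ← hZc z z.2 k hk]
    group
  · intro x hx z hz
    by_contra hz1
    apply hx
    apply hC (z : L) (hZK z.2) (fun h => hz1 (Subtype.ext h)) x
    have h1 := congrArg Subtype.val hz
    rw [hsmul] at h1
    calc x * (z : L) = (x * z * x⁻¹) * x := by group
      _ = z * x := by rw [h1]
  · intro x
    apply Subtype.ext
    rw [hsmul]
    simp

/-- `2 |L : K| ≤ |Z| - 1` when `|L|` is odd and `Z ≠ 1`. -/
theorem two_mul_index_le (K Z : Subgroup L) [hZ : Z.Normal]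
    (hZK : Z ≤ K) (hZc : ∀ z ∈ Z, ∀ k ∈ K, z * k = k * z)
    (hC : ∀ k ∈ K, k ≠ 1 → ∀ x : L, x * k = k * x → x ∈ K) (hodd : Odd (Nat.card L))
    (hZ1 : Z ≠ ⊥) : 2 * K.index + 1 ≤ Nat.card Z := by
  obtain ⟨j, hj⟩ := index_dvd_card_sub_one K Z hZK hZc hC
  have hZpos : 0 < Nat.card Z := Nat.card_pos
  have hZodd : Odd (Nat.card Z) := Odd.of_dvd_nat hodd (Subgroup.card_subgroup_dvd_card Z)
  have hKodd : Odd K.index := Odd.of_dvd_nat hodd (Subgroup.index_dvd_card K)
  have hZne : Nat.card Z ≠ 1 := fun h => hZ1 (Subgroup.card_eq_one.mp h)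
  have hj0 : j ≠ 0 := by
    rintro rfl
    omega
  have hj1 : j ≠ 1 := by
    rintro rfl
    rw [mul_one] at hj
    obtain ⟨a, ha⟩ := hZodd
    obtain ⟨b, hb⟩ := hKodd
    omega
  have hj2 : 2 ≤ j := by omega
  have h1 : 2 * K.index ≤ K.index * j := by
    rw [mul_comm]
    exact Nat.mul_le_mul_left _ hj2
  omega

end central

end Cfsg.Agent.Lib.Helper8.SibFrob
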