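/-
helper8: Sibley's coherence theorem, abstract gluing step (part A): integer lemmas and the swap of a
coherent extension on a conjugate pair.
-/
import Mathlib
import Cfsg.Agent.Lib.Helper10.Coherence4

set_option autoImplicit false

namespace Cfsg.Agent.Lib.Helper8.SibGlue

open Cfsg Cfsg.Agent.Lib.Helper10
open scoped ComplexConjugate

/-- A finite family of integers whose squares sum to one has exactly one nonzero member, `±1`. -/
theorem int_sq_sum_eq_one {ι : Type*} [DecidableEq ι] (s : Finset ι) (f : ι → ℤ)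
    (h : ∑ i ∈ s, f i ^ 2 = 1) :
    ∃ i₀ ∈ s, (f i₀ = 1 ∨ f i₀ = -1) ∧ ∀ i ∈ s, i ≠ i₀ → f i = 0 := by
  have hnn : ∀ i ∈ s, 0 ≤ f i ^ 2 := fun i _ => sq_nonneg _
  obtain ⟨i₀, hi₀s, hi₀⟩ : ∃ i₀ ∈ s, f i₀ ≠ 0 := by
    by_contra hcon
    push Not at hcon
    rw [Finset.sum_eq_zero (fun i hi => by rw [hcon i hi]; ring)] at h
    exact zero_ne_one h
  have hsplit := Finset.add_sum_erase s (fun i => f i ^ 2) hi₀s
  rw [h] at hsplit
  have hge : 1 ≤ f i₀ ^ 2 := by
    have : 0 < f i₀ ^ 2 := by positivity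
    omega
  have hrestnn : 0 ≤ ∑ i ∈ s.erase i₀, f i ^ 2 :=
    Finset.sum_nonneg (fun i hi => hnn i (Finset.mem_of_mem_erase hi))
  have hone : f i₀ ^ 2 = 1 := by
    omega
  have hrest : ∑ i ∈ s.erase i₀, f i ^ 2 = 0 := by
    omega
  refine ⟨i₀, hi₀s, ?_, ?_⟩
  · have : (f i₀ - 1) * (f i₀ + 1) = 0 := by ring_nf; linarith
    rcases mul_eq_zero.mp this with h1 | h1
    · left; omega
    · right; omega
  · intro i hi hne
    have := (Finset.sum_eq_zero_iff_of_nonneg
      (fun i hi => hnn i (Finset.mem_of_mem_erase hi))).mp hrest i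
      (Finset.mem_erase.mpr ⟨hne, hi⟩)
    exact pow_eq_zero_iff (two_ne_zero) |>.mp this

variable {L : Type*} [Group L] [Fintype L] {G : Type*} [Group G] [Fintype G]

open Classical in
/-- Swapping a coherent extension on a conjugate pair `{χ, conj χ}`. -/
theorem swap_pair (X : Finset (L → ℂ)) (χ : L → ℂ) (hX : X = {χ, conjFun χ})
    (hne : conjFun χ ≠ χ) (hirr : ∀ ξ ∈ X, IsIrrCharacter L ξ)
    (σ : (L → ℂ) → (G → ℂ)) (hσ : IsLinearIsometryOn (zspan (↑X : Set (L → ℂ))) σ) :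
    ∃ σ' : (L → ℂ) → (G → ℂ), IsLinearIsometryOn (zspan (↑X : Set (L → ℂ))) σ' ∧
      σ' χ = -σ (conjFun χ) ∧ σ' (conjFun χ) = -σ χ ∧
      ∀ θ ∈ zspanOn (↑X : Set (L → ℂ)) {1}ᶜ, σ' θ = σ θ := by
  have hχX : χ ∈ X := by rw [hX]; simp
  have hχbX : conjFun χ ∈ X := by rw [hX]; simp
  have hconjX : ∀ ξ ∈ X, conjFun ξ ∈ X := by
    intro ξ hξ
    rw [hX, Finset.mem_insert, Finset.mem_singleton] at hξ
    rcases hξ with rfl | rfl
    · exact hχbX
    · rw [conjFun_conjFun]; exact hχX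
  have hO : OrthoOn X := orthoOn_of_irr hirr
  set f : (L → ℂ) → (G → ℂ) := fun ξ => -σ (conjFun ξ) with hf
  have hconj_inj : ∀ ξ η : L → ℂ, conjFun ξ = conjFun η → ξ = η := by
    intro ξ η h
    have := congrArg conjFun h
    rwa [conjFun_conjFun, conjFun_conjFun] at this
  have hfo : ∀ ξ ∈ X, ∀ η ∈ X, classInner (f ξ) (f η) = if ξ = η then 1 else 0 := by
    intro ξ hξ η hη
    rw [hf]
    simp only
    rw [classInner_neg_left, classInner_neg_right, neg_neg,
      hσ.2.2.1 _ (subset_zspan (hconjX ξ hξ)) _ (subset_zspan (hconjX η hη)),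
      hO _ (hconjX ξ hξ) _ (hconjX η hη)]
    by_cases h : ξ = η
    · rw [if_pos h, if_pos (by rw [h])]
    · rw [if_neg h, if_neg (fun h' => h (hconj_inj ξ η h'))]
  have hfg : ∀ ξ ∈ X, IsGeneralizedCharacter G (f ξ) := by
    intro ξ hξ
    exact genChar_neg (hσ.2.2.2 _ (subset_zspan (hconjX ξ hξ)))
  have hiso := coefMap_isLinearIsometryOn hO f hfo hfg
  refine ⟨coefMap X f, hiso, ?_, ?_, ?_⟩
  · rw [coefMap_apply_mem hO f hχX]
  · rw [coefMap_apply_mem hO f hχbX, hf]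
    simp only
    rw [conjFun_conjFun]
  · intro θ hθ
    obtain ⟨c, -, hc⟩ := zspan_expand hO hθ.1
    have hsum : ∀ g : (L → ℂ) → (L → ℂ), ∑ ξ ∈ X, g ξ = g χ + g (conjFun χ) := by
      intro g
      rw [hX, Finset.sum_pair (Ne.symm hne)]
    have hθ' : θ = c χ • χ + c (conjFun χ) • conjFun χ := by
      rw [hc]; exact hsum (fun ξ => c ξ • ξ)
    -- the coefficients are opposite
    have h1 : θ 1 = 0 := hθ.2 1 (by simp)
    have hχ1 : χ 1 ≠ 0 := irr_one_ne_zero (hirr χ hχX)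
    have hcb1 : conjFun χ 1 = χ 1 := by
      obtain ⟨k, hk⟩ := Cfsg.Agent.CharLib.IsCharacter.apply_one
        (Cfsg.Agent.CharLib.IsIrrCharacter.isCharacter (hirr χ hχX))
      simp only [conjFun]
      rw [hk, Complex.conj_natCast]
    have hcc : c (conjFun χ) = -c χ := by
      have h2 : ((c χ : ℤ) : ℂ) * χ 1 + ((c (conjFun χ) : ℤ) : ℂ) * χ 1 = 0 := by
        have := h1
        rw [hθ'] at this
        simp only [Pi.add_apply, Pi.smul_apply, zsmul_eq_mul, Pi.mul_apply, Pi.intCast_apply] at this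
        rw [hcb1] at this
        exact this
      have h3 : (((c χ + c (conjFun χ) : ℤ)) : ℂ) * χ 1 = 0 := by
        push_cast; linear_combination h2
      have h4 : (((c χ + c (conjFun χ) : ℤ)) : ℂ) = 0 := by
        rcases mul_eq_zero.mp h3 with h | h
        · exact h
        · exact absurd h hχ1
      have h5 : c χ + c (conjFun χ) = 0 := by exact_mod_cast h4
      omega
    have hmemχ : χ ∈ zspan (↑X : Set (L → ℂ)) := subset_zspan hχX
    have hmemχb : conjFun χ ∈ zspan (↑X : Set (L → ℂ)) := subset_zspan hχbX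
    rw [hθ', hcc]
    rw [coefMap_add, coefMap_zsmul, coefMap_zsmul, coefMap_apply_mem hO f hχX,
      coefMap_apply_mem hO f hχbX]
    rw [hσ.1 _ (zspan_zsmul hmemχ _) _ (zspan_zsmul hmemχb _), hσ.2.1 _ hmemχ, hσ.2.1 _ hmemχb]
    rw [hf]
    simp only
    rw [conjFun_conjFun]
    simp only [neg_smul, smul_neg, neg_neg]
    abel

end Cfsg.Agent.Lib.Helper8.SibGlue
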