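/-
helper8: Sibley's coherence theorem, abstract gluing step (part B).  Two disjoint coherent sets `X`, `Y`
of irreducible characters; `χ₁ ∈ X` of degree `q e`, all of `Y` of degree `e`; if the inner products of
`α (χ₁ - q ψ)` with the irreducible characters of `G` orthogonal to the extension of `X` are all
divisible by `q ≥ 2`, then `X ∪ Y` is coherent.
-/
import Mathlib
import Cfsg.Agent.S1531
import Cfsg.Agent.Lib.Helper8.SibGlueA

set_option autoImplicit false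

namespace Cfsg.Agent.Lib.Helper8.SibGlue

open Cfsg Cfsg.Agent.Lib.Helper10
open scoped ComplexConjugate

variable {G : Type*} [Group G] [Fintype G]

attribute [local instance] Cfsg.Agent.CharLib.fintypeIrr

set_option maxHeartbeats 4000000 in
open Classical in
theorem glue (N : Subgroup G) [Fintype N] (S : Set (N → ℂ)) (X Y : Finset (N → ℂ))
    (hirr : ∀ ξ ∈ S, IsIrrCharacter N ξ) (hXS : ∀ ξ ∈ X, ξ ∈ S) (hYS : ∀ ξ ∈ Y, ξ ∈ S)
    (hXY : ∀ ξ ∈ X, ξ ∉ Y)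
    (hXc : ∀ χ ∈ X, conjFun χ ∈ X) (hYc : ∀ η ∈ Y, conjFun η ∈ Y)
    (hreal : ∀ χ ∈ S, conjFun χ ≠ χ)
    (α : (N → ℂ) → (G → ℂ)) (hα : IsLinearIsometryOn (zspanOn S {1}ᶜ) α)
    (hα1 : ∀ θ ∈ zspanOn S {1}ᶜ, α θ 1 = 0)
    (σ τ : (N → ℂ) → (G → ℂ)) (hσ : IsLinearIsometryOn (zspan (↑X : Set (N → ℂ))) σ)
    (hσα : ∀ θ ∈ zspanOn (↑X : Set (N → ℂ)) {1}ᶜ, σ θ = α θ)
    (hτ : IsLinearIsometryOn (zspan (↑Y : Set (N → ℂ))) τ)
    (hτα : ∀ θ ∈ zspanOn (↑Y : Set (N → ℂ)) {1}ᶜ, τ θ = α θ)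
    (χ₁ : N → ℂ) (hχ₁ : χ₁ ∈ X) (ψ : N → ℂ) (hψ : ψ ∈ Y) (q e : ℕ) (hq : 2 ≤ q) (he : 0 < e)
    (hχ₁1 : χ₁ 1 = ((q * e : ℕ) : ℂ)) (hYdeg : ∀ η ∈ Y, η 1 = (e : ℂ))
    (hdiv : ∀ φ : G → ℂ, IsIrrCharacter G φ → (∀ χ ∈ X, classInner (σ χ) φ = 0) →
      ∃ m : ℤ, classInner (α (χ₁ - (q : ℤ) • ψ)) φ = (q : ℂ) * m) :
    IsCoherent (↑X ∪ ↑Y : Set (N → ℂ)) {1}ᶜ α := by
  -- basic facts
  have hirrX : ∀ ξ ∈ X, IsIrrCharacter N ξ := fun ξ h => hirr ξ (hXS ξ h)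
  have hirrY : ∀ ξ ∈ Y, IsIrrCharacter N ξ := fun ξ h => hirr ξ (hYS ξ h)
  have hOX : OrthoOn X := orthoOn_of_irr hirrX
  have hOY : OrthoOn Y := orthoOn_of_irr hirrY
  have hXsub : (↑X : Set (N → ℂ)) ⊆ S := fun ξ hξ => hXS ξ (Finset.mem_coe.mp hξ)
  have hYsub : (↑Y : Set (N → ℂ)) ⊆ S := fun ξ hξ => hYS ξ (Finset.mem_coe.mp hξ)
  have hχ₁b : conjFun χ₁ ∈ X := hXc χ₁ hχ₁
  have hχ₁ne : conjFun χ₁ ≠ χ₁ := hreal χ₁ (hXS χ₁ hχ₁)
  have hψb : conjFun ψ ∈ Y := hYc ψ hψ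
  have hψne : conjFun ψ ≠ ψ := hreal ψ (hYS ψ hψ)
  have hψ1 : ψ 1 = (e : ℂ) := hYdeg ψ hψ
  have hSorth : ∀ ξ ∈ S, ∀ η ∈ S, classInner ξ η = if ξ = η then 1 else 0 :=
    fun ξ hξ η hη => classInner_irr (hirr ξ hξ) (hirr η hη)
  have hXYorth : ∀ ξ ∈ X, ∀ η ∈ Y, classInner ξ η = 0 := by
    intro ξ hξ η hη
    rw [hSorth ξ (hXS ξ hξ) η (hYS η hη), if_neg]
    rintro rfl
    exact hXY ξ hξ hη
  have hYXorth : ∀ η ∈ Y, ∀ ξ ∈ X, classInner η ξ = 0 := by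
    intro η hη ξ hξ
    rw [hSorth η (hYS η hη) ξ (hXS ξ hξ), if_neg]
    rintro rfl
    exact hXY η hξ hη
  have hqC : ((q : ℤ) : ℂ) = (q : ℂ) := Int.cast_natCast q
  have hq0 : (q : ℂ) ≠ 0 := by
    have : q ≠ 0 := by omega
    exact_mod_cast this
  -- the function `β` and its image `T`
  set β : N → ℂ := χ₁ - (q : ℤ) • ψ with hβ
  have hβS : β ∈ zspanOn S {1}ᶜ := by
    refine ⟨zspan_sub (subset_zspan (hXS _ hχ₁)) (zspan_zsmul (subset_zspan (hYS _ hψ)) _), ?_⟩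
    intro x hx
    have hx1 : x = 1 := by simpa using hx
    rw [hx1, hβ]
    simp only [Pi.sub_apply, Pi.smul_apply]
    rw [hχ₁1, hψ1]
    simp only [zsmul_eq_mul]
    push_cast
    ring
  set T : G → ℂ := α β with hT
  have hTg : IsGeneralizedCharacter G T := hα.2.2.2 β hβS
  have hβinner : ∀ θ : N → ℂ, classInner β θ = classInner χ₁ θ - (q : ℂ) * classInner ψ θ := by
    intro θ
    rw [hβ, Cfsg.Agent.Lib.Helper10.classInner_sub_left, classInner_zsmul_left, hqC]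
  have hinnerβ : ∀ θ : N → ℂ, classInner θ β = classInner θ χ₁ - (q : ℂ) * classInner θ ψ := by
    intro θ
    rw [hβ, Cfsg.Agent.Lib.Helper10.classInner_sub_right, classInner_zsmul_right, hqC]
  have hχ₁ψ : classInner χ₁ ψ = 0 := hXYorth χ₁ hχ₁ ψ hψ
  have hψχ₁ : classInner ψ χ₁ = 0 := hYXorth ψ hψ χ₁ hχ₁
  have hχ₁χ₁ : classInner χ₁ χ₁ = 1 := by rw [hSorth χ₁ (hXS _ hχ₁) χ₁ (hXS _ hχ₁), if_pos rfl]
  have hψψ : classInner ψ ψ = 1 := by rw [hSorth ψ (hYS _ hψ) ψ (hYS _ hψ), if_pos rfl]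
  have hTT : classInner T T = 1 + (q : ℂ) ^ 2 := by
    rw [hT, hα.2.2.1 β hβS β hβS, hβinner, hinnerβ, hinnerβ, hχ₁χ₁, hχ₁ψ, hψχ₁, hψψ]
    ring
  -- transfer of inner products
  have htrX : ∀ θ ∈ zspanOn (↑X : Set (N → ℂ)) {1}ᶜ, classInner T (σ θ) = classInner β θ := by
    intro θ hθ
    rw [hσα θ hθ]
    exact hα.2.2.1 β hβS θ (zspanOn_mono hXsub _ hθ)
  have htrY : ∀ θ ∈ zspanOn (↑Y : Set (N → ℂ)) {1}ᶜ, classInner T (τ θ) = classInner β θ := by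
    intro θ hθ
    rw [hτα θ hθ]
    exact hα.2.2.1 β hβS θ (zspanOn_mono hYsub _ hθ)
  -- orthogonality of the two extensions (S1531, first part)
  have hX2 : ∃ a ∈ (↑X : Set (N → ℂ)), ∃ b ∈ (↑X : Set (N → ℂ)), a ≠ b :=
    ⟨conjFun χ₁, hχ₁b, χ₁, hχ₁, hχ₁ne⟩
  have hY2 : ∃ a ∈ (↑Y : Set (N → ℂ)), ∃ b ∈ (↑Y : Set (N → ℂ)), a ≠ b :=
    ⟨conjFun ψ, hψb, ψ, hψ, hψne⟩
  have hdisj : Disjoint (↑X : Set (N → ℂ)) (↑Y : Set (N → ℂ)) := by
    rw [Set.disjoint_left]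
    intro ξ hξ hξ'
    exact hXY ξ (Finset.mem_coe.mp hξ) (Finset.mem_coe.mp hξ')
  have hστ : ∀ χ ∈ X, ∀ η ∈ Y, classInner (σ χ) (τ η) = 0 := by
    intro χ hχ η hη
    exact (Cfsg.Agent.S1531.result N S ↑X ↑Y hirr hXsub hYsub hdisj hX2 hY2 α hα hα1 σ τ hσ hσα hτ
      hτα).1 χ hχ η hη
  -- integrality of the coefficients
  have hxint : ∀ χ : N → ℂ, ∃ a : ℤ, χ ∈ X → classInner T (σ χ) = a := by
    intro χ
    by_cases hχ : χ ∈ X
    · obtain ⟨a, ha⟩ := genChar_inner_int hTg (hσ.2.2.2 χ (subset_zspan hχ))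
      exact ⟨a, fun _ => ha⟩
    · exact ⟨0, fun h => absurd h hχ⟩
  choose x hx using hxint
  -- orthonormality of the images
  have hσo := isometry_ortho hOX hσ
  have hτo := isometry_ortho hOY hτ
  -- degrees
  have hdegX : ∀ χ ∈ X, ∃ k : ℕ, 0 < k ∧ χ 1 = k :=
    fun χ hχ => Cfsg.Agent.CharLib.IsIrrCharacter.apply_one_pos (hirrX χ hχ)
  -- relation (R1)
  have hR1 : ∀ χ ∈ X, χ ≠ χ₁ → ∀ k : ℕ, χ 1 = k →
      ((q * e : ℕ) : ℤ) * x χ - (k : ℤ) * x χ₁ = -(k : ℤ) := by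
    intro χ hχ hne k hk
    set θ : N → ℂ := ((q * e : ℕ) : ℤ) • χ + (-(k : ℤ)) • χ₁ with hθ
    have hθX : θ ∈ zspanOn (↑X : Set (N → ℂ)) {1}ᶜ := by
      refine ⟨zspan_add (zspan_zsmul (subset_zspan hχ) _) (zspan_zsmul (subset_zspan hχ₁) _), ?_⟩
      intro y hy
      have hy1 : y = 1 := by simpa using hy
      rw [hy1, hθ]
      simp only [Pi.add_apply, Pi.smul_apply]
      rw [hχ₁1, hk]
      simp only [zsmul_eq_mul]
      push_cast
      ring
    have h1 := htrX θ hθX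
    have h2 : σ θ = ((q * e : ℕ) : ℤ) • σ χ + (-(k : ℤ)) • σ χ₁ :=
      isometry_lin2 hσ (fun a ha n => zspan_zsmul ha n) (subset_zspan hχ) (subset_zspan hχ₁) _ _
    rw [h2, Cfsg.Agent.Lib.Helper10.classInner_add_right, classInner_zsmul_right,
      classInner_zsmul_right, hx χ hχ, hx χ₁ hχ₁, hβinner, hθ,
      Cfsg.Agent.Lib.Helper10.classInner_add_right, Cfsg.Agent.Lib.Helper10.classInner_add_right,
      classInner_zsmul_right, classInner_zsmul_right, classInner_zsmul_right,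
      classInner_zsmul_right, hχ₁χ₁, hψχ₁, hYXorth ψ hψ χ hχ,
      hSorth χ₁ (hXS _ hχ₁) χ (hXS _ hχ), if_neg (Ne.symm hne)] at h1
    have h3 : (((((q * e : ℕ) : ℤ) * x χ - (k : ℤ) * x χ₁ : ℤ)) : ℂ) = ((-(k : ℤ) : ℤ) : ℂ) := by
      push_cast
      push_cast at h1
      linear_combination h1
    exact_mod_cast h3
  -- relation (R2)
  have hR2 : ∀ η ∈ Y, η ≠ ψ → classInner T (τ ψ) - classInner T (τ η) = -(q : ℂ) := by
    intro η hη hne
    set θ : N → ℂ := (1 : ℤ) • ψ + (-1 : ℤ) • η with hθ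
    have hθY : θ ∈ zspanOn (↑Y : Set (N → ℂ)) {1}ᶜ := by
      refine ⟨zspan_add (zspan_zsmul (subset_zspan hψ) _) (zspan_zsmul (subset_zspan hη) _), ?_⟩
      intro y hy
      have hy1 : y = 1 := by simpa using hy
      rw [hy1, hθ]
      simp only [Pi.add_apply, Pi.smul_apply]
      rw [hψ1, hYdeg η hη]
      simp only [zsmul_eq_mul]
      push_cast
      ring
    have h1 := htrY θ hθY
    have h2 : τ θ = (1 : ℤ) • τ ψ + (-1 : ℤ) • τ η :=
      isometry_lin2 hτ (fun a ha n => zspan_zsmul ha n) (subset_zspan hψ) (subset_zspan hη) _ _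
    rw [h2, Cfsg.Agent.Lib.Helper10.classInner_add_right, classInner_zsmul_right,
      classInner_zsmul_right, hβinner, hθ,
      Cfsg.Agent.Lib.Helper10.classInner_add_right, Cfsg.Agent.Lib.Helper10.classInner_add_right,
      classInner_zsmul_right, classInner_zsmul_right, classInner_zsmul_right,
      classInner_zsmul_right, hχ₁ψ, hXYorth χ₁ hχ₁ η hη, hψψ,
      hSorth ψ (hYS _ hψ) η (hYS _ hη), if_neg (Ne.symm hne)] at h1
    push_cast at h1
    linear_combination h1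
  -- the projection onto the images of `X`
  set A : G → ℂ := ∑ χ ∈ X, ((x χ : ℤ) : ℂ) • σ χ with hA
  set B : G → ℂ := T - A with hB
  have hAσ : ∀ χ ∈ X, classInner A (σ χ) = x χ := by
    intro χ hχ
    rw [hA]
    exact classInner_sum_smul_left X σ hσo _ hχ
  have hBσ : ∀ χ ∈ X, classInner B (σ χ) = 0 := by
    intro χ hχ
    rw [hB, Cfsg.Agent.Lib.Helper10.classInner_sub_left, hx χ hχ, hAσ χ hχ, sub_self]
  have hσB : ∀ χ ∈ X, classInner (σ χ) B = 0 := by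
    intro χ hχ
    rw [Cfsg.Agent.Lib.Helper10.classInner_conj_symm, hBσ χ hχ, map_zero]
  have hAg : IsGeneralizedCharacter G A := by
    rw [hA]
    apply genChar_sum
    intro χ hχ
    rw [Int.cast_smul_eq_zsmul]
    exact genChar_zsmul (hσ.2.2.2 χ (subset_zspan hχ)) _
  have hBg : IsGeneralizedCharacter G B := genChar_sub hTg hAg
  have hAA : classInner A A = ∑ χ ∈ X, ((x χ : ℤ) : ℂ) ^ 2 := by
    rw [hA, classInner_sum_smul_sum_smul X σ hσo]
    apply Finset.sum_congr rfl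
    intro χ _
    rw [map_intCast]
    ring
  have hAB : classInner A B = 0 := by
    rw [hA, classInner_sum_left]
    apply Finset.sum_eq_zero
    intro χ hχ
    rw [Cfsg.Agent.Lib.Helper10.classInner_smul_left, hσB χ hχ, mul_zero]
  have hBA : classInner B A = 0 := by
    rw [Cfsg.Agent.Lib.Helper10.classInner_conj_symm, hAB, map_zero]
  have hpyth : classInner T T = ∑ χ ∈ X, ((x χ : ℤ) : ℂ) ^ 2 + classInner B B := by
    have hTAB : T = A + B := by rw [hB]; abel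
    conv_lhs => rw [hTAB]
    rw [Cfsg.Agent.Lib.Helper10.classInner_add_left, Cfsg.Agent.Lib.Helper10.classInner_add_right,
      Cfsg.Agent.Lib.Helper10.classInner_add_right, hAA, hAB, hBA]
    ring
  have hAτ : ∀ η ∈ Y, classInner A (τ η) = 0 := by
    intro η hη
    rw [hA, classInner_sum_left]
    apply Finset.sum_eq_zero
    intro χ hχ
    rw [Cfsg.Agent.Lib.Helper10.classInner_smul_left, hστ χ hχ η hη, mul_zero]
  have hBτ : ∀ η ∈ Y, classInner B (τ η) = classInner T (τ η) := by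
    intro η hη
    rw [hB, Cfsg.Agent.Lib.Helper10.classInner_sub_left, hAτ η hη, sub_zero]
  -- divisibility of the coefficients of `B`
  have hBdiv : ∀ ξ : IrrCharacter G, ∃ m : ℤ, classInner B (ξ : G → ℂ) = (q : ℂ) * m := by
    intro ξ
    by_cases hcase : ∀ χ ∈ X, classInner (σ χ) (ξ : G → ℂ) = 0
    · obtain ⟨m, hm⟩ := hdiv ξ.1 ξ.2 hcase
      refine ⟨m, ?_⟩
      rw [hB, Cfsg.Agent.Lib.Helper10.classInner_sub_left, ← hm, hA, classInner_sum_left,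
        Finset.sum_eq_zero, sub_zero]
      intro χ hχ
      rw [Cfsg.Agent.Lib.Helper10.classInner_smul_left, hcase χ hχ, mul_zero]
    · push Not at hcase
      obtain ⟨χ, hχ, hne⟩ := hcase
      obtain ⟨ε, -, hε, -⟩ := eq_sign_smul_of_inner_ne_zero (hσ.2.2.2 χ (subset_zspan hχ))
        (Cfsg.Agent.Lib.Helper10.isGeneralizedCharacter_of_isCharacter
          (Cfsg.Agent.CharLib.IsIrrCharacter.isCharacter ξ.2))
        (by rw [hσo χ hχ χ hχ, if_pos rfl]) (classInner_irr_self ξ.2) hne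
      refine ⟨0, ?_⟩
      rw [hε, Cfsg.Agent.Lib.Helper10.classInner_smul_right, hBσ χ hχ]
      simp
  choose m hm using hBdiv
  -- `B ≠ 0`
  have hBne : B ≠ 0 := by
    intro h0
    have h1 := hR2 (conjFun ψ) hψb hψne
    rw [← hBτ ψ hψ, ← hBτ _ hψb, h0, classInner_zero_left, classInner_zero_left, sub_zero] at h1
    have : (q : ℂ) = 0 := by linear_combination h1
    exact hq0 this
  -- Parseval for `B`
  obtain ⟨b, hb1, hb2, hb3⟩ := genChar_coeff hBg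
  have hbm : ∀ ξ : IrrCharacter G, b ξ = q * m ξ := by
    intro ξ
    have h1 := hb1 ξ
    rw [hm ξ] at h1
    have h2 : ((b ξ : ℤ) : ℂ) = ((q * m ξ : ℤ) : ℂ) := by push_cast; exact h1.symm
    exact_mod_cast h2
  have hBB : classInner B B = ((q ^ 2 * ∑ ξ : IrrCharacter G, m ξ ^ 2 : ℤ) : ℂ) := by
    rw [hb3]
    push_cast
    rw [Finset.mul_sum]
    apply Finset.sum_congr rfl
    intro ξ _
    rw [hbm ξ]
    push_cast
    ring
  -- the arithmetic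
  have hkey : ∑ χ ∈ X, x χ ^ 2 + q ^ 2 * ∑ ξ : IrrCharacter G, m ξ ^ 2 = 1 + (q : ℤ) ^ 2 := by
    have h1 := hpyth
    rw [hTT, hBB] at h1
    have h2 : ((∑ χ ∈ X, x χ ^ 2 + q ^ 2 * ∑ ξ : IrrCharacter G, m ξ ^ 2 : ℤ) : ℂ) =
        ((1 + (q : ℤ) ^ 2 : ℤ) : ℂ) := by
      push_cast
      push_cast at h1
      linear_combination -h1
    exact_mod_cast h2
  have hw1 : 1 ≤ ∑ ξ : IrrCharacter G, m ξ ^ 2 := by
    obtain ⟨ξ₁, hξ₁⟩ : ∃ ξ₁ : IrrCharacter G, m ξ₁ ≠ 0 := by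
      by_contra hcon
      push Not at hcon
      apply hBne
      rw [hb2]
      apply Finset.sum_eq_zero
      intro ξ _
      rw [hbm ξ, hcon ξ]
      simp
    have h1 : m ξ₁ ^ 2 ≤ ∑ ξ : IrrCharacter G, m ξ ^ 2 :=
      Finset.single_le_sum (f := fun ξ => m ξ ^ 2) (fun ξ _ => sq_nonneg _) (Finset.mem_univ ξ₁)
    have h2 : 0 < m ξ₁ ^ 2 := by positivity
    omega
  have hv0 : 0 ≤ ∑ χ ∈ X, x χ ^ 2 := Finset.sum_nonneg (fun χ _ => sq_nonneg _)
  have hq2 : (4 : ℤ) ≤ (q : ℤ) ^ 2 := by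
    have : (2 : ℤ) ≤ q := by exact_mod_cast hq
    nlinarith
  have hw : ∑ ξ : IrrCharacter G, m ξ ^ 2 = 1 := by
    by_contra hne
    have h2 : 2 ≤ ∑ ξ : IrrCharacter G, m ξ ^ 2 := by omega
    nlinarith
  have hv : ∑ χ ∈ X, x χ ^ 2 = 1 := by
    rw [hw] at hkey
    linarith
  -- `B` is `± q` times an irreducible character
  obtain ⟨ξ₀, -, hξ₀pm, hξ₀z⟩ := int_sq_sum_eq_one Finset.univ m hw
  have hBξ₀ : B = ((q * m ξ₀ : ℤ) : ℂ) • (ξ₀ : G → ℂ) := by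
    conv_lhs => rw [hb2]
    rw [Finset.sum_eq_single ξ₀]
    · rw [hbm ξ₀]
    · intro ξ _ hξ
      rw [hbm ξ, hξ₀z ξ (Finset.mem_univ _) hξ]
      simp
    · intro h
      exact absurd (Finset.mem_univ _) h
  -- the `X`-part
  have hXpart : ∃ σ' : (N → ℂ) → (G → ℂ), IsLinearIsometryOn (zspan (↑X : Set (N → ℂ))) σ' ∧
      (∀ θ ∈ zspanOn (↑X : Set (N → ℂ)) {1}ᶜ, σ' θ = α θ) ∧ A = σ' χ₁ := by
    obtain ⟨χ₀, hχ₀X, hχ₀pm, hχ₀z⟩ := int_sq_sum_eq_one X x hv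
    have hxb : x (conjFun χ₁) = x χ₁ - 1 := by
      have hb1' : conjFun χ₁ 1 = ((q * e : ℕ) : ℂ) := by
        simp only [conjFun]
        rw [hχ₁1, Complex.conj_natCast]
      have h1 := hR1 (conjFun χ₁) hχ₁b hχ₁ne (q * e) hb1'
      have hqe : (0 : ℤ) < ((q * e : ℕ) : ℤ) := by
        have : 0 < q * e := Nat.mul_pos (by omega) he
        exact_mod_cast this
      have h2 : ((q * e : ℕ) : ℤ) * (x (conjFun χ₁) - x χ₁ + 1) = 0 := by linarith
      rcases mul_eq_zero.mp h2 with h | h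
      · omega
      · omega
    by_cases ht : x χ₁ = 1
    · -- `A = σ χ₁`
      have hχ₀ : χ₀ = χ₁ := by
        by_contra hne
        have := hχ₀z χ₁ hχ₁ (Ne.symm hne)
        omega
      refine ⟨σ, hσ, hσα, ?_⟩
      rw [hA, Finset.sum_eq_single χ₁]
      · rw [ht]; simp
      · intro χ hχ hne
        rw [hχ₀z χ hχ (by rw [hχ₀]; exact hne)]
        simp
      · intro h; exact absurd hχ₁ h
    · -- the swapped case
      have hxb0 : x (conjFun χ₁) ≠ 0 := by rw [hxb]; omega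
      have hχ₀ : χ₀ = conjFun χ₁ := by
        by_contra hne
        exact hxb0 (hχ₀z _ hχ₁b (Ne.symm hne))
      have hx1 : x χ₁ = 0 := hχ₀z χ₁ hχ₁ (by rw [hχ₀]; exact Ne.symm hχ₁ne)
      have hxb' : x (conjFun χ₁) = -1 := by rw [hxb, hx1]; ring
      have hXeq : X = {χ₁, conjFun χ₁} := by
        ext χ
        rw [Finset.mem_insert, Finset.mem_singleton]
        constructor
        · intro hχ
          by_contra hcon
          push Not at hcon
          obtain ⟨k, hkpos, hk⟩ := hdegX χ hχ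
          have h1 := hR1 χ hχ hcon.1 k hk
          rw [hx1, hχ₀z χ hχ (by rw [hχ₀]; exact hcon.2)] at h1
          have : (k : ℤ) = 0 := by linarith
          omega
        · rintro (rfl | rfl)
          · exact hχ₁
          · exact hχ₁b
      obtain ⟨σ', hσ', h1, h2, h3⟩ := swap_pair X χ₁ hXeq hχ₁ne hirrX σ hσ
      refine ⟨σ', hσ', fun θ hθ => by rw [h3 θ hθ, hσα θ hθ], ?_⟩
      rw [h1, hA, Finset.sum_eq_single (conjFun χ₁)]
      · rw [hxb']; simp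
      · intro χ hχ hne
        rw [hχ₀z χ hχ (by rw [hχ₀]; exact hne)]
        simp
      · intro h; exact absurd hχ₁b h
  -- the `Y`-part
  have hYpart : ∃ τ' : (N → ℂ) → (G → ℂ), IsLinearIsometryOn (zspan (↑Y : Set (N → ℂ))) τ' ∧
      (∀ θ ∈ zspanOn (↑Y : Set (N → ℂ)) {1}ᶜ, τ' θ = α θ) ∧ B = (-(q : ℤ)) • τ' ψ := by
    have hξ₀g : IsGeneralizedCharacter G (ξ₀ : G → ℂ) :=
      Cfsg.Agent.Lib.Helper10.isGeneralizedCharacter_of_isCharacter
        (Cfsg.Agent.CharLib.IsIrrCharacter.isCharacter ξ₀.2)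
    have hBτ' : ∀ η ∈ Y, classInner B (τ η) = ((q * m ξ₀ : ℤ) : ℂ) * classInner (ξ₀ : G → ℂ) (τ η) := by
      intro η hη
      conv_lhs => rw [hBξ₀]
      rw [Cfsg.Agent.Lib.Helper10.classInner_smul_left]
    -- at most one member of `Y` meets `ξ₀`
    have huniq : ∀ η ∈ Y, ∀ η' ∈ Y, classInner (ξ₀ : G → ℂ) (τ η) ≠ 0 →
        classInner (ξ₀ : G → ℂ) (τ η') ≠ 0 → η = η' := by
      intro η hη η' hη' h1 h2
      obtain ⟨ε, hε, hε1, -⟩ := eq_sign_smul_of_inner_ne_zero hξ₀g (hτ.2.2.2 η (subset_zspan hη))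
        (classInner_irr_self ξ₀.2) (by rw [hτo η hη η hη, if_pos rfl]) h1
      obtain ⟨ε', hε', hε1', -⟩ := eq_sign_smul_of_inner_ne_zero hξ₀g
        (hτ.2.2.2 η' (subset_zspan hη')) (classInner_irr_self ξ₀.2)
        (by rw [hτo η' hη' η' hη', if_pos rfl]) h2
      by_contra hne
      have h3 := hτo η hη η' hη'
      rw [if_neg hne, hε1, hε1', Cfsg.Agent.Lib.Helper10.classInner_smul_left,
        Cfsg.Agent.Lib.Helper10.classInner_smul_right, classInner_irr_self ξ₀.2] at h3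
      rcases hε with rfl | rfl <;> rcases hε' with rfl | rfl <;> simp at h3
    have hR2' : ∀ η ∈ Y, η ≠ ψ → ((q * m ξ₀ : ℤ) : ℂ) *
        (classInner (ξ₀ : G → ℂ) (τ ψ) - classInner (ξ₀ : G → ℂ) (τ η)) = -(q : ℂ) := by
      intro η hη hne
      have h1 := hR2 η hη hne
      rw [← hBτ ψ hψ, ← hBτ η hη, hBτ' ψ hψ, hBτ' η hη] at h1
      linear_combination h1
    by_cases hcase : classInner (ξ₀ : G → ℂ) (τ ψ) = 0
    · -- the swapped case
      have hall : ∀ η ∈ Y, η ≠ ψ → classInner (ξ₀ : G → ℂ) (τ η) ≠ 0 := by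
        intro η hη hne h0
        have h1 := hR2' η hη hne
        rw [hcase, h0, sub_zero, mul_zero] at h1
        have : (q : ℂ) = 0 := by linear_combination h1
        exact hq0 this
      have hYeq : Y = {ψ, conjFun ψ} := by
        ext η
        rw [Finset.mem_insert, Finset.mem_singleton]
        constructor
        · intro hη
          by_cases h : η = ψ
          · exact Or.inl h
          · exact Or.inr (huniq η hη _ hψb (hall η hη h) (hall _ hψb hψne))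
        · rintro (rfl | rfl)
          · exact hψ
          · exact hψb
      obtain ⟨ε, hε, hε1, hε2⟩ := eq_sign_smul_of_inner_ne_zero hξ₀g
        (hτ.2.2.2 _ (subset_zspan hψb)) (classInner_irr_self ξ₀.2)
        (by rw [hτo _ hψb _ hψb, if_pos rfl]) (hall _ hψb hψne)
      have h1 := hR2' _ hψb hψne
      rw [hcase, hε2, zero_sub] at h1
      obtain ⟨τ', hτ', h2, -, h4⟩ := swap_pair Y ψ hYeq hψne hirrY τ hτ
      refine ⟨τ', hτ', fun θ hθ => by rw [h4 θ hθ, hτα θ hθ], ?_⟩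
      have h5 : ((q * m ξ₀ : ℤ) : ℂ) * ε = (q : ℂ) := by linear_combination -h1
      have hεε : ε * ε = 1 := by rcases hε with rfl | rfl <;> norm_num
      have h6 : ((q * m ξ₀ : ℤ) : ℂ) = (q : ℂ) * ε := by
        calc ((q * m ξ₀ : ℤ) : ℂ) = ((q * m ξ₀ : ℤ) : ℂ) * (ε * ε) := by rw [hεε, mul_one]
          _ = (((q * m ξ₀ : ℤ) : ℂ) * ε) * ε := by ring
          _ = (q : ℂ) * ε := by rw [h5]
      rw [h2, hBξ₀, hε1, h6]
      funext y
      simp only [Pi.smul_apply, Pi.neg_apply]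
      simp only [smul_eq_mul, zsmul_eq_mul]
      push_cast
      ring
    · -- `B = - q τ ψ`
      obtain ⟨ε, hε, hε1, hε2⟩ := eq_sign_smul_of_inner_ne_zero hξ₀g
        (hτ.2.2.2 _ (subset_zspan hψ)) (classInner_irr_self ξ₀.2)
        (by rw [hτo _ hψ _ hψ, if_pos rfl]) hcase
      have h0 : classInner (ξ₀ : G → ℂ) (τ (conjFun ψ)) = 0 := by
        by_contra hne
        exact hψne (huniq _ hψb _ hψ hne hcase)
      have h1 := hR2' _ hψb hψne
      rw [h0, hε2, sub_zero] at h1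
      refine ⟨τ, hτ, hτα, ?_⟩
      have hεε : ε * ε = 1 := by rcases hε with rfl | rfl <;> norm_num
      have h6 : ((q * m ξ₀ : ℤ) : ℂ) = -(q : ℂ) * ε := by
        calc ((q * m ξ₀ : ℤ) : ℂ) = ((q * m ξ₀ : ℤ) : ℂ) * (ε * ε) := by rw [hεε, mul_one]
          _ = (((q * m ξ₀ : ℤ) : ℂ) * ε) * ε := by ring
          _ = -(q : ℂ) * ε := by rw [h1]
      rw [hBξ₀, hε1, h6]
      funext y
      simp only [Pi.smul_apply, Pi.neg_apply]
      simp only [smul_eq_mul, zsmul_eq_mul]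
      push_cast
      ring
  -- conclusion via S1531
  obtain ⟨σ', hσ', hσ'α, hAσ'⟩ := hXpart
  obtain ⟨τ', hτ', hτ'α, hBτ''⟩ := hYpart
  have hTeq : T = σ' χ₁ + (-(q : ℤ)) • τ' ψ := by
    rw [← hAσ', ← hBτ'', hB]
    abel
  apply (Cfsg.Agent.S1531.result N S ↑X ↑Y hirr hXsub hYsub hdisj hX2 hY2 α hα hα1 σ' τ' hσ' hσ'α
    hτ' hτ'α).2
  refine ⟨χ₁, hχ₁, ψ, hψ, ?_⟩
  have h1 : χ₁ 1 • ψ - ψ 1 • χ₁ = (-(e : ℤ)) • β := by
    rw [hχ₁1, hψ1, hβ]
    funext y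
    simp only [Pi.sub_apply, Pi.smul_apply]
    simp only [smul_eq_mul, zsmul_eq_mul]
    push_cast
    ring
  rw [h1, hα.2.1 β hβS, ← hT, hTeq, hχ₁1, hψ1]
  funext y
  simp only [Pi.sub_apply, Pi.add_apply, Pi.smul_apply]
  simp only [smul_eq_mul, zsmul_eq_mul]
  push_cast
  ring

end Cfsg.Agent.Lib.Helper8.SibGlue
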