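/-
helper8: a T.I. subgroup `K₀` of `G` with Frobenius normalizer `N = N_G(K₀)` of odd order gives a
coherence system `(S, Ind_N^G, R)` with `S` the characters of `N` induced from the non-principal
irreducible characters of `K₀` (setup for Peterfalvi / Sibley coherence theorems).
-/
import Mathlib
import Cfsg.Prelude.Def_OddOrderLocal
import Cfsg.Agent.S1514
import Cfsg.Agent.Lib.Helper2.TIFrob
import Cfsg.Agent.Lib.Helper2.Artin
import Cfsg.Agent.Lib.Helper10.TIInd
import Cfsg.Agent.Lib.Helper10.SeqInd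
import Cfsg.Agent.Lib.Helper10.PF62
import Cfsg.Agent.Lib.Lead.FrobSchur
import Cfsg.Agent.Lib.Helper23.WAct2

set_option autoImplicit false

namespace Cfsg.Agent.Lib.Helper8.TIFrobSetup

open Cfsg Cfsg.Agent.CharLib Cfsg.Agent.Lib.Helper10
open scoped ComplexConjugate

universe u

section span

variable {X : Type*}

/-- induction principle for `zspan` -/
theorem zspan_induction {S : Set (X → ℂ)} {P : (X → ℂ) → Prop} (hmem : ∀ ξ ∈ S, P ξ) (h0 : P 0)
    (hadd : ∀ a b, P a → P b → P (a + b)) (hsmul : ∀ (n : ℤ) a, P a → P (n • a))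
    {α : X → ℂ} (hα : α ∈ zspan S) : P α := by
  unfold zspan at hα
  induction hα using Submodule.span_induction with
  | mem x hx => exact hmem x hx
  | zero => exact h0
  | add x y _ _ hx hy => exact hadd x y hx hy
  | smul n x _ hx => exact hsmul n x hx

end span

section gen

variable {G : Type u} [Group G] [Fintype G]

theorem genChar_of_char {H : Type*} [Group H] {χ : H → ℂ} (hχ : IsCharacter H χ) :
    IsGeneralizedCharacter H χ :=
  ⟨χ, 0, hχ, isCharacter_zero, by simp⟩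

/-- induction of a generalized character is a generalized character -/
theorem genChar_indFun (N : Subgroup G) {α : N → ℂ} (hα : IsGeneralizedCharacter N α) :
    IsGeneralizedCharacter G (indFun N α) := by
  obtain ⟨a, b, ha, hb, rfl⟩ := hα
  rw [indFun_sub]
  exact ⟨indFun N a, indFun N b, IsCharacter.indFun N ha, IsCharacter.indFun N hb, rfl⟩

end gen

section isometry

variable {G : Type u} [Group G] [Fintype G] (K₀ : Subgroup G)
  [Fintype ↥(Subgroup.normalizer (K₀ : Set G))]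

/-- Induction from the normalizer of a T.I. subgroup `K₀` is a linear isometry on the integer
combinations, vanishing at `1`, of a set of characters vanishing off `K₀`. -/
theorem tifrob_isometry (hTI : IsTISubset (K₀ : Set G))
    (S : Set (↥(Subgroup.normalizer (K₀ : Set G)) → ℂ))
    (hchar : ∀ χ ∈ S, IsCharacter ↥(Subgroup.normalizer (K₀ : Set G)) χ)
    (hvan : ∀ χ ∈ S, ∀ x : ↥(Subgroup.normalizer (K₀ : Set G)), (x : G) ∉ K₀ → χ x = 0) :
    IsLinearIsometryOn (zspanOn S {1}ᶜ)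
      (fun α : ↥(Subgroup.normalizer (K₀ : Set G)) → ℂ =>
        indFun (Subgroup.normalizer (K₀ : Set G)) α) ∧
    ∀ α ∈ zspanOn S ({1}ᶜ : Set ↥(Subgroup.normalizer (K₀ : Set G))),
      indFun (Subgroup.normalizer (K₀ : Set G)) α 1 = 0 := by
  have hgen : ∀ α ∈ zspan S, IsGeneralizedCharacter ↥(Subgroup.normalizer (K₀ : Set G)) α := by
    intro α hα
    exact zspan_induction (P := fun α => IsGeneralizedCharacter _ α)
      (fun ξ hξ => genChar_of_char (hchar ξ hξ)) genChar_zero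
      (fun a b ha hb => genChar_add ha hb) (fun n a ha => genChar_zsmul ha n) hα
  have hvan' : ∀ α ∈ zspan S, ∀ x : ↥(Subgroup.normalizer (K₀ : Set G)), (x : G) ∉ K₀ →
      α x = 0 := by
    intro α hα
    refine zspan_induction (P := fun α => ∀ x : ↥(Subgroup.normalizer (K₀ : Set G)),
      (x : G) ∉ K₀ → α x = 0) hvan (fun _ _ => rfl) ?_ ?_ hα
    · intro a b ha hb x hx
      rw [Pi.add_apply, ha x hx, hb x hx, add_zero]
    · intro n a ha x hx
      rw [Pi.smul_apply, ha x hx, smul_zero]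
  have hone : ∀ α ∈ zspanOn S ({1}ᶜ : Set ↥(Subgroup.normalizer (K₀ : Set G))), α 1 = 0 := by
    intro α hα
    exact hα.2 1 (by simp)
  refine ⟨⟨?_, ?_, ?_, ?_⟩, ?_⟩
  · intro α _ β _
    exact map_add (Cfsg.Agent.Lib.Helper2.indFunLin (Subgroup.normalizer (K₀ : Set G))) α β
  · intro α _ n
    exact map_zsmul (Cfsg.Agent.Lib.Helper2.indFunLin (Subgroup.normalizer (K₀ : Set G))) n α
  · intro α hα β hβ
    exact classInner_indFun_of_TI (K₀ : Set G) hTI α β
      (genChar_isClassFunction (hgen α hα.1)) (hvan' α hα.1) (hvan' β hβ.1) (hone β hβ)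
  · intro α hα
    exact genChar_indFun _ (hgen α hα.1)
  · intro α hα
    rw [Cfsg.Agent.Lib.Helper10.indFun_apply_one, hone α hα, mul_zero, mul_zero]

end isometry

section weak

/-- For a T.I. subgroup `H` with normalizer `L`, the local Frobenius condition
`C_L(h) ≤ H` (`1 ≠ h ∈ H`) gives the global one `C_G(h) ≤ H`. -/
theorem centralizer_le_of_ti {G : Type*} [Group G] (H L : Subgroup G)
    (hTI : IsTISubset (H : Set G)) (hN : Subgroup.normalizer (H : Set G) = L)
    (hfrob : ∀ h ∈ H, h ≠ 1 → L ⊓ Subgroup.centralizer ({h} : Set G) ≤ H) :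
    ∀ k ∈ H, k ≠ 1 → Subgroup.centralizer ({k} : Set G) ≤ H := by
  intro k hk hk1 g hg
  have hgL : g ∈ L := by
    rw [← hN]
    by_contra hgN
    apply hk1
    apply hTI g hgN k hk
    have h1 : g * k = k * g := Subgroup.mem_centralizer_singleton_iff.mp hg
    have h2 : g * k * g⁻¹ = k := by rw [h1]; group
    rw [h2]
    exact hk
  exact hfrob k hk hk1 ⟨hgL, hg⟩

end weak

section cohsys

variable {G : Type u} [Group G] [Fintype G] (K₀ : Subgroup G)
  [Fintype ↥(Subgroup.normalizer (K₀ : Set G))]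

open Cfsg.Agent.Lib.Helper2 in
/-- members of `S` are irreducible, not constant on `K₀`, and vanish off `K₀` -/
theorem tifrob_mem_props
    (hC : ∀ k ∈ K₀, k ≠ 1 → Subgroup.centralizer ({k} : Set G) ≤ K₀)
    {φ : ↥(Subgroup.normalizer (K₀ : Set G)) → ℂ}
    (hφ : φ ∈ inducedIrrAbove (K₀.subgroupOf (Subgroup.normalizer (K₀ : Set G))) ⊥) :
    IsIrrCharacter ↥(Subgroup.normalizer (K₀ : Set G)) φ ∧
      (∃ k : ↥(Subgroup.normalizer (K₀ : Set G)), (k : G) ∈ K₀ ∧ φ k ≠ φ 1) ∧
      ∀ x : ↥(Subgroup.normalizer (K₀ : Set G)), (x : G) ∉ K₀ → φ x = 0 := by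
  obtain ⟨θ, hθ, hθ1, -, rfl⟩ := hφ
  obtain ⟨h1, h2⟩ := tifrob_induced_mem K₀ hC θ hθ hθ1
  exact ⟨h1, h2, fun x hx => tifrob_vanish K₀ hC _ h1 h2 x hx⟩

open Classical in
/-- The coherence system attached to a T.I. subgroup with Frobenius normalizer of odd order. -/
theorem tifrob_cohsys (hTI : IsTISubset (K₀ : Set G))
    (hlt : K₀ < Subgroup.normalizer (K₀ : Set G)) (hK1 : K₀ ≠ ⊥)
    (hC : ∀ k ∈ K₀, k ≠ 1 → Subgroup.centralizer ({k} : Set G) ≤ K₀)
    (hodd : Odd (Nat.card ↥(Subgroup.normalizer (K₀ : Set G)))) :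
    ∃ R : (↥(Subgroup.normalizer (K₀ : Set G)) → ℂ) → Finset (G → ℂ),
      IsCoherenceSystem (inducedIrrAbove (K₀.subgroupOf (Subgroup.normalizer (K₀ : Set G))) ⊥)
        (fun α : ↥(Subgroup.normalizer (K₀ : Set G)) → ℂ =>
          indFun (Subgroup.normalizer (K₀ : Set G)) α) R := by
  set Kn := K₀.subgroupOf (Subgroup.normalizer (K₀ : Set G)) with hKn
  have hprops := fun φ (hφ : φ ∈ inducedIrrAbove Kn ⊥) => tifrob_mem_props K₀ hC hφ
  -- nonempty
  have hKnbot : (⊥ : Subgroup ↥(Subgroup.normalizer (K₀ : Set G))) < Kn := by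
    rw [bot_lt_iff_ne_bot]
    intro h
    apply hK1
    rw [Subgroup.eq_bot_iff_forall]
    intro k hk
    have h1 : (⟨k, hlt.le hk⟩ : ↥(Subgroup.normalizer (K₀ : Set G))) ∈ Kn :=
      Subgroup.mem_subgroupOf.mpr hk
    rw [h, Subgroup.mem_bot] at h1
    exact congrArg Subtype.val h1
  have hne : (inducedIrrAbove Kn ⊥).Nonempty := by
    obtain ⟨ψ, hψ⟩ := seqT_nonempty Kn ⊥ hKnbot
    exact ⟨indFun Kn ψ.1, mem_seqS.mp (Finset.mem_image_of_mem _ hψ)⟩
  -- an element outside `K₀`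
  obtain ⟨x₀, hx₀N, hx₀K⟩ := SetLike.exists_of_lt hlt
  have hconj : ∀ χ ∈ inducedIrrAbove Kn ⊥, conjFun χ ∈ inducedIrrAbove Kn ⊥ ∧ conjFun χ ≠ χ := by
    intro χ hχ
    refine ⟨inducedIrrAbove_conj hχ, ?_⟩
    intro hreal
    obtain ⟨hirr, -, hvan⟩ := hprops χ hχ
    have h1 := eq_one_of_real_of_odd hodd ⟨χ, hirr⟩ (by
      intro g
      have h2 := congrFun hreal g
      simp only [conjFun] at h2
      exact Complex.conj_eq_iff_im.mp h2)
    have h3 := hvan ⟨x₀, hx₀N⟩ hx₀K
    have h4 := congrFun h1 ⟨x₀, hx₀N⟩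
    simp only at h4
    rw [h3] at h4
    exact zero_ne_one h4
  obtain ⟨hiso, hone⟩ := tifrob_isometry K₀ hTI (inducedIrrAbove Kn ⊥)
    (fun χ hχ => IsIrrCharacter.isCharacter (hprops χ hχ).1) (fun χ hχ => (hprops χ hχ).2.2)
  exact Cfsg.Agent.S1514.result (inducedIrrAbove Kn ⊥) hne (fun χ hχ => (hprops χ hχ).1) hconj _
    hiso hone

end cohsys

end Cfsg.Agent.Lib.Helper8.TIFrobSetup
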