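/-
helper8: the arithmetic behind the inequality of Peterfalvi's coherence criterion for the characters
of degree `e * p ^ b` (towards coherence of `S \ S(Z)`).
-/
import Mathlib

set_option autoImplicit false

namespace Cfsg.Agent.Lib.Helper8.PFArith

open Classical in
/-- Degrees `e p^b`, `gcd(e,p)=1`, `p ≥ 3`; the total sum of squares `T` is divisible by `p^(2b)`
for each degree `e p^b` that occurs.  Then the sum of the squares of the degrees below `d χ` exceeds
`2 d χ d χ₁` for every `χ₁` of smaller degree. -/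
theorem key_arith {ι : Type*} (X : Finset ι) (d : ι → ℕ) (e p T : ℕ) (hp : p.Prime)
    (hp3 : 3 ≤ p) (hcop : Nat.Coprime e p) (he : 0 < e)
    (hdeg : ∀ ξ ∈ X, ∃ b, d ξ = e * p ^ b)
    (hsum : ∑ ξ ∈ X, (d ξ) ^ 2 = T)
    (hdiv : ∀ ξ ∈ X, ∀ b, d ξ = e * p ^ b → p ^ (2 * b) ∣ T) :
    ∀ χ ∈ X, ∀ χ₁ ∈ X, d χ₁ < d χ → d χ₁ ∣ d χ ∧
      2 * d χ * d χ₁ < ∑ η ∈ X.filter (fun η => d η < d χ), (d η) ^ 2 := by
  intro χ hχ χ₁ hχ₁ hlt
  obtain ⟨a, ha⟩ := hdeg χ hχ
  obtain ⟨a', ha'⟩ := hdeg χ₁ hχ₁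
  have hp1 : 1 < p := hp.one_lt
  have hppos : 0 < p := hp.pos
  have haa : a' < a := by
    rw [ha, ha'] at hlt
    have h1 : p ^ a' < p ^ a := Nat.lt_of_mul_lt_mul_left hlt
    exact (Nat.pow_lt_pow_iff_right hp1).mp h1
  refine ⟨?_, ?_⟩
  · rw [ha, ha']
    exact Nat.mul_dvd_mul_left e (pow_dvd_pow p haa.le)
  · set D := ∑ η ∈ X.filter (fun η => d η < d χ), (d η) ^ 2 with hD
    set D' := ∑ η ∈ X.filter (fun η => ¬ d η < d χ), (d η) ^ 2 with hD'
    have hDD : D + D' = T := by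
      rw [hD, hD', Finset.sum_filter_add_sum_filter_not, hsum]
    have h1 : e ^ 2 ∣ D := by
      apply Finset.dvd_sum
      intro η hη
      rw [Finset.mem_filter] at hη
      obtain ⟨b, hb⟩ := hdeg η hη.1
      rw [hb, mul_pow]
      exact Dvd.intro _ rfl
    have h2 : p ^ (2 * a) ∣ D' := by
      apply Finset.dvd_sum
      intro η hη
      rw [Finset.mem_filter] at hη
      obtain ⟨b, hb⟩ := hdeg η hη.1
      have h3 : d χ ≤ d η := not_lt.mp hη.2
      rw [ha, hb] at h3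
      have h4 : p ^ a ≤ p ^ b := Nat.le_of_mul_le_mul_left h3 he
      have h5 : a ≤ b := (Nat.pow_le_pow_iff_right hp1).mp h4
      rw [hb, mul_pow, ← pow_mul, mul_comm b 2]
      exact Dvd.dvd.mul_left (pow_dvd_pow p (by omega)) _
    have h3 : p ^ (2 * a) ∣ D := by
      have h4 : p ^ (2 * a) ∣ D + D' := by rw [hDD]; exact hdiv χ hχ a ha
      exact (Nat.dvd_add_left h2).mp h4
    have h4 : Nat.Coprime (e ^ 2) (p ^ (2 * a)) := Nat.Coprime.pow _ _ hcop
    have h5 : e ^ 2 * p ^ (2 * a) ∣ D := Nat.Coprime.mul_dvd_of_dvd_of_dvd h4 h1 h3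
    have h6 : 0 < D := by
      have h7 : (d χ₁) ^ 2 ≤ D := by
        rw [hD]
        apply Finset.single_le_sum (f := fun η => (d η) ^ 2) (fun _ _ => Nat.zero_le _)
        rw [Finset.mem_filter]
        exact ⟨hχ₁, hlt⟩
      have h8 : 0 < d χ₁ := by
        rw [ha']
        exact Nat.mul_pos he (pow_pos hppos _)
      have h9 : 0 < (d χ₁) ^ 2 := pow_pos h8 2
      omega
    have h7 : e ^ 2 * p ^ (2 * a) ≤ D := Nat.le_of_dvd h6 h5
    refine lt_of_lt_of_le ?_ h7
    rw [ha, ha']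
    have h8 : 3 * p ^ a' ≤ p ^ a := by
      have h9 : p ^ a = p ^ a' * p ^ (a - a') := by
        rw [← pow_add]
        congr 1
        omega
      have h10 : p ≤ p ^ (a - a') := by
        calc p = p ^ 1 := (pow_one p).symm
          _ ≤ p ^ (a - a') := Nat.pow_le_pow_right hppos (by omega)
      rw [h9]
      calc 3 * p ^ a' = p ^ a' * 3 := by ring
        _ ≤ p ^ a' * p ^ (a - a') := Nat.mul_le_mul_left _ (le_trans hp3 h10)
    have h11 : 0 < p ^ a' := pow_pos hppos _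
    have h12 : 0 < p ^ a := pow_pos hppos _
    have h13 : p ^ (2 * a) = p ^ a * p ^ a := by
      rw [← pow_add]
      congr 1
      omega
    rw [h13]
    have h14 : 2 * (e * p ^ a) * (e * p ^ a') = e ^ 2 * (p ^ a * (2 * p ^ a')) := by ring
    rw [h14]
    have h15 : 0 < e ^ 2 := pow_pos he 2
    apply Nat.mul_lt_mul_of_pos_left _ h15
    apply Nat.mul_lt_mul_of_pos_left _ h12
    omega

end Cfsg.Agent.Lib.Helper8.PFArith
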