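/-
helper8: induced characters and a normal subgroup `Z ≤ K` (towards Peterfalvi: coherence of `S \ S(Z)`).
Part (a): `S \ S(Z)` is the set of irreducible characters of `L` not trivial on `Z`.
-/
import Mathlib
import Cfsg.Agent.Lib.Helper10.SeqInd
import Cfsg.Agent.Lib.Helper10.GenOrtho

set_option autoImplicit false

namespace Cfsg.Agent.Lib.Helper8.PFCentral

open Cfsg Cfsg.Agent.CharLib Cfsg.Agent.Lib.Helper10
open scoped ComplexConjugate

universe u

variable {L : Type u} [Group L] [Fintype L]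

/-- `x⁻¹ z x ∈ K` for `z ∈ Z ≤ K`, `Z` normal. -/
theorem conj_mem_of_normal (K Z : Subgroup L) [hZ : Z.Normal] (_hZK : Z ≤ K) {z : L} (hz : z ∈ Z)
    (x : L) : x⁻¹ * z * x ∈ Z := by
  have := hZ.conj_mem z hz x⁻¹
  simpa using this

/-- If `θ` is trivial on `Z` then `Ind θ` is constant on `Z`. -/
theorem indFun_const_of_trivial (K Z : Subgroup L) [hZ : Z.Normal] (hZK : Z ≤ K) (θ : K → ℂ)
    (h : ∀ a : K, (a : L) ∈ Z → θ a = θ 1) {z : L} (hz : z ∈ Z) :
    indFun K θ z = indFun K θ 1 := by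
  unfold indFun
  congr 1
  apply Finset.sum_congr rfl
  intro x _
  have hz' : x⁻¹ * z * x ∈ Z := conj_mem_of_normal K Z hZK hz x
  rw [Cfsg.Agent.Lib.Helper6.extendByZero_mem K θ (hZK hz')]
  have h1 : x⁻¹ * 1 * x = ((1 : K) : L) := by simp
  rw [h1, Cfsg.Agent.CharLib.extendByZero_apply_coe]
  exact h ⟨_, hZK hz'⟩ hz'

/-- A complex number of norm at most `r` with real part `r` equals `r`. -/
theorem eq_of_norm_le_of_re_eq {w : ℂ} {r : ℝ} (h1 : ‖w‖ ≤ r) (h2 : w.re = r) : w = (r : ℂ) := by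
  have h3 : w.re ^ 2 + w.im ^ 2 ≤ r ^ 2 := by
    have h4 : ‖w‖ ^ 2 ≤ r ^ 2 := by
      apply pow_le_pow_left₀ (norm_nonneg _) h1
    rw [Complex.sq_norm, Complex.normSq_apply] at h4
    nlinarith
  have h5 : w.im = 0 := by
    rw [h2] at h3
    nlinarith [sq_nonneg w.im]
  apply Complex.ext
  · simpa using h2
  · simpa using h5

/-- If `Ind θ` is constant on `Z` then `θ` is trivial on `Z`. -/
theorem trivial_of_indFun_const (K Z : Subgroup L) [hZ : Z.Normal] (hZK : Z ≤ K) {θ : K → ℂ}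
    (hθ : IsIrrCharacter K θ) (h : ∀ z ∈ Z, indFun K θ z = indFun K θ 1) :
    ∀ a : K, (a : L) ∈ Z → θ a = θ 1 := by
  intro a ha
  obtain ⟨k, hk⟩ := IsCharacter.apply_one (IsIrrCharacter.isCharacter hθ)
  have hsum := h (a : L) ha
  unfold indFun at hsum
  have hK : (Nat.card K : ℂ)⁻¹ ≠ 0 := by
    apply inv_ne_zero
    have : 0 < Nat.card K := Nat.card_pos
    exact_mod_cast this.ne'
  have hsum' := mul_left_cancel₀ hK hsum
  -- rewrite both sides
  have hterm : ∀ x : L, extendByZero K θ (x⁻¹ * (a : L) * x) =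
      θ ⟨x⁻¹ * (a : L) * x, hZK (conj_mem_of_normal K Z hZK ha x)⟩ := by
    intro x
    exact Cfsg.Agent.Lib.Helper6.extendByZero_mem K θ _
  have hterm1 : ∀ x : L, extendByZero K θ (x⁻¹ * 1 * x) = θ 1 := by
    intro x
    have h1 : x⁻¹ * 1 * x = ((1 : K) : L) := by simp
    rw [h1, Cfsg.Agent.CharLib.extendByZero_apply_coe]
  rw [Finset.sum_congr rfl (fun x _ => hterm x), Finset.sum_congr rfl (fun x _ => hterm1 x)] at hsum'
  -- real parts
  have hre : ∑ x : L, ((k : ℝ) -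
      (θ ⟨x⁻¹ * (a : L) * x, hZK (conj_mem_of_normal K Z hZK ha x)⟩).re) = 0 := by
    rw [Finset.sum_sub_distrib]
    have h2 := congrArg Complex.re hsum'
    rw [Complex.re_sum, Complex.re_sum] at h2
    rw [h2]
    have h3 : ∀ x : L, (θ 1).re = (k : ℝ) := by
      intro x
      rw [hk]
      simp
    rw [Finset.sum_congr rfl (fun x _ => h3 x)]
    simp
  have hnorm : ∀ b : K, ‖θ b‖ ≤ (k : ℝ) := by
    intro b
    have := irr_norm_le hθ b
    rw [hk] at this
    simpa using this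
  have hnn : ∀ x ∈ (Finset.univ : Finset L), 0 ≤ (k : ℝ) -
      (θ ⟨x⁻¹ * (a : L) * x, hZK (conj_mem_of_normal K Z hZK ha x)⟩).re := by
    intro x _
    have h1 := hnorm ⟨x⁻¹ * (a : L) * x, hZK (conj_mem_of_normal K Z hZK ha x)⟩
    have h2 := Complex.re_le_norm (θ ⟨x⁻¹ * (a : L) * x, hZK (conj_mem_of_normal K Z hZK ha x)⟩)
    linarith
  have hzero := (Finset.sum_eq_zero_iff_of_nonneg hnn).mp hre 1 (Finset.mem_univ _)
  have ha1 : (⟨(1 : L)⁻¹ * (a : L) * 1, hZK (conj_mem_of_normal K Z hZK ha 1)⟩ : K) = a := by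
    apply Subtype.ext
    simp
  rw [ha1] at hzero
  have hre' : (θ a).re = (k : ℝ) := by linarith
  have := eq_of_norm_le_of_re_eq (hnorm a) hre'
  rw [this, hk]
  simp

/-- membership in `S \ S(Z)` -/
theorem mem_diff_iff (K Z : Subgroup L) [hZ : Z.Normal] (hZK : Z ≤ K) (φ : L → ℂ) :
    φ ∈ inducedIrrAbove K ⊥ \ inducedIrrAbove K Z ↔
      ∃ θ : K → ℂ, IsIrrCharacter K θ ∧ (∃ a : K, (a : L) ∈ Z ∧ θ a ≠ θ 1) ∧ φ = indFun K θ := by
  constructor
  · rintro ⟨⟨θ, hθ, h1, -, rfl⟩, hnot⟩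
    refine ⟨θ, hθ, ?_, rfl⟩
    by_contra hcon
    push Not at hcon
    exact hnot ⟨θ, hθ, h1, hcon, rfl⟩
  · rintro ⟨θ, hθ, ⟨a, ha, hne⟩, rfl⟩
    have hθ1 : θ ≠ fun _ => 1 := by
      intro h
      apply hne
      rw [h]
    refine ⟨⟨θ, hθ, hθ1, ?_, rfl⟩, ?_⟩
    · intro b hb
      have : b = 1 := by
        apply Subtype.ext
        simpa using hb
      rw [this]
    · rintro ⟨θ', hθ', -, htriv, heq⟩
      apply hne
      apply trivial_of_indFun_const K Z hZK hθ _ a ha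
      intro z hz
      rw [heq]
      exact indFun_const_of_trivial K Z hZK θ' htriv hz

/-- members of `S \ S(Z)` are not constant on `Z` -/
theorem exists_ne_of_mem_diff (K Z : Subgroup L) [hZ : Z.Normal] (hZK : Z ≤ K) {φ : L → ℂ}
    (hφ : φ ∈ inducedIrrAbove K ⊥ \ inducedIrrAbove K Z) : ∃ z ∈ Z, φ z ≠ φ 1 := by
  rw [mem_diff_iff K Z hZK] at hφ
  obtain ⟨θ, hθ, ⟨a, ha, hne⟩, rfl⟩ := hφ
  by_contra hcon
  push Not at hcon
  exact hne (trivial_of_indFun_const K Z hZK hθ hcon a ha)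

attribute [local instance] fintypeIrr

open Classical in
/-- Part (a): if all members of `S \ S(Z)` are irreducible, `S \ S(Z)` is the set of irreducible
characters of `L` that are not trivial on `Z`. -/
theorem diff_eq_irr (K Z : Subgroup L) [hZ : Z.Normal] (hZK : Z ≤ K)
    (hirr : ∀ χ ∈ inducedIrrAbove K ⊥ \ inducedIrrAbove K Z, IsIrrCharacter L χ) :
    inducedIrrAbove K ⊥ \ inducedIrrAbove K Z =
      {χ | IsIrrCharacter L χ ∧ ∃ z ∈ Z, χ z ≠ χ 1} := by
  ext χ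
  constructor
  · intro hχ
    exact ⟨hirr χ hχ, exists_ne_of_mem_diff K Z hZK hχ⟩
  · rintro ⟨hχ, z, hz, hne⟩
    have hχc : IsCharacter L χ := IsIrrCharacter.isCharacter hχ
    have hres : IsCharacter K (fun k : K => χ k) := IsCharacter.restrict hχc K
    obtain ⟨m, hm, hcoef⟩ := Cfsg.Agent.Lib.Helper6.IsCharacter.exists_decomp_sum hres
    -- some constituent is nontrivial at z
    have hex : ∃ ψ : IrrCharacter K, m ψ ≠ 0 ∧ ψ.1 ⟨z, hZK hz⟩ ≠ ψ.1 1 := by
      by_contra hcon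
      push Not at hcon
      apply hne
      have h1 := congrFun hm ⟨z, hZK hz⟩
      have h2 := congrFun hm 1
      simp only [Finset.sum_apply, nsmul_eq_mul] at h1 h2
      have h3 : χ z = χ ((⟨z, hZK hz⟩ : K) : L) := rfl
      have h4 : χ 1 = χ ((1 : K) : L) := rfl
      rw [h3, h4, h1, h2]
      apply Finset.sum_congr rfl
      intro ψ _
      by_cases hψ : m ψ = 0
      · rw [hψ]; simp
      · simp only [Pi.mul_apply, Pi.natCast_apply]
        rw [hcon ψ hψ]
    obtain ⟨ψ, hmψ, hψz⟩ := hex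
    have hmem : indFun K ψ.1 ∈ inducedIrrAbove K ⊥ \ inducedIrrAbove K Z := by
      rw [mem_diff_iff K Z hZK]
      exact ⟨ψ.1, ψ.2, ⟨⟨z, hZK hz⟩, hz, hψz⟩, rfl⟩
    have hirrInd := hirr _ hmem
    have hrec := frobenius_reciprocity K ψ.1 (IsCharacter.isClassFunction hχc)
    have h5 : classInner (ψ : K → ℂ) (fun k : K => χ k) ≠ 0 := by
      rw [← Cfsg.Agent.CharLib.classInner_conj_symm, hcoef ψ]
      simpa using hmψ
    rw [← hrec, Cfsg.Agent.CharLib.classInner_irr hirrInd hχ] at h5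
    have h6 : indFun K ψ.1 = χ := by
      by_contra hcon
      rw [if_neg hcon] at h5
      exact h5 rfl
    rw [← h6]
    exact hmem

end Cfsg.Agent.Lib.Helper8.PFCentral
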