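/-
helper8: counting lemmas for the coherence of `S \ S(Z)` (Peterfalvi): the sum of the squares of the
degrees of the irreducible characters not trivial on a normal subgroup, degrees of the members of
`S \ S(Z)` when `K` is a `p`-group, coprimality of `|L:K|` and `p` in a Frobenius-type quotient.
-/
import Mathlib
import Cfsg.Agent.Lib.Helper8.PFCentral
import Cfsg.Agent.Lib.Helper10.FrobQuot

set_option autoImplicit false

namespace Cfsg.Agent.Lib.Helper8.PFCount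

open Cfsg Cfsg.Agent.CharLib Cfsg.Agent.Lib.Helper10 Cfsg.Agent.Lib.Helper8.PFCentral
open scoped ComplexConjugate

universe u

variable {L : Type u} [Group L] [Fintype L]

attribute [local instance] fintypeIrr

open Cfsg.Agent.Lib.Helper24 Cfsg.Agent.Lib.Helper25 in
open Classical in
/-- `∑ χ(1)² = |L| - |L:Z|` over the irreducible characters of `L` not trivial on `Z`. -/
theorem sum_sq_nontrivial (Z : Subgroup L) [Z.Normal] :
    ∑ ψ ∈ Finset.univ.filter (fun ψ : IrrCharacter L => ¬ ∀ n ∈ Z, ψ.1 n = ψ.1 1),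
      ψ.1 1 * ψ.1 1 = (Nat.card L : ℂ) - (Z.index : ℂ) := by
  have h1 := sum_irr_quotient Z (fun ψ => ψ.1 1 * ψ.1 1)
  have h2 : ∑ θ : IrrCharacter (L ⧸ Z), (inflateIrr Z θ).1 1 * (inflateIrr Z θ).1 1 =
      (Fintype.card (L ⧸ Z) : ℂ) := by
    have h3 := sum_irr_degree_mul (G := L ⧸ Z) 1
    rw [if_pos rfl] at h3
    rw [← h3]
    apply Finset.sum_congr rfl
    intro θ _
    rw [inflateIrr_apply]
    rfl
  rw [h2] at h1
  have hcard : (Fintype.card (L ⧸ Z) : ℂ) = (Z.index : ℂ) := by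
    rw [← Nat.card_eq_fintype_card, ← Subgroup.index_eq_card]
  have h4 := sum_irr_degree_mul (G := L) 1
  rw [if_pos rfl] at h4
  rw [← Finset.sum_filter_add_sum_filter_not Finset.univ
    (fun ψ : IrrCharacter L => ∀ n ∈ Z, ψ.1 n = ψ.1 1)] at h4
  rw [← h1, hcard, ← Nat.card_eq_fintype_card] at h4
  linear_combination h4

open Classical in
/-- the same, for a finset of functions and a degree function -/
theorem sum_sq_X (Z : Subgroup L) [Z.Normal] (X : Finset (L → ℂ))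
    (hX : ∀ φ, φ ∈ X ↔ IsIrrCharacter L φ ∧ ∃ z ∈ Z, φ z ≠ φ 1) (d : (L → ℂ) → ℕ)
    (hd : ∀ φ ∈ X, φ 1 = (d φ : ℂ)) : ∑ ξ ∈ X, (d ξ) ^ 2 + Z.index = Nat.card L := by
  have himg : X = (Finset.univ.filter
      (fun ψ : IrrCharacter L => ¬ ∀ n ∈ Z, ψ.1 n = ψ.1 1)).image Subtype.val := by
    ext φ
    rw [hX, Finset.mem_image]
    constructor
    · rintro ⟨hφ, z, hz, hne⟩
      refine ⟨⟨φ, hφ⟩, ?_, rfl⟩
      rw [Finset.mem_filter]
      exact ⟨Finset.mem_univ _, fun h => hne (h z hz)⟩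
    · rintro ⟨ψ, hψ, rfl⟩
      rw [Finset.mem_filter] at hψ
      refine ⟨ψ.2, ?_⟩
      by_contra hcon
      push Not at hcon
      exact hψ.2 hcon
  have h1 : ∑ ξ ∈ X, ((d ξ : ℂ)) ^ 2 = (Nat.card L : ℂ) - (Z.index : ℂ) := by
    rw [← sum_sq_nontrivial Z]
    have h2 : ∑ ξ ∈ X, ((d ξ : ℂ)) ^ 2 = ∑ ξ ∈ X, ξ 1 * ξ 1 := by
      apply Finset.sum_congr rfl
      intro ξ hξ
      rw [hd ξ hξ]
      ring
    rw [h2, himg, Finset.sum_image (fun x _ y _ h => Subtype.ext h)]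
  have h3 : ((∑ ξ ∈ X, (d ξ) ^ 2 + Z.index : ℕ) : ℂ) = ((Nat.card L : ℕ) : ℂ) := by
    push_cast
    rw [h1]
    ring
  exact_mod_cast h3

/-- In a Frobenius-type quotient with `|K| = p^n`, `|L:K|` is prime to `p`. -/
theorem coprime_index (K : Subgroup L) [hK : K.Normal] (hH₁K : ⁅K, K⁆ < K)
    (hfrob : ∀ k ∈ K, k ∉ ⁅K, K⁆ → ∀ x : L, x * k * x⁻¹ * k⁻¹ ∈ ⁅K, K⁆ → x ∈ K)
    (p n : ℕ) (hp : p.Prime) (hcard : Nat.card K = p ^ n) : Nat.Coprime K.index p := by
  have h1 := frobQuot_index_dvd K ⁅K, K⁆ K le_rfl le_rfl hfrob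
  have h2 : (⁅K, K⁆ : Subgroup L).relIndex K ∣ p ^ n := by
    rw [← hcard]
    exact Subgroup.relIndex_dvd_card _ _
  obtain ⟨j, -, hj⟩ := (Nat.dvd_prime_pow hp).mp h2
  have hj0 : j ≠ 0 := by
    intro h0
    rw [h0, pow_zero, Subgroup.relIndex_eq_one] at hj
    exact (not_le_of_gt hH₁K) hj
  rw [hj] at h1
  apply Nat.Coprime.symm
  rw [Nat.Prime.coprime_iff_not_dvd hp]
  intro hpe
  have h3 : p ∣ p ^ j - 1 := dvd_trans hpe h1
  have h4 : p ∣ p ^ j := dvd_pow_self p hj0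
  have h5 : 1 ≤ p ^ j := Nat.one_le_pow _ _ hp.pos
  have h6 : p ∣ 1 := by
    have h7 : p ^ j = (p ^ j - 1) + 1 := by omega
    rw [h7] at h4
    exact (Nat.dvd_add_right h3).mp h4
  exact hp.one_lt.ne' (Nat.dvd_one.mp h6)

open Cfsg.Agent.Lib.Helper24 in
/-- degrees of the members of `S \ S(Z)` when `|K| = p^n` and `Z` is central in `K` -/
theorem degree_of_mem_diff (K Z : Subgroup L) [hZ : Z.Normal] (hZK : Z ≤ K)
    (hZc : ∀ z ∈ Z, ∀ k ∈ K, z * k = k * z) (p n : ℕ) (hp : p.Prime)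
    (hcard : Nat.card K = p ^ n) (d : (L → ℂ) → ℕ) {φ : L → ℂ}
    (hd : φ 1 = (d φ : ℂ)) (hφ : φ ∈ inducedIrrAbove K ⊥ \ inducedIrrAbove K Z) :
    ∃ b, d φ = K.index * p ^ b ∧ p ^ (2 * b) ∣ Z.relIndex K := by
  have hφS : φ ∈ inducedIrrAbove K ⊥ := hφ.1
  rw [mem_diff_iff K Z hZK] at hφ
  obtain ⟨θ, hθ, ⟨a, ha, hne⟩, rfl⟩ := hφ
  set ψ : IrrCharacter K := ⟨θ, hθ⟩ with hψ
  have hdvd : charDegree ψ.1 ∣ p ^ n := by
    rw [← hcard]
    exact irr_charDegree_dvd_card ψ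
  obtain ⟨b, -, hb⟩ := (Nat.dvd_prime_pow hp).mp hdvd
  refine ⟨b, ?_, ?_⟩
  · rw [indFun_apply_one_index, show θ 1 = ψ.1 1 from rfl, irr_apply_one, hb] at hd
    have h2 : ((d (indFun K θ) : ℕ) : ℂ) = ((K.index * p ^ b : ℕ) : ℂ) := by
      push_cast; rw [← hd]; push_cast; ring
    exact_mod_cast h2
  · have hψT : ψ ∈ seqT K ⊥ := by
      rw [mem_seqT]
      constructor
      · intro h
        apply hne
        change ψ.1 a = ψ.1 1
        rw [h]
      · intro c hc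
        have : c = 1 := by
          apply Subtype.ext
          simpa using hc
        rw [this]
    have hbound := seqT_degree_bound K ⊥ K Z hZK le_rfl (by
      intro x hx y hy
      rw [Subgroup.mem_bot, hZc x hx y hy]
      group) ψ hψT
    rw [hb] at hbound
    have hcZ : Nat.card Z * Z.relIndex K = Nat.card K := by
      have := Subgroup.relIndex_mul_relIndex (⊥ : Subgroup L) Z K bot_le hZK
      rwa [Subgroup.relIndex_bot_left, Subgroup.relIndex_bot_left] at this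
    have hKpos : 0 < Nat.card K := Nat.card_pos
    have hZpos : 0 < Nat.card Z := Nat.card_pos
    have h3 : (p ^ b) ^ 2 * Nat.card Z ≤ Nat.card K := by
      have h4 : ((p ^ b) ^ 2 * Nat.card Z) * Nat.card K ≤ Nat.card K * Nat.card K := by
        calc ((p ^ b) ^ 2 * Nat.card Z) * Nat.card K = (p ^ b) ^ 2 * Nat.card K * Nat.card Z := by ring
          _ ≤ Nat.card K ^ 2 := hbound
          _ = Nat.card K * Nat.card K := by ring
      exact Nat.le_of_mul_le_mul_right h4 hKpos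
    rw [← hcZ] at h3
    have h5 : (p ^ b) ^ 2 ≤ Z.relIndex K := by
      have h6 : (p ^ b) ^ 2 * Nat.card Z ≤ Z.relIndex K * Nat.card Z := by
        calc (p ^ b) ^ 2 * Nat.card Z ≤ Nat.card Z * Z.relIndex K := h3
          _ = Z.relIndex K * Nat.card Z := by ring
      exact Nat.le_of_mul_le_mul_right h6 hZpos
    have h7 : Z.relIndex K ∣ p ^ n := by
      rw [← hcard]
      exact Subgroup.relIndex_dvd_card _ _
    obtain ⟨m, -, hm⟩ := (Nat.dvd_prime_pow hp).mp h7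
    rw [hm, ← pow_mul] at h5
    rw [hm]
    have h8 : b * 2 ≤ m := (Nat.pow_le_pow_iff_right hp.one_lt).mp h5
    exact pow_dvd_pow p (by omega)

end Cfsg.Agent.Lib.Helper8.PFCount
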