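/-
helper8: Sibley's coherence theorem for a T.I. Sylow `p`-subgroup `P` that is nonabelian with
Frobenius normalizer of odd order: all the characters of `N_G(P)` induced from the non-principal
irreducible characters of `P` form a coherent set.
-/
import Mathlib
import Cfsg.Agent.S1522
import Cfsg.Agent.S1523
import Cfsg.Agent.S1532
import Cfsg.Agent.Lib.Helper8.TIFrobSetup
import Cfsg.Agent.Lib.Helper8.TIFrobFpf
import Cfsg.Agent.Lib.Helper8.SibGlueB
import Cfsg.Agent.Lib.Helper8.SibCongr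
import Cfsg.Agent.Lib.Helper8.SibExtend
import Cfsg.Agent.Lib.Helper8.SibFrob
import Cfsg.Agent.Lib.Helper6.CentralHom
import Cfsg.Agent.Lib.Helper24.ThreeDeg1

set_option autoImplicit false

namespace Cfsg.Agent.Lib.Helper8.SibMain

open Cfsg Cfsg.Agent.CharLib Cfsg.Agent.Lib.Helper10 Cfsg.Agent.Lib.Helper8.TIFrobSetup
  Cfsg.Agent.Lib.Helper8.TIFrobFpf Cfsg.Agent.Lib.Helper8.SibFrob
  Cfsg.Agent.Lib.Helper8.PFCentral Cfsg.Agent.Lib.Helper8.PFCount

/-- the arithmetic of the extension step -/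
theorem ext_arith (e t m z : ℕ) (he : 0 < e) (ht : t ^ 2 + 1 ≤ m) (hz : 2 * e + 1 ≤ z) :
    2 * (e * t) * e < z * (m * e) - m * e := by
  have h1 : t < m := by nlinarith
  have h2 : (2 * e + 1) * (m * e) ≤ z * (m * e) := Nat.mul_le_mul_right _ hz
  have h3 : 2 * (e * t) * e < 2 * e * (m * e) := by
    have h4 : e * t * e < e * m * e := by
      apply Nat.mul_lt_mul_of_pos_right _ he
      exact Nat.mul_lt_mul_of_pos_left h1 he
    nlinarith
  have h5 : (2 * e + 1) * (m * e) = 2 * e * (m * e) + m * e := by ring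
  rw [h5] at h2
  generalize 2 * (e * t) * e = a at *
  generalize 2 * e * (m * e) = b at *
  generalize z * (m * e) = c at *
  generalize m * e = f at *
  omega

section main

variable {G : Type*} [Group G] [Fintype G] (p : ℕ) [hp : Fact p.Prime] (P : Sylow p G)

attribute [local instance] fintypeIrr

local notation "N" => Subgroup.normalizer ((P : Subgroup G) : Set G)

set_option maxHeartbeats 3200000 in
open Classical in
theorem sibley_sylow
    (hna : ¬ IsMulCommutative (P : Subgroup G))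
    (hTI : IsTISubset ((P : Subgroup G) : Set G))
    (hlt : (P : Subgroup G) < Subgroup.normalizer ((P : Subgroup G) : Set G))
    (hC : ∀ k ∈ (P : Subgroup G), k ≠ 1 → Subgroup.centralizer ({k} : Set G) ≤ (P : Subgroup G))
    [Fintype ↥(Subgroup.normalizer ((P : Subgroup G) : Set G))]
    (hodd : Odd (Nat.card ↥(Subgroup.normalizer ((P : Subgroup G) : Set G)))) :
    IsCoherent (inducedIrrAbove
      ((P : Subgroup G).subgroupOf (Subgroup.normalizer ((P : Subgroup G) : Set G))) ⊥) {1}ᶜ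
      (fun α : ↥(Subgroup.normalizer ((P : Subgroup G) : Set G)) → ℂ =>
        indFun (Subgroup.normalizer ((P : Subgroup G) : Set G)) α) := by
  set K := (P : Subgroup G).subgroupOf N with hKdef
  have hPN : (P : Subgroup G) ≤ N := hlt.le
  have hcardK : Nat.card K = Nat.card (P : Subgroup G) :=
    Nat.card_congr (Subgroup.subgroupOfEquivOfLe hPN).toEquiv
  -- the centralizer condition inside `N`
  have hCN : ∀ k ∈ K, k ≠ 1 → ∀ x : ↥N, x * k = k * x → x ∈ K := by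
    intro k hk hk1 x hx
    rw [hKdef, Subgroup.mem_subgroupOf]
    apply hC (k : G) (Subgroup.mem_subgroupOf.mp hk) (fun h => hk1 (Subtype.ext h))
    rw [Subgroup.mem_centralizer_singleton_iff]
    exact congrArg Subtype.val hx
  have hna' : ¬ ∀ a ∈ K, ∀ b ∈ K, a * b = b * a := by
    intro h
    apply hna
    refine ⟨⟨fun a b => ?_⟩⟩
    apply Subtype.ext
    have := h ⟨a.1, hPN a.2⟩ (Subgroup.mem_subgroupOf.mpr a.2) ⟨b.1, hPN b.2⟩
      (Subgroup.mem_subgroupOf.mpr b.2)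
    exact congrArg (fun z : ↥N => (z : G)) this
  have hK1 : K ≠ ⊥ := by
    intro h
    apply hna'
    intro a ha b hb
    rw [h, Subgroup.mem_bot] at ha hb
    rw [ha, hb]
  have hP1 : (P : Subgroup G) ≠ ⊥ := by
    intro h
    apply hna'
    intro a ha b hb
    have ha' : (a : G) ∈ (⊥ : Subgroup G) := by
      rw [← h]; exact Subgroup.mem_subgroupOf.mp ha
    have hb' : (b : G) ∈ (⊥ : Subgroup G) := by
      rw [← h]; exact Subgroup.mem_subgroupOf.mp hb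
    rw [Subgroup.mem_bot] at ha' hb'
    have ha1 : a = 1 := Subtype.ext ha'
    have hb1 : b = 1 := Subtype.ext hb'
    rw [ha1, hb1]
  have hKp : IsPGroup p K := IsPGroup.comap_subtype P.isPGroup'
  obtain ⟨n, hn⟩ := IsPGroup.exists_card_eq hKp
  have hn0 : n ≠ 0 := by
    intro h0
    rw [h0, pow_zero] at hn
    exact hK1 (Subgroup.card_eq_one.mp hn)
  have hcop : ¬ p ∣ K.index := by
    intro hdvd
    have h1 := Cfsg.Agent.Lib.Helper2.tifrob_coprime (P : Subgroup G) hC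
    rw [← hcardK, hn] at h1
    have h2 : p ∣ Nat.gcd (p ^ n) K.index := Nat.dvd_gcd (dvd_pow_self p hn0) hdvd
    rw [h1] at h2
    exact hp.out.one_lt.ne' (Nat.dvd_one.mp h2)
  have hfrob := frob_quot_fpf K p hKp hcop hCN
  haveI hnil : Group.IsNilpotent K := IsPGroup.isNilpotent hKp
  have hsolv : Group.IsSolvable K := inferInstance
  have hH₁K : ⁅K, K⁆ < K := Cfsg.Agent.S1532.commutator_lt_of_solvable K hsolv hK1
  have hKL : K < ⊤ := by
    refine lt_of_le_of_ne le_top ?_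
    intro h
    rw [hKdef, Subgroup.subgroupOf_eq_top] at h
    exact (not_le_of_gt hlt) h
  obtain ⟨R, hS⟩ := tifrob_cohsys (P : Subgroup G) hTI hlt hP1 hC hodd
  have hSirr : ∀ χ ∈ inducedIrrAbove K ⊥, IsIrrCharacter ↥N χ :=
    fun χ hχ => (tifrob_mem_props (P : Subgroup G) hC hχ).1
  -- the central subgroup
  set Z := zsub K with hZdef
  have hZ1 : Z ≠ ⊥ := zsub_ne_bot K p hKp hna'
  have hZK : Z ≤ K := zsub_le K
  have hZK' : Z ≤ ⁅K, K⁆ := zsub_le_comm K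
  have hZc : ∀ z ∈ Z, ∀ k ∈ K, z * k = k * z := zsub_central K
  have hirrX : ∀ χ ∈ inducedIrrAbove K ⊥ \ inducedIrrAbove K Z, IsIrrCharacter ↥N χ :=
    fun χ hχ => hSirr χ hχ.1
  obtain ⟨hset, hXcoh⟩ := Cfsg.Agent.S1522.result K hsolv _ R hS hodd hnil hH₁K hKL hfrob Z hZ1
    hZK hZc hirrX
  have hYcoh := seqS_coherent_of_commutator_le K ⁅K, K⁆ hS le_rfl hH₁K
  -- the finsets
  set Xf : Finset (↥N → ℂ) := seqS K ⊥ \ seqS K Z with hXfdef
  set Yf : Finset (↥N → ℂ) := seqS K ⁅K, K⁆ with hYfdef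
  have hmemX : ∀ φ, φ ∈ Xf ↔ φ ∈ inducedIrrAbove K ⊥ \ inducedIrrAbove K Z := by
    intro φ
    rw [hXfdef, Finset.mem_sdiff, mem_seqS, mem_seqS]
    rfl
  have hcoeX : (↑Xf : Set (↥N → ℂ)) = inducedIrrAbove K ⊥ \ inducedIrrAbove K Z := by
    ext φ
    rw [Finset.mem_coe, hmemX]
  have hmemY : ∀ φ, φ ∈ Yf ↔ φ ∈ inducedIrrAbove K ⁅K, K⁆ := fun φ => mem_seqS
  have hcoeY : (↑Yf : Set (↥N → ℂ)) = inducedIrrAbove K ⁅K, K⁆ := coe_seqS K _
  rw [← hcoeX] at hXcoh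
  rw [← hcoeY] at hYcoh
  have hXS : ∀ ξ ∈ Xf, ξ ∈ inducedIrrAbove K ⊥ := fun ξ hξ => ((hmemX ξ).mp hξ).1
  have hYS : ∀ ξ ∈ Yf, ξ ∈ inducedIrrAbove K ⊥ :=
    fun ξ hξ => inducedIrrAbove_subset_bot K _ ((hmemY ξ).mp hξ)
  have hYZ : ∀ ξ ∈ Yf, ξ ∈ inducedIrrAbove K Z := by
    intro ξ hξ
    obtain ⟨θ, hθ, h1, h2, rfl⟩ := (hmemY ξ).mp hξ
    exact ⟨θ, hθ, h1, fun a ha => h2 a (hZK' ha), rfl⟩
  have hXY : ∀ ξ ∈ Xf, ξ ∉ Yf := fun ξ hξ hξ' => ((hmemX ξ).mp hξ).2 (hYZ ξ hξ')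
  have hXc : ∀ χ ∈ Xf, conjFun χ ∈ Xf := by
    intro φ hφ
    rw [hmemX] at hφ ⊢
    refine ⟨inducedIrrAbove_conj hφ.1, ?_⟩
    intro h
    apply hφ.2
    have := inducedIrrAbove_conj h
    rwa [conjFun_conjFun] at this
  have hYc : ∀ η ∈ Yf, conjFun η ∈ Yf := by
    intro η hη
    rw [hmemY] at hη ⊢
    exact inducedIrrAbove_conj hη
  have hX' : ∀ φ, φ ∈ Xf ↔ IsIrrCharacter ↥N φ ∧ ∃ z ∈ Z, φ z ≠ φ 1 := by
    intro φ
    rw [hmemX, hset]
    rfl
  -- the two extensions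
  obtain ⟨hXne0, σ, hσ, hσα⟩ := hXcoh
  obtain ⟨-, τ, hτ, hτα⟩ := hYcoh
  -- a member of `X`
  have hXne : Xf.Nonempty := by
    by_contra hemp
    rw [Finset.not_nonempty_iff_eq_empty] at hemp
    obtain ⟨α, hα, hα0⟩ := hXne0
    apply hα0
    have h1 := hα.1
    rw [hemp, Finset.coe_empty] at h1
    unfold zspan at h1
    rw [Submodule.span_empty] at h1
    exact (Submodule.mem_bot ℤ).mp h1
  obtain ⟨χ₁, hχ₁⟩ := hXne
  obtain ⟨θ₁, hθ₁, ⟨a, haZ, hane⟩, hχ₁eq⟩ := (mem_diff_iff K Z hZK χ₁).mp ((hmemX χ₁).mp hχ₁)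
  set q := charDegree θ₁ with hqdef
  have hθ₁1 : θ₁ 1 = (q : ℂ) := Cfsg.Agent.Lib.Helper24.irr_apply_one ⟨θ₁, hθ₁⟩
  set e := K.index with hedef
  have hepos : 0 < e := Nat.pos_of_ne_zero Subgroup.index_ne_zero_of_finite
  have hχ₁1 : χ₁ 1 = ((q * e : ℕ) : ℂ) := by
    rw [hχ₁eq, indFun_apply_one_index, hθ₁1]
    push_cast
    ring
  have hq2 : 2 ≤ q := by
    have hqpos : 0 < q := Cfsg.Agent.Lib.Helper24.irr_charDegree_pos ⟨θ₁, hθ₁⟩
    have hq1 : q ≠ 1 := by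
      intro h1
      apply hane
      have hmem : a ∈ commutator ↥K := by
        have h2 : (a : ↥N) ∈ (⁅K, K⁆ : Subgroup ↥N) := hZK' haZ
        rw [← Subgroup.map_subtype_commutator K] at h2
        obtain ⟨b, hb, hba⟩ := h2
        have : b = a := Subtype.ext hba
        rwa [this] at hb
      have h3 := Cfsg.Agent.Lib.Helper24.ThreeDeg.linear_apply_commutator ⟨θ₁, hθ₁⟩ h1 a hmem
      have h4 : θ₁ a = 1 := h3
      rw [h4, hθ₁1, h1, Nat.cast_one]
    omega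
  -- a member of `Y`
  obtain ⟨ψ₀, hψ₀⟩ := seqT_nonempty K ⁅K, K⁆ hH₁K
  set ψ : ↥N → ℂ := indFun K ψ₀.1 with hψdef
  have hψY : ψ ∈ Yf := Finset.mem_image_of_mem _ hψ₀
  have hYdeg : ∀ η ∈ Yf, η 1 = (e : ℂ) := by
    intro η hη
    obtain ⟨θ, hθ, -, hker, rfl⟩ := (hmemY η).mp hη
    have h1 : θ 1 = 1 := by
      apply Cfsg.Agent.Lib.Helper6.IsIrrCharacter.apply_one_eq_one_of_commutator hθ
      intro g k
      apply hker
      have := Subgroup.commutator_mem_commutator g.2 k.2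
      simpa [commutatorElement_def] using this
    rw [indFun_apply_one_index, h1, mul_one]
  -- the Sylow congruence
  have hcardN : Nat.card ↥N = Nat.card K * e := (Subgroup.card_mul_index K).symm
  have hKpos : 0 < Nat.card K := Nat.card_pos
  have hexz : ∃ z ∈ Z, z ≠ 1 := by
    by_contra hcon
    push Not at hcon
    exact hZ1 ((Subgroup.eq_bot_iff_forall Z).mpr hcon)
  set ZG : Subgroup G := Z.map (Subgroup.subtype N) with hZGdef
  have hZG1 : ZG ≠ ⊥ := by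
    intro h
    apply hZ1
    exact (Subgroup.map_eq_bot_iff_of_injective Z (Subgroup.subtype_injective N)).mp h
  have hmemZG : ∀ z : G, z ∈ ZG ↔ ∃ hz : z ∈ N, (⟨z, hz⟩ : ↥N) ∈ Z := by
    intro z
    rw [hZGdef, Subgroup.mem_map]
    constructor
    · rintro ⟨z', hz', rfl⟩
      exact ⟨z'.2, hz'⟩
    · rintro ⟨hz, hz'⟩
      exact ⟨⟨z, hz⟩, hz', rfl⟩
  have hZGP : ZG ≤ (P : Subgroup G) := by
    intro z hz
    obtain ⟨hzN, hzZ⟩ := (hmemZG z).mp hz
    exact Subgroup.mem_subgroupOf.mp (hZK hzZ)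
  have hZGn : ∀ x ∈ N, ∀ z ∈ ZG, x * z * x⁻¹ ∈ ZG := by
    intro x hx z hz
    obtain ⟨hzN, hzZ⟩ := (hmemZG z).mp hz
    rw [hmemZG]
    refine ⟨Subgroup.mul_mem N (Subgroup.mul_mem N hx hzN) (Subgroup.inv_mem N hx), ?_⟩
    have hZn : Z.Normal := inferInstance
    exact hZn.conj_mem ⟨z, hzN⟩ hzZ ⟨x, hx⟩
  have hZGc : ∀ z ∈ ZG, ∀ y ∈ (P : Subgroup G), z * y = y * z := by
    intro z hz y hy
    obtain ⟨hzN, hzZ⟩ := (hmemZG z).mp hz
    have := hZc ⟨z, hzN⟩ hzZ ⟨y, hPN hy⟩ (Subgroup.mem_subgroupOf.mpr hy)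
    exact congrArg Subtype.val this
  have hcent : ∀ z ∈ ZG, z ≠ 1 → N ⊓ Subgroup.centralizer ({z} : Set G) = (P : Subgroup G) := by
    intro z hz hz1
    apply le_antisymm
    · exact le_trans inf_le_right (hC z (hZGP hz) hz1)
    · intro y hy
      exact ⟨hPN hy, Subgroup.mem_centralizer_singleton_iff.mpr (hZGc z hz y hy).symm⟩
  have hCL : ∀ z ∈ ZG, ∀ z' ∈ ZG, z ≠ 1 → z' ≠ 1 →
      Nat.card ↥(N ⊓ Subgroup.centralizer ({z} : Set G)) =
        Nat.card ↥(N ⊓ Subgroup.centralizer ({z'} : Set G)) := by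
    intro z hz z' hz' hz1 hz'1
    rw [hcent z hz hz1, hcent z' hz' hz'1]
  -- the divisibility
  have hψchar : IsCharacter ↥N ψ :=
    hS.isCharacter ψ (hYS ψ hψY)
  have hdiv : ∀ φ : G → ℂ, IsIrrCharacter G φ → (∀ χ ∈ Xf, classInner (σ χ) φ = 0) →
      ∃ m : ℤ, classInner ((fun α : ↥N → ℂ => indFun N α) (χ₁ - (q : ℤ) • ψ)) φ = (q : ℂ) * m := by
    intro φ hφ horth
    apply Cfsg.Agent.Lib.Helper8.SibCongr.hdiv_of_congr N Z Xf hX' σ hσ (fun θ hθ => hσα θ hθ)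
      χ₁ hχ₁ ψ hψchar q e (Nat.card K) (by omega) hepos hKpos hχ₁1 hcardN hexz φ hφ ?_ horth
    intro hconst z hzZ hz1
    have hzG : (z : G) ∈ ZG := (hmemZG _).mpr ⟨z.2, hzZ⟩
    have hzG1 : (z : G) ≠ 1 := fun h => hz1 (Subtype.ext h)
    have hconst' : ∀ w ∈ ZG, ∀ w' ∈ ZG, w ≠ 1 → w' ≠ 1 → φ w = φ w' := by
      intro w hw w' hw' hw1 hw'1
      obtain ⟨hwN, hwZ⟩ := (hmemZG w).mp hw
      obtain ⟨hw'N, hw'Z⟩ := (hmemZG w').mp hw'
      exact hconst ⟨w, hwN⟩ hwZ ⟨w', hw'N⟩ hw'Z (fun h => hw1 (congrArg Subtype.val h))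
        (fun h => hw'1 (congrArg Subtype.val h))
    obtain ⟨n', d', h1, h2, h3⟩ := Cfsg.Agent.S1523.result p P hTI hodd ZG hZG1 hZGP hZGn hZGc hCL
      φ hφ hconst' (z : G) hzG hzG1
    refine ⟨n', d', h1, h2, ?_⟩
    rw [hcardK]
    exact h3
  have hglue := Cfsg.Agent.Lib.Helper8.SibGlue.glue N (inducedIrrAbove K ⊥) Xf Yf hSirr hXS hYS hXY
    hXc hYc hS.conj_ne (fun α : ↥N → ℂ => indFun N α) hS.isometry hS.map_one σ τ hσ hσα hτ hτα
    χ₁ hχ₁ ψ hψY q e hq2 hepos hχ₁1 hYdeg hdiv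
  -- the extension to all of `S`
  obtain ⟨d, nn, hd, hnn⟩ := exists_deg_norm hS.isCharacter
  have hnn1 : ∀ φ ∈ inducedIrrAbove K ⊥, nn φ = 1 := by
    intro φ hφ
    have h1 := hnn φ hφ
    rw [Cfsg.Agent.CharLib.classInner_irr (hSirr φ hφ) (hSirr φ hφ), if_pos rfl] at h1
    exact_mod_cast h1.symm
  set B : Finset (↥N → ℂ) := Xf ∪ Yf with hBdef
  set T : Finset (↥N → ℂ) := seqS K Z with hTdef
  have hTS : ∀ φ ∈ T, φ ∈ inducedIrrAbove K ⊥ :=
    fun φ hφ => inducedIrrAbove_subset_bot K Z (mem_seqS.mp hφ)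
  have hTc : ∀ φ ∈ T, conjFun φ ∈ T :=
    fun φ hφ => mem_seqS.mpr (inducedIrrAbove_conj (mem_seqS.mp hφ))
  have hdψ : d ψ = e := by
    have h1 := hd ψ (hYS ψ hψY)
    rw [hYdeg ψ hψY] at h1
    exact_mod_cast h1.symm
  have hsumX := sum_sq_X Z Xf hX' d (fun φ hφ => hd φ (hXS φ hφ))
  have hZidx : Z.index = Z.relIndex K * e := (Subgroup.relIndex_mul_index hZK).symm
  have hcardN' : Nat.card ↥N = Nat.card Z * (Z.relIndex K * e) := by
    rw [← hZidx]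
    exact (Subgroup.card_mul_index Z).symm
  have hZbig : 2 * e + 1 ≤ Nat.card Z := two_mul_index_le K Z hZK hZc hCN hodd hZ1
  have key : ∀ χ ∈ T, d ψ ∣ d χ ∧ 2 * d χ * d ψ < Nat.card ↥N - Z.index := by
    intro χ hχ
    rw [hTdef, seqS, Finset.mem_image] at hχ
    obtain ⟨θ, hθT, rfl⟩ := hχ
    have hχS : indFun K θ.1 ∈ inducedIrrAbove K ⊥ :=
      hTS _ (Finset.mem_image_of_mem _ hθT)
    have hdχ : d (indFun K θ.1) = e * charDegree θ.1 := by
      have h1 := hd _ hχS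
      rw [indFun_apply_one_index, Cfsg.Agent.Lib.Helper24.irr_apply_one θ] at h1
      have h2 : ((d (indFun K θ.1) : ℕ) : ℂ) = ((e * charDegree θ.1 : ℕ) : ℂ) := by
        push_cast
        rw [← h1]
      exact_mod_cast h2
    have hbound : (charDegree θ.1) ^ 2 + 1 ≤ Z.relIndex K := by
      have h1 := sum_seqT_sq K Z
      have h2 : (charDegree θ.1) ^ 2 ≤ ∑ ψ' ∈ seqT K Z, (charDegree ψ'.1) ^ 2 :=
        Finset.single_le_sum (f := fun ψ' : IrrCharacter K => (charDegree ψ'.1) ^ 2)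
          (fun _ _ => Nat.zero_le _) hθT
      have h3 : ((∑ ψ' ∈ seqT K Z, (charDegree ψ'.1) ^ 2 + 1 : ℕ) : ℂ) =
          ((Z.relIndex K : ℕ) : ℂ) := by
        push_cast
        rw [h1]
        ring
      have h4 : ∑ ψ' ∈ seqT K Z, (charDegree ψ'.1) ^ 2 + 1 = Z.relIndex K := by exact_mod_cast h3
      omega
    rw [hdψ, hdχ]
    refine ⟨dvd_mul_right _ _, ?_⟩
    rw [hcardN', hZidx]
    exact ext_arith e (charDegree θ.1) (Z.relIndex K) (Nat.card Z) hepos hbound hZbig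
  have hBS : ∀ φ ∈ B, φ ∈ inducedIrrAbove K ⊥ := by
    intro φ hφ
    rw [hBdef, Finset.mem_union] at hφ
    rcases hφ with h | h
    · exact hXS φ h
    · exact hYS φ h
  have hBc : ∀ φ ∈ B, conjFun φ ∈ B := by
    intro φ hφ
    rw [hBdef, Finset.mem_union] at hφ ⊢
    rcases hφ with h | h
    · exact Or.inl (hXc φ h)
    · exact Or.inr (hYc φ h)
  have hψB : ψ ∈ B := Finset.mem_union_right _ hψY
  have hsB : Nat.card ↥N - Z.index ≤ ∑ η ∈ B, (d η) ^ 2 := by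
    have h1 : ∑ η ∈ Xf, (d η) ^ 2 ≤ ∑ η ∈ B, (d η) ^ 2 :=
      Finset.sum_le_sum_of_subset Finset.subset_union_left
    omega
  have hBcoh : IsCoherent (↑B : Set (↥N → ℂ)) {1}ᶜ (fun α : ↥N → ℂ => indFun N α) := by
    rw [hBdef, Finset.coe_union]
    exact hglue
  have hfin := Cfsg.Agent.Lib.Helper8.SibExtend.coherent_extend hS d nn hd hnn hnn1 ψ
    (Nat.card ↥N - Z.index) T hTS hTc key (T \ B).card B rfl hBS hBc hψB hsB hBcoh
  have hunion : (↑B ∪ ↑T : Set (↥N → ℂ)) = inducedIrrAbove K ⊥ := by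
    ext φ
    simp only [Set.mem_union, Finset.mem_coe]
    constructor
    · rintro (h | h)
      · exact hBS φ h
      · exact hTS φ h
    · intro h
      by_cases hZφ : φ ∈ inducedIrrAbove K Z
      · exact Or.inr (mem_seqS.mpr hZφ)
      · left
        rw [hBdef, Finset.mem_union]
        exact Or.inl ((hmemX φ).mpr ⟨h, hZφ⟩)
  rw [hunion] at hfin
  exact hfin

end main

end Cfsg.Agent.Lib.Helper8.SibMain
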