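import Cfsg.Agent.Lib.Helper8.AbInvD

/-!
# Groups in which centralizers of involutions are abelian, part E (helper8)

Case I: the centralizer of a nontrivial element of a two point stabilizer is an abelian group of odd order inverted
by the involutions interchanging the two points; consequently the normalizer of a point is a Frobenius group.
-/

set_option autoImplicit false

namespace Cfsg.Agent.Lib.Helper8.AbInv

open Cfsg.Agent.Lib.Helper2 Cfsg.Agent.Lib.Helper8

variable {G : Type*} [Group G]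

/-- an involution normalizing a finite subgroup and fixing only the identity inverts it -/
theorem inverts_of_fpf [Finite G] (H : Subgroup G) {u : G} (hu2 : orderOf u = 2)
    (hnorm : ∀ x ∈ H, u * x * u⁻¹ ∈ H) (hfpf : ∀ x ∈ H, u * x * u⁻¹ = x → x = 1) :
    ∀ x ∈ H, u * x * u⁻¹ = x⁻¹ := by
  have hui := invol_inv hu2
  have huu := invol_mul_self hu2
  let φ : H → H := fun x => ⟨x.1⁻¹ * (u * x.1 * u⁻¹), H.mul_mem (H.inv_mem x.2) (hnorm x.1 x.2)⟩
  have hinj : Function.Injective φ := by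
    intro x y hxy
    have h1 : x.1⁻¹ * (u * x.1 * u⁻¹) = y.1⁻¹ * (u * y.1 * u⁻¹) := congrArg Subtype.val hxy
    have h2 : u * (y.1 * x.1⁻¹) * u⁻¹ = y.1 * x.1⁻¹ := by
      calc u * (y.1 * x.1⁻¹) * u⁻¹ = (u * y.1 * u⁻¹) * (u * x.1 * u⁻¹)⁻¹ := by group
        _ = y.1 * (y.1⁻¹ * (u * y.1 * u⁻¹)) * (u * x.1 * u⁻¹)⁻¹ := by group
        _ = y.1 * (x.1⁻¹ * (u * x.1 * u⁻¹)) * (u * x.1 * u⁻¹)⁻¹ := by rw [h1]
        _ = y.1 * x.1⁻¹ := by group
    have h3 := hfpf _ (H.mul_mem y.2 (H.inv_mem x.2)) h2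
    apply Subtype.ext
    exact (mul_inv_eq_one.mp h3).symm
  have hsurj : Function.Surjective φ := Finite.injective_iff_surjective.mp hinj
  intro x hx
  obtain ⟨y, hy⟩ := hsurj ⟨x, hx⟩
  have hy' : y.1⁻¹ * (u * y.1 * u⁻¹) = x := congrArg Subtype.val hy
  rw [← hy']
  calc u * (y.1⁻¹ * (u * y.1 * u⁻¹)) * u⁻¹
      = (u * y.1⁻¹ * u⁻¹) * ((u * u) * y.1 * (u * u)⁻¹) := by group
    _ = (u * y.1⁻¹ * u⁻¹) * y.1 := by rw [huu]; group
    _ = (y.1⁻¹ * (u * y.1 * u⁻¹))⁻¹ := by group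

/-- a group inverted by an automorphism is abelian (elementwise form) -/
theorem comm_of_inverted {u x y : G} (hx : u * x * u⁻¹ = x⁻¹) (hy : u * y * u⁻¹ = y⁻¹)
    (hxy : u * (x * y) * u⁻¹ = (x * y)⁻¹) : x * y = y * x := by
  have h4 : (x * y)⁻¹ = x⁻¹ * y⁻¹ := by
    rw [← hxy, ← hx, ← hy]; group
  have h5 : x * y = (x⁻¹ * y⁻¹)⁻¹ := by rw [← h4, inv_inv]
  rw [h5]; group

section Finite

variable [Finite G] (h : AbHyp G) (hI : CaseI G) (hne : ∀ P : Sylow 2 G, (P : Subgroup G) ≠ ⊥)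

include h hI hne in
/-- the centralizer of a nontrivial element fixing two points has odd order -/
theorem caseI_centralizer_odd {P Q : Sylow 2 G} (hPQ : P ≠ Q) {d : G} (hdP : d ∈ Nz P)
    (hdQ : d ∈ Nz Q) (hd1 : d ≠ 1) {x : G} (hx : x * d = d * x) : Odd (orderOf x) := by
  by_contra hodd
  rw [Nat.not_odd_iff_even] at hodd
  have hv2 := exists_invol_pow_of_even hodd
  set v := x ^ (orderOf x / 2) with hv
  have hvd : d * v = v * d := by
    have : Commute x d := hx
    exact (this.pow_left _).eq.symm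
  obtain ⟨R, hvR⟩ := exists_sylow_of_invol hv2
  have hdR : d ∈ Cz R := mem_Cz_of_commute h R hvR hv2 hvd
  have hdodd : Odd (orderOf d) := odd_of_mem_inter h hPQ hdP hdQ
  have h1 : P = R := caseI_semireg h hI hne hdR hdodd hd1 hdP
  have h2 : Q = R := caseI_semireg h hI hne hdR hdodd hd1 hdQ
  exact hPQ (h1.trans h2.symm)

variable (hnn : ∀ P : Sylow 2 G, ¬ (P : Subgroup G).Normal)

include h hI hne hnn in
/-- the involution `u` fixes no nontrivial element of the centralizer of `d` -/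
theorem caseI_centralizer_fpf {P : Sylow 2 G} {u : G} (hu2 : orderOf u = 2) (huN : u ∉ Nz P) {d : G}
    (hdP : d ∈ Nz P) (hdQ : d ∈ Nz (u • P)) (hd1 : d ≠ 1) {x : G} (hx : x * d = d * x)
    (hxu : u * x * u⁻¹ = x) : x = 1 := by
  by_contra hx1
  have hPQ := smul_ne_of_not_mem_Nz huN
  have hui := invol_inv hu2
  have hxodd := caseI_centralizer_odd h hI hne hPQ hdP hdQ hd1 hx
  have hdodd : Odd (orderOf d) := odd_of_mem_inter h hPQ hdP hdQ
  have hdu := caseI_inter_inverted h hI hne hnn hu2 huN hdP hdQ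
  obtain ⟨R, huR⟩ := exists_sylow_of_invol hu2
  have hxu' : x * u = u * x := by
    calc x * u = (u * x * u⁻¹) * u := by rw [hxu]
      _ = u * x := by group
  have hxR : x ∈ Cz R := mem_Cz_of_commute h R huR hu2 hxu'
  have hdR : d ∈ Nz R := by
    apply hI R x hxR hxodd hx1
    rw [Subgroup.mem_centralizer_singleton_iff]
    exact hx.symm
  have h1 : d * u * d⁻¹ ∈ (R : Subgroup G) := conj_mem_of_mem_Nz hdR huR
  have h2 : d⁻¹ * d⁻¹ ∈ (R : Subgroup G) := by
    have : d⁻¹ * d⁻¹ = u * (d * u * d⁻¹) := by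
      calc d⁻¹ * d⁻¹ = (u * d * u⁻¹) * d⁻¹ := by rw [hdu]
        _ = u * (d * u * d⁻¹) := by rw [hui]; group
    rw [this]
    exact (R : Subgroup G).mul_mem huR h1
  have h3 : Odd (orderOf (d⁻¹ * d⁻¹)) :=
    odd_of_mem_inter h hPQ ((Nz P).mul_mem ((Nz P).inv_mem hdP) ((Nz P).inv_mem hdP))
      ((Nz (u • P)).mul_mem ((Nz (u • P)).inv_mem hdQ) ((Nz (u • P)).inv_mem hdQ))
  have h4 : d⁻¹ * d⁻¹ = 1 := eq_one_of_mem_sylow_of_odd R h2 h3
  have h5 : d * d = 1 := by
    have : (d * d)⁻¹ = 1 := by rw [mul_inv_rev]; exact h4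
    exact inv_eq_one.mp this
  exact hd1 (eq_one_of_odd_of_sq hdodd h5)

include h hI hne hnn in
/-- the involution `u` inverts the centralizer of `d` -/
theorem caseI_centralizer_inverted {P : Sylow 2 G} {u : G} (hu2 : orderOf u = 2) (huN : u ∉ Nz P)
    {d : G} (hdP : d ∈ Nz P) (hdQ : d ∈ Nz (u • P)) (hd1 : d ≠ 1) {x : G} (hx : x * d = d * x) :
    u * x * u⁻¹ = x⁻¹ := by
  have hdu := caseI_inter_inverted h hI hne hnn hu2 huN hdP hdQ
  have hnorm : ∀ x ∈ Subgroup.centralizer ({d} : Set G), u * x * u⁻¹ ∈ Subgroup.centralizer ({d} : Set G) := by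
    intro y hy
    rw [Subgroup.mem_centralizer_singleton_iff] at hy ⊢
    have hyi : y * d⁻¹ = d⁻¹ * y := by
      calc y * d⁻¹ = d⁻¹ * (d * y) * d⁻¹ := by group
        _ = d⁻¹ * (y * d) * d⁻¹ := by rw [hy]
        _ = d⁻¹ * y := by group
    have hud : u⁻¹ * d * u = d⁻¹ := by
      rw [← hdu, invol_inv hu2]
    calc u * y * u⁻¹ * d = u * (y * (u⁻¹ * d * u)) * u⁻¹ := by group
      _ = u * (y * d⁻¹) * u⁻¹ := by rw [hud]
      _ = u * (d⁻¹ * y) * u⁻¹ := by rw [hyi]
      _ = u * ((u⁻¹ * d * u) * y) * u⁻¹ := by rw [hud]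
      _ = d * (u * y * u⁻¹) := by group
  have hfpf : ∀ x ∈ Subgroup.centralizer ({d} : Set G), u * x * u⁻¹ = x → x = 1 := by
    intro y hy hyu
    rw [Subgroup.mem_centralizer_singleton_iff] at hy
    exact caseI_centralizer_fpf h hI hne hnn hu2 huN hdP hdQ hd1 hy hyu
  exact inverts_of_fpf _ hu2 hnorm hfpf x (Subgroup.mem_centralizer_singleton_iff.mpr hx)

include h hI hne hnn in
/-- the centralizer of `d` is abelian -/
theorem caseI_centralizer_comm {P : Sylow 2 G} {u : G} (hu2 : orderOf u = 2) (huN : u ∉ Nz P)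
    {d : G} (hdP : d ∈ Nz P) (hdQ : d ∈ Nz (u • P)) (hd1 : d ≠ 1) {x y : G} (hx : x * d = d * x)
    (hy : y * d = d * y) : x * y = y * x := by
  have hxy : (x * y) * d = d * (x * y) := by
    calc x * y * d = x * (y * d) := by group
      _ = x * (d * y) := by rw [hy]
      _ = (x * d) * y := by group
      _ = d * (x * y) := by rw [hx]; group
  exact comm_of_inverted (caseI_centralizer_inverted h hI hne hnn hu2 huN hdP hdQ hd1 hx)
    (caseI_centralizer_inverted h hI hne hnn hu2 huN hdP hdQ hd1 hy)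
    (caseI_centralizer_inverted h hI hne hnn hu2 huN hdP hdQ hd1 hxy)

include h hI hne hnn in
/-- **Frobenius property**: a nontrivial element fixing two points centralizes no nontrivial element of the
centralizer of one of them -/
theorem caseI_frob {P : Sylow 2 G} {u : G} (hu2 : orderOf u = 2) (huN : u ∉ Nz P)
    {d : G} (hdP : d ∈ Nz P) (hdQ : d ∈ Nz (u • P)) (hd1 : d ≠ 1) {c : G} (hc : c ∈ Cz P)
    (hcd : c * d = d * c) : c = 1 := by
  by_contra hc1
  have hPQ := smul_ne_of_not_mem_Nz huN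
  have hui := invol_inv hu2
  have hdu := caseI_inter_inverted h hI hne hnn hu2 huN hdP hdQ
  have hcodd := caseI_centralizer_odd h hI hne hPQ hdP hdQ hd1 hcd
  -- `c' = u c u⁻¹` commutes with `d` and hence with `c`
  have hcu := caseI_centralizer_inverted h hI hne hnn hu2 huN hdP hdQ hd1 hcd
  -- `u c u⁻¹ = c⁻¹`, which lies in `Cz P`, but also in `Cz (u • P)`
  have h1 : u * c * u⁻¹ ∈ Cz (u • P) := by
    rw [mem_Cz_smul]
    have : u⁻¹ * (u * c * u⁻¹) * u = c := by group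
    rw [this]; exact hc
  rw [hcu] at h1
  have h2 : c⁻¹ ∈ Cz P := (Cz P).inv_mem hc
  have h3 : Odd (orderOf c⁻¹) := by rw [orderOf_inv]; exact hcodd
  have h4 : c⁻¹ ≠ 1 := fun e => hc1 (inv_eq_one.mp e)
  exact hPQ (caseI_TI hI h2 h1 h3 h4)

end Finite

end Cfsg.Agent.Lib.Helper8.AbInv
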