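/-
helper8: defect-one cluster, Part O, leaf DO-SHAPE (`shape_of_data`): the equality case of the lattice lemma pushed
forward from `↥B` to `IrrCharacter G`, via helper6 `DOMAINGRAM.main_of_gram`.
-/
import Mathlib
import Cfsg.Prelude.Def_BlockRank
import Cfsg.Agent.Lib.Helper27.DODefs
import Cfsg.Agent.Lib.Helper27.BlkAlgDefs2
import Cfsg.Agent.Lib.Helper24.IrrFacts
import Cfsg.Agent.Lib.Lead.CharOrtho
import Cfsg.Agent.Lib.Helper6.DOMAINGRAM
import Cfsg.Agent.Lib.Helper8.DOUPPER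
import Cfsg.Agent.Lib.Helper8.DORANKD

set_option autoImplicit false

namespace Cfsg.Agent.Lib.Helper8.DOSHAPE

open Cfsg Cfsg.Agent.Lib.Helper8.DOM Cfsg.Agent.Lib.Helper27.DO Cfsg.Agent.Lib.Helper27.BlkAlg
open Cfsg.Agent.Lib.Helper6.DOMAINGRAM
open Cfsg.Agent.Lib.Helper8.DOUPPER Cfsg.Agent.Lib.Helper8.DORANKD
open scoped ComplexConjugate

universe u

variable {G : Type u} [Group G] [Finite G] {p : ℕ} [Fact p.Prime] {M : Ideal AlgInt}
  {P : Subgroup G} {B : Set (IrrCharacter G)} {θ : IrrCharacter (Cz P)} {T : Subgroup G} {x0 : G}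
  {E : Subgroup (ZMod p)ˣ} {μ : IrrCharacter G → ZMod p → ℤ} {D : IrrCharacter G → G → ℂ}

/-- the number of values of a map on `(ℤ/p)ˣ` constant exactly on the cosets of `E` -/
theorem card_range_of_fibres {α : Type*} (E : Subgroup (ZMod p)ˣ) (ψ : (ZMod p)ˣ → α)
    (hψ : ∀ i j, ψ i = ψ j ↔ i * j⁻¹ ∈ E) :
    Nat.card (Set.range ψ) = (p - 1) / Nat.card E := by
  classical
  have : Fintype ((ZMod p)ˣ ⧸ E) := Fintype.ofFinite _
  rw [← card_quot E, ← Nat.card_eq_fintype_card]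
  have hwd : ∀ a b : (ZMod p)ˣ, QuotientGroup.leftRel E a b → ψ a = ψ b := by
    intro a b hab
    rw [QuotientGroup.leftRel_apply] at hab
    rw [hψ, ← inv_mem_iff (x := a * b⁻¹)]
    simpa [mul_comm] using hab
  let ψq : (ZMod p)ˣ ⧸ E → α := Quotient.lift ψ hwd
  have hinj : Function.Injective ψq := by
    intro O O'
    induction O using QuotientGroup.induction_on with
    | H a =>
      induction O' using QuotientGroup.induction_on with
      | H b =>
        intro h
        have h' : ψ a = ψ b := h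
        rw [hψ] at h'
        rw [QuotientGroup.eq, ← inv_mem_iff (x := a⁻¹ * b)]
        simpa [mul_comm] using h'
  have hrange : Set.range ψ = Set.range ψq := by
    ext y
    constructor
    · rintro ⟨a, rfl⟩
      exact ⟨QuotientGroup.mk a, rfl⟩
    · rintro ⟨O, rfl⟩
      induction O using QuotientGroup.induction_on with
      | H a => exact ⟨a, rfl⟩
  rw [hrange]
  exact Nat.card_range_of_injective hinj

/-- SHAPE : the equality case, at the level of `IrrCharacter G`. -/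
theorem shape_of_data (d : GSData p P B θ T x0 E μ D)
    (hcard : Nat.card B = Nat.card E + (p - 1) / Nat.card E) :
    ∃ (X : Set (IrrCharacter G)) (ψ : (ZMod p)ˣ → IrrCharacter G) (v : IrrCharacter G → ℤ) (ε : ℤ),
      B = X ∪ Set.range ψ ∧ Disjoint X (Set.range ψ) ∧ Nat.card X = Nat.card E ∧
      (∀ i j, ψ i = ψ j ↔ i * j⁻¹ ∈ E) ∧ (ε = 1 ∨ ε = -1) ∧
      (∀ χ ∈ X, (v χ = 1 ∨ v χ = -1) ∧ ∀ k : (ZMod p)ˣ, μ χ k - μ χ 0 = - v χ) ∧
      (∀ i k : (ZMod p)ˣ, (k * i⁻¹ ∈ E → μ (ψ i) k - μ (ψ i) 0 = ε) ∧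
        (k * i⁻¹ ∉ E → μ (ψ i) k - μ (ψ i) 0 = 0)) ∧
      (∀ i, ∀ g : G, ¬ p ∣ orderOf g →
        (ε : ℂ) * (ψ i : G → ℂ) g = ∑ᶠ χ ∈ X, (v χ : ℂ) * (χ : G → ℂ) g) := by
  classical
  have : Finite (IrrCharacter G) := Cfsg.Agent.CharLib.finite_irrCharacter
  have : Fintype ↥B := Fintype.ofFinite _
  have hmain := (main_of_gram (B := ↥B) E (fun χ => μ χ.1) (fun χ τ hτ i => d.mu_inv χ.1 τ hτ i)
    (fun i j hij => by
      have := d.gram1 i j hij
      rwa [finsum_mem_eq_sum_coe] at this)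
    (fun i j hij => by
      have := d.gram0 i j hij
      rwa [finsum_mem_eq_sum_coe] at this)
    (fun χ => (charDegree ((χ.1 : IrrCharacter G) : G → ℂ) : ℤ))
    (fun χ => by exact_mod_cast Cfsg.Agent.Lib.Helper24.irr_charDegree_pos χ.1)
    (fun i => sum_mul_degree d i)
    (fun χ => d.supp χ.1 χ.2)).2 (by rw [← Nat.card_eq_fintype_card]; exact hcard)
  obtain ⟨ε, v, ψ, hε, hψ, hX, hY, hrel⟩ := hmain
  set X : Set (IrrCharacter G) := Subtype.val '' (Set.range ψ)ᶜ with hXdef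
  set ψ' : (ZMod p)ˣ → IrrCharacter G := fun i => (ψ i).1 with hψ'
  set v' : IrrCharacter G → ℤ := fun χ => if h : χ ∈ B then v ⟨χ, h⟩ else 0 with hv'
  have hv'eq : ∀ χ : ↥B, v' χ.1 = v χ := by
    intro χ
    simp only [hv']
    rw [dif_pos χ.2]
  have hrange : Set.range ψ' = Subtype.val '' (Set.range ψ) := by
    ext χ
    simp only [Set.mem_range, Set.mem_image, hψ']
    constructor
    · rintro ⟨i, rfl⟩
      exact ⟨ψ i, ⟨i, rfl⟩, rfl⟩
    · rintro ⟨_, ⟨i, rfl⟩, rfl⟩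
      exact ⟨i, rfl⟩
  have hψ'iff : ∀ i j, ψ' i = ψ' j ↔ i * j⁻¹ ∈ E := by
    intro i j
    rw [← hψ i j]
    exact Subtype.val_injective.eq_iff
  have hunion : B = X ∪ Set.range ψ' := by
    rw [hrange, hXdef, ← Set.image_union, Set.compl_union_self, Set.image_univ,
      Subtype.range_coe]
  have hdisj : Disjoint X (Set.range ψ') := by
    rw [hrange, hXdef]
    exact (Set.disjoint_image_iff Subtype.val_injective).mpr disjoint_compl_left
  refine ⟨X, ψ', v', ε, hunion, hdisj, ?_, hψ'iff, hε, ?_, ?_, ?_⟩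
  · -- the cardinality of `X`
    have h1 : Nat.card B = Nat.card X + Nat.card (Set.range ψ') := by
      have hfin : (X ∪ Set.range ψ').Finite := Set.toFinite _
      conv_lhs => rw [hunion]
      rw [Nat.card_coe_set_eq, Nat.card_coe_set_eq, Nat.card_coe_set_eq]
      exact Set.ncard_union_eq hdisj (Set.toFinite _) (Set.toFinite _)
    rw [card_range_of_fibres E ψ' hψ'iff, hcard] at h1
    omega
  · rintro χ ⟨χ', hχ', rfl⟩
    have := hX χ' hχ'
    rw [hv'eq]
    exact this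
  · intro i k
    exact hY i k
  · intro i g hg
    have h1 := hrel (fun χ => (χ.1 : G → ℂ) g) (fun k => by
      have := d.orth k g hg
      rwa [finsum_mem_eq_sum_coe] at this) i
    rw [← h1, hXdef, finsum_mem_image Subtype.val_injective.injOn]
    apply finsum_mem_congr rfl
    intro χ _
    rw [hv'eq]

end Cfsg.Agent.Lib.Helper8.DOSHAPE
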