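/-
helper8 (S2345, Defs-free sub-leaf (ORB) of O3 in helper27's plan): `SL_n` is transitive on the
rank-2 alternating matrices `rk2 F (Fin n)` under `Y ↦ g Y gᵀ`, `n ≥ 3`.
-/
import Mathlib
import Cfsg.Agent.Lib.Helper10.OPMinCnt
import Cfsg.Agent.Lib.Helper1.SLMTools

set_option autoImplicit false
set_option linter.unusedSectionVars false

namespace Cfsg.Agent.Lib.Helper8.OPMinOrb

open Matrix Cfsg.Agent.Lib.Helper10.OPMinCnt

section general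

variable {F : Type*} [Field F] {ι : Type*} [Fintype ι] [DecidableEq ι]

/-- the wedge is equivariant -/
theorem wedge_mulVec (A : Matrix ι ι F) (u v : ι → F) :
    wedge (A *ᵥ u) (A *ᵥ v) = A * wedge u v * Aᵀ := by
  rw [wedge_eq, wedge_eq, Matrix.mul_sub, Matrix.sub_mul, Matrix.mul_vecMulVec,
    Matrix.mul_vecMulVec, Matrix.vecMulVec_mul, Matrix.vecMulVec_mul, vecMul_transpose,
    vecMul_transpose]

theorem indep_mulVec (g : SpecialLinearGroup ι F) (u v : ι → F)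
    (h : LinearIndependent F ![u, v]) : LinearIndependent F ![g.1 *ᵥ u, g.1 *ᵥ v] := by
  rw [LinearIndependent.pair_iff] at h ⊢
  intro s t hst
  have h1 : g.1 *ᵥ (s • u + t • v) = 0 := by
    rw [mulVec_add, mulVec_smul, mulVec_smul]
    exact hst
  have h2 : s • u + t • v = 0 := by
    have hgg : (g⁻¹).1 * g.1 = 1 := congrArg Subtype.val (inv_mul_cancel g)
    have := congrArg (fun w => (g⁻¹).1 *ᵥ w) h1
    simp only [mulVec_mulVec, mulVec_zero] at this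
    rw [hgg, one_mulVec] at this
    exact this
  exact h s t h2

/-- `rk2` is stable under `Y ↦ g Y gᵀ` -/
theorem rk2_conj (g : SpecialLinearGroup ι F) {Y : Matrix ι ι F} (hY : Y ∈ rk2 F ι) :
    g.1 * Y * g.1ᵀ ∈ rk2 F ι := by
  obtain ⟨u, v, huv, rfl⟩ := hY
  exact ⟨g.1 *ᵥ u, g.1 *ᵥ v, indep_mulVec g u v huv, (wedge_mulVec g.1 u v).symm⟩

end general

section fin

variable {F : Type*} [Field F] {n : ℕ}

/-- every rank-2 alternating matrix is `g (e₀ ∧ e₁) gᵀ` with `g ∈ SL_n`, `n ≥ 3` -/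
theorem exists_sl_std {k : ℕ} {Y : Matrix (Fin (k + 3)) (Fin (k + 3)) F}
    (hY : Y ∈ rk2 F (Fin (k + 3))) :
    ∃ g : SpecialLinearGroup (Fin (k + 3)) F,
      Y = g.1 * wedge (Pi.single 0 1) (Pi.single 1 1) * g.1ᵀ := by
  obtain ⟨u, v, huv, rfl⟩ := hY
  obtain ⟨x, hx0, hx1⟩ := Cfsg.Agent.Lib.Helper1.SLMLeaf.exists_sl_std_pair huv
  refine ⟨x, ?_⟩
  rw [← wedge_mulVec, hx0, hx1]

/-- ORB: `SL_n` is transitive on `rk2`, `n ≥ 3` -/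
theorem exists_sl_conj_rk2 (hn : 3 ≤ n) {Y Y' : Matrix (Fin n) (Fin n) F}
    (hY : Y ∈ rk2 F (Fin n)) (hY' : Y' ∈ rk2 F (Fin n)) :
    ∃ g : SpecialLinearGroup (Fin n) F, g.1 * Y * g.1ᵀ = Y' := by
  obtain ⟨k, rfl⟩ : ∃ k, n = k + 3 := ⟨n - 3, by omega⟩
  obtain ⟨x, hx⟩ := exists_sl_std hY
  obtain ⟨y, hy⟩ := exists_sl_std hY'
  refine ⟨y * x⁻¹, ?_⟩
  have hxx : (x⁻¹).1 * x.1 = 1 := congrArg Subtype.val (inv_mul_cancel x)
  have hxxT : x.1ᵀ * (x⁻¹).1ᵀ = 1 := by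
    rw [← Matrix.transpose_mul, hxx, Matrix.transpose_one]
  have hyx : (y * x⁻¹).1 = y.1 * (x⁻¹).1 := rfl
  rw [hx, hy, hyx, Matrix.transpose_mul]
  calc y.1 * (x⁻¹).1 * (x.1 * wedge (Pi.single 0 1) (Pi.single 1 1) * x.1ᵀ) * ((x⁻¹).1ᵀ * y.1ᵀ)
      = y.1 * ((x⁻¹).1 * x.1) * wedge (Pi.single 0 1) (Pi.single 1 1) * (x.1ᵀ * (x⁻¹).1ᵀ) * y.1ᵀ := by
        simp only [Matrix.mul_assoc]
    _ = y.1 * wedge (Pi.single 0 1) (Pi.single 1 1) * y.1ᵀ := by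
        rw [hxx, hxxT, Matrix.mul_one, Matrix.mul_one]

/-- the same with `gᵀ Y g` -/
theorem exists_sl_conj_rk2' (hn : 3 ≤ n) {Y Y' : Matrix (Fin n) (Fin n) F}
    (hY : Y ∈ rk2 F (Fin n)) (hY' : Y' ∈ rk2 F (Fin n)) :
    ∃ g : SpecialLinearGroup (Fin n) F, g.1ᵀ * Y * g.1 = Y' := by
  obtain ⟨g, hg⟩ := exists_sl_conj_rk2 hn hY hY'
  refine ⟨g.transpose, ?_⟩
  show g.1ᵀᵀ * Y * g.1ᵀ = Y'
  rw [Matrix.transpose_transpose]
  exact hg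

/-- the same with `g⁻ᵀ Y g⁻¹` (the action on weights) -/
theorem exists_sl_conj_rk2'' (hn : 3 ≤ n) {Y Y' : Matrix (Fin n) (Fin n) F}
    (hY : Y ∈ rk2 F (Fin n)) (hY' : Y' ∈ rk2 F (Fin n)) :
    ∃ g : SpecialLinearGroup (Fin n) F, (g⁻¹).1ᵀ * Y * (g⁻¹).1 = Y' := by
  obtain ⟨g, hg⟩ := exists_sl_conj_rk2' hn hY hY'
  exact ⟨g⁻¹, by rw [inv_inv]; exact hg⟩

end fin

end Cfsg.Agent.Lib.Helper8.OPMinOrb
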