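import Mathlib
import Cfsg.Prelude.Def_ClassicalGeometry
import Cfsg.Prelude.Def_GeometricClasses
import Cfsg.Agent.Lib.Helper19.OSubDefs
import Cfsg.Agent.Lib.Helper19.OSubBasic
import Cfsg.Agent.Lib.Helper19.OSubDescent
import Cfsg.Agent.Lib.Helper15.QuadClass
import Cfsg.Agent.Lib.Helper18.OSubGF

/-!
helper8: leaf K3b (`exists_pairs_fix`) of helper19's S5702 round-2 market (`notes/S5702_leaves.lean`), in
core form (the conclusion of K3b0 `finrank_fix_rat` as a hypothesis): two orthogonal rational hyperbolic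
pairs fixed by a rationally acting isometry with a large fixed space.
-/

set_option autoImplicit false
set_option linter.unusedSectionVars false
set_option linter.unusedVariables false

namespace Cfsg.Agent.Lib.Helper8.OSubLeaf19
open Cfsg Matrix QuadraticMap Module Cfsg.Agent.Lib.Helper19.OSub

variable {ι : Type} [Fintype ι] [DecidableEq ι] {F : Type*} [Field F] [Fintype F]
  {F₀ : Subfield F} {Q : QuadraticForm F (ι → F)}

/-- a nondegenerate complement of the radical of a subspace -/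
theorem exists_nd_compl {K V : Type*} [Field K] [AddCommGroup V] [Module K V]
    [FiniteDimensional K V] (D : QuadraticForm K V) (hD : (polarBilin D).Nondegenerate)
    (W : Submodule K V) :
    ∃ W' : Submodule K V, W' ≤ W ∧ Cfsg.Agent.Lib.Helper15.NdOn D W' ∧
      finrank K W + finrank K W ≤ finrank K V + finrank K W' := by
  set B := polarBilin D with hB
  set Wp := LinearMap.BilinForm.orthogonal B W with hWp
  set R := W ⊓ Wp with hR
  obtain ⟨C, hC⟩ := Submodule.exists_isCompl R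
  refine ⟨W ⊓ C, inf_le_left, ?_, ?_⟩
  · intro x hx hall
    have hxW : x ∈ W := hx.1
    have hsup : R ⊔ (W ⊓ C) = W := by
      have h1 : R ⊔ C ⊓ W = (R ⊔ C) ⊓ W := (sup_inf_assoc_of_le C (inf_le_left : R ≤ W)).symm
      rw [inf_comm W C, h1, hC.sup_eq_top, top_inf_eq]
    have hxWp : x ∈ Wp := by
      rw [hWp, LinearMap.BilinForm.mem_orthogonal_iff]
      intro n hn
      rw [← hsup] at hn
      obtain ⟨r, hr, y, hy, rfl⟩ := Submodule.mem_sup.mp hn
      have e1 : polar D r x = 0 := by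
        have hrWp : r ∈ Wp := hr.2
        rw [hWp, LinearMap.BilinForm.mem_orthogonal_iff] at hrWp
        have := hrWp x hxW
        rw [hB, polarBilin_apply_apply] at this
        rw [polar_comm]
        exact this
      have e2 : polar D y x = 0 := by
        rw [polar_comm]
        exact hall y hy
      rw [hB, polarBilin_apply_apply, polar_add_left, e1, e2, add_zero]
    have hxR : x ∈ R := ⟨hxW, hxWp⟩
    have : x ∈ R ⊓ C := ⟨hxR, hx.2⟩
    rw [hC.inf_eq_bot] at this
    exact (Submodule.mem_bot K).mp this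
  · have hsup : R ⊔ (W ⊓ C) = W := by
      have h1 : R ⊔ C ⊓ W = (R ⊔ C) ⊓ W := (sup_inf_assoc_of_le C (inf_le_left : R ≤ W)).symm
      rw [inf_comm W C, h1, hC.sup_eq_top, top_inf_eq]
    have hinf : R ⊓ (W ⊓ C) = ⊥ := by
      apply le_bot_iff.mp
      rw [← hC.inf_eq_bot]
      exact inf_le_inf_left R inf_le_right
    have hdim := Submodule.finrank_sup_add_finrank_inf_eq R (W ⊓ C)
    rw [hsup, hinf, finrank_bot, add_zero] at hdim
    have hRle : finrank K R ≤ finrank K Wp := Submodule.finrank_mono inf_le_right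
    have hWpdim : finrank K Wp = finrank K V - finrank K W :=
      LinearMap.BilinForm.finrank_orthogonal hD W
    have hWle : finrank K W ≤ finrank K V := Submodule.finrank_le W
    omega

/-- LEAF K3b, core form: `K` is the conclusion of K3b0 (`finrank_fix_rat`) -/
theorem exists_pairs_fix_core (h : QCtx F₀ Q) {z : GL ι F}
    (K : ∃ W : Submodule F₀ (ι → F₀), (∀ u, u ∈ W ↔ mv z (up F₀ u) = up F₀ u) ∧
      finrank F (Eig z 1) ≤ finrank F₀ W)
    (hfix : Fintype.card ι ≤ finrank F (Eig z 1) + 4) :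
    ∃ d₁ d₁' d₂ d₂' : ι → F, HypPair F₀ Q d₁ d₁' ∧ HypPair F₀ Q d₂ d₂' ∧
      polar Q d₁ d₂ = 0 ∧ polar Q d₁ d₂' = 0 ∧ polar Q d₁' d₂ = 0 ∧ polar Q d₁' d₂' = 0 ∧
      mv z d₁ = d₁ ∧ mv z d₁' = d₁' ∧ mv z d₂ = d₂ ∧ mv z d₂' = d₂' := by
  obtain ⟨W, hW, hdim⟩ := K
  obtain ⟨W', hW'W, hnd, hd⟩ := exists_nd_compl (Q0 h) (Q0_nondeg h) W
  have hn : finrank F₀ (ι → F₀) = Fintype.card ι := Module.finrank_fintype_fun_eq_card F₀
  have hcard := h.card
  have h5 : 2 * 2 + 1 ≤ finrank F₀ W' := by omega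
  obtain ⟨e, f, heW, hfW, hQe, hQf, hee, hff, hef⟩ :=
    Cfsg.Agent.Lib.Helper18.OSubLeaf.exists_frame_in (Q0 h) 2 W' hnd h5
  have hp : ∀ i, HypPair F₀ Q (up F₀ (e i)) (up F₀ (f i)) := fun i =>
    ⟨ratV_up _, ratV_up _, (Q0_eq_zero h _).mp (hQe i), (Q0_eq_zero h _).mp (hQf i),
      (polar_Q0_eq_one h _ _).mp (by rw [hef i i, if_pos rfl])⟩
  refine ⟨up F₀ (e 0), up F₀ (f 0), up F₀ (e 1), up F₀ (f 1), hp 0, hp 1, ?_, ?_, ?_, ?_,
    (hW _).mp (hW'W (heW 0)), (hW _).mp (hW'W (hfW 0)), (hW _).mp (hW'W (heW 1)),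
    (hW _).mp (hW'W (hfW 1))⟩
  · exact (polar_Q0_eq_zero h _ _).mp (hee 0 1)
  · exact (polar_Q0_eq_zero h _ _).mp (by rw [hef 0 1]; simp)
  · rw [polar_comm]
    exact (polar_Q0_eq_zero h _ _).mp (by rw [hef 1 0]; simp)
  · exact (polar_Q0_eq_zero h _ _).mp (hff 0 1)

end Cfsg.Agent.Lib.Helper8.OSubLeaf19
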