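import Mathlib
import Cfsg.Agent.Lib.Helper8.OSubK3b
import Cfsg.Agent.Lib.Helper12.OSubK3b0

/-!
helper8: leaf K3b (`exists_pairs_fix`) of helper19's S5702 round-2 market, EXACT signature: the core form
`exists_pairs_fix_core` on helper12's K3b0 (`finrank_fix_rat`).
-/

set_option autoImplicit false
set_option linter.unusedSectionVars false
set_option linter.unusedVariables false

namespace Cfsg.Agent.Lib.Helper8.OSubLeaf19
open Cfsg Matrix QuadraticMap Module Cfsg.Agent.Lib.Helper19.OSub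

variable {ι : Type} [Fintype ι] [DecidableEq ι] {F : Type*} [Field F] [Fintype F]
  {F₀ : Subfield F} {Q : QuadraticForm F (ι → F)}

/-- LEAF K3b -/
theorem exists_pairs_fix (h : QCtx F₀ Q) {z : GL ι F} (hz : RatInv F₀ Q z)
    (hfix : Fintype.card ι ≤ finrank F (Eig z 1) + 4) :
    ∃ d₁ d₁' d₂ d₂' : ι → F, HypPair F₀ Q d₁ d₁' ∧ HypPair F₀ Q d₂ d₂' ∧
      polar Q d₁ d₂ = 0 ∧ polar Q d₁ d₂' = 0 ∧ polar Q d₁' d₂ = 0 ∧ polar Q d₁' d₂' = 0 ∧
      mv z d₁ = d₁ ∧ mv z d₁' = d₁' ∧ mv z d₂ = d₂ ∧ mv z d₂' = d₂' :=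
  exists_pairs_fix_core h (Cfsg.Agent.Lib.Helper12.OSubLeaf.finrank_fix_rat hz.rat) hfix

end Cfsg.Agent.Lib.Helper8.OSubLeaf19
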