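import Mathlib
import Cfsg.Prelude.Def_BlockRank
import Cfsg.Agent.Lib.Helper27.DODefs
import Cfsg.Agent.Lib.Helper27.BlkAlgDefs2
import Cfsg.Agent.Lib.Helper16.DOSETUP
import Cfsg.Agent.Lib.Helper16.DOINERT
import Cfsg.Agent.Lib.Helper9.DOBase
import Cfsg.Agent.Lib.Helper9.DODEG
import Cfsg.Agent.Lib.Helper9.DODEGY

/-!
# S4503 part E market, leaf BRE-RESY (helper8)

The values of an exceptional row of a block of defect one on `P = ⟨x0⟩`:
`χ(x0^j) = ε θ(1) ∑_{w ∈ F} ζ^{(w i) j}`, `F` the image of `N_G(P)` in `(ℤ/p)ˣ`.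
-/

set_option autoImplicit false

namespace Cfsg.Agent.Lib.Helper8.BRERESY

open Cfsg Cfsg.Agent.Lib.Helper8.DOM Cfsg.Agent.Lib.Helper27.DO Cfsg.Agent.Lib.Helper27.BlkAlg
open Cfsg.Agent.Lib.Helper9.DOBase Cfsg.Agent.Lib.Helper9.DODEG Cfsg.Agent.Lib.Helper9.DODEGY
open Cfsg.Agent.Lib.Helper16.DOSETUP
open scoped ComplexConjugate

universe u

/-- summation along a homomorphism of finite groups -/
theorem sum_comp_hom {N H : Type*} [Group N] [Fintype N] [Group H] [Fintype H] [DecidableEq H]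
    (ψ : N →* H) (g : H → ℂ) :
    ∑ n : N, g (ψ n) = (Nat.card ψ.ker : ℂ) * ∑ w : H, if w ∈ ψ.range then g w else 0 := by
  classical
  rw [← Finset.sum_fiberwise (s := Finset.univ) (g := fun n => ψ n) (f := fun n => g (ψ n)),
    Finset.mul_sum]
  apply Finset.sum_congr rfl
  intro w _
  have h1 : ∀ n ∈ Finset.univ.filter (fun n : N => ψ n = w), g (ψ n) = g w := by
    intro n hn
    rw [(Finset.mem_filter.mp hn).2]
  rw [Finset.sum_congr rfl h1, Finset.sum_const, nsmul_eq_mul]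
  by_cases hw : w ∈ ψ.range
  · rw [if_pos hw]
    congr 2
    have h2 := MonoidHom.card_fiber_eq_of_mem_range ψ (x := w) (y := 1)
      (by obtain ⟨n, hn⟩ := hw; exact ⟨n, hn⟩) ⟨1, map_one ψ⟩
    rw [h2, Nat.card_eq_fintype_card, Fintype.card_subtype]
    congr 1
    ext x
    simp [MonoidHom.mem_ker]
  · rw [if_neg hw, mul_zero]
    have : Finset.univ.filter (fun n : N => ψ n = w) = ∅ := by
      rw [Finset.filter_eq_empty_iff]
      intro n _ h
      exact hw ⟨n, h⟩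
    rw [this, Finset.card_empty, Nat.cast_zero, zero_mul]

section grp

variable {G : Type u} [Group G] [Finite G] {p : ℕ} [Fact p.Prime]

/-- the action of `N_G(P)` on `P = ⟨x0⟩` as a homomorphism to `(ℤ/p)ˣ`, with kernel `C_G(P)`
(after helper16's `DOSETUP.exists_E`). -/
theorem exists_hom (P : Subgroup G) (hP : Nat.card P = p) (x0 : G) (hx0 : P = Subgroup.zpowers x0) :
    ∃ ψ : Nz P →* (ZMod p)ˣ,
      (∀ n : Nz P, (n : G) * x0 * (n : G)⁻¹ = x0 ^ ((ψ n : (ZMod p)ˣ) : ZMod p).val) ∧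
      ψ.ker = (Cz P).subgroupOf (Nz P) := by
  have hp : p.Prime := Fact.out
  have hord : orderOf x0 = p := by
    rw [← Nat.card_zpowers, ← hx0, hP]
  have hx0P : x0 ∈ P := by rw [hx0]; exact Subgroup.mem_zpowers x0
  have hex : ∀ n : Nz P, ∃ k : ZMod p, (n : G) * x0 * (n : G)⁻¹ = x0 ^ k.val := by
    intro n
    have hmem : (n : G) * x0 * (n : G)⁻¹ ∈ P := (Subgroup.mem_normalizer_iff.mp n.2 x0).mp hx0P
    have hmem' : (n : G) * x0 * (n : G)⁻¹ ∈ Subgroup.zpowers x0 := by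
      rw [← hx0]
      exact hmem
    exact exists_pow_val hord hmem'
  choose f hf using hex
  have hf1 : f 1 = 1 := by
    apply pow_val_injective hord
    rw [← hf 1, ZMod.val_one]
    simp
  have hfmul : ∀ a b : Nz P, f (a * b) = f a * f b := by
    intro a b
    apply pow_val_injective hord
    rw [← hf (a * b), pow_val_mul hord, ← hf a]
    have : ((a * b : Nz P) : G) * x0 * ((a * b : Nz P) : G)⁻¹ =
        (a : G) * ((b : G) * x0 * (b : G)⁻¹) * (a : G)⁻¹ := by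
      rw [Subgroup.coe_mul]; group
    rw [this, hf b, conj_pow]
  let f' : Nz P →* ZMod p := { toFun := f, map_one' := hf1, map_mul' := hfmul }
  let ψ : Nz P →* (ZMod p)ˣ := f'.toHomUnits
  have hψ : ∀ n : Nz P, ((ψ n : (ZMod p)ˣ) : ZMod p) = f n := fun n => rfl
  refine ⟨ψ, fun n => by rw [hψ]; exact hf n, ?_⟩
  ext n
  rw [MonoidHom.mem_ker, Subgroup.mem_subgroupOf]
  constructor
  · intro h1
    have h2 : f n = 1 := by rw [← hψ, h1]; rfl
    have h3 := hf n
    rw [h2, ZMod.val_one, pow_one] at h3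
    rw [Subgroup.mem_centralizer_iff]
    intro y hy
    rw [SetLike.mem_coe, hx0] at hy
    obtain ⟨m, rfl⟩ := Subgroup.mem_zpowers_iff.mp hy
    have hc : Commute x0 (n : G) := by
      show x0 * (n : G) = (n : G) * x0
      calc x0 * (n : G) = ((n : G) * x0 * (n : G)⁻¹) * (n : G) := by rw [h3]
        _ = (n : G) * x0 := by group
    exact (hc.zpow_left m)
  · intro h1
    apply Units.ext
    rw [hψ]
    apply pow_val_injective hord
    rw [← hf n]
    have h2 := (Subgroup.mem_centralizer_iff.mp h1) x0 hx0P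
    show (n : G) * x0 * (n : G)⁻¹ = x0 ^ ((1 : (ZMod p)ˣ) : ZMod p).val
    rw [Units.val_one, ZMod.val_one, pow_one, ← h2]
    group

end grp

section data

variable {G : Type u} [Group G] [Finite G] {p : ℕ} [Fact p.Prime] {M : Ideal AlgInt}
  {P : Subgroup G} {B : Set (IrrCharacter G)} {θ : IrrCharacter (Cz P)} {T : Subgroup G} {x0 : G}
  {E : Subgroup (ZMod p)ˣ} {μ : IrrCharacter G → ZMod p → ℤ} {D : IrrCharacter G → G → ℂ}

/-- RESY : the values of an exceptional row on `P`. -/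
theorem apply_pow_of_row (d : GSData p P B θ T x0 E μ D) (hP : Nat.card P = p)
    (hT : IsInertia P (θ : Cz P → ℂ) T) (F : Subgroup (ZMod p)ˣ)
    (hF : ∀ u : (ZMod p)ˣ, u ∈ F ↔ ∃ n ∈ Nz P, n * x0 * n⁻¹ = x0 ^ (u : ZMod p).val)
    (χ : IrrCharacter G) (hχ : χ ∈ B) (i : (ZMod p)ˣ) (ε : ℤ)
    (hrow : ∀ k : (ZMod p)ˣ, (k * i⁻¹ ∈ E → μ χ k - μ χ 0 = ε) ∧ (k * i⁻¹ ∉ E → μ χ k - μ χ 0 = 0))
    (j : ℕ) (hj : ¬ p ∣ j) :
    (χ : G → ℂ) (x0 ^ j) = (ε : ℂ) * (charDegree (θ : Cz P → ℂ) : ℂ) *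
      ∑ᶠ w ∈ (F : Set (ZMod p)ˣ), zetaP p ^ (((w : ZMod p) * (i : ZMod p)).val * j) := by
  classical
  have : Fintype (Nz P) := Fintype.ofFinite _
  have hp : p.Prime := Fact.out
  have hord : orderOf x0 = p := orderOf_x0 d hP
  have hζ : IsPrimitiveRoot (zetaP p) p := zetaP_prim
  obtain ⟨hCT, hTN⟩ := Cfsg.Agent.Lib.Helper16.DOINERT.le_of_isInertia P θ T hT
  obtain ⟨ψ, hψ, hker⟩ := exists_hom P hP x0 d.gen
  have hrange : ∀ w : (ZMod p)ˣ, w ∈ ψ.range ↔ w ∈ F := by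
    intro w
    rw [hF]
    constructor
    · rintro ⟨n, rfl⟩
      exact ⟨n, n.2, hψ n⟩
    · rintro ⟨n, hn, h⟩
      refine ⟨⟨n, hn⟩, ?_⟩
      apply Units.ext
      apply pow_val_injective hord
      rw [← hψ ⟨n, hn⟩]
      exact h
  have hEF : ∀ e : (ZMod p)ˣ, e ∈ E → e ∈ F := by
    intro u hu
    rw [d.memE] at hu
    obtain ⟨n, hn, h⟩ := hu
    rw [hF]
    exact ⟨n, hTN hn, h⟩
  have hx0P : x0 ∈ P := by rw [d.gen]; exact Subgroup.mem_zpowers x0
  rw [apply_of_mem d χ hχ (x0 ^ j) (P.pow_mem hx0P j) (pow_ne_one d hP j hj)]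
  -- the values of `D χ` on the conjugates
  have hD : ∀ n : Nz P, D χ ((n : G) * x0 ^ j * (n : G)⁻¹) =
      (fun v : (ZMod p)ˣ => ∑ u' : (ZMod p)ˣ, ((μ χ u' - μ χ 0 : ℤ) : ℂ) *
        zetaP p ^ ((u' : ZMod p) * (v : ZMod p) * (j : ZMod p)).val) (ψ n) := by
    intro n
    have h1 : (n : G) * x0 ^ j * (n : G)⁻¹ = x0 ^ (((ψ n : (ZMod p)ˣ) : ZMod p).val * j) := by
      rw [pow_mul, ← hψ n, conj_pow]
    have h2 : ¬ p ∣ ((ψ n : (ZMod p)ˣ) : ZMod p).val * j := by
      intro h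
      rcases (Nat.Prime.dvd_mul hp).mp h with h | h
      · exact not_dvd_val _ h
      · exact hj h
    rw [h1, D_pow d χ _ h2]
    apply Finset.sum_congr rfl
    intro u' _
    congr 3
    push_cast
    rw [ZMod.natCast_zmod_val]
    ring
  rw [Finset.sum_congr rfl (fun n _ => hD n), sum_comp_hom ψ
    (fun v : (ZMod p)ˣ => ∑ u' : (ZMod p)ˣ, ((μ χ u' - μ χ 0 : ℤ) : ℂ) *
        zetaP p ^ ((u' : ZMod p) * (v : ZMod p) * (j : ZMod p)).val)]
  -- the inner sums
  set S : ℂ := ∑ w : (ZMod p)ˣ,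
    if w ∈ F then zetaP p ^ ((w : ZMod p) * (i : ZMod p) * (j : ZMod p)).val else 0 with hS
  have hinner : ∑ w : (ZMod p)ˣ, (if w ∈ ψ.range then
      ∑ u' : (ZMod p)ˣ, ((μ χ u' - μ χ 0 : ℤ) : ℂ) *
        zetaP p ^ ((u' : ZMod p) * (w : ZMod p) * (j : ZMod p)).val else 0) =
      (ε : ℂ) * (Nat.card E : ℂ) * S := by
    have h1 : ∀ w : (ZMod p)ˣ, (if w ∈ ψ.range then
        ∑ u' : (ZMod p)ˣ, ((μ χ u' - μ χ 0 : ℤ) : ℂ) *
          zetaP p ^ ((u' : ZMod p) * (w : ZMod p) * (j : ZMod p)).val else 0) =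
        ∑ u' : (ZMod p)ˣ, ((μ χ u' - μ χ 0 : ℤ) : ℂ) *
          (if w ∈ F then zetaP p ^ ((u' : ZMod p) * (w : ZMod p) * (j : ZMod p)).val else 0) := by
      intro w
      by_cases hw : w ∈ F
      · rw [if_pos ((hrange w).mpr hw)]
        simp only [if_pos hw]
      · rw [if_neg (fun h => hw ((hrange w).mp h))]
        simp only [if_neg hw, mul_zero, Finset.sum_const_zero]
    rw [Finset.sum_congr rfl (fun w _ => h1 w), Finset.sum_comm]
    -- for each `u'`
    have h2 : ∀ u' : (ZMod p)ˣ, ∑ w : (ZMod p)ˣ, ((μ χ u' - μ χ 0 : ℤ) : ℂ) *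
        (if w ∈ F then zetaP p ^ ((u' : ZMod p) * (w : ZMod p) * (j : ZMod p)).val else 0) =
        (if u' * i⁻¹ ∈ E then (ε : ℂ) else 0) * S := by
      intro u'
      rw [← Finset.mul_sum]
      by_cases hu : u' * i⁻¹ ∈ E
      · rw [if_pos hu, (hrow u').1 hu]
        congr 1
        -- reindex by `w ↦ (u' i⁻¹) w`
        have heF : u' * i⁻¹ ∈ F := hEF _ hu
        rw [hS]
        symm
        rw [← Equiv.sum_comp (Equiv.mulLeft (u' * i⁻¹))]
        apply Finset.sum_congr rfl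
        intro w _
        have hiff : (Equiv.mulLeft (u' * i⁻¹)) w ∈ F ↔ w ∈ F := by
          rw [Equiv.coe_mulLeft]
          exact Subgroup.mul_mem_cancel_left F heF
        by_cases hw : w ∈ F
        · rw [if_pos hw, if_pos (hiff.mpr hw)]
          congr 2
          rw [Equiv.coe_mulLeft]
          push_cast
          have : ((i : ZMod p))⁻¹ * (i : ZMod p) = 1 := inv_mul_cancel₀ (Units.ne_zero i)
          calc (u' : ZMod p) * ((i : ZMod p))⁻¹ * (w : ZMod p) * (i : ZMod p) * (j : ZMod p)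
              = (u' : ZMod p) * (w : ZMod p) * (j : ZMod p) *
                (((i : ZMod p))⁻¹ * (i : ZMod p)) := by ring
            _ = (u' : ZMod p) * (w : ZMod p) * (j : ZMod p) := by rw [this, mul_one]
        · rw [if_neg hw, if_neg (fun h => hw (hiff.mp h))]
      · rw [if_neg hu, (hrow u').2 hu]
        simp
    rw [Finset.sum_congr rfl (fun u' _ => h2 u'), ← Finset.sum_mul]
    congr 1
    -- the number of `u'` with `u' i⁻¹ ∈ E`
    have h3 : ∀ u' : (ZMod p)ˣ, (if u' * i⁻¹ ∈ E then (ε : ℂ) else 0) =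
        (fun w : (ZMod p)ˣ => if w ∈ E then (ε : ℂ) else 0) (Equiv.mulRight i⁻¹ u') := by
      intro u'
      rfl
    rw [Finset.sum_congr rfl (fun u' _ => h3 u'),
      Equiv.sum_comp (Equiv.mulRight i⁻¹) (fun w : (ZMod p)ˣ => if w ∈ E then (ε : ℂ) else 0),
      Finset.sum_ite, Finset.sum_const, Finset.sum_const_zero, add_zero, nsmul_eq_mul]
    have h4 : (Finset.univ.filter (fun w : (ZMod p)ˣ => w ∈ E)).card = Nat.card E := by
      rw [Nat.card_eq_fintype_card, Fintype.card_subtype]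
    rw [h4]
    ring
  rw [hinner]
  -- the cardinalities
  have hkercard : Nat.card ψ.ker = Nat.card (Cz P) := by
    rw [hker]
    exact Nat.card_congr
      (Subgroup.subgroupOfEquivOfLe (Subgroup.centralizer_le_normalizer (P : Set G))).toEquiv
  have hTcard : Nat.card T = Nat.card E * Nat.card (Cz P) := by
    rw [d.cardE]
    exact card_eq_relIndex_mul hCT
  have hC0 : (Nat.card (Cz P) : ℂ) ≠ 0 := Nat.cast_ne_zero.mpr Nat.card_pos.ne'
  have hE0 : (Nat.card E : ℂ) ≠ 0 := Nat.cast_ne_zero.mpr Nat.card_pos.ne'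
  -- the final sum
  have hfin : ∑ᶠ w ∈ (F : Set (ZMod p)ˣ), zetaP p ^ (((w : ZMod p) * (i : ZMod p)).val * j) = S := by
    rw [finsum_mem_def, finsum_eq_sum_of_fintype, hS]
    apply Finset.sum_congr rfl
    intro w _
    rw [Set.indicator_apply]
    by_cases hw : w ∈ F
    · rw [if_pos hw, if_pos (show w ∈ (F : Set (ZMod p)ˣ) from hw)]
      rw [pow_eq_pow_mod (((w : ZMod p) * (i : ZMod p)).val * j) hζ.pow_eq_one, ZMod.val_mul
        ((w : ZMod p) * (i : ZMod p)) (j : ZMod p), ZMod.val_natCast]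
      congr 1
      exact (Nat.mul_mod_mod _ _ _).symm
    · rw [if_neg hw, if_neg (show ¬ w ∈ (F : Set (ZMod p)ˣ) from hw)]
  rw [hfin, hkercard, hTcard]
  push_cast
  field_simp

end data

end Cfsg.Agent.Lib.Helper8.BRERESY
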