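import Mathlib
import Cfsg.Agent.Lib.Helper1.TraceIdentity
import Cfsg.Agent.Lib.Helper12.Basic
import Cfsg.Agent.Lib.Helper20.NormalRankTwoB

/-!
# Half-transitive `p`-groups of automorphisms of elementary abelian groups (odd `p`)

A `p`-group (`p` odd) acting faithfully on an elementary abelian `q`-group such that all nonzero
vectors have stabilizers of the same order is cyclic and acts semiregularly.
-/

set_option autoImplicit false

namespace Cfsg.Agent.Lib.Helper8

open Finset

section
variable {P E : Type*} [Group P] [AddCommGroup E] [DistribMulAction P E]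

/-- the trace of `e` under `g` (sum over `p` powers) -/
def trS (p : ℕ) (g : P) (e : E) : E := ∑ i ∈ range p, g ^ i • e

theorem trS_fixed {p : ℕ} {g : P} (hg : g ^ p = 1) (e : E) : g • trS p g e = trS p g e := by
  unfold trS
  rw [smul_sum]
  have h1 : ∀ i ∈ range p, g • g ^ i • e = g ^ (i + 1) • e := by
    intro i _
    rw [smul_smul, ← pow_succ']
  rw [sum_congr rfl h1, sum_range_succ_comm_aux]
where
  sum_range_succ_comm_aux : ∑ i ∈ range p, g ^ (i + 1) • e = ∑ i ∈ range p, g ^ i • e := by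
    have h2 := sum_range_succ (fun i => g ^ i • e) p
    have h3 := sum_range_succ' (fun i => g ^ i • e) p
    rw [h2] at h3
    simp only [pow_zero, one_smul, hg] at h3
    exact (add_right_cancel h3).symm

theorem trS_of_fixed {p : ℕ} {g : P} {e : E} (h : g • e = e) : trS p g e = p • e := by
  unfold trS
  have h0 : ∀ i : ℕ, g ^ i • e = e := by
    intro i
    induction i with
    | zero => simp
    | succ n ih => rw [pow_succ, mul_smul, h, ih]
  rw [sum_congr rfl (fun i _ => h0 i), sum_const, card_range]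

theorem trS_comm {p : ℕ} {g h : P} (hc : Commute h g) (e : E) :
    h • trS p g e = trS p g (h • e) := by
  unfold trS
  rw [smul_sum]
  apply sum_congr rfl
  intro i _
  rw [smul_smul, smul_smul, (hc.pow_right i).eq]

theorem trS_add (p : ℕ) (g : P) (e f : E) : trS p g (e + f) = trS p g e + trS p g f := by
  unfold trS
  rw [← sum_add_distrib]
  apply sum_congr rfl
  intro i _
  rw [smul_add]

theorem trS_sub_self {p : ℕ} {g : P} (hg : g ^ p = 1) (b : E) : trS p g (g • b - b) = 0 := by
  have h1 : trS p g (g • b - b) + trS p g b = trS p g (g • b) := by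
    rw [← trS_add, sub_add_cancel]
  have h2 : trS p g (g • b) = trS p g b := by
    rw [← trS_comm (Commute.refl g), trS_fixed hg]
  rw [h2] at h1
  exact add_eq_right.mp h1

theorem trS_conj {p : ℕ} (g h : P) (e : E) :
    trS p (h * g * h⁻¹) e = h • trS p g (h⁻¹ • e) := by
  unfold trS
  rw [smul_sum]
  apply sum_congr rfl
  intro i _
  rw [smul_smul, smul_smul, conj_pow]

/-- `p` is invertible on an elementary abelian `q`-group, `q ≠ p`. -/
theorem eq_zero_of_nsmul_eq_zero {p q : ℕ} (hp : p.Prime) (hq : q.Prime) (hpq : p ≠ q)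
    (hE : ∀ e : E, q • e = 0) {e : E} (h : p • e = 0) : e = 0 := by
  have hcop : Nat.Coprime p q := (Nat.coprime_primes hp hq).mpr hpq
  have h1 : (Int.gcd p q : ℤ) = p * Int.gcdA p q + q * Int.gcdB p q := Int.gcd_eq_gcd_ab p q
  have h2 : Int.gcd (p : ℤ) (q : ℤ) = 1 := by
    rw [Int.gcd_natCast_natCast]; exact hcop
  rw [h2] at h1
  have h3 : e = ((p : ℤ) * Int.gcdA p q + (q : ℤ) * Int.gcdB p q) • e := by
    rw [← h1]; simp
  rw [h3, add_smul, mul_comm, mul_smul, mul_comm (q : ℤ), mul_smul, natCast_zsmul, natCast_zsmul,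
    h, hE, smul_zero, smul_zero, add_zero]

end

section
variable {P E : Type*} [Group P] [Finite P] [AddCommGroup E] [DistribMulAction P E]
  [FaithfulSMul P E]

theorem smul_nsmul' (g : P) (n : ℕ) (e : E) : g • (n • e) = n • (g • e) :=
  (DistribSMul.toAddMonoidHom E g).map_nsmul n e

/-- A central element of order `p` of a half-transitive group fixes no nonzero vector. -/
theorem fpf_of_central {p q : ℕ} (hp : p.Prime) (hq : q.Prime) (hpq : p ≠ q)
    (hE : ∀ e : E, q • e = 0)
    (hconst : ∀ a b : E, a ≠ 0 → b ≠ 0 →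
      Nat.card (MulAction.stabilizer P a) = Nat.card (MulAction.stabilizer P b))
    {z : P} (hzc : z ∈ Subgroup.center P) (hzp : z ^ p = 1) (hz1 : z ≠ 1) {a : E}
    (ha : z • a = a) : a = 0 := by
  by_contra ha0
  obtain ⟨b, hb⟩ : ∃ b : E, z • b ≠ b := by
    by_contra h
    push Not at h
    exact hz1 (FaithfulSMul.eq_of_smul_eq_smul (α := E) (fun b => by rw [h b, one_smul]))
  set c := z • b - b with hc
  have hc0 : c ≠ 0 := sub_ne_zero.mpr hb
  have hTc : trS p z c = 0 := trS_sub_self hzp b
  have hzc' : z • c ≠ c := by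
    intro h
    have h1 := trS_of_fixed (p := p) h
    rw [hTc] at h1
    exact hc0 (eq_zero_of_nsmul_eq_zero hp hq hpq hE h1.symm)
  have hac : a + c ≠ 0 := by
    intro h
    have h1 : c = -a := (neg_eq_of_add_eq_zero_right h).symm
    apply hzc'
    rw [h1, smul_neg, ha]
  have hle : MulAction.stabilizer P (a + c) ≤ MulAction.stabilizer P a := by
    intro g hg
    rw [MulAction.mem_stabilizer_iff] at hg ⊢
    have hcomm : Commute g z := Subgroup.mem_center_iff.mp hzc g
    have h1 : g • trS p z (a + c) = trS p z (a + c) := by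
      rw [trS_comm hcomm, hg]
    rw [trS_add, hTc, add_zero, trS_of_fixed ha, smul_nsmul'] at h1
    have h2 : p • (g • a - a) = 0 := by
      rw [smul_sub, h1, sub_self]
    exact sub_eq_zero.mp (eq_zero_of_nsmul_eq_zero hp hq hpq hE h2)
  have heq : MulAction.stabilizer P (a + c) = MulAction.stabilizer P a :=
    Subgroup.eq_of_le_of_card_ge hle (hconst (a + c) a hac ha0).ge
  have hz : z ∈ MulAction.stabilizer P (a + c) := by
    rw [heq]; exact ha
  rw [MulAction.mem_stabilizer_iff, smul_add, ha] at hz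
  exact hzc' (add_left_cancel hz)

end

/-- A `p`-element normalizing a subgroup of order `p` centralizes it. -/
theorem conj_eq_self_of_conj_mem_zpowers {P : Type*} [Group P] {p : ℕ} (hp : p.Prime)
    (hP : IsPGroup p P) {g y : P} (hy : y ^ p = 1) (h : g * y * g⁻¹ ∈ Subgroup.zpowers y) :
    g * y * g⁻¹ = y := by
  haveI : Fact p.Prime := ⟨hp⟩
  by_cases hy1 : y = 1
  · rw [hy1]; group
  have hord : orderOf y = p := orderOf_eq_prime hy hy1
  obtain ⟨k, hk⟩ := Subgroup.mem_zpowers_iff.mp h
  have hk' : y ^ (k % (orderOf y : ℤ)).toNat = g * y * g⁻¹ := by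
    rw [← zpow_natCast, Int.toNat_of_nonneg (Int.emod_nonneg _ (by
      rw [hord]; exact_mod_cast hp.ne_zero)), zpow_mod_orderOf, hk]
  set i := (k % (orderOf y : ℤ)).toNat with hi
  obtain ⟨m, hm⟩ := hP g
  have h1 := Cfsg.Agent.Lib.Helper20.conj_pow_eq_pow_pow y g i hk'.symm (p ^ m)
  rw [hm, one_mul, inv_one, mul_one] at h1
  have h2 : y ^ 1 = y ^ (i ^ p ^ m) := by rw [pow_one]; exact h1
  rw [pow_eq_pow_iff_modEq, hord] at h2
  have h3 : ((i ^ p ^ m : ℕ) : ZMod p) = ((1 : ℕ) : ZMod p) :=
    ((ZMod.natCast_eq_natCast_iff _ _ _).mpr h2).symm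
  rw [Nat.cast_pow, ZMod.pow_card_pow] at h3
  have h4 : i ≡ 1 [MOD p] := (ZMod.natCast_eq_natCast_iff _ _ _).mp h3
  rw [← hk']
  have h5 : y ^ i = y ^ 1 := by
    rw [pow_eq_pow_iff_modEq, hord]; exact h4
  rw [h5, pow_one]

section
variable {P E : Type*} [Group P] [Finite P] [AddCommGroup E] [DistribMulAction P E]
  [FaithfulSMul P E]

/-- the action as automorphisms of `Multiplicative E` -/
def toMulAutMult (P E : Type*) [Group P] [AddCommGroup E] [DistribMulAction P E] :
    P →* MulAut (Multiplicative E) where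
  toFun g :=
    { toFun := fun w => Multiplicative.ofAdd (g • Multiplicative.toAdd w)
      invFun := fun w => Multiplicative.ofAdd (g⁻¹ • Multiplicative.toAdd w)
      left_inv := fun w => by simp
      right_inv := fun w => by simp
      map_mul' := fun v w => by simp [smul_add] }
  map_one' := by
    ext w
    simp
  map_mul' g h := by
    ext w
    simp [mul_smul]

omit [Finite P] [FaithfulSMul P E] in
theorem toMulAutMult_apply (g : P) (w : Multiplicative E) :
    toMulAutMult P E g w = Multiplicative.ofAdd (g • Multiplicative.toAdd w) := rfl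

theorem odd_commute_of_sq_commute {p : ℕ} (hp : p.Prime) (hp2 : p ≠ 2) (hP : IsPGroup p P)
    {g x : P} (h : Commute (g ^ 2) x) : Commute g x := by
  obtain ⟨m, hm⟩ := hP g
  have hodd : Odd (p ^ m) := (hp.eq_two_or_odd'.resolve_left hp2).pow
  obtain ⟨k, hk⟩ := hodd
  have h1 : (g ^ 2) ^ (k + 1) = g := by
    rw [← pow_mul, show 2 * (k + 1) = (2 * k + 1) + 1 by ring, ← hk, pow_succ, hm, one_mul]
  rw [← h1]
  exact h.pow_left _

/-- **Half-transitive `p`-groups, `p` odd, are cyclic** (coprime case). -/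
theorem isCyclic_of_halfTransitive {p q : ℕ} (hp : p.Prime) (hp2 : p ≠ 2) (hP : IsPGroup p P)
    (hq : q.Prime) (hpq : p ≠ q) (hE : ∀ e : E, q • e = 0)
    (hconst : ∀ a b : E, a ≠ 0 → b ≠ 0 →
      Nat.card (MulAction.stabilizer P a) = Nat.card (MulAction.stabilizer P b)) :
    IsCyclic P := by
  classical
  by_contra hnc
  haveI : Fact p.Prime := ⟨hp⟩
  obtain ⟨M, hMn, hMc, hMexp, hMcard⟩ :=
    Cfsg.Agent.Lib.Helper20.exists_normal_elemAb_of_not_isCyclic hp2 hP hnc
  haveI := hMn
  have hMne : M ≠ ⊥ := by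
    intro h
    rw [h, Subgroup.card_bot] at hMcard
    have := hp.one_lt
    nlinarith
  obtain ⟨z, hzM, hz1, hzc⟩ := Cfsg.Agent.Lib.Helper12.exists_ne_one_mem_center_of_normal hP M hMne
  have hzp : z ^ p = 1 := hMexp z hzM
  have fz : ∀ a : E, z • a = a → a = 0 := fun a ha =>
    fpf_of_central hp hq hpq hE hconst hzc hzp hz1 ha
  have hMcomm : ∀ y y' : P, y ∈ M → y' ∈ M → Commute y y' := by
    intro y y' hy hy'
    have := hMc.is_comm.comm (⟨y, hy⟩ : M) ⟨y', hy'⟩
    exact congrArg Subtype.val this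
  -- two independent elements of `M` have no common nonzero fixed vector
  have FM : ∀ y y' : P, y ∈ M → y' ∈ M → y ≠ 1 → y' ∉ Subgroup.zpowers y →
      ∀ e : E, y • e = e → y' • e = e → e = 0 := by
    intro y y' hy hy' hy1 hy'n e he he'
    apply fz
    have hzy : Subgroup.zpowers y ≤ MulAction.stabilizer P e ⊓ M :=
      Subgroup.zpowers_le.mpr ⟨he, hy⟩
    have hcy : Nat.card (Subgroup.zpowers y) = p := by
      rw [Nat.card_zpowers]; exact orderOf_eq_prime (hMexp y hy) hy1
    have hlt : p < Nat.card ↥(MulAction.stabilizer P e ⊓ M) := by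
      rw [← hcy]
      apply lt_of_le_of_ne (Subgroup.card_le_of_le hzy)
      intro h
      apply hy'n
      rw [Subgroup.eq_of_le_of_card_ge hzy h.ge]
      exact ⟨he', hy'⟩
    have hdvd : Nat.card ↥(MulAction.stabilizer P e ⊓ M) ∣ p ^ 2 := by
      rw [← hMcard]; exact Subgroup.card_dvd_of_le inf_le_right
    obtain ⟨j, hj2, hj⟩ := (Nat.dvd_prime_pow hp).mp hdvd
    have hj' : j = 2 := by
      by_contra hne
      have hj1 : j ≤ 1 := by omega
      have : p ^ j ≤ p ^ 1 := Nat.pow_le_pow_right hp.pos hj1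
      rw [pow_one] at this
      omega
    rw [hj'] at hj
    have hFM : MulAction.stabilizer P e ⊓ M = M :=
      Subgroup.eq_of_le_of_card_ge inf_le_right (by rw [hj, hMcard])
    have : z ∈ MulAction.stabilizer P e ⊓ M := by rw [hFM]; exact hzM
    exact this.1
  -- an element of `M` outside `⟨z⟩`
  obtain ⟨x₀, hx₀M, hx₀z⟩ : ∃ x₀ ∈ M, x₀ ∉ Subgroup.zpowers z := by
    by_contra h
    push Not at h
    have h1 : Nat.card M ≤ Nat.card (Subgroup.zpowers z) := Subgroup.card_le_of_le h
    rw [hMcard, Nat.card_zpowers, orderOf_eq_prime hzp hz1] at h1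
    have := hp.one_lt
    nlinarith
  -- some element of `M` outside `⟨z⟩` has a nonzero fixed vector
  obtain ⟨x, hxM, hxz, b₀, hb₀0, hxb₀⟩ :
      ∃ x ∈ M, x ∉ Subgroup.zpowers z ∧ ∃ b₀ : E, b₀ ≠ 0 ∧ x • b₀ = b₀ := by
    by_contra hno
    push Not at hno
    have hE0 : ∀ v : E, v = 0 := by
      intro v
      have hcomm : toMulAutMult P E x₀ * toMulAutMult P E z =
          toMulAutMult P E z * toMulAutMult P E x₀ := by
        rw [← map_mul, ← map_mul, (hMcomm x₀ z hx₀M hzM).eq]
      have hα : toMulAutMult P E x₀ ^ p = 1 := by rw [← map_pow, hMexp x₀ hx₀M, map_one]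
      have hβ : toMulAutMult P E z ^ p = 1 := by rw [← map_pow, hzp, map_one]
      have hti := Cfsg.Agent.Lib.Helper1.trace_identity (toMulAutMult P E x₀) (toMulAutMult P E z)
        hcomm hα hβ (Multiplicative.ofAdd v)
      have hW : (⨆ j : ℕ, Cfsg.Agent.Lib.Helper1.fixSub
          (toMulAutMult P E x₀ * toMulAutMult P E z ^ j)) ⊔
          Cfsg.Agent.Lib.Helper1.fixSub (toMulAutMult P E z) = ⊥ := by
        rw [eq_bot_iff]
        refine sup_le (iSup_le fun j => ?_) ?_
        · intro w hw
          rw [Cfsg.Agent.Lib.Helper1.mem_fixSub, ← map_pow, ← map_mul, toMulAutMult_apply] at hw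
          have hw' : (x₀ * z ^ j) • Multiplicative.toAdd w = Multiplicative.toAdd w :=
            congrArg Multiplicative.toAdd hw
          have hmem : x₀ * z ^ j ∈ M := M.mul_mem hx₀M (M.pow_mem hzM j)
          have hnz : x₀ * z ^ j ∉ Subgroup.zpowers z := by
            intro h
            apply hx₀z
            have : x₀ = (x₀ * z ^ j) * (z ^ j)⁻¹ := by group
            rw [this]
            exact Subgroup.mul_mem _ h (Subgroup.inv_mem _ (Subgroup.pow_mem _
              (Subgroup.mem_zpowers z) j))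
          by_contra hw0
          have hw1 : Multiplicative.toAdd w ≠ 0 := fun h => hw0 (by
            rw [Subgroup.mem_bot]; exact Multiplicative.toAdd.injective h)
          exact hno _ hmem hnz _ hw1 hw'
        · intro w hw
          rw [Cfsg.Agent.Lib.Helper1.mem_fixSub, toMulAutMult_apply] at hw
          have hw' : z • Multiplicative.toAdd w = Multiplicative.toAdd w :=
            congrArg Multiplicative.toAdd hw
          rw [Subgroup.mem_bot]
          exact Multiplicative.toAdd.injective (fz _ hw')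
      rw [hW, Subgroup.mem_bot] at hti
      have hpv : p • v = 0 := by
        have := congrArg Multiplicative.toAdd hti
        simpa using this
      exact eq_zero_of_nsmul_eq_zero hp hq hpq hE hpv
    apply hnc
    have : Subsingleton P := by
      refine ⟨fun g h => ?_⟩
      apply FaithfulSMul.eq_of_smul_eq_smul (α := E)
      intro v
      rw [hE0 (g • v), hE0 (h • v)]
    exact isCyclic_of_subsingleton
  have hx1 : x ≠ 1 := fun h => hxz (h ▸ Subgroup.one_mem _)
  have hxp : x ^ p = 1 := hMexp x hxM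
  have hxnc : x ∉ Subgroup.center P := fun h =>
    hb₀0 (fpf_of_central hp hq hpq hE hconst h hxp hx1 hxb₀)
  obtain ⟨g, hg⟩ : ∃ g : P, g * x * g⁻¹ ≠ x := by
    by_contra h
    push Not at h
    apply hxnc
    rw [Subgroup.mem_center_iff]
    intro g
    have := h g
    calc g * x = (g * x * g⁻¹) * g := by group
      _ = x * g := by rw [this]
  have hx'M : g * x * g⁻¹ ∈ M := hMn.conj_mem x hxM g
  have hx'n : g * x * g⁻¹ ∉ Subgroup.zpowers x := fun h =>
    hg (conj_eq_self_of_conj_mem_zpowers hp hP hxp h)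
  have hx'1 : g * x * g⁻¹ ≠ 1 := by
    intro h
    apply hx1
    have : x = g⁻¹ * (g * x * g⁻¹) * g := by group
    rw [this, h]; group
  have hb₁0 : g • b₀ ≠ 0 := fun h => hb₀0 ((smul_eq_zero_iff_eq g).mp h)
  have hx'b₁ : (g * x * g⁻¹) • (g • b₀) = g • b₀ := by
    rw [smul_smul]
    have : g * x * g⁻¹ * g = g * x := by group
    rw [this, mul_smul, hxb₀]
  have hxb₁ : x • (g • b₀) ≠ g • b₀ := fun h =>
    hb₁0 (FM x _ hxM hx'M hx1 hx'n _ h hx'b₁)
  have hTxb₁ : trS p x (g • b₀) = 0 :=
    FM x _ hxM hx'M hx1 hx'n _ (trS_fixed hxp _) (by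
      rw [trS_comm (hMcomm _ _ hx'M hxM), hx'b₁])
  have hb0 : b₀ + g • b₀ ≠ 0 := by
    intro h
    apply hxb₁
    have h1 : g • b₀ = -b₀ := (neg_eq_of_add_eq_zero_right h).symm
    rw [h1, smul_neg, hxb₀]
  have hTxb : trS p x (b₀ + g • b₀) = p • b₀ := by
    rw [trS_add, hTxb₁, add_zero, trS_of_fixed hxb₀]
  have hstab0 : ∀ h : P, h • b₀ = b₀ → Commute h x := by
    intro h hh
    have h1 : (h * x * h⁻¹) • b₀ = b₀ := by
      have hinv : h⁻¹ • b₀ = b₀ := by
        conv_lhs => rw [← hh]
        rw [smul_smul, inv_mul_cancel, one_smul]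
      rw [mul_smul, mul_smul, hinv, hxb₀, hh]
    have h2 : h * x * h⁻¹ ∈ Subgroup.zpowers x := by
      by_contra hn
      exact hb₀0 (FM x _ hxM (hMn.conj_mem x hxM h) hx1 hn _ hxb₀ h1)
    have h3 := conj_eq_self_of_conj_mem_zpowers hp hP hxp h2
    show h * x = x * h
    calc h * x = (h * x * h⁻¹) * h := by group
      _ = x * h := by rw [h3]
  have hle : MulAction.stabilizer P (b₀ + g • b₀) ≤ MulAction.stabilizer P b₀ := by
    intro g' hg'
    rw [MulAction.mem_stabilizer_iff] at hg' ⊢
    have hg'inv : g'⁻¹ • (b₀ + g • b₀) = b₀ + g • b₀ := by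
      conv_lhs => rw [← hg']
      rw [smul_smul, inv_mul_cancel, one_smul]
    have hT : trS p (g' * x * g'⁻¹) (b₀ + g • b₀) = p • (g' • b₀) := by
      rw [trS_conj, hg'inv, hTxb, smul_nsmul']
    have hx''M : g' * x * g'⁻¹ ∈ M := hMn.conj_mem x hxM g'
    have hx''p : (g' * x * g'⁻¹) ^ p = 1 := hMexp _ hx''M
    by_cases hx'' : g' * x * g'⁻¹ ∈ Subgroup.zpowers x
    · have hx''e := conj_eq_self_of_conj_mem_zpowers hp hP hxp hx''
      rw [hx''e, hTxb] at hT
      have h2 : p • (g' • b₀ - b₀) = 0 := by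
        rw [smul_sub, ← hT, sub_self]
      exact sub_eq_zero.mp (eq_zero_of_nsmul_eq_zero hp hq hpq hE h2)
    · exfalso
      have h1 : trS p (g' * x * g'⁻¹) b₀ = 0 :=
        FM x _ hxM hx''M hx1 hx'' _ (by
          rw [trS_comm (hMcomm _ _ hxM hx''M), hxb₀]) (trS_fixed hx''p _)
      rw [trS_add, h1, zero_add] at hT
      by_cases hx''' : g' * x * g'⁻¹ ∈ Subgroup.zpowers (g * x * g⁻¹)
      · have hx''b₁ : (g' * x * g'⁻¹) • (g • b₀) = g • b₀ := by
          obtain ⟨k, hk⟩ := Subgroup.mem_zpowers_iff.mp hx'''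
          rw [← hk]
          have : g • b₀ ∈ MulAction.fixedBy E ((g * x * g⁻¹) ^ k) := by
            have h0 : (g * x * g⁻¹) ∈ MulAction.stabilizer P (g • b₀) := hx'b₁
            exact (Subgroup.zpow_mem _ h0 k)
          exact this
        rw [trS_of_fixed hx''b₁] at hT
        have h2 : p • (g' • b₀ - g • b₀) = 0 := by
          rw [smul_sub, ← hT, sub_self]
        have h3 : g' • b₀ = g • b₀ := sub_eq_zero.mp (eq_zero_of_nsmul_eq_zero hp hq hpq hE h2)
        have h4 : g' • (g • b₀) = b₀ := by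
          rw [smul_add, h3] at hg'
          have : g • b₀ + g' • g • b₀ = g • b₀ + b₀ := by rw [hg', add_comm]
          exact add_left_cancel this
        have h5 : (g' ^ 2) • b₀ = b₀ := by
          rw [pow_two, mul_smul, h3, h4]
        have h6 := odd_commute_of_sq_commute hp hp2 hP (hstab0 _ h5)
        apply hx''
        have : g' * x * g'⁻¹ = x := by
          rw [h6.eq]; group
        rw [this]
        exact Subgroup.mem_zpowers x
      · have h2 : trS p (g' * x * g'⁻¹) (g • b₀) = 0 :=
          FM _ _ hx'M hx''M hx'1 hx''' _ (by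
            rw [trS_comm (hMcomm _ _ hx'M hx''M), hx'b₁]) (trS_fixed hx''p _)
        rw [h2] at hT
        have h3 : g' • b₀ = 0 := eq_zero_of_nsmul_eq_zero hp hq hpq hE hT.symm
        exact hb₀0 ((smul_eq_zero_iff_eq g').mp h3)
  have heq : MulAction.stabilizer P (b₀ + g • b₀) = MulAction.stabilizer P b₀ :=
    Subgroup.eq_of_le_of_card_ge hle (hconst _ _ hb0 hb₀0).ge
  have hx : x ∈ MulAction.stabilizer P (b₀ + g • b₀) := by
    rw [heq]; exact hxb₀
  rw [MulAction.mem_stabilizer_iff, smul_add, hxb₀] at hx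
  exact hxb₁ (add_left_cancel hx)

end

section
variable {P E : Type*} [Group P] [Finite P] [AddCommGroup E] [Finite E] [DistribMulAction P E]
  [FaithfulSMul P E]

/-- The case `q = p`: the group is trivial. -/
theorem subsingleton_of_halfTransitive_same_prime {p : ℕ} (hp : p.Prime) (hP : IsPGroup p P)
    (hE : ∀ e : E, p • e = 0)
    (hconst : ∀ a b : E, a ≠ 0 → b ≠ 0 →
      Nat.card (MulAction.stabilizer P a) = Nat.card (MulAction.stabilizer P b)) :
    Subsingleton P := by
  classical
  haveI : Fact p.Prime := ⟨hp⟩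
  have htriv : ∀ (g : P) (v : E), g • v = v := by
    by_cases hsub : ∀ v : E, v = 0
    · intro g v; rw [hsub (g • v), hsub v]
    push Not at hsub
    obtain ⟨v₀, hv₀⟩ := hsub
    have hdvd : p ∣ Nat.card E := by
      have h1 : addOrderOf v₀ = p := addOrderOf_eq_prime (hE v₀) hv₀
      rw [← h1]; exact addOrderOf_dvd_natCard v₀
    have hmod := hP.card_modEq_card_fixedPoints E
    obtain ⟨a₀, ha₀f, ha₀0⟩ : ∃ a₀ ∈ MulAction.fixedPoints P E, a₀ ≠ 0 := by
      by_contra h
      push Not at h
      have hfp : MulAction.fixedPoints P E = {0} := by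
        ext a
        constructor
        · intro ha; exact h a ha
        · intro ha
          rw [Set.mem_singleton_iff] at ha
          rw [ha]
          intro g; exact smul_zero g
      have hc1 : Nat.card (({0} : Set E) : Type _) = 1 := by
        rw [Nat.card_eq_one_iff_unique]
        exact ⟨⟨fun a b => Subtype.ext (a.2.trans b.2.symm)⟩, ⟨⟨0, rfl⟩⟩⟩
      rw [hfp, hc1] at hmod
      have h1 : Nat.card E % p = 0 := Nat.mod_eq_zero_of_dvd hdvd
      have h2 : Nat.card E % p = 1 % p := hmod
      rw [h1, Nat.mod_eq_of_lt hp.one_lt] at h2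
      exact absurd h2 (by norm_num)
    have hstab : MulAction.stabilizer P a₀ = ⊤ := by
      rw [eq_top_iff]; intro g _; exact ha₀f g
    intro g v
    by_cases hv : v = 0
    · rw [hv, smul_zero]
    · have h1 := hconst v a₀ hv ha₀0
      rw [hstab] at h1
      have h2 : MulAction.stabilizer P v = ⊤ :=
        Subgroup.eq_of_le_of_card_ge le_top h1.ge
      have : g ∈ MulAction.stabilizer P v := by rw [h2]; exact Subgroup.mem_top g
      exact this
  refine ⟨fun g h => ?_⟩
  apply FaithfulSMul.eq_of_smul_eq_smul (α := E)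
  intro v
  rw [htriv g v, htriv h v]

/-- **Half-transitive `p`-groups (`p` odd) are cyclic and semiregular.** -/
theorem halfTransitive_main {p q : ℕ} (hp : p.Prime) (hp2 : p ≠ 2) (hP : IsPGroup p P)
    (hq : q.Prime) (hE : ∀ e : E, q • e = 0)
    (hconst : ∀ a b : E, a ≠ 0 → b ≠ 0 →
      Nat.card (MulAction.stabilizer P a) = Nat.card (MulAction.stabilizer P b)) :
    IsCyclic P ∧ ∀ g : P, g ≠ 1 → ∀ a : E, g • a = a → a = 0 := by
  by_cases hpq : p = q
  · subst hpq
    haveI := subsingleton_of_halfTransitive_same_prime hp hP hE hconst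
    exact ⟨isCyclic_of_subsingleton, fun g hg => absurd (Subsingleton.elim g 1) hg⟩
  have hcyc := isCyclic_of_halfTransitive hp hp2 hP hq hpq hE hconst
  refine ⟨hcyc, ?_⟩
  intro g hg1 a hga
  obtain ⟨c, hc⟩ := hcyc.exists_generator
  have hcenter : ∀ z : P, z ∈ Subgroup.center P := by
    intro z
    rw [Subgroup.mem_center_iff]
    intro h
    obtain ⟨i, rfl⟩ := Subgroup.mem_zpowers_iff.mp (hc h)
    obtain ⟨j, rfl⟩ := Subgroup.mem_zpowers_iff.mp (hc z)
    exact (Commute.zpow_zpow_self c i j).eq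
  obtain ⟨m, hm⟩ := hP g
  have hdvd : orderOf g ∣ p ^ m := orderOf_dvd_of_pow_eq_one hm
  obtain ⟨k, -, hk⟩ := (Nat.dvd_prime_pow hp).mp hdvd
  have hk0 : k ≠ 0 := by
    intro h0
    rw [h0, pow_zero, orderOf_eq_one_iff] at hk
    exact hg1 hk
  have hzp : (g ^ p ^ (k - 1)) ^ p = 1 := by
    rw [← pow_mul, ← pow_succ, show k - 1 + 1 = k by omega, ← hk, pow_orderOf_eq_one]
  have hz1 : g ^ p ^ (k - 1) ≠ 1 := by
    apply pow_ne_one_of_lt_orderOf (pow_pos hp.pos _).ne'
    rw [hk]
    exact Nat.pow_lt_pow_right hp.one_lt (by omega)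
  have hza : (g ^ p ^ (k - 1)) • a = a := by
    have : g ∈ MulAction.stabilizer P a := hga
    exact Subgroup.pow_mem _ this _
  exact fpf_of_central hp hq hpq hE hconst (hcenter _) hzp hz1 hza

end

end Cfsg.Agent.Lib.Helper8
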