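/-
helper8: S3341 (simple groups with self-centralizing elementary abelian Sylow 3-subgroup of order 9
and at least two classes of elements of order 3 are `A₆`): shared definitions for the group-theoretic
leaves and the character-theoretic core.
-/
import Mathlib

set_option autoImplicit false

namespace Cfsg.Agent.Lib.Helper8.S3341

variable {G : Type*} [Group G]

/-- element-level form of the hypotheses of S3341 on the Sylow 3-subgroup `T` -/
structure Hyp (T : Subgroup G) : Prop where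
  comm : ∀ s ∈ T, ∀ t ∈ T, s * t = t * s
  cube : ∀ t ∈ T, t ^ 3 = 1
  card : Nat.card T = 9
  /-- `C_G(t) = T` for `t ∈ T#` -/
  cent : ∀ t ∈ T, t ≠ 1 → ∀ g : G, g * t = t * g → g ∈ T
  /-- `T` is a Sylow 3-subgroup: every element of order dividing 3 is conjugate into `T` -/
  conj_into : ∀ p : G, p ^ 3 = 1 → ∃ g : G, g * p * g⁻¹ ∈ T

/-- the case `|N_G(T) : T| = 2`: `N_G(T) = T ⋊ ⟨t⟩` with `t` inverting `T` -/
structure D2 (T : Subgroup G) (x y t : G) : Prop where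
  hyp : Hyp T
  xT : x ∈ T
  yT : y ∈ T
  x1 : x ≠ 1
  y1 : y ≠ 1
  /-- normal form of `T` -/
  nfT : ∀ s ∈ T, ∃ i j : ℕ, i < 3 ∧ j < 3 ∧ s = x ^ i * y ^ j
  /-- `x` and `y` are independent -/
  indep : ∀ i j : ℕ, i < 3 → j < 3 → x ^ i * y ^ j = 1 → i = 0 ∧ j = 0
  tN : t ∈ Subgroup.normalizer (T : Set G)
  t1 : t ≠ 1
  t2 : t * t = 1
  tx : t * x * t⁻¹ = x⁻¹
  ty : t * y * t⁻¹ = y⁻¹
  cardN : Nat.card (Subgroup.normalizer (T : Set G)) = 18

/-- the case `|N_G(T) : T| = 4`: `N_G(T) = T ⋊ ⟨n⟩` with `n` of order 4 modulo `T`, `n² ` inverting `T` -/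
structure D4 (T : Subgroup G) (x y n : G) : Prop where
  hyp : Hyp T
  xT : x ∈ T
  yT : y ∈ T
  x1 : x ≠ 1
  y1 : y ≠ 1
  nfT : ∀ s ∈ T, ∃ i j : ℕ, i < 3 ∧ j < 3 ∧ s = x ^ i * y ^ j
  indep : ∀ i j : ℕ, i < 3 → j < 3 → x ^ i * y ^ j = 1 → i = 0 ∧ j = 0
  nN : n ∈ Subgroup.normalizer (T : Set G)
  nx : n * x * n⁻¹ = y
  ny : n * y * n⁻¹ = x⁻¹
  cardN : Nat.card (Subgroup.normalizer (T : Set G)) = 36

end Cfsg.Agent.Lib.Helper8.S3341
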