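import Mathlib

/-!
# S2282: field lemmas for the unitary groups (helper8)

`F` a field with `q ^ 2` elements, bar = `x ↦ x ^ q`; *fixed* means `x ^ q = x` (the subfield `F_q`),
*skew* means `x ^ q = -x` (the `F_q`-line `F⁻`).
-/

set_option autoImplicit false
set_option linter.unusedSectionVars false
set_option linter.style.haveILetI false

namespace Cfsg.Agent.Lib.Helper8.SUField

variable {F : Type*} [Field F] [Fintype F] {q : ℕ}

theorem two_le_q (hF : Fintype.card F = q ^ 2) : 2 ≤ q := by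
  have h1 : 1 < Fintype.card F := Fintype.one_lt_card
  rw [hF] at h1
  by_contra h
  have : q = 0 ∨ q = 1 := by omega
  rcases this with rfl | rfl <;> simp at h1

theorem pow_q_split (hF : Fintype.card F = q ^ 2) (x : F) : x ^ q = x ^ (q - 1) * x := by
  have := two_le_q hF
  rw [← pow_succ, Nat.sub_add_cancel (by omega)]

theorem pow_q_pow_q (hF : Fintype.card F = q ^ 2) (x : F) : (x ^ q) ^ q = x := by
  rw [← pow_mul, ← sq, ← hF, FiniteField.pow_card]

theorem zero_pow_q (hF : Fintype.card F = q ^ 2) : (0 : F) ^ q = 0 :=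
  zero_pow (by have := two_le_q hF; omega)

/-- `x ↦ x ^ q` is additive -/
theorem add_pow_q (hF : Fintype.card F = q ^ 2) (x y : F) : (x + y) ^ q = x ^ q + y ^ q := by
  classical
  obtain ⟨p, hp⟩ := CharP.exists F
  haveI := hp
  haveI : Fact p.Prime := ⟨CharP.char_is_prime F p⟩
  obtain ⟨n, hn⟩ := FiniteField.card F p
  -- `q` is a power of `p`
  have hq : ∃ k, q = p ^ k := by
    have h1 : q ^ 2 = p ^ (n : ℕ) := by rw [← hF, hn.2]
    have hdvd : q ∣ p ^ (n : ℕ) := by
      rw [← h1]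
      exact dvd_pow_self q (by norm_num)
    exact (Nat.dvd_prime_pow (Fact.out)).1 hdvd |>.imp fun k hk => hk.2
  obtain ⟨k, rfl⟩ := hq
  exact add_pow_char_pow x y p k

theorem neg_pow_q (hF : Fintype.card F = q ^ 2) (x : F) : (-x) ^ q = -(x ^ q) := by
  have h := add_pow_q hF x (-x)
  rw [add_neg_cancel, zero_pow_q hF] at h
  exact (neg_eq_of_add_eq_zero_right h.symm).symm

theorem sub_pow_q (hF : Fintype.card F = q ^ 2) (x y : F) : (x - y) ^ q = x ^ q - y ^ q := by
  rw [sub_eq_add_neg, add_pow_q hF, neg_pow_q hF, ← sub_eq_add_neg]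

/-! ### small algebra of fixed and skew elements -/

theorem fixed_mul {x y : F} (hx : x ^ q = x) (hy : y ^ q = y) : (x * y) ^ q = x * y := by
  rw [mul_pow, hx, hy]

theorem skew_mul_skew {x y : F} (hx : x ^ q = -x) (hy : y ^ q = -y) : (x * y) ^ q = x * y := by
  rw [mul_pow, hx, hy, neg_mul_neg]

theorem fixed_mul_skew {x y : F} (hx : x ^ q = x) (hy : y ^ q = -y) : (x * y) ^ q = -(x * y) := by
  rw [mul_pow, hx, hy, mul_neg]

theorem skew_mul_fixed {x y : F} (hx : x ^ q = -x) (hy : y ^ q = y) : (x * y) ^ q = -(x * y) := by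
  rw [mul_pow, hx, hy, neg_mul]

theorem fixed_inv {x : F} (hx : x ^ q = x) : (x⁻¹) ^ q = x⁻¹ := by
  rw [inv_pow, hx]

theorem skew_inv {x : F} (hx : x ^ q = -x) : (x⁻¹) ^ q = -x⁻¹ := by
  rw [inv_pow, hx, inv_neg]

theorem skew_div_skew {x y : F} (hx : x ^ q = -x) (hy : y ^ q = -y) : (x / y) ^ q = x / y := by
  rw [div_pow, hx, hy, neg_div_neg_eq]

theorem fixed_div_skew {x y : F} (hx : x ^ q = x) (hy : y ^ q = -y) : (x / y) ^ q = -(x / y) := by
  rw [div_pow, hx, hy, div_neg]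

theorem norm_fixed (hF : Fintype.card F = q ^ 2) (x : F) : (x * x ^ q) ^ q = x * x ^ q := by
  rw [mul_pow, pow_q_pow_q hF, mul_comm]

theorem trace_fixed (hF : Fintype.card F = q ^ 2) (x : F) : (x + x ^ q) ^ q = x + x ^ q := by
  rw [add_pow_q hF, pow_q_pow_q hF, add_comm]

theorem sub_frob_skew (hF : Fintype.card F = q ^ 2) (κ : F) :
    (κ - κ ^ q) ^ q = -(κ - κ ^ q) := by
  rw [sub_pow_q hF, pow_q_pow_q hF, neg_sub]

theorem frob_sub_skew (hF : Fintype.card F = q ^ 2) (κ : F) :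
    (κ ^ q - κ) ^ q = -(κ ^ q - κ) := by
  rw [sub_pow_q hF, pow_q_pow_q hF, neg_sub]

theorem sub_frob_ne_zero {κ : F} (h : κ ^ q ≠ κ) : κ - κ ^ q ≠ 0 := by
  intro h0
  exact h (sub_eq_zero.1 h0).symm

/-! ### characteristic two ⟺ `q` even -/

theorem q_even_of_two_eq_zero (hF : Fintype.card F = q ^ 2) (h2 : (2 : F) = 0) : Even q := by
  have hch : ringChar F = 2 := by
    have hdvd : ringChar F ∣ 2 := by
      apply ringChar.dvd
      exact_mod_cast h2
    have hp : (ringChar F).Prime := CharP.char_is_prime F (ringChar F)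
    rcases (Nat.dvd_prime Nat.prime_two).1 hdvd with h | h
    · exact absurd h hp.ne_one
    · exact h
  have h := FiniteField.even_card_of_char_two hch
  rw [hF] at h
  have : Even (q ^ 2) := Nat.even_iff.2 h
  exact (Nat.even_pow.1 this).1

theorem two_eq_zero_of_q_even (hF : Fintype.card F = q ^ 2) (hq : Even q) : (2 : F) = 0 := by
  have h : Fintype.card F % 2 = 0 := by
    rw [hF]
    exact Nat.even_iff.1 (Nat.even_pow.2 ⟨hq, by norm_num⟩)
  have hch := FiniteField.even_card_iff_char_two.2 h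
  have := ringChar.Nat.cast_ringChar (R := F)
  rw [hch] at this
  exact_mod_cast this

theorem two_eq_zero_iff (hF : Fintype.card F = q ^ 2) : (2 : F) = 0 ↔ Even q :=
  ⟨q_even_of_two_eq_zero hF, two_eq_zero_of_q_even hF⟩

/-! ### generators -/

/-- a generator of `Fˣ` as an element of `F` -/
theorem exists_gen : ∃ g : F, g ≠ 0 ∧ orderOf g = Fintype.card F - 1 ∧
    ∀ y : F, y ≠ 0 → ∃ j : ℕ, y = g ^ j := by
  classical
  obtain ⟨g, hg⟩ := IsCyclic.exists_generator (α := Fˣ)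
  refine ⟨(g : F), g.ne_zero, ?_, ?_⟩
  · rw [orderOf_units, orderOf_eq_card_of_forall_mem_zpowers hg, Nat.card_eq_fintype_card,
      Fintype.card_units]
  · intro y hy
    have hmem := hg (Units.mk0 y hy)
    rw [← mem_powers_iff_mem_zpowers] at hmem
    obtain ⟨j, hj⟩ := hmem
    refine ⟨j, ?_⟩
    have := congrArg (fun u : Fˣ => (u : F)) hj
    simp only [Units.val_pow_eq_pow_val, Units.val_mk0] at this
    exact this.symm

/-- a generator of the group of nonzero fixed elements -/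
theorem exists_fixed_gen (hF : Fintype.card F = q ^ 2) :
    ∃ ζ : F, ζ ≠ 0 ∧ ζ ^ q = ζ ∧ ∀ y : F, y ≠ 0 → y ^ q = y → ∃ k : ℕ, y = ζ ^ (k + 1) := by
  classical
  have hq2 := two_le_q hF
  obtain ⟨g, hg0, hord, hgen⟩ := exists_gen (F := F)
  have hcard : Fintype.card F - 1 = (q - 1) * (q + 1) := by
    rw [hF]
    obtain ⟨r, rfl⟩ : ∃ r, q = r + 1 := ⟨q - 1, by omega⟩
    simp only [Nat.add_sub_cancel]
    ring_nf
    omega
  have hone : g ^ ((q - 1) * (q + 1)) = 1 := by
    rw [← hcard, ← hord]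
    exact pow_orderOf_eq_one g
  have hζq1 : (g ^ (q + 1)) ^ (q - 1) = 1 := by
    rw [← pow_mul, mul_comm]
    exact hone
  refine ⟨g ^ (q + 1), pow_ne_zero _ hg0, ?_, ?_⟩
  · rw [pow_q_split hF, hζq1, one_mul]
  · intro y hy hyq
    obtain ⟨j, rfl⟩ := hgen y hy
    -- `g ^ (j (q-1)) = 1`
    have h1 : g ^ (j * (q - 1)) = 1 := by
      have hq' : q = (q - 1) + 1 := by omega
      have h2 : (g ^ j) ^ (q - 1) * g ^ j = g ^ j := by
        rw [← pow_succ, ← hq']
        exact hyq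
      have h3 : (g ^ j) ^ (q - 1) = 1 := by
        have hne : g ^ j ≠ 0 := pow_ne_zero _ hg0
        exact mul_right_cancel₀ hne (by rw [h2, one_mul])
      rw [pow_mul]
      exact h3
    have hdvd : (q - 1) * (q + 1) ∣ j * (q - 1) := by
      rw [← hcard, ← hord]
      exact orderOf_dvd_of_pow_eq_one h1
    have hdvd' : q + 1 ∣ j := by
      rw [mul_comm j] at hdvd
      exact Nat.dvd_of_mul_dvd_mul_left (by omega) hdvd
    obtain ⟨k, rfl⟩ := hdvd'
    rcases Nat.eq_zero_or_pos k with hk | hk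
    · refine ⟨q - 2, ?_⟩
      have : q - 2 + 1 = q - 1 := by omega
      rw [this, hζq1, hk, mul_zero, pow_zero]
    · refine ⟨k - 1, ?_⟩
      have : k - 1 + 1 = k := by omega
      rw [this, pow_mul]

/-- a skew element whose square generates the nonzero fixed elements (all characteristics) -/
theorem exists_skew_gen (hF : Fintype.card F = q ^ 2) :
    ∃ θ ζ : F, θ ≠ 0 ∧ θ ^ q = -θ ∧ θ ^ 2 = ζ ∧ ζ ^ q = ζ ∧
      ∀ y : F, y ≠ 0 → y ^ q = y → ∃ k : ℕ, y = ζ ^ (k + 1) := by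
  classical
  have hq2 := two_le_q hF
  by_cases h2 : (2 : F) = 0
  · -- characteristic two: `θ = ζ ^ (q / 2)`
    obtain ⟨ζ, hζ0, hζq, hζ⟩ := exists_fixed_gen hF
    obtain ⟨r, hr⟩ := q_even_of_two_eq_zero hF h2
    have hneg : ∀ x : F, -x = x := by
      intro x
      have : x + x = 0 := by rw [← two_mul, h2, zero_mul]
      exact neg_eq_of_add_eq_zero_left this
    refine ⟨ζ ^ r, ζ, pow_ne_zero _ hζ0, ?_, ?_, hζq, hζ⟩
    · rw [hneg, ← pow_mul, mul_comm, pow_mul, hζq]
    · rw [← pow_mul, show r * 2 = r + r by ring, ← hr, hζq]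
  · -- odd characteristic: `θ = g ^ ((q + 1) / 2)`
    have hodd : ¬ Even q := fun h => h2 (two_eq_zero_of_q_even hF h)
    obtain ⟨r, hr⟩ : ∃ r, q + 1 = 2 * r := by
      have : Odd q := Nat.not_even_iff_odd.1 hodd
      obtain ⟨s, hs⟩ := this
      exact ⟨s + 1, by omega⟩
    obtain ⟨g, hg0, hord, hgen⟩ := exists_gen (F := F)
    have hcard : Fintype.card F - 1 = (q - 1) * (q + 1) := by
      rw [hF]
      obtain ⟨r', rfl⟩ : ∃ r', q = r' + 1 := ⟨q - 1, by omega⟩
      simp only [Nat.add_sub_cancel]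
      ring_nf
      omega
    have hone : g ^ ((q - 1) * (q + 1)) = 1 := by
      rw [← hcard, ← hord]
      exact pow_orderOf_eq_one g
    -- `θ ^ (q-1) = -1`
    have hsq : ((g ^ r) ^ (q - 1)) ^ 2 = 1 := by
      rw [← pow_mul, ← pow_mul, mul_comm (q - 1), ← mul_assoc, mul_comm r 2, ← hr, mul_comm]
      exact hone
    have hne1 : (g ^ r) ^ (q - 1) ≠ 1 := by
      intro h1
      rw [← pow_mul] at h1
      have hdvd : (q - 1) * (q + 1) ∣ r * (q - 1) := by
        rw [← hcard, ← hord]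
        exact orderOf_dvd_of_pow_eq_one h1
      rw [mul_comm r] at hdvd
      have : q + 1 ∣ r := Nat.dvd_of_mul_dvd_mul_left (by omega) hdvd
      have := Nat.le_of_dvd (by omega) this
      omega
    have hm1 : (g ^ r) ^ (q - 1) = -1 := by
      rcases sq_eq_one_iff.1 hsq with h | h
      · exact absurd h hne1
      · exact h
    obtain ⟨ζ, hζ0, hζq, hζ⟩ := exists_fixed_gen hF
    refine ⟨g ^ r, (g ^ r) ^ 2, pow_ne_zero _ hg0, ?_, rfl, ?_, ?_⟩
    · rw [pow_q_split hF, hm1, neg_one_mul]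
    · rw [← pow_mul, mul_comm, pow_mul, pow_q_split hF, hm1, neg_one_mul, neg_sq]
    · -- `(g^r)^2 = g^(q+1)` generates
      intro y hy hyq
      obtain ⟨j, rfl⟩ := hgen y hy
      have h1 : g ^ (j * (q - 1)) = 1 := by
        have hq' : q = (q - 1) + 1 := by omega
        have h2' : (g ^ j) ^ (q - 1) * g ^ j = g ^ j := by
          rw [← pow_succ, ← hq']
          exact hyq
        have h3 : (g ^ j) ^ (q - 1) = 1 := by
          have hne : g ^ j ≠ 0 := pow_ne_zero _ hg0
          exact mul_right_cancel₀ hne (by rw [h2', one_mul])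
        rw [pow_mul]
        exact h3
      have hdvd : (q - 1) * (q + 1) ∣ j * (q - 1) := by
        rw [← hcard, ← hord]
        exact orderOf_dvd_of_pow_eq_one h1
      have hdvd' : q + 1 ∣ j := by
        rw [mul_comm j] at hdvd
        exact Nat.dvd_of_mul_dvd_mul_left (by omega) hdvd
      obtain ⟨k, rfl⟩ := hdvd'
      have hgz : (g ^ r) ^ 2 = g ^ (q + 1) := by rw [← pow_mul, mul_comm, ← hr]
      have hζq1 : (g ^ (q + 1)) ^ (q - 1) = 1 := by
        rw [← pow_mul, mul_comm]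
        exact hone
      rw [hgz]
      rcases Nat.eq_zero_or_pos k with hk | hk
      · refine ⟨q - 2, ?_⟩
        have : q - 2 + 1 = q - 1 := by omega
        rw [this, hζq1, hk, mul_zero, pow_zero]
      · refine ⟨k - 1, ?_⟩
        have : k - 1 + 1 = k := by omega
        rw [this, pow_mul]

/-! ### norm, trace, square roots -/

theorem one_pow_q' : (1 : F) ^ q = 1 := one_pow q

theorem two_pow_q (hF : Fintype.card F = q ^ 2) : (2 : F) ^ q = 2 := by
  have : (2 : F) = 1 + 1 := by norm_num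
  rw [this, add_pow_q hF, one_pow]

/-- a generator of `Fˣ` is not fixed -/
theorem exists_not_fixed (hF : Fintype.card F = q ^ 2) : ∃ τ : F, τ ≠ 0 ∧ τ ^ q ≠ τ := by
  classical
  have hq2 := two_le_q hF
  obtain ⟨g, hg0, hord, -⟩ := exists_gen (F := F)
  refine ⟨g, hg0, ?_⟩
  intro h
  have h1 : g ^ (q - 1) = 1 := by
    rw [pow_q_split hF] at h
    exact mul_right_cancel₀ hg0 (by rw [h, one_mul])
  have hdvd : Fintype.card F - 1 ∣ q - 1 := by
    rw [← hord]
    exact orderOf_dvd_of_pow_eq_one h1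
  have hle := Nat.le_of_dvd (by omega) hdvd
  rw [hF] at hle
  have : q * 2 ≤ q ^ 2 := by
    rw [sq]
    exact Nat.mul_le_mul_left q hq2
  omega

/-- the norm `α ↦ α * α ^ q` is onto the fixed elements -/
theorem exists_norm_eq_fixed (hF : Fintype.card F = q ^ 2) (c : F) (hc : c ^ q = c) :
    ∃ α : F, α * α ^ q = c := by
  classical
  have hq2 := two_le_q hF
  by_cases hc0 : c = 0
  · exact ⟨0, by rw [hc0, zero_mul]⟩
  obtain ⟨g, hg0, hord, hgen⟩ := exists_gen (F := F)
  have hcard : Fintype.card F - 1 = (q - 1) * (q + 1) := by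
    rw [hF]
    obtain ⟨r, rfl⟩ : ∃ r, q = r + 1 := ⟨q - 1, by omega⟩
    simp only [Nat.add_sub_cancel]
    ring_nf
    omega
  obtain ⟨j, rfl⟩ := hgen c hc0
  have h1 : g ^ (j * (q - 1)) = 1 := by
    have h2' : (g ^ j) ^ (q - 1) * g ^ j = g ^ j := by
      rw [← pow_q_split hF]
      exact hc
    have h3 : (g ^ j) ^ (q - 1) = 1 := by
      have hne : g ^ j ≠ 0 := pow_ne_zero _ hg0
      exact mul_right_cancel₀ hne (by rw [h2', one_mul])
    rw [pow_mul]
    exact h3
  have hdvd : (q - 1) * (q + 1) ∣ j * (q - 1) := by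
    rw [← hcard, ← hord]
    exact orderOf_dvd_of_pow_eq_one h1
  have hdvd' : q + 1 ∣ j := by
    rw [mul_comm j] at hdvd
    exact Nat.dvd_of_mul_dvd_mul_left (by omega) hdvd
  obtain ⟨k, rfl⟩ := hdvd'
  refine ⟨g ^ k, ?_⟩
  rw [← pow_mul, ← pow_add, mul_comm (q + 1) k, mul_add, mul_one, add_comm]

/-- the trace `γ ↦ γ + γ ^ q` is onto the fixed elements -/
theorem exists_trace_eq (hF : Fintype.card F = q ^ 2) (c : F) (hc : c ^ q = c) :
    ∃ γ : F, γ + γ ^ q = c := by
  classical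
  -- some `τ` of nonzero trace `t`
  obtain ⟨τ, hτ⟩ : ∃ τ : F, τ + τ ^ q ≠ 0 := by
    by_cases h2 : (2 : F) = 0
    · obtain ⟨τ, -, hτ⟩ := exists_not_fixed hF
      refine ⟨τ, fun h => hτ ?_⟩
      have hneg : -τ = τ := by
        have : τ + τ = 0 := by rw [← two_mul, h2, zero_mul]
        exact neg_eq_of_add_eq_zero_left this
      have h' : τ ^ q = -τ := (neg_eq_of_add_eq_zero_right h).symm
      rw [h', hneg]
    · refine ⟨1, ?_⟩
      rw [one_pow, one_add_one_eq_two]
      exact h2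
  have ht := trace_fixed hF τ
  refine ⟨c * τ / (τ + τ ^ q), ?_⟩
  rw [div_pow, mul_pow, hc, ht, ← add_div, ← mul_add, mul_div_assoc, div_self hτ, mul_one]

/-- a non-fixed element of given trace -/
theorem exists_trace_eq_not_fixed (hF : Fintype.card F = q ^ 2) (c : F) (hc : c ^ q = c)
    (h : (2 : F) = 0 → c ≠ 0) : ∃ γ : F, γ + γ ^ q = c ∧ γ ^ q ≠ γ := by
  classical
  by_cases h2 : (2 : F) = 0
  · obtain ⟨γ, hγ⟩ := exists_trace_eq hF c hc
    refine ⟨γ, hγ, fun hfix => h h2 ?_⟩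
    rw [← hγ, hfix, ← two_mul, h2, zero_mul]
  · obtain ⟨θ, ζ, hθ0, hθq, -⟩ := exists_skew_gen hF
    have h2q := two_pow_q hF
    refine ⟨c / 2 + θ, ?_, ?_⟩
    · rw [add_pow_q hF, div_pow, hc, h2q, hθq]
      field_simp
      ring
    · rw [add_pow_q hF, div_pow, hc, h2q, hθq]
      intro heq
      have : (2 : F) * θ = 0 := by linear_combination -heq
      rcases mul_eq_zero.1 this with h' | h'
      · exact h2 h'
      · exact hθ0 h'

/-- `s ↦ s ^ q - s` is onto the skew elements (all characteristics) -/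
theorem exists_frob_sub_eq (hF : Fintype.card F = q ^ 2) (c : F) (hc : c ^ q = -c) :
    ∃ s : F, s ^ q - s = c := by
  classical
  by_cases h2 : (2 : F) = 0
  · have hneg : ∀ x : F, -x = x := by
      intro x
      have : x + x = 0 := by rw [← two_mul, h2, zero_mul]
      exact neg_eq_of_add_eq_zero_left this
    obtain ⟨γ, hγ⟩ := exists_trace_eq hF c (by rw [hc, hneg])
    refine ⟨γ, ?_⟩
    rw [sub_eq_add_neg, hneg, add_comm]
    exact hγ
  · have h2q := two_pow_q hF
    refine ⟨-c / 2, ?_⟩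
    rw [div_pow, neg_pow_q hF, hc, h2q]
    field_simp
    ring

/-- square roots of fixed elements in characteristic two -/
theorem exists_sqrt_fixed (hF : Fintype.card F = q ^ 2) (h2 : (2 : F) = 0) (c : F)
    (hc : c ^ q = c) : ∃ a : F, a ^ q = a ∧ a ^ 2 = c := by
  obtain ⟨r, hr⟩ := q_even_of_two_eq_zero hF h2
  refine ⟨c ^ r, ?_, ?_⟩
  · rw [← pow_mul, mul_comm, pow_mul, hc]
  · rw [← pow_mul, show r * 2 = r + r by ring, ← hr, hc]

/-! ### the loops -/

/-- **helper4's loop** (characteristic two): `L ∋ a ≠ 0` fixed, stable under `c ↦ μ² c` with `μ` a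
generator of the nonzero fixed elements: `L` contains all fixed elements. -/
theorem fixed_le_of_mul_sq (hF : Fintype.card F = q ^ 2) (h2 : (2 : F) = 0)
    (μ : F) (hμq : μ ^ q = μ)
    (hμ : ∀ y : F, y ≠ 0 → y ^ q = y → ∃ k : ℕ, y = μ ^ (k + 1))
    (L : AddSubgroup F) (a : F) (ha : a ∈ L) (ha0 : a ≠ 0) (haq : a ^ q = a)
    (hloop : ∀ c ∈ L, μ ^ 2 * c ∈ L) : ∀ c : F, c ^ q = c → c ∈ L := by
  classical
  have hq2 := two_le_q hF
  have hμ0 : μ ≠ 0 := by
    intro h0
    obtain ⟨k, hk⟩ := hμ 1 one_ne_zero (one_pow q)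
    rw [h0, zero_pow (by omega)] at hk
    exact one_ne_zero hk
  have hμ1 : μ ^ (q - 1) = 1 := by
    have h := hμq
    rw [pow_q_split hF] at h
    exact mul_right_cancel₀ hμ0 (by rw [h, one_mul])
  have hpow : ∀ j : ℕ, μ ^ (2 * j) * a ∈ L := by
    intro j
    induction j with
    | zero => simpa using ha
    | succ j ih =>
      have := hloop _ ih
      have e : μ ^ 2 * (μ ^ (2 * j) * a) = μ ^ (2 * (j + 1)) * a := by ring
      rwa [e] at this
  obtain ⟨r, hr⟩ := q_even_of_two_eq_zero hF h2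
  intro c hc
  by_cases hc0 : c = 0
  · rw [hc0]
    exact L.zero_mem
  have hca : (c / a) ^ q = c / a := by rw [div_pow, hc, haq]
  obtain ⟨k, hk⟩ := hμ (c / a) (div_ne_zero hc0 ha0) hca
  have hc' : c = μ ^ (k + 1) * a := by
    rw [← hk, div_mul_cancel₀ _ ha0]
  rcases Nat.even_or_odd (k + 1) with ⟨j, hj⟩ | ⟨j, hj⟩
  · rw [hc', hj, ← two_mul]
    exact hpow j
  · -- `k + 1` odd: add `q - 1` (odd)
    have e : μ ^ (k + 1) = μ ^ (2 * (j + r)) := by
      have h1 : 2 * (j + r) = (k + 1) + (q - 1) := by omega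
      rw [h1, pow_add μ (k + 1) (q - 1), hμ1, mul_one]
    rw [hc', e]
    exact hpow (j + r)

/-- **helper13's loop** (all characteristics): `L` an additive group, `c'` skew and nonzero,
`ζ` a generator of the nonzero fixed elements, `g0 ∈ L` with `c' g0 = ζ`, and
`s, s' ∈ L ⟹ c' s s' ∈ L`.  Then `L` contains all skew elements. -/
theorem skew_le_of_loop (c' : F) (hc0 : c' ≠ 0) (hcq : c' ^ q = -c')
    (ζ : F) (hζ : ∀ y : F, y ≠ 0 → y ^ q = y → ∃ k : ℕ, y = ζ ^ (k + 1))
    (L : AddSubgroup F) (g0 : F) (hg0 : g0 ∈ L) (hg : c' * g0 = ζ)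
    (hloop : ∀ s ∈ L, ∀ s' ∈ L, c' * s * s' ∈ L) : ∀ s : F, s ^ q = -s → s ∈ L := by
  have hpow : ∀ k : ℕ, ζ ^ (k + 1) / c' ∈ L := by
    intro k
    induction k with
    | zero =>
      have : ζ ^ (0 + 1) / c' = g0 := by
        rw [zero_add, pow_one, ← hg, mul_div_cancel_left₀ _ hc0]
      rw [this]
      exact hg0
    | succ k ih =>
      have := hloop _ ih _ hg0
      have e : c' * (ζ ^ (k + 1) / c') * g0 = ζ ^ (k + 1 + 1) / c' := by
        rw [mul_div_cancel₀ _ hc0, pow_succ ζ (k + 1), ← hg]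
        field_simp
      rwa [e] at this
  intro s hs
  by_cases hs0 : s = 0
  · rw [hs0]
    exact L.zero_mem
  · have hy : (c' * s) ^ q = c' * s := skew_mul_skew hcq hs
    obtain ⟨k, hk⟩ := hζ (c' * s) (mul_ne_zero hc0 hs0) hy
    have := hpow k
    rw [← hk, mul_div_cancel_left₀ _ hc0] at this
    exact this

/-- the same for a set of parameters containing `0` -/
theorem skew_subset_of_loop (c' : F) (hc0 : c' ≠ 0) (hcq : c' ^ q = -c')
    (ζ : F) (hζ : ∀ y : F, y ≠ 0 → y ^ q = y → ∃ k : ℕ, y = ζ ^ (k + 1))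
    (L : Set F) (h0 : (0 : F) ∈ L) (g0 : F) (hg0 : g0 ∈ L) (hg : c' * g0 = ζ)
    (hloop : ∀ s ∈ L, ∀ s' ∈ L, c' * s * s' ∈ L) : ∀ s : F, s ^ q = -s → s ∈ L := by
  have hpow : ∀ k : ℕ, ζ ^ (k + 1) / c' ∈ L := by
    intro k
    induction k with
    | zero =>
      have : ζ ^ (0 + 1) / c' = g0 := by
        rw [zero_add, pow_one, ← hg, mul_div_cancel_left₀ _ hc0]
      rw [this]
      exact hg0
    | succ k ih =>
      have := hloop _ ih _ hg0
      have e : c' * (ζ ^ (k + 1) / c') * g0 = ζ ^ (k + 1 + 1) / c' := by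
        rw [mul_div_cancel₀ _ hc0, pow_succ ζ (k + 1), ← hg]
        field_simp
      rwa [e] at this
  intro s hs
  by_cases hs0 : s = 0
  · rw [hs0]
    exact h0
  · have hy : (c' * s) ^ q = c' * s := skew_mul_skew hcq hs
    obtain ⟨k, hk⟩ := hζ (c' * s) (mul_ne_zero hc0 hs0) hy
    have := hpow k
    rw [← hk, mul_div_cancel_left₀ _ hc0] at this
    exact this

/-! ### `F` is the `F_q`-plane spanned by `α, β` with `β/α` not fixed -/

/-- coordinates: every `x` is `s α + t β` with `s, t` fixed -/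
theorem exists_coords (hF : Fintype.card F = q ^ 2) {α β : F} (hα : α ≠ 0)
    (hind : (β / α) ^ q ≠ β / α) (x : F) :
    ∃ s t : F, s ^ q = s ∧ t ^ q = t ∧ x = s * α + t * β := by
  set ρ := β / α with hρ
  have hd : ρ - ρ ^ q ≠ 0 := sub_frob_ne_zero hind
  set y := x / α with hy
  set t := (y - y ^ q) / (ρ - ρ ^ q) with ht
  have htq : t ^ q = t := skew_div_skew (sub_frob_skew hF y) (sub_frob_skew hF ρ)
  have hsq : (y - t * ρ) ^ q = y - t * ρ := by
    rw [sub_pow_q hF, mul_pow, htq]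
    have : t * (ρ - ρ ^ q) = y - y ^ q := by rw [ht, div_mul_cancel₀ _ hd]
    linear_combination this
  refine ⟨y - t * ρ, t, hsq, htq, ?_⟩
  rw [hy, hρ]
  field_simp
  ring

/-- **chord endgame, field part**: a set `K ∋ 0, α, β` (`α ≠ 0`, `β/α` not fixed) closed under
`F_q`-affine lines (`κ, κ'' ∈ K`, `t ≠ 0` fixed ⟹ `κ + t (κ'' - κ) ∈ K`) is everything
(`q ≥ 3`). -/
theorem affine_closed_univ (hF : Fintype.card F = q ^ 2) (hq3 : 3 ≤ q) (K : Set F) {α β : F}
    (h0 : (0 : F) ∈ K) (hαK : α ∈ K) (hβK : β ∈ K) (hα : α ≠ 0)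
    (hind : (β / α) ^ q ≠ β / α)
    (hline : ∀ κ ∈ K, ∀ κ'' ∈ K, ∀ t : F, t ≠ 0 → t ^ q = t → κ + t * (κ'' - κ) ∈ K) :
    ∀ x : F, x ∈ K := by
  classical
  -- a fixed `τ ≠ 0, 1`
  obtain ⟨ζ, hζ0, hζq, hζ⟩ := exists_fixed_gen hF
  have hζ1 : ζ ≠ 1 := by
    intro h1
    -- then every nonzero fixed element is `1`; but `-1`... use counting: `X^q - X` has `q` roots
    -- simpler: `F_q^×` trivial forces `q = 2`: the norm of a generator
    obtain ⟨g, hg0, hord, hgen⟩ := exists_gen (F := F)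
    have hN : (g * g ^ q) ^ q = g * g ^ q := norm_fixed hF g
    obtain ⟨k, hk⟩ := hζ (g * g ^ q) (mul_ne_zero hg0 (pow_ne_zero _ hg0)) hN
    rw [h1, one_pow] at hk
    have h2 : g ^ (q + 1) = 1 := by rw [pow_succ', hk]
    have hdvd : Fintype.card F - 1 ∣ q + 1 := by
      rw [← hord]
      exact orderOf_dvd_of_pow_eq_one h2
    have hle := Nat.le_of_dvd (by omega) hdvd
    rw [hF] at hle
    have : q * 3 ≤ q ^ 2 := by
      rw [sq]
      exact Nat.mul_le_mul_left q hq3
    omega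
  -- axes
  have hax : ∀ κ ∈ K, ∀ s : F, s ^ q = s → s * κ ∈ K := by
    intro κ hκ s hs
    by_cases hs0 : s = 0
    · rw [hs0, zero_mul]
      exact h0
    · have := hline 0 h0 κ hκ s hs0 hs
      rwa [zero_add, sub_zero] at this
  intro x
  obtain ⟨s, t, hs, ht, rfl⟩ := exists_coords hF hα hind x
  have h1ζ : 1 - ζ ≠ 0 := sub_ne_zero.2 (Ne.symm hζ1)
  have h1ζq : (1 - ζ) ^ q = 1 - ζ := by rw [sub_pow_q hF, one_pow, hζq]
  have hA : s / (1 - ζ) * α ∈ K := hax α hαK _ (by rw [div_pow, hs, h1ζq])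
  have hB : t / ζ * β ∈ K := hax β hβK _ (by rw [div_pow, ht, hζq])
  have := hline _ hA _ hB ζ hζ0 hζq
  have e : s / (1 - ζ) * α + ζ * (t / ζ * β - s / (1 - ζ) * α) = s * α + t * β := by
    field_simp
    ring
  rwa [e] at this

end Cfsg.Agent.Lib.Helper8.SUField
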