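import Cfsg.Agent.Lib.Helper8.AbInvM
import Cfsg.Agent.Lib.Helper13.SL2Cyclic

/-!
# Groups in which centralizers of involutions are abelian, part N (helper8)

Internal direct products with a central factor, and the lifting of the structure `SL₂(2ⁿ) × A` along a quotient by a
central subgroup of odd order.
-/

set_option autoImplicit false

namespace Cfsg.Agent.Lib.Helper8.AbInv

open Cfsg.Agent.Lib.Helper2 Cfsg.Agent.Lib.Helper8

section Prod

variable {H : Type*} [Group H] (L A : Subgroup H) (hA : A ≤ Subgroup.center H)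

/-- the product map of an internal product with a central factor -/
noncomputable def prodHom : ↥L × ↥A →* H :=
  MonoidHom.noncommCoprod L.subtype A.subtype
    (fun l a => Subgroup.mem_center_iff.mp (hA a.2) l.1)

theorem prodHom_apply (x : ↥L × ↥A) : prodHom L A hA x = x.1.1 * x.2.1 := rfl

variable (hinf : L ⊓ A = ⊥) (hsup : L ⊔ A = ⊤)

include hinf hsup in
theorem prodHom_bijective : Function.Bijective (prodHom L A hA) := by
  constructor
  · rw [injective_iff_map_eq_one]
    intro x hx
    rw [prodHom_apply] at hx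
    have h1 : x.1.1 = x.2.1⁻¹ := eq_inv_of_mul_eq_one_left hx
    have h2 : x.1.1 ∈ L ⊓ A := Subgroup.mem_inf.mpr ⟨x.1.2, by rw [h1]; exact A.inv_mem x.2.2⟩
    rw [hinf, Subgroup.mem_bot] at h2
    have h3 : x.2.1 = 1 := by rw [h2, one_mul] at hx; exact hx
    exact Prod.ext (Subtype.ext h2) (Subtype.ext h3)
  · intro x
    have hAn : A.Normal := by
      refine ⟨fun a ha g => ?_⟩
      have h1 : g * a * g⁻¹ = a := by
        rw [Subgroup.mem_center_iff.mp (hA ha) g, mul_inv_cancel_right]
      rw [h1]; exact ha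
    have hx : x ∈ L ⊔ A := by rw [hsup]; exact Subgroup.mem_top x
    obtain ⟨l, hl, a, ha, hla⟩ := Subgroup.mem_sup_of_normal_right.mp hx
    exact ⟨(⟨l, hl⟩, ⟨a, ha⟩), hla⟩

/-- the group is the direct product -/
noncomputable def prodEquiv : H ≃* ↥L × ↥A :=
  (MulEquiv.ofBijective (prodHom L A hA) (prodHom_bijective L A hA hinf hsup)).symm

theorem prodEquiv_symm_apply (x : ↥L × ↥A) :
    (prodEquiv L A hA hinf hsup).symm x = x.1.1 * x.2.1 := rfl

include hA hinf hsup in
/-- the projection onto the non-central factor -/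
theorem exists_proj : ∃ pr : H →* ↥L, (∀ l : ↥L, pr l.1 = l) ∧ (∀ x : H, pr x = 1 ↔ x ∈ A) := by
  refine ⟨(MonoidHom.fst ↥L ↥A).comp (prodEquiv L A hA hinf hsup).toMonoidHom, ?_, ?_⟩
  · intro l
    have h1 : prodEquiv L A hA hinf hsup l.1 = (l, 1) := by
      rw [← MulEquiv.eq_symm_apply, prodEquiv_symm_apply]
      simp
    show (prodEquiv L A hA hinf hsup l.1).1 = l
    rw [h1]
  · intro x
    have hx : x = (prodEquiv L A hA hinf hsup x).1.1 * (prodEquiv L A hA hinf hsup x).2.1 := by
      rw [← prodEquiv_symm_apply L A hA hinf hsup, MulEquiv.symm_apply_apply]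
    constructor
    · intro h1
      have h2 : (prodEquiv L A hA hinf hsup x).1 = 1 := h1
      rw [hx, h2]
      simp
    · intro hxA
      have h1 : prodEquiv L A hA hinf hsup x = (1, ⟨x, hxA⟩) := by
        rw [← MulEquiv.eq_symm_apply, prodEquiv_symm_apply]
        simp
      show (prodEquiv L A hA hinf hsup x).1 = 1
      rw [h1]

end Prod

/-- `SL₂(F)` is perfect for `|F| ≥ 4` -/
theorem sl2_commutator_eq_top {F : Type*} [Field F] [Fintype F] (hF : 4 ≤ Fintype.card F) :
    commutator (Matrix.SpecialLinearGroup (Fin 2) F) = ⊤ := by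
  classical
  obtain ⟨a, ha⟩ : ∃ a : F, a ∉ ({0, 1, -1} : Finset F) := by
    by_contra hcon
    push Not at hcon
    have hsub : (Finset.univ : Finset F) ⊆ {0, 1, -1} := fun x _ => hcon x
    have h1 := Finset.card_le_card hsub
    have h3 : ({0, 1, -1} : Finset F).card ≤ 3 := Finset.card_le_three
    rw [Finset.card_univ] at h1
    omega
  simp only [Finset.mem_insert, Finset.mem_singleton, not_or] at ha
  have ha2 : a ^ 2 ≠ 1 := by
    intro h
    have h1 : (a - 1) * (a + 1) = 0 := by ring_nf; rw [h]; ring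
    rcases mul_eq_zero.mp h1 with h' | h'
    · exact ha.2.1 (sub_eq_zero.mp h')
    · exact ha.2.2 (eq_neg_of_add_eq_zero_left h')
  exact Matrix.SL2.commutator_eq_top ha.1 ha2

section Lift

variable {G H : Type*} [Group G] [Group H] [Finite G] (h : AbHyp G) (heven : Even (Nat.card G))
  (π : G →* H) (hπ : Function.Surjective π)
  (hc : π.ker ≤ Subgroup.center G) (hodd : Odd (Nat.card π.ker))

include h heven hπ hc hodd in
/-- the structure lifts along quotients by central subgroups of odd order -/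
theorem slStruct_lift (hS : SLStruct H) : SLStruct G := by
  classical
  have hHfin : Finite H := Finite.of_surjective π hπ
  have hne := sylow_ne_bot heven
  obtain ⟨hS1, F, hF1, hF2, hchar, hF4, L', A', hA'c, hinf', hsup', hA'odd, hA'cz, ⟨e⟩⟩ := hS
  obtain ⟨pr, hpr1, hpr2⟩ := exists_proj L' A' hA'c hinf' hsup'
  obtain ⟨ρ, hρdef⟩ : ∃ ρ : G →* Matrix.SpecialLinearGroup (Fin 2) F,
      ∀ g, ρ g = e (pr (π g)) := ⟨e.toMonoidHom.comp (pr.comp π), fun g => rfl⟩
  have hρ : Function.Surjective ρ := by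
    intro z
    obtain ⟨g, hg⟩ := hπ (e.symm z).1
    refine ⟨g, ?_⟩
    rw [hρdef, hg, hpr1, MulEquiv.apply_symm_apply]
  have hker : ∀ g, g ∈ ρ.ker ↔ π g ∈ A' := by
    intro g
    rw [MonoidHom.mem_ker, hρdef, ← hpr2]
    constructor
    · intro h1
      have h2 := congrArg e.symm h1
      rwa [MulEquiv.symm_apply_apply, map_one] at h2
    · intro h1
      rw [h1, map_one]
  have hperf := sl2_commutator_eq_top hF4
  have hcyc : ∀ (r : ℕ) [Fact r.Prime], r ≠ 2 →
      ∀ R : Sylow r (Matrix.SpecialLinearGroup (Fin 2) F),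
        IsCyclic ↥(R : Subgroup (Matrix.SpecialLinearGroup (Fin 2) F)) :=
    fun r _ hr R => Cfsg.Agent.Lib.Helper13.isCyclic_sylow_SL2 2 r hr hr R
  -- the kernel has odd order
  have hAodd : Odd (Nat.card ρ.ker) := by
    rw [← Nat.not_even_iff_odd]
    intro hev
    obtain ⟨t, htk, ht2⟩ := (even_card_iff_exists_invol ρ.ker).mp hev
    have h1 : π t ∈ A' := (hker t).mp htk
    have h2 : orderOf (π t) ∣ 2 := by
      apply orderOf_dvd_of_pow_eq_one
      rw [← map_pow, pow_two, invol_mul_self ht2, map_one]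
    have h3 : orderOf (π t) ∣ Nat.card A' := by
      have h4 : orderOf (⟨π t, h1⟩ : A') ∣ Nat.card A' := orderOf_dvd_natCard _
      rwa [← Subgroup.orderOf_coe] at h4
    have h5 : orderOf (π t) = 1 :=
      Nat.eq_one_of_dvd_coprimes (Nat.coprime_two_left.mpr hA'odd) h2 h3
    have h6 : t ∈ π.ker := orderOf_eq_one_iff.mp h5
    have h7 := ker_eq_one_of_pow_two π hodd h6 1 (by rw [pow_one, pow_two]; exact invol_mul_self ht2)
    exact invol_ne_one ht2 h7
  -- the kernel centralizes every point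
  have hACz : ∀ a ∈ ρ.ker, ∀ P : Sylow 2 G, a ∈ Cz P := by
    intro a ha P
    rw [mem_Cz_iff]
    intro s hs
    have hπa := Subgroup.mem_center_iff.mp (hA'c ((hker a).mp ha))
    obtain ⟨n, hn⟩ := exists_pow_sylow P
    have h1 : π (a * s * a⁻¹) = π s := by
      rw [map_mul, map_mul, map_inv, ← hπa (π s), mul_inv_cancel_right]
    have h2 : a * s * a⁻¹ = s := by
      apply eq_of_map_eq π hc hodd n n _ (hn s hs) h1
      rw [conj_pow, hn s hs]; group
    calc s * a = (a * s * a⁻¹) * a := by rw [h2]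
      _ = a * s := by group
  have hAab : ∀ a ∈ ρ.ker, ∀ b ∈ ρ.ker, a * b = b * a := by
    obtain ⟨P⟩ : Nonempty (Sylow 2 G) := inferInstance
    intro a ha b hb
    exact Cz_comm h P (hne P) a (hACz a ha P) b (hACz b hb P)
  have hAK : ∀ a ∈ ρ.ker, ∀ g : G, a * g * a⁻¹ * g⁻¹ ∈ Subgroup.center G := by
    intro a ha g
    apply hc
    have hπa := Subgroup.mem_center_iff.mp (hA'c ((hker a).mp ha))
    rw [MonoidHom.mem_ker, map_mul, map_mul, map_mul, map_inv, map_inv, ← hπa (π g),
      mul_inv_cancel_right, mul_inv_cancel]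
  have hcen := ker_le_center ρ hρ hperf hAab hAK
  have hinf := commutator_inf_ker ρ hρ hperf hcyc hAodd hAab hAK
  have hsup := commutator_sup_ker ρ hρ hperf
  have he' := nonempty_commutator_equiv ρ hρ hperf hcyc hAodd hAab hAK
  refine ⟨?_, F, hF1, hF2, hchar, hF4, commutator G, ρ.ker, hcen, hinf, hsup, hAodd, ?_, he'⟩
  · intro P
    constructor
    · intro x hx
      obtain ⟨n, hn⟩ := exists_pow_sylow P
      have h1 : π (x * x) = π 1 := by
        rw [map_mul, map_one]
        exact (hS1 (imgS π hπ P)).1 (π x) (map_mem_imgS π hπ hx)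
      exact eq_of_map_eq π hc hodd n 0 (hn _ ((P : Subgroup G).mul_mem hx hx)) (one_pow _) h1
    · have h1 : Nz P = (Nz (imgS π hπ P)).comap π := by
        ext g
        rw [Subgroup.mem_comap]
        exact (mem_Nz_imgS π hπ hc hodd).symm
      rw [h1, Subgroup.index_comap_of_surjective _ hπ, (hS1 (imgS π hπ P)).2,
        card_imgS π hπ hc hodd]
  · intro P a ha hoa
    rw [hker]
    apply hA'cz (imgS π hπ P) (π a) (map_mem_Cz_imgS π hπ ha)
    exact Odd.of_dvd_nat hoa (orderOf_map_dvd π a)

end Lift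

end Cfsg.Agent.Lib.Helper8.AbInv
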