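import Cfsg.Agent.Lib.Helper8.AltFPCEB0core
import Cfsg.Agent.Lib.Helper15.AltFPC9

/-!
# S2276 leaf CEB0 (ce_B0), exact signature   (helper8)
-/

set_option autoImplicit false

namespace Cfsg.Agent.Lib.Helper8.AltFPLeaf

open Equiv Equiv.Perm Cfsg.Agent.Lib.Helper14.AltFP
open scoped commutatorElement

/-- (CEB0) both of order 3. -/
theorem ce_B0 (n : ℕ) (hn : 5 ≤ n) (u w : Perm (Fin n)) (hu1 : u ≠ 1) (hw1 : w ≠ 1)
    (hu : ∀ a ∈ u.cycleType, a = 3) (hw : ∀ a ∈ w.cycleType, a = 3) :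
    HasCore 3 n u w ∨ HasCore 3 n w u :=
  ce_B0_core Cfsg.Agent.Lib.Helper15.AltFPLeaf.coreA5 Cfsg.Agent.Lib.Helper15.AltFPLeaf.coreB6
    Cfsg.Agent.Lib.Helper15.AltFPLeaf.coreC6 n hn u w hu1 hw1 hu hw

end Cfsg.Agent.Lib.Helper8.AltFPLeaf
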