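import Cfsg.Agent.Lib.Helper14.AltFP.Defs

/-!
# S2276 leaves FW0 (joinPerm_mul/one/inv), FW2 (sign_joinPerm), FW3 (good_joinPerm)   (helper8)
-/

set_option autoImplicit false

namespace Cfsg.Agent.Lib.Helper8.AltFPLeaf

open Equiv Equiv.Perm Cfsg.Agent.Lib.Helper14.AltFP
open scoped commutatorElement

/-- the monoid hom `(σ, τ) ↦ joinPerm h σ τ` -/
def joinHom {d n : ℕ} (h : d ≤ n) : Perm (Fin d) × Perm (Fin (n - d)) →* Perm (Fin n) :=
  ((joinEquiv h).permCongrHom.toMonoidHom).comp (sumCongrHom (Fin d) (Fin (n - d)))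

theorem joinHom_apply {d n : ℕ} (h : d ≤ n) (x : Perm (Fin d) × Perm (Fin (n - d))) :
    joinHom h x = joinPerm h x.1 x.2 := rfl

theorem joinHom_injective {d n : ℕ} (h : d ≤ n) : Function.Injective (joinHom h) := by
  intro x y hxy
  have h1 : (joinEquiv h).permCongrHom (sumCongrHom (Fin d) (Fin (n - d)) x)
      = (joinEquiv h).permCongrHom (sumCongrHom (Fin d) (Fin (n - d)) y) := hxy
  exact sumCongrHom_injective ((joinEquiv h).permCongrHom.injective h1)

/-- (FW0) -/
theorem joinPerm_mul {d n : ℕ} (h : d ≤ n) (σ σ' : Perm (Fin d)) (τ τ' : Perm (Fin (n - d))) :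
    joinPerm h (σ * σ') (τ * τ') = joinPerm h σ τ * joinPerm h σ' τ' := by
  have := map_mul (joinHom h) (σ, τ) (σ', τ')
  simpa [joinHom_apply] using this

/-- (FW0) -/
theorem joinPerm_one {d n : ℕ} (h : d ≤ n) : joinPerm h (1 : Perm (Fin d)) (1 : Perm (Fin (n - d))) = 1 := by
  have := map_one (joinHom h)
  simpa [joinHom_apply] using this

/-- (FW0) -/
theorem joinPerm_inv {d n : ℕ} (h : d ≤ n) (σ : Perm (Fin d)) (τ : Perm (Fin (n - d))) :
    (joinPerm h σ τ)⁻¹ = joinPerm h σ⁻¹ τ⁻¹ := by
  have := map_inv (joinHom h) (σ, τ)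
  simpa [joinHom_apply] using this.symm

/-- (FW2) `sign_permCongr`, `sign_sumCongr`. -/
theorem sign_joinPerm {d n : ℕ} (h : d ≤ n) (σ : Perm (Fin d)) (τ : Perm (Fin (n - d))) :
    Perm.sign (joinPerm h σ τ) = Perm.sign σ * Perm.sign τ := by
  unfold joinPerm
  rw [sign_permCongr, sign_sumCongr]

/-- (FW3) `Good` passes from the core to the joined permutations. -/
theorem good_joinPerm {p : ℕ} (hp : p.Prime) {d n : ℕ} (h : d ≤ n) (v c : Perm (Fin d)) (r r' : Perm (Fin (n - d)))
    (hg : Good p v c) : Good p (joinPerm h v r) (joinPerm h c r') := by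
  obtain ⟨hg1, hg2⟩ := hg
  refine ⟨?_, ?_⟩
  · rintro ⟨k, hk⟩
    apply hg1
    rw [← joinPerm_mul, ← joinHom_apply h (v * c, r * r'),
      orderOf_injective (joinHom h) (joinHom_injective h), Prod.orderOf] at hk
    have hdvd : orderOf (v * c) ∣ p ^ k := by
      rw [← hk]; exact Nat.dvd_lcm_left _ _
    obtain ⟨j, _, hj⟩ := (Nat.dvd_prime_pow hp).mp hdvd
    exact ⟨j, hj⟩
  · intro hsol
    apply hg2
    -- closure {Φ a, Φ b} = (closure {a, b}).map Φ
    set a : Perm (Fin d) × Perm (Fin (n - d)) := (v, r) with ha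
    set b : Perm (Fin d) × Perm (Fin (n - d)) := (c, r') with hb
    have hmap : (Subgroup.closure ({a, b} : Set _)).map (joinHom h) =
        Subgroup.closure ({joinPerm h v r, joinPerm h c r'} : Set (Perm (Fin n))) := by
      rw [MonoidHom.map_closure, Set.image_pair]
      rfl
    rw [← hmap] at hsol
    -- the map closure{a,b} → its image is injective, so closure {a,b} is solvable
    have hsol2 : Group.IsSolvable (Subgroup.closure ({a, b} : Set _)) := by
      have := hsol
      let φ : (Subgroup.closure ({a, b} : Set _)) →* ((Subgroup.closure ({a, b} : Set _)).map (joinHom h)) :=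
        (joinHom h).subgroupMap _
      have hφ : Function.Injective φ := by
        intro x y hxy
        have : (joinHom h) x = (joinHom h) y := congrArg Subtype.val hxy
        exact Subtype.ext (joinHom_injective h this)
      exact Group.isSolvable_of_isSolvable_injective hφ
    -- closure {a,b} maps onto closure {v,c} under fst
    have hfst : (Subgroup.closure ({a, b} : Set _)).map (MonoidHom.fst _ _) =
        Subgroup.closure ({v, c} : Set (Perm (Fin d))) := by
      rw [MonoidHom.map_closure, Set.image_pair]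
      rfl
    rw [← hfst]
    have := hsol2
    let ψ : (Subgroup.closure ({a, b} : Set _)) →*
        ((Subgroup.closure ({a, b} : Set _)).map (MonoidHom.fst (Perm (Fin d)) (Perm (Fin (n - d))))) :=
      (MonoidHom.fst (Perm (Fin d)) (Perm (Fin (n - d)))).subgroupMap (Subgroup.closure ({a, b} : Set _))
    have hψ : Function.Surjective ψ := MonoidHom.subgroupMap_surjective _ _
    exact Group.isSolvable_of_surjective hψ

end Cfsg.Agent.Lib.Helper8.AltFPLeaf
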