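import Cfsg.Agent.Lib.Helper14.AltFP.Defs

/-!
# S2276 leaf G6 (alt_wrapper)   (helper8)
-/

set_option autoImplicit false

namespace Cfsg.Agent.Lib.Helper8.AltFPLeaf

open Equiv Equiv.Perm Cfsg.Agent.Lib.Helper14.AltFP
open scoped commutatorElement

/-- (G6) from `Perm (Fin n)` to the alternating group (the frozen statement's conclusion). -/
theorem alt_wrapper (n : ℕ) (p : ℕ) (u w : alternatingGroup (Fin n))
    (h : ∃ σ : Perm (Fin n), Perm.sign σ = 1 ∧ Good p (u : Perm (Fin n)) (σ * (w : Perm (Fin n)) * σ⁻¹)) :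
    ∃ g : alternatingGroup (Fin n), (¬ ∃ k : ℕ, orderOf (u * (g * w * g⁻¹)) = p ^ k) ∧
      ¬ Group.IsSolvable ↥(Subgroup.closure ({u, g * w * g⁻¹} : Set (alternatingGroup (Fin n)))) := by
  obtain ⟨σ, hσ, hg1, hg2⟩ := h
  let g : alternatingGroup (Fin n) := ⟨σ, mem_alternatingGroup.mpr hσ⟩
  refine ⟨g, ?_, ?_⟩
  · rintro ⟨k, hk⟩
    apply hg1
    refine ⟨k, ?_⟩
    rw [← hk, ← Subgroup.orderOf_coe]
    rfl
  · intro hsol
    apply hg2
    have hmap : (Subgroup.closure ({u, g * w * g⁻¹} : Set (alternatingGroup (Fin n)))).map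
        (alternatingGroup (Fin n)).subtype =
        Subgroup.closure ({(u : Perm (Fin n)), σ * (w : Perm (Fin n)) * σ⁻¹} : Set (Perm (Fin n))) := by
      rw [MonoidHom.map_closure, Set.image_pair]
      rfl
    rw [← hmap]
    have := hsol
    let ψ : (Subgroup.closure ({u, g * w * g⁻¹} : Set (alternatingGroup (Fin n)))) →*
        ((Subgroup.closure ({u, g * w * g⁻¹} : Set (alternatingGroup (Fin n)))).map
          (alternatingGroup (Fin n)).subtype) :=
      ((alternatingGroup (Fin n)).subtype).subgroupMap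
        (Subgroup.closure ({u, g * w * g⁻¹} : Set (alternatingGroup (Fin n))))
    have hψ : Function.Surjective ψ := MonoidHom.subgroupMap_surjective _ _
    exact Group.isSolvable_of_surjective hψ

end Cfsg.Agent.Lib.Helper8.AltFPLeaf
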