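import Mathlib
import Cfsg.Agent.Lib.Lead.CharBurnside
import Cfsg.Agent.Lib.Lead.BlockBasic
import Cfsg.Agent.Lib.Helper24.MultA

/-!
helper8: BQ-VANISH (S4501 market, planner helper4): a non-trivial irreducible character of `r`-power degree of a
non-abelian simple group with ABELIAN Sylow `r`-subgroup `R` has degree exactly `|R|`.
-/

set_option autoImplicit false

namespace Cfsg.Agent.Lib.Helper8.BQVANISH

open Cfsg Cfsg.Agent.CharLib Cfsg.Agent.Lib.Helper24 Representation Module

universe u

theorem irr_eq_zero_of_coprime_class {G : Type u} [Group G] [Finite G] [IsSimpleGroup G]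
    (hna : ∃ x y : G, x * y ≠ y * x) (χ : IrrCharacter G)
    (hχ : (χ : G → ℂ) ≠ fun _ => 1) (u : G) (hu1 : u ≠ 1)
    (hcop : Nat.Coprime (charDegree (χ : G → ℂ)) (Subgroup.centralizer ({u} : Set G)).index) :
    (χ : G → ℂ) u = 0 := by
  classical
  obtain ⟨n, ρ, hirr, hρ⟩ := χ.2
  have := hirr
  have hχ1 : (χ : G → ℂ) 1 = n := by rw [← hρ]; simp
  have hfr : finrank ℂ (Fin n → ℂ) = n := by simp
  have hdeg : charDegree (χ : G → ℂ) = n := by
    have := Cfsg.Agent.Lib.Helper24.irr_apply_one χ
    rw [hχ1] at this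
    exact_mod_cast this.symm
  have hcop' : Nat.Coprime (finrank ℂ (Fin n → ℂ)) (Subgroup.centralizer ({u} : Set G)).index := by
    rw [hfr, ← hdeg]; exact hcop
  rcases char_eq_zero_or_norm_eq_of_coprime ρ u hcop' with h0 | hnorm
  · rw [← hρ]; exact h0
  · exfalso
    obtain ⟨ω, hω⟩ := exists_scalar_of_norm_char_eq ρ u hnorm
    have hker : (ρ : G →* (Module.End ℂ (Fin n → ℂ))).ker = ⊥ ∨ (ρ : G →* _).ker = ⊤ :=
      (MonoidHom.normal_ker _).eq_bot_or_eq_top
    rcases hker with hbot | htop
    · have hcent : u ∈ Subgroup.center G := by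
        rw [Subgroup.mem_center_iff]
        intro h
        have h1 : ρ (h * u) = ρ (u * h) := by
          rw [map_mul, map_mul, hω]
          ext v
          simp
        have h2 : h * u * (u * h)⁻¹ ∈ (ρ : G →* _).ker := by
          rw [MonoidHom.mem_ker, map_mul, h1, ← map_mul, mul_inv_cancel, map_one]
        rw [hbot, Subgroup.mem_bot] at h2
        exact mul_inv_eq_one.mp h2
      have hZ : Subgroup.center G = ⊤ :=
        ((inferInstance : (Subgroup.center G).Normal).eq_bot_or_eq_top).resolve_left (by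
          intro h; rw [h] at hcent; exact hu1 (Subgroup.mem_bot.mp hcent))
      obtain ⟨a, b, hab⟩ := hna
      apply hab
      have : a ∈ Subgroup.center G := by rw [hZ]; trivial
      exact (Subgroup.mem_center_iff.mp this b).symm
    · apply hχ
      have hall : ∀ x, ρ x = 1 := by
        intro x
        have : x ∈ (ρ : G →* _).ker := by rw [htop]; trivial
        exact MonoidHom.mem_ker.mp this
      have hn1 : n = 1 := by
        have := finrank_eq_one_of_forall_eq_one ρ hall
        rw [hfr] at this; exact this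
      rw [← hρ]
      funext x
      simp only [Representation.character, hall x]
      rw [show (1 : Module.End ℂ (Fin n → ℂ)) = LinearMap.id from rfl, LinearMap.trace_id, hfr, hn1]
      simp

/-- (V): abelian Sylow `r`-subgroup, nontrivial irreducible character of degree `r ^ i`: `r ^ i = |R|`. -/
theorem degree_eq_card_sylow_of_abelian {G : Type u} [Group G] [Finite G] [IsSimpleGroup G]
    (hna : ∃ x y : G, x * y ≠ y * x) (r : ℕ) [Fact r.Prime] (R : Sylow r G)
    (hR : ∀ x ∈ (R : Subgroup G), ∀ y ∈ (R : Subgroup G), x * y = y * x)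
    (χ : IrrCharacter G) (hχ : (χ : G → ℂ) ≠ fun _ => 1) (i : ℕ)
    (hdeg : charDegree (χ : G → ℂ) = r ^ i) :
    r ^ i = Nat.card (R : Subgroup G) := by
  classical
  have hr : r.Prime := Fact.out
  have hvan : ∀ z ∈ (R : Subgroup G), z ≠ 1 → (χ : G → ℂ) z = 0 := by
    intro z hz hz1
    apply irr_eq_zero_of_coprime_class hna χ hχ z hz1
    rw [hdeg]
    apply Nat.Coprime.pow_left
    rw [hr.coprime_iff_not_dvd]
    intro hd
    have hle : (R : Subgroup G) ≤ Subgroup.centralizer ({z} : Set G) := by
      intro y hy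
      rw [Subgroup.mem_centralizer_iff]
      intro w hw
      rw [Set.mem_singleton_iff] at hw
      subst hw
      exact hR w hz y hy
    have h1 : (Subgroup.centralizer ({z} : Set G)).index ∣ (R : Subgroup G).index :=
      Subgroup.index_dvd_of_le hle
    exact R.not_dvd_index (dvd_trans hd h1)
  have h1 : Nat.card (R : Subgroup G) ∣ r ^ i := by
    rw [← hdeg]
    exact Cfsg.Agent.Lib.Helper24.Mult.card_dvd_degree_of_vanish χ (R : Subgroup G) hvan
  have h2 : r ^ i ∣ Nat.card G := by
    rw [← hdeg]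
    exact Cfsg.Agent.Lib.Helper24.irr_charDegree_dvd_card χ
  have h3 : Nat.card (R : Subgroup G) = r ^ (Nat.card G).factorization r := R.card_eq_multiplicity
  have h4 : i ≤ (Nat.card G).factorization r :=
    (hr.pow_dvd_iff_le_factorization Nat.card_pos.ne').mp h2
  rw [h3] at h1 ⊢
  have h5 : (Nat.card G).factorization r ≤ i := (Nat.pow_dvd_pow_iff_le_right hr.one_lt).mp h1
  rw [le_antisymm h4 h5]

/-- BQ-VANISH. -/
theorem degree_eq_sylow_card {G : Type u} [Group G] [Finite G] [IsSimpleGroup G]
    (hna : ∃ x y : G, x * y ≠ y * x) (r : ℕ) [Fact r.Prime] (R : Sylow r G)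
    (hab : ∀ x ∈ (R : Subgroup G), ∀ y ∈ (R : Subgroup G), x * y = y * x)
    (χ : IrrCharacter G) (hχ : χ ≠ Cfsg.Agent.CharLib.trivIrr G) (i : ℕ) (hdeg : charDegree (χ : G → ℂ) = r ^ i) :
    r ^ i = Nat.card (R : Subgroup G) := by
  apply degree_eq_card_sylow_of_abelian hna r R hab χ _ i hdeg
  intro h
  apply hχ
  apply Subtype.ext
  rw [h]
  rfl

end Cfsg.Agent.Lib.Helper8.BQVANISH
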