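import Mathlib
import Cfsg.Agent.Lib.Helper12.ThompsonNPC

/-!
# Thompson's normal `p`-complement argument for a pair of functors (helper8 library)

Adaptation of helper12's `hasNormalPComplement_of_minimal_sections` to the hypothesis
"`N(W₁(S))` and `C(W₂(S))` have normal `p`-complements" (Thompson's original form with
`W₁ = J`, `W₂ = Z`).
-/

set_option autoImplicit false
open Subgroup
open scoped Pointwise

namespace Cfsg.Agent.Lib.Helper8.ThPair

open Cfsg.Agent.Lib.Helper12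

universe u

section basic
variable {p : ℕ} [Fact p.Prime]

/-- a normal `p`-complement of `N(U)` gives one of `C(U)` -/
theorem hasNPC_centralizer_of_normalizer {Y : Type u} [Group Y] [Finite Y] (U : Subgroup Y)
    (h : Cfsg.HasNormalPComplement p ↥(Subgroup.normalizer (U : Set Y))) :
    Cfsg.HasNormalPComplement p ↥(Subgroup.centralizer (U : Set Y)) :=
  hasNormalPComplement_of_injective
    (Subgroup.inclusion (Subgroup.centralizer_le_normalizer (U : Set Y)))
    (Subgroup.inclusion_injective _) h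

/-- modulo a normal `p'`-subgroup `D`, the centralizer of the image of a `p`-subgroup `Z` is the
image of the centralizer of `Z` -/
theorem centralizer_map_mk_le {Y : Type*} [Group Y] [Finite Y] (D : Subgroup Y) [hDn : D.Normal]
    (hD : (Nat.card D).Coprime p) (Z : Subgroup Y) (hZ : IsPGroup p Z) :
    Subgroup.centralizer ((Z.map (QuotientGroup.mk' D) : Subgroup (Y ⧸ D)) : Set (Y ⧸ D)) ≤
      (Subgroup.centralizer (Z : Set Y)).map (QuotientGroup.mk' D) := by
  intro xb hxb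
  have hxbN := Subgroup.centralizer_le_normalizer _ hxb
  obtain ⟨x, hxN, rfl⟩ := normalizer_map_mk_le D hD Z hZ hxbN
  refine ⟨x, Subgroup.mem_centralizer_iff.mpr ?_, rfl⟩
  intro z hz
  have hc1 : x * z * x⁻¹ * z⁻¹ ∈ Z :=
    Z.mul_mem ((Subgroup.mem_normalizer_iff.mp hxN z).mp hz) (Z.inv_mem hz)
  have hc2 : x * z * x⁻¹ * z⁻¹ ∈ D := by
    rw [← QuotientGroup.ker_mk' D, MonoidHom.mem_ker]
    have h1 := (Subgroup.mem_centralizer_iff.mp hxb) ((QuotientGroup.mk' D) z) ⟨z, hz, rfl⟩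
    rw [map_mul, map_mul, map_mul, map_inv, map_inv, ← h1]
    group
  have hdisj : Disjoint Z D := by
    apply Subgroup.disjoint_of_coprime_natCard
    obtain ⟨k, hk⟩ := IsPGroup.iff_card.mp hZ
    rw [hk]
    exact (Nat.Coprime.pow_right k hD).symm
  have h1 : x * z * x⁻¹ * z⁻¹ = 1 := Subgroup.disjoint_def.mp hdisj hc1 hc2
  calc z * x = (x * z * x⁻¹ * z⁻¹)⁻¹ * (x * z) := by group
    _ = x * z := by rw [h1, inv_one, one_mul]

end basic

section transport
variable {p : ℕ} [Fact p.Prime] (W : ∀ (Q : Type u) [Group Q], Subgroup Q)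
  (hW : Cfsg.IsCharPFunctor.{u} p W)

include hW in
/-- normal `p`-complements of centralizers of `W(T)` pass from `Y` to subgroups containing `T` -/
theorem hasNPC_centralizer_subgroup {Y : Type u} [Group Y] [Finite Y] (M : Subgroup Y)
    (T : Subgroup ↥M) (hT : IsPGroup p T)
    (h : Cfsg.HasNormalPComplement p
      ↥(Subgroup.centralizer ((Cfsg.inducedFunctor W (T.map M.subtype) : Subgroup Y) : Set Y))) :
    Cfsg.HasNormalPComplement p
      ↥(Subgroup.centralizer ((Cfsg.inducedFunctor W T : Subgroup ↥M) : Set ↥M)) := by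
  have hnat : Cfsg.inducedFunctor W (T.map M.subtype) = (Cfsg.inducedFunctor W T).map M.subtype :=
    inducedFunctor_map_of_injOn W hW M.subtype T hT (fun x _ hx => by simpa using hx)
  rw [hnat] at h
  let f : ↥(Subgroup.centralizer ((Cfsg.inducedFunctor W T : Subgroup ↥M) : Set ↥M)) →*
      ↥(Subgroup.centralizer (((Cfsg.inducedFunctor W T).map M.subtype : Subgroup Y) : Set Y)) :=
    MonoidHom.codRestrict (M.subtype.comp (Subgroup.subtype _)) _
      (fun x => by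
        refine Subgroup.mem_centralizer_iff.mpr ?_
        rintro _ ⟨w, hw, rfl⟩
        exact congrArg Subtype.val ((Subgroup.mem_centralizer_iff.mp x.2) w hw))
  apply hasNormalPComplement_of_injective f _ h
  intro a b hab
  have h1 := congrArg Subtype.val hab
  apply Subtype.ext
  apply Subtype.ext
  exact h1

include hW in
/-- transport of the centralizer hypothesis to any other Sylow subgroup -/
theorem hasNPC_centralizer_sylow {Y : Type u} [Group Y] [Finite Y] (S S' : Sylow p Y)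
    (h : Cfsg.HasNormalPComplement p
      ↥(Subgroup.centralizer ((Cfsg.inducedFunctor W (S : Subgroup Y) : Subgroup Y) : Set Y))) :
    Cfsg.HasNormalPComplement p
      ↥(Subgroup.centralizer ((Cfsg.inducedFunctor W (S' : Subgroup Y) : Subgroup Y) : Set Y)) := by
  obtain ⟨g, hg⟩ := MulAction.exists_smul_eq Y S' S
  have hS : (S : Subgroup Y) = (S' : Subgroup Y).map (MulAut.conj g).toMonoidHom := by
    ext x
    rw [← hg, mem_map_conj_iff]
    exact Cfsg.Agent.Lib.Helper29.mem_smul_sylow_iff g x S'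
  have hnat := inducedFunctor_map_equiv W hW (MulAut.conj g) (S' : Subgroup Y) S'.2
  rw [hS, hnat] at h
  let f : ↥(Subgroup.centralizer ((Cfsg.inducedFunctor W (S' : Subgroup Y) : Subgroup Y) : Set Y)) →*
      ↥(Subgroup.centralizer (((Cfsg.inducedFunctor W (S' : Subgroup Y)).map
        (MulAut.conj g).toMonoidHom : Subgroup Y) : Set Y)) :=
    MonoidHom.codRestrict ((MulAut.conj g).toMonoidHom.comp (Subgroup.subtype _)) _
      (fun x => by
        refine Subgroup.mem_centralizer_iff.mpr ?_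
        rintro _ ⟨w, hw, rfl⟩
        have h1 := (Subgroup.mem_centralizer_iff.mp x.2) w hw
        show g * w * g⁻¹ * (g * (x : Y) * g⁻¹) = g * (x : Y) * g⁻¹ * (g * w * g⁻¹)
        calc g * w * g⁻¹ * (g * (x : Y) * g⁻¹) = g * (w * (x : Y)) * g⁻¹ := by group
          _ = g * ((x : Y) * w) * g⁻¹ := by rw [h1]
          _ = g * (x : Y) * g⁻¹ * (g * w * g⁻¹) := by group)
  apply hasNormalPComplement_of_injective f _ h
  intro a b hab
  have h1 := congrArg Subtype.val hab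
  apply Subtype.ext
  exact (MulAut.conj g).injective h1

end transport


section thompson
variable {p : ℕ} [Fact p.Prime] (W₁ W₂ : ∀ (Q : Type u) [Group Q], Subgroup Q)
  (hW₁ : Cfsg.IsCharPFunctor.{u} p W₁) (hW₂ : Cfsg.IsCharPFunctor.{u} p W₂)

/-- the pair hypothesis for a subgroup `T` of `Y` -/
def PH (p : ℕ) (W₁ W₂ : ∀ (Q : Type u) [Group Q], Subgroup Q) (Y : Type u) [Group Y]
    (T : Subgroup Y) : Prop :=
  Cfsg.HasNormalPComplement p
      ↥(Subgroup.normalizer ((Cfsg.inducedFunctor W₁ T : Subgroup Y) : Set Y)) ∧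
    Cfsg.HasNormalPComplement p
      ↥(Subgroup.centralizer ((Cfsg.inducedFunctor W₂ T : Subgroup Y) : Set Y))

include hW₁ hW₂ in
theorem PH.sylow {Y : Type u} [Group Y] [Finite Y] (S S' : Sylow p Y)
    (h : PH p W₁ W₂ Y (S : Subgroup Y)) : PH p W₁ W₂ Y (S' : Subgroup Y) :=
  ⟨hasNormalPComplement_normalizer_sylow W₁ hW₁ S S' h.1, hasNPC_centralizer_sylow W₂ hW₂ S S' h.2⟩

include hW₁ hW₂ in
theorem PH.subgroup {Y : Type u} [Group Y] [Finite Y] (M : Subgroup Y) (T : Subgroup ↥M)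
    (hT : IsPGroup p T) (h : PH p W₁ W₂ Y (T.map M.subtype)) : PH p W₁ W₂ ↥M T :=
  ⟨hasNormalPComplement_normalizer_subgroup W₁ hW₁ M T hT h.1,
    hasNPC_centralizer_subgroup W₂ hW₂ M T hT h.2⟩

include hW₁ hW₂ in
/-- Step 1: in a minimal counterexample `O_p(Y) ≠ 1` -/
theorem pCore_ne_bot_of_minimal {Y : Type u} [Group Y] [Finite Y]
    (hnot : ¬ Cfsg.HasNormalPComplement p Y)
    (hall : ∀ S' : Sylow p Y, PH p W₁ W₂ Y (S' : Subgroup Y))
    (IHsub : ∀ (M : Subgroup Y), M ≠ ⊤ → ∀ T : Sylow p ↥M,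
      PH p W₁ W₂ Y ((T : Subgroup ↥M).map M.subtype) → Cfsg.HasNormalPComplement p ↥M) :
    Cfsg.pCore p Y ≠ ⊥ := by
  let 𝓟 : Set (Subgroup Y × Subgroup Y) := {HT | IsPGroup p HT.1 ∧ HT.1 ≠ ⊥ ∧
      ¬ Cfsg.HasNormalPComplement p ↥(Subgroup.normalizer (HT.1 : Set Y)) ∧ IsPGroup p HT.2 ∧ HT.1 ≤ HT.2 ∧
      HT.2 ≤ Subgroup.normalizer (HT.1 : Set Y)}
  obtain ⟨Q, hQp, hQne, hQn⟩ := exists_isPGroup_normalizer_not_hasNormalPComplement hnot
  have hne : 𝓟.Nonempty := ⟨(Q, Q), hQp, hQne, hQn, hQp, le_rfl, Subgroup.le_normalizer⟩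
  obtain ⟨⟨H, T⟩, ⟨hHp, hHne, hHn, hTp, hHT, hTN⟩, hmax⟩ :=
    Set.exists_max_image 𝓟 (fun HT => Nat.card ↥HT.2) (Set.toFinite 𝓟) hne
  simp only at hHp hHne hHn hTp hHT hTN hmax
  obtain ⟨N, hN⟩ : ∃ N, N = Subgroup.normalizer (H : Set Y) := ⟨_, rfl⟩
  rw [← hN] at hTN hHn
  have hTN' : IsPGroup p (T.subgroupOf N) := hTp.comap_of_injective _ (Subgroup.subtype_injective _)
  obtain ⟨S₀, hS₀⟩ := hTN'.exists_le_sylow
  obtain ⟨S₀', hS₀'⟩ : ∃ S₀' : Subgroup Y, S₀' = (S₀ : Subgroup ↥N).map N.subtype := ⟨_, rfl⟩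
  have hS₀'p : IsPGroup p S₀' := by rw [hS₀']; exact S₀.2.map _
  have hTS₀' : T ≤ S₀' := by
    rw [hS₀', ← Subgroup.map_subgroupOf_eq_of_le hTN]
    exact Subgroup.map_mono hS₀
  have hHS₀' : H ≤ S₀' := hHT.trans hTS₀'
  have hS₀'ne : S₀' ≠ ⊥ := fun h => hHne (le_bot_iff.mp (h ▸ hHS₀'))
  have hcardT : Nat.card T ≤ Nat.card S₀' := Subgroup.card_le_of_le hTS₀'
  -- the key claim for a conjugacy functor
  have hkey : ∀ (W : ∀ (Q : Type u) [Group Q], Subgroup Q), Cfsg.IsCharPFunctor.{u} p W →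
      (∀ S₁ : Sylow p Y, S₀' = (S₁ : Subgroup Y) → Cfsg.HasNormalPComplement p
        ↥(Subgroup.centralizer ((Cfsg.inducedFunctor W S₀' : Subgroup Y) : Set Y))) →
      Cfsg.HasNormalPComplement p
        ↥(Subgroup.centralizer ((Cfsg.inducedFunctor W S₀' : Subgroup Y) : Set Y)) ∧
      ((∀ S₁ : Sylow p Y, S₀' = (S₁ : Subgroup Y) → Cfsg.HasNormalPComplement p
        ↥(Subgroup.normalizer ((Cfsg.inducedFunctor W S₀' : Subgroup Y) : Set Y))) →
      Cfsg.HasNormalPComplement p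
        ↥(Subgroup.normalizer ((Cfsg.inducedFunctor W S₀' : Subgroup Y) : Set Y))) := by
    intro W hW hsylC
    obtain ⟨U, hU⟩ : ∃ U, U = Cfsg.inducedFunctor W S₀' := ⟨_, rfl⟩
    have hconj := isConjugacyFunctor_induced W hW Y S₀' hS₀'p
    rw [← hU] at hconj hsylC ⊢
    have hUS₀' : U ≤ S₀' := hconj.1
    have hUne : U ≠ ⊥ := hconj.2.1 hS₀'ne
    have hUp : IsPGroup p U := hS₀'p.to_le hUS₀'
    have hNS₀'U : Subgroup.normalizer (S₀' : Set Y) ≤ Subgroup.normalizer (U : Set Y) := by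
      rw [hU]; exact normalizer_le_normalizer_inducedFunctor W hW S₀' hS₀'p
    obtain ⟨S₁, hS₁⟩ := hS₀'p.exists_le_sylow
    rcases eq_or_lt_of_le hS₁ with heq | hlt
    · exact ⟨hsylC S₁ heq, fun hsylN => hsylN S₁ heq⟩
    · have hNU : Cfsg.HasNormalPComplement p ↥(Subgroup.normalizer (U : Set Y)) := by
        by_contra hcon
        obtain ⟨s, hsS₁, hsN, hsS₀'⟩ :=
          Cfsg.Agent.Lib.Helper29.exists_mem_normalizer_not_mem S₁ S₀' hlt
        have hT₂le : S₀' ⊔ Subgroup.zpowers s ≤ (S₁ : Subgroup Y) :=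
          sup_le hS₁ (by rw [Subgroup.zpowers_le]; exact hsS₁)
        have hT₂p : IsPGroup p (S₀' ⊔ Subgroup.zpowers s : Subgroup Y) := S₁.2.to_le hT₂le
        have hT₂N : S₀' ⊔ Subgroup.zpowers s ≤ Subgroup.normalizer (U : Set Y) :=
          sup_le (Subgroup.le_normalizer.trans hNS₀'U)
            (by rw [Subgroup.zpowers_le]; exact hNS₀'U hsN)
        have hmem : (U, S₀' ⊔ Subgroup.zpowers s) ∈ 𝓟 :=
          ⟨hUp, hUne, hcon, hT₂p, hUS₀'.trans le_sup_left, hT₂N⟩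
        have h1 := hmax _ hmem
        have h2 : S₀' < S₀' ⊔ Subgroup.zpowers s :=
          left_lt_sup.mpr (fun h => hsS₀' (h (Subgroup.mem_zpowers s)))
        have h3 := Cfsg.Agent.Lib.Helper29.card_lt_card_of_lt' h2
        simp only at h1
        omega
      exact ⟨hasNPC_centralizer_of_normalizer U hNU, fun _ => hNU⟩
  have hclaim : PH p W₁ W₂ Y S₀' := by
    refine ⟨(hkey W₁ hW₁ ?_).2 ?_, (hkey W₂ hW₂ ?_).1⟩
    · intro S₁ heq
      rw [heq]
      exact hasNPC_centralizer_of_normalizer _ (hall S₁).1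
    · intro S₁ heq
      rw [heq]
      exact (hall S₁).1
    · intro S₁ heq
      rw [heq]
      exact (hall S₁).2
  have hNtop : N = ⊤ := by
    by_contra hNne
    apply hHn
    apply IHsub N hNne S₀
    rw [← hS₀']
    exact hclaim
  have hHnormal : H.Normal := by
    rw [← Subgroup.normalizer_eq_top_iff, ← hN]; exact hNtop
  intro hbot
  exact hHne (le_bot_iff.mp (hbot ▸ le_pCore' p H hHnormal hHp))


include hW₁ hW₂ in
/-- Step 2: `Y ⧸ O_p(Y)` has a normal `p`-complement -/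
theorem hasNormalPComplement_quotient_pCore_of_minimal {Y : Type u} [Group Y] [Finite Y]
    (S : Sylow p Y) (hNS : PH p W₁ W₂ Y (S : Subgroup Y))
    (IHsub : ∀ (M : Subgroup Y), M ≠ ⊤ → ∀ T : Sylow p ↥M,
      PH p W₁ W₂ Y ((T : Subgroup ↥M).map M.subtype) → Cfsg.HasNormalPComplement p ↥M)
    (IHquot : ∀ Sb : Sylow p (Y ⧸ Cfsg.pCore p Y),
      PH p W₁ W₂ (Y ⧸ Cfsg.pCore p Y) (Sb : Subgroup (Y ⧸ Cfsg.pCore p Y)) →
      Cfsg.HasNormalPComplement p (Y ⧸ Cfsg.pCore p Y)) :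
    Cfsg.HasNormalPComplement p (Y ⧸ Cfsg.pCore p Y) := by
  have hmk : Function.Surjective (QuotientGroup.mk' (Cfsg.pCore p Y)) := QuotientGroup.mk'_surjective _
  obtain ⟨Sb, hSb⟩ : ∃ Sb : Sylow p (Y ⧸ Cfsg.pCore p Y), Sb = S.mapSurjective hmk := ⟨_, rfl⟩
  have hSbc : (Sb : Subgroup (Y ⧸ Cfsg.pCore p Y)) = (S : Subgroup Y).map (QuotientGroup.mk' (Cfsg.pCore p Y)) := by
    rw [hSb]; rfl
  by_cases hSbbot : (Sb : Subgroup (Y ⧸ Cfsg.pCore p Y)) = ⊥
  · apply hasNormalPComplement_of_coprime_card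
    have hidx : (Sb : Subgroup (Y ⧸ Cfsg.pCore p Y)).index = Nat.card (Y ⧸ Cfsg.pCore p Y) := by
      rw [hSbbot, Subgroup.index_bot]
    rw [← hidx, Nat.coprime_comm, Nat.Prime.coprime_iff_not_dvd Fact.out]
    exact Sb.not_dvd_index
  -- for each functor: the normalizer of `W(Sb)` has a normal `p`-complement
  have hkey : ∀ (W : ∀ (Q : Type u) [Group Q], Subgroup Q), Cfsg.IsCharPFunctor.{u} p W →
      Cfsg.HasNormalPComplement p
        ↥(Subgroup.normalizer ((Cfsg.inducedFunctor W (Sb : Subgroup (Y ⧸ Cfsg.pCore p Y)) :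
          Subgroup (Y ⧸ Cfsg.pCore p Y)) : Set (Y ⧸ Cfsg.pCore p Y))) := by
    intro W hW
    obtain ⟨Wb, hWb⟩ : ∃ Wb, Wb = Cfsg.inducedFunctor W (Sb : Subgroup (Y ⧸ Cfsg.pCore p Y)) := ⟨_, rfl⟩
    have hconj := isConjugacyFunctor_induced W hW (Y ⧸ Cfsg.pCore p Y) (Sb : Subgroup _) Sb.2
    have hnn := normalizer_le_normalizer_inducedFunctor W hW (Sb : Subgroup (Y ⧸ Cfsg.pCore p Y)) Sb.2
    rw [← hWb] at hconj hnn ⊢
    have hSL : (S : Subgroup Y) ≤ (Subgroup.normalizer (Wb : Set (Y ⧸ Cfsg.pCore p Y))).comap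
        (QuotientGroup.mk' (Cfsg.pCore p Y)) := by
      intro s hs
      rw [Subgroup.mem_comap]
      have h1 : (QuotientGroup.mk' (Cfsg.pCore p Y)) s ∈ (Sb : Subgroup _) := by
        rw [hSbc]; exact ⟨s, hs, rfl⟩
      exact hnn (Subgroup.le_normalizer h1)
    have hLtop : (Subgroup.normalizer (Wb : Set (Y ⧸ Cfsg.pCore p Y))).comap
        (QuotientGroup.mk' (Cfsg.pCore p Y)) ≠ ⊤ := by
      intro hLtop
      have hWbn : Wb.Normal := by
        rw [← Subgroup.normalizer_eq_top_iff, eq_top_iff]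
        intro x _
        obtain ⟨y, rfl⟩ := hmk x
        have : y ∈ (Subgroup.normalizer (Wb : Set (Y ⧸ Cfsg.pCore p Y))).comap
            (QuotientGroup.mk' (Cfsg.pCore p Y)) := hLtop ▸ Subgroup.mem_top y
        exact this
      have hWbp : IsPGroup p Wb := Sb.2.to_le hconj.1
      have hWbbot : Wb = ⊥ := eq_bot_of_normal_isPGroup_quotient_pCore Wb hWbp
      exact hconj.2.1 hSbbot hWbbot
    have hLnpc : Cfsg.HasNormalPComplement p ↥((Subgroup.normalizer (Wb : Set (Y ⧸ Cfsg.pCore p Y))).comap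
        (QuotientGroup.mk' (Cfsg.pCore p Y))) := by
      apply IHsub _ hLtop (S.subtype hSL)
      have : Subgroup.map (Subgroup.subtype _) (S.subtype hSL).toSubgroup = (S : Subgroup Y) := by
        rw [Sylow.coe_subtype, Subgroup.map_subgroupOf_eq_of_le hSL]
      rw [this]; exact hNS
    exact hasNormalPComplement_of_surjective
      ((QuotientGroup.mk' (Cfsg.pCore p Y)).subgroupComap (Subgroup.normalizer (Wb : Set (Y ⧸ Cfsg.pCore p Y))))
      (MonoidHom.subgroupComap_surjective_of_surjective _ _ hmk) hLnpc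
  exact IHquot Sb ⟨hkey W₁ hW₁, hasNPC_centralizer_of_normalizer _ (hkey W₂ hW₂)⟩

include hW₁ hW₂ in
/-- Step 3: in a minimal counterexample `O_{p'}(Y) = 1` -/
theorem pPrimeCore_eq_bot_of_minimal {Y : Type u} [Group Y] [Finite Y]
    (hnot : ¬ Cfsg.HasNormalPComplement p Y) (S : Sylow p Y)
    (hNS : PH p W₁ W₂ Y (S : Subgroup Y))
    (IHquot : Cfsg.pPrimeCore p Y ≠ ⊥ → ∀ Sb : Sylow p (Y ⧸ Cfsg.pPrimeCore p Y),
      PH p W₁ W₂ (Y ⧸ Cfsg.pPrimeCore p Y) (Sb : Subgroup (Y ⧸ Cfsg.pPrimeCore p Y)) →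
      Cfsg.HasNormalPComplement p (Y ⧸ Cfsg.pPrimeCore p Y)) :
    Cfsg.pPrimeCore p Y = ⊥ := by
  by_contra hD
  apply hnot
  have hDcop : (Nat.card (Cfsg.pPrimeCore p Y)).Coprime p := pPrimeCore_coprime p
  apply hasNormalPComplement_of_quotient (Cfsg.pPrimeCore p Y) hDcop
  have hmk : Function.Surjective (QuotientGroup.mk' (Cfsg.pPrimeCore p Y)) := QuotientGroup.mk'_surjective _
  apply IHquot hD (S.mapSurjective hmk)
  rw [Sylow.coe_mapSurjective]
  have hinj : ∀ x ∈ (S : Subgroup Y), (QuotientGroup.mk' (Cfsg.pPrimeCore p Y)) x = 1 → x = 1 := by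
    intro x hx h1
    have hxD : x ∈ Cfsg.pPrimeCore p Y := (QuotientGroup.eq_one_iff x).mp h1
    have hdisj : Disjoint (S : Subgroup Y) (Cfsg.pPrimeCore p Y) := by
      apply Subgroup.disjoint_of_coprime_natCard
      obtain ⟨k, hk⟩ := IsPGroup.iff_card.mp S.2
      rw [hk]
      exact (Nat.Coprime.pow_right k hDcop).symm
    exact Subgroup.disjoint_def.mp hdisj hx hxD
  constructor
  · rw [inducedFunctor_map_of_injOn W₁ hW₁ _ (S : Subgroup Y) S.2 hinj]
    have hZp : IsPGroup p (Cfsg.inducedFunctor W₁ (S : Subgroup Y)) :=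
      S.2.to_le (isConjugacyFunctor_induced W₁ hW₁ Y (S : Subgroup Y) S.2).1
    have hle := normalizer_map_mk_le (Cfsg.pPrimeCore p Y) hDcop (Cfsg.inducedFunctor W₁ (S : Subgroup Y)) hZp
    let f : ↥(Subgroup.normalizer ((Cfsg.inducedFunctor W₁ (S : Subgroup Y) : Subgroup Y) : Set Y)) →*
        ↥(Subgroup.normalizer (((Cfsg.inducedFunctor W₁ (S : Subgroup Y)).map
          (QuotientGroup.mk' (Cfsg.pPrimeCore p Y)) : Subgroup (Y ⧸ Cfsg.pPrimeCore p Y)) :
            Set (Y ⧸ Cfsg.pPrimeCore p Y))) :=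
      MonoidHom.codRestrict ((QuotientGroup.mk' (Cfsg.pPrimeCore p Y)).comp (Subgroup.subtype _)) _
        (fun x => Subgroup.le_normalizer_map _ ⟨x.1, x.2, rfl⟩)
    have hf : Function.Surjective f := by
      rintro ⟨y, hy⟩
      obtain ⟨x, hx, rfl⟩ := hle hy
      exact ⟨⟨x, hx⟩, Subtype.ext rfl⟩
    exact hasNormalPComplement_of_surjective f hf hNS.1
  · rw [inducedFunctor_map_of_injOn W₂ hW₂ _ (S : Subgroup Y) S.2 hinj]
    have hZp : IsPGroup p (Cfsg.inducedFunctor W₂ (S : Subgroup Y)) :=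
      S.2.to_le (isConjugacyFunctor_induced W₂ hW₂ Y (S : Subgroup Y) S.2).1
    have hle := centralizer_map_mk_le (Cfsg.pPrimeCore p Y) hDcop (Cfsg.inducedFunctor W₂ (S : Subgroup Y)) hZp
    let f : ↥(Subgroup.centralizer ((Cfsg.inducedFunctor W₂ (S : Subgroup Y) : Subgroup Y) : Set Y)) →*
        ↥(Subgroup.centralizer (((Cfsg.inducedFunctor W₂ (S : Subgroup Y)).map
          (QuotientGroup.mk' (Cfsg.pPrimeCore p Y)) : Subgroup (Y ⧸ Cfsg.pPrimeCore p Y)) :
            Set (Y ⧸ Cfsg.pPrimeCore p Y))) :=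
      MonoidHom.codRestrict ((QuotientGroup.mk' (Cfsg.pPrimeCore p Y)).comp (Subgroup.subtype _)) _
        (fun x => by
          refine Subgroup.mem_centralizer_iff.mpr ?_
          rintro _ ⟨w, hw, rfl⟩
          have h1 := (Subgroup.mem_centralizer_iff.mp x.2) w hw
          show (QuotientGroup.mk' (Cfsg.pPrimeCore p Y)) w * (QuotientGroup.mk' (Cfsg.pPrimeCore p Y)) (x : Y) =
            (QuotientGroup.mk' (Cfsg.pPrimeCore p Y)) (x : Y) * (QuotientGroup.mk' (Cfsg.pPrimeCore p Y)) w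
          rw [← map_mul, ← map_mul, h1])
    have hf : Function.Surjective f := by
      rintro ⟨y, hy⟩
      obtain ⟨x, hx, rfl⟩ := hle hy
      exact ⟨⟨x, hx⟩, Subtype.ext rfl⟩
    exact hasNormalPComplement_of_surjective f hf hNS.2

include hW₁ hW₂ in
/-- **Thompson's normal `p`-complement argument for a pair of functors**: if in every group `Y` of the class with
`O_{p'}(Y) = 1`, `C(O_p) ≤ O_p`, `Y/O_p(Y)` having a normal `p`-complement, a Sylow `p`-subgroup `T` that is a maximal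
subgroup, and such that `N(W₁(T))`, `C(W₂(T))` have normal `p`-complements, `Y` has a normal `p`-complement, then so
does every group of the class satisfying the pair hypothesis. -/
theorem hasNormalPComplement_of_minimal_pair
    (𝒞 : ∀ (Y : Type u) [Group Y], Prop)
    (hsub : ∀ (Y : Type u) [Group Y] (H : Subgroup Y), 𝒞 Y → 𝒞 ↥H)
    (hquot : ∀ (Y : Type u) [Group Y] (N : Subgroup Y) [N.Normal], 𝒞 Y → 𝒞 (Y ⧸ N))
    (hmin : ∀ (Y : Type u) [Group Y] [Finite Y], 𝒞 Y →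
      Cfsg.pPrimeCore p Y = ⊥ →
      Subgroup.centralizer ((Cfsg.pCore p Y : Subgroup Y) : Set Y) ≤ Cfsg.pCore p Y →
      Cfsg.HasNormalPComplement p (Y ⧸ Cfsg.pCore p Y) →
      ∀ T : Sylow p Y, IsCoatom (T : Subgroup Y) → PH p W₁ W₂ Y (T : Subgroup Y) →
      Cfsg.HasNormalPComplement p Y) :
    ∀ (n : ℕ) (Y : Type u) [Group Y] [Finite Y], Nat.card Y = n → 𝒞 Y → ∀ S : Sylow p Y,
      PH p W₁ W₂ Y (S : Subgroup Y) → Cfsg.HasNormalPComplement p Y := by
  intro n
  induction n using Nat.strong_induction_on with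
  | _ n IH =>
  intro Y _ _ hcard hCY S hNS
  by_contra hnot
  have hall := fun S' => PH.sylow W₁ W₂ hW₁ hW₂ S S' hNS
  have IHsub : ∀ (M : Subgroup Y), M ≠ ⊤ → ∀ T : Sylow p ↥M,
      PH p W₁ W₂ Y ((T : Subgroup ↥M).map M.subtype) → Cfsg.HasNormalPComplement p ↥M := by
    intro M hM T hT
    have hlt : Nat.card ↥M < n := by
      rw [← hcard]
      exact lt_of_le_of_ne (Subgroup.card_le_card_group M)
        (fun h => hM ((Subgroup.card_eq_iff_eq_top M).mp h))
    exact IH _ hlt ↥M rfl (hsub Y M hCY) T (PH.subgroup W₁ W₂ hW₁ hW₂ M T T.2 hT)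
  have IHquot : ∀ (D : Subgroup Y) [D.Normal], D ≠ ⊥ → ∀ Sb : Sylow p (Y ⧸ D),
      PH p W₁ W₂ (Y ⧸ D) (Sb : Subgroup (Y ⧸ D)) → Cfsg.HasNormalPComplement p (Y ⧸ D) := by
    intro D _ hD Sb hSb
    have hlt : Nat.card (Y ⧸ D) < n := by
      rw [← hcard, Subgroup.card_eq_card_quotient_mul_card_subgroup D]
      have h1 : 1 < Nat.card D := (Subgroup.one_lt_card_iff_ne_bot D).mpr hD
      have h2 : 0 < Nat.card (Y ⧸ D) := Nat.card_pos
      nlinarith
    exact IH _ hlt (Y ⧸ D) rfl (hquot Y D hCY) Sb hSb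
  have hP : Cfsg.pCore p Y ≠ ⊥ := pCore_ne_bot_of_minimal W₁ W₂ hW₁ hW₂ hnot hall IHsub
  have hquotNPC : Cfsg.HasNormalPComplement p (Y ⧸ Cfsg.pCore p Y) :=
    hasNormalPComplement_quotient_pCore_of_minimal W₁ W₂ hW₁ hW₂ S hNS IHsub (IHquot (Cfsg.pCore p Y) hP)
  have hD : Cfsg.pPrimeCore p Y = ⊥ :=
    pPrimeCore_eq_bot_of_minimal W₁ W₂ hW₁ hW₂ hnot S hNS (fun h => IHquot (Cfsg.pPrimeCore p Y) h)
  have hPp : IsPGroup p (Cfsg.pCore p Y) := pCore_isPGroup' p
  have hsolv : Cfsg.IsPSolvable p Y :=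
    isPSolvable_of_hasNormalPComplement_quotient (Cfsg.pCore p Y) hPp hquotNPC
  have hcent := centralizer_pCore_le_pCore p hsolv hD
  have hPS : Cfsg.pCore p Y ≤ (S : Subgroup Y) :=
    Cfsg.Agent.Lib.Helper24.normal_pgroup_le_sylow (Cfsg.pCore p Y) hPp S
  have hcoatom : IsCoatom (S : Subgroup Y) := by
    constructor
    · intro htop
      apply hnot
      apply hasNormalPComplement_of_isPGroup
      intro g
      obtain ⟨k, hk⟩ := S.2 ⟨g, htop ▸ Subgroup.mem_top g⟩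
      exact ⟨k, by simpa using congrArg Subtype.val hk⟩
    · intro M hSM
      by_contra hMtop
      have hMnpc : Cfsg.HasNormalPComplement p ↥M := by
        apply IHsub M hMtop (S.subtype hSM.le)
        have : Subgroup.map M.subtype (S.subtype hSM.le).toSubgroup = (S : Subgroup Y) := by
          rw [Sylow.coe_subtype, Subgroup.map_subgroupOf_eq_of_le hSM.le]
        rw [this]; exact hNS
      have hMp : IsPGroup p ↥M :=
        isPGroup_of_hasNormalPComplement_of_centralizer_le (Cfsg.pCore p Y) hPp hcent M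
          (hPS.trans hSM.le) hMnpc
      have := S.is_maximal' hMp hSM.le
      exact hSM.ne this.symm
  exact hnot (hmin Y hCY hD hcent hquotNPC S hcoatom hNS)

end thompson

end Cfsg.Agent.Lib.Helper8.ThPair
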