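import Mathlib
import Cfsg.Agent.Lib.Helper8.ThPair
import Cfsg.Agent.Lib.Helper8.GlauThomp
import Cfsg.Agent.Lib.Helper1.CoprimeAbelian
import Cfsg.Agent.Lib.Helper10.PGroupBasic
import Cfsg.Agent.Lib.Helper4.StableNC1
import Cfsg.Agent.Lib.Helper4.ElemAb

/-!
# Thompson's normal `p`-complement theorem (`N(J(S))` and `C(Z(S))`) for odd `p` (helper8 library)

Both the abelian version `J = thompsonSubgroupA` and the elementary abelian version
`J = thompsonSubgroup p`.
-/

set_option autoImplicit false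
open Subgroup
open scoped Pointwise commutatorElement

namespace Cfsg.Agent.Lib.Helper8.ThPair

open Cfsg.Agent.Lib.Helper12 Cfsg.Agent.Lib.Helper27

universe u

section generic
variable {Y : Type*} [Group Y] {𝔛 : Subgroup Y → Prop}

theorem normalizer_le_normalizer_jSub (h : GoodClass 𝔛) (T : Subgroup Y) :
    Subgroup.normalizer (T : Set Y) ≤ Subgroup.normalizer (jSub 𝔛 T : Set Y) := by
  intro g hg
  rw [Subgroup.mem_normalizer_iff_map_conj_eq] at hg ⊢
  have hg' : T.map (MulAut.conj g).toMonoidHom = T := hg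
  have := jSub_map h (MulAut.conj g) T
  rw [hg'] at this
  exact this.symm

theorem wSub_le_centralizer_jSub (T : Subgroup Y) :
    wSub 𝔛 T ≤ Subgroup.centralizer (jSub 𝔛 T : Set Y) := by
  unfold wSub
  rw [Subgroup.closure_le]
  rintro x ⟨-, hxc, -⟩
  exact hxc

/-- with `W_𝔛(T)` normal and `T` a maximal subgroup, either `J_𝔛(T)` is normal or `G = T C(W)` -/
theorem jSub_normal_or_sup_eq_top [Finite Y] (h : GoodClass 𝔛) (T : Subgroup Y) (hT : IsCoatom T)
    (hW : (wSub 𝔛 T).Normal) :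
    (jSub 𝔛 T).Normal ∨ T ⊔ Subgroup.centralizer (wSub 𝔛 T : Set Y) = ⊤ := by
  have hCn : (Subgroup.centralizer (wSub 𝔛 T : Set Y)).Normal := Subgroup.normal_centralizer
  have hJC : jSub 𝔛 T ≤ Subgroup.centralizer (wSub 𝔛 T : Set Y) :=
    Subgroup.le_centralizer_iff.mp (wSub_le_centralizer_jSub T)
  by_cases hCT : Subgroup.centralizer (wSub 𝔛 T : Set Y) ≤ T
  · left
    have hmax : maxIn 𝔛 (Subgroup.centralizer (wSub 𝔛 T : Set Y)) = maxIn 𝔛 T :=
      maxIn_eq_of_forall_le h (fun A hA => (le_jSub hA).trans hJC) hCT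
    have hJ : jSub 𝔛 (Subgroup.centralizer (wSub 𝔛 T : Set Y)) = jSub 𝔛 T := by
      unfold jSub; rw [hmax]
    rw [← Subgroup.normalizer_eq_top_iff, eq_top_iff, ← hJ]
    refine le_trans ?_ (normalizer_le_normalizer_jSub h _)
    rw [Subgroup.normalizer_eq_top_iff.mpr hCn]
  · right
    exact hT.2 _ (left_lt_sup.mpr hCT)

theorem mem_wSub_of_mem_center [Finite Y] (h : GoodClass 𝔛) (T : Subgroup Y) {x : Y} (hxT : x ∈ T)
    (hxc : x ∈ Subgroup.centralizer (T : Set Y)) (hxX : 𝔛 (Subgroup.zpowers x)) :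
    x ∈ wSub 𝔛 T := by
  obtain ⟨A, hA⟩ := maxIn_nonempty h T
  have hcomm : ∀ a ∈ A, a * x = x * a := fun a ha =>
    (Subgroup.mem_centralizer_iff.mp hxc) a (hA.1 ha)
  have h1 : 𝔛 (A ⊔ Subgroup.zpowers x) := h.join A x hA.2.1 hxX hcomm
  have h2 : A ⊔ Subgroup.zpowers x ≤ T := sup_le hA.1 ((Subgroup.zpowers_le).mpr hxT)
  have h3 := hA.2.2 _ h2 h1
  have h4 : A = A ⊔ Subgroup.zpowers x := Subgroup.eq_of_le_of_card_ge le_sup_left h3
  have hxA : x ∈ A := by
    rw [h4]
    exact Subgroup.mem_sup_right (Subgroup.mem_zpowers x)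
  apply Subgroup.subset_closure
  exact ⟨le_jSub hA hxA, Subgroup.centralizer_le (jSub_le T) hxc, hxX⟩

theorem mem_center_of_sup_eq_top [Finite Y] (h : GoodClass 𝔛) (T : Subgroup Y)
    (htop : T ⊔ Subgroup.centralizer (wSub 𝔛 T : Set Y) = ⊤) {x : Y} (hxT : x ∈ T)
    (hxc : x ∈ Subgroup.centralizer (T : Set Y)) (hxX : 𝔛 (Subgroup.zpowers x)) :
    x ∈ Subgroup.center Y := by
  have hxW := mem_wSub_of_mem_center h T hxT hxc hxX
  have hle : T ⊔ Subgroup.centralizer (wSub 𝔛 T : Set Y) ≤ Subgroup.centralizer {x} := by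
    apply sup_le
    · intro t ht
      rw [Subgroup.mem_centralizer_singleton_iff]
      exact ((Subgroup.mem_centralizer_iff.mp hxc) t ht)
    · intro c hc
      rw [Subgroup.mem_centralizer_singleton_iff]
      exact ((Subgroup.mem_centralizer_iff.mp hc) x hxW).symm
  rw [htop] at hle
  rw [Subgroup.mem_center_iff]
  intro g
  have := hle (Subgroup.mem_top g)
  rw [Subgroup.mem_centralizer_singleton_iff] at this
  exact this

end generic

section functors

/-- the functor `Q ↦ J(Q)` (abelian version) -/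
def jA (Q : Type u) [Group Q] : Subgroup Q := Cfsg.thompsonSubgroupA Q

/-- the functor `Q ↦ J_e(Q)` (elementary abelian version) -/
def jE (p : ℕ) (Q : Type u) [Group Q] : Subgroup Q := Cfsg.thompsonSubgroup p Q

/-- the functor `Q ↦ Z(Q)` -/
def zF (Q : Type u) [Group Q] : Subgroup Q := Subgroup.center Q

theorem inducedFunctor_jA {G : Type u} [Group G] (P : Subgroup G) :
    Cfsg.inducedFunctor jA P = Cfsg.thompsonSubgroupAOf P := rfl

theorem inducedFunctor_jE {G : Type u} [Group G] (p : ℕ) (P : Subgroup G) :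
    Cfsg.inducedFunctor (jE p) P = Cfsg.thompsonSubgroupOf p P := rfl

theorem inducedFunctor_zF {G : Type u} [Group G] (P : Subgroup G) :
    Cfsg.inducedFunctor zF P = P ⊓ Subgroup.centralizer (P : Set G) := by
  unfold Cfsg.inducedFunctor zF
  ext x
  constructor
  · rintro ⟨z, hz, rfl⟩
    refine ⟨z.2, Subgroup.mem_centralizer_iff.mpr ?_⟩
    intro w hw
    exact congrArg Subtype.val ((Subgroup.mem_center_iff.mp hz) ⟨w, hw⟩)
  · rintro ⟨hxP, hxc⟩
    refine ⟨⟨x, hxP⟩, Subgroup.mem_center_iff.mpr ?_, rfl⟩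
    intro w
    apply Subtype.ext
    exact (Subgroup.mem_centralizer_iff.mp hxc) w.1 w.2

theorem isCharPFunctor_jA (p : ℕ) [Fact p.Prime] : Cfsg.IsCharPFunctor.{u} p jA := by
  refine ⟨?_, ?_⟩
  · intro Q _ _ _ hnt
    exact GT.thompsonSubgroupA_ne_bot Q
  · intro Q R _ _ _ _ φ
    exact GT.thompsonSubgroupA_map φ

theorem isCharPFunctor_zF (p : ℕ) [Fact p.Prime] : Cfsg.IsCharPFunctor.{u} p zF := by
  refine ⟨?_, ?_⟩
  · intro Q _ _ hQ hnt
    have := hQ.center_nontrivial
    exact (Subgroup.nontrivial_iff_ne_bot _).mp this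
  · intro Q R _ _ _ _ φ
    exact Cfsg.Agent.Lib.Helper4.center_map_mulEquiv φ

theorem isCharPFunctor_jE (p : ℕ) [Fact p.Prime] : Cfsg.IsCharPFunctor.{u} p (jE p) := by
  refine ⟨?_, ?_⟩
  · intro Q _ _ hQ hnt
    obtain ⟨A, hA⟩ := Cfsg.Agent.Lib.Helper4.exists_maxElemAb (G := Q) p
    have hdvd : p ∣ Nat.card Q := by
      rcases hQ.card_eq_or_dvd with h | h
      · exact absurd h (Finite.one_lt_card).ne'
      · exact h
    have h1 := Cfsg.Agent.Lib.Helper4.maxElemAb_card_ge hdvd hA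
    have h2 : A ≠ ⊥ := by
      rw [← Subgroup.one_lt_card_iff_ne_bot]
      have := (Fact.out : p.Prime).two_le
      omega
    intro h
    apply h2
    have : A ≤ Cfsg.thompsonSubgroup p Q := le_sSup hA
    unfold jE at h
    rw [h] at this
    exact le_bot_iff.mp this
  · intro Q R _ _ _ _ φ
    exact Cfsg.Agent.Lib.Helper4.thompsonSubgroup_map_mulEquiv φ

end functors

section endgame
variable {p : ℕ} [Fact p.Prime]

theorem hasNPC_of_top {Y : Type u} [Group Y] [Finite Y] (H : Subgroup Y) (hH : H = ⊤)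
    (h : Cfsg.HasNormalPComplement p ↥H) : Cfsg.HasNormalPComplement p Y := by
  let f : Y →* ↥H := (MonoidHom.id Y).codRestrict H (fun y => by rw [hH]; exact Subgroup.mem_top y)
  apply hasNormalPComplement_of_injective f _ h
  intro a b hab
  exact congrArg Subtype.val hab

/-- the ZJ-theorem in the final configuration, generic class -/
theorem wSub_normal_final {Y : Type u} [Group Y] [Finite Y] (hp : p ≠ 2) {𝔛 : Subgroup Y → Prop}
    (h𝔛 : GoodClass 𝔛) (GR : ∀ T : Sylow p Y, ReplHyp 𝔛 (T : Subgroup Y))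
    (hc : Subgroup.centralizer ((Cfsg.pCore p Y : Subgroup Y) : Set Y) ≤ Cfsg.pCore p Y)
    (hq : Cfsg.HasNormalPComplement p (Y ⧸ Cfsg.pCore p Y))
    (T : Sylow p Y) (hT : IsCoatom (T : Subgroup Y)) : (wSub 𝔛 (T : Subgroup Y)).Normal := by
  obtain ⟨q, hq', hpq, hsol, hdiv, hab⟩ :=
    Cfsg.Agent.Lib.Helper12.exists_prime_structure_of_coatom_sylow hq T hT
  have hqf : Fact q.Prime := ⟨hq'⟩
  have hD : Cfsg.Agent.Lib.Helper12.IsPQAb p q Y := ⟨hsol, hdiv, hab⟩
  apply wSub_normal' h𝔛 T (GR T) hc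
  apply quadHyp_of_stable
  intro B hBn hB a hquad
  exact Cfsg.Agent.Lib.Helper12.mk_mem_pCore_of_quadratic hp hpq hD B hB
    (Subgroup.centralizer (B : Set Y))
    (fun x hx => Subgroup.mem_centralizer_iff.mpr (fun u hu => hx u hu)) a hquad

/-- Thompson's theorem in the final configuration, abelian version, `p` odd. -/
theorem hmin_odd_A {Y : Type u} [Group Y] [Finite Y] (hp : p ≠ 2)
    (hc : Subgroup.centralizer ((Cfsg.pCore p Y : Subgroup Y) : Set Y) ≤ Cfsg.pCore p Y)
    (hq : Cfsg.HasNormalPComplement p (Y ⧸ Cfsg.pCore p Y))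
    (T : Sylow p Y) (hT : IsCoatom (T : Subgroup Y)) (hPH : PH p jA zF Y (T : Subgroup Y)) :
    Cfsg.HasNormalPComplement p Y := by
  have hW : (wSub AbSub (T : Subgroup Y)).Normal :=
    wSub_normal_final hp goodClass_abSub (fun T' => replHyp_abSub hp _ T'.isPGroup') hc hq T hT
  obtain ⟨h1, h2⟩ := hPH
  rw [inducedFunctor_jA, thompsonSubgroupAOf_eq] at h1
  rw [inducedFunctor_zF] at h2
  rcases jSub_normal_or_sup_eq_top goodClass_abSub (T : Subgroup Y) hT hW with hJ | htop
  · exact hasNPC_of_top _ (Subgroup.normalizer_eq_top_iff.mpr hJ) h1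
  · apply hasNPC_of_top _ _ h2
    rw [eq_top_iff]
    intro g _
    refine Subgroup.mem_centralizer_iff.mpr ?_
    rintro x ⟨hxT, hxc⟩
    have := mem_center_of_sup_eq_top goodClass_abSub (T : Subgroup Y) htop hxT hxc (abSub_zpowers x)
    exact (Subgroup.mem_center_iff.mp this g).symm

/-- **Thompson's normal `p`-complement theorem**, abelian version, `p` odd. -/
theorem thompson_pair_odd_A {G : Type u} [Group G] [Finite G] (hp : p ≠ 2) (S : Sylow p G)
    (hC : Cfsg.HasNormalPComplement p ↥(Subgroup.centralizer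
      (((S : Subgroup G) ⊓ Subgroup.centralizer ((S : Subgroup G) : Set G) : Subgroup G) : Set G)))
    (hN : Cfsg.HasNormalPComplement p
      ↥(Subgroup.normalizer ((Cfsg.thompsonSubgroupAOf (S : Subgroup G)) : Set G))) :
    Cfsg.HasNormalPComplement p G := by
  have := hasNormalPComplement_of_minimal_pair jA zF (isCharPFunctor_jA p) (isCharPFunctor_zF p)
    (fun Y _ => True) (fun _ _ _ _ => trivial) (fun _ _ _ _ _ => trivial)
    (fun Y _ _ _ _ hc hq T hT hPH => hmin_odd_A hp hc hq T hT hPH) (Nat.card G) G rfl trivial S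
  apply this
  refine ⟨?_, ?_⟩
  · rw [inducedFunctor_jA]; exact hN
  · rw [inducedFunctor_zF]; exact hC

/-- coprime-action endgame: if every element of order dividing `p` of `Z(T)` is central in `Y` and `C(Z(T))` has a
normal `p`-complement, so does `Y` -/
theorem hasNPC_of_omega_center_central {Y : Type u} [Group Y] [Finite Y]
    (hc : Subgroup.centralizer ((Cfsg.pCore p Y : Subgroup Y) : Set Y) ≤ Cfsg.pCore p Y)
    (hq : Cfsg.HasNormalPComplement p (Y ⧸ Cfsg.pCore p Y))
    (T : Sylow p Y) (hT : IsCoatom (T : Subgroup Y))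
    (hZ : ∀ x ∈ (T : Subgroup Y), x ∈ Subgroup.centralizer ((T : Subgroup Y) : Set Y) → x ^ p = 1 →
      x ∈ Subgroup.center Y)
    (hC : Cfsg.HasNormalPComplement p ↥(Subgroup.centralizer
      (((T : Subgroup Y) ⊓ Subgroup.centralizer ((T : Subgroup Y) : Set Y) : Subgroup Y) : Set Y))) :
    Cfsg.HasNormalPComplement p Y := by
  have hpp : p.Prime := Fact.out
  have hBp : IsPGroup p (Cfsg.pCore p Y) := pCore_isPGroup' p
  have hBT : Cfsg.pCore p Y ≤ (T : Subgroup Y) :=
    Cfsg.Agent.Lib.Helper24.normal_pgroup_le_sylow (Cfsg.pCore p Y) hBp T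
  obtain ⟨Pb, Nb, hNbn, hcompl⟩ := hq
  have hmk : Function.Surjective (QuotientGroup.mk' (Cfsg.pCore p Y)) := QuotientGroup.mk'_surjective _
  obtain ⟨M, hM⟩ : ∃ M, M = Nb.comap (QuotientGroup.mk' (Cfsg.pCore p Y)) := ⟨_, rfl⟩
  have hMn : M.Normal := by rw [hM]; exact hNbn.comap _
  have hMmap : M.map (QuotientGroup.mk' (Cfsg.pCore p Y)) = Nb := by
    rw [hM]; exact Subgroup.map_comap_eq_self_of_surjective hmk Nb
  have hBM : Cfsg.pCore p Y ≤ M := by
    rw [hM]
    intro b hb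
    rw [Subgroup.mem_comap]
    have : (QuotientGroup.mk' (Cfsg.pCore p Y)) b = 1 := (QuotientGroup.eq_one_iff b).mpr hb
    rw [this]; exact Nb.one_mem
  have hNbcop : (Nat.card Nb).Coprime p := by
    have h1 := hcompl.card_mul_card
    have h2 := (Pb : Subgroup (Y ⧸ Cfsg.pCore p Y)).card_mul_index
    have h3 : Nat.card Nb = (Pb : Subgroup (Y ⧸ Cfsg.pCore p Y)).index := by
      have hpos : 0 < Nat.card (Pb : Subgroup (Y ⧸ Cfsg.pCore p Y)) := Nat.card_pos
      have : Nat.card (Pb : Subgroup (Y ⧸ Cfsg.pCore p Y)) * Nat.card Nb =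
          Nat.card (Pb : Subgroup (Y ⧸ Cfsg.pCore p Y)) * (Pb : Subgroup (Y ⧸ Cfsg.pCore p Y)).index := by
        rw [h2, ← h1, mul_comm]
      exact Nat.eq_of_mul_eq_mul_left hpos this
    rw [h3, Nat.coprime_comm, Nat.Prime.coprime_iff_not_dvd hpp]
    exact Pb.not_dvd_index
  have hrel : (Cfsg.pCore p Y).relIndex M = Nat.card Nb := by
    have := Subgroup.relIndex_ker (QuotientGroup.mk' (Cfsg.pCore p Y)) (K := M)
    rw [QuotientGroup.ker_mk', hMmap] at this
    exact this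
  obtain ⟨kB, hkB⟩ := IsPGroup.iff_card.mp hBp
  have hcop1 : Nat.Coprime (Nat.card (Cfsg.pCore p Y)) ((Cfsg.pCore p Y).relIndex M) := by
    rw [hrel, hkB]
    exact Nat.Coprime.pow_left kB hNbcop.symm
  have hMnormB : M ≤ Subgroup.normalizer ((Cfsg.pCore p Y : Subgroup Y) : Set Y) := by
    rw [Subgroup.normalizer_eq_top_iff.mpr inferInstance]; exact le_top
  obtain ⟨Q, hQ⟩ := Cfsg.Agent.Lib.Helper1.internal_sz_exists hBM hMnormB hcop1
  have hQcard : Nat.card Q = Nat.card Nb := by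
    have h1 := hQ.card_mul_card
    have h2 := ((Cfsg.pCore p Y).subgroupOf M).card_mul_index
    rw [Cfsg.Agent.Lib.Helper1.card_subgroupOf_of_le hBM] at h2
    have h3 : ((Cfsg.pCore p Y).subgroupOf M).index = Nat.card Nb := hrel
    rw [h3, ← h1] at h2
    have hpos : 0 < Nat.card (Cfsg.pCore p Y) := Nat.card_pos
    exact (Nat.eq_of_mul_eq_mul_left hpos h2).symm
  -- V = Z(B)
  obtain ⟨V, hV⟩ : ∃ V, V = Cfsg.pCore p Y ⊓ Subgroup.centralizer ((Cfsg.pCore p Y : Subgroup Y) : Set Y) :=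
    ⟨_, rfl⟩
  have hVn : V.Normal := by
    rw [hV]
    have : (Subgroup.centralizer ((Cfsg.pCore p Y : Subgroup Y) : Set Y)).Normal := Subgroup.normal_centralizer
    exact Subgroup.normal_inf_normal _ _
  have hVB : V ≤ Cfsg.pCore p Y := by rw [hV]; exact inf_le_left
  have hVcB : V ≤ Subgroup.centralizer ((Cfsg.pCore p Y : Subgroup Y) : Set Y) := by rw [hV]; exact inf_le_right
  have hVcomm : IsMulCommutative V := by
    rw [isMulCommutative_iff]
    intro x y
    apply Subtype.ext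
    exact ((Subgroup.mem_centralizer_iff.mp (hVcB x.2)) y.1 (hVB y.2)).symm
  have hVp : IsPGroup p V := hBp.to_le hVB
  obtain ⟨kV, hkV⟩ := IsPGroup.iff_card.mp hVp
  have hQV : Q ≤ Subgroup.normalizer (V : Set Y) := by
    rw [Subgroup.normalizer_eq_top_iff.mpr hVn]; exact le_top
  have hcopQV : (Nat.card Q).Coprime (Nat.card V) := by
    rw [hQcard, hkV]
    exact Nat.Coprime.pow_right kV hNbcop
  have key := Cfsg.Agent.Lib.Helper1.centralizer_inf_commutator_eq_bot Q V hQV hcopQV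
  have hcomm : ⁅V, M⁆ ≤ ⁅V, Q⁆ := by
    rw [Subgroup.commutator_le]
    intro v hv m hm
    obtain ⟨b, hb, a, ha, rfl⟩ := hQ.2.2.2 m hm
    have hvb : b * v = v * b := (Subgroup.mem_centralizer_iff.mp (hVcB hv)) b hb
    have hcV : ⁅v, a⁆ ∈ V := by
      rw [commutatorElement_def]
      have : v * a * v⁻¹ * a⁻¹ = v * (a * v⁻¹ * a⁻¹) := by group
      rw [this]
      exact V.mul_mem hv (hVn.conj_mem _ (V.inv_mem hv) a)
    have hcb : b * ⁅v, a⁆ = ⁅v, a⁆ * b := (Subgroup.mem_centralizer_iff.mp (hVcB hcV)) b hb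
    have : ⁅v, b * a⁆ = ⁅v, a⁆ := by
      calc ⁅v, b * a⁆ = (v * b) * a * v⁻¹ * a⁻¹ * b⁻¹ := by
            rw [commutatorElement_def]; group
        _ = (b * v) * a * v⁻¹ * a⁻¹ * b⁻¹ := by rw [hvb]
        _ = b * ⁅v, a⁆ * b⁻¹ := by rw [commutatorElement_def]; group
        _ = ⁅v, a⁆ := by rw [hcb]; group
    rw [this]
    exact Subgroup.commutator_mem_commutator hv ha
  have hVMbot : ⁅V, M⁆ = ⊥ := by
    by_contra hne
    have hNn : (⁅V, M⁆).Normal := Subgroup.commutator_normal V M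
    have hNV : ⁅V, M⁆ ≤ V := Subgroup.commutator_le_left V M
    have hNT : ⁅V, M⁆ ≤ (T : Subgroup Y) := hNV.trans (hVB.trans hBT)
    have hN'n : ((⁅V, M⁆).subgroupOf (T : Subgroup Y)).Normal := hNn.subgroupOf _
    have hN'ne : (⁅V, M⁆).subgroupOf (T : Subgroup Y) ≠ ⊥ := by
      intro h
      rw [Subgroup.subgroupOf_eq_bot] at h
      apply hne
      rw [eq_bot_iff]
      intro x hx
      exact Subgroup.mem_bot.mpr (Subgroup.disjoint_def.mp h hx (hNT hx))
    obtain ⟨x, hxN, hxc, hx1⟩ := Cfsg.Agent.Lib.Helper10.exists_mem_center_of_normal_ne_bot p T.2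
      ((⁅V, M⁆).subgroupOf (T : Subgroup Y)) hN'ne
    obtain ⟨K, hK⟩ : ∃ K, K = ⁅V, M⁆ ⊓ ((T : Subgroup Y) ⊓ Subgroup.centralizer ((T : Subgroup Y) : Set Y)) :=
      ⟨_, rfl⟩
    have hxK : (x : Y) ∈ K := by
      rw [hK]
      refine ⟨Subgroup.mem_subgroupOf.mp hxN, x.2, Subgroup.mem_centralizer_iff.mpr ?_⟩
      intro t ht
      exact congrArg Subtype.val ((Subgroup.mem_center_iff.mp hxc) ⟨t, ht⟩)
    have hKp : IsPGroup p K := T.2.to_le (by rw [hK]; exact inf_le_right.trans inf_le_left)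
    have hKdvd : p ∣ Nat.card K := by
      rcases hKp.card_eq_or_dvd with h | h
      · exfalso
        apply hx1
        have := (Subgroup.card_eq_one.mp h)
        rw [this, Subgroup.mem_bot] at hxK
        exact Subtype.ext hxK
      · exact h
    obtain ⟨z, hz⟩ := exists_prime_orderOf_dvd_card' p hKdvd
    have hzK : (z : Y) ∈ ⁅V, M⁆ ⊓ ((T : Subgroup Y) ⊓ Subgroup.centralizer ((T : Subgroup Y) : Set Y)) :=
      hK ▸ z.2
    obtain ⟨hzN, hzT, hzc⟩ := hzK
    have hzp : (z : Y) ^ p = 1 := by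
      have : z ^ p = 1 := by rw [← hz]; exact pow_orderOf_eq_one z
      simpa using congrArg Subtype.val this
    have hzcen := hZ (z : Y) hzT hzc hzp
    have hzmem : (z : Y) ∈ (V ⊓ Subgroup.centralizer (Q : Set Y)) ⊓ ⁅V, Q⁆ := by
      refine ⟨⟨hNV hzN, Subgroup.mem_centralizer_iff.mpr ?_⟩, hcomm hzN⟩
      intro a _
      exact (Subgroup.mem_center_iff.mp hzcen a)
    rw [key, Subgroup.mem_bot] at hzmem
    have hz1 : z = 1 := Subtype.ext hzmem
    rw [hz1, orderOf_one] at hz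
    exact hpp.one_lt.ne hz
  have hMcV : M ≤ Subgroup.centralizer (V : Set Y) :=
    Subgroup.le_centralizer_iff.mp (Subgroup.commutator_eq_bot_iff_le_centralizer.mp hVMbot)
  have hZV : (T : Subgroup Y) ⊓ Subgroup.centralizer ((T : Subgroup Y) : Set Y) ≤ V := by
    rintro x ⟨-, hxc⟩
    have h1 : x ∈ Subgroup.centralizer ((Cfsg.pCore p Y : Subgroup Y) : Set Y) :=
      Subgroup.centralizer_le hBT hxc
    rw [hV]
    exact ⟨hc h1, h1⟩
  have hMC : M ≤ Subgroup.centralizer
      (((T : Subgroup Y) ⊓ Subgroup.centralizer ((T : Subgroup Y) : Set Y) : Subgroup Y) : Set Y) :=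
    hMcV.trans (Subgroup.centralizer_le hZV)
  have hTC : (T : Subgroup Y) ≤ Subgroup.centralizer
      (((T : Subgroup Y) ⊓ Subgroup.centralizer ((T : Subgroup Y) : Set Y) : Subgroup Y) : Set Y) := by
    intro t ht
    refine Subgroup.mem_centralizer_iff.mpr ?_
    rintro x ⟨-, hxc⟩
    exact ((Subgroup.mem_centralizer_iff.mp hxc) t ht).symm
  by_cases hMT : M ≤ (T : Subgroup Y)
  · -- then `Y` is a `p`-group
    have hNbp : IsPGroup p Nb := by
      rw [← hMmap]
      exact (T.2.to_le hMT).map _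
    have hNbbot : Nb = ⊥ := by
      rcases hNbp.card_eq_or_dvd with h | h
      · exact Subgroup.card_eq_one.mp h
      · exfalso
        have := (Nat.Prime.coprime_iff_not_dvd hpp).mp hNbcop.symm
        exact this h
    rw [hNbbot, Subgroup.isComplement'_bot_left] at hcompl
    apply hasNormalPComplement_of_isPGroup
    intro g
    obtain ⟨a, ha⟩ := Pb.2 ⟨(QuotientGroup.mk' (Cfsg.pCore p Y)) g, hcompl ▸ Subgroup.mem_top _⟩
    have ha' : (QuotientGroup.mk' (Cfsg.pCore p Y)) (g ^ p ^ a) = 1 := by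
      rw [map_pow]
      simpa using congrArg Subtype.val ha
    have hgB : g ^ p ^ a ∈ Cfsg.pCore p Y := (QuotientGroup.eq_one_iff _).mp ha'
    obtain ⟨b, hb⟩ := hBp ⟨g ^ p ^ a, hgB⟩
    refine ⟨a + b, ?_⟩
    have := congrArg Subtype.val hb
    simp only [Subgroup.coe_pow, Subgroup.coe_one] at this
    rw [pow_add, pow_mul]
    exact this
  · have htop : (T : Subgroup Y) ⊔ M = ⊤ := hT.2 _ (left_lt_sup.mpr hMT)
    apply hasNPC_of_top _ _ hC
    rw [eq_top_iff, ← htop]
    exact sup_le hTC hMC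

/-- Thompson's theorem in the final configuration, elementary abelian version, `p` odd. -/
theorem hmin_odd_E {Y : Type u} [Group Y] [Finite Y] (hp : p ≠ 2)
    (hc : Subgroup.centralizer ((Cfsg.pCore p Y : Subgroup Y) : Set Y) ≤ Cfsg.pCore p Y)
    (hq : Cfsg.HasNormalPComplement p (Y ⧸ Cfsg.pCore p Y))
    (T : Sylow p Y) (hT : IsCoatom (T : Subgroup Y)) (hPH : PH p (jE p) zF Y (T : Subgroup Y)) :
    Cfsg.HasNormalPComplement p Y := by
  have hW : (wSub (Cfsg.IsElementaryAbelian p) (T : Subgroup Y)).Normal :=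
    wSub_normal_final hp (goodClass_ea p) (fun T' => replHyp_ea hp _ T'.isPGroup') hc hq T hT
  obtain ⟨h1, h2⟩ := hPH
  rw [inducedFunctor_jE, thompsonSubgroupOf_eq_jSub] at h1
  rw [inducedFunctor_zF] at h2
  rcases jSub_normal_or_sup_eq_top (goodClass_ea p) (T : Subgroup Y) hT hW with hJ | htop
  · exact hasNPC_of_top _ (Subgroup.normalizer_eq_top_iff.mpr hJ) h1
  · apply hasNPC_of_omega_center_central hc hq T hT _ h2
    intro x hxT hxc hxp
    exact mem_center_of_sup_eq_top (goodClass_ea p) (T : Subgroup Y) htop hxT hxc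
      (Cfsg.Agent.Lib.Helper4.elemAb_zpowers hxp)

/-- **Thompson's normal `p`-complement theorem**, elementary abelian version, `p` odd. -/
theorem thompson_pair_odd_E {G : Type u} [Group G] [Finite G] (hp : p ≠ 2) (S : Sylow p G)
    (hN : Cfsg.HasNormalPComplement p
      ↥(Subgroup.normalizer ((Cfsg.thompsonSubgroupOf p (S : Subgroup G)) : Set G)))
    (hC : Cfsg.HasNormalPComplement p ↥(Subgroup.centralizer
      (((S : Subgroup G) ⊓ Subgroup.centralizer ((S : Subgroup G) : Set G) : Subgroup G) : Set G))) :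
    Cfsg.HasNormalPComplement p G := by
  have := hasNormalPComplement_of_minimal_pair (jE p) zF (isCharPFunctor_jE p) (isCharPFunctor_zF p)
    (fun Y _ => True) (fun _ _ _ _ => trivial) (fun _ _ _ _ _ => trivial)
    (fun Y _ _ _ _ hc hq T hT hPH => hmin_odd_E hp hc hq T hT hPH) (Nat.card G) G rfl trivial S
  apply this
  refine ⟨?_, ?_⟩
  · rw [inducedFunctor_jE]; exact hN
  · rw [inducedFunctor_zF]; exact hC

end endgame

end Cfsg.Agent.Lib.Helper8.ThPair
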