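import Mathlib
import Cfsg.Agent.Lib.Helper8.ThPairOdd
import Cfsg.Agent.Lib.Helper8.ThTwoB
import Cfsg.Agent.Lib.Helper17.Replacement
import Cfsg.Agent.Lib.Helper29.Frobenius

/-!
# Thompson's normal `2`-complement theorem for `S₄`-free groups: the final configuration (helper8 library)
-/

set_option autoImplicit false
open Subgroup
open scoped Pointwise commutatorElement

namespace Cfsg.Agent.Lib.Helper8.ThTwo

open Cfsg.Agent.Lib.Helper12 Cfsg.Agent.Lib.Helper27

universe u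

section omZ
variable {Y : Type*} [Group Y]

/-- `Ω₁(Z(B))` as a subgroup of the ambient group -/
def omZ (p : ℕ) (B : Subgroup Y) : Subgroup Y where
  carrier := {x | x ∈ B ∧ x ∈ Subgroup.centralizer (B : Set Y) ∧ x ^ p = 1}
  one_mem' := ⟨B.one_mem, Subgroup.one_mem _, one_pow p⟩
  mul_mem' := by
    rintro a b ⟨haB, hac, hap⟩ ⟨hbB, hbc, hbp⟩
    refine ⟨B.mul_mem haB hbB, Subgroup.mul_mem _ hac hbc, ?_⟩
    have hcomm : Commute a b := (Subgroup.mem_centralizer_iff.mp hbc) a haB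
    rw [hcomm.mul_pow, hap, hbp, one_mul]
  inv_mem' := by
    rintro a ⟨haB, hac, hap⟩
    exact ⟨B.inv_mem haB, Subgroup.inv_mem _ hac, by rw [inv_pow, hap, inv_one]⟩

theorem mem_omZ {p : ℕ} {B : Subgroup Y} {x : Y} :
    x ∈ omZ p B ↔ x ∈ B ∧ x ∈ Subgroup.centralizer (B : Set Y) ∧ x ^ p = 1 := Iff.rfl

theorem omZ_le (p : ℕ) (B : Subgroup Y) : omZ p B ≤ B := fun _ h => h.1

theorem omZ_le_centralizer (p : ℕ) (B : Subgroup Y) : omZ p B ≤ Subgroup.centralizer (B : Set Y) :=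
  fun _ h => h.2.1

theorem le_centralizer_omZ (p : ℕ) (B : Subgroup Y) : B ≤ Subgroup.centralizer (omZ p B : Set Y) :=
  Subgroup.le_centralizer_iff.mp (omZ_le_centralizer p B)

theorem omZ_abSub (p : ℕ) (B : Subgroup Y) : AbSub (omZ p B) :=
  fun x hx _ hy => ((Subgroup.mem_centralizer_iff.mp hy.2.1) x hx.1)

theorem omZ_normal (p : ℕ) (B : Subgroup Y) [hB : B.Normal] : (omZ p B).Normal := by
  constructor
  rintro x ⟨hxB, hxc, hxp⟩ g
  refine ⟨hB.conj_mem x hxB g, ?_, ?_⟩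
  · refine Subgroup.mem_centralizer_iff.mpr ?_
    intro b hb
    have h1 : g⁻¹ * b * g ∈ B := by
      have := hB.conj_mem b hb g⁻¹
      simpa using this
    have h2 := (Subgroup.mem_centralizer_iff.mp hxc) _ h1
    calc b * (g * x * g⁻¹) = g * ((g⁻¹ * b * g) * x) * g⁻¹ := by group
      _ = g * (x * (g⁻¹ * b * g)) * g⁻¹ := by rw [h2]
      _ = g * x * g⁻¹ * b := by group
  · rw [conj_pow, hxp]; group

/-- a `p'`-element normalizing an abelian `p`-group and centralizing its elements of order `p` centralizes it -/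
theorem conj_eq_of_conj_omega_eq {p : ℕ} (Z : Subgroup Y) (hZab : AbSub Z) (y : Y)
    (hyN : ∀ z ∈ Z, y * z * y⁻¹ ∈ Z) (hy : (orderOf y).Coprime p)
    (hΩ : ∀ z ∈ Z, z ^ p = 1 → y * z * y⁻¹ = z) :
    ∀ (k : ℕ), ∀ z ∈ Z, z ^ p ^ k = 1 → y * z * y⁻¹ = z := by
  intro k
  induction k with
  | zero =>
    intro z _ hz
    rw [pow_zero, pow_one] at hz
    rw [hz]; group
  | succ k ih =>
    intro z hzZ hz
    obtain ⟨c, hc⟩ : ∃ c, c = y * z * y⁻¹ * z⁻¹ := ⟨_, rfl⟩
    have hcZ : c ∈ Z := by rw [hc]; exact Z.mul_mem (hyN z hzZ) (Z.inv_mem hzZ)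
    have hzp : y * z ^ p * y⁻¹ = z ^ p := by
      apply ih _ (Z.pow_mem hzZ p)
      rw [← pow_mul, ← pow_succ']
      exact hz
    have hcp : c ^ p = 1 := by
      have hcomm : Commute (y * z * y⁻¹) z⁻¹ := hZab _ (hyN z hzZ) _ (Z.inv_mem hzZ)
      rw [hc, hcomm.mul_pow, conj_pow, hzp, inv_pow, mul_inv_cancel]
    have hyc : y * c * y⁻¹ = c := hΩ c hcZ hcp
    have hyz : y * z * y⁻¹ = c * z := by rw [hc]; group
    have key : ∀ i : ℕ, y ^ i * z * (y ^ i)⁻¹ = c ^ i * z := by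
      intro i
      induction i with
      | zero => simp
      | succ i ihi =>
        have h1 : y ^ (i + 1) * z * (y ^ (i + 1))⁻¹ = y * (y ^ i * z * (y ^ i)⁻¹) * y⁻¹ := by
          rw [pow_succ']; group
        have hyci : y * c ^ i * y⁻¹ = c ^ i := by rw [← conj_pow, hyc]
        rw [h1, ihi]
        calc y * (c ^ i * z) * y⁻¹ = (y * c ^ i * y⁻¹) * (y * z * y⁻¹) := by group
          _ = c ^ i * (c * z) := by rw [hyci, hyz]
          _ = c ^ (i + 1) * z := by rw [pow_succ, mul_assoc]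
    have hm := key (orderOf y)
    rw [pow_orderOf_eq_one, one_mul, inv_one, mul_one] at hm
    have hcm : c ^ orderOf y = 1 := by
      have : c ^ orderOf y * z = 1 * z := by rw [one_mul]; exact hm.symm
      exact mul_right_cancel this
    have hc1 : c = 1 := by
      have := pow_gcd_eq_one.mpr ⟨hcm, hcp⟩
      rwa [hy.gcd_eq_one, pow_one] at this
    rw [hyz, hc1, one_mul]

end omZ

section cent
variable {Y : Type u} [Group Y] [Finite Y] {p : ℕ} [Fact p.Prime]

/-- a normal subgroup of `Y` (with `O_{p'}(Y) = 1`) inside a subgroup with a normal `p`-complement is a `p`-group -/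
theorem isPGroup_of_normal_le_of_npc (hD : Cfsg.pPrimeCore p Y = ⊥) (X : Subgroup Y)
    (hX : Cfsg.HasNormalPComplement p ↥X) (C' : Subgroup Y) [hC'n : C'.Normal] (hC'X : C' ≤ X) :
    IsPGroup p C' := by
  obtain ⟨P, N, hNn, hcompl⟩ := hX
  have hNcop : (Nat.card N).Coprime p := coprime_card_of_isComplement' P N hcompl
  obtain ⟨K', hK'⟩ : ∃ K', K' = (N ⊓ C'.subgroupOf X).map X.subtype := ⟨_, rfl⟩
  have hK'n : K'.Normal := by
    constructor
    intro x hx g
    rw [hK'] at hx ⊢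
    obtain ⟨n, ⟨hnN, hnC⟩, rfl⟩ := hx
    have hmemC : g * (n : Y) * g⁻¹ ∈ C' := hC'n.conj_mem _ (Subgroup.mem_subgroupOf.mp hnC) g
    refine ⟨⟨g * (n : Y) * g⁻¹, hC'X hmemC⟩, ⟨?_, Subgroup.mem_subgroupOf.mpr hmemC⟩, rfl⟩
    apply Cfsg.Agent.Lib.Helper29.mem_normal_complement_of_coprime P N hcompl
    have h1 : orderOf (⟨g * (n : Y) * g⁻¹, hC'X hmemC⟩ : ↥X) = orderOf n := by
      rw [← Subgroup.orderOf_coe, ← Subgroup.orderOf_coe]
      have hsc : SemiconjBy g (n : Y) (g * (n : Y) * g⁻¹) := by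
        unfold SemiconjBy; group
      exact (SemiconjBy.orderOf_eq g hsc).symm
    rw [h1]
    have h2 : orderOf n ∣ Nat.card N := by
      have := orderOf_dvd_natCard (⟨n, hnN⟩ : N)
      rwa [Subgroup.orderOf_mk] at this
    exact Nat.Coprime.coprime_dvd_left h2 hNcop
  have hK'cop : (Nat.card K').Coprime p := by
    rw [hK', Subgroup.card_map_of_injective X.subtype_injective]
    exact Nat.Coprime.coprime_dvd_left (Subgroup.card_dvd_of_le inf_le_left) hNcop
  have hK'bot : K' = ⊥ := by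
    rw [eq_bot_iff, ← hD]
    exact le_pPrimeCore p K' hK'n hK'cop
  obtain ⟨k, hk⟩ := IsPGroup.iff_card.mp P.2
  intro c
  refine ⟨k, ?_⟩
  have hcX : (c : Y) ∈ X := hC'X c.2
  have h2 : ((⟨c, hcX⟩ : ↥X) : ↥X ⧸ N) ^ p ^ k = 1 := by
    rw [← hk, ← hcompl.symm.index_eq_card, Subgroup.index_eq_card]
    exact pow_card_eq_one'
  have h3 : (⟨c, hcX⟩ : ↥X) ^ p ^ k ∈ N := by
    rw [← QuotientGroup.eq_one_iff, QuotientGroup.mk_pow]
    exact h2
  have h4 : ((c : Y) ^ p ^ k) ∈ K' := by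
    rw [hK']
    refine ⟨(⟨c, hcX⟩ : ↥X) ^ p ^ k, ⟨h3, Subgroup.mem_subgroupOf.mpr ?_⟩, rfl⟩
    exact C'.pow_mem c.2 _
  rw [hK'bot, Subgroup.mem_bot] at h4
  apply Subtype.ext
  simpa using h4

/-- in the final configuration `C_Y(Ω₁(Z(O_p(Y)))) = O_p(Y)` -/
theorem centralizer_omZ_le (hD : Cfsg.pPrimeCore p Y = ⊥)
    (hc : Subgroup.centralizer ((Cfsg.pCore p Y : Subgroup Y) : Set Y) ≤ Cfsg.pCore p Y) (T : Sylow p Y)
    (hC : Cfsg.HasNormalPComplement p ↥(Subgroup.centralizer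
      (((T : Subgroup Y) ⊓ Subgroup.centralizer ((T : Subgroup Y) : Set Y) : Subgroup Y) : Set Y))) :
    Subgroup.centralizer (omZ p (Cfsg.pCore p Y) : Set Y) ≤ Cfsg.pCore p Y := by
  have hBp : IsPGroup p (Cfsg.pCore p Y) := pCore_isPGroup' p
  have hBT : Cfsg.pCore p Y ≤ (T : Subgroup Y) :=
    Cfsg.Agent.Lib.Helper24.normal_pgroup_le_sylow (Cfsg.pCore p Y) hBp T
  obtain ⟨Z, hZ⟩ : ∃ Z, Z = Cfsg.pCore p Y ⊓ Subgroup.centralizer ((Cfsg.pCore p Y : Subgroup Y) : Set Y) :=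
    ⟨_, rfl⟩
  have hZn : Z.Normal := by
    rw [hZ]
    have : (Subgroup.centralizer ((Cfsg.pCore p Y : Subgroup Y) : Set Y)).Normal := Subgroup.normal_centralizer
    exact Subgroup.normal_inf_normal _ _
  have hZab : AbSub Z := by
    intro x hx y hy
    rw [hZ] at hx hy
    exact ((Subgroup.mem_centralizer_iff.mp hx.2) y hy.1).symm
  have hZp : IsPGroup p Z := hBp.to_le (by rw [hZ]; exact inf_le_left)
  have hZT : (T : Subgroup Y) ⊓ Subgroup.centralizer ((T : Subgroup Y) : Set Y) ≤ Z := by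
    rintro x ⟨-, hxc⟩
    have h1 : x ∈ Subgroup.centralizer ((Cfsg.pCore p Y : Subgroup Y) : Set Y) :=
      Subgroup.centralizer_le hBT hxc
    rw [hZ]
    exact ⟨hc h1, h1⟩
  have hC'n : (Subgroup.centralizer (Z : Set Y)).Normal := Subgroup.normal_centralizer
  have hC'p : IsPGroup p (Subgroup.centralizer (Z : Set Y)) :=
    isPGroup_of_normal_le_of_npc hD _ hC (Subgroup.centralizer (Z : Set Y)) (Subgroup.centralizer_le hZT)
  have hVn : (omZ p (Cfsg.pCore p Y)).Normal := omZ_normal p _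
  have hCvn : (Subgroup.centralizer (omZ p (Cfsg.pCore p Y) : Set Y)).Normal := Subgroup.normal_centralizer
  apply le_pCore' p _ hCvn
  intro y
  obtain ⟨z, y', hz, hy', hyzy', ⟨a, hza⟩, m, hm, hy'm⟩ := exists_pPart_decomposition (y : Y) p
  have hy'C : y' ∈ Subgroup.centralizer (omZ p (Cfsg.pCore p Y) : Set Y) := by
    have : Subgroup.zpowers (y : Y) ≤ Subgroup.centralizer (omZ p (Cfsg.pCore p Y) : Set Y) := by
      rw [Subgroup.zpowers_le]; exact y.2
    exact this hy'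
  have hy'ord : (orderOf y').Coprime p :=
    Nat.Coprime.coprime_dvd_left (orderOf_dvd_of_pow_eq_one hy'm) hm
  -- `y'` centralizes `Z`
  have hy'Z : y' ∈ Subgroup.centralizer (Z : Set Y) := by
    refine Subgroup.mem_centralizer_iff.mpr ?_
    intro x hx
    obtain ⟨k, hk⟩ := hZp ⟨x, hx⟩
    have hk' : x ^ p ^ k = 1 := by simpa using congrArg Subtype.val hk
    have := conj_eq_of_conj_omega_eq Z hZab y' (fun w hw => hZn.conj_mem w hw y') hy'ord
      (fun w hw hwp => by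
        have hwV : w ∈ omZ p (Cfsg.pCore p Y) := by
          rw [hZ] at hw
          exact ⟨hw.1, hw.2, hwp⟩
        have := (Subgroup.mem_centralizer_iff.mp hy'C) w hwV
        calc y' * w * y'⁻¹ = (w * y') * y'⁻¹ := by rw [this]
          _ = w := by group) k x hx hk'
    calc x * y' = (y' * x * y'⁻¹) * y' := by rw [this]
      _ = y' * x := by group
  obtain ⟨b, hb⟩ := hC'p ⟨y', hy'Z⟩
  have hb' : y' ^ p ^ b = 1 := by simpa using congrArg Subtype.val hb
  have hy'1 : y' = 1 := by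
    have := pow_gcd_eq_one.mpr ⟨hy'm, hb'⟩
    rwa [(Nat.Coprime.pow_right b hm).gcd_eq_one, pow_one] at this
  refine ⟨a, ?_⟩
  apply Subtype.ext
  rw [hy'1, mul_one] at hyzy'
  simp only [Subgroup.coe_pow, Subgroup.coe_one]
  rw [hyzy']
  exact hza

end cent

section repl
variable {Y : Type*} [Group Y] [Finite Y] {p : ℕ} [Fact p.Prime]

/-- Thompson's replacement theorem (any prime) for an abelian subgroup `V` normalized by `T`, in the ambient form -/
theorem repl_abelian (T : Subgroup Y) (hT : IsPGroup p T) (A : Subgroup Y) (hA : A ∈ maxIn AbSub T)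
    (V : Subgroup Y) (hVT : V ≤ T) (hTV : T ≤ Subgroup.normalizer (V : Set Y)) (hVab : AbSub V)
    (hnot : ¬ V ≤ Subgroup.normalizer (A : Set Y)) :
    ∃ A' ∈ maxIn AbSub T, A ⊓ V < A' ⊓ V ∧ A' ≤ Subgroup.normalizer (A : Set Y) := by
  have himg := image_max_eq T (fun A : Subgroup T => IsMulCommutative A) AbSub (abSub_map_subtype T)
  rw [← himg] at hA
  obtain ⟨A₀, hA₀, rfl⟩ := hA
  have hV₀n : (V.subgroupOf T).Normal := (Subgroup.normal_subgroupOf_iff_le_normalizer hVT).mpr hTV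
  have hV₀c : IsMulCommutative (V.subgroupOf T) := by
    rw [← abSub_map_subtype T, Subgroup.map_subgroupOf_eq_of_le hVT]
    exact hVab
  have hnot₀ : ¬ V.subgroupOf T ≤ Subgroup.normalizer (A₀ : Set T) := by
    intro h
    apply hnot
    intro v hv
    have h1 := h (Subgroup.mem_subgroupOf.mpr (show ((⟨v, hVT hv⟩ : T) : Y) ∈ V from hv))
    exact Subgroup.le_normalizer_map T.subtype ⟨⟨v, hVT hv⟩, h1, rfl⟩
  obtain ⟨A₀', hA₀', hlt, hN⟩ := Cfsg.Agent.Lib.Helper17.thompson_replacement hT A₀ hA₀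
    (V.subgroupOf T) hV₀c hnot₀
  refine ⟨A₀'.map T.subtype, ?_, ?_, ?_⟩
  · rw [← himg]; exact ⟨A₀', hA₀', rfl⟩
  · have h1 : ∀ A₁ : Subgroup T, A₁.map T.subtype ⊓ V = (A₁ ⊓ V.subgroupOf T).map T.subtype := by
      intro A₁
      rw [Subgroup.map_inf _ _ _ T.subtype_injective, Subgroup.map_subgroupOf_eq_of_le hVT]
    rw [h1, h1]
    exact (Subgroup.map_lt_map_iff_of_injective T.subtype_injective).mpr hlt
  · rintro _ ⟨a', ha', rfl⟩
    exact Subgroup.le_normalizer_map T.subtype ⟨a', hN ha', rfl⟩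

/-- a largest abelian subgroup not contained in `B` that is normalized by `V` -/
theorem exists_maxIn_normalized (T : Subgroup Y) (hTp : IsPGroup p T) (B V : Subgroup Y)
    (hVT : V ≤ T) (hTV : T ≤ Subgroup.normalizer (V : Set Y)) (hVab : AbSub V)
    (hBV : B ≤ Subgroup.centralizer (V : Set Y))
    (hex : ∃ A ∈ maxIn AbSub T, ¬ A ≤ B) :
    ∃ A ∈ maxIn AbSub T, ¬ A ≤ B ∧ V ≤ Subgroup.normalizer (A : Set Y) := by
  let 𝒮 : Set (Subgroup Y) := {A | A ∈ maxIn AbSub T ∧ ¬ A ≤ B}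
  obtain ⟨A₀, hA₀, hA₀B⟩ := hex
  have hne : 𝒮.Nonempty := ⟨A₀, hA₀, hA₀B⟩
  obtain ⟨A, ⟨hA, hAB⟩, hmax⟩ :=
    Set.exists_max_image 𝒮 (fun A => Nat.card (A ⊓ V : Subgroup Y)) (Set.toFinite 𝒮) hne
  refine ⟨A, hA, hAB, ?_⟩
  by_contra hnot
  obtain ⟨A', hA', hlt, hN⟩ := repl_abelian T hTp A hA V hVT hTV hVab hnot
  have hcard : Nat.card (A ⊓ V : Subgroup Y) < Nat.card (A' ⊓ V : Subgroup Y) := by
    have := two_mul_card_le_of_lt hlt
    have hpos : 0 < Nat.card (A ⊓ V : Subgroup Y) := Nat.card_pos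
    omega
  have hA'B : A' ≤ B := by
    by_contra hcon
    have := hmax A' ⟨hA', hcon⟩
    omega
  -- then `V ≤ A'`
  have hab : AbSub (A' ⊔ V) := by
    apply abSub_sup hA'.2.1 hVab
    intro a ha v hv
    exact ((Subgroup.mem_centralizer_iff.mp (hBV (hA'B ha))) v hv).symm
  have hle : A' ⊔ V ≤ T := sup_le hA'.1 hVT
  have h3 := hA'.2.2 _ hle hab
  have h4 : A' = A' ⊔ V := Subgroup.eq_of_le_of_card_ge le_sup_left h3
  apply hnot
  have hVA' : V ≤ A' := by rw [h4]; exact le_sup_right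
  exact hVA'.trans hN

/-- the offender inequality -/
theorem offender_ineq (T : Subgroup Y) (A : Subgroup Y) (hA : A ∈ maxIn AbSub T) (B V : Subgroup Y)
    (hVT : V ≤ T) (hVab : AbSub V) (hVB : V ≤ B) (hBV : B ≤ Subgroup.centralizer (V : Set Y)) :
    Nat.card (A ⊓ B : Subgroup Y) * Nat.card V ≤ Nat.card A * Nat.card (A ⊓ V : Subgroup Y) := by
  have hab : AbSub ((A ⊓ B) ⊔ V) := by
    apply abSub_sup _ hVab
    · intro a ha v hv
      exact ((Subgroup.mem_centralizer_iff.mp (hBV ha.2)) v hv).symm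
    · intro x hx y hy
      exact hA.2.1 x hx.1 y hy.1
  have hle : (A ⊓ B) ⊔ V ≤ T := sup_le (inf_le_left.trans hA.1) hVT
  have h3 := hA.2.2 _ hle hab
  have h4 := card_mul_card_le (A ⊓ B) V ((A ⊓ B) ⊔ V) le_sup_left le_sup_right
  have h5 : (A ⊓ B) ⊓ V = A ⊓ V := by
    rw [inf_assoc, inf_eq_right.mpr hVB]
  rw [h5] at h4
  calc Nat.card (A ⊓ B : Subgroup Y) * Nat.card V
      ≤ Nat.card ((A ⊓ B) ⊔ V : Subgroup Y) * Nat.card (A ⊓ V : Subgroup Y) := h4
    _ ≤ Nat.card A * Nat.card (A ⊓ V : Subgroup Y) := Nat.mul_le_mul_right _ h3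

end repl

section aux
variable {Y : Type*} [Group Y]

/-- quadratic action in characteristic `2`: squares of elements of `A` centralize `V` -/
theorem sq_mem_centralizer_of_normalizes (A V : Subgroup Y) [hVn : V.Normal] (hAab : AbSub A)
    (hV2 : ∀ v ∈ V, v ^ 2 = 1) (hVA : V ≤ Subgroup.normalizer (A : Set Y)) :
    ∀ a ∈ A, a ^ 2 ∈ Subgroup.centralizer (V : Set Y) := by
  intro a ha
  refine Subgroup.mem_centralizer_iff.mpr ?_
  intro v hv
  obtain ⟨c, hc⟩ : ∃ c, c = a * v * a⁻¹ * v⁻¹ := ⟨_, rfl⟩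
  have hcV : c ∈ V := by
    rw [hc]
    exact V.mul_mem (hVn.conj_mem v hv a) (V.inv_mem hv)
  have hcA : c ∈ A := by
    have : c = a * (v * a⁻¹ * v⁻¹) := by rw [hc]; group
    rw [this]
    exact A.mul_mem ha ((Subgroup.mem_normalizer_iff.mp (hVA hv) a⁻¹).mp (A.inv_mem ha))
  have hac : a * c = c * a := hAab a ha c hcA
  have hava : a * v * a⁻¹ = c * v := by rw [hc]; group
  have h2 : a ^ 2 * v * (a ^ 2)⁻¹ = v := by
    calc a ^ 2 * v * (a ^ 2)⁻¹ = a * (a * v * a⁻¹) * a⁻¹ := by rw [pow_two]; group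
      _ = a * (c * v) * a⁻¹ := by rw [hava]
      _ = (a * c) * a⁻¹ * (a * v * a⁻¹) := by group
      _ = (c * a) * a⁻¹ * (c * v) := by rw [hac, hava]
      _ = c ^ 2 * v := by rw [pow_two]; group
      _ = v := by rw [hV2 c hcV, one_mul]
  calc v * a ^ 2 = (a ^ 2 * v * (a ^ 2)⁻¹) * a ^ 2 := by rw [h2]
    _ = a ^ 2 * v := by group

/-- an element of a `2`-subgroup `Tb` centralizing a normal complement `Nb` is trivial when `O₂ = 1` -/
theorem eq_one_of_centralizes_complement [Finite Y] (Tb Nb : Subgroup Y) [hNbn : Nb.Normal]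
    (hTbp : IsPGroup 2 Tb) (htop : Tb ⊔ Nb = ⊤)
    (hO2 : ∀ N : Subgroup Y, N.Normal → IsPGroup 2 N → N = ⊥) (a : Y) (ha : a ∈ Tb)
    (hcent : ∀ x ∈ Nb, a * x * a⁻¹ = x) : a = 1 := by
  have hle : Subgroup.normalClosure {a} ≤ Tb := by
    unfold Subgroup.normalClosure
    rw [Subgroup.closure_le]
    intro x hx
    rw [Group.mem_conjugatesOfSet_iff] at hx
    obtain ⟨a', ha', hconj⟩ := hx
    rw [Set.mem_singleton_iff] at ha'
    subst ha'
    obtain ⟨y, rfl⟩ := isConj_iff.mp hconj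
    have hy : y ∈ (↑(Tb ⊔ Nb) : Set Y) := by rw [htop]; exact Set.mem_univ y
    rw [Subgroup.mul_normal] at hy
    obtain ⟨t, ht, n, hn, rfl⟩ := Set.mem_mul.mp hy
    have h1 : n * a' * n⁻¹ = a' := by
      have := hcent n hn
      have h0 : a' * n = n * a' := by
        calc a' * n = (a' * n * a'⁻¹) * a' := by group
          _ = n * a' := by rw [this]
      rw [← h0]; group
    have h2 : (t * n) * a' * (t * n)⁻¹ = t * (n * a' * n⁻¹) * t⁻¹ := by group
    show (t * n) * a' * (t * n)⁻¹ ∈ Tb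
    rw [h2, h1]
    exact Tb.mul_mem (Tb.mul_mem ht ha) (Tb.inv_mem ht)
  have hbot := hO2 _ Subgroup.normalClosure_normal (hTbp.to_le hle)
  have : a ∈ Subgroup.normalClosure {a} := Subgroup.subset_normalClosure (Set.mem_singleton a)
  rw [hbot, Subgroup.mem_bot] at this
  exact this

/-- the subgroup generated by an element of order `3` and an involution inverting it has order `6` -/
theorem card_sup_zpowers_eq_six [Finite Y] (r f : Y) (hr : orderOf r = 3) (hf2 : f ^ 2 = 1) (hf1 : f ≠ 1)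
    (hfr : f * r * f⁻¹ = r⁻¹) :
    Nat.card (Subgroup.zpowers r ⊔ Subgroup.zpowers f : Subgroup Y) = 6 ∧
      (↑(Subgroup.zpowers r ⊔ Subgroup.zpowers f) : Set Y) =
        (Subgroup.zpowers r : Set Y) * (Subgroup.zpowers f : Set Y) := by
  have hfinv : f⁻¹ = f := by
    rw [pow_two] at hf2
    exact inv_eq_of_mul_eq_one_left hf2
  have h2f : Fact (Nat.Prime 2) := ⟨Nat.prime_two⟩
  have hford : orderOf f = 2 := orderOf_eq_prime hf2 hf1
  have hconj : ∀ h ∈ Subgroup.zpowers r, f * h * f⁻¹ ∈ Subgroup.zpowers r := by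
    intro h hh
    obtain ⟨k, rfl⟩ := Subgroup.mem_zpowers_iff.mp hh
    have : f * r ^ k * f⁻¹ = (f * r * f⁻¹) ^ k := by
      rw [← MulAut.conj_apply, map_zpow, MulAut.conj_apply]
    rw [this, hfr]
    exact Subgroup.zpow_mem _ (Subgroup.inv_mem _ (Subgroup.mem_zpowers r)) k
  have hfN : Subgroup.zpowers f ≤ Subgroup.normalizer ((Subgroup.zpowers r : Subgroup Y) : Set Y) := by
    rw [Subgroup.zpowers_le, Subgroup.mem_normalizer_iff]
    intro h
    constructor
    · exact hconj h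
    · intro hh
      have := hconj _ hh
      rw [hfinv] at this
      have h3 : f * (f * h * f) * f = h := by
        have : f * (f * h * f) * f = (f * f) * h * (f * f) := by group
        rw [this, ← pow_two, hf2, one_mul, mul_one]
      rw [h3] at this
      exact this
  have hcoe := Subgroup.coe_mul_of_right_le_normalizer_left (Subgroup.zpowers r) (Subgroup.zpowers f) hfN
  refine ⟨?_, hcoe⟩
  have hle : Nat.card (Subgroup.zpowers r ⊔ Subgroup.zpowers f : Subgroup Y) ≤ 6 := by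
    have h1 : Nat.card (Subgroup.zpowers r ⊔ Subgroup.zpowers f : Subgroup Y) =
        Nat.card ↑((Subgroup.zpowers r : Set Y) * (Subgroup.zpowers f : Set Y)) := by
      rw [← hcoe]; rfl
    rw [h1]
    refine (Set.natCard_mul_le).trans ?_
    have h3 : Nat.card ↑(Subgroup.zpowers r : Set Y) = 3 := by
      rw [← hr]; exact Nat.card_zpowers r
    have h4 : Nat.card ↑(Subgroup.zpowers f : Set Y) = 2 := by
      rw [← hford]; exact Nat.card_zpowers f
    rw [h3, h4]
  have h3 : 3 ∣ Nat.card (Subgroup.zpowers r ⊔ Subgroup.zpowers f : Subgroup Y) := by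
    have := Subgroup.card_dvd_of_le (le_sup_left : Subgroup.zpowers r ≤ Subgroup.zpowers r ⊔ Subgroup.zpowers f)
    rwa [Nat.card_zpowers, hr] at this
  have h2 : 2 ∣ Nat.card (Subgroup.zpowers r ⊔ Subgroup.zpowers f : Subgroup Y) := by
    have := Subgroup.card_dvd_of_le (le_sup_right : Subgroup.zpowers f ≤ Subgroup.zpowers r ⊔ Subgroup.zpowers f)
    rwa [Nat.card_zpowers, hford] at this
  have h6 : 6 ∣ Nat.card (Subgroup.zpowers r ⊔ Subgroup.zpowers f : Subgroup Y) :=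
    Nat.Coprime.mul_dvd_of_dvd_of_dvd (by norm_num : Nat.Coprime 2 3) h2 h3
  have hpos : 0 < Nat.card (Subgroup.zpowers r ⊔ Subgroup.zpowers f : Subgroup Y) := Nat.card_pos
  have := Nat.le_of_dvd hpos h6
  omega

end aux

section stab
variable {Γ V : Type*} [Group Γ] [Group V] [MulDistribMulAction Γ V]

/-- setwise stabilizer of a subgroup -/
def stabS (W : Subgroup V) : Subgroup Γ where
  carrier := {g | ∀ v, g • v ∈ W ↔ v ∈ W}
  one_mem' := fun v => by rw [one_smul]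
  mul_mem' := by
    intro a b ha hb v
    rw [mul_smul, ha, hb]
  inv_mem' := by
    intro a ha v
    have := ha (a⁻¹ • v)
    rw [← mul_smul, mul_inv_cancel, one_smul] at this
    exact this.symm

/-- pointwise stabilizer of a subgroup -/
def fixingS (W : Subgroup V) : Subgroup Γ where
  carrier := {g | ∀ v ∈ W, g • v = v}
  one_mem' := fun v _ => one_smul _ v
  mul_mem' := by
    intro a b ha hb v hv
    rw [mul_smul, hb v hv, ha v hv]
  inv_mem' := by
    intro a ha v hv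
    have := ha v hv
    calc a⁻¹ • v = a⁻¹ • (a • v) := by rw [this]
      _ = v := by rw [← mul_smul, inv_mul_cancel, one_smul]

theorem mem_stabS_of_pow (W : Subgroup V) (g : Γ) (n : ℕ) (hn : g ^ (n + 1) = 1)
    (hinv : ∀ v ∈ W, g • v ∈ W) : g ∈ stabS (Γ := Γ) W := by
  intro v
  constructor
  · intro h
    have key : ∀ i : ℕ, g ^ i • (g • v) ∈ W := by
      intro i
      induction i with
      | zero => simpa using h
      | succ i ih =>
        rw [pow_succ', mul_smul]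
        exact hinv _ ih
    have := key n
    rw [← mul_smul, ← pow_succ, hn, one_smul] at this
    exact this
  · exact hinv v

/-- the `S₃` generated by `r` and `f` acts faithfully on `V₁` -/
theorem eq_one_of_mem_sup_of_fixing [Finite Γ] (r f : Γ) (hr : orderOf r = 3) (hf2 : f ^ 2 = 1) (hf1 : f ≠ 1)
    (hfr : f * r * f⁻¹ = r⁻¹) (W : Subgroup V) (hW4 : Nat.card W = 4)
    (hrW : ∀ v ∈ W, r • v ∈ W) (hfpf : ∀ v ∈ W, r • v = v → v = 1)
    (hcoe : (↑(Subgroup.zpowers r ⊔ Subgroup.zpowers f) : Set Γ) =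
        (Subgroup.zpowers r : Set Γ) * (Subgroup.zpowers f : Set Γ))
    (x : Γ) (hx : x ∈ Subgroup.zpowers r ⊔ Subgroup.zpowers f) (hxfix : ∀ v ∈ W, x • v = v) : x = 1 := by
  have hfinv : f⁻¹ = f := by
    rw [pow_two] at hf2
    exact inv_eq_of_mul_eq_one_left hf2
  have h2f : Fact (Nat.Prime 2) := ⟨Nat.prime_two⟩
  have hford : orderOf f = 2 := orderOf_eq_prime hf2 hf1
  have hr3 : r ^ 3 = 1 := by rw [← hr]; exact pow_orderOf_eq_one r
  have hWne : ∃ w ∈ W, w ≠ 1 := by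
    by_contra hcon
    push Not at hcon
    have : W = ⊥ := by
      rw [eq_bot_iff]
      intro w hw
      exact Subgroup.mem_bot.mpr (hcon w hw)
    rw [this, Subgroup.card_bot] at hW4
    norm_num at hW4
  have hrstab : Subgroup.zpowers r ≤ stabS (Γ := Γ) W := by
    rw [Subgroup.zpowers_le]
    exact mem_stabS_of_pow W r 2 hr3 hrW
  -- nontrivial elements of `⟨r⟩` do not fix `W` pointwise
  have hRpart : ∀ a ∈ Subgroup.zpowers r, (∀ v ∈ W, a • v = v) → a = 1 := by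
    intro a ha hafix
    by_contra ha1
    have hcard_r : Nat.card (Subgroup.zpowers r) = 3 := by rw [Nat.card_zpowers, hr]
    have hle : Subgroup.zpowers a ≤ Subgroup.zpowers r := by rw [Subgroup.zpowers_le]; exact ha
    have hdvd : Nat.card (Subgroup.zpowers a) ∣ 3 := by rw [← hcard_r]; exact Subgroup.card_dvd_of_le hle
    have hne1 : Nat.card (Subgroup.zpowers a) ≠ 1 := by
      rw [Nat.card_zpowers]
      intro h
      exact ha1 (orderOf_eq_one_iff.mp h)
    have h3 : Nat.card (Subgroup.zpowers a) = 3 := by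
      rcases (Nat.dvd_prime Nat.prime_three).mp hdvd with h | h
      · exact absurd h hne1
      · exact h
    have heq : Subgroup.zpowers a = Subgroup.zpowers r :=
      Subgroup.eq_of_le_of_card_ge hle (by rw [h3, hcard_r])
    have hrfix : r ∈ fixingS (Γ := Γ) W := by
      have h1 : Subgroup.zpowers a ≤ fixingS (Γ := Γ) W := by
        rw [Subgroup.zpowers_le]; exact hafix
      apply h1
      rw [heq]; exact Subgroup.mem_zpowers r
    obtain ⟨w, hw, hw1⟩ := hWne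
    exact hw1 (hfpf w hw (hrfix w hw))
  have hxmem : x ∈ (↑(Subgroup.zpowers r ⊔ Subgroup.zpowers f) : Set Γ) := hx
  rw [hcoe] at hxmem
  obtain ⟨a, ha, b, hb, rfl⟩ := Set.mem_mul.mp hxmem
  obtain ⟨k, hk⟩ := Subgroup.mem_zpowers_iff.mp hb
  have hb' : b = 1 ∨ b = f := by
    rw [← hk, ← zpow_mod_orderOf, hford]
    rcases Int.emod_two_eq_zero_or_one k with h | h
    · left; rw [show (k % ((2 : ℕ) : ℤ)) = 0 from h, zpow_zero]
    · right; rw [show (k % ((2 : ℕ) : ℤ)) = 1 from h, zpow_one]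
  rcases hb' with rfl | rfl
  · rw [mul_one] at hxfix ⊢
    exact hRpart a ha hxfix
  · exfalso
    have hainv : a⁻¹ ∈ Subgroup.zpowers r := Subgroup.inv_mem _ ha
    have hbv : ∀ v ∈ W, b • v = a⁻¹ • v := by
      intro v hv
      have := hxfix v hv
      rw [mul_smul] at this
      calc b • v = a⁻¹ • (a • (b • v)) := by rw [← mul_smul, inv_mul_cancel, one_smul]
        _ = a⁻¹ • v := by rw [this]
    have hainvW : ∀ v ∈ W, a⁻¹ • v ∈ W := fun v hv => ((hrstab hainv) v).mpr hv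
    have hsq : ∀ v ∈ W, (a⁻¹ ^ 2) • v = v := by
      intro v hv
      have h1 : b • (b • v) = v := by rw [← mul_smul, ← pow_two, hf2, one_smul]
      rw [pow_two, mul_smul, ← hbv _ (hainvW v hv), ← hbv v hv]
      exact h1
    have hsq1 : a⁻¹ ^ 2 = 1 := hRpart _ (Subgroup.pow_mem _ hainv 2) hsq
    have hcard_r : Odd (Nat.card (Subgroup.zpowers r)) := by
      rw [Nat.card_zpowers, hr]; exact ⟨1, rfl⟩
    have ha1 : a⁻¹ = 1 := eq_one_of_sq_eq_one_of_odd (Subgroup.zpowers r) hcard_r hainv hsq1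
    have hbfix : ∀ v ∈ W, b • v = v := by
      intro v hv
      rw [hbv v hv, ha1, one_smul]
    have hr2 : ∀ v ∈ W, (r ^ 2) • v = v := by
      intro v hv
      have h1 : r⁻¹ • v = r • v := by
        calc r⁻¹ • v = (b * r * b⁻¹) • v := by rw [hfr]
          _ = b • (r • (b • v)) := by rw [hfinv, mul_smul, mul_smul]
          _ = b • (r • v) := by rw [hbfix v hv]
          _ = r • v := hbfix _ (hrW v hv)
      rw [pow_two, mul_smul, ← h1, ← mul_smul, mul_inv_cancel, one_smul]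
    have hr21 : r ^ 2 = 1 := hRpart _ (Subgroup.pow_mem _ (Subgroup.mem_zpowers r) 2) hr2
    have := orderOf_dvd_of_pow_eq_one hr21
    rw [hr] at this
    norm_num at this

end stab

section core
variable {Y : Type u} [Group Y] [Finite Y]

/-- the conjugation action of `Y ⧸ B` on `Ω₁(Z(B))` -/
def quotAct (B : Subgroup Y) [hBn : B.Normal] :
    (Y ⧸ B) →* MulAut ↥(omZ 2 B) :=
  haveI : (omZ 2 B).Normal := omZ_normal 2 B
  QuotientGroup.lift B (MulAut.conjNormal (H := omZ 2 B)) (by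
    intro b hb
    rw [MonoidHom.mem_ker]
    ext v
    rw [MulAut.conjNormal_apply]
    have := (Subgroup.mem_centralizer_iff.mp (le_centralizer_omZ 2 B hb)) v.1 v.2
    show b * (v : Y) * b⁻¹ = v
    rw [← this]; group)

omit [Finite Y] in
theorem quotAct_mk (B : Subgroup Y) [hBn : B.Normal] (y : Y) (v : ↥(omZ 2 B)) :
    ((quotAct B (QuotientGroup.mk' B y) v : ↥(omZ 2 B)) : Y) = y * v * y⁻¹ := by
  have : (omZ 2 B).Normal := omZ_normal 2 B
  unfold quotAct
  show ((QuotientGroup.lift B (MulAut.conjNormal (H := omZ 2 B)) _ (QuotientGroup.mk y)) v : Y) = _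
  rw [QuotientGroup.lift_mk, MulAut.conjNormal_apply]

/-- the action of `Y ⧸ B` on `Ω₁(Z(B))` as an instance -/
@[instance_reducible]
def quotMDMA (B : Subgroup Y) [hBn : B.Normal] : MulDistribMulAction (Y ⧸ B) ↥(omZ 2 B) :=
  MulDistribMulAction.compHom _ (quotAct B)

omit [Finite Y] in
theorem quot_smul_mk (B : Subgroup Y) [hBn : B.Normal] (y : Y) (v : ↥(omZ 2 B)) :
    letI := quotMDMA B
    (((QuotientGroup.mk' B y) • v : ↥(omZ 2 B)) : Y) = y * v * y⁻¹ :=
  quotAct_mk B y v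

/-- **the `S₄`-section** in the final configuration -/
theorem involves_perm4_core (B : Subgroup Y) [hBn : B.Normal] (hBp : IsPGroup 2 B)
    (T : Subgroup Y) (hTp : IsPGroup 2 T) (hBT : B ≤ T)
    (hCV : Subgroup.centralizer (omZ 2 B : Set Y) ≤ B)
    (hO2 : ∀ N : Subgroup (Y ⧸ B), N.Normal → IsPGroup 2 N → N = ⊥)
    (Nb : Subgroup (Y ⧸ B)) [hNbn : Nb.Normal] (hNbab : ∀ x ∈ Nb, ∀ y ∈ Nb, x * y = y * x)
    (hNbodd : Odd (Nat.card Nb)) (htop : T.map (QuotientGroup.mk' B) ⊔ Nb = ⊤)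
    (hex : ∃ A ∈ maxIn AbSub T, ¬ A ≤ B) :
    Cfsg.Involves (Equiv.Perm (Fin 4)) Y := by
  have h2f : Fact (Nat.Prime 2) := ⟨Nat.prime_two⟩
  have hVn : (omZ 2 B).Normal := omZ_normal 2 B
  have hVB : omZ 2 B ≤ B := omZ_le 2 B
  have hVT : omZ 2 B ≤ T := hVB.trans hBT
  have hTV : T ≤ Subgroup.normalizer (omZ 2 B : Set Y) := by
    rw [Subgroup.normalizer_eq_top_iff.mpr hVn]; exact le_top
  have hVab : AbSub (omZ 2 B) := omZ_abSub 2 B
  have hBV : B ≤ Subgroup.centralizer (omZ 2 B : Set Y) := le_centralizer_omZ 2 B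
  obtain ⟨A, hA, hAB, hVA⟩ := exists_maxIn_normalized T hTp B (omZ 2 B) hVT hTV hVab hBV hex
  have hoff := offender_ineq T A hA B (omZ 2 B) hVT hVab hVB hBV
  have hAab : AbSub A := hA.2.1
  let _ := quotMDMA B
  have hsmul : ∀ (y : Y) (v : ↥(omZ 2 B)), (((QuotientGroup.mk' B y) • v : ↥(omZ 2 B)) : Y) = y * v * y⁻¹ :=
    fun y v => quot_smul_mk B y v
  have hmk : Function.Surjective (QuotientGroup.mk' B) := QuotientGroup.mk'_surjective B
  -- faithful
  have hfaith : ∀ g : Y ⧸ B, (∀ v : ↥(omZ 2 B), g • v = v) → g = 1 := by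
    intro g hg
    obtain ⟨y, rfl⟩ := hmk g
    have hyC : y ∈ Subgroup.centralizer (omZ 2 B : Set Y) := by
      refine Subgroup.mem_centralizer_iff.mpr ?_
      intro v hv
      have := congrArg Subtype.val (hg ⟨v, hv⟩)
      rw [hsmul] at this
      calc v * y = (y * v * y⁻¹) * y := by rw [this]
        _ = y * v := by group
    exact (QuotientGroup.eq_one_iff y).mpr (hCV hyC)
  have hVc : ∀ a b : ↥(omZ 2 B), a * b = b * a := fun a b => Subtype.ext (hVab a.1 a.2 b.1 b.2)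
  have hV2 : ∀ v : ↥(omZ 2 B), v ^ 2 = 1 := fun v => Subtype.ext (by simpa using v.2.2.2)
  -- the image of `A`
  obtain ⟨Ab, hAb⟩ : ∃ Ab, Ab = A.map (QuotientGroup.mk' B) := ⟨_, rfl⟩
  have hAQ : ∀ a ∈ Ab, ∀ x ∈ Nb, a * x * a⁻¹ ∈ Nb := fun a _ x hx => hNbn.conj_mem x hx a
  have hAbab : ∀ a ∈ Ab, ∀ b ∈ Ab, a * b = b * a := by
    rw [hAb]
    rintro _ ⟨a, ha, rfl⟩ _ ⟨b, hb, rfl⟩
    rw [← map_mul, ← map_mul, hAab a ha b hb]
  have hAb2 : ∀ a ∈ Ab, a ^ 2 = 1 := by
    rw [hAb]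
    rintro _ ⟨a, ha, rfl⟩
    rw [← map_pow]
    apply (QuotientGroup.eq_one_iff _).mpr
    apply hCV
    exact sq_mem_centralizer_of_normalizes A (omZ 2 B) hAab (fun v hv => hv.2.2) hVA a ha
  have hAbT : Ab ≤ T.map (QuotientGroup.mk' B) := by
    rw [hAb]; exact Subgroup.map_mono hA.1
  have hAfaith : ∀ a ∈ Ab, (∀ x ∈ Nb, a * x * a⁻¹ = x) → a = 1 := by
    intro a ha hcent
    exact eq_one_of_centralizes_complement (T.map (QuotientGroup.mk' B)) Nb (hTp.map _) htop hO2 a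
      (hAbT ha) hcent
  have hAne : Ab ≠ ⊥ := by
    intro h
    apply hAB
    intro a ha
    have : (QuotientGroup.mk' B) a ∈ Ab := by rw [hAb]; exact ⟨a, ha, rfl⟩
    rw [h, Subgroup.mem_bot] at this
    exact (QuotientGroup.eq_one_iff a).mp this
  -- the offender inequality in the quotient
  have hcardAb : Nat.card Ab * Nat.card (A ⊓ B : Subgroup Y) = Nat.card A := by
    have h1 := Subgroup.relIndex_ker (QuotientGroup.mk' B) (K := A)
    rw [QuotientGroup.ker_mk'] at h1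
    rw [hAb, ← h1]
    exact relIndex_mul_card_inf A B
  have hfixle : Nat.card (A ⊓ omZ 2 B : Subgroup Y) ≤ Nat.card (fixSub (V := ↥(omZ 2 B)) Ab) := by
    have h1 : Nat.card (A ⊓ omZ 2 B : Subgroup Y) = Nat.card ((A ⊓ omZ 2 B).subgroupOf (omZ 2 B)) :=
      (card_subgroupOf_le inf_le_right).symm
    rw [h1]
    apply Subgroup.card_le_of_le
    intro v hv
    rw [Subgroup.mem_subgroupOf] at hv
    rw [mem_fixSub, hAb]
    rintro _ ⟨a, ha, rfl⟩
    apply Subtype.ext
    rw [hsmul]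
    have := hAab a ha v.1 hv.1
    rw [this]; group
  have hoff' : Nat.card ↥(omZ 2 B) ≤ Nat.card Ab * Nat.card (fixSub (V := ↥(omZ 2 B)) Ab) := by
    have hpos : 0 < Nat.card (A ⊓ B : Subgroup Y) := Nat.card_pos
    have h1 : Nat.card (A ⊓ B : Subgroup Y) * Nat.card ↥(omZ 2 B) ≤
        Nat.card (A ⊓ B : Subgroup Y) * (Nat.card Ab * Nat.card (fixSub (V := ↥(omZ 2 B)) Ab)) := by
      calc Nat.card (A ⊓ B : Subgroup Y) * Nat.card ↥(omZ 2 B)
          ≤ Nat.card A * Nat.card (A ⊓ omZ 2 B : Subgroup Y) := hoff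
        _ = Nat.card (A ⊓ B : Subgroup Y) * (Nat.card Ab * Nat.card (A ⊓ omZ 2 B : Subgroup Y)) := by
            rw [← hcardAb]; ring
        _ ≤ Nat.card (A ⊓ B : Subgroup Y) * (Nat.card Ab * Nat.card (fixSub (V := ↥(omZ 2 B)) Ab)) :=
            Nat.mul_le_mul_left _ (Nat.mul_le_mul_left _ hfixle)
    exact Nat.le_of_mul_le_mul_left h1 hpos
  obtain ⟨r, f, V₁', hrNb, hfAb, hr3, hf1, hf2, hfr, hV₁'4, hrV₁', hfV₁', hfpf⟩ :=
    exists_S3_config hfaith hVc hV2 Nb hNbab hNbodd Ab hAQ hAbab hAb2 hAfaith hAne hoff'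
  -- the subgroup `⟨r, f⟩` of order `6` and its preimage
  obtain ⟨hKb6, hcoe⟩ := card_sup_zpowers_eq_six r f hr3 hf2 hf1 hfr
  obtain ⟨Kb, hKb⟩ : ∃ Kb, Kb = Subgroup.zpowers r ⊔ Subgroup.zpowers f := ⟨_, rfl⟩
  rw [← hKb] at hKb6 hcoe
  obtain ⟨K, hK⟩ : ∃ K, K = Kb.comap (QuotientGroup.mk' B) := ⟨_, rfl⟩
  have hKmap : K.map (QuotientGroup.mk' B) = Kb := by
    rw [hK]; exact Subgroup.map_comap_eq_self_of_surjective hmk Kb
  have hBK : B ≤ K := by
    rw [hK]
    intro b hb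
    rw [Subgroup.mem_comap]
    have : (QuotientGroup.mk' B) b = 1 := (QuotientGroup.eq_one_iff b).mpr hb
    rw [this]; exact Kb.one_mem
  have hrelBK : B.relIndex K = 6 := by
    have := Subgroup.relIndex_ker (QuotientGroup.mk' B) (K := K)
    rw [QuotientGroup.ker_mk', hKmap, hKb6] at this
    exact this
  -- `V₁` inside `Y`
  obtain ⟨V₁, hV₁⟩ : ∃ V₁, V₁ = V₁'.map (omZ 2 B).subtype := ⟨_, rfl⟩
  have hV₁4 : Nat.card V₁ = 4 := by
    rw [hV₁, Subgroup.card_map_of_injective (Subgroup.subtype_injective _), hV₁'4]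
  have hV₁V : V₁ ≤ omZ 2 B := by rw [hV₁]; exact Subgroup.map_subtype_le V₁'
  have hV₁K : V₁ ≤ K := hV₁V.trans (hVB.trans hBK)
  have hr3' : r ^ 3 = 1 := by rw [← hr3]; exact pow_orderOf_eq_one r
  have hKbstab : Kb ≤ stabS (Γ := Y ⧸ B) V₁' := by
    rw [hKb]
    apply sup_le
    · rw [Subgroup.zpowers_le]
      exact mem_stabS_of_pow V₁' r 2 hr3' hrV₁'
    · rw [Subgroup.zpowers_le]
      exact mem_stabS_of_pow V₁' f 1 hf2 hfV₁'
  have hKconj : ∀ k ∈ K, ∀ v ∈ V₁, k * v * k⁻¹ ∈ V₁ := by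
    intro k hk v hv
    rw [hV₁] at hv ⊢
    obtain ⟨v', hv', rfl⟩ := hv
    have hkKb : (QuotientGroup.mk' B) k ∈ Kb := by rw [hK] at hk; exact hk
    have := ((hKbstab hkKb) v').mpr hv'
    refine ⟨_, this, ?_⟩
    show (((QuotientGroup.mk' B k) • v' : ↥(omZ 2 B)) : Y) = _
    rw [hsmul]
    rfl
  have hKN : K ≤ Subgroup.normalizer (V₁ : Set Y) := by
    intro k hk
    rw [Subgroup.mem_normalizer_iff]
    intro v
    constructor
    · exact hKconj k hk v
    · intro h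
      have := hKconj k⁻¹ (K.inv_mem hk) _ h
      have h2 : k⁻¹ * (k * v * k⁻¹) * k⁻¹⁻¹ = v := by group
      rw [h2] at this
      exact this
  -- faithfulness modulo `B`
  have hcentK : ∀ k ∈ K, (∀ v ∈ V₁, v * k = k * v) → k ∈ B := by
    intro k hk hkc
    have hkKb : (QuotientGroup.mk' B) k ∈ Kb := by rw [hK] at hk; exact hk
    rw [hKb] at hkKb
    rw [hKb] at hcoe
    have := eq_one_of_mem_sup_of_fixing r f hr3 hf2 hf1 hfr V₁' hV₁'4 hrV₁' hfpf hcoe _ hkKb (by
      intro v' hv'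
      apply Subtype.ext
      rw [hsmul]
      have hvV₁ : (v' : Y) ∈ V₁ := by rw [hV₁]; exact ⟨v', hv', rfl⟩
      rw [← hkc _ hvV₁]; group)
    exact (QuotientGroup.eq_one_iff k).mp this
  -- apply the `S₄`-criterion inside `K`
  have hBn' : (B.subgroupOf K).Normal := hBn.subgroupOf K
  have hV₁n' : (V₁.subgroupOf K).Normal := (Subgroup.normal_subgroupOf_iff_le_normalizer hV₁K).mpr hKN
  have hB2' : IsPGroup 2 (B.subgroupOf K) := hBp.comap_of_injective _ (Subgroup.subtype_injective _)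
  have hBidx' : (B.subgroupOf K).index = 6 := hrelBK
  have hV4' : Nat.card (V₁.subgroupOf K) = 4 := by rw [card_subgroupOf_le hV₁K, hV₁4]
  have hcent' : Subgroup.centralizer ((V₁.subgroupOf K : Subgroup K) : Set K) ≤ B.subgroupOf K := by
    intro k hk
    rw [Subgroup.mem_subgroupOf]
    apply hcentK k.1 k.2
    intro v hv
    have := (Subgroup.mem_centralizer_iff.mp hk) ⟨v, hV₁K hv⟩ (Subgroup.mem_subgroupOf.mpr hv)
    exact congrArg Subtype.val this
  have hinv := involves_perm4_of_config (B.subgroupOf K) (V₁.subgroupOf K) hB2' hBidx' hV4' hcent'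
  exact Cfsg.Agent.Lib.Helper27.involves_of_injective K.subtype (Subgroup.subtype_injective K) hinv

end core

end Cfsg.Agent.Lib.Helper8.ThTwo
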