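import Mathlib
import Cfsg.Agent.Lib.Helper8.ThTwoC
import Cfsg.Agent.Lib.Helper8.Hyperplane

/-!
# Offenders on `F₂`-modules: the case of a nonabelian odd order group `Q̄` (helper8 library)
-/

set_option autoImplicit false
open Subgroup
open scoped commutatorElement

namespace Cfsg.Agent.Lib.Helper8.ThTwo

section commSub
variable {Γ V : Type*} [Group Γ] [Group V] [MulDistribMulAction Γ V]

/-- `[V, R]` for a subgroup `R` of the acting group -/
def commSub (R : Subgroup Γ) : Subgroup V :=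
  Subgroup.closure {w | ∃ x ∈ R, ∃ u : V, w = u⁻¹ * x • u}

theorem smul_mem_commSub (R : Subgroup Γ) (g : Γ) (hg : ∀ x ∈ R, g * x * g⁻¹ ∈ R) {w : V}
    (hw : w ∈ commSub (V := V) R) : g • w ∈ commSub (V := V) R := by
  have hle : commSub (V := V) R ≤ (commSub (V := V) R).comap (MulDistribMulAction.toMonoidHom V g) := by
    unfold commSub
    rw [Subgroup.closure_le]
    rintro w ⟨x, hx, u, rfl⟩
    show g • (u⁻¹ * x • u) ∈ Subgroup.closure _
    apply Subgroup.subset_closure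
    refine ⟨g * x * g⁻¹, hg x hx, g • u, ?_⟩
    rw [smul_mul', smul_inv', ← mul_smul, ← mul_smul]
    congr 2
    group
  exact hle hw

/-- coprime action: `C_V(R) ∩ [V,R] = 1` for `R` of odd order, `V` an elementary abelian `2`-group -/
theorem eq_one_of_mem_commSub_of_fixed [Finite Γ] (hVc : ∀ a b : V, a * b = b * a) (hV2 : ∀ v : V, v ^ 2 = 1)
    (R : Subgroup Γ) (hRodd : Odd (Nat.card R)) {v : V} (hv : v ∈ commSub (V := V) R)
    (hfix : ∀ x ∈ R, x • v = v) : v = 1 := by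
  classical
  let _ : CommGroup V := { (inferInstance : Group V) with mul_comm := hVc }
  have : Fintype R := Fintype.ofFinite R
  let θ : V →* V := ∏ x : R, MulDistribMulAction.toMonoidHom V (x : Γ)
  have hθ : ∀ v, θ v = ∏ x : R, (x : Γ) • v := fun v => by
    show (∏ x : R, MulDistribMulAction.toMonoidHom V (x : Γ)) v = _
    rw [MonoidHom.finsetProd_apply]
    rfl
  have hθsmul : ∀ (y : R) (u : V), θ ((y : Γ) • u) = θ u := by
    intro y u
    rw [hθ, hθ]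
    apply Fintype.prod_equiv (Equiv.mulRight y)
    intro x
    rw [← mul_smul]
    rfl
  have hker : commSub (V := V) R ≤ θ.ker := by
    unfold commSub
    rw [Subgroup.closure_le]
    rintro w ⟨x, hx, u, rfl⟩
    show _ ∈ θ.ker
    rw [MonoidHom.mem_ker, map_mul, map_inv, hθsmul ⟨x, hx⟩ u, inv_mul_cancel]
  have h1 : θ v = 1 := MonoidHom.mem_ker.mp (hker hv)
  have h2 : θ v = v ^ Nat.card R := by
    rw [hθ]
    have : ∀ x : R, (x : Γ) • v = v := fun x => hfix x.1 x.2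
    simp only [this, Finset.prod_const, Finset.card_univ, Nat.card_eq_fintype_card]
  rw [h2] at h1
  obtain ⟨k, hk⟩ := hRodd
  rw [hk, pow_succ, pow_mul, hV2, one_pow, one_mul] at h1
  exact h1

end commSub

section main2
variable {Γ V : Type*} [Group Γ] [Group V] [Finite V] [MulDistribMulAction Γ V]

/-- a minimal offender is generated by a transvection inverting an element of odd prime order; here `Q` is any group
of odd order -/
theorem exists_transvection' [Finite Γ] (hfaith : ∀ g : Γ, (∀ v : V, g • v = v) → g = 1)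
    (hVc : ∀ a b : V, a * b = b * a) (hV2 : ∀ v : V, v ^ 2 = 1)
    (Q : Subgroup Γ) (hQodd : Odd (Nat.card Q))
    (A : Subgroup Γ) (hAQ : ∀ a ∈ A, ∀ x ∈ Q, a * x * a⁻¹ ∈ Q)
    (hAab : ∀ a ∈ A, ∀ b ∈ A, a * b = b * a) (hA2 : ∀ a ∈ A, a ^ 2 = 1)
    (hAfaith : ∀ a ∈ A, (∀ x ∈ Q, a * x * a⁻¹ = x) → a = 1) (hAne : A ≠ ⊥)
    (hoff : Nat.card V ≤ Nat.card A * Nat.card (fixSub (V := V) A)) :
    ∃ (r f : Γ) (q : ℕ), r ∈ Q ∧ f ∈ A ∧ q.Prime ∧ Odd q ∧ orderOf r = q ∧ f ≠ 1 ∧ f * r * f⁻¹ = r⁻¹ ∧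
      Nat.card V ≤ 2 * Nat.card (fixElt (V := V) f) := by
  classical
  have h2f : Fact (Nat.Prime 2) := ⟨Nat.prime_two⟩
  -- a minimal offender
  let 𝒮 : Set (Subgroup Γ) := {F | F ≤ A ∧ F ≠ ⊥ ∧ Nat.card V ≤ Nat.card F * Nat.card (fixSub (V := V) F)}
  have hne : 𝒮.Nonempty := ⟨A, le_rfl, hAne, hoff⟩
  obtain ⟨F, ⟨hFA, hFne, hFoff⟩, hFmin⟩ :=
    Set.exists_min_image 𝒮 (fun F => Nat.card F) (Set.toFinite 𝒮) hne
  obtain ⟨⟨f, hfF⟩, hf1'⟩ := Subgroup.ne_bot_iff_exists_ne_one.mp hFne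
  have hf1 : f ≠ 1 := fun h => hf1' (Subtype.ext h)
  have hfA : f ∈ A := hFA hfF
  have hf2 : f ^ 2 = 1 := hA2 f hfA
  have hfinv : f⁻¹ = f := by
    rw [pow_two] at hf2
    exact inv_eq_of_mul_eq_one_left hf2
  -- an element inverted by `f`
  obtain ⟨y, hyQ, hy⟩ : ∃ y ∈ Q, f * y * f⁻¹ ≠ y := by
    by_contra hcon
    push Not at hcon
    exact hf1 (hAfaith f hfA hcon)
  obtain ⟨r₀, hr₀⟩ : ∃ r₀, r₀ = y⁻¹ * (f * y * f⁻¹) := ⟨_, rfl⟩
  have hr₀Q : r₀ ∈ Q := by rw [hr₀]; exact Q.mul_mem (Q.inv_mem hyQ) (hAQ f hfA y hyQ)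
  have hr₀1 : r₀ ≠ 1 := by
    intro h
    apply hy
    rw [hr₀, inv_mul_eq_one] at h
    exact h.symm
  have hfr₀ : f * r₀ * f⁻¹ = r₀⁻¹ := by
    rw [hr₀]
    have h1 : f * (y⁻¹ * (f * y * f⁻¹)) * f⁻¹ = (f * y * f⁻¹)⁻¹ * ((f * f) * y * (f * f)⁻¹) := by group
    rw [h1, ← pow_two, hf2]
    group
  -- prime order
  have hn1 : orderOf r₀ ≠ 1 := fun h => hr₀1 (orderOf_eq_one_iff.mp h)
  have hn0 : orderOf r₀ ≠ 0 := (orderOf_pos r₀).ne'
  have hndvd : orderOf r₀ ∣ Nat.card Q := by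
    have := orderOf_dvd_natCard (⟨r₀, hr₀Q⟩ : Q)
    rwa [Subgroup.orderOf_mk] at this
  obtain ⟨q, hq⟩ : ∃ q, q = (orderOf r₀).minFac := ⟨_, rfl⟩
  have hqp : q.Prime := by rw [hq]; exact Nat.minFac_prime hn1
  have hqdvd : q ∣ orderOf r₀ := by rw [hq]; exact Nat.minFac_dvd _
  have hqodd : Odd q := (hQodd.of_dvd_nat hndvd).of_dvd_nat hqdvd
  obtain ⟨r, hr⟩ : ∃ r, r = r₀ ^ (orderOf r₀ / q) := ⟨_, rfl⟩
  have hrq : orderOf r = q := by rw [hr]; exact orderOf_pow_orderOf_div hn0 hqdvd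
  have hrQ : r ∈ Q := by rw [hr]; exact Q.pow_mem hr₀Q _
  have hfr : f * r * f⁻¹ = r⁻¹ := by rw [hr, ← conj_pow, hfr₀, inv_pow]
  refine ⟨r, f, q, hrQ, hfA, hqp, hqodd, hrq, hf1, hfr, ?_⟩
  have hfix : fixSub (V := V) F ≤ fixElt f := fun v hv => hv f hfF
  have hFp : IsPGroup 2 F := by
    intro g
    refine ⟨1, ?_⟩
    rw [pow_one]
    apply Subtype.ext
    simpa using hA2 g.1 (hFA g.2)
  by_cases hF2 : Nat.card F = 2
  · calc Nat.card V ≤ Nat.card F * Nat.card (fixSub (V := V) F) := hFoff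
      _ = 2 * Nat.card (fixSub (V := V) F) := by rw [hF2]
      _ ≤ 2 * Nat.card (fixElt (V := V) f) := Nat.mul_le_mul_left _ (Subgroup.card_le_of_le hfix)
  exfalso
  -- hyperplanes of `F` have the same fixed points as `F`
  have hhyp : ∀ F₀ : Subgroup Γ, F₀ ≤ F → F₀.relIndex F = 2 → fixSub (V := V) F₀ = fixSub F := by
    intro F₀ hF₀F hrel
    have hcardF : Nat.card F = 2 * Nat.card F₀ := by
      have := relIndex_mul_card_eq hF₀F
      rw [hrel] at this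
      exact this.symm
    have hF₀ne : F₀ ≠ ⊥ := by
      intro h
      rw [h, Subgroup.card_bot, mul_one] at hcardF
      exact hF2 hcardF
    have hnotin : ¬ (Nat.card V ≤ Nat.card F₀ * Nat.card (fixSub (V := V) F₀)) := by
      intro h
      have := hFmin F₀ ⟨hF₀F.trans hFA, hF₀ne, h⟩
      have hpos : 0 < Nat.card F₀ := Nat.card_pos
      omega
    by_contra hne'
    have hlt : fixSub (V := V) F < fixSub F₀ :=
      lt_of_le_of_ne (fixSub_anti hF₀F) (fun h => hne' h.symm)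
    have h2 := two_mul_card_le_of_lt hlt
    apply hnotin
    calc Nat.card V ≤ Nat.card F * Nat.card (fixSub (V := V) F) := hFoff
      _ = Nat.card F₀ * (2 * Nat.card (fixSub (V := V) F)) := by rw [hcardF]; ring
      _ ≤ Nat.card F₀ * Nat.card (fixSub (V := V) F₀) := Nat.mul_le_mul_left _ h2
  -- `Q` stabilizes `U = C_V(F)`
  have hFea : Cfsg.IsElementaryAbelian 2 F :=
    Cfsg.Agent.Lib.Helper4.elemAb_of_comm (fun a ha b hb => hAab a (hFA ha) b (hFA hb))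
      (fun a ha => hA2 a (hFA ha))
  have hFQ : F ≤ Subgroup.normalizer (Q : Set Γ) := by
    intro g hg
    rw [Subgroup.mem_normalizer_iff]
    intro x
    constructor
    · exact hAQ g (hFA hg) x
    · intro h
      have := hAQ g⁻¹ (A.inv_mem (hFA hg)) _ h
      have h2 : g⁻¹ * (g * x * g⁻¹) * g⁻¹⁻¹ = x := by group
      rw [h2] at this
      exact this
  have hcop : (Nat.card F).Coprime (Nat.card Q) := by
    obtain ⟨k, hk⟩ := IsPGroup.iff_card.mp hFp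
    rw [hk]
    apply Nat.Coprime.pow_left
    exact Nat.coprime_two_left.mpr hQodd
  have hQstab : Q ≤ stabS (Γ := Γ) (fixSub (V := V) F) := by
    by_contra hcon
    obtain ⟨F₀, hF₀F, hrel, hnle⟩ :=
      Cfsg.Agent.Lib.Helper8.exists_index_p_centralizer_not_le 2 F Q _ hFea hFne hFQ hcop hcon
    apply hnle
    rintro x ⟨-, hxc⟩
    obtain ⟨n, hn⟩ : ∃ n, Nat.card Γ = n + 1 := Nat.exists_eq_succ_of_ne_zero Nat.card_pos.ne'
    apply mem_stabS_of_pow _ x n (by rw [← hn]; exact pow_card_eq_one')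
    intro v hv
    rw [← hhyp F₀ hF₀F hrel] at hv ⊢
    intro g hg
    have hgx : g * x = x * g := (Subgroup.mem_centralizer_iff.mp hxc) g hg
    rw [← mul_smul, hgx, mul_smul, hv g hg]
  -- `R = [Q, F]`
  obtain ⟨R, hR⟩ : ∃ R : Subgroup Γ, R = Subgroup.closure {w | ∃ x ∈ Q, ∃ g ∈ F, w = x⁻¹ * (g * x * g⁻¹)} :=
    ⟨_, rfl⟩
  have hRQ : R ≤ Q := by
    rw [hR, Subgroup.closure_le]
    rintro w ⟨x, hx, g, hg, rfl⟩
    exact Q.mul_mem (Q.inv_mem hx) (hAQ g (hFA hg) x hx)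
  have hRfix : R ≤ fixingS (Γ := Γ) (fixSub (V := V) F) := by
    rw [hR, Subgroup.closure_le]
    rintro w ⟨x, hx, g, hg, rfl⟩
    intro u hu
    have h1 : g⁻¹ • u = u := hu g⁻¹ (F.inv_mem hg)
    have h2 : x • u ∈ fixSub (V := V) F := ((hQstab hx) u).mpr hu
    have h3 : g • (x • u) = x • u := h2 g hg
    rw [mul_smul, mul_smul, mul_smul, h1, h3, ← mul_smul, inv_mul_cancel, one_smul]
  have hRinv : ∀ g ∈ F, ∀ x ∈ R, g * x * g⁻¹ ∈ R := by
    intro h hh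
    have hle : R ≤ R.comap (MulAut.conj h).toMonoidHom := by
      nth_rewrite 1 [hR]
      rw [Subgroup.closure_le]
      rintro w ⟨x, hx, g, hg, rfl⟩
      show (MulAut.conj h) (x⁻¹ * (g * x * g⁻¹)) ∈ R
      rw [MulAut.conj_apply, hR]
      apply Subgroup.subset_closure
      refine ⟨h * x * h⁻¹, hAQ h (hFA hh) x hx, g, hg, ?_⟩
      have hgh : h * g = g * h := hAab h (hFA hh) g (hFA hg)
      have e1 : h * (x⁻¹ * (g * x * g⁻¹)) * h⁻¹ = (h * x * h⁻¹)⁻¹ * ((h * g) * x * (h * g)⁻¹) := by group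
      have e2 : g * (h * x * h⁻¹) * g⁻¹ = (g * h) * x * (g * h)⁻¹ := by group
      rw [e1, e2, hgh]
    intro x hx
    have := hle hx
    rw [Subgroup.mem_comap] at this
    simpa [MulAut.conj_apply] using this
  have hr₀R : r₀ ∈ R := by
    rw [hR]
    apply Subgroup.subset_closure
    exact ⟨y, hyQ, f, hfF, hr₀⟩
  have hRodd : Odd (Nat.card R) := hQodd.of_dvd_nat (Subgroup.card_dvd_of_le hRQ)
  -- `W = [V, R]`
  obtain ⟨v₀, hv₀⟩ : ∃ v : V, r₀ • v ≠ v := by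
    by_contra hcon
    push Not at hcon
    exact hr₀1 (hfaith r₀ hcon)
  have hWne : commSub (V := V) R ≠ ⊥ := by
    intro h
    have : v₀⁻¹ * r₀ • v₀ ∈ commSub (V := V) R := by
      apply Subgroup.subset_closure
      exact ⟨r₀, hr₀R, v₀, rfl⟩
    rw [h, Subgroup.mem_bot, inv_mul_eq_one] at this
    exact hv₀ this.symm
  have hVp : IsPGroup 2 V := fun v => ⟨1, by rw [pow_one]; exact hV2 v⟩
  have h2dvd : 2 ∣ Nat.card (commSub (V := V) R) := by
    rcases (hVp.to_subgroup (commSub (V := V) R)).card_eq_or_dvd with h | h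
    · exact absurd (Subgroup.card_eq_one.mp h) hWne
    · exact h
  obtain ⟨w, hw, hw1, hwfix⟩ := exists_fixed_ne_one F hFp (commSub (V := V) R)
    (fun g hg w hw => smul_mem_commSub R g (hRinv g hg) hw) h2dvd
  apply hw1
  exact eq_one_of_mem_commSub_of_fixed hVc hV2 R hRodd hw (fun x hx => hRfix hx w hwfix)

/-- **offenders give an `S₃`-configuration**; here `Q` is any group of odd order -/
theorem exists_S3_config' [Finite Γ] (hfaith : ∀ g : Γ, (∀ v : V, g • v = v) → g = 1)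
    (hVc : ∀ a b : V, a * b = b * a) (hV2 : ∀ v : V, v ^ 2 = 1)
    (Q : Subgroup Γ) (hQodd : Odd (Nat.card Q))
    (A : Subgroup Γ) (hAQ : ∀ a ∈ A, ∀ x ∈ Q, a * x * a⁻¹ ∈ Q)
    (hAab : ∀ a ∈ A, ∀ b ∈ A, a * b = b * a) (hA2 : ∀ a ∈ A, a ^ 2 = 1)
    (hAfaith : ∀ a ∈ A, (∀ x ∈ Q, a * x * a⁻¹ = x) → a = 1) (hAne : A ≠ ⊥)
    (hoff : Nat.card V ≤ Nat.card A * Nat.card (fixSub (V := V) A)) :
    ∃ (r f : Γ) (V₁ : Subgroup V), r ∈ Q ∧ f ∈ A ∧ orderOf r = 3 ∧ f ≠ 1 ∧ f ^ 2 = 1 ∧ f * r * f⁻¹ = r⁻¹ ∧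
      Nat.card V₁ = 4 ∧ (∀ v ∈ V₁, r • v ∈ V₁) ∧ (∀ v ∈ V₁, f • v ∈ V₁) ∧
      (∀ v ∈ V₁, r • v = v → v = 1) := by
  obtain ⟨r, f, q, hrQ, hfA, hqp, hqodd, hrq, hf1, hfr, htr⟩ :=
    exists_transvection' hfaith hVc hV2 Q hQodd A hAQ hAab hA2 hAfaith hAne hoff
  have hrV : ∃ v : V, r • v ≠ v := by
    by_contra hcon
    push Not at hcon
    have := hfaith r hcon
    rw [this, orderOf_one] at hrq
    exact hqp.one_lt.ne hrq
  obtain ⟨h3, V₁, h4, hr, hf, hfpf⟩ :=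
    S3_of_transvection hVc hV2 r f q hqp hqodd hrq hrV (hA2 f hfA) hfr htr
  exact ⟨r, f, V₁, hrQ, hfA, h3, hf1, hA2 f hfA, hfr, h4, hr, hf, hfpf⟩

end main2

section core2
universe u
variable {Y : Type u} [Group Y] [Finite Y]

open Cfsg.Agent.Lib.Helper27 in
/-- **the `S₄`-section** from an offender `A` acting faithfully on a subgroup `Qb` of odd order of `Y ⧸ B` -/
theorem involves_perm4_core' (B : Subgroup Y) [hBn : B.Normal] (hBp : IsPGroup 2 B)
    (hCV : Subgroup.centralizer (omZ 2 B : Set Y) ≤ B)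
    (A : Subgroup Y) (hAab : AbSub A) (hA2 : ∀ a ∈ A, a ^ 2 ∈ B) (hAB : ¬ A ≤ B)
    (hoff : Nat.card (A ⊓ B : Subgroup Y) * Nat.card ↥(omZ 2 B) ≤ Nat.card A * Nat.card (A ⊓ omZ 2 B : Subgroup Y))
    (Qb : Subgroup (Y ⧸ B)) (hQbodd : Odd (Nat.card Qb))
    (hAQ : ∀ a ∈ A.map (QuotientGroup.mk' B), ∀ x ∈ Qb, a * x * a⁻¹ ∈ Qb)
    (hAfaith : ∀ a ∈ A.map (QuotientGroup.mk' B), (∀ x ∈ Qb, a * x * a⁻¹ = x) → a = 1) :
    Cfsg.Involves (Equiv.Perm (Fin 4)) Y := by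
  have h2f : Fact (Nat.Prime 2) := ⟨Nat.prime_two⟩
  have hVn : (omZ 2 B).Normal := omZ_normal 2 B
  have hVB : omZ 2 B ≤ B := omZ_le 2 B
  have hVab : AbSub (omZ 2 B) := omZ_abSub 2 B
  have hBV : B ≤ Subgroup.centralizer (omZ 2 B : Set Y) := le_centralizer_omZ 2 B
  let _ := quotMDMA B
  have hsmul : ∀ (y : Y) (v : ↥(omZ 2 B)), (((QuotientGroup.mk' B y) • v : ↥(omZ 2 B)) : Y) = y * v * y⁻¹ :=
    fun y v => quot_smul_mk B y v
  have hmk : Function.Surjective (QuotientGroup.mk' B) := QuotientGroup.mk'_surjective B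
  -- faithful
  have hfaith : ∀ g : Y ⧸ B, (∀ v : ↥(omZ 2 B), g • v = v) → g = 1 := by
    intro g hg
    obtain ⟨y, rfl⟩ := hmk g
    have hyC : y ∈ Subgroup.centralizer (omZ 2 B : Set Y) := by
      refine Subgroup.mem_centralizer_iff.mpr ?_
      intro v hv
      have := congrArg Subtype.val (hg ⟨v, hv⟩)
      rw [hsmul] at this
      calc v * y = (y * v * y⁻¹) * y := by rw [this]
        _ = y * v := by group
    exact (QuotientGroup.eq_one_iff y).mpr (hCV hyC)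
  have hVc : ∀ a b : ↥(omZ 2 B), a * b = b * a := fun a b => Subtype.ext (hVab a.1 a.2 b.1 b.2)
  have hV2 : ∀ v : ↥(omZ 2 B), v ^ 2 = 1 := fun v => Subtype.ext (by simpa using v.2.2.2)
  -- the image of `A`
  obtain ⟨Ab, hAb⟩ : ∃ Ab, Ab = A.map (QuotientGroup.mk' B) := ⟨_, rfl⟩
  rw [← hAb] at hAQ hAfaith
  have hAbab : ∀ a ∈ Ab, ∀ b ∈ Ab, a * b = b * a := by
    rw [hAb]
    rintro _ ⟨a, ha, rfl⟩ _ ⟨b, hb, rfl⟩
    rw [← map_mul, ← map_mul, hAab a ha b hb]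
  have hAb2 : ∀ a ∈ Ab, a ^ 2 = 1 := by
    rw [hAb]
    rintro _ ⟨a, ha, rfl⟩
    rw [← map_pow]
    exact (QuotientGroup.eq_one_iff _).mpr (hA2 a ha)
  have hAne : Ab ≠ ⊥ := by
    intro h
    apply hAB
    intro a ha
    have : (QuotientGroup.mk' B) a ∈ Ab := by rw [hAb]; exact ⟨a, ha, rfl⟩
    rw [h, Subgroup.mem_bot] at this
    exact (QuotientGroup.eq_one_iff a).mp this
  -- the offender inequality in the quotient
  have hcardAb : Nat.card Ab * Nat.card (A ⊓ B : Subgroup Y) = Nat.card A := by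
    have h1 := Subgroup.relIndex_ker (QuotientGroup.mk' B) (K := A)
    rw [QuotientGroup.ker_mk'] at h1
    rw [hAb, ← h1]
    exact relIndex_mul_card_inf A B
  have hfixle : Nat.card (A ⊓ omZ 2 B : Subgroup Y) ≤ Nat.card (fixSub (V := ↥(omZ 2 B)) Ab) := by
    have h1 : Nat.card (A ⊓ omZ 2 B : Subgroup Y) = Nat.card ((A ⊓ omZ 2 B).subgroupOf (omZ 2 B)) :=
      (card_subgroupOf_le inf_le_right).symm
    rw [h1]
    apply Subgroup.card_le_of_le
    intro v hv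
    rw [Subgroup.mem_subgroupOf] at hv
    rw [mem_fixSub, hAb]
    rintro _ ⟨a, ha, rfl⟩
    apply Subtype.ext
    rw [hsmul]
    have := hAab a ha v.1 hv.1
    rw [this]; group
  have hoff' : Nat.card ↥(omZ 2 B) ≤ Nat.card Ab * Nat.card (fixSub (V := ↥(omZ 2 B)) Ab) := by
    have hpos : 0 < Nat.card (A ⊓ B : Subgroup Y) := Nat.card_pos
    have h1 : Nat.card (A ⊓ B : Subgroup Y) * Nat.card ↥(omZ 2 B) ≤
        Nat.card (A ⊓ B : Subgroup Y) * (Nat.card Ab * Nat.card (fixSub (V := ↥(omZ 2 B)) Ab)) := by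
      calc Nat.card (A ⊓ B : Subgroup Y) * Nat.card ↥(omZ 2 B)
          ≤ Nat.card A * Nat.card (A ⊓ omZ 2 B : Subgroup Y) := hoff
        _ = Nat.card (A ⊓ B : Subgroup Y) * (Nat.card Ab * Nat.card (A ⊓ omZ 2 B : Subgroup Y)) := by
            rw [← hcardAb]; ring
        _ ≤ Nat.card (A ⊓ B : Subgroup Y) * (Nat.card Ab * Nat.card (fixSub (V := ↥(omZ 2 B)) Ab)) :=
            Nat.mul_le_mul_left _ (Nat.mul_le_mul_left _ hfixle)
    exact Nat.le_of_mul_le_mul_left h1 hpos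
  obtain ⟨r, f, V₁', hrNb, hfAb, hr3, hf1, hf2, hfr, hV₁'4, hrV₁', hfV₁', hfpf⟩ :=
    exists_S3_config' hfaith hVc hV2 Qb hQbodd Ab hAQ hAbab hAb2 hAfaith hAne hoff'
  -- the subgroup `⟨r, f⟩` of order `6` and its preimage
  obtain ⟨hKb6, hcoe⟩ := card_sup_zpowers_eq_six r f hr3 hf2 hf1 hfr
  obtain ⟨Kb, hKb⟩ : ∃ Kb, Kb = Subgroup.zpowers r ⊔ Subgroup.zpowers f := ⟨_, rfl⟩
  rw [← hKb] at hKb6 hcoe
  obtain ⟨K, hK⟩ : ∃ K, K = Kb.comap (QuotientGroup.mk' B) := ⟨_, rfl⟩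
  have hKmap : K.map (QuotientGroup.mk' B) = Kb := by
    rw [hK]; exact Subgroup.map_comap_eq_self_of_surjective hmk Kb
  have hBK : B ≤ K := by
    rw [hK]
    intro b hb
    rw [Subgroup.mem_comap]
    have : (QuotientGroup.mk' B) b = 1 := (QuotientGroup.eq_one_iff b).mpr hb
    rw [this]; exact Kb.one_mem
  have hrelBK : B.relIndex K = 6 := by
    have := Subgroup.relIndex_ker (QuotientGroup.mk' B) (K := K)
    rw [QuotientGroup.ker_mk', hKmap, hKb6] at this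
    exact this
  -- `V₁` inside `Y`
  obtain ⟨V₁, hV₁⟩ : ∃ V₁, V₁ = V₁'.map (omZ 2 B).subtype := ⟨_, rfl⟩
  have hV₁4 : Nat.card V₁ = 4 := by
    rw [hV₁, Subgroup.card_map_of_injective (Subgroup.subtype_injective _), hV₁'4]
  have hV₁V : V₁ ≤ omZ 2 B := by rw [hV₁]; exact Subgroup.map_subtype_le V₁'
  have hV₁K : V₁ ≤ K := hV₁V.trans (hVB.trans hBK)
  have hr3' : r ^ 3 = 1 := by rw [← hr3]; exact pow_orderOf_eq_one r
  have hKbstab : Kb ≤ stabS (Γ := Y ⧸ B) V₁' := by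
    rw [hKb]
    apply sup_le
    · rw [Subgroup.zpowers_le]
      exact mem_stabS_of_pow V₁' r 2 hr3' hrV₁'
    · rw [Subgroup.zpowers_le]
      exact mem_stabS_of_pow V₁' f 1 hf2 hfV₁'
  have hKconj : ∀ k ∈ K, ∀ v ∈ V₁, k * v * k⁻¹ ∈ V₁ := by
    intro k hk v hv
    rw [hV₁] at hv ⊢
    obtain ⟨v', hv', rfl⟩ := hv
    have hkKb : (QuotientGroup.mk' B) k ∈ Kb := by rw [hK] at hk; exact hk
    have := ((hKbstab hkKb) v').mpr hv'
    refine ⟨_, this, ?_⟩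
    show (((QuotientGroup.mk' B k) • v' : ↥(omZ 2 B)) : Y) = _
    rw [hsmul]
    rfl
  have hKN : K ≤ Subgroup.normalizer (V₁ : Set Y) := by
    intro k hk
    rw [Subgroup.mem_normalizer_iff]
    intro v
    constructor
    · exact hKconj k hk v
    · intro h
      have := hKconj k⁻¹ (K.inv_mem hk) _ h
      have h2 : k⁻¹ * (k * v * k⁻¹) * k⁻¹⁻¹ = v := by group
      rw [h2] at this
      exact this
  -- faithfulness modulo `B`
  have hcentK : ∀ k ∈ K, (∀ v ∈ V₁, v * k = k * v) → k ∈ B := by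
    intro k hk hkc
    have hkKb : (QuotientGroup.mk' B) k ∈ Kb := by rw [hK] at hk; exact hk
    rw [hKb] at hkKb
    rw [hKb] at hcoe
    have := eq_one_of_mem_sup_of_fixing r f hr3 hf2 hf1 hfr V₁' hV₁'4 hrV₁' hfpf hcoe _ hkKb (by
      intro v' hv'
      apply Subtype.ext
      rw [hsmul]
      have hvV₁ : (v' : Y) ∈ V₁ := by rw [hV₁]; exact ⟨v', hv', rfl⟩
      rw [← hkc _ hvV₁]; group)
    exact (QuotientGroup.eq_one_iff k).mp this
  -- apply the `S₄`-criterion inside `K`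
  have hBn' : (B.subgroupOf K).Normal := hBn.subgroupOf K
  have hV₁n' : (V₁.subgroupOf K).Normal := (Subgroup.normal_subgroupOf_iff_le_normalizer hV₁K).mpr hKN
  have hB2' : IsPGroup 2 (B.subgroupOf K) := hBp.comap_of_injective _ (Subgroup.subtype_injective _)
  have hBidx' : (B.subgroupOf K).index = 6 := hrelBK
  have hV4' : Nat.card (V₁.subgroupOf K) = 4 := by rw [card_subgroupOf_le hV₁K, hV₁4]
  have hcent' : Subgroup.centralizer ((V₁.subgroupOf K : Subgroup K) : Set K) ≤ B.subgroupOf K := by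
    intro k hk
    rw [Subgroup.mem_subgroupOf]
    apply hcentK k.1 k.2
    intro v hv
    have := (Subgroup.mem_centralizer_iff.mp hk) ⟨v, hV₁K hv⟩ (Subgroup.mem_subgroupOf.mpr hv)
    exact congrArg Subtype.val this
  have hinv := involves_perm4_of_config (B.subgroupOf K) (V₁.subgroupOf K) hB2' hBidx' hV4' hcent'
  exact Cfsg.Agent.Lib.Helper27.involves_of_injective K.subtype (Subgroup.subtype_injective K) hinv

end core2

end Cfsg.Agent.Lib.Helper8.ThTwo
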