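/-
helper8: S4885 + S4886 leaf (CI) `classInner_resFun_ne_zero_of_over`: transitivity of "lying over".
-/
import Mathlib
import Cfsg.Prelude.Def_Blocks
import Cfsg.Agent.Lib.Helper6.Clifford
import Cfsg.Agent.Lib.Helper6.CharExtra
import Cfsg.Agent.Lib.Lead.CharEquiv
import Cfsg.Agent.Lib.Lead.CharOrtho

set_option autoImplicit false

namespace Cfsg.Agent.Lib.Helper8.TP

open Cfsg Cfsg.Agent.CharLib Cfsg.Agent.Lib.Helper6
open scoped ComplexConjugate

universe u

/-- `classInner` is invariant under transport along a group isomorphism. -/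
theorem classInner_comp_mulEquiv {A B : Type u} [Group A] [Group B] [Fintype A] [Fintype B]
    (e : A ≃* B) (f g : B → ℂ) :
    classInner (fun a => f (e a)) (fun a => g (e a)) = classInner f g := by
  unfold classInner
  rw [Nat.card_congr e.toEquiv]
  congr 1
  exact Fintype.sum_equiv e.toEquiv _ _ (fun a => rfl)

variable {H : Type u} [Group H]

/-- (CI), with arbitrary `Fintype` instances. -/
theorem classInner_resFun_ne_zero_of_over_aux [Finite H] (V P : Subgroup H) [Fintype V] [Fintype P]
    (hVP : V ≤ P) (χ : IrrCharacter H) (μ : IrrCharacter P) (lam : IrrCharacter V)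
    (h1 : classInner (resFun P (χ : H → ℂ)) (μ : P → ℂ) ≠ 0)
    (h2 : ∀ v : V, (μ : P → ℂ) ⟨(v : H), hVP v.2⟩ = (lam : V → ℂ) v) :
    classInner (resFun V (χ : H → ℂ)) (lam : V → ℂ) ≠ 0 := by
  classical
  let _ : Fintype (V.subgroupOf P) := Fintype.ofFinite _
  have : Finite (IrrCharacter P) := inferInstance
  let _ : Fintype (IrrCharacter P) := Fintype.ofFinite _
  let e : V.subgroupOf P ≃* V := Subgroup.subgroupOfEquivOfLe hVP
  -- transport to `V.subgroupOf P`
  have ht : classInner (resFun V (χ : H → ℂ)) (lam : V → ℂ) =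
      classInner (resFun (V.subgroupOf P) (resFun P (χ : H → ℂ)))
        (resFun (V.subgroupOf P) (μ : P → ℂ)) := by
    rw [← classInner_comp_mulEquiv e]
    congr 1
    funext w
    rw [resFun_apply]
    have := h2 (e w)
    rw [← this]
    rfl
  rw [ht]
  have hχc : IsCharacter H (χ : H → ℂ) := IsIrrCharacter.isCharacter χ.2
  have hΦ : IsCharacter P (resFun P (χ : H → ℂ)) := isCharacter_resFun P hχc
  obtain ⟨m, hm, hmψ⟩ := IsCharacter.exists_decomp_sum hΦ
  have hθ : IsCharacter (V.subgroupOf P) (resFun (V.subgroupOf P) (μ : P → ℂ)) :=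
    isCharacter_resFun _ (IsIrrCharacter.isCharacter μ.2)
  choose k hk using fun ψ : IrrCharacter P =>
    IsCharacter.classInner_nat
      (isCharacter_resFun (V.subgroupOf P) (IsIrrCharacter.isCharacter ψ.2)) hθ
  have hsum : classInner (resFun (V.subgroupOf P) (resFun P (χ : H → ℂ)))
      (resFun (V.subgroupOf P) (μ : P → ℂ)) = ((∑ ψ : IrrCharacter P, m ψ * k ψ : ℕ) : ℂ) := by
    conv_lhs => rw [hm]
    rw [map_sum, classInner_sum_left, Nat.cast_sum]
    apply Finset.sum_congr rfl
    intro ψ _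
    rw [← Nat.cast_smul_eq_nsmul ℂ, map_smul, classInner_smul_left, hk ψ, Nat.cast_mul]
  rw [hsum]
  have hm0 : m μ ≠ 0 := by
    intro h0
    apply h1
    have := hmψ μ
    rw [h0, Nat.cast_zero] at this
    exact this
  have hk0 : k μ = 1 := by
    have h3 := hk μ
    have h4 : resFun (V.subgroupOf P) (μ : P → ℂ) = fun w => (lam : V → ℂ) (e w) := by
      funext w
      rw [resFun_apply]
      have := h2 (e w)
      rw [← this]
      rfl
    rw [h4, classInner_comp_mulEquiv e, classInner_irr lam.2 lam.2, if_pos rfl] at h3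
    exact_mod_cast h3.symm
  have hpos : 0 < ∑ ψ : IrrCharacter P, m ψ * k ψ := by
    apply Finset.sum_pos'
    · intro ψ _; exact Nat.zero_le _
    · refine ⟨μ, Finset.mem_univ _, ?_⟩
      rw [hk0, mul_one]
      exact Nat.pos_of_ne_zero hm0
  exact_mod_cast hpos.ne'

variable [Finite H]

/-- (CI) transitivity of "lying over". -/
theorem classInner_resFun_ne_zero_of_over (V P : Subgroup H) (hVP : V ≤ P) (χ : IrrCharacter H)
    (μ : IrrCharacter P) (lam : IrrCharacter V)
    (h1 : haveI := Fintype.ofFinite P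
      classInner (resFun P (χ : H → ℂ)) (μ : P → ℂ) ≠ 0)
    (h2 : ∀ v : V, (μ : P → ℂ) ⟨(v : H), hVP v.2⟩ = (lam : V → ℂ) v) :
    haveI := Fintype.ofFinite V
    classInner (resFun V (χ : H → ℂ)) (lam : V → ℂ) ≠ 0 := by
  let _ := Fintype.ofFinite V
  let _ := Fintype.ofFinite P
  exact classInner_resFun_ne_zero_of_over_aux V P hVP χ μ lam h1 h2

end Cfsg.Agent.Lib.Helper8.TP
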