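import Mathlib
import Cfsg.Agent.Lib.Helper5.TWU.Defs
import Cfsg.Agent.Lib.Helper14.TWIIDefs
import Cfsg.Agent.Lib.Helper19.TWU3Defs
import Cfsg.Agent.Lib.Helper28.TWU2ADefs
import Cfsg.Agent.Lib.Helper26.TWU2AL3a
import Cfsg.Agent.Lib.Helper5.UForm
import Cfsg.Agent.Lib.Helper19.TWU3Tool
import Cfsg.Agent.Lib.Helper1.TWUIUT8
import Cfsg.Agent.Lib.Helper26.TWFibA
import Cfsg.Agent.Lib.Helper16.TWRootB
import Cfsg.Agent.Lib.Helper23.TWUT3

/-!
# S5672 Stage II case A (sub-planner helper28), leaf L4 `lemmaAU_q2` (helper8)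

Lemma A_U for `q = 2` (`k ≥ 4`).  THREE STEPS, no torus / Weyl element / Witt transitivity / five-point relation:
`N_a = a a†`, `u_a = 1 + N_a ∈ SU(A)` (`a` isotropic, `q = 2`), `D_a X = u_a X u_a⁻¹ - X`.
(1) not trivial at `l` ⟹ a block `M` is not scalar ⟹ (`scalar_of_cone`) isotropic independent `y ⊥ z` with `z†My ≠ 0`;
(2) `E := D_z D_y Ψ = -(n_z Ψ n_y + n_y Ψ n_z)`;
(3) `z'` isotropic, `z' ⊥ y`, `hv z z' = 1`; the unitary transvection `τ = 1 + K`, `K = β y z'† - β^q z' y†`;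
`(Ad τ - 1) E = -(β (y z†) Ψ N_y + β^q N_y Ψ (z y†))`, a pure `N_y`-weight with coefficient `-(β z†My + β^q y†Mz)`.
-/

set_option autoImplicit false
set_option linter.unusedSectionVars false
set_option linter.unusedVariables false
set_option linter.unusedSimpArgs false

namespace Cfsg.Agent.Lib.Helper8.TWU2ALeaf
open Matrix Cfsg.Geo Cfsg.Agent.Lib.Helper18.AschA89 Cfsg.Agent.Lib.Helper8.TW
open Cfsg.Agent.Lib.Helper5.TWU Cfsg.Agent.Lib.Helper19.TWU3 Cfsg.Agent.Lib.Helper28.TWU2A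
open Cfsg.Agent.Lib.Helper20.UT (hv)
open Cfsg.Agent.Lib.Helper23.TWUT (adjM)
open Cfsg.Agent.Lib.Helper19.TWU3Leaf (vv_mul_vv adjM_vv vv_mulVec)

variable {F : Type*} [Field F] [Fintype F] {t k q : ℕ}

/-! ### entries of products with `slot` -/

lemma slot_mul_apply8 (l : Fin t) (A : Matrix (Fin k) (Fin k) F) (Ψ : Matrix (Idx t k) (Idx t k) F) (x x' : Idx t k) :
    (slot k t l A * Ψ) x x' = ∑ e, A (x l) e * Ψ (Function.update x l e) x' := by
  classical
  rw [Matrix.mul_apply]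
  calc ∑ z, slot k t l A x z * Ψ z x'
      = ∑ z : Idx t k, if (∀ j, j ≠ l → x j = z j) then A (x l) (z l) * Ψ z x' else 0 := by
        apply Finset.sum_congr rfl
        intro z _
        rw [slot_apply]
        split_ifs <;> simp
    _ = ∑ e, A (x l) (Function.update x l e l) * Ψ (Function.update x l e) x' :=
        Cfsg.Agent.Lib.Helper26.TWLeaf.sum_line26 l x (fun z => A (x l) (z l) * Ψ z x')
    _ = ∑ e, A (x l) e * Ψ (Function.update x l e) x' := by
        simp only [Function.update_self]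

lemma mul_slot_apply8 (l : Fin t) (B : Matrix (Fin k) (Fin k) F) (Ψ : Matrix (Idx t k) (Idx t k) F) (x x' : Idx t k) :
    (Ψ * slot k t l B) x x' = ∑ f, Ψ x (Function.update x' l f) * B f (x' l) := by
  classical
  rw [Matrix.mul_apply]
  calc ∑ z, Ψ x z * slot k t l B z x'
      = ∑ z : Idx t k, if (∀ j, j ≠ l → x' j = z j) then Ψ x z * B (z l) (x' l) else 0 := by
        apply Finset.sum_congr rfl
        intro z _
        rw [slot_apply]
        by_cases h : ∀ j, j ≠ l → z j = x' j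
        · rw [if_pos h, if_pos (fun j hj => (h j hj).symm)]
        · rw [if_neg h, if_neg (fun h' => h (fun j hj => (h' j hj).symm)), mul_zero]
    _ = ∑ f, Ψ x (Function.update x' l f) * B (Function.update x' l f l) (x' l) :=
        Cfsg.Agent.Lib.Helper26.TWLeaf.sum_line26 l x' (fun z => Ψ x z * B (z l) (x' l))
    _ = ∑ f, Ψ x (Function.update x' l f) * B f (x' l) := by
        simp only [Function.update_self]

/-- the block contraction `b† Ψ c` at position `l` -/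
def ctrB (q : ℕ) (l : Fin t) (b c : Fin k → F) (Ψ : Matrix (Idx t k) (Idx t k) F) (x x' : Idx t k) : F :=
  ∑ e, ∑ f, (b e) ^ q * Ψ (Function.update x l e) (Function.update x' l f) * c f

lemma ctrB_update (l : Fin t) (b c : Fin k → F) (Ψ : Matrix (Idx t k) (Idx t k) F) (x x' : Idx t k) (a a' : Fin k) :
    ctrB q l b c Ψ (Function.update x l a) (Function.update x' l a') = ctrB q l b c Ψ x x' := by
  unfold ctrB
  simp only [Function.update_idem]

/-- the 4-vector version of L3b -/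
theorem slot_vv_entry (l : Fin t) (a b c d : Fin k → F) (Ψ : Matrix (Idx t k) (Idx t k) F) (x x' : Idx t k) :
    (slot k t l (vv q a b) * Ψ * slot k t l (vv q c d)) x x' =
      a (x l) * (d (x' l)) ^ q * ctrB q l b c Ψ x x' := by
  unfold ctrB
  rw [mul_slot_apply8]
  simp only [slot_mul_apply8, vv_apply]
  rw [Finset.sum_comm, Finset.mul_sum]
  apply Finset.sum_congr rfl
  intro e _
  rw [Finset.mul_sum, Finset.sum_mul]
  apply Finset.sum_congr rfl
  intro f _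
  ring

/-! ### elements of `SU(A)` -/

lemma adjM_add8 {κ : Type} (hF : Fintype.card F = q ^ 2) (A B : Matrix κ κ F) :
    adjM q (A + B) = adjM q A + adjM q B := by
  ext a b
  simp only [Cfsg.Agent.Lib.Helper23.TWUT.adjM_apply, Matrix.add_apply]
  exact Cfsg.Agent.Lib.Helper20.UT.add_pow_q hF _ _

lemma adjM_neg8 {κ : Type} (hF : Fintype.card F = q ^ 2) (A : Matrix κ κ F) :
    adjM q (-A) = -adjM q A := by
  ext a b
  simp only [Cfsg.Agent.Lib.Helper23.TWUT.adjM_apply, Matrix.neg_apply]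
  exact Cfsg.Agent.Lib.Helper20.UT.neg_pow_q hF _

/-- `1 + K` with `K² = 0`, `K† = -K`, `det (1 + K) = 1` lies in `SU(A)` -/
theorem isSUA_unip (hF : Fintype.card F = q ^ 2) (K : Matrix (Fin k) (Fin k) F) (hK : K * K = 0)
    (hadj : adjM q K = -K) (hdet : (1 + K).det = 1) : IsSUA q (unip K hK) := by
  refine ⟨?_, hdet⟩
  rw [unip_val, Cfsg.Agent.Lib.Helper23.TWUT.isom_iff_adjM hF, adjM_add8 hF,
    Cfsg.Agent.Lib.Helper23.TWUT.adjM_one (Cfsg.Agent.Lib.Helper23.TWUT.q_ne_zero hF), hadj]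
  rw [add_mul, mul_add, mul_add, one_mul, mul_one, neg_mul, hK]
  simp

lemma vv_eq_vecMulVec {κ : Type} (s w : κ → F) : vv q s w = Matrix.vecMulVec s (dag q w) := rfl

lemma det_one_add_smul_vv (s w : Fin k → F) (h : hv q s w = 0) (c : F) : (1 + c • vv q s w).det = 1 := by
  rw [vv_eq_vecMulVec]
  apply Cfsg.Agent.Lib.Helper16.TWLeaf.det_one_add_vmv
  rw [← Cfsg.Agent.Lib.Helper20.UT.hv_eq_dot]
  exact h

/-- the root element `1 + a a†` (`a` isotropic) in characteristic 2 -/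
theorem isSUA_root (hF : Fintype.card F = q ^ 2) (h2 : (2 : F) = 0) (a : Fin k → F) (ha : hv q a a = 0)
    (hN : vv q a a * vv q a a = 0) : IsSUA q (unip (vv q a a) hN) := by
  apply isSUA_unip hF
  · rw [adjM_vv hF]
    rw [eq_neg_iff_add_eq_zero, ← two_smul F (vv q a a), h2, zero_smul]
  · have := det_one_add_smul_vv (q := q) a a ha 1
    rw [one_smul] at this
    exact this

lemma vv_sq_zero (a : Fin k → F) (ha : hv q a a = 0) : vv q a a * vv q a a = 0 := by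
  rw [vv_mul_vv, ha, zero_smul]

/-- the matrix `K = β y z'† - β^q z' y†` of the unitary transvection along the t.i. line `⟨y, z'⟩` -/
def Ktv (q : ℕ) (β : F) (y z' : Fin k → F) : Matrix (Fin k) (Fin k) F := β • vv q y z' - β ^ q • vv q z' y

lemma Ktv_sq (β : F) (y z' : Fin k → F) (hy : hv q y y = 0) (hz' : hv q z' z' = 0) (hyz' : hv q y z' = 0)
    (hz'y : hv q z' y = 0) : Ktv q β y z' * Ktv q β y z' = 0 := by
  unfold Ktv
  simp only [sub_mul, mul_sub, Matrix.smul_mul, Matrix.mul_smul, vv_mul_vv, hy, hz', hyz', hz'y, zero_smul,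
    smul_zero, sub_zero]

theorem isSUA_Ktv (hF : Fintype.card F = q ^ 2) (β : F) (y z' : Fin k → F) (hy : hv q y y = 0)
    (hz' : hv q z' z' = 0) (hyz' : hv q y z' = 0) (hz'y : hv q z' y = 0)
    (hK : Ktv q β y z' * Ktv q β y z' = 0) : IsSUA q (unip (Ktv q β y z') hK) := by
  apply isSUA_unip hF
  · unfold Ktv
    rw [sub_eq_add_neg, adjM_add8 hF, adjM_neg8 hF, Cfsg.Agent.Lib.Helper23.TWUT.adjM_smul,
      Cfsg.Agent.Lib.Helper23.TWUT.adjM_smul, adjM_vv hF, adjM_vv hF, Cfsg.Agent.Lib.Helper20.UT.pow_q_pow_q' hF]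
    abel
  · have e : (1 + Ktv q β y z' : Matrix (Fin k) (Fin k) F) = (1 + β • vv q y z') * (1 + (-(β ^ q)) • vv q z' y) := by
      unfold Ktv
      rw [add_mul, mul_add, mul_add, one_mul, one_mul, mul_one, Matrix.smul_mul, Matrix.mul_smul, vv_mul_vv, hz',
        zero_smul, smul_zero, smul_zero, add_zero, neg_smul]
      abel
    rw [e, Matrix.det_mul, det_one_add_smul_vv y z' hyz', det_one_add_smul_vv z' y hz'y, mul_one]

/-! ### the algebraic identity -/

/-- `(Ad(1+κ) - 1)(Ad(1+n_z) - 1)(Ad(1+n_y) - 1) Ψ = -A Ψ n_y + n_y Ψ B` when `n_y n_z = n_z n_y = κ n_y = n_y κ = 0`,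
`κ n_z = A`, `n_z κ = B` -/
theorem triple_comm {R : Type*} [Ring R] (ny nz κ A B Ψ : R) (hyz : ny * nz = 0) (hzy : nz * ny = 0)
    (hκy : κ * ny = 0) (hyκ : ny * κ = 0) (hκz : κ * nz = A) (hzκ : nz * κ = B) :
    (1 + κ) * ((1 + nz) * ((1 + ny) * Ψ * (1 - ny) - Ψ) * (1 - nz) - ((1 + ny) * Ψ * (1 - ny) - Ψ)) * (1 - κ) -
      ((1 + nz) * ((1 + ny) * Ψ * (1 - ny) - Ψ) * (1 - nz) - ((1 + ny) * Ψ * (1 - ny) - Ψ)) =
      -(A * Ψ * ny) + ny * Ψ * B := by
  have r1 : ∀ X, nz * (ny * X) = 0 := fun X => by rw [← mul_assoc, hzy, zero_mul]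
  have r2 : ∀ X, ny * (nz * X) = 0 := fun X => by rw [← mul_assoc, hyz, zero_mul]
  have r3 : ∀ X, κ * (ny * X) = 0 := fun X => by rw [← mul_assoc, hκy, zero_mul]
  have r4 : ∀ X, ny * (κ * X) = 0 := fun X => by rw [← mul_assoc, hyκ, zero_mul]
  have r5 : ∀ X, κ * (nz * X) = A * X := fun X => by rw [← mul_assoc, hκz]
  have r6 : ∀ X, nz * (κ * X) = B * X := fun X => by rw [← mul_assoc, hzκ]
  simp only [add_mul, mul_add, sub_mul, mul_sub, one_mul, mul_one, mul_assoc, r1, r2, r3, r4, r5, r6, hyz, hzy, hκy,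
    hyκ, hκz, hzκ, mul_zero, zero_mul, sub_zero, add_zero, zero_add, zero_sub, sub_self, neg_zero]
  abel

/-! ### the vectors -/

/-- a hyperbolic partner `z'` of `z` inside `y^⊥` (`y ⊥ z` isotropic, independent) -/
theorem exists_partner_perp (hF : Fintype.card F = q ^ 2) (y z : Fin k → F) (hy0 : y ≠ 0) (hz : hv q z z = 0)
    (hyz : hv q y z = 0) (hind : ¬ ∃ a : F, z = a • y) :
    ∃ z' : Fin k → F, hv q z' z' = 0 ∧ hv q y z' = 0 ∧ hv q z' y = 0 ∧ hv q z z' = 1 ∧ hv q z' z = 1 := by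
  have hf := Cfsg.Agent.Lib.Helper20.UT.hv_unitary (n := k) hF
  have hb : z ∉ Submodule.span F {y} := by
    intro h
    rw [Submodule.mem_span_singleton] at h
    obtain ⟨a, ha⟩ := h
    exact hind ⟨a, ha.symm⟩
  obtain ⟨p, hyp, hzp⟩ := Cfsg.Agent.Lib.Helper5.UForm.exists_sep hf hy0 hb
  have hpz : hv q p z ≠ 0 := Cfsg.Agent.Lib.Helper5.UForm.u_symm_ne hf hzp
  obtain ⟨lam, hlam⟩ := Cfsg.Agent.Lib.Helper5.UForm.exists_iso_add hf hz hpz 0 (map_zero _)
  obtain ⟨w, hw⟩ : ∃ w, w = p + lam • z := ⟨_, rfl⟩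
  rw [← hw] at hlam
  have hyw : hv q y w = 0 := by
    rw [hw, Cfsg.Agent.Lib.Helper20.UT.hv_add_right hF, Cfsg.Agent.Lib.Helper20.UT.hv_smul_right, hyp, hyz, mul_zero,
      add_zero]
  have hzw : hv q z w = hv q z p := by
    rw [hw, Cfsg.Agent.Lib.Helper20.UT.hv_add_right hF, Cfsg.Agent.Lib.Helper20.UT.hv_smul_right, hz, mul_zero,
      add_zero]
  obtain ⟨d, hd⟩ : ∃ d, d = hv q z p := ⟨_, rfl⟩
  rw [← hd] at hzw hzp
  have hcq : ((d⁻¹) ^ q) ^ q = d⁻¹ := Cfsg.Agent.Lib.Helper20.UT.pow_q_pow_q' hF _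
  have h4 : hv q z ((d⁻¹) ^ q • w) = 1 := by
    rw [Cfsg.Agent.Lib.Helper20.UT.hv_smul_right, hcq, hzw, inv_mul_cancel₀ hzp]
  refine ⟨(d⁻¹) ^ q • w, ?_, ?_, ?_, h4, ?_⟩
  · rw [Cfsg.Agent.Lib.Helper20.UT.hv_smul_left, Cfsg.Agent.Lib.Helper20.UT.hv_smul_right, hlam, mul_zero, mul_zero]
  · rw [Cfsg.Agent.Lib.Helper20.UT.hv_smul_right, hyw, mul_zero]
  · apply Cfsg.Agent.Lib.Helper20.UT.hv_symm_zero hF
    rw [Cfsg.Agent.Lib.Helper20.UT.hv_smul_right, hyw, mul_zero]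
  · rw [← Cfsg.Agent.Lib.Helper20.UT.hv_conj hF, h4, one_pow]

/-- a non-scalar matrix has a non-zero cross term `z†My` on a totally isotropic line (`k ≥ 4`) -/
theorem exists_cross (hF : Fintype.card F = q ^ 2) (hk : 4 ≤ k) (M : Matrix (Fin k) (Fin k) F)
    (hM : ¬ ∃ c : F, M = c • (1 : Matrix (Fin k) (Fin k) F)) :
    ∃ y z : Fin k → F, y ≠ 0 ∧ hv q y y = 0 ∧ hv q z z = 0 ∧ hv q y z = 0 ∧ (¬ ∃ a : F, z = a • y) ∧
      hv q (M *ᵥ y) z ≠ 0 := by
  have hcone : ¬ ∀ z : Fin k → F, hv q z z = 0 → hv q (M *ᵥ z) z = 0 := by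
    intro h
    exact hM (Cfsg.Agent.Lib.Helper26.TWU2ALeaf.scalar_of_cone hF (by omega) (by omega) M h)
  push Not at hcone
  obtain ⟨y, hy, hMy⟩ := hcone
  have hy0 : y ≠ 0 := by
    rintro rfl
    apply hMy
    rw [Matrix.mulVec_zero]
    exact Cfsg.Agent.Lib.Helper20.UT.hv_zero_left q _
  obtain ⟨z₀, hz₀0, hz₀, hz₀y, hne⟩ := Cfsg.Agent.Lib.Helper1.TWULeaf.exists_iso_perp hF hk y hy0 hy
  have hyz₀ : hv q y z₀ = 0 := Cfsg.Agent.Lib.Helper20.UT.hv_symm_zero hF hz₀y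
  by_cases h1 : hv q (M *ᵥ y) z₀ = 0
  · refine ⟨y, y + z₀, hy0, hy, ?_, ?_, ?_, ?_⟩
    · rw [Cfsg.Agent.Lib.Helper20.UT.hv_add_left, Cfsg.Agent.Lib.Helper20.UT.hv_add_right hF,
        Cfsg.Agent.Lib.Helper20.UT.hv_add_right hF, hy, hyz₀, hz₀y, hz₀]
      simp
    · rw [Cfsg.Agent.Lib.Helper20.UT.hv_add_right hF, hy, hyz₀, add_zero]
    · rintro ⟨a, ha⟩
      apply hne
      refine ⟨a - 1, ?_⟩
      rw [sub_smul, one_smul, ← ha]
      abel
    · rw [Cfsg.Agent.Lib.Helper20.UT.hv_add_right hF, h1, add_zero]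
      exact hMy
  · exact ⟨y, z₀, hy0, hy, hz₀, hyz₀, hne, h1⟩

/-! ### the leaf -/

lemma slot_one_sub8 (l : Fin t) (N : Matrix (Fin k) (Fin k) F) : slot k t l (1 - N) = 1 - slot k t l N := by
  have : (1 - N : Matrix (Fin k) (Fin k) F) = 1 + (-1 : F) • N := by rw [neg_one_smul, sub_eq_add_neg]
  rw [this, slot_add, slot_one, slot_smul, neg_one_smul, sub_eq_add_neg]

lemma slot_one_add8 (l : Fin t) (N : Matrix (Fin k) (Fin k) F) : slot k t l (1 + N) = 1 + slot k t l N := by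
  rw [slot_add, slot_one]

/-- one step: `𝒯` is closed under `X ↦ (1 + n) X (1 - n) - X`, `n = slot l N`, `1 + N ∈ SU(A)` -/
lemma step_mem (l : Fin t) (𝒯 : Matrix (Idx t k) (Idx t k) F → Prop) (h𝒯 : StableAt q l 𝒯)
    (N : Matrix (Fin k) (Fin k) F) (hN : N * N = 0) (hg : IsSUA q (unip N hN)) (X : Matrix (Idx t k) (Idx t k) F)
    (hX : 𝒯 X) : 𝒯 ((1 + slot k t l N) * X * (1 - slot k t l N) - X) := by
  have h1 := h𝒯.conj _ hg X hX
  rw [unip_val, unip_inv_val, slot_one_add8, slot_one_sub8] at h1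
  have h2 := h𝒯.add _ _ h1 (h𝒯.neg _ hX)
  rw [← sub_eq_add_neg] at h2
  exact h2

/-- L4: Lemma A_U for `q = 2` -/
theorem lemmaAU_q2 (hF : Fintype.card F = q ^ 2) (hq : q = 2) (hk : 4 ≤ k) (l : Fin t)
    (𝒯 : Matrix (Idx t k) (Idx t k) F → Prop) (h𝒯 : StableAt q l 𝒯) (Ψ : Matrix (Idx t k) (Idx t k) F) (hΨ : 𝒯 Ψ)
    (hnt : ¬ Triv l Ψ) :
    ∃ (z : Fin k → F) (Ψ₁ : Matrix (Idx t k) (Idx t k) F), z ≠ 0 ∧ hv q z z = 0 ∧ 𝒯 Ψ₁ ∧ Ψ₁ ≠ 0 ∧ WForm l (vv q z z) Ψ₁ := by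
  classical
  have hf := Cfsg.Agent.Lib.Helper20.UT.hv_unitary (n := k) hF
  -- characteristic 2
  have h2 : (2 : F) = 0 := by
    have h4 := FiniteField.cast_card_eq_zero F
    rw [hF, hq] at h4
    push_cast at h4
    have h5 : (2 : F) * 2 = 0 := by rw [← h4]; norm_num
    exact mul_self_eq_zero.1 h5
  -- a non-scalar block
  unfold Triv WForm at hnt
  push Not at hnt
  obtain ⟨p, p', a, b, hne⟩ := hnt
  obtain ⟨M, hM⟩ : ∃ M : Matrix (Fin k) (Fin k) F,
      M = Matrix.of fun e f => Ψ (Function.update p l e) (Function.update p' l f) := ⟨_, rfl⟩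
  have hMns : ¬ ∃ c : F, M = c • (1 : Matrix (Fin k) (Fin k) F) := by
    rintro ⟨c, hc⟩
    apply hne
    have e1 : Ψ (Function.update p l a) (Function.update p' l b) = M a b := by rw [hM]; rfl
    have e2 : Ψ p p' = M (p l) (p' l) := by
      rw [hM, Matrix.of_apply, Function.update_eq_self, Function.update_eq_self]
    rw [e1, e2, hc]
    simp only [Matrix.smul_apply, smul_eq_mul]
    ring
  obtain ⟨y, z, hy0, hy, hz, hyz, hind, hcross⟩ := exists_cross hF hk M hMns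
  have hzy : hv q z y = 0 := Cfsg.Agent.Lib.Helper20.UT.hv_symm_zero hF hyz
  obtain ⟨z', hz', hyz', hz'y, hzz', hz'z⟩ := exists_partner_perp hF y z hy0 hz hyz hind
  -- the two coefficients
  have hρ₁ : ctrB q l z y Ψ p p' = hv q (M *ᵥ y) z := by
    unfold ctrB Cfsg.Agent.Lib.Helper20.UT.hv
    apply Finset.sum_congr rfl
    intro e _
    rw [Matrix.mulVec, dotProduct, Finset.sum_mul]
    apply Finset.sum_congr rfl
    intro f _
    rw [hM, Matrix.of_apply]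
    ring
  have hρ₁ne : ctrB q l z y Ψ p p' ≠ 0 := by rw [hρ₁]; exact hcross
  obtain ⟨β, hβ⟩ : ∃ β : F, β * ctrB q l z y Ψ p p' + β ^ q * ctrB q l y z Ψ p p' ≠ 0 := by
    by_cases h1 : ctrB q l z y Ψ p p' + ctrB q l y z Ψ p p' = 0
    · obtain ⟨θ, hθ⟩ := Cfsg.Agent.Lib.Helper5.UForm.exists_moved hf.ne_refl
      rw [Cfsg.Agent.Lib.Helper5.HermBridge.frobQ_apply] at hθ
      refine ⟨θ, ?_⟩
      intro h
      have h3 : (θ - θ ^ q) * ctrB q l z y Ψ p p' = 0 := by linear_combination h - θ ^ q * h1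
      rcases mul_eq_zero.1 h3 with h | h
      · exact hθ (sub_eq_zero.1 h).symm
      · exact hρ₁ne h
    · exact ⟨1, by rwa [one_mul, one_pow, one_mul]⟩
  -- the three elements of `SU(A)`
  have hNy := vv_sq_zero (q := q) y hy
  have hNz := vv_sq_zero (q := q) z hz
  have hKK := Ktv_sq (q := q) β y z' hy hz' hyz' hz'y
  have hgy := isSUA_root hF h2 y hy hNy
  have hgz := isSUA_root hF h2 z hz hNz
  have hgτ := isSUA_Ktv hF β y z' hy hz' hyz' hz'y hKK
  have t1 := step_mem l 𝒯 h𝒯 _ hNy hgy Ψ hΨ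
  have t2 := step_mem l 𝒯 h𝒯 _ hNz hgz _ t1
  have t3 := step_mem l 𝒯 h𝒯 _ hKK hgτ _ t2
  -- the products
  have m1 : slot k t l (vv q y y) * slot k t l (vv q z z) = 0 := by
    rw [slot_mul, vv_mul_vv, hzy, zero_smul, slot_zero]
  have m2 : slot k t l (vv q z z) * slot k t l (vv q y y) = 0 := by
    rw [slot_mul, vv_mul_vv, hyz, zero_smul, slot_zero]
  have m3 : slot k t l (Ktv q β y z') * slot k t l (vv q y y) = 0 := by
    rw [slot_mul]
    unfold Ktv
    rw [sub_mul, Matrix.smul_mul, Matrix.smul_mul, vv_mul_vv, vv_mul_vv, hyz', hy, zero_smul, zero_smul, smul_zero,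
      smul_zero, sub_zero, slot_zero]
  have m4 : slot k t l (vv q y y) * slot k t l (Ktv q β y z') = 0 := by
    rw [slot_mul]
    unfold Ktv
    rw [mul_sub, Matrix.mul_smul, Matrix.mul_smul, vv_mul_vv, vv_mul_vv, hy, hz'y, zero_smul, zero_smul, smul_zero,
      smul_zero, sub_zero, slot_zero]
  have m5 : slot k t l (Ktv q β y z') * slot k t l (vv q z z) = β • slot k t l (vv q y z) := by
    rw [slot_mul, ← slot_smul]
    unfold Ktv
    rw [sub_mul, Matrix.smul_mul, Matrix.smul_mul, vv_mul_vv, vv_mul_vv, hzz', hzy, one_smul, zero_smul, smul_zero,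
      sub_zero]
  have m6 : slot k t l (vv q z z) * slot k t l (Ktv q β y z') = (-(β ^ q)) • slot k t l (vv q z y) := by
    rw [slot_mul, ← slot_smul]
    unfold Ktv
    rw [mul_sub, Matrix.mul_smul, Matrix.mul_smul, vv_mul_vv, vv_mul_vv, hyz, hz'z, one_smul, zero_smul, smul_zero,
      zero_sub, neg_smul]
  rw [triple_comm _ _ _ _ _ Ψ m1 m2 m3 m4 m5 m6] at t3
  -- the entries
  obtain ⟨Φ, hΦ⟩ : ∃ Φ : Matrix (Idx t k) (Idx t k) F,
      Φ = -(β • slot k t l (vv q y z) * Ψ * slot k t l (vv q y y)) +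
        slot k t l (vv q y y) * Ψ * (-(β ^ q)) • slot k t l (vv q z y) := ⟨_, rfl⟩
  rw [← hΦ] at t3
  have hentry : ∀ x x' : Idx t k, Φ x x' = y (x l) * (y (x' l)) ^ q *
      (-(β * ctrB q l z y Ψ x x' + β ^ q * ctrB q l y z Ψ x x')) := by
    intro x x'
    rw [hΦ, Matrix.add_apply, Matrix.neg_apply, Matrix.smul_mul, Matrix.smul_mul, Matrix.smul_apply,
      Matrix.mul_smul, Matrix.smul_apply, slot_vv_entry, slot_vv_entry]
    simp only [smul_eq_mul]
    ring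
  refine ⟨y, Φ, hy0, hy, t3, ?_, ?_⟩
  · -- `Φ ≠ 0`
    obtain ⟨a₀, ha₀⟩ : ∃ a₀, y a₀ ≠ 0 := by
      by_contra hcon
      push Not at hcon
      exact hy0 (funext hcon)
    intro h0
    have h1 := congrFun (congrFun h0 (Function.update p l a₀)) (Function.update p' l a₀)
    rw [hentry, ctrB_update, ctrB_update, Function.update_self, Function.update_self, Matrix.zero_apply] at h1
    rcases mul_eq_zero.1 h1 with h | h
    · rcases mul_eq_zero.1 h with h | h
      · exact ha₀ h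
      · exact ha₀ (eq_zero_of_pow_eq_zero h)
    · exact hβ (neg_eq_zero.1 h)
  · -- the weight
    intro p₁ p₁' a₁ b₁
    rw [hentry, hentry, ctrB_update, ctrB_update, Function.update_self, Function.update_self, vv_apply, vv_apply]
    ring

end Cfsg.Agent.Lib.Helper8.TWU2ALeaf
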