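import Mathlib
import Cfsg.Prelude.Def_CaseTheorems
import Cfsg.Prelude.Def_OddOrderLocal

set_option autoImplicit false
open scoped commutatorElement

namespace Cfsg.Agent.Lib.Helper8.R5Leaf

open Module

section core
variable {A : Type*} [AddCommGroup A]

/-- a nilpotent endomorphism kills a nonzero vector of any nontrivial invariant subgroup -/
theorem exists_ker_of_nilpotent_r5 (N : Module.End ℤ A) (M : AddSubgroup A)
    (hM : ∀ x ∈ M, N x ∈ M) (n : ℕ) (hn : ∀ x ∈ M, (N ^ n) x = 0) {d : A} (hd : d ∈ M)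
    (hd0 : d ≠ 0) : ∃ e ∈ M, e ≠ 0 ∧ N e = 0 := by
  classical
  have hex : ∃ j, (N ^ j) d = 0 := ⟨n, hn d hd⟩
  have hj : (N ^ (Nat.find hex)) d = 0 := Nat.find_spec hex
  have hj0 : Nat.find hex ≠ 0 := by
    intro h
    rw [h, pow_zero, Module.End.one_apply] at hj
    exact hd0 hj
  obtain ⟨i, hi⟩ := Nat.exists_eq_succ_of_ne_zero hj0
  have hne : (N ^ i) d ≠ 0 := Nat.find_min hex (by omega)
  have hmem : ∀ i, (N ^ i) d ∈ M := by
    intro i
    induction i with
    | zero => simpa using hd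
    | succ i ih => rw [pow_succ', Module.End.mul_apply]; exact hM _ ih
  refine ⟨(N ^ i) d, hmem i, hne, ?_⟩
  rw [← Module.End.mul_apply, ← pow_succ', ← Nat.succ_eq_add_one, ← hi]
  exact hj

/-- the binomial identity `∑_{m=1}^{p} C(p,m) N^m x = 0` when `(N+1)^p = 1` -/
theorem sum_choose_pow_eq_zero_r5 (N : Module.End ℤ A) (p : ℕ) (hb : (N + 1) ^ p = 1) (x : A) :
    ∑ m ∈ Finset.Ico 1 (p + 1), (p.choose m) • (N ^ m) x = 0 := by
  have h1 : (N + 1) ^ p = ∑ m ∈ Finset.range (p + 1), N ^ m * 1 ^ (p - m) * (p.choose m : Module.End ℤ A) :=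
    (Commute.one_right N).add_pow p
  have h2 : ((N + 1) ^ p) x = ∑ m ∈ Finset.range (p + 1), (p.choose m) • (N ^ m) x := by
    rw [h1, LinearMap.sum_apply]
    apply Finset.sum_congr rfl
    intro m _
    rw [one_pow, mul_one, Module.End.mul_apply, Module.End.natCast_apply, map_nsmul]
  rw [hb, Module.End.one_apply, Finset.range_eq_Ico, Finset.sum_eq_sum_Ico_succ_bot (Nat.succ_pos p)] at h2
  simp only [Nat.choose_zero_right, pow_zero, Module.End.one_apply, one_smul, zero_add] at h2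
  have := h2
  -- x = x + S  ⇒  S = 0
  have h3 : x + 0 = x + ∑ m ∈ Finset.Ico 1 (p + 1), (p.choose m) • (N ^ m) x := by
    rw [add_zero]; exact h2
  exact (add_left_cancel h3).symm


/-- `N^2 = 0` on `Ω = ker p` when `|Ω| = p^2` and `(N+1)^p = 1` -/
theorem sq_zero_on_omega_r5 [Finite A] {p : ℕ} [Fact p.Prime] (N : Module.End ℤ A)
    (hb : (N + 1) ^ p = 1) (hΩ : Nat.card {x : A // p • x = 0} = p ^ 2) :
    ∀ d : A, p • d = 0 → N (N d) = 0 := by
  classical
  have hpp : p.Prime := Fact.out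
  let Ω : AddSubgroup A := (nsmulAddMonoidHom p : A →+ A).ker
  have hmemΩ : ∀ x : A, x ∈ Ω ↔ p • x = 0 := fun x => by
    simp [Ω, AddMonoidHom.mem_ker]
  have hcardΩ : Nat.card Ω = p ^ 2 := by
    rw [← hΩ]
    apply Nat.card_congr
    exact Equiv.subtypeEquivRight hmemΩ
  have hNΩ : ∀ x ∈ Ω, N x ∈ Ω := by
    intro x hx
    rw [hmemΩ] at hx ⊢
    rw [← map_nsmul, hx, map_zero]
  -- N^p = 0 on Ω
  have hNp : ∀ x ∈ Ω, (N ^ p) x = 0 := by
    intro x hx
    rw [hmemΩ] at hx
    have hs := sum_choose_pow_eq_zero_r5 N p hb x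
    rw [Finset.sum_Ico_succ_top hpp.one_le] at hs
    have hz : ∑ m ∈ Finset.Ico 1 p, (p.choose m) • (N ^ m) x = 0 := by
      apply Finset.sum_eq_zero
      intro m hm
      rw [Finset.mem_Ico] at hm
      obtain ⟨c, hc⟩ := hpp.dvd_choose_self (by omega) hm.2
      rw [hc, ← map_nsmul, mul_comm, mul_smul, hx, smul_zero, map_zero]
    rw [hz, zero_add, Nat.choose_self, one_smul] at hs
    exact hs
  intro d hd
  by_cases hd0 : d = 0
  · rw [hd0, map_zero, map_zero]
  have hdΩ : d ∈ Ω := (hmemΩ d).mpr hd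
  -- the restricted map
  let f : Ω →+ A := (N : A →ₗ[ℤ] A).toAddMonoidHom.comp Ω.subtype
  have hfapp : ∀ y : Ω, f y = N y.1 := fun y => rfl
  have hprod : Nat.card f.ker * Nat.card f.range = p ^ 2 := by
    rw [← AddSubgroup.index_ker, AddSubgroup.card_mul_index, hcardΩ]
  obtain ⟨e, heΩ, he0, hNe⟩ := exists_ker_of_nilpotent_r5 N Ω hNΩ p hNp hdΩ hd0
  have hker1 : Nat.card f.ker ≠ 1 := by
    intro h1
    have hbot : f.ker = ⊥ := (AddSubgroup.card_eq_one).mp h1
    have hmem : (⟨e, heΩ⟩ : Ω) ∈ f.ker := by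
      rw [AddMonoidHom.mem_ker, hfapp]; exact hNe
    rw [hbot, AddSubgroup.mem_bot] at hmem
    exact he0 (congrArg Subtype.val hmem)
  have hkdvd : Nat.card f.ker ∣ p ^ 2 := Dvd.intro _ hprod
  obtain ⟨j, hj2, hj⟩ := (Nat.dvd_prime_pow hpp).mp hkdvd
  have hj0 : j ≠ 0 := by
    intro h; rw [h, pow_zero] at hj; exact hker1 hj
  have hrdvd : Nat.card f.range ∣ p := by
    obtain ⟨i, rfl⟩ := Nat.exists_eq_succ_of_ne_zero hj0
    rw [hj, pow_succ, pow_two, mul_comm (p ^ i) p, mul_assoc] at hprod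
    have := Nat.eq_of_mul_eq_mul_left hpp.pos hprod
    exact Dvd.intro_left _ this
  -- M1 = f.range is killed by N
  have hM1 : ∀ y ∈ f.range, N y = 0 := by
    rcases (Nat.dvd_prime hpp).mp hrdvd with h1 | hp1
    · intro y hy
      have hbot : f.range = ⊥ := (AddSubgroup.card_eq_one).mp h1
      rw [hbot, AddSubgroup.mem_bot] at hy
      rw [hy, map_zero]
    · have hM1Ω : ∀ y ∈ f.range, y ∈ Ω := by
        rintro y ⟨z, rfl⟩
        rw [hfapp]; exact hNΩ _ z.2
      have hM1inv : ∀ y ∈ f.range, N y ∈ f.range := by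
        intro y hy
        exact ⟨⟨y, hM1Ω y hy⟩, rfl⟩
      have hM1p : ∀ y ∈ f.range, (N ^ p) y = 0 := fun y hy => hNp y (hM1Ω y hy)
      -- a nonzero element of f.range
      have hne : ∃ y ∈ f.range, y ≠ 0 := by
        by_contra hcon
        push Not at hcon
        have hbot : f.range = ⊥ := by
          rw [AddSubgroup.eq_bot_iff_forall]; exact hcon
        rw [hbot, AddSubgroup.card_bot] at hp1
        exact hpp.one_lt.ne hp1
      obtain ⟨y0, hy0, hy00⟩ := hne
      obtain ⟨e', he'M, he'0, hNe'⟩ :=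
        exists_ker_of_nilpotent_r5 N f.range hM1inv p hM1p hy0 hy00
      haveI : Fact (Nat.card f.range).Prime := ⟨by rw [hp1]; exact hpp⟩
      have htop : AddSubgroup.zmultiples (⟨e', he'M⟩ : f.range) = ⊤ :=
        zmultiples_eq_top_of_prime_card (p := Nat.card f.range) rfl
          (fun h => he'0 (congrArg Subtype.val h))
      intro y hy
      have hy' : (⟨y, hy⟩ : f.range) ∈ AddSubgroup.zmultiples (⟨e', he'M⟩ : f.range) := by
        rw [htop]; exact AddSubgroup.mem_top _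
      obtain ⟨n, hn⟩ := AddSubgroup.mem_zmultiples_iff.mp hy'
      have hn' : n • e' = y := by
        have := congrArg Subtype.val hn
        simpa using this
      rw [← hn', map_zsmul, hNe', smul_zero]
  exact hM1 (N d) ⟨⟨d, hdΩ⟩, rfl⟩


/-- additive core of leaf R5B -/
theorem abelian_exponent_add_r5 [Finite A] {p : ℕ} [Fact p.Prime] (hp : 3 < p)
    (hΩ : Nat.card {x : A // p • x = 0} = p ^ 2)
    (k : ℕ) (hk1 : ∀ x : A, p • (p ^ k • x) = 0)
    (hk2 : ∀ d : A, p • d = 0 → ∃ x : A, p ^ k • x = d)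
    (b : Module.End ℤ A) (hb : b ^ p = 1) (d₀ : A) (hd₀ : p • d₀ = 0) (hbd : b d₀ ≠ d₀) :
    k = 0 := by
  classical
  by_contra hk
  have hpp : p.Prime := Fact.out
  obtain ⟨k', rfl⟩ := Nat.exists_eq_succ_of_ne_zero hk
  set N : Module.End ℤ A := b - 1 with hN
  have hbN : (N + 1) ^ p = 1 := by
    have : N + 1 = b := by rw [hN]; abel
    rw [this]; exact hb
  have hNapp : ∀ x, N x = b x - x := fun x => by
    rw [hN, LinearMap.sub_apply, Module.End.one_apply]
  have hsq := sq_zero_on_omega_r5 N hbN hΩ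
  -- (ii) ker (p^k) = range p
  let Pm : A →+ A := nsmulAddMonoidHom p
  let Pk : A →+ A := nsmulAddMonoidHom (p ^ (k' + 1))
  have hPm : ∀ x, Pm x = p • x := fun x => rfl
  have hPk : ∀ x, Pk x = p ^ (k' + 1) • x := fun x => rfl
  have hkerPm : Nat.card Pm.ker = p ^ 2 := by
    rw [← hΩ]
    apply Nat.card_congr
    exact Equiv.subtypeEquivRight (fun x => by rw [AddMonoidHom.mem_ker, hPm])
  have hrangePk : Pk.range = Pm.ker := by
    ext y
    rw [AddMonoidHom.mem_ker, hPm]
    constructor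
    · rintro ⟨x, rfl⟩
      rw [hPk]; exact hk1 x
    · intro hy
      obtain ⟨x, hx⟩ := hk2 y hy
      exact ⟨x, hx⟩
  have hle : Pm.range ≤ Pk.ker := by
    rintro y ⟨x, rfl⟩
    rw [AddMonoidHom.mem_ker, hPk, hPm, smul_comm]
    exact hk1 x
  have hcard : Nat.card Pk.ker ≤ Nat.card Pm.range := by
    have h1 : Nat.card Pk.ker * Nat.card Pk.range = Nat.card A := by
      rw [← AddSubgroup.index_ker, AddSubgroup.card_mul_index]
    have h2 : Nat.card Pm.ker * Nat.card Pm.range = Nat.card A := by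
      rw [← AddSubgroup.index_ker, AddSubgroup.card_mul_index]
    rw [hrangePk, hkerPm] at h1
    rw [hkerPm, ← h1, mul_comm (Nat.card Pk.ker)] at h2
    have hpos : 0 < p ^ 2 := pow_pos hpp.pos 2
    exact (Nat.eq_of_mul_eq_mul_left hpos h2).ge
  have heq : Pm.range = Pk.ker := AddSubgroup.eq_of_le_of_card_ge hle hcard
  -- (R1) N² x ∈ p A
  have hR1 : ∀ x : A, ∃ y : A, N (N x) = p • y := by
    intro x
    have hmem : N (N x) ∈ Pk.ker := by
      rw [AddMonoidHom.mem_ker, hPk, ← map_nsmul, ← map_nsmul]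
      exact hsq _ (hk1 x)
    rw [← heq] at hmem
    obtain ⟨y, hy⟩ := hmem
    exact ⟨y, hy.symm⟩
  -- N^(m+2) x ∈ pA, N^(m+4) x ∈ p²A
  have hpow2 : ∀ (m : ℕ) (x : A), ∃ y : A, (N ^ (m + 2)) x = p • y := by
    intro m x
    obtain ⟨y, hy⟩ := hR1 x
    refine ⟨(N ^ m) y, ?_⟩
    rw [pow_add, Module.End.mul_apply, pow_two, Module.End.mul_apply, hy, map_nsmul]
  have hpow4 : ∀ (m : ℕ) (x : A), ∃ z : A, (N ^ (m + 4)) x = p • (p • z) := by
    intro m x
    obtain ⟨y, hy⟩ := hR1 x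
    obtain ⟨z, hz⟩ := hR1 y
    refine ⟨(N ^ m) z, ?_⟩
    have h4 : (N ^ 4) x = p • (p • z) := by
      have : (N ^ 4 : Module.End ℤ A) = N * N * (N * N) := by
        noncomm_ring
      rw [this, Module.End.mul_apply, Module.End.mul_apply, Module.End.mul_apply, hy,
        map_nsmul, map_nsmul, hz]
    rw [pow_add, Module.End.mul_apply, h4, map_nsmul, map_nsmul]
  -- (iii) N x ∈ pA
  have hNx : ∀ x : A, ∃ w : A, N x = p • w := by
    intro x
    have hs := sum_choose_pow_eq_zero_r5 N p hbN x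
    rw [Finset.sum_Ico_succ_top hpp.one_le, Finset.sum_eq_sum_Ico_succ_bot hpp.one_lt] at hs
    simp only [Nat.choose_one_right, pow_one, Nat.choose_self, one_smul] at hs
    -- middle terms
    have hmid : ∃ z : A, ∑ m ∈ Finset.Ico (1 + 1) p, (p.choose m) • (N ^ m) x = p • (p • z) := by
      have hall : ∀ m ∈ Finset.Ico (1 + 1) p, ∃ z : A, (p.choose m) • (N ^ m) x = p • (p • z) := by
        intro m hm
        rw [Finset.mem_Ico] at hm
        obtain ⟨c, hc⟩ := hpp.dvd_choose_self (by omega) hm.2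
        obtain ⟨m', rfl⟩ : ∃ m', m = m' + 2 := ⟨m - 2, by omega⟩
        obtain ⟨y, hy⟩ := hpow2 m' x
        refine ⟨c • y, ?_⟩
        rw [hc, hy, mul_smul, smul_comm c p y]
      choose! zf hzf using hall
      refine ⟨∑ m ∈ Finset.Ico (1 + 1) p, zf m, ?_⟩
      rw [Finset.smul_sum, Finset.smul_sum]
      exact Finset.sum_congr rfl hzf
    obtain ⟨z1, hz1⟩ := hmid
    obtain ⟨z2, hz2⟩ : ∃ z : A, (N ^ p) x = p • (p • z) := by
      obtain ⟨m', hm'⟩ : ∃ m', p = m' + 4 := ⟨p - 4, by omega⟩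
      obtain ⟨z, hz⟩ := hpow4 m' x
      exact ⟨z, by rw [← hm'] at hz; exact hz⟩
    rw [hz1, hz2] at hs
    -- p • (N x + p • z1 + p • z2) = 0
    have h0 : p • (N x + p • z1 + p • z2) = 0 := by
      rw [smul_add, smul_add]
      rw [← hs]
    obtain ⟨w, hw⟩ := hk2 _ h0
    refine ⟨p ^ k' • w - z1 - z2, ?_⟩
    have hw' : p • (p ^ k' • w) = N x + p • z1 + p • z2 := by
      rw [← hw, pow_succ, mul_comm, mul_smul]
    rw [smul_sub, smul_sub, hw']
    abel
  -- (iv) contradiction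
  obtain ⟨x0, hx0⟩ := hk2 d₀ hd₀
  obtain ⟨w, hw⟩ := hNx x0
  have hNd : N d₀ = 0 := by
    rw [← hx0, map_nsmul, hw, smul_comm]
    exact hk1 w
  rw [hNapp, sub_eq_zero] at hNd
  exact hbd hNd

end core


/-- commutative-group version of leaf R5B -/
theorem abelian_exponent_comm_r5 {G : Type*} [CommGroup G] [Finite G] {p : ℕ} [Fact p.Prime]
    (hp : 3 < p)
    (hΩ : Nat.card {x : G // x ^ p = 1} = p ^ 2)
    (k : ℕ) (hk1 : ∀ x : G, (x ^ p ^ k) ^ p = 1) (hk2 : ∀ d : G, d ^ p = 1 → ∃ x : G, x ^ p ^ k = d)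
    (β : MulAut G) (hβ : β ^ p = 1) (d₀ : G) (hd₀ : d₀ ^ p = 1) (hβd : β d₀ ≠ d₀) : k = 0 := by
  let b0 : Additive G →+ Additive G := MonoidHom.toAdditive β.toMonoidHom
  let b : Module.End ℤ (Additive G) := b0.toIntLinearMap
  have hbapp : ∀ x : Additive G, b x = Additive.ofMul (β (Additive.toMul x)) := fun x => rfl
  have hbpow : ∀ (j : ℕ) (x : Additive G), (b ^ j) x = Additive.ofMul ((β ^ j) (Additive.toMul x)) := by
    intro j
    induction j with
    | zero => intro x; simp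
    | succ j ih =>
      intro x
      rw [pow_succ', Module.End.mul_apply, ih, hbapp, pow_succ', MulAut.mul_apply]
      rfl
  have hb : b ^ p = 1 := by
    apply LinearMap.ext
    intro x
    rw [hbpow, hβ, Module.End.one_apply]
    rfl
  have hΩ' : Nat.card {x : Additive G // p • x = 0} = p ^ 2 := by
    rw [← hΩ]
    apply Nat.card_congr
    refine Equiv.subtypeEquiv Additive.toMul ?_
    intro x
    constructor
    · intro h
      have := congrArg Additive.toMul h
      simpa using this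
    · intro h
      apply Additive.toMul.injective
      simpa using h
  have hk1' : ∀ x : Additive G, p • (p ^ k • x) = 0 := by
    intro x
    apply Additive.toMul.injective
    simpa using hk1 (Additive.toMul x)
  have hk2' : ∀ d : Additive G, p • d = 0 → ∃ x : Additive G, p ^ k • x = d := by
    intro d hd
    have hd' : (Additive.toMul d) ^ p = 1 := by
      have := congrArg Additive.toMul hd
      simpa using this
    obtain ⟨x, hx⟩ := hk2 _ hd'
    refine ⟨Additive.ofMul x, ?_⟩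
    apply Additive.toMul.injective
    simpa using hx
  have hd₀' : p • (Additive.ofMul d₀) = 0 := by
    apply Additive.toMul.injective
    simpa using hd₀
  have hbd' : b (Additive.ofMul d₀) ≠ Additive.ofMul d₀ := by
    intro h
    rw [hbapp] at h
    exact hβd (Additive.ofMul.injective h)
  exact abelian_exponent_add_r5 hp hΩ' k hk1' hk2' b hb (Additive.ofMul d₀) hd₀' hbd'

/-- (B) abelian p-groups with |Ω₁| = p²: an automorphism of order p moving Ω₁ forces exponent p -/
theorem abelian_exponent {G : Type*} [Group G] [Finite G] {p : ℕ} [Fact p.Prime] (hp : 3 < p)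
    (hcomm : ∀ x y : G, x * y = y * x) (hG : IsPGroup p G)
    (hΩ : Nat.card {x : G // x ^ p = 1} = p ^ 2)
    (k : ℕ) (hk1 : ∀ x : G, (x ^ p ^ k) ^ p = 1) (hk2 : ∀ d : G, d ^ p = 1 → ∃ x : G, x ^ p ^ k = d)
    (β : MulAut G) (hβ : β ^ p = 1) (d₀ : G) (hd₀ : d₀ ^ p = 1) (hβd : β d₀ ≠ d₀) : k = 0 := by
  letI : CommGroup G := { ‹Group G› with mul_comm := hcomm }
  exact abelian_exponent_comm_r5 hp hΩ k hk1 hk2 β hβ d₀ hd₀ hβd

end Cfsg.Agent.Lib.Helper8.R5Leaf
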