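/-
helper8: structure part of the (P)-kill.  Part B: structure of a partner `H` of a maximal subgroup
`M` of Case II type (P).  For `Y ≤ T = C_{M_σ}(E)` of prime order and a complement `E_H ∋ Y` of
`H_σ` in `H`: `E_H ≤ Z = E ⊔ T`, `E_H` has prime action on `H_σ`, and `τ₂(H) = ∅`.
(`H` irregular: `H` is itself of type (P).  `H` regular: `H` is P1 by S1429, since otherwise `E`
would be nilpotent, hence abelian by S1420(a).)
-/
import Mathlib
import Cfsg.Agent.Lib.Helper8.BGPSA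
import Cfsg.Agent.Lib.Helper2.BGCorO
import Cfsg.Agent.S1429
import Cfsg.Agent.S1420
import Cfsg.Agent.S1426

set_option autoImplicit false
set_option linter.unusedSectionVars false
set_option linter.unusedVariables false
set_option linter.style.haveILetI false

namespace Cfsg.Agent.Lib.Helper8.BGPS

open Cfsg.Agent.Lib.Helper17.BGC2 (CaseII FaithfulPair)
open Cfsg.Agent.Lib.Helper24.BGC2T (TypeP)
open Cfsg.Agent.Lib.Helper2.BGCor (T142 H28 CorR CorG1)
open Cfsg.Agent.Lib.Helper8 (mem_map_conj conj_mem_map_conj map_conj_map_conj map_conj_one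
  map_conj_le_iff map_conj_eq_iff card_map_conj mem_normalizer_iff_map_conj IsSylIn)

universe u

variable {G : Type u} [Group G]

/-! ### general lemmas -/

/-- a subgroup of a nilpotent subgroup is nilpotent. -/
theorem nilp_of_le {A B : Subgroup G} (h : A ≤ B) (hB : Group.IsNilpotent ↥B) :
    Group.IsNilpotent ↥A := by
  apply Subgroup.isNilpotent_of_ker_le_center (Subgroup.inclusion h)
  rw [(MonoidHom.ker_eq_bot_iff _).mpr (Subgroup.inclusion_injective h)]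
  exact bot_le

/-- the join of two commuting nilpotent subgroups is nilpotent. -/
theorem nilp_sup_of_commute {A B : Subgroup G} (hA : Group.IsNilpotent ↥A)
    (hB : Group.IsNilpotent ↥B) (hc : ∀ a ∈ A, ∀ b ∈ B, a * b = b * a) :
    Group.IsNilpotent ↥(A ⊔ B) := by
  have hcomm : ∀ (a : ↥A) (b : ↥B), Commute (A.subtype a) (B.subtype b) :=
    fun a b => hc a a.2 b b.2
  let f : ↥A × ↥B →* G := MonoidHom.noncommCoprod A.subtype B.subtype hcomm
  have hr : f.range = A ⊔ B := by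
    show (MonoidHom.noncommCoprod A.subtype B.subtype hcomm).range = A ⊔ B
    rw [MonoidHom.noncommCoprod_range, Subgroup.range_subtype, Subgroup.range_subtype]
  have h1 : Group.IsNilpotent ↥f.range :=
    Group.nilpotent_of_surjective f.rangeRestrict f.rangeRestrict_surjective
  rw [hr] at h1
  exact h1

/-- the orders in a complement decomposition. -/
theorem card_complIn {A B M : Subgroup G} (h : Cfsg.IsComplIn A B M) :
    Nat.card A * Nat.card B = Nat.card M := by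
  obtain ⟨hAM, hBM, hAB, hprod⟩ := h
  have hc : Cfsg.Agent.Lib.Helper1.IsComplIn A B M :=
    ⟨hAM, hBM, disjoint_iff.mpr hAB, fun m hm => by
      obtain ⟨a, ha, b, hb, hab⟩ := hprod m hm
      exact ⟨a, ha, b, hb, hab.symm⟩⟩
  exact hc.card_mul_card

/-- a group which is not of `r`-rank at most one has order divisible by `r`. -/
theorem dvd_card_of_not_pRankLE_one {r : ℕ} (hr : r.Prime) {H : Type*} [Group H] [Finite H]
    (h : ¬ Cfsg.PRankLE r 1 H) : r ∣ Nat.card H := by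
  unfold Cfsg.PRankLE at h
  push Not at h
  obtain ⟨A, -, hA, hcard⟩ := h
  have h1 : 1 < Nat.card A := lt_of_le_of_lt (Nat.one_le_pow _ _ hr.pos) hcard
  haveI : Nontrivial ↥A := (Finite.one_lt_card_iff_nontrivial).mp h1
  obtain ⟨a, ha1⟩ := exists_ne (1 : ↥A)
  have h2 : (a : H) ^ r = 1 := hA a a.2
  have h3 : orderOf (a : H) = r := by
    rcases (Nat.dvd_prime hr).mp (orderOf_dvd_of_pow_eq_one h2) with h | h
    · exfalso
      apply ha1
      exact Subtype.ext (orderOf_eq_one_iff.mp h)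
    · exact h
  rw [← h3]
  exact orderOf_dvd_natCard _

/-- a `π`-subgroup containing a Hall `π`-subgroup equals it. -/
theorem eq_of_piHall_le [Finite G] {π : Set ℕ} {K L M : Subgroup G}
    (hK : Cfsg.IsPiHallOf π K M) (hKL : K ≤ L) (hLM : L ≤ M)
    (hL : ∀ p : ℕ, p.Prime → p ∣ Nat.card L → p ∈ π) : K = L := by
  apply le_antisymm hKL
  have h1 : K.relIndex L = 1 := by
    by_contra hne
    obtain ⟨p, hp, hpd⟩ := Nat.exists_prime_and_dvd hne
    have h2 : p ∣ Nat.card L := hpd.trans (Subgroup.relIndex_dvd_card K L)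
    exact hK.2.2 p hp (hL p hp h2)
      (hpd.trans (Dvd.intro _ (Subgroup.relIndex_mul_relIndex K L M hKL hLM)))
  exact Subgroup.relIndex_eq_one.mp h1

variable [Finite G] {M E E1 E3 : Subgroup G}

namespace TypeP'

/-- `T = C_{M_σ}(E) ≤ M_σ'`. -/
theorem T_le_commutator (t : TypeP M E E1 E3) :
    Cfsg.sigmaCore M ⊓ Subgroup.centralizer (E : Set G) ≤
      ⁅Cfsg.sigmaCore M, Cfsg.sigmaCore M⁆ :=
  (Cfsg.Agent.S1426.result t.c.hG M t.c.hM E t.c.hE).1

/-- `E` is not abelian. -/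
theorem E_not_comm (t : TypeP M E E1 E3) : ¬ IsMulCommutative ↥E := by
  intro hc
  apply t.c.hE3ne
  rw [eq_bot_iff]
  refine t.c.E3_le_commutator.trans (le_of_eq ?_)
  rw [Subgroup.commutator_eq_bot_iff_le_centralizer]
  intro a ha
  rw [Subgroup.mem_centralizer_iff]
  intro b hb
  have := mul_comm' (⟨b, hb⟩ : ↥E) ⟨a, ha⟩
  exact congrArg Subtype.val this

/-- `E` is not nilpotent (S1420(a)). -/
theorem E_not_nilpotent (t : TypeP M E E1 E3) : ¬ Group.IsNilpotent ↥E := by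
  intro hn
  apply E_not_comm t
  apply (Cfsg.Agent.S1420.result t.c.hG M t.c.hM E t.c.hE).1 E t.c.hEM hn
  intro p hp hd
  exact not_sigma_of_dvd t hp hd

section partner

variable {X H Y : Subgroup G}

/-- `Y ≤ T` of prime order: `|Y| ∉ σ(H)`, `|Y| ∉ τ₂(H)`, `|Y| ∈ κ(H)`. -/
theorem card_Y_mem_kappa (t : TypeP M E E1 E3) (hXE : X ≤ E) (hXp : (Nat.card X).Prime)
    (hH : IsCoatom H) (hNH : Subgroup.normalizer (X : Set G) ≤ H)
    (hYT : Y ≤ Cfsg.sigmaCore M ⊓ Subgroup.centralizer (E : Set G))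
    (hYq : (Nat.card Y).Prime) :
    Nat.card Y ∉ Cfsg.sigma H ∧ Nat.card Y ∉ Cfsg.tau2 H ∧ Nat.card Y ∈ Cfsg.kappa H := by
  have hX1 : X ≠ ⊥ := by
    intro h0
    rw [h0, Subgroup.card_bot] at hXp
    exact Nat.not_prime_one hXp
  obtain ⟨x, hx, hx1⟩ := (Subgroup.bot_or_exists_ne_one _).resolve_left hX1
  refine Cfsg.Agent.Lib.Helper24.BGC2C.mem_kappa_of_le_commutator t.c.hG t.c.hM hH
    (nonconj t hXE hXp hH hNH) hYq rfl (hYT.trans (T_le_commutator t))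
    (hYT.trans (T_le t hXE hNH)) (X_le_sigmaCore t hXE hXp hH hNH hx) hx1 ?_
  intro y hy
  exact (Subgroup.mem_centralizer_iff.mp (hYT hy).2 x (hXE hx)).symm

/-- `N_G(Y) ≤ M` for `Y ≤ T` of prime order. -/
theorem normalizer_Y_le (t : TypeP M E E1 E3)
    (hYT : Y ≤ Cfsg.sigmaCore M ⊓ Subgroup.centralizer (E : Set G))
    (hYq : (Nat.card Y).Prime) : Subgroup.normalizer (Y : Set G) ≤ M :=
  Cfsg.Agent.Lib.Helper24.BGC2C.normalizer_le_of_le_commutator t.c.hG t.c.hM hYq rfl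
    (hYT.trans (T_le_commutator t))

/-- `N_H(Y) ≤ Z = E T`. -/
theorem inf_normalizer_Y_le (t : TypeP M E E1 E3) (hXE : X ≤ E) (hXp : (Nat.card X).Prime)
    (hH : IsCoatom H) (hNH : Subgroup.normalizer (X : Set G) ≤ H)
    (hYT : Y ≤ Cfsg.sigmaCore M ⊓ Subgroup.centralizer (E : Set G))
    (hYq : (Nat.card Y).Prime) :
    H ⊓ Subgroup.normalizer (Y : Set G) ≤
      E ⊔ (Cfsg.sigmaCore M ⊓ Subgroup.centralizer (E : Set G)) := by
  rw [← inf_eq t hXE hXp hH hNH]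
  exact le_inf (inf_le_right.trans (normalizer_Y_le t hYT hYq)) inf_le_left

/-- `E ≤ C_G(Y)`. -/
theorem E_le_centralizer_Y (t : TypeP M E E1 E3)
    (hYT : Y ≤ Cfsg.sigmaCore M ⊓ Subgroup.centralizer (E : Set G)) :
    E ≤ Subgroup.centralizer (Y : Set G) := by
  intro e he
  rw [Subgroup.mem_centralizer_iff]
  intro y hy
  exact (Subgroup.mem_centralizer_iff.mp (hYT hy).2 e he).symm

/-- the irregular case: `H` is itself of type (P). -/
theorem compl_irregular (t : TypeP M E E1 E3) (hF : NoF G) (hXE : X ≤ E)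
    (hXp : (Nat.card X).Prime) (hH : IsCoatom H)
    (hNH : Subgroup.normalizer (X : Set G) ≤ H)
    (hYT : Y ≤ Cfsg.sigmaCore M ⊓ Subgroup.centralizer (E : Set G))
    (hYq : (Nat.card Y).Prime) {EH : Subgroup G}
    (hEH : Cfsg.IsComplIn EH (Cfsg.sigmaCore H) H) (hYEH : Y ≤ EH) {s : ℕ}
    (hsκ : s ∈ Cfsg.kappa H) (hs3 : s ∈ Cfsg.tau3 H) :
    EH ≤ E ⊔ (Cfsg.sigmaCore M ⊓ Subgroup.centralizer (E : Set G)) ∧
      (∀ x ∈ EH, x ≠ 1 → Cfsg.sigmaCore H ⊓ Subgroup.centralizer ({x} : Set G) =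
        Cfsg.sigmaCore H ⊓ Subgroup.centralizer (EH : Set G)) ∧
      ∀ r : ℕ, r ∉ Cfsg.tau2 H := by
  have hG := t.c.hG
  haveI : Group.IsSolvable ↥H := hG.2.2.2 H hH.1
  haveI : Group.IsSolvable ↥EH :=
    Group.isSolvable_of_isSolvable_injective (Subgroup.inclusion_injective hEH.1)
  have hbot : ∀ π : Set ℕ, ∀ p : ℕ, p.Prime → p ∣ Nat.card (⊥ : Subgroup G) → p ∈ π := by
    intro π p hp hd
    rw [Subgroup.card_bot] at hd
    exact absurd (Nat.dvd_one.mp hd) hp.one_lt.ne'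
  obtain ⟨F1, hF1, -⟩ := Cfsg.Agent.Lib.Helper16.BGPrim.exists_hall_ge' (Cfsg.tau1 H)
    (bot_le : (⊥ : Subgroup G) ≤ EH) (hbot _)
  obtain ⟨F3, hF3, -⟩ := Cfsg.Agent.Lib.Helper16.BGPrim.exists_hall_ge' (Cfsg.tau3 H)
    (bot_le : (⊥ : Subgroup G) ≤ EH) (hbot _)
  have c := Cfsg.Agent.Lib.Helper24.BGC2T.caseII_of_compl hG t.c.h28 hH hsκ hs3 hEH hF1 hF3
  have t' := Cfsg.Agent.Lib.Helper24.BGC2T.typeP_of_not_faithful c (fun hf => hF H EH F1 F3 c hf)
  refine ⟨?_, ?_, c.tau2_empty⟩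
  · refine le_trans (le_inf hEH.1 (t'.le_normalizer_prime hYEH hYq))
      (inf_normalizer_Y_le t hXE hXp hH hNH hYT hYq)
  · intro x hx hx1
    rw [t'.cent_elem hx hx1, t'.cent_E]

/-- the regular case: `H` is P1 (S1429) and `E_H` is a Hall `κ(H)`-subgroup. -/
theorem compl_regular (t : TypeP M E E1 E3) (hXE : X ≤ E)
    (hXp : (Nat.card X).Prime) (hH : IsCoatom H)
    (hNH : Subgroup.normalizer (X : Set G) ≤ H)
    (hYT : Y ≤ Cfsg.sigmaCore M ⊓ Subgroup.centralizer (E : Set G))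
    (hYq : (Nat.card Y).Prime) {EH : Subgroup G}
    (hEH : Cfsg.IsComplIn EH (Cfsg.sigmaCore H) H) (hYEH : Y ≤ EH)
    (hreg : ∀ s : ℕ, s ∈ Cfsg.kappa H → s ∉ Cfsg.tau3 H) :
    EH ≤ E ⊔ (Cfsg.sigmaCore M ⊓ Subgroup.centralizer (E : Set G)) ∧
      (∀ x ∈ EH, x ≠ 1 → Cfsg.sigmaCore H ⊓ Subgroup.centralizer ({x} : Set G) =
        Cfsg.sigmaCore H ⊓ Subgroup.centralizer (EH : Set G)) ∧
      ∀ r : ℕ, r ∉ Cfsg.tau2 H := by
  have hG := t.c.hG
  have h28 := t.c.h28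
  have h28' : H28 H := fun E' hE' p hp P hPE hP R hRE hR =>
    h28 H hH E' hE' p hp P hPE hP R hRE hR
  have hR' : CorR H := Cfsg.Agent.Lib.Helper17.BGC2.corR hG h28 hH
  have hG1' : CorG1 H := Cfsg.Agent.Lib.Helper17.BGC2.corG1 hG h28 hH
  obtain ⟨hqσ, hqτ2, hqκ⟩ := card_Y_mem_kappa t hXE hXp hH hNH hYT hYq
  have hYH : Y ≤ H := hYT.trans (T_le t hXE hNH)
  have hY1 : Y ≠ ⊥ := by
    intro h0
    rw [h0, Subgroup.card_bot] at hYq
    exact Nat.not_prime_one hYq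
  -- `H` is P1
  have hP1 : ∀ q : ℕ, q.Prime → q ∣ Nat.card H → q ∉ Cfsg.sigma H → q ∈ Cfsg.kappa H := by
    by_contra hP1
    obtain ⟨K, hK, hYK⟩ := Cfsg.Agent.Lib.Helper2.BGCor.exists_hall_ge hG hH (Cfsg.kappa H) hYH
      (fun p hp hd => by rw [(Nat.prime_dvd_prime_iff_eq hp hYq).mp hd]; exact hqκ)
    have hK1 : K ≠ ⊥ := fun h0 => hY1 (eq_bot_iff.mpr (h0 ▸ hYK))
    have h142 := Cfsg.Agent.Lib.Helper2.BGCor.s1430_of_kappa_tau3_empty hG hH h28' hR' hG1' hreg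
      hK hK1
    have hKc : IsCyclic ↥K :=
      (Cfsg.Agent.Lib.Helper2.BGCor.s1351_of_kappa_tau3_empty hG hH h28' hreg).2 K hK
    have hN := (h142.2.2 Y hYK hYq).1
    have hP1' := hP1
    push Not at hP1'
    obtain ⟨q', hq', hq'H, hq'σ, hq'κ⟩ := hP1'
    haveI : Fact q'.Prime := ⟨hq'⟩
    have hnil : Group.IsNilpotent ↥(Cfsg.sigmaCore H) :=
      (Cfsg.Agent.S1429.result hG H hH hP1 q' hq'H
        (by rintro (h | h); exacts [hq'σ h, hq'κ h]) default).2.2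
    apply E_not_nilpotent t
    have hKn : Group.IsNilpotent ↥K := by
      letI := IsCyclic.commGroup (α := ↥K)
      infer_instance
    have hKsn : Group.IsNilpotent ↥(Cfsg.sigmaCore H ⊓ Subgroup.centralizer (K : Set G)) :=
      nilp_of_le inf_le_left hnil
    have hW := nilp_sup_of_commute hKn hKsn
      (fun a ha b hb => Subgroup.mem_centralizer_iff.mp hb.2 a ha)
    refine nilp_of_le ?_ hW
    rw [← hN]
    exact le_inf (E_le t hXE hXp hNH)
      ((E_le_centralizer_Y t hYT).trans (Subgroup.centralizer_le_normalizer _))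
  -- `E_H` is a Hall `κ(H)`-subgroup
  have hEHκ : ∀ p : ℕ, p.Prime → p ∣ Nat.card EH → p ∈ Cfsg.kappa H := by
    intro p hp hd
    apply hP1 p hp (hd.trans (Subgroup.card_dvd_of_le hEH.1))
    intro hσ
    have h1 := Cfsg.Agent.Lib.Helper24.BGC2C.coprime_card_of_le_compl' hG hH hEH (le_refl EH) hσ
    exact hp.one_lt.ne' (Nat.eq_one_of_dvd_coprimes h1 hd (dvd_refl p))
  have hEHhall : Cfsg.IsPiHallOf (Cfsg.kappa H) EH H := by
    refine ⟨hEH.1, hEHκ, fun p hp hpκ hd => ?_⟩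
    rw [Cfsg.Agent.Lib.Helper2.BGCor.relIndex_compl hEH] at hd
    exact hpκ.2.2.1 (Cfsg.Agent.Lib.Helper2.BGCor.primes_card_sigmaCore H p hp hd)
  have hEH1 : EH ≠ ⊥ := fun h0 => hY1 (eq_bot_iff.mpr (h0 ▸ hYEH))
  have h142 := Cfsg.Agent.Lib.Helper2.BGCor.s1430_of_kappa_tau3_empty hG hH h28' hR' hG1' hreg
    hEHhall hEH1
  refine ⟨?_, h142.1, ?_⟩
  · have hN := (h142.2.2 Y hYEH hYq).1
    refine le_trans ?_ (inf_normalizer_Y_le t hXE hXp hH hNH hYT hYq)
    rw [hN]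
    exact le_sup_left
  · intro r hr
    obtain ⟨hrp, hrσ, -, hr1⟩ := hr
    exact hr1 (Cfsg.Agent.Lib.Helper2.BGCor.pRankLE_one_of_kappa
      (hP1 r hrp (dvd_card_of_not_pRankLE_one hrp hr1) hrσ))

/-- **structure of a partner**: for `Y ≤ T` of prime order and a complement `E_H ∋ Y` of `H_σ`
in `H`: `E_H ≤ Z = E T`, `E_H` has prime action on `H_σ`, and `τ₂(H) = ∅`. -/
theorem compl_le (t : TypeP M E E1 E3) (hF : NoF G) (hXE : X ≤ E)
    (hXp : (Nat.card X).Prime) (hH : IsCoatom H)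
    (hNH : Subgroup.normalizer (X : Set G) ≤ H)
    (hYT : Y ≤ Cfsg.sigmaCore M ⊓ Subgroup.centralizer (E : Set G))
    (hYq : (Nat.card Y).Prime) {EH : Subgroup G}
    (hEH : Cfsg.IsComplIn EH (Cfsg.sigmaCore H) H) (hYEH : Y ≤ EH) :
    EH ≤ E ⊔ (Cfsg.sigmaCore M ⊓ Subgroup.centralizer (E : Set G)) ∧
      (∀ x ∈ EH, x ≠ 1 → Cfsg.sigmaCore H ⊓ Subgroup.centralizer ({x} : Set G) =
        Cfsg.sigmaCore H ⊓ Subgroup.centralizer (EH : Set G)) ∧
      ∀ r : ℕ, r ∉ Cfsg.tau2 H := by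
  by_cases hreg : ∀ s : ℕ, s ∈ Cfsg.kappa H → s ∉ Cfsg.tau3 H
  · exact compl_regular t hXE hXp hH hNH hYT hYq hEH hYEH hreg
  · push Not at hreg
    obtain ⟨s, hsκ, hs3⟩ := hreg
    exact compl_irregular t hF hXE hXp hH hNH hYT hYq hEH hYEH hsκ hs3

end partner

end TypeP'

end Cfsg.Agent.Lib.Helper8.BGPS
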