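/-
helper8: structure part of the (P)-kill.  Part C: the per-member facts in the shape of the fields of
helper27's `false_of_finset`: orders, `Z ⊓ H_σ ≤ E`, good elements, `H ⊓ H' ≤ Z`, `3|A| ≤ |H_σ|`.
-/
import Mathlib
import Cfsg.Agent.Lib.Helper8.BGPSB

set_option autoImplicit false
set_option linter.unusedSectionVars false
set_option linter.unusedVariables false
set_option linter.style.haveILetI false

namespace Cfsg.Agent.Lib.Helper8.BGPS

open Cfsg.Agent.Lib.Helper17.BGC2 (CaseII FaithfulPair)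
open Cfsg.Agent.Lib.Helper24.BGC2T (TypeP)
open Cfsg.Agent.Lib.Helper8 (mem_map_conj conj_mem_map_conj map_conj_map_conj map_conj_one
  map_conj_le_iff map_conj_eq_iff card_map_conj mem_normalizer_iff_map_conj IsSylIn)

universe u

variable {G : Type u} [Group G]

/-! ### general lemmas -/

/-- elements of the join of two elementwise commuting subgroups. -/
theorem exists_mul_of_mem_sup_of_commute {A B : Subgroup G}
    (hc : ∀ a ∈ A, ∀ b ∈ B, a * b = b * a) {z : G} (hz : z ∈ A ⊔ B) :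
    ∃ a ∈ A, ∃ b ∈ B, z = a * b := by
  have hnorm : B ≤ Subgroup.normalizer (A : Set G) := by
    refine le_trans ?_ (Subgroup.centralizer_le_normalizer _)
    intro b hb
    rw [Subgroup.mem_centralizer_iff]
    intro a ha
    exact hc a ha b hb
  rw [← SetLike.mem_coe, Subgroup.coe_mul_of_right_le_normalizer_left A B hnorm,
    Set.mem_mul] at hz
  obtain ⟨a, ha, b, hb, rfl⟩ := hz
  exact ⟨a, ha, b, hb, rfl⟩

/-- the order of the join of two elementwise commuting subgroups meeting trivially. -/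
theorem card_sup_of_commute {A B : Subgroup G}
    (hc : ∀ a ∈ A, ∀ b ∈ B, a * b = b * a) (hd : A ⊓ B = ⊥) :
    Nat.card ↥(A ⊔ B) = Nat.card A * Nat.card B := by
  have hnorm : B ≤ Subgroup.normalizer (A : Set G) := by
    refine le_trans ?_ (Subgroup.centralizer_le_normalizer _)
    intro b hb
    rw [Subgroup.mem_centralizer_iff]
    intro a ha
    exact hc a ha b hb
  exact (Cfsg.Agent.Lib.Helper1.isComplIn_sup hnorm (disjoint_iff.mpr hd)).card_mul_card.symm

/-- a complement contained in `Z`: the orders. -/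
theorem card_mul_of_compl_le {M E Z : Subgroup G}
    (hE : Cfsg.IsComplIn E (Cfsg.sigmaCore M) M) (hEZ : E ≤ Z) (hZM : Z ≤ M) :
    Nat.card M * Nat.card ↥(Z ⊓ Cfsg.sigmaCore M) = Nat.card (Cfsg.sigmaCore M) * Nat.card Z := by
  have hc : Cfsg.IsComplIn E (Z ⊓ Cfsg.sigmaCore M) Z := by
    refine ⟨hEZ, inf_le_left, ?_, ?_⟩
    · rw [eq_bot_iff, ← hE.2.2.1]
      exact inf_le_inf_left _ inf_le_right
    · intro z hz
      obtain ⟨a, ha, b, hb, rfl⟩ := hE.2.2.2 z (hZM hz)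
      refine ⟨a, ha, b, Subgroup.mem_inf.mpr ⟨?_, hb⟩, rfl⟩
      have : b = a⁻¹ * (a * b) := by group
      rw [this]
      exact Z.mul_mem (Z.inv_mem (hEZ ha)) hz
  rw [← card_complIn hE, ← card_complIn hc]
  ring

/-- an element commuting with `a` centralizes the subgroup generated by a power of `a`. -/
theorem centralizer_singleton_le_centralizer_zpowers_pow (a : G) (k : ℕ) :
    Subgroup.centralizer ({a} : Set G) ≤
      Subgroup.centralizer ((Subgroup.zpowers (a ^ k) : Subgroup G) : Set G) := by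
  intro g hg
  rw [Subgroup.mem_centralizer_singleton_iff] at hg
  rw [Subgroup.mem_centralizer_iff]
  intro y hy
  obtain ⟨n, rfl⟩ := Subgroup.mem_zpowers_iff.mp hy
  have h1 : Commute a g := hg.symm
  exact ((h1.pow_left k).zpow_left n).eq

variable [Finite G] {M E E1 E3 : Subgroup G}

namespace TypeP'

/-- `E` and `T` commute elementwise. -/
theorem comm_E_T (t : TypeP M E E1 E3) : ∀ e ∈ E,
    ∀ b ∈ Cfsg.sigmaCore M ⊓ Subgroup.centralizer (E : Set G), e * b = b * e :=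
  fun e he b hb => Subgroup.mem_centralizer_iff.mp hb.2 e he

/-- `E ∩ T = 1`. -/
theorem E_inf_T (t : TypeP M E E1 E3) :
    E ⊓ (Cfsg.sigmaCore M ⊓ Subgroup.centralizer (E : Set G)) = ⊥ := by
  rw [eq_bot_iff, ← t.c.hE.2.2.1]
  exact inf_le_inf_left _ inf_le_left

/-- `T ≠ 1`. -/
theorem T_ne_bot (t : TypeP M E E1 E3) :
    Cfsg.sigmaCore M ⊓ Subgroup.centralizer (E : Set G) ≠ ⊥ := by
  rw [t.cent_E]
  exact t.c.hT3

/-- `Z = E T ≤ M`. -/
theorem Z_le (t : TypeP M E E1 E3) :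
    E ⊔ (Cfsg.sigmaCore M ⊓ Subgroup.centralizer (E : Set G)) ≤ M :=
  sup_le t.c.hEM (inf_le_left.trans (Cfsg.Agent.Lib.Helper2.BGCor.sigmaCore_le M))

/-- `Z ∩ M_σ = T`. -/
theorem Z_inf_sigmaCore (t : TypeP M E E1 E3) :
    (E ⊔ (Cfsg.sigmaCore M ⊓ Subgroup.centralizer (E : Set G))) ⊓ Cfsg.sigmaCore M =
      Cfsg.sigmaCore M ⊓ Subgroup.centralizer (E : Set G) := by
  apply le_antisymm
  · intro z hz
    obtain ⟨e, he, b, hb, rfl⟩ := exists_mul_of_mem_sup_of_commute (comm_E_T t) hz.1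
    have he1 : e ∈ E ⊓ Cfsg.sigmaCore M := by
      refine Subgroup.mem_inf.mpr ⟨he, ?_⟩
      have : e = e * b * b⁻¹ := by group
      rw [this]
      exact Subgroup.mul_mem _ hz.2 (Subgroup.inv_mem _ hb.1)
    rw [t.c.hE.2.2.1, Subgroup.mem_bot] at he1
    rw [he1, one_mul]
    exact hb
  · exact le_inf le_sup_right inf_le_left

/-- the members of `T^#` are good for `M`. -/
theorem good_M (t : TypeP M E E1 E3) {a : G}
    (ha : a ∈ Cfsg.sigmaCore M ⊓ Subgroup.centralizer (E : Set G)) (ha1 : a ≠ 1) :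
    Subgroup.centralizer ({a} : Set G) ≤ M := by
  obtain ⟨p, k, hp, -, hk⟩ := Cfsg.Agent.Lib.Helper16.BGPrim.exists_pow_orderOf_prime ha1
  have hYT : Subgroup.zpowers (a ^ k) ≤
      Cfsg.sigmaCore M ⊓ Subgroup.centralizer (E : Set G) :=
    Subgroup.zpowers_le.mpr (Subgroup.pow_mem _ ha k)
  have hYq : (Nat.card (Subgroup.zpowers (a ^ k))).Prime := by
    rw [Nat.card_zpowers, hk]
    exact hp
  exact (centralizer_singleton_le_centralizer_zpowers_pow a k).trans
    ((Subgroup.centralizer_le_normalizer _).trans (normalizer_Y_le t hYT hYq))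

section partner

variable {X H : Subgroup G}

/-- `Z ≤ H`. -/
theorem Z_le_H (t : TypeP M E E1 E3) (hXE : X ≤ E) (hXp : (Nat.card X).Prime)
    (hNH : Subgroup.normalizer (X : Set G) ≤ H) :
    E ⊔ (Cfsg.sigmaCore M ⊓ Subgroup.centralizer (E : Set G)) ≤ H :=
  sup_le (E_le t hXE hXp hNH) (T_le t hXE hNH)

/-- `M_σ ∩ H_σ = 1`. -/
theorem sigmaCore_inf_sigmaCore (t : TypeP M E E1 E3) (hXE : X ≤ E)
    (hXp : (Nat.card X).Prime) (hH : IsCoatom H)
    (hNH : Subgroup.normalizer (X : Set G) ≤ H) :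
    Cfsg.sigmaCore M ⊓ Cfsg.sigmaCore H = ⊥ :=
  sigmaCore_inf_sigmaCore_eq_bot (fun _ hq => sigma_disjoint t hXE hXp hH hNH hq)

/-- `Z ∩ H_σ ≤ E`. -/
theorem Z_inf_sigmaCore_H_le (t : TypeP M E E1 E3) (hXE : X ≤ E)
    (hXp : (Nat.card X).Prime) (hH : IsCoatom H)
    (hNH : Subgroup.normalizer (X : Set G) ≤ H) :
    (E ⊔ (Cfsg.sigmaCore M ⊓ Subgroup.centralizer (E : Set G))) ⊓ Cfsg.sigmaCore H ≤ E := by
  intro z hz
  obtain ⟨e, he, b, hb, rfl⟩ := exists_mul_of_mem_sup_of_commute (comm_E_T t) hz.1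
  have hcomm : Commute e b := comm_E_T t e he b hb
  have h1 : (e * b) ^ Nat.card E = b ^ Nat.card E := by
    rw [hcomm.mul_pow]
    have : e ^ Nat.card E = 1 := by
      have := pow_card_eq_one' (G := ↥E) (x := ⟨e, he⟩)
      exact congrArg Subtype.val this
    rw [this, one_mul]
  have h2 : b ^ Nat.card E ∈ Cfsg.sigmaCore M ⊓ Cfsg.sigmaCore H := by
    refine Subgroup.mem_inf.mpr ⟨Subgroup.pow_mem _ hb.1 _, ?_⟩
    rw [← h1]
    exact Subgroup.pow_mem _ hz.2 _
  rw [sigmaCore_inf_sigmaCore t hXE hXp hH hNH, Subgroup.mem_bot] at h2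
  have h3 : orderOf b ∣ Nat.card E := orderOf_dvd_of_pow_eq_one h2
  have h4 : orderOf b ∣ Nat.card (Cfsg.sigmaCore M) := by
    have := orderOf_dvd_natCard (⟨b, hb.1⟩ : ↥(Cfsg.sigmaCore M))
    rwa [Subgroup.orderOf_mk] at this
  have h5 : orderOf b = 1 := Nat.eq_one_of_dvd_coprimes
    (Cfsg.Agent.Lib.Helper17.BGC2.coprime_compl t.c.hG t.c.hM t.c.hE) h3 h4
  rw [orderOf_eq_one_iff.mp h5, mul_one]
  exact he

/-- the members of `(Z ∩ H_σ)^#` are good for `H`. -/
theorem good_H (t : TypeP M E E1 E3) (hXE : X ≤ E)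
    (hXp : (Nat.card X).Prime) (hH : IsCoatom H)
    (hNH : Subgroup.normalizer (X : Set G) ≤ H) {a : G}
    (ha : a ∈ (E ⊔ (Cfsg.sigmaCore M ⊓ Subgroup.centralizer (E : Set G))) ⊓ Cfsg.sigmaCore H)
    (ha1 : a ≠ 1) : Subgroup.centralizer ({a} : Set G) ≤ H := by
  haveI := t.c.hG.2.1
  have haE : a ∈ E := Z_inf_sigmaCore_H_le t hXE hXp hH hNH ha
  obtain ⟨p, k, hp, -, hk⟩ := Cfsg.Agent.Lib.Helper16.BGPrim.exists_pow_orderOf_prime ha1
  set X' : Subgroup G := Subgroup.zpowers (a ^ k) with hX'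
  have hX'E : X' ≤ E := Subgroup.zpowers_le.mpr (Subgroup.pow_mem _ haE k)
  have hX'c : Nat.card X' = p := by rw [hX', Nat.card_zpowers, hk]
  have hX'p : (Nat.card X').Prime := hX'c ▸ hp
  have hX'σ : X' ≤ Cfsg.sigmaCore H := Subgroup.zpowers_le.mpr (Subgroup.pow_mem _ ha.2 k)
  have hσ : Nat.card X' ∈ Cfsg.sigma H :=
    Cfsg.Agent.Lib.Helper2.BGCor.primes_card_sigmaCore H _ hX'p (Subgroup.card_dvd_of_le hX'σ)
  have hX'1 : X' ≠ ⊥ := by
    intro h0
    rw [h0, Subgroup.card_bot] at hX'p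
    exact Nat.not_prime_one hX'p
  have hX'top : X' ≠ ⊤ := fun h => t.c.hM.1 (top_le_iff.mp (h ▸ hX'E.trans t.c.hEM))
  obtain ⟨H', hH', hNH'⟩ := Cfsg.Agent.Lib.Helper17.BGU.exists_coatom_ge
    (Cfsg.Agent.Lib.Helper17.BGU.normalizer_ne_top hX'1 hX'top)
  have hHH' : H' = H := unique t hXE hXp hH hNH hX'E hX'p hH' hNH' hσ
  rw [hHH'] at hNH'
  exact (centralizer_singleton_le_centralizer_zpowers_pow a k).trans
    ((Subgroup.centralizer_le_normalizer _).trans hNH')

end partner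

end TypeP'

end Cfsg.Agent.Lib.Helper8.BGPS
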