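/-
helper8: structure part of the (P)-kill.  Part D: complements of partners inside `Z`, `H ⊓ H' ≤ Z`
for distinct partners, the primes of `Z`, and the final assembly with helper27's `false_of_finset`:
Case II of type (P) is impossible; hence Case II is impossible and `κ(M) ∩ τ₃(M) = ∅`.
-/
import Mathlib
import Cfsg.Agent.Lib.Helper8.BGPSC
import Cfsg.Agent.Lib.Helper27.BGPCountD
import Cfsg.Agent.Lib.Helper20.BGFinC

set_option autoImplicit false
set_option linter.unusedSectionVars false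
set_option linter.unusedVariables false
set_option linter.style.haveILetI false

namespace Cfsg.Agent.Lib.Helper8.BGPS

open Cfsg.Agent.Lib.Helper17.BGC2 (CaseII FaithfulPair)
open Cfsg.Agent.Lib.Helper24.BGC2T (TypeP)
open Cfsg.Agent.Lib.Helper8 (mem_map_conj conj_mem_map_conj map_conj_map_conj map_conj_one
  map_conj_le_iff map_conj_eq_iff card_map_conj mem_normalizer_iff_map_conj IsSylIn)

universe u

variable {G : Type u} [Group G] [Finite G] {M E E1 E3 : Subgroup G}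

namespace TypeP'

/-- an element of prime order of `T`. -/
theorem exists_prime_order_T (t : TypeP M E E1 E3) :
    ∃ y ∈ Cfsg.sigmaCore M ⊓ Subgroup.centralizer (E : Set G), (orderOf y).Prime := by
  have h1 : Nat.card ↥(Cfsg.sigmaCore M ⊓ Subgroup.centralizer (E : Set G)) ≠ 1 := by
    intro h
    exact T_ne_bot t (Subgroup.card_eq_one.mp h)
  obtain ⟨p, hp, hpd⟩ := Nat.exists_prime_and_dvd h1
  haveI : Fact p.Prime := ⟨hp⟩
  obtain ⟨y, hy⟩ := exists_prime_orderOf_dvd_card' p hpd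
  exact ⟨(y : G), y.2, by rw [Subgroup.orderOf_coe, hy]; exact hp⟩

section partner

variable {X H : Subgroup G}

/-- a prime outside `σ(H)` is prime to `|H_σ|`. -/
theorem coprime_card_sigmaCore {H : Subgroup G} {q : ℕ} (hq : q.Prime) (hqσ : q ∉ Cfsg.sigma H) :
    q.Coprime (Nat.card (Cfsg.sigmaCore H)) :=
  (Nat.Prime.coprime_iff_not_dvd hq).mpr
    (fun hd => hqσ (Cfsg.Agent.Lib.Helper2.BGCor.primes_card_sigmaCore H q hq hd))

/-- a complement of `H_σ` in `H` contained in `Z`; `τ₂(H) = ∅`. -/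
theorem exists_compl_le (t : TypeP M E E1 E3) (hF : NoF G) (hXE : X ≤ E)
    (hXp : (Nat.card X).Prime) (hH : IsCoatom H)
    (hNH : Subgroup.normalizer (X : Set G) ≤ H) :
    ∃ EH : Subgroup G, Cfsg.IsComplIn EH (Cfsg.sigmaCore H) H ∧
      EH ≤ E ⊔ (Cfsg.sigmaCore M ⊓ Subgroup.centralizer (E : Set G)) ∧
      ∀ r : ℕ, r ∉ Cfsg.tau2 H := by
  obtain ⟨y, hyT, hyo⟩ := exists_prime_order_T t
  have hYT : Subgroup.zpowers y ≤ Cfsg.sigmaCore M ⊓ Subgroup.centralizer (E : Set G) :=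
    Subgroup.zpowers_le.mpr hyT
  have hYq : (Nat.card (Subgroup.zpowers y)).Prime := by rw [Nat.card_zpowers]; exact hyo
  have hq := card_Y_mem_kappa t hXE hXp hH hNH hYT hYq
  obtain ⟨EH, hEH, hYEH⟩ := Cfsg.Agent.Lib.Helper17.BGC2.exists_compl_ge t.c.hG hH
    (hYT.trans (T_le t hXE hNH)) (coprime_card_sigmaCore hYq hq.1)
  obtain ⟨h1, -, h3⟩ := compl_le t hF hXE hXp hH hNH hYT hYq hEH hYEH
  exact ⟨EH, hEH, h1, h3⟩

/-- `H_σ ≰ Z`. -/
theorem not_sigmaCore_H_le (t : TypeP M E E1 E3) (hF : NoF G) (hXE : X ≤ E)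
    (hXp : (Nat.card X).Prime) (hH : IsCoatom H)
    (hNH : Subgroup.normalizer (X : Set G) ≤ H) :
    ¬ Cfsg.sigmaCore H ≤ E ⊔ (Cfsg.sigmaCore M ⊓ Subgroup.centralizer (E : Set G)) := by
  intro hle
  obtain ⟨EH, hEH, hEHZ, -⟩ := exists_compl_le t hF hXE hXp hH hNH
  have hHM : H ≤ M := by
    intro h hh
    obtain ⟨a, ha, b, hb, rfl⟩ := hEH.2.2.2 h hh
    exact M.mul_mem (Z_le t (hEHZ ha)) (Z_le t (hle hb))
  have hne : H ≠ M := by
    intro h
    apply nonconj t hXE hXp hH hNH 1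
    rw [map_conj_one, h]
  exact t.c.hM.1 (hH.2 M (lt_of_le_of_ne hHM hne))

/-- `M_σ ≰ Z`. -/
theorem not_sigmaCore_le (t : TypeP M E E1 E3) (hXE : X ≤ E)
    (hXp : (Nat.card X).Prime) (hH : IsCoatom H)
    (hNH : Subgroup.normalizer (X : Set G) ≤ H) :
    ¬ Cfsg.sigmaCore M ≤ E ⊔ (Cfsg.sigmaCore M ⊓ Subgroup.centralizer (E : Set G)) := by
  intro hle
  have hMH : M ≤ H := by
    intro m hm
    obtain ⟨a, ha, b, hb, rfl⟩ := t.c.hE.2.2.2 m hm
    exact H.mul_mem (E_le t hXE hXp hNH ha) (Z_le_H t hXE hXp hNH (hle hb))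
  have hne : M ≠ H := by
    intro h
    apply nonconj t hXE hXp hH hNH 1
    rw [map_conj_one, h]
  exact hH.1 (t.c.hM.2 H (lt_of_le_of_ne hMH hne))

/-- **distinct partners meet in `Z`**. -/
theorem partner_inf_le (t : TypeP M E E1 E3) (hF : NoF G) (hXE : X ≤ E)
    (hXp : (Nat.card X).Prime) (hH : IsCoatom H)
    (hNH : Subgroup.normalizer (X : Set G) ≤ H) {X' H' : Subgroup G}
    (hX'E : X' ≤ E) (hX'p : (Nat.card X').Prime) (hH' : IsCoatom H')
    (hNH' : Subgroup.normalizer (X' : Set G) ≤ H') (hne : H' ≠ H) :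
    H ⊓ H' ≤ E ⊔ (Cfsg.sigmaCore M ⊓ Subgroup.centralizer (E : Set G)) := by
  have hG := t.c.hG
  obtain ⟨y, hyT, hyo⟩ := exists_prime_order_T t
  set Y : Subgroup G := Subgroup.zpowers y with hY
  have hYT : Y ≤ Cfsg.sigmaCore M ⊓ Subgroup.centralizer (E : Set G) :=
    Subgroup.zpowers_le.mpr hyT
  have hYq : (Nat.card Y).Prime := by rw [hY, Nat.card_zpowers]; exact hyo
  have hy1 : y ≠ 1 := by
    intro h
    rw [h, orderOf_one] at hyo
    exact Nat.not_prime_one hyo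
  have hq := card_Y_mem_kappa t hXE hXp hH hNH hYT hYq
  have hp'σ : Nat.card X' ∉ Cfsg.sigma H :=
    fun hσ => hne (unique t hXE hXp hH hNH hX'E hX'p hH' hNH' hσ)
  -- `W = Y X'`
  have hcomm : ∀ a ∈ Y, ∀ b ∈ X', a * b = b * a :=
    fun a ha b hb => (comm_E_T t b (hX'E hb) a (hYT ha)).symm
  have hdisj : Y ⊓ X' = ⊥ := by
    rw [eq_bot_iff, ← E_inf_T t, inf_comm]
    exact inf_le_inf hX'E hYT
  have hWc : Nat.card ↥(Y ⊔ X') = Nat.card Y * Nat.card X' := card_sup_of_commute hcomm hdisj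
  have hWcop : (Nat.card ↥(Y ⊔ X')).Coprime (Nat.card (Cfsg.sigmaCore H)) := by
    rw [hWc]
    exact Nat.Coprime.mul_left (coprime_card_sigmaCore hYq hq.1) (coprime_card_sigmaCore hX'p hp'σ)
  have hWH : Y ⊔ X' ≤ H :=
    sup_le (hYT.trans (T_le t hXE hNH)) (hX'E.trans (E_le t hXE hXp hNH))
  obtain ⟨EH, hEH, hWEH⟩ := Cfsg.Agent.Lib.Helper17.BGC2.exists_compl_ge hG hH hWH hWcop
  obtain ⟨hEHZ, hpa, -⟩ := compl_le t hF hXE hXp hH hNH hYT hYq hEH (le_sup_left.trans hWEH)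
  -- a generator of `X'`
  have hX'1 : X' ≠ ⊥ := by
    intro h0
    rw [h0, Subgroup.card_bot] at hX'p
    exact Nat.not_prime_one hX'p
  obtain ⟨x', hx', hx'1⟩ := (Subgroup.bot_or_exists_ne_one _).resolve_left hX'1
  have hx'EH : x' ∈ EH := hWEH (Subgroup.mem_sup_right hx')
  have hyEH : y ∈ EH := hWEH (Subgroup.mem_sup_left (Subgroup.mem_zpowers y))
  have hx'H : x' ∈ H := hEH.1 hx'EH
  have hx'σ : x' ∈ Cfsg.sigmaCore H' := X_le_sigmaCore t hX'E hX'p hH' hNH' hx'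
  have hbot : Cfsg.sigmaCore H ⊓ Cfsg.sigmaCore H' = ⊥ :=
    sigmaCore_inf_sigmaCore_eq_bot
      (fun _ hq' => partner_sigma_disjoint t hXE hXp hH hNH hX'E hX'p hH' hNH' hne hq')
  -- `H_σ ∩ H' ≤ Z`
  have h1 : Cfsg.sigmaCore H ⊓ H' ≤
      E ⊔ (Cfsg.sigmaCore M ⊓ Subgroup.centralizer (E : Set G)) := by
    intro u hu
    have hc : u * x' * u⁻¹ * x'⁻¹ ∈ Cfsg.sigmaCore H ⊓ Cfsg.sigmaCore H' := by
      refine Subgroup.mem_inf.mpr ⟨?_, ?_⟩
      · have : u * x' * u⁻¹ * x'⁻¹ = u * (x' * u⁻¹ * x'⁻¹) := by group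
        rw [this]
        exact Subgroup.mul_mem _ hu.1
          (Cfsg.Agent.Lib.Helper2.BGCor.conj_mem_sigmaCore hx'H (Subgroup.inv_mem _ hu.1))
      · exact Subgroup.mul_mem _ (Cfsg.Agent.Lib.Helper2.BGCor.conj_mem_sigmaCore hu.2 hx'σ)
          (Subgroup.inv_mem _ hx'σ)
    rw [hbot, Subgroup.mem_bot] at hc
    have hux : x' * u = u * x' := by
      have : u * x' = (u * x' * u⁻¹ * x'⁻¹) * (x' * u) := by group
      rw [hc, one_mul] at this
      exact this.symm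
    have hu1 : u ∈ Cfsg.sigmaCore H ⊓ Subgroup.centralizer ({x'} : Set G) := by
      refine Subgroup.mem_inf.mpr ⟨hu.1, ?_⟩
      rw [Subgroup.mem_centralizer_singleton_iff]
      exact hux.symm
    rw [hpa x' hx'EH hx'1, ← hpa y hyEH hy1] at hu1
    apply inf_normalizer_Y_le t hXE hXp hH hNH hYT hYq
    refine Subgroup.mem_inf.mpr ⟨Cfsg.Agent.Lib.Helper2.BGCor.sigmaCore_le H hu.1, ?_⟩
    apply Subgroup.centralizer_le_normalizer
    have := centralizer_singleton_le_centralizer_zpowers_pow y 1 hu1.2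
    rwa [pow_one] at this
  -- Dedekind
  intro h hh
  obtain ⟨a, ha, b, hb, rfl⟩ := hEH.2.2.2 h hh.1
  have haZ := hEHZ ha
  have hbH' : b ∈ H' := by
    have : b = a⁻¹ * (a * b) := by group
    rw [this]
    exact H'.mul_mem (H'.inv_mem (Z_le_H t hX'E hX'p hNH' haZ)) hh.2
  exact Subgroup.mul_mem _ haZ (h1 (Subgroup.mem_inf.mpr ⟨hb, hbH'⟩))

end partner

end TypeP'

end Cfsg.Agent.Lib.Helper8.BGPS
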