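/-
helper8: structure part of the (P)-kill.  Part E: the family `F = {M} ∪ {partners}`, `Z = E T`, and
the final assembly with helper27's `false_of_finset`: Case II of type (P) is impossible; hence
Case II is impossible and `κ(M) ∩ τ₃(M) = ∅` for every maximal subgroup `M` (the Main Claim).
-/
import Mathlib
import Cfsg.Agent.Lib.Helper8.BGPSD

set_option autoImplicit false
set_option linter.unusedSectionVars false
set_option linter.unusedVariables false
set_option linter.style.haveILetI false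

namespace Cfsg.Agent.Lib.Helper8.BGPS

open Cfsg.Agent.Lib.Helper17.BGC2 (CaseII FaithfulPair)
open Cfsg.Agent.Lib.Helper24.BGC2T (TypeP)
open Cfsg.Agent.Lib.Helper8 (mem_map_conj conj_mem_map_conj map_conj_map_conj map_conj_one
  map_conj_le_iff map_conj_eq_iff card_map_conj mem_normalizer_iff_map_conj IsSylIn)

universe u

variable {G : Type u} [Group G] [Finite G] {M E E1 E3 : Subgroup G}

/-- the partners of `(M, E)`: the maximal subgroups containing `N_G(X)` for some `X ≤ E` of prime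
order. -/
def partners (E : Subgroup G) : Set (Subgroup G) :=
  {H | IsCoatom H ∧ ∃ X : Subgroup G, X ≤ E ∧ (Nat.card X).Prime ∧
    Subgroup.normalizer (X : Set G) ≤ H}

namespace TypeP'

/-- every subgroup of prime order of `E` has a partner. -/
theorem exists_partner (t : TypeP M E E1 E3) {X : Subgroup G} (hXE : X ≤ E)
    (hXp : (Nat.card X).Prime) : ∃ H : Subgroup G, IsCoatom H ∧
      Subgroup.normalizer (X : Set G) ≤ H := by
  haveI := t.c.hG.2.1
  have hX1 : X ≠ ⊥ := by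
    intro h0
    rw [h0, Subgroup.card_bot] at hXp
    exact Nat.not_prime_one hXp
  have hXtop : X ≠ ⊤ := fun h => t.c.hM.1 (top_le_iff.mp (h ▸ hXE.trans t.c.hEM))
  exact Cfsg.Agent.Lib.Helper17.BGU.exists_coatom_ge
    (Cfsg.Agent.Lib.Helper17.BGU.normalizer_ne_top hX1 hXtop)

/-- `E` has a subgroup of prime order. -/
theorem exists_prime_order_E (t : TypeP M E E1 E3) :
    ∃ X : Subgroup G, X ≤ E ∧ (Nat.card X).Prime := by
  obtain ⟨k, hk, hkp, -⟩ := t.c.exists_prime_order_E3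
  exact ⟨Subgroup.zpowers k, Subgroup.zpowers_le.mpr (t.c.hE3E hk), by
    rw [Nat.card_zpowers]; exact hkp⟩

/-- the primes of `|Z|`. -/
theorem primes_Z (t : TypeP M E E1 E3) {p : ℕ} (hp : p.Prime)
    (hd : p ∣ Nat.card ↥(E ⊔ (Cfsg.sigmaCore M ⊓ Subgroup.centralizer (E : Set G)))) :
    p ∈ Cfsg.sigma M ∨ ∃ H ∈ partners E, p ∈ Cfsg.sigma H := by
  haveI : Fact p.Prime := ⟨hp⟩
  rw [card_sup_of_commute (comm_E_T t) (E_inf_T t)] at hd
  rcases (Nat.Prime.dvd_mul hp).mp hd with h | h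
  · right
    obtain ⟨x, hx⟩ := exists_prime_orderOf_dvd_card' p h
    have hXE : Subgroup.zpowers (x : G) ≤ E := Subgroup.zpowers_le.mpr x.2
    have hXc : Nat.card (Subgroup.zpowers (x : G)) = p := by
      rw [Nat.card_zpowers, Subgroup.orderOf_coe, hx]
    have hXp : (Nat.card (Subgroup.zpowers (x : G))).Prime := hXc ▸ hp
    obtain ⟨H, hH, hNH⟩ := exists_partner t hXE hXp
    refine ⟨H, ⟨hH, _, hXE, hXp, hNH⟩, ?_⟩
    rw [← hXc]
    exact card_mem_sigma t hXE hXp hH hNH
  · left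
    exact Cfsg.Agent.Lib.Helper2.BGCor.primes_card_sigmaCore M p hp
      (h.trans (Subgroup.card_dvd_of_le inf_le_left))

/-- **Case II of type (P) is impossible** (the `n`-ary count of helper27). -/
theorem false (t : TypeP M E E1 E3) (hF : NoF G) : False := by
  classical
  have hG := t.c.hG
  have hM := t.c.hM
  set Z : Subgroup G := E ⊔ (Cfsg.sigmaCore M ⊓ Subgroup.centralizer (E : Set G)) with hZ
  set F : Finset (Subgroup G) := insert M (Set.toFinite (partners E)).toFinset with hFdef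
  have hmem : ∀ H : Subgroup G, H ∈ F ↔ H = M ∨ H ∈ partners E := by
    intro H
    rw [hFdef, Finset.mem_insert, Set.Finite.mem_toFinset]
  obtain ⟨X₀, hX₀E, hX₀p⟩ := exists_prime_order_E t
  obtain ⟨H₀, hH₀, hNH₀⟩ := exists_partner t hX₀E hX₀p
  have hne₀ : ∀ {H X : Subgroup G}, X ≤ E → (Nat.card X).Prime → IsCoatom H →
      Subgroup.normalizer (X : Set G) ≤ H → H ≠ M := by
    intro H X hXE hXp hH hNH h
    apply nonconj t hXE hXp hH hNH 1
    rw [map_conj_one, h]
  apply Cfsg.Agent.Lib.Helper27.BGPCount.false_of_finset hG F Z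
  · -- two
    exact ⟨M, (hmem M).mpr (Or.inl rfl), H₀, (hmem H₀).mpr (Or.inr ⟨hH₀, X₀, hX₀E, hX₀p, hNH₀⟩),
      (hne₀ hX₀E hX₀p hH₀ hNH₀).symm⟩
  · -- coatom
    intro H hH
    rcases (hmem H).mp hH with rfl | ⟨hH, -⟩
    · exact hM
    · exact hH
  · -- le
    intro H hH
    rcases (hmem H).mp hH with rfl | ⟨hH, X, hXE, hXp, hNH⟩
    · exact Z_le t
    · exact Z_le_H t hXE hXp hNH
  · -- card
    intro H hH
    rcases (hmem H).mp hH with rfl | ⟨hH, X, hXE, hXp, hNH⟩
    · exact card_mul_of_compl_le t.c.hE le_sup_left (Z_le t)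
    · obtain ⟨EH, hEH, hEHZ, -⟩ := exists_compl_le t hF hXE hXp hH hNH
      exact card_mul_of_compl_le hEH hEHZ (Z_le_H t hXE hXp hNH)
  · -- primes
    intro p hp hd
    rcases primes_Z t hp hd with h | ⟨H, hH, h⟩
    · exact ⟨M, (hmem M).mpr (Or.inl rfl), h⟩
    · exact ⟨H, (hmem H).mpr (Or.inr hH), h⟩
  · -- disj
    intro H hH H' hH' hne p hp
    rcases (hmem H).mp hH with rfl | ⟨hHc, X, hXE, hXp, hNH⟩
    · rcases (hmem H').mp hH' with rfl | ⟨hHc', X', hX'E, hX'p, hNH'⟩
      · exact absurd rfl hne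
      · exact sigma_disjoint t hX'E hX'p hHc' hNH' hp
    · rcases (hmem H').mp hH' with rfl | ⟨hHc', X', hX'E, hX'p, hNH'⟩
      · intro hp'
        exact sigma_disjoint t hXE hXp hHc hNH hp' hp
      · exact partner_sigma_disjoint t hXE hXp hHc hNH hX'E hX'p hHc' hNH' hne.symm hp
  · -- inf
    intro H hH H' hH' hne
    rcases (hmem H).mp hH with rfl | ⟨hHc, X, hXE, hXp, hNH⟩
    · rcases (hmem H').mp hH' with rfl | ⟨hHc', X', hX'E, hX'p, hNH'⟩
      · exact absurd rfl hne
      · exact le_of_eq (inf_eq t hX'E hX'p hHc' hNH')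
    · rcases (hmem H').mp hH' with rfl | ⟨hHc', X', hX'E, hX'p, hNH'⟩
      · rw [inf_comm]
        exact le_of_eq (inf_eq t hXE hXp hHc hNH)
      · exact partner_inf_le t hF hXE hXp hHc hNH hX'E hX'p hHc' hNH' hne.symm
  · -- good
    intro H hH a ha ha1
    rcases (hmem H).mp hH with rfl | ⟨hHc, X, hXE, hXp, hNH⟩
    · rw [hZ, Z_inf_sigmaCore t] at ha
      exact good_M t ha ha1
    · exact good_H t hXE hXp hHc hNH ha ha1
  · -- three
    intro H hH
    rcases (hmem H).mp hH with rfl | ⟨hHc, X, hXE, hXp, hNH⟩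
    · exact Cfsg.Agent.Lib.Helper27.BGPCount.three_of_not_le hG
        (not_sigmaCore_le t hX₀E hX₀p hH₀ hNH₀)
    · exact Cfsg.Agent.Lib.Helper27.BGPCount.three_of_not_le hG
        (not_sigmaCore_H_le t hF hXE hXp hHc hNH)
  · -- tau2
    intro H hH
    rcases (hmem H).mp hH with rfl | ⟨hHc, X, hXE, hXp, hNH⟩
    · exact t.c.tau2_empty
    · exact (exists_compl_le t hF hXE hXp hHc hNH).choose_spec.2.2

end TypeP'

/-- **Case II is impossible.** -/
theorem caseII_false (hF : NoF G) (c : CaseII M E E1 E3) : False := by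
  by_cases hf : FaithfulPair E1 E3
  · exact hF M E E1 E3 c hf
  · exact TypeP'.false (Cfsg.Agent.Lib.Helper24.BGC2T.typeP_of_not_faithful c hf) hF

/-- type (F) is impossible (helper20 / helper2 / helper24). -/
theorem noF_real (hG : Cfsg.IsMinSimpleOddOrder G) : NoF G :=
  fun M E E1 E3 c hf => Cfsg.Agent.Lib.Helper20.BGFin.noTypeF_real hG M c.hM E E1 E3 c hf

/-- **the Main Claim**: `κ(M) ∩ τ₃(M) = ∅` for every maximal subgroup `M`. -/
theorem kappa_tau3_empty (hG : Cfsg.IsMinSimpleOddOrder G) {M : Subgroup G} (hM : IsCoatom M) :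
    ∀ p : ℕ, p ∈ Cfsg.kappa M → p ∉ Cfsg.tau3 M := by
  intro p hpκ hp3
  obtain ⟨E, E1, E3, c⟩ := Cfsg.Agent.Lib.Helper17.BGC2.exists_caseII hG
    (Cfsg.Agent.Lib.Helper27.BGPCount.h1428_real hG) hM hpκ hp3
  exact caseII_false (noF_real hG) c

end Cfsg.Agent.Lib.Helper8.BGPS
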