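import Mathlib
import Cfsg.Agent.Lib.Helper27.DODefs
import Cfsg.Agent.Lib.Helper8.DOMDefs

/-!
# S4700 wrapper market (helper27), leaf BRW-BURN (helper8)

Burnside's transfer theorem: in a perfect group with a Sylow `p`-subgroup `P` of order `p`,
`N_G(P) ≠ C_G(P)`.
-/

set_option autoImplicit false

namespace Cfsg.Agent.Lib.Helper8.BRWBURN

open Cfsg Cfsg.Agent.Lib.Helper8.DOM Cfsg.Agent.Lib.Helper27.DO

universe u

variable {G : Type u} [Group G] [Finite G] {p : ℕ} [Fact p.Prime]

/-- BURN : Burnside's transfer theorem: in a perfect group `N_G(P) ≠ C_G(P)`. -/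
theorem two_le_relIndex (hperf : commutator G = ⊤) (P : Subgroup G) (hP : Nat.card P = p)
    (hSyl : ¬ p ∣ P.index) : 2 ≤ (Cz P).relIndex (Nz P) := by
  have hpp : p.Prime := Fact.out
  by_contra hlt
  have hne : (Cz P).relIndex (Nz P) ≠ 0 := by
    show ((Cz P).subgroupOf (Nz P)).index ≠ 0
    exact Subgroup.index_ne_zero_of_finite
  have h1 : (Cz P).relIndex (Nz P) = 1 := by omega
  have hle : Nz P ≤ Cz P := Subgroup.relIndex_eq_one.mp h1
  have hpg : IsPGroup p P := IsPGroup.of_card (n := 1) (by rw [hP, pow_one])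
  let S : Sylow p G := hpg.toSylow hSyl
  have hS : (S : Subgroup G) = P := IsPGroup.toSylow_coe hpg hSyl
  have hle' : Subgroup.normalizer (S : Set G) ≤ Subgroup.centralizer (S : Set G) := by
    have h2 : ((S : Subgroup G) : Set G) = (P : Set G) := by rw [hS]
    show Subgroup.normalizer ((S : Subgroup G) : Set G) ≤ Subgroup.centralizer ((S : Subgroup G) : Set G)
    rw [h2]
    exact hle
  have hcomp := MonoidHom.ker_transferSylow_isComplement' S hle'
  have hcomm : ∀ x y : (S : Subgroup G), x * y = y * x := fun x y =>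
    Subtype.ext (hle' (Subgroup.le_normalizer y.2) x x.2)
  have hK : commutator G ≤ (MonoidHom.transferSylow S hle').ker := by
    rw [commutator_def, Subgroup.commutator_le]
    intro g _ h _
    rw [MonoidHom.mem_ker, commutatorElement_def, map_mul, map_mul, map_mul, map_inv, map_inv,
      hcomm ((MonoidHom.transferSylow S hle') g) ((MonoidHom.transferSylow S hle') h)]
    group
  rw [hperf, top_le_iff] at hK
  rw [hK, Subgroup.isComplement'_top_left] at hcomp
  have hcard : Nat.card (S : Subgroup G) = 1 := by rw [hcomp]; exact Subgroup.card_bot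
  rw [hS, hP] at hcard
  exact hpp.one_lt.ne' hcard

end Cfsg.Agent.Lib.Helper8.BRWBURN
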