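import Mathlib
import Cfsg.Agent.Lib.Helper27.MajSubDefs
import Cfsg.Agent.Lib.Helper6.DefectOrder

/-!
# S4539 leaves NB1 (`nMat_symm`), NB2 (`nMat_mul_pow`), NB5 (`nMat_rank_one`)
-/

set_option autoImplicit false

namespace Cfsg.Agent.Lib.Helper8.MajSubNB

open Cfsg Cfsg.Agent.CharLib Cfsg.Agent.Lib.Helper24 Cfsg.Agent.Lib.Helper6 Cfsg.Agent.Lib.Helper23
open Cfsg.Agent.Lib.Helper23.Subsec Cfsg.Agent.Lib.Helper27.MajSub
open scoped ComplexConjugate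

universe u w

section NB

variable {C : Type u} [Group C] [Fintype C] {M : Ideal AlgInt} {p : ℕ} [hpp : Fact p.Prime]

theorem nMat_of_mem (e : Set (IrrCharacter C)) {ζ ζ' : IrrCharacter C} (hζ : ζ ∈ e) (hζ' : ζ' ∈ e) :
    nMat p e ζ ζ' = tildeInt p ζ ζ' / (p : ℤ) ^ minVal p e := by
  unfold nMat
  rw [if_pos ⟨hζ, hζ'⟩]

theorem nMat_of_not_mem (e : Set (IrrCharacter C)) {ζ ζ' : IrrCharacter C}
    (h : ¬ (ζ ∈ e ∧ ζ' ∈ e)) : nMat p e ζ ζ' = 0 := by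
  unfold nMat
  rw [if_neg h]

/-- (NB1) -/
theorem nMat_symm (e : Set (IrrCharacter C)) (ζ ζ' : IrrCharacter C) :
    nMat p e ζ ζ' = nMat p e ζ' ζ := by
  by_cases h : ζ ∈ e ∧ ζ' ∈ e
  · rw [nMat_of_mem e h.1 h.2, nMat_of_mem e h.2 h.1, tildeInt_symm]
  · rw [nMat_of_not_mem e h, nMat_of_not_mem e (fun h' => h ⟨h'.2, h'.1⟩)]

/-- (NB2) `p^m N = [ζ̃, ζ']` on `e × e` (`pow_dvd_tildeInt` + `minVal_le`). -/
theorem nMat_mul_pow (hM : IsPModular p M) (e : Set (IrrCharacter C)) {ζ ζ' : IrrCharacter C}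
    (hζ : ζ ∈ e) (hζ' : ζ' ∈ e) :
    (p : ℤ) ^ minVal p e * nMat p e ζ ζ' = tildeInt p ζ ζ' := by
  rw [nMat_of_mem e hζ hζ']
  apply Int.mul_ediv_cancel'
  exact dvd_trans (pow_dvd_pow (p : ℤ) (minVal_le hζ')) (pow_dvd_tildeInt hM ζ ζ')

/-- (NB5) `N` has rank at most one modulo `p` (`memLocalIdeal_tildeInt_div_sub`). -/
theorem nMat_rank_one (hM : IsPModular p M) (e : Set (IrrCharacter C)) (he : IsPBlock M e) :
    ∃ κ τ : IrrCharacter C → ℤ, ∀ ζ ζ' : IrrCharacter C, (p : ℤ) ∣ nMat p e ζ ζ' - κ ζ * τ ζ' := by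
  classical
  have hprime : M.IsPrime := isPrime_of_isPModular hM
  have hp : p.Prime := hpp.out
  have hne : e.Nonempty := by
    obtain ⟨χ₁, rfl⟩ := he
    exact ⟨χ₁, sameBlock_refl _⟩
  obtain ⟨ζ₀, hζ₀, hmin⟩ := exists_minVal (p := p) hne
  -- the degree of `ζ₀` is `p^m u₀` with `u₀` prime to `p`
  set m := minVal p e with hm
  have hd₀pos : 0 < charDegree (ζ₀ : C → ℂ) := irr_charDegree_pos ζ₀
  obtain ⟨u₀, hu₀⟩ : ∃ u₀ : ℕ, charDegree (ζ₀ : C → ℂ) = p ^ m * u₀ := by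
    have := Nat.ordProj_dvd (charDegree (ζ₀ : C → ℂ)) p
    rw [hmin] at this
    exact this
  have hu₀p : ¬ p ∣ u₀ := by
    intro hdiv
    have h1 : p ^ (m + 1) ∣ charDegree (ζ₀ : C → ℂ) := by
      rw [hu₀, pow_succ]
      exact Nat.mul_dvd_mul_left _ hdiv
    have h2 := (hp.pow_dvd_iff_le_factorization hd₀pos.ne').mp h1
    omega
  -- an inverse `w` of `u₀` modulo `p`
  obtain ⟨w, k, hwk⟩ : ∃ w k : ℤ, (u₀ : ℤ) * w = 1 + (p : ℤ) * k := by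
    have hcop : IsCoprime (u₀ : ℤ) (p : ℤ) := by
      rw [Int.isCoprime_iff_gcd_eq_one, Int.gcd_natCast_natCast]
      exact (Nat.Coprime.symm ((Nat.Prime.coprime_iff_not_dvd hp).mpr hu₀p))
    obtain ⟨a, b, hab⟩ := hcop
    refine ⟨a, -b, ?_⟩
    linear_combination hab
  refine ⟨fun ζ => nMat p e ζ ζ₀ * w,
    fun ζ' => if ζ' ∈ e then ((charDegree (ζ' : C → ℂ) / p ^ m : ℕ) : ℤ) else 0, ?_⟩
  intro ζ ζ'
  beta_reduce
  by_cases hζ : ζ ∈ e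
  swap
  · rw [nMat_of_not_mem e (fun h => hζ h.1), nMat_of_not_mem e (fun h => hζ h.1)]
    simp
  by_cases hζ' : ζ' ∈ e
  swap
  · rw [nMat_of_not_mem e (fun h => hζ' h.2), if_neg hζ']
    simp
  rw [if_pos hζ']
  -- the degree of `ζ'` is `p^m t'`
  obtain ⟨t', ht'⟩ : ∃ t' : ℕ, charDegree (ζ' : C → ℂ) = p ^ m * t' := by
    have h1 := Nat.ordProj_dvd (charDegree (ζ' : C → ℂ)) p
    exact dvd_trans (pow_dvd_pow p (minVal_le hζ')) h1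
  have hpm : 0 < p ^ m := pow_pos hp.pos m
  have hdiv : charDegree (ζ' : C → ℂ) / p ^ m = t' := by
    rw [ht', Nat.mul_div_cancel_left _ hpm]
  rw [hdiv]
  have hd'pos : 0 < charDegree (ζ' : C → ℂ) := irr_charDegree_pos ζ'
  have ht'0 : t' ≠ 0 := by
    rintro rfl
    rw [mul_zero] at ht'
    omega
  have hu₀0 : u₀ ≠ 0 := by
    rintro rfl
    rw [mul_zero] at hu₀
    omega
  -- the congruence in the local ring
  have hsame : SameBlock M (ζ' : C → ℂ) (ζ₀ : C → ℂ) := sameBlock_of_mem hM he hζ' hζ₀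
  have h1 := memLocalIdeal_tildeInt_div_sub hM ζ ζ' ζ₀ hsame
  have e1 := nMat_mul_pow hM e hζ hζ'
  have e0 := nMat_mul_pow hM e hζ hζ₀
  rw [← hm] at e1 e0
  set n' := nMat p e ζ ζ' with hn'
  set n₀ := nMat p e ζ ζ₀ with hn₀
  have hpmC : ((p : ℂ) ^ m) ≠ 0 := pow_ne_zero _ (Nat.cast_ne_zero.mpr hp.ne_zero)
  have ht'C : (t' : ℂ) ≠ 0 := Nat.cast_ne_zero.mpr ht'0
  have hu₀C : (u₀ : ℂ) ≠ 0 := Nat.cast_ne_zero.mpr hu₀0
  have h2 : (tildeInt p ζ ζ' : ℂ) / (charDegree (ζ' : C → ℂ) : ℂ) = (n' : ℂ) / (t' : ℂ) := by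
    rw [← e1, ht']
    push_cast
    field_simp
    try ring
  have h3 : (tildeInt p ζ ζ₀ : ℂ) / (charDegree (ζ₀ : C → ℂ) : ℂ) = (n₀ : ℂ) / (u₀ : ℂ) := by
    rw [← e0, hu₀]
    push_cast
    field_simp
    try ring
  rw [h2, h3] at h1
  have h4 : MemLocalIdeal M (((n' : ℂ) / (t' : ℂ) - (n₀ : ℂ) / (u₀ : ℂ)) * ((t' : ℂ) * (u₀ : ℂ))) :=
    memLocalIdeal_mul_right h1 (memLocalRing_mul (memLocalRing_natCast t') (memLocalRing_natCast u₀))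
  have h5 : ((n' : ℂ) / (t' : ℂ) - (n₀ : ℂ) / (u₀ : ℂ)) * ((t' : ℂ) * (u₀ : ℂ)) =
      (n' : ℂ) * (u₀ : ℂ) - (n₀ : ℂ) * (t' : ℂ) := by
    field_simp
  rw [h5] at h4
  have h6 : MemLocalIdeal M (((n' : ℂ) * (u₀ : ℂ) - (n₀ : ℂ) * (t' : ℂ)) * (w : ℂ)) :=
    memLocalIdeal_mul_right h4 (memLocalRing_intCast w)
  have h7 : MemLocalIdeal M ((p : ℂ) * ((k : ℂ) * (n' : ℂ))) :=
    memLocalIdeal_mul_right (memLocalIdeal_natCast_prime hM)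
      (memLocalRing_mul (memLocalRing_intCast k) (memLocalRing_intCast n'))
  have h8 := memLocalIdeal_sub h6 h7
  have h9 : ((n' : ℂ) * (u₀ : ℂ) - (n₀ : ℂ) * (t' : ℂ)) * (w : ℂ) - (p : ℂ) * ((k : ℂ) * (n' : ℂ)) =
      ((n' - n₀ * w * (t' : ℤ) : ℤ) : ℂ) := by
    have hwkC : (u₀ : ℂ) * (w : ℂ) = 1 + (p : ℂ) * (k : ℂ) := by
      exact_mod_cast congrArg (fun z : ℤ => (z : ℂ)) hwk
    push_cast
    linear_combination (n' : ℂ) * hwkC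
  rw [h9] at h8
  exact int_dvd_of_memLocalIdeal hM h8

end NB

end Cfsg.Agent.Lib.Helper8.MajSubNB
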