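import Mathlib
import Cfsg.Agent.Lib.Helper6.HtBoundDefs
import Cfsg.Agent.Lib.Helper6.StabIndex
import Cfsg.Agent.Lib.Helper24.BlockClimb
import Cfsg.Agent.Lib.Helper23.BrauerInduced

/-! S4715 leaves EX (`exists_majBlock`) and the common lemma `maj_data` for FD (helper8). -/

set_option autoImplicit false
set_option linter.unusedSectionVars false
set_option linter.unusedVariables false

namespace Cfsg.Agent.Lib.Helper8.HtBoundEX

open Cfsg Cfsg.Agent.CharLib Cfsg.Agent.Lib.Helper24 Cfsg.Agent.Lib.Helper6 Cfsg.Agent.Lib.Helper23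
open Cfsg.Agent.Lib.Helper6.HtBound
open scoped ComplexConjugate

universe u

variable {G : Type u} [Group G] [Fintype G] {M : Ideal AlgInt} {p : ℕ} [hpp : Fact p.Prime]

theorem le_Cz (D H : Subgroup G) (hH : H = D ⊔ Subgroup.centralizer (D : Set G)) (z : G)
    (hzD : z ∈ D) (hzc : ∀ x ∈ D, x * z = z * x) : H ≤ Cz z := by
  rw [hH]
  apply sup_le
  · intro x hx
    rw [Subgroup.mem_centralizer_iff]
    intro y hy
    rw [Set.mem_singleton_iff] at hy
    subst hy
    exact (hzc x hx).symm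
  · intro x hx
    rw [Subgroup.mem_centralizer_iff]
    intro y hy
    rw [Set.mem_singleton_iff] at hy
    subst hy
    exact Subgroup.mem_centralizer_iff.mp hx y hzD

/-- everything about a block of `C_G(z)` induced (inside `C_G(z)`) from `b` -/
theorem maj_data (hM : IsPModular p M) (B : Set (IrrCharacter G)) (D : Subgroup G)
    (hBD : IsDefectGroup p M B D) (H : Subgroup G)
    (hH : H = D ⊔ Subgroup.centralizer (D : Set G)) (b : Set (IrrCharacter H))
    (hind : IsInducedBlock M H b B) (z : G) (hzD : z ∈ D) (hzc : ∀ x ∈ D, x * z = z * x)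
    (β : Set (IrrCharacter (Cz z))) (hβ : IsInducedBlockIn M (Cz z) H b β) :
    IsInducedBlock M (Cz z) β B ∧ blockDefect p β = blockDefect p B ∧
      IsDefectGroup p M β (D.subgroupOf (Cz z)) := by
  classical
  have hprime : M.IsPrime := isPrime_of_isPModular hM
  have hHX : H ≤ Cz z := le_Cz D H hH z hzD hzc
  have hDH : D ≤ H := by rw [hH]; exact le_sup_left
  have hDX : D ≤ Cz z := hDH.trans hHX
  have hHN : H ≤ Subgroup.normalizer (D : Set G) := by
    rw [hH]; exact sup_le Subgroup.le_normalizer (Subgroup.centralizer_le_normalizer _)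
  have hb : IsPBlock M b := hind.1
  have hBb : IsPBlock M B := hind.2.1
  have hκ : ∀ k' : H.subgroupOf (Cz z),
      ((Subgroup.subgroupOfEquivOfLe hHX k' : H) : G) = ((k' : Cz z) : G) := fun _ => rfl
  have h1 : IsInducedBlock M (H.subgroupOf (Cz z))
      (BlockIso.pullBlock (Subgroup.subgroupOfEquivOfLe hHX) b) β :=
    (isInducedBlockIn_iff_nested (Cz z) H (H.subgroupOf (Cz z))
      (Subgroup.subgroupOfEquivOfLe hHX) hκ b β).mp hβ
  have h2 : IsInducedBlock M (Cz z) β B :=
    isInducedBlock_cancel (Cz z) H (H.subgroupOf (Cz z)) (Subgroup.subgroupOfEquivOfLe hHX) hκ b β B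
      h1 hind
  have hbP : IsDefectGroup p M b (D.subgroupOf H) :=
    ExtFirstMain.isDefectGroup_of_induced hM B D hBD H hDH hHN b hind
  have hQ' := BlockIso.isDefectGroup_pullBlock (p := p) (M := M)
    (Subgroup.subgroupOfEquivOfLe hHX) hbP
  obtain ⟨E', hE', hle⟩ := exists_defectGroup_ge_of_induced hM (H.subgroupOf (Cz z)) _ β h1 _ hQ'
  have hDE' : D.subgroupOf (Cz z) ≤ E' := by
    intro x hx
    apply hle
    refine ⟨⟨x, Subgroup.mem_subgroupOf.mpr (hDH (Subgroup.mem_subgroupOf.mp hx))⟩, ?_, rfl⟩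
    show (Subgroup.subgroupOfEquivOfLe hHX ⟨x, _⟩) ∈ D.subgroupOf H
    exact Subgroup.mem_subgroupOf.mpr (Subgroup.mem_subgroupOf.mp hx)
  obtain ⟨E, hE, hE'E⟩ := exists_defectGroup_ge_of_induced hM (Cz z) β B h2 E' hE'
  have hcE : Nat.card E = Nat.card D := by
    rw [card_defectGroup_eq hM B hBb E hE, card_defectGroup_eq hM B hBb D hBD]
  have hcDX : Nat.card (D.subgroupOf (Cz z)) = Nat.card D :=
    Nat.card_congr (Subgroup.subgroupOfEquivOfLe hDX).toEquiv
  have hcE'1 : Nat.card E' ≤ Nat.card D := by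
    have h3 : Nat.card E' = Nat.card (E'.map (Cz z).subtype) :=
      (Subgroup.card_map_of_injective (Subgroup.subtype_injective _)).symm
    have h4 : Nat.card (E'.map (Cz z).subtype) ≤ Nat.card E := Subgroup.card_le_of_le hE'E
    omega
  have hEq : D.subgroupOf (Cz z) = E' := Subgroup.eq_of_le_of_card_ge hDE' (by omega)
  refine ⟨h2, ?_, by rw [hEq]; exact hE'⟩
  have hc1 : Nat.card E' = p ^ blockDefect p β := card_defectGroup_eq hM β h2.1 E' hE'
  have hc2 : Nat.card D = p ^ blockDefect p B := card_defectGroup_eq hM B hBb D hBD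
  have hpow : p ^ blockDefect p β = p ^ blockDefect p B := by rw [← hc1, ← hc2, ← hEq, hcDX]
  exact Nat.pow_right_injective hpp.out.two_le hpow

/-- existence of the block of `C_G(z)` induced from `b` -/
theorem exists_inducedIn (hM : IsPModular p M) (B : Set (IrrCharacter G)) (D : Subgroup G)
    (hBD : IsDefectGroup p M B D) (H : Subgroup G)
    (hH : H = D ⊔ Subgroup.centralizer (D : Set G)) (b : Set (IrrCharacter H))
    (hind : IsInducedBlock M H b B) (z : G) (hzD : z ∈ D) (hzc : ∀ x ∈ D, x * z = z * x) :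
    ∃ β : Set (IrrCharacter (Cz z)), IsInducedBlockIn M (Cz z) H b β := by
  classical
  have hHX : H ≤ Cz z := le_Cz D H hH z hzD hzc
  have hDH : D ≤ H := by rw [hH]; exact le_sup_left
  have hDX : D ≤ Cz z := hDH.trans hHX
  have hCH : Subgroup.centralizer (D : Set G) ≤ H := by rw [hH]; exact le_sup_right
  have hHN : H ≤ Subgroup.normalizer (D : Set G) := by
    rw [hH]; exact sup_le Subgroup.le_normalizer (Subgroup.centralizer_le_normalizer _)
  have hκ : ∀ k' : H.subgroupOf (Cz z),
      ((Subgroup.subgroupOfEquivOfLe hHX k' : H) : G) = ((k' : Cz z) : G) := fun _ => rfl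
  have hP : IsPGroup p (D.subgroupOf (Cz z)) :=
    (ExtFirstMain.isPGroup_of_isDefectGroup hBD).comap_subtype
  have hPK : D.subgroupOf (Cz z) ≤ H.subgroupOf (Cz z) := fun x hx =>
    Subgroup.mem_subgroupOf.mpr (hDH (Subgroup.mem_subgroupOf.mp hx))
  have hCK : Subgroup.centralizer ((D.subgroupOf (Cz z) : Subgroup (Cz z)) : Set (Cz z)) ≤
      H.subgroupOf (Cz z) := by
    intro x hx
    rw [Subgroup.mem_subgroupOf]
    apply hCH
    rw [Subgroup.mem_centralizer_iff]
    intro d hd
    have h := Subgroup.mem_centralizer_iff.mp hx ⟨d, hDX hd⟩ (Subgroup.mem_subgroupOf.mpr hd)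
    exact congrArg Subtype.val h
  have hKN : H.subgroupOf (Cz z) ≤
      Subgroup.normalizer ((D.subgroupOf (Cz z) : Subgroup (Cz z)) : Set (Cz z)) := by
    intro x hx
    rw [Subgroup.mem_normalizer_iff]
    intro h
    have h3 := Subgroup.mem_normalizer_iff.mp (hHN (Subgroup.mem_subgroupOf.mp hx)) (h : G)
    exact h3
  obtain ⟨β, hβ⟩ := inducedBlockDefined_of_le_normalizer hM (D.subgroupOf (Cz z))
    (H.subgroupOf (Cz z)) hP hPK hCK hKN
    (BlockIso.pullBlock (Subgroup.subgroupOfEquivOfLe hHX) b)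
    (BlockIso.isPBlock_pullBlock _ hind.1)
  exact ⟨β, (isInducedBlockIn_iff_nested (Cz z) H (H.subgroupOf (Cz z))
    (Subgroup.subgroupOfEquivOfLe hHX) hκ b β).mpr hβ⟩

/-! ## (EX) existence of the major subsection -/
theorem exists_majBlock (hM : IsPModular p M) (B : Set (IrrCharacter G)) (D : Subgroup G)
    (hBD : IsDefectGroup p M B D) (H : Subgroup G)
    (hH : H = D ⊔ Subgroup.centralizer (D : Set G)) (b : Set (IrrCharacter H))
    (hind : IsInducedBlock M H b B) (z : G) (hzD : z ∈ D) (hzc : ∀ x ∈ D, x * z = z * x) :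
    ∃ β : Set (IrrCharacter (Cz z)), IsInducedBlockIn M (Cz z) H b β ∧
      IsInducedBlock M (Cz z) β B ∧ blockDefect p β = blockDefect p B := by
  obtain ⟨β, hβ⟩ := exists_inducedIn hM B D hBD H hH b hind z hzD hzc
  obtain ⟨h2, h3, _⟩ := maj_data hM B D hBD H hH b hind z hzD hzc β hβ
  exact ⟨β, hβ, h2, h3⟩

end Cfsg.Agent.Lib.Helper8.HtBoundEX
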