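import Mathlib
import Cfsg.Agent.Lib.Helper8.ThTwoA
import Cfsg.Agent.Lib.Helper8.ThTwoE

/-! S2752 market "SF", leaf modD (helper8): the dihedral lemma on a faithful `F₂`-module. -/

set_option autoImplicit false
universe u v
open Cfsg.Agent.Lib.Helper8.ThTwo

namespace Cfsg.Agent.Lib.Helper8.SFLeaf

section module
variable {Γ : Type u} {V : Type v} [Group Γ] [Finite Γ] [Group V] [Finite V] [MulDistribMulAction Γ V]

omit [Finite Γ] in
/-- an element whose order is prime to `6` acts trivially on an invariant subgroup with at most four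
elements -/
theorem smul_eq_of_card_le_four (x : Γ) (n : ℕ) (hxn : x ^ n = 1) (hn2 : Odd n) (hn3 : ¬ 3 ∣ n)
    (U : Subgroup V) (hUx : ∀ u ∈ U, x • u ∈ U) (hU4 : Nat.card U ≤ 4) :
    ∀ u ∈ U, x • u = u := by
  classical
  let f : U → U := fun u => ⟨x • u.1, hUx u.1 u.2⟩
  have hfinj : Function.Injective f := by
    intro u u' h
    have h1 : x • u.1 = x • u'.1 := congrArg Subtype.val h
    exact Subtype.ext (MulAction.injective x h1)
  have hfbij : Function.Bijective f := Finite.injective_iff_bijective.mp hfinj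
  let σ : Equiv.Perm U := Equiv.ofBijective f hfbij
  have hσ : ∀ (i : ℕ) (u : U), ((σ ^ i) u : V) = x ^ i • (u : V) := by
    intro i
    induction i with
    | zero => intro u; simp
    | succ i ih =>
      intro u
      rw [pow_succ', Equiv.Perm.mul_apply, pow_succ', mul_smul, ← ih u]
      rfl
  have h1 : σ ^ n = 1 := by
    ext u
    rw [hσ n u, hxn, one_smul]
    rfl
  have h2 : σ ^ 24 = 1 := by
    have h3 : σ ^ Nat.card (Equiv.Perm U) = 1 := pow_card_eq_one'
    rw [Nat.card_perm] at h3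
    have h4 : (Nat.card U).factorial ∣ 24 := by
      have := Nat.factorial_dvd_factorial hU4
      simpa [Nat.factorial] using this
    obtain ⟨c, hc⟩ := h4
    rw [hc, pow_mul, h3, one_pow]
  have hcop : Nat.Coprime n 24 := by
    have h2' : Nat.Coprime n 2 := Nat.coprime_two_right.mpr hn2
    have h3' : Nat.Coprime n 3 :=
      ((Nat.Prime.coprime_iff_not_dvd Nat.prime_three).mpr hn3).symm
    have : Nat.Coprime n (2 ^ 3 * 3) := Nat.Coprime.mul_right (Nat.Coprime.pow_right 3 h2') h3'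
    simpa using this
  have h3 : σ = 1 := by
    have h4 : orderOf σ ∣ Nat.gcd n 24 :=
      Nat.dvd_gcd (orderOf_dvd_of_pow_eq_one h1) (orderOf_dvd_of_pow_eq_one h2)
    rw [hcop, Nat.dvd_one] at h4
    exact orderOf_eq_one_iff.mp h4
  intro u hu
  have h4 := hσ 1 ⟨u, hu⟩
  rw [pow_one, pow_one, h3] at h4
  exact h4.symm

/-- **modD** (dihedral lemma). -/
theorem modD (hVc : ∀ a b : V, a * b = b * a) (hV2 : ∀ v : V, v ^ 2 = 1)
    (hfaith : ∀ g : Γ, (∀ v : V, g • v = v) → g = 1)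
    (B : Subgroup Γ) (hB : IsPGroup 2 B) (a x : Γ) (hx1 : x ≠ 1) (hxo : Odd (orderOf x))
    (hx3 : ¬ 3 ∣ orderOf x) (hBx : ∀ b ∈ B, b * x = x * b) (hBa : ∀ b ∈ B, b * a = a * b)
    (hax : a * x * a⁻¹ = x⁻¹) :
    4 * Nat.card ↥(fixSub (V := V) B ⊓ fixElt a) ≤ Nat.card ↥(fixSub (V := V) B) := by
  classical
  have : Fact (Nat.Prime 2) := ⟨Nat.prime_two⟩
  set n := orderOf x with hn
  have hxn : x ^ n = 1 := pow_orderOf_eq_one x
  set R : Subgroup V := (delta hVc x).range with hR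
  have hVp : IsPGroup 2 V := by
    intro v
    exact ⟨1, by rw [pow_one]; exact hV2 v⟩
  have hsubp : ∀ W : Subgroup V, ∃ k, Nat.card W = 2 ^ k := fun W =>
    (hVp.to_subgroup W).exists_card_eq
  -- `R ≠ ⊥`
  have hR1 : R ≠ ⊥ := by
    intro h
    apply hx1
    apply hfaith
    intro v
    have h1 : delta hVc x v ∈ R := ⟨v, rfl⟩
    rw [h, Subgroup.mem_bot, delta_apply, inv_mul_eq_one] at h1
    exact h1.symm
  -- invariance of `R`
  have hRB : ∀ g ∈ B, ∀ w ∈ R, g • w ∈ R := fun g hg w hw =>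
    smul_mem_range_delta_of_comm hVc x g (hBx g hg) hw
  have hRx : ∀ w ∈ R, x • w ∈ R := fun w hw => smul_mem_range_delta_self hVc x hw
  have hax' : a * x = x⁻¹ * a := by rw [← hax]; group
  have hRa : ∀ w ∈ R, a • w ∈ R := fun w hw => smul_mem_range_delta_of_inv hVc x a hax' hw
  have h2R : 2 ∣ Nat.card R := by
    obtain ⟨k, hk⟩ := hsubp R
    rcases k with _ | k
    · exfalso
      apply hR1
      rw [pow_zero] at hk
      exact Subgroup.eq_bot_of_card_eq R hk
    · rw [hk, pow_succ]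
      exact dvd_mul_left 2 _
  obtain ⟨u0, hu0R, hu01, hu0B⟩ := exists_fixed_ne_one B hB R hRB h2R
  set U : Subgroup V := R ⊓ fixSub B with hU
  have hu0U : u0 ∈ U := ⟨hu0R, hu0B⟩
  have hfpf : ∀ u ∈ U, x • u = u → u = 1 := fun u hu hfix =>
    eq_one_of_mem_range_of_fixed hVc hV2 x n hxo hxn hu.1 hfix
  have hUx : ∀ u ∈ U, x • u ∈ U := by
    intro u hu
    refine ⟨hRx u hu.1, ?_⟩
    intro b hb
    rw [← mul_smul, hBx b hb, mul_smul, hu.2 b hb]
  -- the two centralizers
  set D : Subgroup V := U ⊓ fixElt a with hD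
  set D' : Subgroup V := U ⊓ fixElt (x * a * x⁻¹) with hD'
  have hDD' : Nat.card D ≤ Nat.card D' := by
    have hmem : ∀ d : D, x • d.1 ∈ D' := by
      intro d
      refine ⟨hUx d.1 d.2.1, ?_⟩
      show (x * a * x⁻¹) • x • d.1 = x • d.1
      rw [← mul_smul, inv_mul_cancel_right, mul_smul]
      congr 1
      exact d.2.2
    apply Nat.card_le_card_of_injective (fun d : D => (⟨x • d.1, hmem d⟩ : D'))
    intro d d' h
    have h1 : x • d.1 = x • d'.1 := congrArg Subtype.val h
    exact Subtype.ext (MulAction.injective x h1)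
  have hx2 : x ^ 2 = (x * a * x⁻¹) * a⁻¹ := by
    have h1 : a * x⁻¹ * a⁻¹ = x := by
      have h2 : (a * x * a⁻¹)⁻¹ = x := by rw [hax, inv_inv]
      calc a * x⁻¹ * a⁻¹ = (a * x * a⁻¹)⁻¹ := by group
        _ = x := h2
    calc x ^ 2 = x * x := sq x
      _ = x * (a * x⁻¹ * a⁻¹) := by rw [h1]
      _ = (x * a * x⁻¹) * a⁻¹ := by group
  have hinf : D ⊓ D' = ⊥ := by
    rw [eq_bot_iff]
    rintro u ⟨⟨huU, hua⟩, ⟨-, hua'⟩⟩
    rw [Subgroup.mem_bot]
    apply hfpf u huU
    apply smul_eq_of_sq_smul_eq x n hxo hxn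
    rw [hx2, mul_smul]
    have h1 : a⁻¹ • u = u := by
      rw [inv_smul_eq_iff]
      exact hua.symm
    rw [h1]
    exact hua'
  have hmul := card_mul_card_le D D' U inf_le_left inf_le_left
  rw [hinf, Subgroup.card_bot, mul_one] at hmul
  -- the key inequality
  have hkey : 4 * Nat.card D ≤ Nat.card U := by
    by_contra hcon
    push Not at hcon
    obtain ⟨j, hj⟩ := hsubp D
    obtain ⟨k, hk⟩ := hsubp U
    have h1 : Nat.card D * Nat.card D ≤ Nat.card U := le_trans (Nat.mul_le_mul_left _ hDD') hmul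
    have hDpos : 0 < Nat.card D := Nat.card_pos
    have h2 : Nat.card D < 4 := by nlinarith
    have hj1 : j ≤ 1 := by
      by_contra h
      push Not at h
      have : 2 ^ 2 ≤ 2 ^ j := Nat.pow_le_pow_right (by norm_num) h
      omega
    have hD2 : Nat.card D ≤ 2 := by
      rw [hj]
      calc 2 ^ j ≤ 2 ^ 1 := Nat.pow_le_pow_right (by norm_num) hj1
        _ = 2 := by norm_num
    have hU8 : Nat.card U < 8 := by omega
    have hk2 : k ≤ 2 := by
      by_contra h
      push Not at h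
      have : 2 ^ 3 ≤ 2 ^ k := Nat.pow_le_pow_right (by norm_num) h
      omega
    have hU4 : Nat.card U ≤ 4 := by
      rw [hk]
      calc 2 ^ k ≤ 2 ^ 2 := Nat.pow_le_pow_right (by norm_num) hk2
        _ = 4 := by norm_num
    have h3 := smul_eq_of_card_le_four x n hxn hxo hx3 U hUx hU4 u0 hu0U
    exact hu01 (hfpf u0 hu0U h3)
  -- transfer to `C_V(B)`
  set W : Subgroup V := fixSub (V := V) B with hW
  have hUW : U ≤ W := inf_le_right
  have h1 := card_mul_card_le U (W ⊓ fixElt a) W hUW inf_le_left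
  have h2 : U ⊓ (W ⊓ fixElt a) = D := by
    rw [← inf_assoc, inf_eq_left.mpr hUW]
  rw [h2] at h1
  have hDpos : 0 < Nat.card D := Nat.card_pos
  have h3 : 4 * Nat.card D * Nat.card ↥(W ⊓ fixElt a) ≤ Nat.card W * Nat.card D :=
    le_trans (Nat.mul_le_mul_right _ hkey) h1
  have h4 : Nat.card D * (4 * Nat.card ↥(W ⊓ fixElt a)) ≤ Nat.card D * Nat.card W := by
    calc Nat.card D * (4 * Nat.card ↥(W ⊓ fixElt a)) = 4 * Nat.card D * Nat.card ↥(W ⊓ fixElt a) := by
          ring
      _ ≤ Nat.card W * Nat.card D := h3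
      _ = Nat.card D * Nat.card W := by ring
  exact Nat.le_of_mul_le_mul_left h4 hDpos

end module

end Cfsg.Agent.Lib.Helper8.SFLeaf
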