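import Mathlib
import Cfsg.Agent.Lib.Helper8.ThTwoA
import Cfsg.Agent.Lib.Helper8.ThTwoE

/-! S2752 market "SF", leaf modS (helper8) in `_of` form: the leaves `szb` (at the given `K`, `t`) and `qs_odd`
(at `↥K`) enter as hypotheses. -/

set_option autoImplicit false
universe u v
open Cfsg.Agent.Lib.Helper8.ThTwo

namespace Cfsg.Agent.Lib.Helper8.SFLeaf

section module
variable {Γ : Type u} {V : Type v} [Group Γ] [Finite Γ] [Group V] [Finite V] [MulDistribMulAction Γ V]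

/-- **modS**, over `szb` and `qs_odd` -/
theorem modS_of (hVc : ∀ a b : V, a * b = b * a) (hV2 : ∀ v : V, v ^ 2 = 1)
    (hfaith : ∀ g : Γ, (∀ v : V, g • v = v) → g = 1)
    (A₂ K : Subgroup Γ) (a t : Γ) (q : ℕ) (hA₂ : IsPGroup 2 A₂) (ha2 : a * a = 1)
    (haA₂ : ∀ b ∈ A₂, a * b = b * a) (hKA₂ : ∀ k ∈ K, ∀ b ∈ A₂, k * b = b * k)
    (htK : t ∈ K) (ht2 : t * t = 1)
    (hc : ∀ k ∈ K, k * (a * t⁻¹) = (a * t⁻¹) * k)
    (hqs : ∃ y : ↥K, Odd (orderOf y) ∧ y ∉ Subgroup.center ↥K)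
    (hszb : ∀ W : Subgroup V, (∀ g ∈ K, ∀ w ∈ W, g • w ∈ W) → (∃ g ∈ K, ∃ w ∈ W, g • w ≠ w) →
      q * Nat.card ↥(W ⊓ fixElt t) ≤ Nat.card ↥W) :
    q * Nat.card ↥(fixSub (V := V) A₂ ⊓ fixElt a) ≤ Nat.card ↥(fixSub (V := V) A₂) := by
  classical
  have : Fact (Nat.Prime 2) := ⟨Nat.prime_two⟩
  set c : Γ := a * t⁻¹ with hcdef
  -- `t` and `a` commute
  have hta : t * a = a * t := by
    have h1 := hc t htK
    rw [hcdef] at h1
    have h2 : t * (a * t⁻¹) * t = a * t⁻¹ * t * t := by rw [h1]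
    have h3 : t * (a * t⁻¹) * t = t * a := by group
    have h4 : a * t⁻¹ * t * t = a * t := by group
    rw [h3, h4] at h2
    exact h2
  have htinv : t⁻¹ = t := inv_eq_of_mul_eq_one_left ht2
  have hcc : c * c = 1 := by
    rw [hcdef, htinv]
    calc a * t * (a * t) = a * (t * a) * t := by group
      _ = a * (a * t) * t := by rw [hta]
      _ = (a * a) * (t * t) := by group
      _ = 1 := by rw [ha2, ht2, one_mul]
  have hact : a = c * t := by rw [hcdef]; group
  -- `c` commutes with `A₂`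
  have hcA₂ : ∀ b ∈ A₂, c * b = b * c := by
    intro b hb
    have h1 : t * b = b * t := hKA₂ t htK b hb
    have h2 : a * b = b * a := haA₂ b hb
    rw [hcdef, htinv]
    calc a * t * b = a * (t * b) := by group
      _ = a * (b * t) := by rw [h1]
      _ = (a * b) * t := by group
      _ = (b * a) * t := by rw [h2]
      _ = b * (a * t) := by group
  -- the odd order element
  obtain ⟨y, hyo, hyZ⟩ := hqs
  set x : Γ := (y : Γ) with hx
  have hxK : x ∈ K := y.2
  have hxo : Odd (orderOf x) := by rw [hx, Subgroup.orderOf_coe]; exact hyo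
  have hx1 : x ≠ 1 := by
    intro h
    apply hyZ
    have : y = 1 := Subtype.ext h
    rw [this]
    exact Subgroup.one_mem _
  set n := orderOf x with hn
  have hxn : x ^ n = 1 := pow_orderOf_eq_one x
  set R : Subgroup V := (delta hVc x).range with hR
  have hVp : IsPGroup 2 V := by
    intro v
    exact ⟨1, by rw [pow_one]; exact hV2 v⟩
  have hsubp : ∀ W : Subgroup V, ∃ k, Nat.card W = 2 ^ k := fun W =>
    (hVp.to_subgroup W).exists_card_eq
  have h2of : ∀ W : Subgroup V, W ≠ ⊥ → 2 ∣ Nat.card W := by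
    intro W hW
    obtain ⟨k, hk⟩ := hsubp W
    rcases k with _ | k
    · exfalso
      apply hW
      rw [pow_zero] at hk
      exact Subgroup.eq_bot_of_card_eq W hk
    · rw [hk, pow_succ]
      exact dvd_mul_left 2 _
  have hR1 : R ≠ ⊥ := by
    intro h
    apply hx1
    apply hfaith
    intro v
    have h1 : delta hVc x v ∈ R := ⟨v, rfl⟩
    rw [h, Subgroup.mem_bot, delta_apply, inv_mul_eq_one] at h1
    exact h1.symm
  -- step 1: `A₂` on `R`
  have hRA : ∀ g ∈ A₂, ∀ w ∈ R, g • w ∈ R := fun g hg w hw =>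
    smul_mem_range_delta_of_comm hVc x g (hKA₂ x hxK g hg).symm hw
  obtain ⟨u1, hu1R, hu11, hu1A⟩ := exists_fixed_ne_one A₂ hA₂ R hRA (h2of R hR1)
  set R1 : Subgroup V := R ⊓ fixSub A₂ with hR1def
  have hR1ne : R1 ≠ ⊥ := by
    intro h
    have : u1 ∈ R1 := ⟨hu1R, hu1A⟩
    rw [h, Subgroup.mem_bot] at this
    exact hu11 this
  -- step 2: `<c>` on `R1`
  set C : Subgroup Γ := Subgroup.zpowers c with hC
  have hCmem : ∀ g ∈ C, g = 1 ∨ g = c := by
    intro g hg
    obtain ⟨k, rfl⟩ := Subgroup.mem_zpowers_iff.mp hg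
    rcases Int.even_or_odd k with ⟨j, rfl⟩ | ⟨j, rfl⟩
    · left
      rw [← two_mul, zpow_mul, zpow_ofNat, sq, hcc, one_zpow]
    · right
      rw [zpow_add, zpow_mul, zpow_ofNat, sq, hcc, one_zpow, one_mul, zpow_one]
  have hCp : IsPGroup 2 C := by
    intro g
    refine ⟨1, ?_⟩
    rw [pow_one]
    apply Subtype.ext
    rcases hCmem g.1 g.2 with h | h
    · rw [Subgroup.coe_pow, h, one_pow]; rfl
    · rw [Subgroup.coe_pow, h, sq, hcc]; rfl
  have hcx : c * x = x * c := hc x hxK |>.symm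
  have hR1c : ∀ w ∈ R1, c • w ∈ R1 := by
    intro w hw
    refine ⟨smul_mem_range_delta_of_comm hVc x c hcx hw.1, ?_⟩
    intro b hb
    rw [← mul_smul, ← hcA₂ b hb, mul_smul, hw.2 b hb]
  have hR1C : ∀ g ∈ C, ∀ w ∈ R1, g • w ∈ R1 := by
    intro g hg w hw
    rcases hCmem g hg with h | h
    · rw [h, one_smul]; exact hw
    · rw [h]; exact hR1c w hw
  obtain ⟨u0, hu0R1, hu01, hu0C⟩ := exists_fixed_ne_one C hCp R1 hR1C (h2of R1 hR1ne)
  have hu0c : c • u0 = u0 := hu0C c (Subgroup.mem_zpowers c)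
  -- the subgroups `U`, `W`
  set U : Subgroup V := fixSub (V := V) A₂ with hU
  set W : Subgroup V := U ⊓ fixElt c with hW
  have hu0W : u0 ∈ W := ⟨hu0R1.2, hu0c⟩
  have hWK : ∀ g ∈ K, ∀ w ∈ W, g • w ∈ W := by
    intro g hg w hw
    refine ⟨?_, ?_⟩
    · intro b hb
      rw [← mul_smul, ← hKA₂ g hg b hb, mul_smul, hw.1 b hb]
    · show c • g • w = g • w
      rw [← mul_smul, ← hc g hg, mul_smul]
      congr 1
      exact hw.2
  have hnt : ∃ g ∈ K, ∃ w ∈ W, g • w ≠ w := by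
    refine ⟨x, hxK, u0, hu0W, ?_⟩
    intro hfix
    exact hu01 (eq_one_of_mem_range_of_fixed hVc hV2 x n hxo hxn hu0R1.1 hfix)
  have h1 := hszb W hWK hnt
  -- on `W`, `a` acts as `t`
  have hWat : (U ⊓ fixElt a) ⊓ W = W ⊓ fixElt t := by
    ext w
    constructor
    · rintro ⟨⟨-, hwa⟩, hwW⟩
      refine ⟨hwW, ?_⟩
      show t • w = w
      have h2 : a • w = w := hwa
      rw [hact, mul_smul] at h2
      have h3 : c • (t • w) = t • w := (hWK t htK w hwW).2
      rw [h3] at h2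
      exact h2
    · rintro ⟨hwW, hwt⟩
      refine ⟨⟨hwW.1, ?_⟩, hwW⟩
      show a • w = w
      have h2 : t • w = w := hwt
      rw [hact, mul_smul, h2]
      exact hwW.2
  have h2 := card_mul_card_le (U ⊓ fixElt a) W U inf_le_left inf_le_left
  rw [hWat] at h2
  have hWpos : 0 < Nat.card W := Nat.card_pos
  have h3 : Nat.card W * (q * Nat.card ↥(U ⊓ fixElt a)) ≤ Nat.card W * Nat.card U := by
    calc Nat.card W * (q * Nat.card ↥(U ⊓ fixElt a))
        = q * (Nat.card ↥(U ⊓ fixElt a) * Nat.card W) := by ring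
      _ ≤ q * (Nat.card U * Nat.card ↥(W ⊓ fixElt t)) := Nat.mul_le_mul_left _ h2
      _ = Nat.card U * (q * Nat.card ↥(W ⊓ fixElt t)) := by ring
      _ ≤ Nat.card U * Nat.card W := Nat.mul_le_mul_left _ h1
      _ = Nat.card W * Nat.card U := by ring
  exact Nat.le_of_mul_le_mul_left h3 hWpos

end module

end Cfsg.Agent.Lib.Helper8.SFLeaf
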