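import Mathlib
import Cfsg.Agent.Lib.Helper8.ThTwoA
import Cfsg.Agent.Lib.Helper18.SLQuadE

/-! S2752 market "SF", leaf szb (helper8), part A: the centraliser bound of helper18's `relIndex_bound_pp`
for two automorphisms of a finite `p`-group (in the holomorph). -/

set_option autoImplicit false
open Cfsg.Agent.Lib.Helper8.ThTwo Cfsg.Agent.Lib.Helper18.SLQuad

namespace Cfsg.Agent.Lib.Helper8.SFLeaf

/-- two automorphisms `σ`, `τ` of a finite `p`-group `W` whose commutator has order divisible by a
"primitive" prime power: `p ^ n * |C_W(σ)| ≤ |W|` -/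
theorem holomorph_bound {W : Type*} [Group W] [Finite W] (p n l e : ℕ) [hp : Fact p.Prime]
    (hl : l.Prime) (he : 0 < e) (hlp : l ≠ p)
    (hprim : ∀ m : ℕ, 0 < m → l ^ e ∣ p ^ m - 1 → 2 * n ≤ m) (hWp : IsPGroup p W)
    (σ τ : MulAut W) (hord : l ^ e ∣ orderOf (σ * τ * σ⁻¹ * τ⁻¹)) :
    p ^ n * Nat.card {w : W // σ w = w} ≤ Nat.card W := by
  classical
  have hfinG : Finite (W ⋊[MonoidHom.id (MulAut W)] MulAut W) :=
    Finite.of_equiv (W × MulAut W) SemidirectProduct.equivProd.symm
  set V' : Subgroup (W ⋊[MonoidHom.id (MulAut W)] MulAut W) :=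
    (SemidirectProduct.inl : W →* W ⋊[MonoidHom.id (MulAut W)] MulAut W).range with hV'
  have hV'n : V'.Normal := by
    rw [hV', SemidirectProduct.range_inl_eq_ker_rightHom]
    exact MonoidHom.normal_ker _
  have hnorm : ∀ g : W ⋊[MonoidHom.id (MulAut W)] MulAut W,
      g ∈ Subgroup.normalizer (V' : Set (W ⋊[MonoidHom.id (MulAut W)] MulAut W)) := by
    intro g
    rw [Subgroup.normalizer_eq_top]
    exact Subgroup.mem_top g
  have hV'p : IsPGroup p V' :=
    hWp.of_equiv (MonoidHom.ofInjective SemidirectProduct.inl_injective)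
  have hcardV' : Nat.card V' = Nat.card W :=
    (Nat.card_congr (MonoidHom.ofInjective SemidirectProduct.inl_injective).toEquiv).symm
  -- conjugation formula
  have hconj : ∀ (ρ : MulAut W) (w : W),
      (SemidirectProduct.inr ρ : W ⋊[MonoidHom.id (MulAut W)] MulAut W) * SemidirectProduct.inl w =
        SemidirectProduct.inl (ρ w) * SemidirectProduct.inr ρ := by
    intro ρ w
    have h := SemidirectProduct.inl_aut (φ := MonoidHom.id (MulAut W)) ρ w
    rw [MonoidHom.id_apply] at h
    rw [h, map_inv, inv_mul_cancel_right]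
  set a' : W ⋊[MonoidHom.id (MulAut W)] MulAut W := SemidirectProduct.inr σ with ha'
  set y' : W ⋊[MonoidHom.id (MulAut W)] MulAut W := SemidirectProduct.inr τ with hy'
  have hcomm : a' * y' * a'⁻¹ * y'⁻¹ = SemidirectProduct.inr (σ * τ * σ⁻¹ * τ⁻¹) := by
    rw [ha', hy', map_mul, map_mul, map_mul, map_inv, map_inv]
  have hord' : l ^ e ∣ orderOf (a' * y' * a'⁻¹ * y'⁻¹) := by
    rw [hcomm, orderOf_injective (SemidirectProduct.inr : MulAut W →* _)
      SemidirectProduct.inr_injective]
    exact hord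
  have hfaith : ∀ k : ℕ, (a' * y' * a'⁻¹ * y'⁻¹) ^ k ≠ 1 →
      ¬ V' ≤ Subgroup.centralizer ({(a' * y' * a'⁻¹ * y'⁻¹) ^ k} :
        Set (W ⋊[MonoidHom.id (MulAut W)] MulAut W)) := by
    intro k hk hle
    apply hk
    rw [hcomm, ← map_pow]
    set ρ : MulAut W := (σ * τ * σ⁻¹ * τ⁻¹) ^ k with hρ
    have hρ1 : ρ = 1 := by
      ext w
      have h1 : (SemidirectProduct.inl w : W ⋊[MonoidHom.id (MulAut W)] MulAut W) ∈ V' := ⟨w, rfl⟩
      have h2 := hle h1
      rw [hcomm, ← map_pow, ← hρ, Subgroup.mem_centralizer_singleton_iff] at h2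
      have h3 := hconj ρ w
      have h4 : (SemidirectProduct.inl (ρ w) : W ⋊[MonoidHom.id (MulAut W)] MulAut W) *
          SemidirectProduct.inr ρ = SemidirectProduct.inl w * SemidirectProduct.inr ρ := by
        rw [← h3]
        first
          | exact h2
          | exact h2.symm
      have h5 := mul_right_cancel h4
      exact SemidirectProduct.inl_injective h5
    rw [hρ1, map_one]
  have key := (relIndex_bound_pp p n l e hl he hlp hprim V' hV'p (hnorm a') (hnorm y') hord'
    hfaith).1
  -- the fixed points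
  have hinj : Nat.card {w : W // σ w = w} ≤ Nat.card (cV V' a') := by
    have hmem : ∀ w : {w : W // σ w = w},
        (SemidirectProduct.inl w.1 : W ⋊[MonoidHom.id (MulAut W)] MulAut W) ∈ cV V' a' := by
      intro w
      rw [mem_cV]
      refine ⟨⟨w.1, rfl⟩, ?_⟩
      have h3 := hconj σ w.1
      rw [w.2] at h3
      exact h3.symm
    apply Nat.card_le_card_of_injective
      (fun w : {w : W // σ w = w} => (⟨SemidirectProduct.inl w.1, hmem w⟩ : cV V' a'))
    intro w w' h
    have h1 : (SemidirectProduct.inl w.1 : W ⋊[MonoidHom.id (MulAut W)] MulAut W) =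
        SemidirectProduct.inl w'.1 := congrArg Subtype.val h
    exact Subtype.ext (SemidirectProduct.inl_injective h1)
  have h1 := relIndex_mul_card_eq (cV_le V' a')
  calc p ^ n * Nat.card {w : W // σ w = w} ≤ (cV V' a').relIndex V' * Nat.card (cV V' a') :=
        Nat.mul_le_mul key hinj
    _ = Nat.card V' := h1
    _ = Nat.card W := hcardV'

end Cfsg.Agent.Lib.Helper8.SFLeaf
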