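import Mathlib
import Cfsg.Agent.Lib.Helper8.ThTwoA
import Cfsg.Agent.Lib.Helper8.ThTwoE
import Cfsg.Agent.Lib.Helper8.SFszbA
import Cfsg.Agent.Lib.Helper9.Quasisimple
import Cfsg.Agent.Lib.Helper18.SzQuadB

/-! S2752 market "SF", leaf szb (helper8): the Suzuki bound on an invariant section. -/

set_option autoImplicit false
universe u v
open Cfsg.Agent.Lib.Helper8.ThTwo

namespace Cfsg.Agent.Lib.Helper8.SFLeaf

section module
variable {Γ : Type u} {V : Type v} [Group Γ] [Finite Γ] [Group V] [Finite V] [MulDistribMulAction Γ V]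

omit [Finite Γ] [Finite V] in
/-- the action of a subgroup on an invariant subgroup -/
@[instance_reducible]
def subMDMA (K : Subgroup Γ) (W : Subgroup V) (hW : ∀ g ∈ K, ∀ w ∈ W, g • w ∈ W) :
    MulDistribMulAction K W where
  smul g w := ⟨g.1 • w.1, hW g.1 g.2 w.1 w.2⟩
  one_smul w := Subtype.ext (one_smul Γ w.1)
  mul_smul g h w := Subtype.ext (mul_smul g.1 h.1 w.1)
  smul_mul g w w' := Subtype.ext (smul_mul' g.1 w.1 w'.1)
  smul_one g := Subtype.ext (smul_one g.1)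

/-- **szb** (Suzuki bound on a not necessarily faithful invariant section). -/
theorem szb (hVc : ∀ a b : V, a * b = b * a) (hV2 : ∀ v : V, v ^ 2 = 1)
    (K : Subgroup Γ) (hK : Cfsg.IsQuasisimple ↥K) (hZ : Odd (Nat.card ↥(Subgroup.center ↥K)))
    {F : Type} [Field F] [Fintype F] (m : ℕ) (hm : 1 ≤ m) (hF : Fintype.card F = 2 ^ (2 * m + 1))
    (e : Nonempty (↥K ⧸ Subgroup.center ↥K ≃* ↥(Cfsg.Lie.Sz F (2 ^ (m + 1)))))
    (W : Subgroup V) (hW : ∀ g ∈ K, ∀ w ∈ W, g • w ∈ W) (hnt : ∃ g ∈ K, ∃ w ∈ W, g • w ≠ w)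
    (t : Γ) (htK : t ∈ K) (ht2 : t * t = 1) (htZ : ∃ k ∈ K, k * t ≠ t * k) :
    (2 ^ (2 * m + 1)) ^ 2 * Nat.card ↥(W ⊓ fixElt t) ≤ Nat.card ↥W := by
  classical
  have : Fact (Nat.Prime 2) := ⟨Nat.prime_two⟩
  let _ := subMDMA K W hW
  set φ : ↥K →* MulAut ↥W := MulDistribMulAction.toMulAut ↥K ↥W with hφ
  have hφapp : ∀ (g : ↥K) (w : ↥W), ((φ g) w : V) = g.1 • w.1 := fun g w => rfl
  -- the kernel is central
  have hCne : φ.ker ≠ ⊤ := by
    intro h
    obtain ⟨g, hg, w, hw, hgw⟩ := hnt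
    apply hgw
    have h1 : (⟨g, hg⟩ : ↥K) ∈ φ.ker := by rw [h]; exact Subgroup.mem_top _
    rw [MonoidHom.mem_ker] at h1
    have h2 := hφapp ⟨g, hg⟩ ⟨w, hw⟩
    rw [h1] at h2
    exact h2.symm
  have hCZ : φ.ker ≤ Subgroup.center ↥K :=
    Cfsg.Agent.Lib.Helper9.IsQuasisimple_normal_le_center hK φ.ker hCne
  -- the prime `l`
  obtain ⟨l, hl, hl2, -, hldvd, hprim⟩ :=
    Cfsg.Agent.Lib.Helper18.SzQuad.exists_ppd 2 (2 * (2 * m + 1)) Nat.prime_two (by omega)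
      (by rintro ⟨-, h⟩; omega)
  have hlq : l ∣ (2 ^ (2 * m + 1)) ^ 2 + 1 := by
    rw [← pow_mul, mul_comm (2 * m + 1) 2]
    exact hldvd
  have hlq' : ¬ l ∣ 2 ^ (2 * m + 1) - 1 := by
    intro h
    have := hprim (2 * m + 1) (by omega) h
    omega
  -- the Suzuki group
  obtain ⟨e0⟩ := e
  set θ : (↥K ⧸ Subgroup.center ↥K) ≃* Cfsg.Sz F m :=
    e0.trans (Cfsg.Agent.Lib.Helper15.SuzukiLie.equivLie hF hm).symm with hθ
  set mk : ↥K →* (↥K ⧸ Subgroup.center ↥K) := QuotientGroup.mk' (Subgroup.center ↥K) with hmk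
  set t' : ↥K := ⟨t, htK⟩ with ht'
  have ht't' : t' * t' = 1 := Subtype.ext ht2
  set s : Cfsg.Sz F m := θ (mk t') with hs
  have hss : s * s = 1 := by
    rw [hs, ← map_mul, ← map_mul, ht't', map_one, map_one]
  have hs1 : s ≠ 1 := by
    intro h
    rw [hs, MulEquiv.map_eq_one_iff, hmk, QuotientGroup.mk'_apply, QuotientGroup.eq_one_iff] at h
    obtain ⟨k, hk, hkt⟩ := htZ
    apply hkt
    have h1 := Subgroup.mem_center_iff.mp h ⟨k, hk⟩
    exact congrArg Subtype.val h1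
  obtain ⟨y', hy'⟩ := Cfsg.Agent.Lib.Helper18.SzQuad.exists_commutator_Sz hF hm l hl hlq hlq' s hss hs1
  obtain ⟨yq, hyq⟩ := θ.surjective y'
  obtain ⟨y0, hy0⟩ := QuotientGroup.mk'_surjective (Subgroup.center ↥K) yq
  set z : ↥K := t' * y0 * t'⁻¹ * y0⁻¹ with hz
  have hθz : θ (mk z) = s * y' * s⁻¹ * y'⁻¹ := by
    rw [hz, map_mul, map_mul, map_mul, map_inv, map_inv, map_mul, map_mul, map_mul, map_inv, map_inv,
      ← hs, hmk, hy0, hyq]
  have hlz : l ∣ orderOf (mk z) := by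
    rw [← MulEquiv.orderOf_eq θ, hθz]
    exact hy'
  have hzdvd : orderOf (mk z) ∣ orderOf (φ z) := by
    apply orderOf_dvd_of_pow_eq_one
    rw [← map_pow, hmk, QuotientGroup.mk'_apply, QuotientGroup.eq_one_iff]
    apply hCZ
    rw [MonoidHom.mem_ker, map_pow]
    exact pow_orderOf_eq_one _
  have hord : l ^ 1 ∣ orderOf (φ t' * φ y0 * (φ t')⁻¹ * (φ y0)⁻¹) := by
    rw [pow_one, ← map_inv, ← map_inv, ← map_mul, ← map_mul, ← map_mul, ← hz]
    exact hlz.trans hzdvd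
  have hWp : IsPGroup 2 ↥W := by
    intro w
    refine ⟨1, ?_⟩
    rw [pow_one]
    apply Subtype.ext
    rw [Subgroup.coe_pow]
    exact hV2 w.1
  have key := holomorph_bound 2 (2 * (2 * m + 1)) l 1 hl one_pos hl2
    (by
      intro k hk hd
      rw [pow_one] at hd
      exact hprim k hk hd) hWp (φ t') (φ y0) hord
  have e2 : (2 ^ (2 * m + 1)) ^ 2 = 2 ^ (2 * (2 * m + 1)) := by
    rw [← pow_mul]
    congr 1
    ring
  rw [e2]
  have hinj : Nat.card ↥(W ⊓ fixElt t) ≤ Nat.card {w : ↥W // (φ t') w = w} := by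
    apply Nat.card_le_card_of_injective
      (fun u : ↥(W ⊓ fixElt t) =>
        (⟨⟨u.1, u.2.1⟩, Subtype.ext (by rw [hφapp]; exact u.2.2)⟩ : {w : ↥W // (φ t') w = w}))
    intro u u' h
    have h1 := congrArg (fun x : {w : ↥W // (φ t') w = w} => ((x.1 : ↥W) : V)) h
    exact Subtype.ext h1
  exact le_trans (Nat.mul_le_mul_left _ hinj) key

end module

end Cfsg.Agent.Lib.Helper8.SFLeaf
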