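import Mathlib
import Cfsg.Agent.Lib.Helper8.ThTwoA
import Cfsg.Agent.Lib.Helper8.ThTwoE
import Cfsg.Agent.Lib.Helper8.SFmodSOf
import Cfsg.Agent.Lib.Helper8.SFszb
import Cfsg.Agent.Lib.Helper17.SFqs_odd

/-! S2752 market "SF", leaf modS (helper8): exact statement, over `szb` (helper8) and `qs_odd` (helper17). -/

set_option autoImplicit false
universe u v
open Cfsg.Agent.Lib.Helper8.ThTwo

namespace Cfsg.Agent.Lib.Helper8.SFLeaf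

section module
variable {Γ : Type u} {V : Type v} [Group Γ] [Finite Γ] [Group V] [Finite V] [MulDistribMulAction Γ V]

/-- **modS**. -/
theorem modS (hVc : ∀ a b : V, a * b = b * a) (hV2 : ∀ v : V, v ^ 2 = 1)
    (hfaith : ∀ g : Γ, (∀ v : V, g • v = v) → g = 1)
    (A₂ K : Subgroup Γ) (a t : Γ) {F : Type} [Field F] [Fintype F] (m : ℕ) (hm : 1 ≤ m)
    (hF : Fintype.card F = 2 ^ (2 * m + 1)) (hA₂ : IsPGroup 2 A₂) (ha2 : a * a = 1)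
    (haA₂ : ∀ b ∈ A₂, a * b = b * a) (hKA₂ : ∀ k ∈ K, ∀ b ∈ A₂, k * b = b * k)
    (hK : Cfsg.IsQuasisimple ↥K) (hZ : Odd (Nat.card ↥(Subgroup.center ↥K)))
    (e : Nonempty (↥K ⧸ Subgroup.center ↥K ≃* ↥(Cfsg.Lie.Sz F (2 ^ (m + 1)))))
    (htK : t ∈ K) (ht2 : t * t = 1) (htZ : ∃ k ∈ K, k * t ≠ t * k)
    (hc : ∀ k ∈ K, k * (a * t⁻¹) = (a * t⁻¹) * k) :
    (2 ^ (2 * m + 1)) ^ 2 * Nat.card ↥(fixSub (V := V) A₂ ⊓ fixElt a) ≤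
      Nat.card ↥(fixSub (V := V) A₂) :=
  modS_of hVc hV2 hfaith A₂ K a t ((2 ^ (2 * m + 1)) ^ 2) hA₂ ha2 haA₂ hKA₂ htK ht2 hc
    (Cfsg.Agent.Lib.Helper17.SFLeaf.qs_odd hK)
    (fun W hW hnt => szb hVc hV2 K hK hZ m hm hF e W hW hnt t htK ht2 htZ)

end module

end Cfsg.Agent.Lib.Helper8.SFLeaf
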