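import Mathlib

/-!
helper8: generic representation-theory leaves for S2332 (minimal degree of SL_n(q)): a minimal invariant
subspace gives an irreducible representation, Maschke in the form `a nontrivially acting element acts
nontrivially on some irreducible subrepresentation`, and one-dimensional representations of perfect groups
are trivial.
-/

set_option autoImplicit false

namespace Cfsg.Agent.Lib.Helper8.SLMinGen

open scoped MonoidAlgebra
open Module

variable {G V : Type*} [Group G] [AddCommGroup V] [Module ℂ V]

/-- a minimal nonzero subrepresentation gives an irreducible representation -/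
theorem isIrreducible_toRepresentation {ρ : Representation ℂ G V} (W : Subrepresentation ρ)
    (hne : ∃ w ∈ W, w ≠ 0)
    (hmin : ∀ U : Subrepresentation ρ, U ≤ W → U = ⊥ ∨ U = W) :
    W.toRepresentation.IsIrreducible := by
  have hnt : Nontrivial (Subrepresentation W.toRepresentation) := by
    refine ⟨⊥, ⊤, ?_⟩
    intro h
    obtain ⟨w, hw, hw0⟩ := hne
    have h1 : (⟨w, hw⟩ : W.toSubmodule) ∈ (⊤ : Subrepresentation W.toRepresentation) := trivial
    rw [← h] at h1
    have h2 : (⟨w, hw⟩ : W.toSubmodule) = 0 := h1
    exact hw0 (congrArg Subtype.val h2)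
  refine { toNontrivial := hnt, eq_bot_or_eq_top := ?_ }
  intro U'
  let U : Subrepresentation ρ :=
    { toSubmodule := U'.toSubmodule.map W.toSubmodule.subtype
      apply_mem_toSubmodule := by
        rintro g v ⟨u, hu, rfl⟩
        exact ⟨W.toRepresentation g u, U'.apply_mem_toSubmodule g hu, rfl⟩ }
  have hUW : U ≤ W := by
    rintro v ⟨u, _, rfl⟩
    exact u.2
  have hmem : ∀ u : W.toSubmodule, (u : V) ∈ U ↔ u ∈ U' := by
    intro u
    constructor
    · rintro ⟨u', hu', he⟩
      have : u' = u := Subtype.ext he
      rwa [← this]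
    · intro hu
      exact ⟨u, hu, rfl⟩
  rcases hmin U hUW with h | h
  · left
    apply le_antisymm _ bot_le
    intro u hu
    have h1 : (u : V) ∈ U := (hmem u).mpr hu
    rw [h] at h1
    have h2 : (u : V) = 0 := h1
    exact Subtype.ext h2
  · right
    apply le_antisymm le_top
    intro u _
    apply (hmem u).mp
    rw [h]
    exact u.2

/-- **Maschke**: a finite-dimensional complex representation of a finite group in which `g` acts
nontrivially has an irreducible subrepresentation on which `g` acts nontrivially. -/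
theorem exists_irreducible_sub [Finite G] [FiniteDimensional ℂ V] (ρ : Representation ℂ G V) (g : G)
    (hg : ρ g ≠ 1) :
    ∃ W : Subrepresentation ρ, W.toRepresentation.IsIrreducible ∧ ∃ w ∈ W, ρ g w ≠ w := by
  classical
  have : NeZero (Nat.card G : ℂ) := ⟨by exact_mod_cast (Nat.card_pos (α := G)).ne'⟩
  have hss : ComplementedLattice (Subrepresentation ρ) :=
    (inferInstance : Representation.IsSemisimpleRepresentation ρ)
  let S : Set (Subrepresentation ρ) := {W | ∃ w ∈ W, ρ g w ≠ w}
  have hS : S.Nonempty := by
    refine ⟨⊤, ?_⟩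
    by_contra hcon
    apply hg
    apply LinearMap.ext
    intro v
    by_contra hv
    exact hcon ⟨v, trivial, hv⟩
  let μ : Subrepresentation ρ → ℕ := fun W => finrank ℂ W.toSubmodule
  obtain ⟨W, hWS, hWmin⟩ := (measure μ).wf.has_min S hS
  have hWmin' : ∀ U : Subrepresentation ρ, U ∈ S → ¬ μ U < μ W := fun U hU => hWmin U hU
  have hlt : ∀ U : Subrepresentation ρ, U ≤ W → U ≠ W → μ U < μ W := by
    intro U hUW hne
    apply Submodule.finrank_lt_finrank_of_lt
    refine lt_of_le_of_ne hUW ?_
    intro h
    exact hne (Subrepresentation.toSubmodule_injective h)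
  have htriv : ∀ U : Subrepresentation ρ, U ≤ W → U ≠ W → ∀ u ∈ U, ρ g u = u := by
    intro U hUW hne u hu
    by_contra hcon
    exact hWmin' U ⟨u, hu, hcon⟩ (hlt U hUW hne)
  refine ⟨W, ?_, hWS⟩
  apply isIrreducible_toRepresentation
  · obtain ⟨w, hw, hgw⟩ := hWS
    refine ⟨w, hw, ?_⟩
    rintro rfl
    exact hgw (map_zero _)
  · intro U hUW
    by_contra hcon
    push Not at hcon
    obtain ⟨hU0, hUne⟩ := hcon
    obtain ⟨U'', hU''⟩ := hss.exists_isCompl U
    have hU' : U'' ⊓ W ≠ W := by
      intro h
      have h1 : W ≤ U'' := by rw [← h]; exact inf_le_left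
      have h2 : U ≤ U ⊓ U'' := le_inf le_rfl (hUW.trans h1)
      rw [hU''.inf_eq_bot] at h2
      exact hU0 (le_antisymm h2 bot_le)
    obtain ⟨w, hw, hgw⟩ := hWS
    apply hgw
    have hsup : (w : V) ∈ (U ⊔ U'' : Subrepresentation ρ) := by
      rw [hU''.sup_eq_top]; trivial
    have hsup' : w ∈ U.toSubmodule ⊔ U''.toSubmodule := hsup
    obtain ⟨u, hu, u'', hu'', rfl⟩ := Submodule.mem_sup.mp hsup'
    have hu''W : u'' ∈ W := by
      have h1 : u ∈ W := hUW hu
      have h2 : u'' = (u + u'') - u := by abel
      rw [h2]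
      exact W.toSubmodule.sub_mem hw h1
    have e1 : ρ g u = u := htriv U hUW hUne u hu
    have e2 : ρ g u'' = u'' := htriv (U'' ⊓ W) inf_le_right hU' u'' ⟨hu'', hu''W⟩
    rw [map_add, e1, e2]

/-- a representation of dimension at most one of a perfect group is trivial -/
theorem eq_one_of_finrank_le_one [FiniteDimensional ℂ V] (ρ : Representation ℂ G V)
    (hperf : commutator G = ⊤) (h1 : finrank ℂ V ≤ 1) (g : G) : ρ g = 1 := by
  have hcomm : ∀ a b : V →ₗ[ℂ] V, a * b = b * a := by
    intro a b
    rcases Nat.lt_or_ge (finrank ℂ V) 1 with h0 | h0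
    · have h00 : finrank ℂ V = 0 := by omega
      have : Subsingleton V := (Module.finrank_zero_iff (R := ℂ) (M := V)).mp h00
      apply LinearMap.ext
      intro v
      exact Subsingleton.elim _ _
    · have h1' : finrank ℂ V = 1 := le_antisymm h1 h0
      obtain ⟨ca, hca, _⟩ := LinearMap.existsUnique_eq_smul_id_of_finrank_eq_one h1' a
      obtain ⟨cb, hcb, _⟩ := LinearMap.existsUnique_eq_smul_id_of_finrank_eq_one h1' b
      rw [hca, hcb]
      apply LinearMap.ext
      intro v
      simp only [Module.End.mul_apply, LinearMap.smul_apply, LinearMap.id_apply]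
      exact smul_comm ca cb v
  have hg : g ∈ commutator G := by rw [hperf]; trivial
  rw [commutator_eq_closure] at hg
  induction hg using Subgroup.closure_induction with
  | mem x hx =>
    obtain ⟨a, b, rfl⟩ := hx
    rw [commutatorElement_def, map_mul, map_mul, map_mul, hcomm (ρ a) (ρ b), mul_assoc (ρ b),
      ← map_mul, mul_inv_cancel, map_one, mul_one, ← map_mul, mul_inv_cancel, map_one]
  | one => exact map_one _
  | mul x y _ _ hx hy => rw [map_mul, hx, hy, mul_one]
  | inv x _ hx =>
    have : ρ x⁻¹ * ρ x = 1 := by rw [← map_mul, inv_mul_cancel, map_one]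
    rw [hx, mul_one] at this
    exact this

end Cfsg.Agent.Lib.Helper8.SLMinGen
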