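import Mathlib
import Cfsg.Agent.Lib.Helper8.SLMinGen

/-!
helper8: S2332 leaf G1 (Maschke) in the planner's exact shape (notes/S2332_leaves.lean, section G).
-/

set_option autoImplicit false

namespace Cfsg.Agent.Lib.Helper8.SLMin

open Module

/-- G1 (Maschke): a representation with non-trivial action has an irreducible subrepresentation
with non-trivial action. -/
theorem exists_irreducible_sub_nontrivial {G : Type*} [Group G] [Finite G] {W : Type*}
    [AddCommGroup W] [Module ℂ W] [FiniteDimensional ℂ W] (ρ : Representation ℂ G W)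
    (h : ∃ g, ρ g ≠ 1) :
    ∃ σ : Subrepresentation ρ, σ.toRepresentation.IsIrreducible ∧ ∃ g, σ.toRepresentation g ≠ 1 := by
  obtain ⟨g, hg⟩ := h
  obtain ⟨σ, hσ, w, hw, hgw⟩ := Cfsg.Agent.Lib.Helper8.SLMinGen.exists_irreducible_sub ρ g hg
  refine ⟨σ, hσ, g, ?_⟩
  intro h1
  apply hgw
  have := congrArg (fun T : σ.toSubmodule →ₗ[ℂ] σ.toSubmodule => ((T ⟨w, hw⟩ : σ.toSubmodule) : W)) h1
  simpa [Subrepresentation.toRepresentation] using this

end Cfsg.Agent.Lib.Helper8.SLMin

namespace Cfsg.Agent.Lib.Helper8.SLMin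

/-- G2 (Maschke, complement form): every subrepresentation of a complex representation of a finite group has a
complementary subrepresentation. -/
theorem exists_isCompl_sub {G : Type*} [Group G] [Finite G] {W : Type*}
    [AddCommGroup W] [Module ℂ W] (ρ : Representation ℂ G W) (σ : Subrepresentation ρ) :
    ∃ σ' : Subrepresentation ρ, IsCompl σ σ' := by
  have : NeZero (Nat.card G : ℂ) := ⟨by exact_mod_cast (Nat.card_pos (α := G)).ne'⟩
  have hss : ComplementedLattice (Subrepresentation ρ) :=
    (inferInstance : Representation.IsSemisimpleRepresentation ρ)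
  exact hss.exists_isCompl σ

/-- G2': the complement at the level of subspaces: `σ ⊓ σ' = ⊥`, `σ ⊔ σ' = ⊤` as submodules, and the dimensions add -/
theorem exists_compl_finrank {G : Type*} [Group G] [Finite G] {W : Type*}
    [AddCommGroup W] [Module ℂ W] [FiniteDimensional ℂ W] (ρ : Representation ℂ G W)
    (σ : Subrepresentation ρ) :
    ∃ σ' : Subrepresentation ρ, σ.toSubmodule ⊓ σ'.toSubmodule = ⊥ ∧ σ.toSubmodule ⊔ σ'.toSubmodule = ⊤ ∧
      Module.finrank ℂ σ.toSubmodule + Module.finrank ℂ σ'.toSubmodule = Module.finrank ℂ W := by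
  obtain ⟨σ', h⟩ := exists_isCompl_sub ρ σ
  have h1 : σ.toSubmodule ⊓ σ'.toSubmodule = ⊥ := by
    have := h.inf_eq_bot
    exact congrArg Subrepresentation.toSubmodule this
  have h2 : σ.toSubmodule ⊔ σ'.toSubmodule = ⊤ := by
    have := h.sup_eq_top
    exact congrArg Subrepresentation.toSubmodule this
  refine ⟨σ', h1, h2, ?_⟩
  have h3 := Submodule.finrank_sup_add_finrank_inf_eq σ.toSubmodule σ'.toSubmodule
  rw [h1, h2, finrank_bot, finrank_top, add_zero] at h3
  exact h3.symm

end Cfsg.Agent.Lib.Helper8.SLMin
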