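/-
helper8: B&G 14.7 (partner theory) for a regular root `(M, K)`: `M` maximal, `K ≠ 1` a Hall
`κ(M)`-subgroup (cyclic by S1351), `K* = C_{M_σ}(K)`, `Z = K K*`.  Part A: the root and the basic
facts about a partner `H ⊇ N_G(X)`, `X ≤ K` of prime order (port of `BGPSA` to the regular root).
-/
import Mathlib
import Cfsg.Agent.Lib.Helper8.BGPSE
import Cfsg.Agent.Lib.Helper1.BGEmb1
import Cfsg.Agent.S1351

set_option autoImplicit false
set_option linter.unusedSectionVars false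
set_option linter.unusedVariables false
set_option linter.style.haveILetI false

namespace Cfsg.Agent.Lib.Helper8.BGQ

open Cfsg.Agent.Lib.Helper2.BGCor (T142 H28 CorR CorG1)
open Cfsg.Agent.Lib.Helper24.BGC2T (C1431)
open Cfsg.Agent.Lib.Helper8 (mem_map_conj conj_mem_map_conj map_conj_map_conj map_conj_one
  map_conj_le_iff map_conj_eq_iff card_map_conj mem_normalizer_iff_map_conj IsSylIn)
open Cfsg.Agent.Lib.Helper8.BGPS (sigma_disjoint_of_nonconj sigmaCore_inf_sigmaCore_eq_bot)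

universe u

variable {G : Type u} [Group G]

/-- a regular root: a maximal subgroup `M` with a nontrivial Hall `κ(M)`-subgroup `K`. -/
structure Root (M K : Subgroup G) : Prop where
  hG : Cfsg.IsMinSimpleOddOrder G
  hM : IsCoatom M
  hK : Cfsg.IsPiHallOf (Cfsg.kappa M) K M
  hK1 : K ≠ ⊥

variable [Finite G] {M K : Subgroup G}

namespace Root

theorem h28 (r : Root M K) : Cfsg.Agent.Lib.Helper17.BGR2.H1428 G :=
  Cfsg.Agent.Lib.Helper27.BGPCount.h1428_real r.hG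

theorem hU (r : Root M K) : Cfsg.Agent.Lib.Helper1.BGX.UT G :=
  fun K hK h2 h3 => Cfsg.Agent.S1403.result r.hG K hK h2 h3

theorem t142 (r : Root M K) : T142 M K :=
  (Cfsg.Agent.Lib.Helper20.BGFin.t142_and_c1431_real r.hG r.hM r.hK r.hK1).1

theorem c1431 (r : Root M K) : C1431 M K :=
  (Cfsg.Agent.Lib.Helper20.BGFin.t142_and_c1431_real r.hG r.hM r.hK r.hK1).2

theorem cyclic (r : Root M K) : IsCyclic ↥K := (Cfsg.Agent.S1351.result r.hG M r.hM).2 K r.hK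

theorem K_le (r : Root M K) : K ≤ M := r.hK.1

theorem comm (r : Root M K) : ∀ a ∈ K, ∀ b ∈ K, a * b = b * a := by
  intro a ha b hb
  haveI := r.cyclic
  have := mul_comm' (⟨a, ha⟩ : ↥K) ⟨b, hb⟩
  exact congrArg Subtype.val this

/-- prime action of `K` on `M_σ`. -/
theorem cent_elem (r : Root M K) {k : G} (hk : k ∈ K) (hk1 : k ≠ 1) :
    Cfsg.sigmaCore M ⊓ Subgroup.centralizer ({k} : Set G) =
      Cfsg.sigmaCore M ⊓ Subgroup.centralizer (K : Set G) := r.t142.1 k hk hk1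

theorem Ks_ne_bot (r : Root M K) : Cfsg.sigmaCore M ⊓ Subgroup.centralizer (K : Set G) ≠ ⊥ :=
  Cfsg.Agent.Lib.Helper1.BGEmb.kstar_ne_bot r.hG r.hM r.hK r.hK1 r.t142

/-- `K` and `K*` commute elementwise. -/
theorem comm_K_Ks (r : Root M K) : ∀ k ∈ K,
    ∀ b ∈ Cfsg.sigmaCore M ⊓ Subgroup.centralizer (K : Set G), k * b = b * k :=
  fun k hk b hb => Subgroup.mem_centralizer_iff.mp hb.2 k hk

/-- the primes of `|K|` are in `κ(M)`. -/
theorem kappa_of_dvd (r : Root M K) {p : ℕ} (hp : p.Prime) (hd : p ∣ Nat.card K) :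
    p ∈ Cfsg.kappa M := r.hK.2.1 p hp hd

/-- `K ∩ M_σ = 1`. -/
theorem K_inf_sigmaCore (r : Root M K) : K ⊓ Cfsg.sigmaCore M = ⊥ := by
  rw [← Subgroup.card_eq_one]
  by_contra hne
  obtain ⟨p, hp, hpd⟩ := Nat.exists_prime_and_dvd hne
  have h1 : p ∈ Cfsg.kappa M := r.kappa_of_dvd hp (hpd.trans (Subgroup.card_dvd_of_le inf_le_left))
  exact h1.2.2.1 (Cfsg.Agent.Lib.Helper2.BGCor.primes_card_sigmaCore M p hp
    (hpd.trans (Subgroup.card_dvd_of_le inf_le_right)))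

/-- `K ∩ K* = 1`. -/
theorem K_inf_Ks (r : Root M K) :
    K ⊓ (Cfsg.sigmaCore M ⊓ Subgroup.centralizer (K : Set G)) = ⊥ := by
  rw [eq_bot_iff, ← r.K_inf_sigmaCore]
  exact inf_le_inf_left _ inf_le_left

/-- `|K|` is prime to `|M_σ|`. -/
theorem coprime_K (r : Root M K) : (Nat.card K).Coprime (Nat.card (Cfsg.sigmaCore M)) := by
  apply Nat.Coprime.symm
  apply Nat.coprime_of_dvd
  intro p hp hd1 hd2
  exact (r.kappa_of_dvd hp hd2).2.2.1
    (Cfsg.Agent.Lib.Helper2.BGCor.primes_card_sigmaCore M p hp hd1)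

/-- `Z = K K* ≤ M`. -/
theorem Z_le (r : Root M K) :
    K ⊔ (Cfsg.sigmaCore M ⊓ Subgroup.centralizer (K : Set G)) ≤ M :=
  sup_le r.K_le (inf_le_left.trans (Cfsg.Agent.Lib.Helper2.BGCor.sigmaCore_le M))

/-- `N_G(Y) ≤ M` for `1 ≠ Y ≤ K*` (S1431(a)). -/
theorem normalizer_Ks_le (r : Root M K) {Y : Subgroup G}
    (hY : Y ≤ Cfsg.sigmaCore M ⊓ Subgroup.centralizer (K : Set G)) (hY1 : Y ≠ ⊥) :
    Subgroup.normalizer (Y : Set G) ≤ M :=
  Cfsg.Agent.Lib.Helper1.BGEmb.normalizer_le_of_le_kstar r.c1431 hY hY1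

/-- the members of `K*^#` are good for `M`. -/
theorem good_M (r : Root M K) {a : G}
    (ha : a ∈ Cfsg.sigmaCore M ⊓ Subgroup.centralizer (K : Set G)) (ha1 : a ≠ 1) :
    Subgroup.centralizer ({a} : Set G) ≤ M := by
  have h1 := Cfsg.Agent.Lib.Helper8.BGPS.centralizer_singleton_le_centralizer_zpowers_pow a 1
  rw [pow_one] at h1
  refine h1.trans ((Subgroup.centralizer_le_normalizer _).trans
    (r.normalizer_Ks_le (Subgroup.zpowers_le.mpr ha) ?_))
  intro h0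
  have : a ∈ (⊥ : Subgroup G) := h0 ▸ Subgroup.mem_zpowers a
  exact ha1 (Subgroup.mem_bot.mp this)

/-- `Z ∩ M_σ = K*`. -/
theorem Z_inf_sigmaCore (r : Root M K) :
    (K ⊔ (Cfsg.sigmaCore M ⊓ Subgroup.centralizer (K : Set G))) ⊓ Cfsg.sigmaCore M =
      Cfsg.sigmaCore M ⊓ Subgroup.centralizer (K : Set G) := by
  apply le_antisymm
  · intro z hz
    obtain ⟨e, he, b, hb, rfl⟩ :=
      Cfsg.Agent.Lib.Helper8.BGPS.exists_mul_of_mem_sup_of_commute r.comm_K_Ks hz.1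
    have he1 : e ∈ K ⊓ Cfsg.sigmaCore M := by
      refine Subgroup.mem_inf.mpr ⟨he, ?_⟩
      have : e = e * b * b⁻¹ := by group
      rw [this]
      exact Subgroup.mul_mem _ hz.2 (Subgroup.inv_mem _ hb.1)
    rw [r.K_inf_sigmaCore, Subgroup.mem_bot] at he1
    rw [he1, one_mul]
    exact hb
  · exact le_inf le_sup_right inf_le_left

section partner

variable {X H : Subgroup G}

theorem X_ne_bot (hXp : (Nat.card X).Prime) : X ≠ ⊥ := by
  intro h0
  rw [h0, Subgroup.card_bot] at hXp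
  exact Nat.not_prime_one hXp

/-- `K ≤ H`. -/
theorem K_le_H (r : Root M K) (hXK : X ≤ K) (hNH : Subgroup.normalizer (X : Set G) ≤ H) :
    K ≤ H := by
  refine le_trans ?_ ((Subgroup.centralizer_le_normalizer _).trans hNH)
  intro k hk
  rw [Subgroup.mem_centralizer_iff]
  intro x hx
  exact r.comm x (hXK hx) k hk

/-- `K* ≤ H`. -/
theorem Ks_le_H (r : Root M K) (hXK : X ≤ K) (hNH : Subgroup.normalizer (X : Set G) ≤ H) :
    Cfsg.sigmaCore M ⊓ Subgroup.centralizer (K : Set G) ≤ H :=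
  (inf_le_right.trans (Subgroup.centralizer_le hXK)).trans
    ((Subgroup.centralizer_le_normalizer _).trans hNH)

/-- `Z ≤ H`. -/
theorem Z_le_H (r : Root M K) (hXK : X ≤ K) (hNH : Subgroup.normalizer (X : Set G) ≤ H) :
    K ⊔ (Cfsg.sigmaCore M ⊓ Subgroup.centralizer (K : Set G)) ≤ H :=
  sup_le (r.K_le_H hXK hNH) (r.Ks_le_H hXK hNH)

/-- `|X| ∈ κ(M)`. -/
theorem card_mem_kappa (r : Root M K) (hXK : X ≤ K) (hXp : (Nat.card X).Prime) :
    Nat.card X ∈ Cfsg.kappa M := r.kappa_of_dvd hXp (Subgroup.card_dvd_of_le hXK)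

/-- `X ≤ H_σ`. -/
theorem X_le_sigmaCore (r : Root M K) (hXK : X ≤ K) (hXp : (Nat.card X).Prime)
    (hH : IsCoatom H) (hNH : Subgroup.normalizer (X : Set G) ≤ H) : X ≤ Cfsg.sigmaCore H :=
  (r.t142.2.2 X hXK hXp).2.2 H hH hNH

/-- `|X| ∈ σ(H)`. -/
theorem card_mem_sigma (r : Root M K) (hXK : X ≤ K) (hXp : (Nat.card X).Prime)
    (hH : IsCoatom H) (hNH : Subgroup.normalizer (X : Set G) ≤ H) :
    Nat.card X ∈ Cfsg.sigma H :=
  Cfsg.Agent.Lib.Helper2.BGCor.primes_card_sigmaCore H _ hXp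
    (Subgroup.card_dvd_of_le (r.X_le_sigmaCore hXK hXp hH hNH))

/-- `H` is not conjugate to `M`. -/
theorem nonconj (r : Root M K) (hXK : X ≤ K) (hXp : (Nat.card X).Prime)
    (hH : IsCoatom H) (hNH : Subgroup.normalizer (X : Set G) ≤ H) :
    ∀ g : G, H ≠ M.map (MulAut.conj g).toMonoidHom := by
  haveI : Fact (Nat.card X).Prime := ⟨hXp⟩
  have hκ := r.card_mem_kappa hXK hXp
  exact (Cfsg.Agent.Lib.Helper16.BGPrim.thm13_2_zero r.hG hH hκ.2.2.1
    (Cfsg.Agent.Lib.Helper2.BGCor.pRankLE_one_of_kappa hκ)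
    (IsPGroup.of_card (n := 1) (by rw [pow_one])) (X_ne_bot hXp) hNH).1

theorem H_ne_M (r : Root M K) (hXK : X ≤ K) (hXp : (Nat.card X).Prime)
    (hH : IsCoatom H) (hNH : Subgroup.normalizer (X : Set G) ≤ H) : H ≠ M := by
  intro h
  apply r.nonconj hXK hXp hH hNH 1
  rw [map_conj_one, h]

/-- `σ(M) ∩ σ(H) = ∅`. -/
theorem sigma_disjoint (r : Root M K) (hXK : X ≤ K) (hXp : (Nat.card X).Prime)
    (hH : IsCoatom H) (hNH : Subgroup.normalizer (X : Set G) ≤ H) {q : ℕ}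
    (hq : q ∈ Cfsg.sigma M) : q ∉ Cfsg.sigma H :=
  sigma_disjoint_of_nonconj r.hG r.h28 r.hM hH (r.nonconj hXK hXp hH hNH) hq

/-- `M_σ ∩ H_σ = 1`. -/
theorem sigmaCore_inf_sigmaCore (r : Root M K) (hXK : X ≤ K) (hXp : (Nat.card X).Prime)
    (hH : IsCoatom H) (hNH : Subgroup.normalizer (X : Set G) ≤ H) :
    Cfsg.sigmaCore M ⊓ Cfsg.sigmaCore H = ⊥ :=
  sigmaCore_inf_sigmaCore_eq_bot (fun _ hq => r.sigma_disjoint hXK hXp hH hNH hq)

/-- `M_σ ∩ H = K*`. -/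
theorem sigmaCore_inf (r : Root M K) (hXK : X ≤ K) (hXp : (Nat.card X).Prime)
    (hH : IsCoatom H) (hNH : Subgroup.normalizer (X : Set G) ≤ H) :
    Cfsg.sigmaCore M ⊓ H = Cfsg.sigmaCore M ⊓ Subgroup.centralizer (K : Set G) := by
  haveI : Fact (Nat.card X).Prime := ⟨hXp⟩
  have hκ := r.card_mem_kappa hXK hXp
  have hX1 := X_ne_bot hXp
  have hG := r.hG
  rw [Cfsg.Agent.Lib.Helper16.BGPrim.thm13_2_c hG (Cfsg.Agent.Lib.Helper17.BGR2.h17 hG)
    (Cfsg.Agent.Lib.Helper17.BGR2.h18 hG) (Cfsg.Agent.Lib.Helper17.BGR2.h23 hG)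
    (Cfsg.Agent.Lib.Helper17.BGR2.h24 hG) r.hM hH hκ.2.2.1
    (Cfsg.Agent.Lib.Helper2.BGCor.pRankLE_one_of_kappa hκ)
    (IsPGroup.of_card (n := 1) (by rw [pow_one])) hX1 (hXK.trans r.K_le) hNH]
  obtain ⟨x, hx, hx1⟩ := (Subgroup.bot_or_exists_ne_one _).resolve_left hX1
  apply le_antisymm
  · rw [← r.cent_elem (hXK hx) hx1]
    refine inf_le_inf_left _ (Subgroup.centralizer_le ?_)
    rintro _ rfl
    exact hx
  · exact inf_le_inf_left _ (Subgroup.centralizer_le hXK)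

/-- **uniqueness of the partner**. -/
theorem unique (r : Root M K) (hXK : X ≤ K) (hXp : (Nat.card X).Prime)
    (hH : IsCoatom H) (hNH : Subgroup.normalizer (X : Set G) ≤ H) {X' H' : Subgroup G}
    (hX'K : X' ≤ K) (hX'p : (Nat.card X').Prime) (hH' : IsCoatom H')
    (hNH' : Subgroup.normalizer (X' : Set G) ≤ H') (hσ : Nat.card X' ∈ Cfsg.sigma H) :
    H' = H := by
  have hG := r.hG
  haveI : Fact (Nat.card X').Prime := ⟨hX'p⟩
  have hσ' := r.card_mem_sigma hX'K hX'p hH' hNH'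
  obtain ⟨g, hg⟩ := (Cfsg.Agent.Lib.Helper9.BGSigPart.s1378_of_h1428 hG r.h28).2 H H' hH hH'
    ⟨_, hσ, hσ'⟩
  have hX'H : X' ≤ H := hX'K.trans (r.K_le_H hXK hNH)
  have hX'H' : X' ≤ H' := Subgroup.le_normalizer.trans hNH'
  have hX'1 := X_ne_bot hX'p
  have hconj : X'.map (MulAut.conj g⁻¹).toMonoidHom ≤ H := by
    rw [map_conj_le_iff, inv_inv, ← hg]
    exact hX'H'
  obtain ⟨m, hm, c, hc, hgmc⟩ := (Cfsg.Agent.S1404.result hG H hH (Nat.card X') hσ X'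
    (IsPGroup.of_card (n := 1) (by rw [pow_one])) hX'1 hX'H).1 g⁻¹ hconj
  have hcH' : c ∈ H' := hNH' (Subgroup.centralizer_le_normalizer _ hc)
  have hg' : g = c⁻¹ * m⁻¹ := by rw [← mul_inv_rev, ← hgmc, inv_inv]
  have h1 : H.map (MulAut.conj m⁻¹).toMonoidHom = H :=
    mem_normalizer_iff_map_conj.mp (Subgroup.le_normalizer (H.inv_mem hm))
  have h2 : H' = H.map (MulAut.conj c⁻¹).toMonoidHom := by
    rw [hg, hg', ← map_conj_map_conj, h1]
  have h3 : H'.map (MulAut.conj c).toMonoidHom = H' :=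
    mem_normalizer_iff_map_conj.mp (Subgroup.le_normalizer hcH')
  rw [h2, map_conj_map_conj, mul_inv_cancel, map_conj_one] at h3
  exact h2.trans h3.symm

/-- two partners are equal or have disjoint `σ`. -/
theorem partner_sigma_disjoint (r : Root M K) (hXK : X ≤ K) (hXp : (Nat.card X).Prime)
    (hH : IsCoatom H) (hNH : Subgroup.normalizer (X : Set G) ≤ H) {X' H' : Subgroup G}
    (hX'K : X' ≤ K) (hX'p : (Nat.card X').Prime) (hH' : IsCoatom H')
    (hNH' : Subgroup.normalizer (X' : Set G) ≤ H') (hne : H' ≠ H) {q : ℕ}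
    (hq : q ∈ Cfsg.sigma H) : q ∉ Cfsg.sigma H' := by
  intro hq'
  obtain ⟨g, hg⟩ := (Cfsg.Agent.Lib.Helper9.BGSigPart.s1378_of_h1428 r.hG r.h28).2 H H' hH hH'
    ⟨_, hq, hq'⟩
  apply hne
  apply r.unique hXK hXp hH hNH hX'K hX'p hH' hNH'
  have h1 := r.card_mem_sigma hX'K hX'p hH' hNH'
  rw [hg] at h1
  have h2 := Cfsg.Agent.Lib.Helper16.BGPrim.sigma_map_conj h1 g⁻¹
  rwa [map_conj_map_conj, inv_mul_cancel, map_conj_one] at h2

/-- every subgroup of prime order of `K` has a partner. -/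
theorem exists_partner (r : Root M K) (hXK : X ≤ K) (hXp : (Nat.card X).Prime) :
    ∃ H : Subgroup G, IsCoatom H ∧ Subgroup.normalizer (X : Set G) ≤ H := by
  haveI := r.hG.2.1
  have hXtop : X ≠ ⊤ := fun h => r.hM.1 (top_le_iff.mp (h ▸ hXK.trans r.K_le))
  exact Cfsg.Agent.Lib.Helper17.BGU.exists_coatom_ge
    (Cfsg.Agent.Lib.Helper17.BGU.normalizer_ne_top (X_ne_bot hXp) hXtop)

end partner

end Root

end Cfsg.Agent.Lib.Helper8.BGQ
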