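/-
helper8: B&G 14.7 (partner theory) for a regular root `(M, K)`, part B: the structure of a partner
`H ⊇ N_G(X)`: the primes of `K*` are in `κ(H)`, `H_σ ∩ M = C_{H_σ}(Y) ≤ K`, `M ∩ H = K K*`.
-/
import Mathlib
import Cfsg.Agent.Lib.Helper8.BGQA
import Cfsg.Agent.S1420

set_option autoImplicit false
set_option linter.unusedSectionVars false
set_option linter.unusedVariables false
set_option linter.style.haveILetI false

namespace Cfsg.Agent.Lib.Helper8.BGQ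

open Cfsg.Agent.Lib.Helper2.BGCor (T142 H28 CorR CorG1)
open Cfsg.Agent.Lib.Helper24.BGC2T (C1431)
open Cfsg.Agent.Lib.Helper8 (mem_map_conj conj_mem_map_conj map_conj_map_conj map_conj_one
  map_conj_le_iff map_conj_eq_iff card_map_conj mem_normalizer_iff_map_conj IsSylIn)

universe u

variable {G : Type u} [Group G] [Finite G] {M K : Subgroup G}

namespace Root

variable {X H Y : Subgroup G}

/-- (P6) a subgroup `Y ≤ K*` of prime order has `|Y| ∈ κ(H) ∖ σ(H)`. -/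
theorem card_Y_mem_kappa (r : Root M K) (hXK : X ≤ K) (hXp : (Nat.card X).Prime)
    (hH : IsCoatom H) (hNH : Subgroup.normalizer (X : Set G) ≤ H)
    (hYT : Y ≤ Cfsg.sigmaCore M ⊓ Subgroup.centralizer (K : Set G))
    (hYq : (Nat.card Y).Prime) :
    Nat.card Y ∉ Cfsg.sigma H ∧ Nat.card Y ∈ Cfsg.kappa H := by
  have hG := r.hG
  obtain ⟨x, hx, hx1⟩ := (Subgroup.bot_or_exists_ne_one _).resolve_left (X_ne_bot hXp)
  obtain ⟨y, hyY, hy1, hyo, hyz⟩ :=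
    Cfsg.Agent.Lib.Helper24.BGC2C.exists_generator_of_prime_card hYq rfl
  have hyH : y ∈ H := r.Ks_le_H hXK hNH (hYT hyY)
  have hxσ : x ∈ Cfsg.sigmaCore H := r.X_le_sigmaCore hXK hXp hH hNH hx
  have hyx : y * x = x * y := (r.comm_K_Ks x (hXK hx) y (hYT hyY)).symm
  have hqσM : Nat.card Y ∈ Cfsg.sigma M :=
    Cfsg.Agent.Lib.Helper2.BGCor.primes_card_sigmaCore M _ hYq
      (Subgroup.card_dvd_of_le (hYT.trans inf_le_left))
  have hqσ : Nat.card Y ∉ Cfsg.sigma H := r.sigma_disjoint hXK hXp hH hNH hqσM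
  refine ⟨hqσ, ?_⟩
  rcases Cfsg.Agent.Lib.Helper2.BGCor.kappa_or_tau2 hG r.hU hH hxσ hx1 hyH hYq hyo hyx hqσ with
    h | h
  · exact h
  · exfalso
    obtain ⟨EH, hEH, -⟩ := Cfsg.Agent.Lib.Helper17.BGC2.exists_compl_ge hG hH
      (bot_le : (⊥ : Subgroup G) ≤ H) (by rw [Subgroup.card_bot]; exact Nat.coprime_one_left _)
    have h20 := (Cfsg.Agent.S1420.result hG H hH EH hEH).2.2.2 y hyH hy1 ?_
      ⟨hyH, x, hxσ, hx1, hyx⟩
    · exact r.H_ne_M hXK hXp hH hNH (h20.2 M r.hM (r.good_M (hYT hyY) hy1)).symm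
    · intro p hp hd
      rw [hyo] at hd
      rwa [(Nat.prime_dvd_prime_iff_eq hp hYq).mp hd]

/-- a root `(H, K**)` with `Y ≤ K**`. -/
theorem exists_rootH (r : Root M K) (hXK : X ≤ K) (hXp : (Nat.card X).Prime)
    (hH : IsCoatom H) (hNH : Subgroup.normalizer (X : Set G) ≤ H)
    (hYT : Y ≤ Cfsg.sigmaCore M ⊓ Subgroup.centralizer (K : Set G))
    (hYq : (Nat.card Y).Prime) : ∃ Kss : Subgroup G, Root H Kss ∧ Y ≤ Kss := by
  obtain ⟨hqσ, hqκ⟩ := r.card_Y_mem_kappa hXK hXp hH hNH hYT hYq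
  obtain ⟨Kss, hKss, hYK⟩ := Cfsg.Agent.Lib.Helper2.BGCor.exists_hall_ge r.hG hH (Cfsg.kappa H)
    (hYT.trans (r.Ks_le_H hXK hNH)) (Y := Y) (by
      intro p hp hd
      rwa [(Nat.prime_dvd_prime_iff_eq hp hYq).mp hd])
  refine ⟨Kss, ⟨r.hG, hH, hKss, ?_⟩, hYK⟩
  intro h0
  exact X_ne_bot hYq (le_bot_iff.mp (h0 ▸ hYK))

/-- (6) `H_σ ∩ M = C_{H_σ}(Y)`. -/
theorem sigmaCore_H_inf (r : Root M K) (hXK : X ≤ K) (hXp : (Nat.card X).Prime)
    (hH : IsCoatom H) (hNH : Subgroup.normalizer (X : Set G) ≤ H)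
    (hYT : Y ≤ Cfsg.sigmaCore M ⊓ Subgroup.centralizer (K : Set G))
    (hYq : (Nat.card Y).Prime) :
    Cfsg.sigmaCore H ⊓ M = Cfsg.sigmaCore H ⊓ Subgroup.centralizer (Y : Set G) := by
  haveI : Fact (Nat.card Y).Prime := ⟨hYq⟩
  have hG := r.hG
  obtain ⟨hqσ, hqκ⟩ := r.card_Y_mem_kappa hXK hXp hH hNH hYT hYq
  exact Cfsg.Agent.Lib.Helper16.BGPrim.thm13_2_c hG (Cfsg.Agent.Lib.Helper17.BGR2.h17 hG)
    (Cfsg.Agent.Lib.Helper17.BGR2.h18 hG) (Cfsg.Agent.Lib.Helper17.BGR2.h23 hG)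
    (Cfsg.Agent.Lib.Helper17.BGR2.h24 hG) hH r.hM hqσ
    (Cfsg.Agent.Lib.Helper2.BGCor.pRankLE_one_of_kappa hqκ)
    (IsPGroup.of_card (n := 1) (by rw [pow_one])) (X_ne_bot hYq)
    (hYT.trans (r.Ks_le_H hXK hNH)) (r.normalizer_Ks_le hYT (X_ne_bot hYq))

/-- (7) the primes of `H_σ ∩ M` are in `κ(M)`. -/
theorem kappa_of_dvd_sigmaCore_H_inf (r : Root M K) (hXK : X ≤ K) (hXp : (Nat.card X).Prime)
    (hH : IsCoatom H) (hNH : Subgroup.normalizer (X : Set G) ≤ H)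
    (hYT : Y ≤ Cfsg.sigmaCore M ⊓ Subgroup.centralizer (K : Set G))
    (hYq : (Nat.card Y).Prime) {p : ℕ} (hp : p.Prime)
    (hd : p ∣ Nat.card ↥(Cfsg.sigmaCore H ⊓ M)) : p ∈ Cfsg.kappa M := by
  have hG := r.hG
  haveI : Fact p.Prime := ⟨hp⟩
  obtain ⟨⟨w, hw⟩, hwo⟩ := exists_prime_orderOf_dvd_card' p hd
  have hwo' : orderOf w = p := by
    rw [← hwo]
    exact (Subgroup.orderOf_mk w hw).symm
  have hw1 : w ≠ 1 := by
    rintro rfl
    rw [orderOf_one] at hwo'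
    exact hp.one_lt.ne hwo'
  obtain ⟨y, hyY, hy1, hyo, hyz⟩ :=
    Cfsg.Agent.Lib.Helper24.BGC2C.exists_generator_of_prime_card hYq rfl
  have hw' := hw
  rw [r.sigmaCore_H_inf hXK hXp hH hNH hYT hYq] at hw'
  have hwy : w * y = y * w := (Subgroup.mem_centralizer_iff.mp hw'.2 y hyY).symm
  have hpσH : p ∈ Cfsg.sigma H :=
    Cfsg.Agent.Lib.Helper2.BGCor.primes_card_sigmaCore H p hp
      (hd.trans (Subgroup.card_dvd_of_le inf_le_left))
  have hpσM : p ∉ Cfsg.sigma M := fun h => r.sigma_disjoint hXK hXp hH hNH h hpσH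
  have hyMσ : y ∈ Cfsg.sigmaCore M := (hYT hyY).1
  rcases Cfsg.Agent.Lib.Helper2.BGCor.kappa_or_tau2 hG r.hU r.hM hyMσ hy1 hw.2 hp hwo' hwy hpσM with
    h | h
  · exact h
  · exfalso
    obtain ⟨EM, hEM, -⟩ := Cfsg.Agent.Lib.Helper17.BGC2.exists_compl_ge hG r.hM
      (bot_le : (⊥ : Subgroup G) ≤ M) (by rw [Subgroup.card_bot]; exact Nat.coprime_one_left _)
    have h20 := (Cfsg.Agent.S1420.result hG M r.hM EM hEM).2.2.2 w hw.2 hw1 ?_
      ⟨hw.2, y, hyMσ, hy1, hwy⟩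
    · obtain ⟨Kss, rH, hYK⟩ := r.exists_rootH hXK hXp hH hNH hYT hYq
      have hwK : w ∈ Cfsg.sigmaCore H ⊓ Subgroup.centralizer (Kss : Set G) := by
        rw [← rH.cent_elem (hYK hyY) hy1]
        refine Subgroup.mem_inf.mpr ⟨hw.1, ?_⟩
        rw [Subgroup.mem_centralizer_iff]
        rintro _ rfl
        exact hwy.symm
      exact r.H_ne_M hXK hXp hH hNH (h20.2 H hH (rH.good_M hwK hw1))
    · intro p' hp' hd'
      rw [hwo'] at hd'
      rwa [(Nat.prime_dvd_prime_iff_eq hp' hp).mp hd']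

/-- (8) `H_σ ∩ M ≤ K`. -/
theorem sigmaCore_H_inf_le (r : Root M K) (hXK : X ≤ K) (hXp : (Nat.card X).Prime)
    (hH : IsCoatom H) (hNH : Subgroup.normalizer (X : Set G) ≤ H)
    (hYT : Y ≤ Cfsg.sigmaCore M ⊓ Subgroup.centralizer (K : Set G))
    (hYq : (Nat.card Y).Prime) : Cfsg.sigmaCore H ⊓ M ≤ K := by
  have hnorm : K ≤ Subgroup.normalizer ((Cfsg.sigmaCore H ⊓ M : Subgroup G) : Set G) := by
    refine le_trans (le_inf ?_ ?_) Subgroup.inf_normalizer_le_normalizer_inf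
    · exact (r.K_le_H hXK hNH).trans (Cfsg.Agent.Lib.Helper2.BGCor.le_normalizer_sigmaCore H)
    · exact r.K_le.trans Subgroup.le_normalizer
  have hcard := Cfsg.Agent.Lib.Helper4.card_sup_mul_card_inf K (Cfsg.sigmaCore H ⊓ M) hnorm
  have hle : K ⊔ (Cfsg.sigmaCore H ⊓ M) ≤ M := sup_le r.K_le inf_le_right
  have heq : K = K ⊔ (Cfsg.sigmaCore H ⊓ M) := by
    refine Cfsg.Agent.Lib.Helper8.BGPS.eq_of_piHall_le r.hK le_sup_left hle ?_
    intro p hp hd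
    have h1 : p ∣ Nat.card K * Nat.card ↥(Cfsg.sigmaCore H ⊓ M) := by
      rw [← hcard]
      exact Dvd.dvd.mul_right hd _
    rcases (Nat.Prime.dvd_mul hp).mp h1 with h | h
    · exact r.kappa_of_dvd hp h
    · exact r.kappa_of_dvd_sigmaCore_H_inf hXK hXp hH hNH hYT hYq hp h
  calc Cfsg.sigmaCore H ⊓ M ≤ K ⊔ (Cfsg.sigmaCore H ⊓ M) := le_sup_right
    _ = K := heq.symm

/-- (9) `M ∩ H = K K*`. -/
theorem inf_eq (r : Root M K) (hXK : X ≤ K) (hXp : (Nat.card X).Prime)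
    (hH : IsCoatom H) (hNH : Subgroup.normalizer (X : Set G) ≤ H)
    (hYT : Y ≤ Cfsg.sigmaCore M ⊓ Subgroup.centralizer (K : Set G))
    (hYq : (Nat.card Y).Prime) :
    M ⊓ H = K ⊔ (Cfsg.sigmaCore M ⊓ Subgroup.centralizer (K : Set G)) := by
  apply le_antisymm
  · rw [← (r.t142.2.2 X hXK hXp).1]
    intro m hm
    refine Subgroup.mem_inf.mpr ⟨hm.1, ?_⟩
    have hmN : m ∈ Subgroup.normalizer ((Cfsg.sigmaCore H ⊓ M : Subgroup G) : Set G) := by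
      refine Subgroup.inf_normalizer_le_normalizer_inf (Subgroup.mem_inf.mpr ⟨?_, ?_⟩)
      · exact Cfsg.Agent.Lib.Helper2.BGCor.le_normalizer_sigmaCore H hm.2
      · exact Subgroup.le_normalizer hm.1
    rw [mem_normalizer_iff_map_conj] at hmN ⊢
    have hXK1 : X ≤ Cfsg.sigmaCore H ⊓ M :=
      le_inf (r.X_le_sigmaCore hXK hXp hH hNH) (hXK.trans r.K_le)
    have hK1K := r.sigmaCore_H_inf_le hXK hXp hH hNH hYT hYq
    haveI := r.cyclic
    apply Cfsg.Agent.Lib.Helper9.eq_of_card_eq_of_le_isCyclic K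
    · rw [← hmN] at hK1K
      exact (Subgroup.map_mono hXK1).trans hK1K
    · exact hXK
    · rw [card_map_conj]
  · exact le_inf r.Z_le (r.Z_le_H hXK hNH)

end Root

end Cfsg.Agent.Lib.Helper8.BGQ
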