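/-
helper8: B&G 14.7 (partner theory) for a regular root `(M, K)`, part C: if `|K|` is not a prime
then `K` is a complement of `M_σ`; a partner `H` which is not the only partner has a complement
of `H_σ` inside `Z = K K*`.
-/
import Mathlib
import Cfsg.Agent.Lib.Helper8.BGQB
import Cfsg.Agent.Lib.Helper20.BGAlpha
import Cfsg.Agent.S1352

set_option autoImplicit false
set_option linter.unusedSectionVars false
set_option linter.unusedVariables false
set_option linter.style.haveILetI false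

namespace Cfsg.Agent.Lib.Helper8.BGQ

open Cfsg.Agent.Lib.Helper2.BGCor (T142 H28 CorR CorG1)
open Cfsg.Agent.Lib.Helper24.BGC2T (C1431)
open Cfsg.Agent.Lib.Helper8 (mem_map_conj conj_mem_map_conj map_conj_map_conj map_conj_one
  map_conj_le_iff map_conj_eq_iff card_map_conj mem_normalizer_iff_map_conj IsSylIn)
open Cfsg.Agent.Lib.Helper8.BGPS (card_sup_of_commute card_complIn dvd_card_of_not_pRankLE_one)

universe u

variable {G : Type u} [Group G] [Finite G] {M K : Subgroup G}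

namespace Root

/-- if `|K|` is not a prime then `K` is a complement of `M_σ` in `M` and `τ₂(M) = ∅`. -/
theorem compl_of_not_prime (r : Root M K) (hnp : ¬ (Nat.card K).Prime) :
    Cfsg.IsComplIn K (Cfsg.sigmaCore M) M ∧ ∀ q : ℕ, q ∉ Cfsg.tau2 M := by
  have hG := r.hG
  obtain ⟨U, hKU⟩ := (Cfsg.Agent.S1352.result hG M r.hM K r.cyclic r.hK).1
  have hU : U = ⊥ := by
    by_contra hU1
    exact hnp (Cfsg.Agent.Lib.Helper20.BGAlpha.card_prime_of_U_ne_bot hG r.hM hKU r.hK1 hU1)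
  subst hU
  have hc : Cfsg.IsComplIn K (Cfsg.sigmaCore M) M := by
    refine ⟨r.K_le, Cfsg.Agent.Lib.Helper2.BGCor.sigmaCore_le M, r.K_inf_sigmaCore, ?_⟩
    intro m hm
    obtain ⟨a, ha, b, hb, rfl⟩ := hKU.compl.2.2.2 m hm
    rw [Subgroup.mem_bot] at ha
    subst ha
    rw [one_mul]
    have hnorm : K ≤ Subgroup.normalizer ((Cfsg.sigmaCore M : Subgroup G) : Set G) :=
      r.K_le.trans (Cfsg.Agent.Lib.Helper2.BGCor.le_normalizer_sigmaCore M)
    rw [← SetLike.mem_coe, Subgroup.coe_mul_of_left_le_normalizer_right K _ hnorm,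
      Set.mem_mul] at hb
    obtain ⟨a, ha, b, hb, rfl⟩ := hb
    exact ⟨a, ha, b, hb, rfl⟩
  refine ⟨hc, ?_⟩
  intro q hq
  obtain ⟨hqp, hqσ, -, hq1⟩ := hq
  have hd : q ∣ Nat.card M := dvd_card_of_not_pRankLE_one hqp hq1
  rw [← card_complIn hc] at hd
  rcases (Nat.Prime.dvd_mul hqp).mp hd with h | h
  · exact hq1 (Cfsg.Agent.Lib.Helper2.BGCor.pRankLE_one_of_kappa (r.kappa_of_dvd hqp h))
  · exact hqσ (Cfsg.Agent.Lib.Helper2.BGCor.primes_card_sigmaCore M q hqp h)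

/-- an element of prime order of `K*`. -/
theorem exists_prime_order_Ks (r : Root M K) :
    ∃ y ∈ Cfsg.sigmaCore M ⊓ Subgroup.centralizer (K : Set G), (orderOf y).Prime := by
  have h1 : Nat.card ↥(Cfsg.sigmaCore M ⊓ Subgroup.centralizer (K : Set G)) ≠ 1 := by
    intro h
    exact r.Ks_ne_bot (Subgroup.card_eq_one.mp h)
  obtain ⟨p, hp, hpd⟩ := Nat.exists_prime_and_dvd h1
  haveI : Fact p.Prime := ⟨hp⟩
  obtain ⟨y, hy⟩ := exists_prime_orderOf_dvd_card' p hpd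
  exact ⟨(y : G), y.2, by rw [Subgroup.orderOf_coe, hy]; exact hp⟩

/-- a subgroup of prime order of `K*`. -/
theorem exists_Y (r : Root M K) : ∃ Y : Subgroup G,
    Y ≤ Cfsg.sigmaCore M ⊓ Subgroup.centralizer (K : Set G) ∧ (Nat.card Y).Prime := by
  obtain ⟨y, hy, hyo⟩ := r.exists_prime_order_Ks
  exact ⟨Subgroup.zpowers y, Subgroup.zpowers_le.mpr hy, by rw [Nat.card_zpowers]; exact hyo⟩

/-- `K` has a subgroup of prime order. -/
theorem exists_X (r : Root M K) : ∃ X : Subgroup G, X ≤ K ∧ (Nat.card X).Prime := by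
  have h1 : Nat.card K ≠ 1 := fun h => r.hK1 (Subgroup.card_eq_one.mp h)
  obtain ⟨p, hp, hpd⟩ := Nat.exists_prime_and_dvd h1
  haveI : Fact p.Prime := ⟨hp⟩
  obtain ⟨y, hy⟩ := exists_prime_orderOf_dvd_card' p hpd
  exact ⟨Subgroup.zpowers (y : G), Subgroup.zpowers_le.mpr y.2, by
    rw [Nat.card_zpowers, Subgroup.orderOf_coe, hy]; exact hp⟩

section partner

variable {X H Y X' H' : Subgroup G}

/-- a prime outside `σ(H)` is prime to `|H_σ|`. -/
theorem coprime_card_sigmaCore {H : Subgroup G} {q : ℕ} (hq : q.Prime) (hqσ : q ∉ Cfsg.sigma H) :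
    q.Coprime (Nat.card (Cfsg.sigmaCore H)) :=
  (Nat.Prime.coprime_iff_not_dvd hq).mpr
    (fun hd => hqσ (Cfsg.Agent.Lib.Helper2.BGCor.primes_card_sigmaCore H q hq hd))

/-- (P5) a subgroup `X' ≤ K` of prime order with another partner has `|X'| ∈ κ(H) ∖ σ(H)`. -/
theorem card_X'_mem_kappa (r : Root M K) (hXK : X ≤ K) (hXp : (Nat.card X).Prime)
    (hH : IsCoatom H) (hNH : Subgroup.normalizer (X : Set G) ≤ H)
    (hX'K : X' ≤ K) (hX'p : (Nat.card X').Prime) (hH' : IsCoatom H')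
    (hNH' : Subgroup.normalizer (X' : Set G) ≤ H') (hne : H' ≠ H) :
    Nat.card X' ∉ Cfsg.sigma H ∧ Nat.card X' ∈ Cfsg.kappa H := by
  have hG := r.hG
  have hσ : Nat.card X' ∉ Cfsg.sigma H :=
    fun hσ => hne (r.unique hXK hXp hH hNH hX'K hX'p hH' hNH' hσ)
  refine ⟨hσ, ?_⟩
  obtain ⟨x, hx, hx1⟩ := (Subgroup.bot_or_exists_ne_one _).resolve_left (X_ne_bot hXp)
  obtain ⟨y, hyY, hy1, hyo, hyz⟩ :=
    Cfsg.Agent.Lib.Helper24.BGC2C.exists_generator_of_prime_card hX'p rfl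
  have hyH : y ∈ H := r.K_le_H hXK hNH (hX'K hyY)
  have hxσ : x ∈ Cfsg.sigmaCore H := r.X_le_sigmaCore hXK hXp hH hNH hx
  have hyx : y * x = x * y := r.comm y (hX'K hyY) x (hXK hx)
  rcases Cfsg.Agent.Lib.Helper2.BGCor.kappa_or_tau2 hG r.hU hH hxσ hx1 hyH hX'p hyo hyx hσ with
    h | h
  · exact h
  · exfalso
    obtain ⟨EH, hEH, -⟩ := Cfsg.Agent.Lib.Helper17.BGC2.exists_compl_ge hG hH
      (bot_le : (⊥ : Subgroup G) ≤ H) (by rw [Subgroup.card_bot]; exact Nat.coprime_one_left _)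
    have h20 := (Cfsg.Agent.S1420.result hG H hH EH hEH).2.2.2 y hyH hy1 ?_
      ⟨hyH, x, hxσ, hx1, hyx⟩
    · apply hne
      apply h20.2 H' hH'
      have h1 := Cfsg.Agent.Lib.Helper8.BGPS.centralizer_singleton_le_centralizer_zpowers_pow y 1
      rw [pow_one, hyz] at h1
      exact h1.trans ((Subgroup.centralizer_le_normalizer _).trans hNH')
    · intro p hp hd
      rw [hyo] at hd
      rwa [(Nat.prime_dvd_prime_iff_eq hp hX'p).mp hd]

/-- a complement of `H_σ` in `H` inside `Z`, for a partner `H` which is not the only one. -/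
theorem exists_compl_le (r : Root M K) (hXK : X ≤ K) (hXp : (Nat.card X).Prime)
    (hH : IsCoatom H) (hNH : Subgroup.normalizer (X : Set G) ≤ H)
    (hX'K : X' ≤ K) (hX'p : (Nat.card X').Prime) (hH' : IsCoatom H')
    (hNH' : Subgroup.normalizer (X' : Set G) ≤ H') (hne : H' ≠ H)
    (hYT : Y ≤ Cfsg.sigmaCore M ⊓ Subgroup.centralizer (K : Set G))
    (hYq : (Nat.card Y).Prime) :
    ∃ EH : Subgroup G, Cfsg.IsComplIn EH (Cfsg.sigmaCore H) H ∧
      EH ≤ K ⊔ (Cfsg.sigmaCore M ⊓ Subgroup.centralizer (K : Set G)) ∧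
      (∀ q : ℕ, q ∉ Cfsg.tau2 H) ∧ Y ≤ EH ∧ X' ≤ EH ∧
      ∀ x ∈ EH, x ≠ 1 → Cfsg.sigmaCore H ⊓ Subgroup.centralizer ({x} : Set G) =
        Cfsg.sigmaCore H ⊓ Subgroup.centralizer (EH : Set G) := by
  have hG := r.hG
  obtain ⟨hqσ, hqκ⟩ := r.card_Y_mem_kappa hXK hXp hH hNH hYT hYq
  obtain ⟨hpσ, hpκ⟩ := r.card_X'_mem_kappa hXK hXp hH hNH hX'K hX'p hH' hNH' hne
  have hcomm : ∀ a ∈ Y, ∀ b ∈ X', a * b = b * a :=
    fun a ha b hb => (r.comm_K_Ks b (hX'K hb) a (hYT ha)).symm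
  have hdisj : Y ⊓ X' = ⊥ := by
    rw [eq_bot_iff, ← r.K_inf_Ks, inf_comm]
    exact inf_le_inf hX'K hYT
  have hWc : Nat.card ↥(Y ⊔ X') = Nat.card Y * Nat.card X' := card_sup_of_commute hcomm hdisj
  have hWH : Y ⊔ X' ≤ H :=
    sup_le (hYT.trans (r.Ks_le_H hXK hNH)) (hX'K.trans (r.K_le_H hXK hNH))
  obtain ⟨Kss, hKss, hWK⟩ := Cfsg.Agent.Lib.Helper2.BGCor.exists_hall_ge hG hH (Cfsg.kappa H)
    hWH (Y := Y ⊔ X') (by
      intro p hp hd
      rw [hWc] at hd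
      rcases (Nat.Prime.dvd_mul hp).mp hd with h | h
      · rwa [(Nat.prime_dvd_prime_iff_eq hp hYq).mp h]
      · rwa [(Nat.prime_dvd_prime_iff_eq hp hX'p).mp h])
  have hYK : Y ≤ Kss := le_sup_left.trans hWK
  have hX'Kss : X' ≤ Kss := le_sup_right.trans hWK
  have rH : Root H Kss := ⟨hG, hH, hKss, fun h0 => X_ne_bot hYq (le_bot_iff.mp (h0 ▸ hYK))⟩
  have hne' : Nat.card Y ≠ Nat.card X' := by
    intro h
    have h1 : Nat.card X' ∈ Cfsg.sigma M := by
      rw [← h]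
      exact Cfsg.Agent.Lib.Helper2.BGCor.primes_card_sigmaCore M _ hYq
        (Subgroup.card_dvd_of_le (hYT.trans inf_le_left))
    exact (r.card_mem_kappa hX'K hX'p).2.2.1 h1
  have hnp : ¬ (Nat.card Kss).Prime := by
    intro hp
    have h1 : Nat.card Y = Nat.card Kss :=
      (Nat.prime_dvd_prime_iff_eq hYq hp).mp (Subgroup.card_dvd_of_le hYK)
    have h2 : Nat.card X' = Nat.card Kss :=
      (Nat.prime_dvd_prime_iff_eq hX'p hp).mp (Subgroup.card_dvd_of_le hX'Kss)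
    exact hne' (h1.trans h2.symm)
  obtain ⟨hc, hτ⟩ := rH.compl_of_not_prime hnp
  refine ⟨Kss, hc, ?_, hτ, hYK, hX'Kss, fun x hx hx1 => rH.cent_elem hx hx1⟩
  -- `K** ≤ N_H(Y) ≤ M ∩ H = Z`
  rw [← r.inf_eq hXK hXp hH hNH hYT hYq]
  have h1 : Kss ≤ H ⊓ Subgroup.normalizer (Y : Set G) := by
    rw [(rH.t142.2.2 Y hYK hYq).1]
    exact le_sup_left
  exact le_inf (h1.trans (inf_le_right.trans (r.normalizer_Ks_le hYT (X_ne_bot hYq))))
    (h1.trans inf_le_left)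

end partner

end Root

end Cfsg.Agent.Lib.Helper8.BGQ
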