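/-
helper8: B&G 14.7 (partner theory) for a regular root `(M, K)`, part D: two distinct partners are
impossible (the `n`-ary count of helper27 with `F = {M} ∪ {partners}`, `Z = K K*`).
-/
import Mathlib
import Cfsg.Agent.Lib.Helper8.BGQC

set_option autoImplicit false
set_option linter.unusedSectionVars false
set_option linter.unusedVariables false
set_option linter.style.haveILetI false

namespace Cfsg.Agent.Lib.Helper8.BGQ

open Cfsg.Agent.Lib.Helper2.BGCor (T142 H28 CorR CorG1)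
open Cfsg.Agent.Lib.Helper24.BGC2T (C1431)
open Cfsg.Agent.Lib.Helper8 (mem_map_conj conj_mem_map_conj map_conj_map_conj map_conj_one
  map_conj_le_iff map_conj_eq_iff card_map_conj mem_normalizer_iff_map_conj IsSylIn)
open Cfsg.Agent.Lib.Helper8.BGPS (card_sup_of_commute card_complIn dvd_card_of_not_pRankLE_one
  partners card_mul_of_compl_le centralizer_singleton_le_centralizer_zpowers_pow
  sigmaCore_inf_sigmaCore_eq_bot)

universe u

variable {G : Type u} [Group G] [Finite G] {M K : Subgroup G}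

namespace Root

section partner

variable {X H X' H' : Subgroup G}

/-- `Z ∩ H_σ ≤ K`. -/
theorem Z_inf_sigmaCore_H_le (r : Root M K) (hXK : X ≤ K) (hXp : (Nat.card X).Prime)
    (hH : IsCoatom H) (hNH : Subgroup.normalizer (X : Set G) ≤ H) :
    (K ⊔ (Cfsg.sigmaCore M ⊓ Subgroup.centralizer (K : Set G))) ⊓ Cfsg.sigmaCore H ≤ K := by
  obtain ⟨Y, hYT, hYq⟩ := r.exists_Y
  refine le_trans ?_ (r.sigmaCore_H_inf_le hXK hXp hH hNH hYT hYq)
  exact le_inf inf_le_right (inf_le_left.trans r.Z_le)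

/-- the members of `(Z ∩ H_σ)^#` are good for `H`. -/
theorem good_H (r : Root M K) (hXK : X ≤ K) (hXp : (Nat.card X).Prime)
    (hH : IsCoatom H) (hNH : Subgroup.normalizer (X : Set G) ≤ H) {a : G}
    (ha : a ∈ (K ⊔ (Cfsg.sigmaCore M ⊓ Subgroup.centralizer (K : Set G))) ⊓ Cfsg.sigmaCore H)
    (ha1 : a ≠ 1) : Subgroup.centralizer ({a} : Set G) ≤ H := by
  have haK : a ∈ K := r.Z_inf_sigmaCore_H_le hXK hXp hH hNH ha
  obtain ⟨p, k, hp, -, hk⟩ := Cfsg.Agent.Lib.Helper16.BGPrim.exists_pow_orderOf_prime ha1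
  set X'' : Subgroup G := Subgroup.zpowers (a ^ k) with hX''
  have hX''K : X'' ≤ K := Subgroup.zpowers_le.mpr (Subgroup.pow_mem _ haK k)
  have hX''c : Nat.card X'' = p := by rw [hX'', Nat.card_zpowers, hk]
  have hX''p : (Nat.card X'').Prime := hX''c ▸ hp
  have hX''σ : X'' ≤ Cfsg.sigmaCore H := Subgroup.zpowers_le.mpr (Subgroup.pow_mem _ ha.2 k)
  have hσ : Nat.card X'' ∈ Cfsg.sigma H :=
    Cfsg.Agent.Lib.Helper2.BGCor.primes_card_sigmaCore H _ hX''p (Subgroup.card_dvd_of_le hX''σ)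
  obtain ⟨H'', hH'', hNH''⟩ := r.exists_partner hX''K hX''p
  have hHH' : H'' = H := r.unique hXK hXp hH hNH hX''K hX''p hH'' hNH'' hσ
  rw [hHH'] at hNH''
  exact (centralizer_singleton_le_centralizer_zpowers_pow a k).trans
    ((Subgroup.centralizer_le_normalizer _).trans hNH'')

/-- `M_σ ≰ Z` when `|K|` is not a prime. -/
theorem not_sigmaCore_le (r : Root M K) (hnp : ¬ (Nat.card K).Prime) (hXK : X ≤ K)
    (hXp : (Nat.card X).Prime) (hH : IsCoatom H)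
    (hNH : Subgroup.normalizer (X : Set G) ≤ H) :
    ¬ Cfsg.sigmaCore M ≤ K ⊔ (Cfsg.sigmaCore M ⊓ Subgroup.centralizer (K : Set G)) := by
  intro hle
  obtain ⟨hc, -⟩ := r.compl_of_not_prime hnp
  have hMH : M ≤ H := by
    intro m hm
    obtain ⟨a, ha, b, hb, rfl⟩ := hc.2.2.2 m hm
    exact H.mul_mem (r.K_le_H hXK hNH ha) (r.Z_le_H hXK hNH (hle hb))
  exact hH.1 (r.hM.2 H (lt_of_le_of_ne hMH (r.H_ne_M hXK hXp hH hNH).symm))

/-- `H_σ ≰ Z` for a partner which is not the only one. -/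
theorem not_sigmaCore_H_le (r : Root M K) (hXK : X ≤ K) (hXp : (Nat.card X).Prime)
    (hH : IsCoatom H) (hNH : Subgroup.normalizer (X : Set G) ≤ H)
    (hX'K : X' ≤ K) (hX'p : (Nat.card X').Prime) (hH' : IsCoatom H')
    (hNH' : Subgroup.normalizer (X' : Set G) ≤ H') (hne : H' ≠ H) :
    ¬ Cfsg.sigmaCore H ≤ K ⊔ (Cfsg.sigmaCore M ⊓ Subgroup.centralizer (K : Set G)) := by
  intro hle
  obtain ⟨Y, hYT, hYq⟩ := r.exists_Y
  obtain ⟨EH, hEH, hEHZ, -⟩ := r.exists_compl_le hXK hXp hH hNH hX'K hX'p hH' hNH' hne hYT hYq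
  have hHM : H ≤ M := by
    intro h hh
    obtain ⟨a, ha, b, hb, rfl⟩ := hEH.2.2.2 h hh
    exact M.mul_mem (r.Z_le (hEHZ ha)) (r.Z_le (hle hb))
  exact r.hM.1 (hH.2 M (lt_of_le_of_ne hHM (r.H_ne_M hXK hXp hH hNH)))

/-- **distinct partners meet in `Z`**. -/
theorem partner_inf_le (r : Root M K) (hXK : X ≤ K) (hXp : (Nat.card X).Prime)
    (hH : IsCoatom H) (hNH : Subgroup.normalizer (X : Set G) ≤ H)
    (hX'K : X' ≤ K) (hX'p : (Nat.card X').Prime) (hH' : IsCoatom H')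
    (hNH' : Subgroup.normalizer (X' : Set G) ≤ H') (hne : H' ≠ H) :
    H ⊓ H' ≤ K ⊔ (Cfsg.sigmaCore M ⊓ Subgroup.centralizer (K : Set G)) := by
  have hG := r.hG
  obtain ⟨y, hyT, hyo⟩ := r.exists_prime_order_Ks
  set Y : Subgroup G := Subgroup.zpowers y with hY
  have hYT : Y ≤ Cfsg.sigmaCore M ⊓ Subgroup.centralizer (K : Set G) :=
    Subgroup.zpowers_le.mpr hyT
  have hYq : (Nat.card Y).Prime := by rw [hY, Nat.card_zpowers]; exact hyo
  have hy1 : y ≠ 1 := by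
    intro h
    rw [h, orderOf_one] at hyo
    exact Nat.not_prime_one hyo
  obtain ⟨EH, hEH, hEHZ, -, hYEH, hX'EH, hpa⟩ :=
    r.exists_compl_le hXK hXp hH hNH hX'K hX'p hH' hNH' hne hYT hYq
  obtain ⟨x', hx', hx'1⟩ := (Subgroup.bot_or_exists_ne_one _).resolve_left (X_ne_bot hX'p)
  have hx'EH : x' ∈ EH := hX'EH hx'
  have hyEH : y ∈ EH := hYEH (Subgroup.mem_zpowers y)
  have hx'H : x' ∈ H := hEH.1 hx'EH
  have hx'σ : x' ∈ Cfsg.sigmaCore H' := r.X_le_sigmaCore hX'K hX'p hH' hNH' hx'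
  have hbot : Cfsg.sigmaCore H ⊓ Cfsg.sigmaCore H' = ⊥ :=
    sigmaCore_inf_sigmaCore_eq_bot
      (fun _ hq' => r.partner_sigma_disjoint hXK hXp hH hNH hX'K hX'p hH' hNH' hne hq')
  -- `H_σ ∩ H' ≤ Z`
  have h1 : Cfsg.sigmaCore H ⊓ H' ≤
      K ⊔ (Cfsg.sigmaCore M ⊓ Subgroup.centralizer (K : Set G)) := by
    intro u hu
    have hc : u * x' * u⁻¹ * x'⁻¹ ∈ Cfsg.sigmaCore H ⊓ Cfsg.sigmaCore H' := by
      refine Subgroup.mem_inf.mpr ⟨?_, ?_⟩
      · have : u * x' * u⁻¹ * x'⁻¹ = u * (x' * u⁻¹ * x'⁻¹) := by group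
        rw [this]
        exact Subgroup.mul_mem _ hu.1
          (Cfsg.Agent.Lib.Helper2.BGCor.conj_mem_sigmaCore hx'H (Subgroup.inv_mem _ hu.1))
      · exact Subgroup.mul_mem _ (Cfsg.Agent.Lib.Helper2.BGCor.conj_mem_sigmaCore hu.2 hx'σ)
          (Subgroup.inv_mem _ hx'σ)
    rw [hbot, Subgroup.mem_bot] at hc
    have hux : x' * u = u * x' := by
      have : u * x' = (u * x' * u⁻¹ * x'⁻¹) * (x' * u) := by group
      rw [hc, one_mul] at this
      exact this.symm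
    have hu1 : u ∈ Cfsg.sigmaCore H ⊓ Subgroup.centralizer ({x'} : Set G) := by
      refine Subgroup.mem_inf.mpr ⟨hu.1, ?_⟩
      rw [Subgroup.mem_centralizer_singleton_iff]
      exact hux.symm
    rw [hpa x' hx'EH hx'1, ← hpa y hyEH hy1] at hu1
    rw [← r.inf_eq hXK hXp hH hNH hYT hYq]
    refine Subgroup.mem_inf.mpr ⟨?_, Cfsg.Agent.Lib.Helper2.BGCor.sigmaCore_le H hu.1⟩
    apply r.normalizer_Ks_le hYT (X_ne_bot hYq)
    apply Subgroup.centralizer_le_normalizer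
    have := centralizer_singleton_le_centralizer_zpowers_pow y 1 hu1.2
    rwa [pow_one] at this
  -- Dedekind
  intro h hh
  obtain ⟨a, ha, b, hb, rfl⟩ := hEH.2.2.2 h hh.1
  have haZ := hEHZ ha
  have hbH' : b ∈ H' := by
    have : b = a⁻¹ * (a * b) := by group
    rw [this]
    exact H'.mul_mem (H'.inv_mem (r.Z_le_H hX'K hNH' haZ)) hh.2
  exact Subgroup.mul_mem _ haZ (h1 (Subgroup.mem_inf.mpr ⟨hb, hbH'⟩))

end partner

/-- the primes of `|Z|`. -/
theorem primes_Z (r : Root M K) {p : ℕ} (hp : p.Prime)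
    (hd : p ∣ Nat.card ↥(K ⊔ (Cfsg.sigmaCore M ⊓ Subgroup.centralizer (K : Set G)))) :
    p ∈ Cfsg.sigma M ∨ ∃ H ∈ partners K, p ∈ Cfsg.sigma H := by
  haveI : Fact p.Prime := ⟨hp⟩
  rw [card_sup_of_commute r.comm_K_Ks r.K_inf_Ks] at hd
  rcases (Nat.Prime.dvd_mul hp).mp hd with h | h
  · right
    obtain ⟨x, hx⟩ := exists_prime_orderOf_dvd_card' p h
    have hXE : Subgroup.zpowers (x : G) ≤ K := Subgroup.zpowers_le.mpr x.2
    have hXc : Nat.card (Subgroup.zpowers (x : G)) = p := by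
      rw [Nat.card_zpowers, Subgroup.orderOf_coe, hx]
    have hXp : (Nat.card (Subgroup.zpowers (x : G))).Prime := hXc ▸ hp
    obtain ⟨H, hH, hNH⟩ := r.exists_partner hXE hXp
    refine ⟨H, ⟨hH, _, hXE, hXp, hNH⟩, ?_⟩
    rw [← hXc]
    exact r.card_mem_sigma hXE hXp hH hNH
  · left
    exact Cfsg.Agent.Lib.Helper2.BGCor.primes_card_sigmaCore M p hp
      (h.trans (Subgroup.card_dvd_of_le inf_le_left))

/-- **two distinct partners are impossible** (the `n`-ary count of helper27). -/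
theorem multi_false (r : Root M K) {X₁ H₁ X₂ H₂ : Subgroup G}
    (hX₁K : X₁ ≤ K) (hX₁p : (Nat.card X₁).Prime) (hH₁ : IsCoatom H₁)
    (hNH₁ : Subgroup.normalizer (X₁ : Set G) ≤ H₁)
    (hX₂K : X₂ ≤ K) (hX₂p : (Nat.card X₂).Prime) (hH₂ : IsCoatom H₂)
    (hNH₂ : Subgroup.normalizer (X₂ : Set G) ≤ H₂) (hne : H₁ ≠ H₂) : False := by
  classical
  have hG := r.hG
  have hM := r.hM
  -- `|K|` is not a prime
  have hnp : ¬ (Nat.card K).Prime := by
    intro hp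
    have h1 : Nat.card X₁ = Nat.card K :=
      (Nat.prime_dvd_prime_iff_eq hX₁p hp).mp (Subgroup.card_dvd_of_le hX₁K)
    have h2 : Nat.card X₂ = Nat.card K :=
      (Nat.prime_dvd_prime_iff_eq hX₂p hp).mp (Subgroup.card_dvd_of_le hX₂K)
    have e1 : X₁ = K := Subgroup.eq_of_le_of_card_ge hX₁K h1.ge
    have e2 : X₂ = K := Subgroup.eq_of_le_of_card_ge hX₂K h2.ge
    apply hne
    refine (r.unique hX₂K hX₂p hH₂ hNH₂ hX₁K hX₁p hH₁ hNH₁ ?_)
    rw [e1, ← e2]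
    exact r.card_mem_sigma hX₂K hX₂p hH₂ hNH₂
  obtain ⟨hcM, hτM⟩ := r.compl_of_not_prime hnp
  obtain ⟨Y, hYT, hYq⟩ := r.exists_Y
  -- every partner has another partner
  have hother : ∀ {H : Subgroup G}, ∃ X' H' : Subgroup G, X' ≤ K ∧ (Nat.card X').Prime ∧
      IsCoatom H' ∧ Subgroup.normalizer (X' : Set G) ≤ H' ∧ H' ≠ H := by
    intro H
    by_cases h : H₁ = H
    · exact ⟨X₂, H₂, hX₂K, hX₂p, hH₂, hNH₂, fun h' => hne (h.trans h'.symm)⟩
    · exact ⟨X₁, H₁, hX₁K, hX₁p, hH₁, hNH₁, h⟩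
  set Z : Subgroup G := K ⊔ (Cfsg.sigmaCore M ⊓ Subgroup.centralizer (K : Set G)) with hZ
  set F : Finset (Subgroup G) := insert M (Set.toFinite (partners K)).toFinset with hFdef
  have hmem : ∀ H : Subgroup G, H ∈ F ↔ H = M ∨ H ∈ partners K := by
    intro H
    rw [hFdef, Finset.mem_insert, Set.Finite.mem_toFinset]
  apply Cfsg.Agent.Lib.Helper27.BGPCount.false_of_finset hG F Z
  · -- two
    exact ⟨M, (hmem M).mpr (Or.inl rfl), H₁, (hmem H₁).mpr (Or.inr ⟨hH₁, X₁, hX₁K, hX₁p, hNH₁⟩),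
      (r.H_ne_M hX₁K hX₁p hH₁ hNH₁).symm⟩
  · -- coatom
    intro H hH
    rcases (hmem H).mp hH with rfl | ⟨hH, -⟩
    · exact hM
    · exact hH
  · -- le
    intro H hH
    rcases (hmem H).mp hH with rfl | ⟨hH, X, hXE, hXp, hNH⟩
    · exact r.Z_le
    · exact r.Z_le_H hXE hNH
  · -- card
    intro H hH
    rcases (hmem H).mp hH with rfl | ⟨hH, X, hXE, hXp, hNH⟩
    · exact card_mul_of_compl_le hcM le_sup_left r.Z_le
    · obtain ⟨X', H', hX'K, hX'p, hH', hNH', hne'⟩ := hother (H := H)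
      obtain ⟨EH, hEH, hEHZ, -⟩ :=
        r.exists_compl_le hXE hXp hH hNH hX'K hX'p hH' hNH' hne' hYT hYq
      exact card_mul_of_compl_le hEH hEHZ (r.Z_le_H hXE hNH)
  · -- primes
    intro p hp hd
    rcases r.primes_Z hp hd with h | ⟨H, hH, h⟩
    · exact ⟨M, (hmem M).mpr (Or.inl rfl), h⟩
    · exact ⟨H, (hmem H).mpr (Or.inr hH), h⟩
  · -- disj
    intro H hH H' hH' hne p hp
    rcases (hmem H).mp hH with rfl | ⟨hHc, X, hXE, hXp, hNH⟩
    · rcases (hmem H').mp hH' with rfl | ⟨hHc', X', hX'E, hX'p, hNH'⟩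
      · exact absurd rfl hne
      · exact r.sigma_disjoint hX'E hX'p hHc' hNH' hp
    · rcases (hmem H').mp hH' with rfl | ⟨hHc', X', hX'E, hX'p, hNH'⟩
      · intro hp'
        exact r.sigma_disjoint hXE hXp hHc hNH hp' hp
      · exact r.partner_sigma_disjoint hXE hXp hHc hNH hX'E hX'p hHc' hNH' hne.symm hp
  · -- inf
    intro H hH H' hH' hne
    rcases (hmem H).mp hH with rfl | ⟨hHc, X, hXE, hXp, hNH⟩
    · rcases (hmem H').mp hH' with rfl | ⟨hHc', X', hX'E, hX'p, hNH'⟩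
      · exact absurd rfl hne
      · exact le_of_eq (r.inf_eq hX'E hX'p hHc' hNH' hYT hYq)
    · rcases (hmem H').mp hH' with rfl | ⟨hHc', X', hX'E, hX'p, hNH'⟩
      · rw [inf_comm]
        exact le_of_eq (r.inf_eq hXE hXp hHc hNH hYT hYq)
      · exact r.partner_inf_le hXE hXp hHc hNH hX'E hX'p hHc' hNH' hne.symm
  · -- good
    intro H hH a ha ha1
    rcases (hmem H).mp hH with rfl | ⟨hHc, X, hXE, hXp, hNH⟩
    · rw [hZ, r.Z_inf_sigmaCore] at ha
      exact r.good_M ha ha1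
    · exact r.good_H hXE hXp hHc hNH ha ha1
  · -- three
    intro H hH
    rcases (hmem H).mp hH with rfl | ⟨hHc, X, hXE, hXp, hNH⟩
    · exact Cfsg.Agent.Lib.Helper27.BGPCount.three_of_not_le hG
        (r.not_sigmaCore_le hnp hX₁K hX₁p hH₁ hNH₁)
    · obtain ⟨X', H', hX'K, hX'p, hH', hNH', hne'⟩ := hother (H := H)
      exact Cfsg.Agent.Lib.Helper27.BGPCount.three_of_not_le hG
        (r.not_sigmaCore_H_le hXE hXp hHc hNH hX'K hX'p hH' hNH' hne')
  · -- tau2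
    intro H hH
    rcases (hmem H).mp hH with rfl | ⟨hHc, X, hXE, hXp, hNH⟩
    · exact hτM
    · obtain ⟨X', H', hX'K, hX'p, hH', hNH', hne'⟩ := hother (H := H)
      obtain ⟨EH, -, -, hτ, -⟩ :=
        r.exists_compl_le hXE hXp hHc hNH hX'K hX'p hH' hNH' hne' hYT hYq
      exact hτ

/-- **all the partners coincide.** -/
theorem partner_eq (r : Root M K) {X₁ H₁ X₂ H₂ : Subgroup G}
    (hX₁K : X₁ ≤ K) (hX₁p : (Nat.card X₁).Prime) (hH₁ : IsCoatom H₁)
    (hNH₁ : Subgroup.normalizer (X₁ : Set G) ≤ H₁)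
    (hX₂K : X₂ ≤ K) (hX₂p : (Nat.card X₂).Prime) (hH₂ : IsCoatom H₂)
    (hNH₂ : Subgroup.normalizer (X₂ : Set G) ≤ H₂) : H₁ = H₂ := by
  by_contra hne
  exact r.multi_false hX₁K hX₁p hH₁ hNH₁ hX₂K hX₂p hH₂ hNH₂ hne

end Root

end Cfsg.Agent.Lib.Helper8.BGQ
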