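/-
helper8: B&G 14.7 (partner theory) for a regular root `(M, K)`, part E: the common partner `M*`:
`K ≤ M*_σ`, `M*_σ ∩ M = K`, `K*` is a Hall `κ(M*)`-subgroup of `M*`, `K = C_{M*_σ}(K*)`, and `M*`
is the only maximal subgroup with these properties (B&G 14.7(a), S1366).
-/
import Mathlib
import Cfsg.Agent.Lib.Helper8.BGQD

set_option autoImplicit false
set_option linter.unusedSectionVars false
set_option linter.unusedVariables false
set_option linter.style.haveILetI false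

namespace Cfsg.Agent.Lib.Helper8.BGQ

open Cfsg.Agent.Lib.Helper2.BGCor (T142 H28 CorR CorG1)
open Cfsg.Agent.Lib.Helper24.BGC2T (C1431)
open Cfsg.Agent.Lib.Helper8 (mem_map_conj conj_mem_map_conj map_conj_map_conj map_conj_one
  map_conj_le_iff map_conj_eq_iff card_map_conj mem_normalizer_iff_map_conj IsSylIn)
open Cfsg.Agent.Lib.Helper8.BGPS (card_sup_of_commute card_complIn dvd_card_of_not_pRankLE_one
  partners card_mul_of_compl_le centralizer_singleton_le_centralizer_zpowers_pow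
  sigmaCore_inf_sigmaCore_eq_bot exists_mul_of_mem_sup_of_commute eq_of_piHall_le)

universe u

variable {G : Type u} [Group G] [Finite G] {M K : Subgroup G}

namespace Root

section partner

variable {X H : Subgroup G}

/-- `K ≤ H_σ` for the (common) partner `H`. -/
theorem K_le_sigmaCore_H (r : Root M K) (hXK : X ≤ K) (hXp : (Nat.card X).Prime)
    (hH : IsCoatom H) (hNH : Subgroup.normalizer (X : Set G) ≤ H) :
    K ≤ Cfsg.sigmaCore H := by
  apply Cfsg.Agent.Lib.Helper27.BGConj.le_sigmaCore_of_primes r.hG hH (r.K_le_H hXK hNH)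
  intro p hp hd
  haveI : Fact p.Prime := ⟨hp⟩
  obtain ⟨x, hx⟩ := exists_prime_orderOf_dvd_card' p hd
  have hX'K : Subgroup.zpowers (x : G) ≤ K := Subgroup.zpowers_le.mpr x.2
  have hX'c : Nat.card (Subgroup.zpowers (x : G)) = p := by
    rw [Nat.card_zpowers, Subgroup.orderOf_coe, hx]
  have hX'p : (Nat.card (Subgroup.zpowers (x : G))).Prime := hX'c ▸ hp
  obtain ⟨H', hH', hNH'⟩ := r.exists_partner hX'K hX'p
  have hHH' : H' = H := r.partner_eq hX'K hX'p hH' hNH' hXK hXp hH hNH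
  rw [← hX'c, ← hHH']
  exact r.card_mem_sigma hX'K hX'p hH' hNH'

/-- `H_σ ∩ M = K` for the (common) partner `H`. -/
theorem sigmaCore_H_inf_eq (r : Root M K) (hXK : X ≤ K) (hXp : (Nat.card X).Prime)
    (hH : IsCoatom H) (hNH : Subgroup.normalizer (X : Set G) ≤ H) :
    Cfsg.sigmaCore H ⊓ M = K := by
  obtain ⟨Y, hYT, hYq⟩ := r.exists_Y
  exact le_antisymm (r.sigmaCore_H_inf_le hXK hXp hH hNH hYT hYq)
    (le_inf (r.K_le_sigmaCore_H hXK hXp hH hNH) r.K_le)

/-- the primes of `K*` are in `κ(H)`. -/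
theorem kappa_H_of_dvd_Ks (r : Root M K) (hXK : X ≤ K) (hXp : (Nat.card X).Prime)
    (hH : IsCoatom H) (hNH : Subgroup.normalizer (X : Set G) ≤ H) {q : ℕ} (hq : q.Prime)
    (hd : q ∣ Nat.card ↥(Cfsg.sigmaCore M ⊓ Subgroup.centralizer (K : Set G))) :
    q ∈ Cfsg.kappa H := by
  haveI : Fact q.Prime := ⟨hq⟩
  obtain ⟨y, hy⟩ := exists_prime_orderOf_dvd_card' q hd
  have hYT : Subgroup.zpowers (y : G) ≤ Cfsg.sigmaCore M ⊓ Subgroup.centralizer (K : Set G) :=
    Subgroup.zpowers_le.mpr y.2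
  have hYc : Nat.card (Subgroup.zpowers (y : G)) = q := by
    rw [Nat.card_zpowers, Subgroup.orderOf_coe, hy]
  have hYq : (Nat.card (Subgroup.zpowers (y : G))).Prime := hYc ▸ hq
  rw [← hYc]
  exact (r.card_Y_mem_kappa hXK hXp hH hNH hYT hYq).2

/-- **`K*` is a Hall `κ(H)`-subgroup of the (common) partner `H`.** -/
theorem Ks_hall (r : Root M K) (hXK : X ≤ K) (hXp : (Nat.card X).Prime)
    (hH : IsCoatom H) (hNH : Subgroup.normalizer (X : Set G) ≤ H) :
    Cfsg.IsPiHallOf (Cfsg.kappa H) (Cfsg.sigmaCore M ⊓ Subgroup.centralizer (K : Set G)) H := by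
  obtain ⟨Y, hYT, hYq⟩ := r.exists_Y
  obtain ⟨Kss, rH, hYK⟩ := r.exists_rootH hXK hXp hH hNH hYT hYq
  -- `K** ≤ Z`
  have hKssZ : Kss ≤ K ⊔ (Cfsg.sigmaCore M ⊓ Subgroup.centralizer (K : Set G)) := by
    rw [← r.inf_eq hXK hXp hH hNH hYT hYq]
    have h1 : Kss ≤ H ⊓ Subgroup.normalizer (Y : Set G) := by
      rw [(rH.t142.2.2 Y hYK hYq).1]
      exact le_sup_left
    exact le_inf (h1.trans (inf_le_right.trans (r.normalizer_Ks_le hYT (X_ne_bot hYq))))
      (h1.trans inf_le_left)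
  -- `K** ≤ K*`
  have hKssKs : Kss ≤ Cfsg.sigmaCore M ⊓ Subgroup.centralizer (K : Set G) := by
    intro z hz
    obtain ⟨k, hk, b, hb, rfl⟩ := exists_mul_of_mem_sup_of_commute r.comm_K_Ks (hKssZ hz)
    have hcomm : Commute k b := r.comm_K_Ks k hk b hb
    set n := Nat.card ↥(Cfsg.sigmaCore M ⊓ Subgroup.centralizer (K : Set G)) with hn
    have h1 : (k * b) ^ n = k ^ n := by
      rw [hcomm.mul_pow]
      have : b ^ n = 1 := by
        have := pow_card_eq_one'
          (G := ↥(Cfsg.sigmaCore M ⊓ Subgroup.centralizer (K : Set G))) (x := ⟨b, hb⟩)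
        exact congrArg Subtype.val this
      rw [this, mul_one]
    have h2 : k ^ n ∈ Kss ⊓ Cfsg.sigmaCore H := by
      refine Subgroup.mem_inf.mpr ⟨?_, ?_⟩
      · rw [← h1]
        exact Subgroup.pow_mem _ hz _
      · exact Subgroup.pow_mem _ (r.K_le_sigmaCore_H hXK hXp hH hNH hk) _
    rw [rH.K_inf_sigmaCore, Subgroup.mem_bot] at h2
    have h3 : orderOf k ∣ n := orderOf_dvd_of_pow_eq_one h2
    have h4 : orderOf k ∣ Nat.card K := by
      have := orderOf_dvd_natCard (⟨k, hk⟩ : ↥K)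
      rwa [Subgroup.orderOf_mk] at this
    have h5 : orderOf k = 1 := Nat.eq_one_of_dvd_coprimes
      (Nat.Coprime.coprime_dvd_right (Subgroup.card_dvd_of_le inf_le_left) r.coprime_K) h4 h3
    rw [orderOf_eq_one_iff.mp h5, one_mul]
    exact hb
  have heq : Kss = Cfsg.sigmaCore M ⊓ Subgroup.centralizer (K : Set G) :=
    eq_of_piHall_le rH.hK hKssKs (r.Ks_le_H hXK hNH)
      (fun q hq hd => r.kappa_H_of_dvd_Ks hXK hXp hH hNH hq hd)
  rw [← heq]
  exact rH.hK

/-- **`K = C_{H_σ}(K*)` for the (common) partner `H`.** -/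
theorem K_eq (r : Root M K) (hXK : X ≤ K) (hXp : (Nat.card X).Prime)
    (hH : IsCoatom H) (hNH : Subgroup.normalizer (X : Set G) ≤ H) :
    K = Cfsg.sigmaCore H ⊓ Subgroup.centralizer
      ((Cfsg.sigmaCore M ⊓ Subgroup.centralizer (K : Set G) : Subgroup G) : Set G) := by
  obtain ⟨Y, hYT, hYq⟩ := r.exists_Y
  apply le_antisymm
  · refine le_inf (r.K_le_sigmaCore_H hXK hXp hH hNH) ?_
    intro k hk
    rw [Subgroup.mem_centralizer_iff]
    intro b hb
    exact (r.comm_K_Ks k hk b hb).symm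
  · have h1 : Cfsg.sigmaCore H ⊓ Subgroup.centralizer
        ((Cfsg.sigmaCore M ⊓ Subgroup.centralizer (K : Set G) : Subgroup G) : Set G) ≤
        Cfsg.sigmaCore H ⊓ Subgroup.centralizer (Y : Set G) :=
      inf_le_inf_left _ (Subgroup.centralizer_le hYT)
    rw [← r.sigmaCore_H_inf hXK hXp hH hNH hYT hYq, r.sigmaCore_H_inf_eq hXK hXp hH hNH] at h1
    exact h1

end partner

/-- **B&G 14.7(a) / S1366**: there is exactly one maximal subgroup `M*` with `K = C_{M*_σ}(K*)` and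
`K*` a Hall `κ(M*)`-subgroup of `M*`. -/
theorem existsUnique_partner (r : Root M K) :
    ∃! Mstar : Subgroup G, IsCoatom Mstar ∧
      K = Cfsg.sigmaCore Mstar ⊓ Subgroup.centralizer
        ((Cfsg.sigmaCore M ⊓ Subgroup.centralizer (K : Set G) : Subgroup G) : Set G) ∧
      Cfsg.IsPiHallOf (Cfsg.kappa Mstar)
        (Cfsg.sigmaCore M ⊓ Subgroup.centralizer (K : Set G)) Mstar := by
  obtain ⟨X, hXK, hXp⟩ := r.exists_X
  obtain ⟨H, hH, hNH⟩ := r.exists_partner hXK hXp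
  refine ⟨H, ⟨hH, r.K_eq hXK hXp hH hNH, r.Ks_hall hXK hXp hH hNH⟩, ?_⟩
  rintro M' ⟨hM', hKeq, hhall⟩
  have r' : Root M' (Cfsg.sigmaCore M ⊓ Subgroup.centralizer (K : Set G)) :=
    ⟨r.hG, hM', hhall, r.Ks_ne_bot⟩
  have hN : Subgroup.normalizer (X : Set G) ≤ M' := by
    apply r'.normalizer_Ks_le _ (X_ne_bot hXp)
    rw [← hKeq]
    exact hXK
  exact r.partner_eq hXK hXp hM' hN hXK hXp hH hNH

end Root

end Cfsg.Agent.Lib.Helper8.BGQ
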