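import Mathlib
import Cfsg.Agent.Lib.Helper19.W2PDefs
import Cfsg.Agent.Lib.Helper16.W2PREDUCE

/-!
# S4707 market "T2P" (planner helper26), leaf T2P-PA (helper8):
a Sylow `p`-subgroup of a primitive, not 2-transitive group of degree `2p` has order `p` and is semiregular
-/

set_option autoImplicit false
set_option linter.style.haveILetI false

namespace Cfsg.Agent.Lib.Helper8.T2PPA

open Cfsg Cfsg.Agent.Lib.Helper19.W2P

universe u v

variable {G : Type u} [Group G] [Fintype G] {Ω : Type v} [Fintype Ω] [DecidableEq Ω] [MulAction G Ω]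

/-- T2P-PA -/
theorem sylow_card_semireg {p : ℕ} [Fact p.Prime] (hodd : p ≠ 2) [FaithfulSMul G Ω]
    (hcard : Fintype.card Ω = 2 * p) (hprim : MulAction.IsPreprimitive G Ω)
    (h2 : ¬ MulAction.IsMultiplyPretransitive G Ω 2) (P : Sylow p G) :
    Nat.card (P : Subgroup G) = p ∧ Semireg (P : Subgroup G) Ω := by
  have hpp : p.Prime := Fact.out
  obtain ⟨P₀, hP₀, hidx, hsemi⟩ :=
    Cfsg.Agent.Lib.Helper16.W2PREDUCE.exists_semiregular hpp hodd hcard hprim h2
  have hpg : IsPGroup p P₀ := IsPGroup.of_card (n := 1) (by rw [hP₀, pow_one])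
  let S : Sylow p G := hpg.toSylow hidx
  have hS : (S : Subgroup G) = P₀ := IsPGroup.toSylow_coe hpg hidx
  constructor
  · rw [P.card_eq_multiplicity, ← S.card_eq_multiplicity, hS, hP₀]
  · obtain ⟨k, hk⟩ := MulAction.exists_smul_eq G S P
    intro x hx hx1 a hxa
    rw [← hk, Sylow.smul_def, Sylow.pointwise_smul_def,
      Subgroup.mem_pointwise_smul_iff_inv_smul_mem, hS] at hx
    have hx' : k⁻¹ * x * k ∈ P₀ := by
      simpa [MulAut.smul_def] using hx
    have hne : k⁻¹ * x * k ≠ 1 := by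
      intro h
      apply hx1
      have : x = k * (k⁻¹ * x * k) * k⁻¹ := by group
      rw [this, h]
      group
    apply hsemi _ hx' hne (k⁻¹ • a)
    rw [mul_smul, mul_smul, smul_inv_smul, hxa]

end Cfsg.Agent.Lib.Helper8.T2PPA
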