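import Mathlib

/-!
# S4707 market "T2P" (planner helper26), leaf T2P-PB (helper8):
in a primitive group of degree `2p` with `|N_G(P)| = 2p`, `|P| = p`, the Sylow subgroup `P` is self-centralizing
(Burnside's transfer theorem + a normal subgroup `≠ 1` of a primitive group is transitive)
-/

set_option autoImplicit false
set_option linter.style.haveILetI false

namespace Cfsg.Agent.Lib.Helper8.T2PPB

universe u v

/-- a subgroup containing a non-trivial element of a group of prime order contains the group -/
theorem le_of_mem_of_prime_card' {G : Type u} [Group G] {p : ℕ} [Fact p.Prime] (P K : Subgroup G)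
    (hP : Nat.card P = p) {z : G} (hzP : z ∈ P) (hz1 : z ≠ 1) (hzK : z ∈ K) : P ≤ K := by
  intro y hy
  have hz1' : (⟨z, hzP⟩ : P) ≠ 1 := fun h => hz1 (congrArg Subtype.val h)
  have htop := zpowers_eq_top_of_prime_card hP hz1'
  have hmem : (⟨y, hy⟩ : P) ∈ Subgroup.zpowers (⟨z, hzP⟩ : P) := by
    rw [htop]; exact Subgroup.mem_top _
  obtain ⟨k, hk⟩ := Subgroup.mem_zpowers_iff.mp hmem
  have hy' : y = z ^ k := by
    have := congrArg Subtype.val hk
    simpa using this.symm
  rw [hy']
  exact K.zpow_mem hzK k

/-- the order of a transitive group is divisible by the degree -/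
theorem card_dvd_of_pretransitive {K : Type*} [Group K] {Ω : Type*} [MulAction K Ω]
    [MulAction.IsPretransitive K Ω] (a : Ω) : Nat.card Ω ∣ Nat.card K := by
  rw [← MulAction.index_stabilizer_of_transitive K a]
  exact Subgroup.index_dvd_card _

variable {G : Type u} [Group G] [Fintype G] {Ω : Type v} [Fintype Ω] [DecidableEq Ω] [MulAction G Ω]

/-- T2P-PB -/
theorem centralizer_eq {p : ℕ} [Fact p.Prime] (hodd : p ≠ 2) [FaithfulSMul G Ω]
    (hcard : Fintype.card Ω = 2 * p) (hprim : MulAction.IsPreprimitive G Ω) (P : Sylow p G)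
    (hP : Nat.card (P : Subgroup G) = p)
    (hN : Nat.card (Subgroup.normalizer ((P : Subgroup G) : Set G)) = 2 * p) :
    ∀ y : G, y ∈ (P : Subgroup G) → y ≠ 1 →
      Subgroup.centralizer ({y} : Set G) = (P : Subgroup G) := by
  intro y hy hy1
  have hpp : p.Prime := Fact.out
  -- `C_G(y) = C_G(P)`
  have hCy : Subgroup.centralizer ({y} : Set G) = Subgroup.centralizer ((P : Subgroup G) : Set G) := by
    apply le_antisymm
    · intro c hc
      have h1 : (P : Subgroup G) ≤ Subgroup.centralizer ({c} : Set G) :=
        le_of_mem_of_prime_card' (P : Subgroup G) _ hP hy hy1 (by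
          rw [Subgroup.mem_centralizer_iff]
          intro h hh
          rw [Set.mem_singleton_iff] at hh
          subst hh
          exact (Subgroup.mem_centralizer_iff.mp hc y rfl).symm)
      rw [Subgroup.mem_centralizer_iff]
      intro x hx
      exact (Subgroup.mem_centralizer_iff.mp (h1 hx) c rfl).symm
    · exact Subgroup.centralizer_le (Set.singleton_subset_iff.mpr hy)
  rw [hCy]
  -- `P ≤ C_G(P) ≤ N_G(P)`
  have hPC : (P : Subgroup G) ≤ Subgroup.centralizer ((P : Subgroup G) : Set G) := by
    haveI : IsCyclic (P : Subgroup G) := isCyclic_of_prime_card hP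
    intro x hx
    rw [Subgroup.mem_centralizer_iff]
    intro h hh
    have := IsCyclic.commGroup.mul_comm (⟨h, hh⟩ : (P : Subgroup G)) ⟨x, hx⟩
    exact congrArg Subtype.val this
  have hCN : Subgroup.centralizer ((P : Subgroup G) : Set G) ≤
      Subgroup.normalizer ((P : Subgroup G) : Set G) := Subgroup.centralizer_le_normalizer _
  have hd1 : p ∣ Nat.card (Subgroup.centralizer ((P : Subgroup G) : Set G)) := by
    have := Subgroup.card_dvd_of_le hPC
    rwa [hP] at this
  have hd2 : Nat.card (Subgroup.centralizer ((P : Subgroup G) : Set G)) ∣ 2 * p := by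
    have := Subgroup.card_dvd_of_le hCN
    rwa [hN] at this
  obtain ⟨k, hk⟩ := hd1
  have hk2 : k ∣ 2 := by
    rw [hk, mul_comm] at hd2
    exact Nat.dvd_of_mul_dvd_mul_right hpp.pos hd2
  rcases (Nat.dvd_prime Nat.prime_two).mp hk2 with rfl | rfl
  · -- `|C_G(P)| = p`
    rw [mul_one] at hk
    exact (Subgroup.eq_of_le_of_card_ge hPC (by rw [hk, hP])).symm
  · -- `|C_G(P)| = 2p`: `N_G(P) = C_G(P)`, Burnside
    exfalso
    have hNC : Subgroup.normalizer ((P : Subgroup G) : Set G) ≤
        Subgroup.centralizer ((P : Subgroup G) : Set G) := by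
      have := Subgroup.eq_of_le_of_card_ge hCN (by rw [hk, hN, mul_comm])
      rw [this]
    have hcomp := MonoidHom.ker_transferSylow_isComplement' P hNC
    have hnd := MonoidHom.not_dvd_card_ker_transferSylow P hNC
    have hmul := hcomp.card_mul_card
    haveI hne : Nonempty Ω := by
      rw [← Fintype.card_pos_iff, hcard]
      have := hpp.pos
      omega
    obtain ⟨a⟩ := hne
    haveI := hprim
    have htrans : MulAction.IsPretransitive G Ω := hprim.toIsPretransitive
    by_cases hfix : MulAction.fixedPoints (MonoidHom.transferSylow P hNC).ker Ω = Set.univ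
    · -- the kernel acts trivially, so it is trivial
      have hbot : (MonoidHom.transferSylow P hNC).ker = ⊥ := by
        rw [Subgroup.eq_bot_iff_forall]
        intro x hx
        apply FaithfulSMul.eq_of_smul_eq_smul (α := Ω)
        intro b
        have hb : b ∈ MulAction.fixedPoints (MonoidHom.transferSylow P hNC).ker Ω := by
          rw [hfix]; exact Set.mem_univ b
        rw [one_smul]
        exact hb ⟨x, hx⟩
      rw [hbot, Subgroup.card_bot, one_mul, hP] at hmul
      have hdvd := card_dvd_of_pretransitive (K := G) a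
      rw [Nat.card_eq_fintype_card (α := Ω), hcard, ← hmul] at hdvd
      have : 2 * p ≤ p := Nat.le_of_dvd hpp.pos hdvd
      have := hpp.pos
      omega
    · haveI : MulAction.IsPretransitive (MonoidHom.transferSylow P hNC).ker Ω :=
        MulAction.IsQuasiPreprimitive.isPretransitive_of_normal hfix
      have hdvd := card_dvd_of_pretransitive (K := (MonoidHom.transferSylow P hNC).ker) a
      rw [Nat.card_eq_fintype_card (α := Ω), hcard] at hdvd
      exact hnd (dvd_trans (dvd_mul_left p 2) hdvd)

end Cfsg.Agent.Lib.Helper8.T2PPB
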