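import Mathlib

/-!
# S4707 market "T2P" (planner helper26), leaf T2P-SING (helper8):
every `p`-singular element is conjugate into `P#` (`P` of order `p`, `C_G(y) = P` on `P#`)
-/

set_option autoImplicit false

namespace Cfsg.Agent.Lib.Helper8.T2PSING

universe u

variable {G : Type u} [Group G] [Finite G] {p : ℕ} [hp : Fact p.Prime]

/-- T2P-SING -/
theorem singular_conj (P : Sylow p G) (hP : Nat.card (P : Subgroup G) = p)
    (hcent : ∀ y : G, y ∈ (P : Subgroup G) → y ≠ 1 →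
      Subgroup.centralizer ({y} : Set G) = (P : Subgroup G))
    (g : G) (hg : p ∣ orderOf g) :
    ∃ k : G, k * g * k⁻¹ ∈ (P : Subgroup G) ∧ k * g * k⁻¹ ≠ 1 ∧ p ∣ orderOf (k * g * k⁻¹) := by
  have hpp : p.Prime := hp.out
  obtain ⟨m, hm⟩ := hg
  have hord0 : orderOf g ≠ 0 := (orderOf_pos g).ne'
  have hm0 : m ≠ 0 := by
    rintro rfl
    rw [mul_zero] at hm
    exact hord0 hm
  have hy : orderOf (g ^ m) = p := by
    rw [orderOf_pow_of_dvd hm0 (Dvd.intro_left p hm.symm), hm]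
    exact Nat.mul_div_cancel _ (Nat.pos_of_ne_zero hm0)
  have hpg : IsPGroup p (Subgroup.zpowers (g ^ m)) :=
    IsPGroup.of_card (n := 1) (by rw [Nat.card_zpowers, hy, pow_one])
  obtain ⟨S, hS⟩ := hpg.exists_le_sylow
  obtain ⟨k, hk⟩ := MulAction.exists_smul_eq G S P
  refine ⟨k, ?_⟩
  have hy' : k * g ^ m * k⁻¹ ∈ (P : Subgroup G) := by
    rw [← hk, Sylow.smul_def, Sylow.pointwise_smul_def]
    have := Subgroup.smul_mem_pointwise_smul (g ^ m) (MulAut.conj k) (S : Subgroup G)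
      (hS (Subgroup.mem_zpowers _))
    simpa [MulAut.smul_def] using this
  have hy'1 : k * g ^ m * k⁻¹ ≠ 1 := by
    intro h
    have h1 : g ^ m = 1 := by
      have := congrArg (fun z => k⁻¹ * z * k) h
      simpa [mul_assoc] using this
    rw [h1, orderOf_one] at hy
    exact hpp.one_lt.ne hy
  have hcomm : k * g * k⁻¹ ∈ Subgroup.centralizer ({k * g ^ m * k⁻¹} : Set G) := by
    rw [Subgroup.mem_centralizer_iff]
    intro h hh
    rw [Set.mem_singleton_iff] at hh
    subst hh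
    have e1 : k * g ^ m * k⁻¹ * (k * g * k⁻¹) = k * (g ^ m * g) * k⁻¹ := by group
    have e2 : k * g * k⁻¹ * (k * g ^ m * k⁻¹) = k * (g * g ^ m) * k⁻¹ := by group
    rw [e1, e2, ← pow_succ, ← pow_succ']
  rw [hcent _ hy' hy'1] at hcomm
  have hord : orderOf (k * g * k⁻¹) = orderOf g := by
    have := (MulAut.conj k).orderOf_eq g
    simpa [MulAut.conj_apply] using this
  refine ⟨hcomm, ?_, ?_⟩
  · intro h
    rw [h, orderOf_one] at hord
    rw [← hord] at hm
    have : p ∣ 1 := ⟨m, hm⟩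
    exact hpp.one_lt.ne' (Nat.dvd_one.mp this)
  · rw [hord, hm]
    exact dvd_mul_right _ _

end Cfsg.Agent.Lib.Helper8.T2PSING
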