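import Mathlib
import Cfsg.Agent.Lib.Helper8.ThTwoE

/-!
# Best offenders on faithful modules with self-centralizing `p'`-core: the hyperplane argument (helper8 library)

Abstract setting: a finite group `Γ` acts faithfully on a finite elementary abelian `p`-group `V`;
`Q ≤ Γ` is a `p'`-subgroup normalized by an elementary abelian `p`-subgroup `A` with `C_A(Q) = 1`.
-/

set_option autoImplicit false
open Subgroup

namespace Cfsg.Agent.Lib.Helper8.FFOff

open Cfsg.Agent.Lib.Helper8.ThTwo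

section coprime
variable {Γ V : Type*} [Group Γ] [Group V] [MulDistribMulAction Γ V]

/-- coprime action: `C_V(R) ∩ [V,R] = 1` for a `p'`-group `R` acting on an elementary abelian `p`-group `V` -/
theorem eq_one_of_mem_commSub_of_fixed' [Finite Γ] (p : ℕ) (hVc : ∀ a b : V, a * b = b * a)
    (hVp : ∀ v : V, v ^ p = 1)
    (R : Subgroup Γ) (hR : (Nat.card R).Coprime p) {v : V} (hv : v ∈ commSub (V := V) R)
    (hfix : ∀ x ∈ R, x • v = v) : v = 1 := by
  classical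
  let _ : CommGroup V := { (inferInstance : Group V) with mul_comm := hVc }
  have : Fintype R := Fintype.ofFinite R
  let θ : V →* V := ∏ x : R, MulDistribMulAction.toMonoidHom V (x : Γ)
  have hθ : ∀ v, θ v = ∏ x : R, (x : Γ) • v := fun v => by
    show (∏ x : R, MulDistribMulAction.toMonoidHom V (x : Γ)) v = _
    rw [MonoidHom.finsetProd_apply]
    rfl
  have hθsmul : ∀ (y : R) (u : V), θ ((y : Γ) • u) = θ u := by
    intro y u
    rw [hθ, hθ]
    apply Fintype.prod_equiv (Equiv.mulRight y)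
    intro x
    rw [← mul_smul]
    rfl
  have hker : commSub (V := V) R ≤ θ.ker := by
    unfold commSub
    rw [Subgroup.closure_le]
    rintro w ⟨x, hx, u, rfl⟩
    show _ ∈ θ.ker
    rw [MonoidHom.mem_ker, map_mul, map_inv, hθsmul ⟨x, hx⟩ u, inv_mul_cancel]
  have h1 : θ v = 1 := MonoidHom.mem_ker.mp (hker hv)
  have h2 : θ v = v ^ Nat.card R := by
    rw [hθ]
    have : ∀ x : R, (x : Γ) • v = v := fun x => hfix x.1 x.2
    simp only [this, Finset.prod_const, Finset.card_univ, Nat.card_eq_fintype_card]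
  rw [h2] at h1
  have := pow_gcd_eq_one.mpr ⟨h1, hVp v⟩
  rwa [hR.gcd_eq_one, pow_one] at this

end coprime

section core
variable {Γ V : Type*} [Group Γ] [Group V] [Finite Γ] [Finite V] [MulDistribMulAction Γ V]
variable {p : ℕ} [hp : Fact p.Prime]

/-- **core lemma**: `A` centralizes every element of `Q` that stabilizes `C_V(A)` -/
theorem centralizes_of_stab (hfaith : ∀ g : Γ, (∀ v : V, g • v = v) → g = 1)
    (hVc : ∀ a b : V, a * b = b * a) (hVp : ∀ v : V, v ^ p = 1)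
    (Q : Subgroup Γ) (hQ : (Nat.card Q).Coprime p)
    (A : Subgroup Γ) (hAQ : ∀ a ∈ A, ∀ x ∈ Q, a * x * a⁻¹ ∈ Q)
    (hAab : ∀ a ∈ A, ∀ b ∈ A, a * b = b * a) (hAp : ∀ a ∈ A, a ^ p = 1) :
    ∀ x ∈ Q ⊓ stabS (Γ := Γ) (fixSub (V := V) A), ∀ a ∈ A, a * x * a⁻¹ = x := by
  classical
  by_contra hcon
  push Not at hcon
  obtain ⟨x₀, hx₀, a₀, ha₀, hne⟩ := hcon
  obtain ⟨R₀, hR₀⟩ : ∃ R₀, R₀ = Q ⊓ stabS (Γ := Γ) (fixSub (V := V) A) := ⟨_, rfl⟩
  rw [← hR₀] at hx₀
  have hAfix : ∀ a ∈ A, a ∈ stabS (Γ := Γ) (fixSub (V := V) A) := by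
    intro a ha
    obtain ⟨n, hn⟩ : ∃ n, Nat.card Γ = n + 1 := Nat.exists_eq_succ_of_ne_zero Nat.card_pos.ne'
    apply mem_stabS_of_pow _ a n (by rw [← hn]; exact pow_card_eq_one')
    intro v hv
    rw [hv a ha]; exact hv
  have hAR₀ : ∀ a ∈ A, ∀ x ∈ R₀, a * x * a⁻¹ ∈ R₀ := by
    intro a ha x hx
    rw [hR₀] at hx ⊢
    exact ⟨hAQ a ha x hx.1, Subgroup.mul_mem _ (Subgroup.mul_mem _ (hAfix a ha) hx.2)
      (Subgroup.inv_mem _ (hAfix a ha))⟩
  obtain ⟨R, hR⟩ : ∃ R : Subgroup Γ, R = Subgroup.closure {w | ∃ x ∈ R₀, ∃ g ∈ A, w = x⁻¹ * (g * x * g⁻¹)} :=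
    ⟨_, rfl⟩
  have hRR₀ : R ≤ R₀ := by
    rw [hR, Subgroup.closure_le]
    rintro w ⟨x, hx, g, hg, rfl⟩
    exact R₀.mul_mem (R₀.inv_mem hx) (hAR₀ g hg x hx)
  have hRQ : R ≤ Q := hRR₀.trans (by rw [hR₀]; exact inf_le_left)
  have hRfix : R ≤ fixingS (Γ := Γ) (fixSub (V := V) A) := by
    rw [hR, Subgroup.closure_le]
    rintro w ⟨x, hx, g, hg, rfl⟩
    intro u hu
    have h1 : g⁻¹ • u = u := hu g⁻¹ (A.inv_mem hg)
    have hxs : x ∈ stabS (Γ := Γ) (fixSub (V := V) A) := by rw [hR₀] at hx; exact hx.2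
    have h2 : x • u ∈ fixSub (V := V) A := (hxs u).mpr hu
    have h3 : g • (x • u) = x • u := h2 g hg
    rw [mul_smul, mul_smul, mul_smul, h1, h3, ← mul_smul, inv_mul_cancel, one_smul]
  have hRinv : ∀ g ∈ A, ∀ x ∈ R, g * x * g⁻¹ ∈ R := by
    intro h hh
    have hle : R ≤ R.comap (MulAut.conj h).toMonoidHom := by
      nth_rewrite 1 [hR]
      rw [Subgroup.closure_le]
      rintro w ⟨x, hx, g, hg, rfl⟩
      show (MulAut.conj h) (x⁻¹ * (g * x * g⁻¹)) ∈ R
      rw [MulAut.conj_apply, hR]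
      apply Subgroup.subset_closure
      refine ⟨h * x * h⁻¹, hAR₀ h hh x hx, g, hg, ?_⟩
      have hgh : h * g = g * h := hAab h hh g hg
      have e1 : h * (x⁻¹ * (g * x * g⁻¹)) * h⁻¹ = (h * x * h⁻¹)⁻¹ * ((h * g) * x * (h * g)⁻¹) := by group
      have e2 : g * (h * x * h⁻¹) * g⁻¹ = (g * h) * x * (g * h)⁻¹ := by group
      rw [e1, e2, hgh]
    intro x hx
    have := hle hx
    rw [Subgroup.mem_comap] at this
    simpa [MulAut.conj_apply] using this
  obtain ⟨r₀, hr₀⟩ : ∃ r₀, r₀ = x₀⁻¹ * (a₀ * x₀ * a₀⁻¹) := ⟨_, rfl⟩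
  have hr₀R : r₀ ∈ R := by
    rw [hR]
    apply Subgroup.subset_closure
    exact ⟨x₀, hx₀, a₀, ha₀, hr₀⟩
  have hr₀1 : r₀ ≠ 1 := by
    intro h
    apply hne
    rw [hr₀, inv_mul_eq_one] at h
    exact h.symm
  have hRcop : (Nat.card R).Coprime p :=
    Nat.Coprime.coprime_dvd_left (Subgroup.card_dvd_of_le hRQ) hQ
  obtain ⟨v₀, hv₀⟩ : ∃ v : V, r₀ • v ≠ v := by
    by_contra hcon
    push Not at hcon
    exact hr₀1 (hfaith r₀ hcon)
  have hWne : commSub (V := V) R ≠ ⊥ := by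
    intro h
    have : v₀⁻¹ * r₀ • v₀ ∈ commSub (V := V) R := by
      apply Subgroup.subset_closure
      exact ⟨r₀, hr₀R, v₀, rfl⟩
    rw [h, Subgroup.mem_bot, inv_mul_eq_one] at this
    exact hv₀ this.symm
  have hVpg : IsPGroup p V := fun v => ⟨1, by rw [pow_one]; exact hVp v⟩
  have hpdvd : p ∣ Nat.card (commSub (V := V) R) := by
    rcases (hVpg.to_subgroup (commSub (V := V) R)).card_eq_or_dvd with h | h
    · exact absurd (Subgroup.card_eq_one.mp h) hWne
    · exact h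
  have hApg : IsPGroup p A := by
    intro g
    refine ⟨1, ?_⟩
    rw [pow_one]
    apply Subtype.ext
    simpa using hAp g.1 g.2
  obtain ⟨w, hw, hw1, hwfix⟩ := exists_fixed_ne_one A hApg (commSub (V := V) R)
    (fun g hg w hw => smul_mem_commSub R g (hRinv g hg) hw) hpdvd
  apply hw1
  exact eq_one_of_mem_commSub_of_fixed' p hVc hVp R hRcop hw (fun x hx => hRfix hx w hwfix)

omit [Finite V] in
/-- elements of `C_Q(B)` stabilize `C_V(B)` -/
theorem mem_stabS_fixSub_of_mem_centralizer (B : Subgroup Γ) {x : Γ}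
    (hx : x ∈ Subgroup.centralizer (B : Set Γ)) : x ∈ stabS (Γ := Γ) (fixSub (V := V) B) := by
  obtain ⟨n, hn⟩ : ∃ n, Nat.card Γ = n + 1 := Nat.exists_eq_succ_of_ne_zero Nat.card_pos.ne'
  apply mem_stabS_of_pow _ x n (by rw [← hn]; exact pow_card_eq_one')
  intro v hv g hg
  have hgx : g * x = x * g := (Subgroup.mem_centralizer_iff.mp hx) g hg
  rw [← mul_smul, hgx, mul_smul, hv g hg]

/-- **hyperplane lemma**: some hyperplane of `A` has more fixed points than `A` -/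
theorem exists_hyperplane_fixSub_lt (hfaith : ∀ g : Γ, (∀ v : V, g • v = v) → g = 1)
    (hVc : ∀ a b : V, a * b = b * a) (hVp : ∀ v : V, v ^ p = 1)
    (Q : Subgroup Γ) (hQ : (Nat.card Q).Coprime p)
    (A : Subgroup Γ) (hAQ : ∀ a ∈ A, ∀ x ∈ Q, a * x * a⁻¹ ∈ Q)
    (hAab : ∀ a ∈ A, ∀ b ∈ A, a * b = b * a) (hAp : ∀ a ∈ A, a ^ p = 1)
    (hAfaith : ∀ a ∈ A, (∀ x ∈ Q, a * x * a⁻¹ = x) → a = 1) (hAne : A ≠ ⊥) :
    ∃ A₀ : Subgroup Γ, A₀ ≤ A ∧ A₀.relIndex A = p ∧ fixSub (V := V) A < fixSub A₀ := by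
  by_contra hcon
  push Not at hcon
  have hhyp : ∀ A₀ : Subgroup Γ, A₀ ≤ A → A₀.relIndex A = p → fixSub (V := V) A₀ = fixSub A := by
    intro A₀ h1 h2
    by_contra hne
    exact hcon A₀ h1 h2 (lt_of_le_of_ne (fixSub_anti h1) (fun h => hne h.symm))
  have hAea : Cfsg.IsElementaryAbelian p A := Cfsg.Agent.Lib.Helper4.elemAb_of_comm hAab hAp
  have hAN : A ≤ Subgroup.normalizer (Q : Set Γ) := by
    intro g hg
    rw [Subgroup.mem_normalizer_iff]
    intro x
    constructor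
    · exact hAQ g hg x
    · intro h
      have := hAQ g⁻¹ (A.inv_mem hg) _ h
      have h2 : g⁻¹ * (g * x * g⁻¹) * g⁻¹⁻¹ = x := by group
      rw [h2] at this
      exact this
  have hApg : IsPGroup p A := by
    intro g
    refine ⟨1, ?_⟩
    rw [pow_one]
    apply Subtype.ext
    simpa using hAp g.1 g.2
  have hcop : (Nat.card A).Coprime (Nat.card Q) := by
    obtain ⟨k, hk⟩ := IsPGroup.iff_card.mp hApg
    rw [hk]
    exact Nat.Coprime.pow_left k hQ.symm
  have hQstab : Q ≤ stabS (Γ := Γ) (fixSub (V := V) A) := by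
    by_contra hnle
    obtain ⟨B, hBA, hrel, hnle'⟩ :=
      Cfsg.Agent.Lib.Helper8.exists_index_p_centralizer_not_le p A Q _ hAea hAne hAN hcop hnle
    apply hnle'
    rintro x ⟨-, hxc⟩
    rw [← hhyp B hBA hrel]
    exact mem_stabS_fixSub_of_mem_centralizer B hxc
  obtain ⟨⟨a, haA⟩, ha1'⟩ := Subgroup.ne_bot_iff_exists_ne_one.mp hAne
  have ha1 : a ≠ 1 := fun h => ha1' (Subtype.ext h)
  apply ha1
  apply hAfaith a haA
  intro x hx
  exact centralizes_of_stab hfaith hVc hVp Q hQ A hAQ hAab hAp x ⟨hx, hQstab hx⟩ a haA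

/-- **second hyperplane lemma**: if `|A| ≥ p²`, two distinct hyperplanes of `A` have more fixed points than `A` -/
theorem exists_two_hyperplanes_fixSub_lt (hfaith : ∀ g : Γ, (∀ v : V, g • v = v) → g = 1)
    (hVc : ∀ a b : V, a * b = b * a) (hVp : ∀ v : V, v ^ p = 1)
    (Q : Subgroup Γ) (hQ : (Nat.card Q).Coprime p)
    (A : Subgroup Γ) (hAQ : ∀ a ∈ A, ∀ x ∈ Q, a * x * a⁻¹ ∈ Q)
    (hAab : ∀ a ∈ A, ∀ b ∈ A, a * b = b * a) (hAp : ∀ a ∈ A, a ^ p = 1)
    (hAfaith : ∀ a ∈ A, (∀ x ∈ Q, a * x * a⁻¹ = x) → a = 1) (hAcard : Nat.card A ≠ p) (hAne : A ≠ ⊥) :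
    ∃ A₀ A₁ : Subgroup Γ, A₀ ≤ A ∧ A₁ ≤ A ∧ A₀ ≠ A₁ ∧ A₀.relIndex A = p ∧ A₁.relIndex A = p ∧
      fixSub (V := V) A < fixSub A₀ ∧ fixSub (V := V) A < fixSub A₁ := by
  obtain ⟨A₀, hA₀A, hrel₀, hlt₀⟩ :=
    exists_hyperplane_fixSub_lt hfaith hVc hVp Q hQ A hAQ hAab hAp hAfaith hAne
  by_contra hcon
  push Not at hcon
  have hhyp : ∀ A₁ : Subgroup Γ, A₁ ≤ A → A₁ ≠ A₀ → A₁.relIndex A = p → fixSub (V := V) A₁ = fixSub A := by
    intro A₁ h1 hne h2
    by_contra hne'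
    exact hcon A₀ A₁ hA₀A h1 (fun h => hne h.symm) hrel₀ h2 hlt₀
      (lt_of_le_of_ne (fixSub_anti h1) (fun h => hne' h.symm))
  have hAea : Cfsg.IsElementaryAbelian p A := Cfsg.Agent.Lib.Helper4.elemAb_of_comm hAab hAp
  have hAN : A ≤ Subgroup.normalizer (Q : Set Γ) := by
    intro g hg
    rw [Subgroup.mem_normalizer_iff]
    intro x
    constructor
    · exact hAQ g hg x
    · intro h
      have := hAQ g⁻¹ (A.inv_mem hg) _ h
      have h2 : g⁻¹ * (g * x * g⁻¹) * g⁻¹⁻¹ = x := by group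
      rw [h2] at this
      exact this
  have hApg : IsPGroup p A := by
    intro g
    refine ⟨1, ?_⟩
    rw [pow_one]
    apply Subtype.ext
    simpa using hAp g.1 g.2
  have hcop : (Nat.card A).Coprime (Nat.card Q) := by
    obtain ⟨k, hk⟩ := IsPGroup.iff_card.mp hApg
    rw [hk]
    exact Nat.Coprime.pow_left k hQ.symm
  have hQcent : Q ≤ Subgroup.centralizer (A₀ : Set Γ) := by
    by_contra hnle
    obtain ⟨B, hBA, hrel, hnle'⟩ :=
      Cfsg.Agent.Lib.Helper8.exists_index_p_centralizer_not_le p A Q _ hAea hAne hAN hcop hnle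
    apply hnle'
    by_cases hB : B = A₀
    · rw [hB]; exact inf_le_right
    · rintro x ⟨hxQ, hxc⟩
      have hxs : x ∈ stabS (Γ := Γ) (fixSub (V := V) A) := by
        rw [← hhyp B hBA hB hrel]
        exact mem_stabS_fixSub_of_mem_centralizer B hxc
      refine Subgroup.mem_centralizer_iff.mpr ?_
      intro a ha
      have := centralizes_of_stab hfaith hVc hVp Q hQ A hAQ hAab hAp x ⟨hxQ, hxs⟩ a (hA₀A ha)
      calc a * x = (a * x * a⁻¹) * a := by group
        _ = x * a := by rw [this]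
  have hA₀bot : A₀ = ⊥ := by
    rw [eq_bot_iff]
    intro a ha
    rw [Subgroup.mem_bot]
    apply hAfaith a (hA₀A ha)
    intro x hx
    have := (Subgroup.mem_centralizer_iff.mp (hQcent hx)) a ha
    calc a * x * a⁻¹ = (x * a) * a⁻¹ := by rw [this]
      _ = x := by group
  apply hAcard
  have := relIndex_mul_card_eq hA₀A
  rw [hrel₀, hA₀bot, Subgroup.card_bot, mul_one] at this
  exact this.symm

end core

section offenders
variable {Γ V : Type*} [Group Γ] [Group V] [Finite Γ] [Finite V] [MulDistribMulAction Γ V]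
variable {p : ℕ} [hp : Fact p.Prime]

/-- the measure `|B| |C_V(B)|` -/
noncomputable def msr (V : Type*) [Group V] [MulDistribMulAction Γ V] (B : Subgroup Γ) : ℕ :=
  Nat.card B * Nat.card (fixSub (V := V) B)

omit [Finite Γ] [Finite V] in
theorem msr_bot : msr V (⊥ : Subgroup Γ) = Nat.card V := by
  unfold msr
  rw [Subgroup.card_bot, one_mul]
  have : fixSub (V := V) (⊥ : Subgroup Γ) = ⊤ := by
    rw [eq_top_iff]
    intro v _ g hg
    rw [Subgroup.mem_bot.mp hg, one_smul]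
  rw [this, Subgroup.card_top]

omit [Finite Γ] in
/-- a hyperplane of a best offender with more fixed points is again a best offender, with the same measure -/
theorem msr_hyperplane (hVp : ∀ v : V, v ^ p = 1) (A A₀ : Subgroup Γ)
    (hbest : ∀ B : Subgroup Γ, B ≤ A → msr V B ≤ msr V A) (hA₀A : A₀ ≤ A) (hrel : A₀.relIndex A = p)
    (hlt : fixSub (V := V) A < fixSub A₀) :
    msr V A₀ = msr V A ∧ ∀ B : Subgroup Γ, B ≤ A₀ → msr V B ≤ msr V A₀ := by
  have hp' : p.Prime := hp.out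
  have hVpg : IsPGroup p V := fun v => ⟨1, by rw [pow_one]; exact hVp v⟩
  obtain ⟨i, hi⟩ := IsPGroup.iff_card.mp (hVpg.to_subgroup (fixSub (V := V) A))
  obtain ⟨j, hj⟩ := IsPGroup.iff_card.mp (hVpg.to_subgroup (fixSub (V := V) A₀))
  have hcardlt : Nat.card (fixSub (V := V) A) < Nat.card (fixSub (V := V) A₀) := by
    apply lt_of_le_of_ne (Subgroup.card_le_of_le hlt.le)
    intro h
    exact hlt.ne (Subgroup.eq_of_le_of_card_ge hlt.le h.ge)
  have hij : i < j := by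
    rw [hi, hj] at hcardlt
    exact (Nat.pow_lt_pow_iff_right hp'.one_lt).mp hcardlt
  have hge : p * Nat.card (fixSub (V := V) A) ≤ Nat.card (fixSub (V := V) A₀) := by
    rw [hi, hj, ← pow_succ']
    exact Nat.pow_le_pow_right hp'.pos hij
  have hcardA : Nat.card A = p * Nat.card A₀ := by
    have := relIndex_mul_card_eq hA₀A
    rw [hrel] at this
    exact this.symm
  have h1 : msr V A ≤ msr V A₀ := by
    unfold msr
    calc Nat.card A * Nat.card (fixSub (V := V) A) = Nat.card A₀ * (p * Nat.card (fixSub (V := V) A)) := by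
          rw [hcardA]; ring
      _ ≤ Nat.card A₀ * Nat.card (fixSub (V := V) A₀) := Nat.mul_le_mul_left _ hge
  have h2 : msr V A₀ = msr V A := le_antisymm (hbest A₀ hA₀A) h1
  refine ⟨h2, ?_⟩
  intro B hB
  rw [h2]
  exact hbest B (hB.trans hA₀A)

/-- **a nontrivial best offender satisfies `|A| |C_V(A)| = |V|`** -/
theorem msr_eq_card_of_best (hfaith : ∀ g : Γ, (∀ v : V, g • v = v) → g = 1)
    (hVc : ∀ a b : V, a * b = b * a) (hVp : ∀ v : V, v ^ p = 1)
    (Q : Subgroup Γ) (hQ : (Nat.card Q).Coprime p) :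
    ∀ (n : ℕ) (A : Subgroup Γ), Nat.card A = n → (∀ a ∈ A, ∀ x ∈ Q, a * x * a⁻¹ ∈ Q) →
      (∀ a ∈ A, ∀ b ∈ A, a * b = b * a) → (∀ a ∈ A, a ^ p = 1) →
      (∀ a ∈ A, (∀ x ∈ Q, a * x * a⁻¹ = x) → a = 1) →
      (∀ B : Subgroup Γ, B ≤ A → msr V B ≤ msr V A) → msr V A = Nat.card V := by
  intro n
  induction n using Nat.strong_induction_on with
  | _ n ih =>
    intro A hn hAQ hAab hAp hAfaith hbest
    by_cases hAne : A = ⊥
    · rw [hAne]; exact msr_bot
    obtain ⟨A₀, hA₀A, hrel, hlt⟩ :=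
      exists_hyperplane_fixSub_lt hfaith hVc hVp Q hQ A hAQ hAab hAp hAfaith hAne
    obtain ⟨h1, h2⟩ := msr_hyperplane hVp A A₀ hbest hA₀A hrel hlt
    rw [← h1]
    have hcardA : Nat.card A = p * Nat.card A₀ := by
      have := relIndex_mul_card_eq hA₀A
      rw [hrel] at this
      exact this.symm
    have hlt' : Nat.card A₀ < n := by
      rw [← hn, hcardA]
      have hpos : 0 < Nat.card A₀ := Nat.card_pos
      have := hp.out.one_lt
      nlinarith
    exact ih _ hlt' A₀ rfl (fun a ha => hAQ a (hA₀A ha)) (fun a ha b hb => hAab a (hA₀A ha) b (hA₀A hb))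
      (fun a ha => hAp a (hA₀A ha)) (fun a ha => hAfaith a (hA₀A ha)) h2

/-- **a minimal nontrivial best offender has order `p`** -/
theorem card_eq_of_minimal_best (hfaith : ∀ g : Γ, (∀ v : V, g • v = v) → g = 1)
    (hVc : ∀ a b : V, a * b = b * a) (hVp : ∀ v : V, v ^ p = 1)
    (Q : Subgroup Γ) (hQ : (Nat.card Q).Coprime p)
    (A : Subgroup Γ) (hAQ : ∀ a ∈ A, ∀ x ∈ Q, a * x * a⁻¹ ∈ Q)
    (hAab : ∀ a ∈ A, ∀ b ∈ A, a * b = b * a) (hAp : ∀ a ∈ A, a ^ p = 1)
    (hAfaith : ∀ a ∈ A, (∀ x ∈ Q, a * x * a⁻¹ = x) → a = 1) (hAne : A ≠ ⊥)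
    (hbest : ∀ B : Subgroup Γ, B ≤ A → msr V B ≤ msr V A)
    (hmin : ∀ B : Subgroup Γ, B ≤ A → (∀ C : Subgroup Γ, C ≤ B → msr V C ≤ msr V B) → B ≠ ⊥ → B = A) :
    Nat.card A = p := by
  obtain ⟨A₀, hA₀A, hrel, hlt⟩ :=
    exists_hyperplane_fixSub_lt hfaith hVc hVp Q hQ A hAQ hAab hAp hAfaith hAne
  obtain ⟨h1, h2⟩ := msr_hyperplane hVp A A₀ hbest hA₀A hrel hlt
  have hcardA : Nat.card A = p * Nat.card A₀ := by
    have := relIndex_mul_card_eq hA₀A
    rw [hrel] at this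
    exact this.symm
  by_cases hA₀ : A₀ = ⊥
  · rw [hcardA, hA₀, Subgroup.card_bot, mul_one]
  · exfalso
    have := hmin A₀ hA₀A h2 hA₀
    rw [this] at hcardA
    have hpos : 0 < Nat.card A := Nat.card_pos
    have := hp.out.one_lt
    nlinarith

omit [Finite Γ] [Finite V] in
theorem iSup_fin_cons {k : ℕ} (C : Subgroup Γ) (B : Fin k → Subgroup Γ) :
    ⨆ i, (Fin.cons C B : Fin (k + 1) → Subgroup Γ) i = C ⊔ ⨆ i, B i := by
  apply le_antisymm
  · apply iSup_le
    intro i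
    refine Fin.cases ?_ ?_ i
    · rw [Fin.cons_zero]; exact le_sup_left
    · intro j
      rw [Fin.cons_succ]
      exact le_trans (le_iSup B j) le_sup_right
  · apply sup_le
    · have := le_iSup (Fin.cons C B : Fin (k + 1) → Subgroup Γ) 0
      rwa [Fin.cons_zero] at this
    · apply iSup_le
      intro j
      have := le_iSup (Fin.cons C B : Fin (k + 1) → Subgroup Γ) j.succ
      rwa [Fin.cons_succ] at this

/-- **a nontrivial best offender is generated by subgroups of order `p` with `|V : C_V(B)| = p`** -/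
theorem exists_generating_family (hfaith : ∀ g : Γ, (∀ v : V, g • v = v) → g = 1)
    (hVc : ∀ a b : V, a * b = b * a) (hVp : ∀ v : V, v ^ p = 1)
    (Q : Subgroup Γ) (hQ : (Nat.card Q).Coprime p) :
    ∀ (n : ℕ) (A : Subgroup Γ), Nat.card A = n → (∀ a ∈ A, ∀ x ∈ Q, a * x * a⁻¹ ∈ Q) →
      (∀ a ∈ A, ∀ b ∈ A, a * b = b * a) → (∀ a ∈ A, a ^ p = 1) →
      (∀ a ∈ A, (∀ x ∈ Q, a * x * a⁻¹ = x) → a = 1) →
      (∀ B : Subgroup Γ, B ≤ A → msr V B ≤ msr V A) →
      ∃ (k : ℕ) (B : Fin k → Subgroup Γ), (∀ i, B i ≤ A ∧ Nat.card (B i) = p ∧ msr V (B i) = Nat.card V) ∧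
        ⨆ i, B i = A ∧ Nat.card A = p ^ k := by
  intro n
  induction n using Nat.strong_induction_on with
  | _ n ih =>
    intro A hn hAQ hAab hAp hAfaith hbest
    have hp' : p.Prime := hp.out
    by_cases hAne : A = ⊥
    · refine ⟨0, fun i => i.elim0, fun i => i.elim0, ?_, ?_⟩
      · rw [hAne, iSup_of_empty]
      · rw [hAne, Subgroup.card_bot, pow_zero]
    have hmsrA : msr V A = Nat.card V :=
      msr_eq_card_of_best hfaith hVc hVp Q hQ _ A rfl hAQ hAab hAp hAfaith hbest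
    by_cases hAcard : Nat.card A = p
    · refine ⟨1, fun _ => A, fun _ => ⟨le_rfl, hAcard, hmsrA⟩, ?_, ?_⟩
      · exact ciSup_const
      · rw [hAcard, pow_one]
    obtain ⟨A₀, A₁, hA₀A, hA₁A, hne, hrel₀, hrel₁, hlt₀, hlt₁⟩ :=
      exists_two_hyperplanes_fixSub_lt hfaith hVc hVp Q hQ A hAQ hAab hAp hAfaith hAcard hAne
    obtain ⟨h1₀, h2₀⟩ := msr_hyperplane hVp A A₀ hbest hA₀A hrel₀ hlt₀
    obtain ⟨h1₁, h2₁⟩ := msr_hyperplane hVp A A₁ hbest hA₁A hrel₁ hlt₁
    have hcardA₀ : Nat.card A = p * Nat.card A₀ := by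
      have := relIndex_mul_card_eq hA₀A
      rw [hrel₀] at this
      exact this.symm
    have hcardA₁ : Nat.card A = p * Nat.card A₁ := by
      have := relIndex_mul_card_eq hA₁A
      rw [hrel₁] at this
      exact this.symm
    have hlt₀' : Nat.card A₀ < n := by
      rw [← hn, hcardA₀]
      have hpos : 0 < Nat.card A₀ := Nat.card_pos
      have := hp'.one_lt
      nlinarith
    have hlt₁' : Nat.card A₁ < n := by
      rw [← hn, hcardA₁]
      have hpos : 0 < Nat.card A₁ := Nat.card_pos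
      have := hp'.one_lt
      nlinarith
    obtain ⟨k, B, hB, hBsup, hBcard⟩ := ih _ hlt₀' A₀ rfl (fun a ha => hAQ a (hA₀A ha))
      (fun a ha b hb => hAab a (hA₀A ha) b (hA₀A hb))
      (fun a ha => hAp a (hA₀A ha)) (fun a ha => hAfaith a (hA₀A ha)) h2₀
    obtain ⟨k', B', hB', hB'sup, -⟩ := ih _ hlt₁' A₁ rfl (fun a ha => hAQ a (hA₁A ha))
      (fun a ha b hb => hAab a (hA₁A ha) b (hA₁A hb))
      (fun a ha => hAp a (hA₁A ha)) (fun a ha => hAfaith a (hA₁A ha)) h2₁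
    -- a member of the second family outside `A₀`
    obtain ⟨j, hj⟩ : ∃ j, ¬ B' j ≤ A₀ := by
      by_contra hcon
      push Not at hcon
      have hle : A₁ ≤ A₀ := by rw [← hB'sup]; exact iSup_le hcon
      have hcard : Nat.card A₀ = Nat.card A₁ := by
        have : p * Nat.card A₀ = p * Nat.card A₁ := by rw [← hcardA₀, ← hcardA₁]
        exact Nat.eq_of_mul_eq_mul_left hp'.pos this
      exact hne (Subgroup.eq_of_le_of_card_ge hle hcard.le).symm
    obtain ⟨hCA₁, hCcard, hCmsr⟩ := hB' j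
    have hCA : B' j ≤ A := hCA₁.trans hA₁A
    -- `A₀ ⊔ C = A`
    have hsup : B' j ⊔ A₀ = A := by
      have hle : B' j ⊔ A₀ ≤ A := sup_le hCA hA₀A
      have hlt : A₀ < B' j ⊔ A₀ := by
        apply lt_of_le_of_ne le_sup_right
        intro h
        apply hj
        rw [h]; exact le_sup_left
      have hd1 : Nat.card A₀ ∣ Nat.card (B' j ⊔ A₀ : Subgroup Γ) := Subgroup.card_dvd_of_le le_sup_right
      have hd2 : Nat.card (B' j ⊔ A₀ : Subgroup Γ) ∣ p * Nat.card A₀ := by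
        rw [← hcardA₀]; exact Subgroup.card_dvd_of_le hle
      obtain ⟨q, hq⟩ := hd1
      have hpos : 0 < Nat.card A₀ := Nat.card_pos
      have hqdvd : q ∣ p := by
        rw [hq, mul_comm] at hd2
        exact Nat.dvd_of_mul_dvd_mul_right hpos hd2
      have hq1 : q ≠ 1 := by
        intro h
        rw [h, mul_one] at hq
        exact hlt.ne (Subgroup.eq_of_le_of_card_ge hlt.le hq.le)
      have hqp : q = p := by
        rcases (Nat.dvd_prime hp').mp hqdvd with h | h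
        · exact absurd h hq1
        · exact h
      apply Subgroup.eq_of_le_of_card_ge hle
      rw [hq, hqp, hcardA₀, mul_comm]
    refine ⟨k + 1, Fin.cons (B' j) B, ?_, ?_, ?_⟩
    · intro i
      refine Fin.cases ?_ ?_ i
      · rw [Fin.cons_zero]; exact ⟨hCA, hCcard, hCmsr⟩
      · intro i'
        rw [Fin.cons_succ]
        exact ⟨(hB i').1.trans hA₀A, (hB i').2.1, (hB i').2.2⟩
    · rw [iSup_fin_cons, hBsup, hsup]
    · rw [hcardA₀, hBcard, pow_succ']

end offenders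

end Cfsg.Agent.Lib.Helper8.FFOff
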