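import Mathlib
import Cfsg.Agent.Lib.Helper8.FFOffA
import Cfsg.Agent.Lib.Helper12.Cores

/-!
# Best offenders: from the abstract hyperplane argument to subgroups of an ambient group (helper8 library)
-/

set_option autoImplicit false
open Subgroup
open scoped Pointwise commutatorElement

namespace Cfsg.Agent.Lib.Helper8.FFOff

open Cfsg.Agent.Lib.Helper8.ThTwo

section generic
variable {Γ : Type*} [Group Γ]

theorem card_sup_le_mul [Finite Γ] {H K : Subgroup Γ} (hcomm : ∀ h ∈ H, ∀ k ∈ K, h * k = k * h) :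
    Nat.card (H ⊔ K : Subgroup Γ) ≤ Nat.card H * Nat.card K := by
  have hKN : K ≤ Subgroup.normalizer (H : Set Γ) := by
    intro k hk
    rw [Subgroup.mem_normalizer_iff]
    intro h
    constructor
    · intro hh
      have : k * h * k⁻¹ = h := by rw [← hcomm h hh k hk]; group
      rw [this]; exact hh
    · intro hh
      have h1 : k⁻¹ * (k * h * k⁻¹) * k = h := by group
      have h2 : (k * h * k⁻¹) * k = k * (k * h * k⁻¹) := hcomm _ hh k hk
      have h3 : k * h * k⁻¹ = h := by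
        have : k * h * k⁻¹ = k⁻¹ * ((k * h * k⁻¹) * k) := by rw [h2]; group
        rw [this]
        group
      rw [← h3]; exact hh
  have hcoe := Subgroup.coe_mul_of_right_le_normalizer_left H K hKN
  have h1 : Nat.card (H ⊔ K : Subgroup Γ) = Nat.card ↑((H : Set Γ) * (K : Set Γ)) := by
    rw [← hcoe]; rfl
  rw [h1]
  exact Set.natCard_mul_le

theorem card_finset_sup_le [Finite Γ] {ι : Type*} [DecidableEq ι] (p : ℕ) (A : Subgroup Γ)
    (hAab : ∀ a ∈ A, ∀ b ∈ A, a * b = b * a)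
    (B : ι → Subgroup Γ) (hBA : ∀ i, B i ≤ A) (hBp : ∀ i, Nat.card (B i) = p) (s : Finset ι) :
    Nat.card (s.sup B : Subgroup Γ) ≤ p ^ s.card ∧ s.sup B ≤ A := by
  induction s using Finset.induction_on with
  | empty =>
    rw [Finset.sup_empty, Finset.card_empty, pow_zero, Subgroup.card_bot]
    exact ⟨le_rfl, bot_le⟩
  | insert a s ha ih =>
    rw [Finset.sup_insert, Finset.card_insert_of_notMem ha]
    refine ⟨?_, sup_le (hBA a) ih.2⟩
    calc Nat.card (B a ⊔ s.sup B : Subgroup Γ) ≤ Nat.card (B a) * Nat.card (s.sup B : Subgroup Γ) :=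
          card_sup_le_mul (fun h hh k hk => hAab h (hBA a hh) k (ih.2 hk))
      _ ≤ p * p ^ s.card := by rw [hBp a]; exact Nat.mul_le_mul_left _ ih.1
      _ = p ^ (s.card + 1) := by rw [pow_succ']

/-- a generating family of `k` subgroups of prime order `p` in an abelian group of order `p ^ k` is independent -/
theorem iSupIndep_of_card [Finite Γ] {p : ℕ} (hp : p.Prime) {k : ℕ} (A : Subgroup Γ)
    (hAab : ∀ a ∈ A, ∀ b ∈ A, a * b = b * a)
    (B : Fin k → Subgroup Γ) (hBA : ∀ i, B i ≤ A) (hBp : ∀ i, Nat.card (B i) = p)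
    (hsup : ⨆ i, B i = A) (hcard : Nat.card A = p ^ k) : iSupIndep B := by
  classical
  intro i
  rw [disjoint_iff]
  by_contra hne
  -- then `B i` lies in the join of the others
  have hle : B i ≤ ⨆ j, ⨆ (_ : j ≠ i), B j := by
    have h1 : (B i ⊓ ⨆ j, ⨆ (_ : j ≠ i), B j : Subgroup Γ) ≤ B i := inf_le_left
    have hd := Subgroup.card_dvd_of_le h1
    rw [hBp i] at hd
    rcases (Nat.dvd_prime hp).mp hd with h | h
    · exact absurd (Subgroup.card_eq_one.mp h) hne
    · have : (B i ⊓ ⨆ j, ⨆ (_ : j ≠ i), B j : Subgroup Γ) = B i :=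
        Subgroup.eq_of_le_of_card_ge h1 (by rw [h, hBp i])
      rw [← this]; exact inf_le_right
  have hsup' : (Finset.univ.erase i).sup B = A := by
    apply le_antisymm
    · exact (card_finset_sup_le p A hAab B hBA hBp _).2
    · rw [← hsup]
      apply iSup_le
      intro j
      by_cases hji : j = i
      · rw [hji]
        refine hle.trans ?_
        apply iSup_le
        intro j'
        apply iSup_le
        intro hj'
        exact Finset.le_sup (f := B) (Finset.mem_erase.mpr ⟨hj', Finset.mem_univ _⟩)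
      · exact Finset.le_sup (f := B) (Finset.mem_erase.mpr ⟨hji, Finset.mem_univ _⟩)
  have hc := (card_finset_sup_le p A hAab B hBA hBp (Finset.univ.erase i)).1
  rw [hsup', hcard, Finset.card_erase_of_mem (Finset.mem_univ _), Finset.card_univ, Fintype.card_fin] at hc
  have hk : 0 < k := Fin.pos i
  have : p ^ (k - 1) < p ^ k := Nat.pow_lt_pow_right hp.one_lt (by omega)
  omega

theorem iSupIndep_map {Γ' : Type*} [Group Γ'] (f : Γ →* Γ') (hf : Function.Injective f) {ι : Type*}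
    (B : ι → Subgroup Γ) (hB : iSupIndep B) : iSupIndep (fun i => (B i).map f) := by
  intro i
  rw [disjoint_iff]
  have h1 : (⨆ j, ⨆ (_ : j ≠ i), (B j).map f) = (⨆ j, ⨆ (_ : j ≠ i), B j).map f := by
    rw [Subgroup.map_iSup]
    congr 1
    funext j
    rw [Subgroup.map_iSup]
  rw [h1, ← Subgroup.map_inf _ _ f hf, disjoint_iff.mp (hB i), Subgroup.map_bot]

end generic

section concrete
variable {G : Type*} [Group G]

/-- the conjugation action of a subgroup `H` normalizing `V` on `V` -/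
@[instance_reducible]
def conjAct (V H : Subgroup G) (hHV : H ≤ Subgroup.normalizer (V : Set G)) : MulDistribMulAction ↥H ↥V where
  smul h v := ⟨h.1 * v.1 * h.1⁻¹, (Subgroup.mem_normalizer_iff.mp (hHV h.2) v.1).mp v.2⟩
  one_smul v := Subtype.ext (by show (1 : G) * v.1 * (1 : G)⁻¹ = v.1; group)
  mul_smul g h v := Subtype.ext (by
    show (g.1 * h.1) * v.1 * (g.1 * h.1)⁻¹ = g.1 * (h.1 * v.1 * h.1⁻¹) * g.1⁻¹; group)
  smul_mul g v w := Subtype.ext (by
    show g.1 * (v.1 * w.1) * g.1⁻¹ = (g.1 * v.1 * g.1⁻¹) * (g.1 * w.1 * g.1⁻¹); group)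
  smul_one g := Subtype.ext (by show g.1 * (1 : G) * g.1⁻¹ = 1; group)

theorem conjAct_smul_coe (V H : Subgroup G) (hHV : H ≤ Subgroup.normalizer (V : Set G)) (h : ↥H) (v : ↥V) :
    letI := conjAct V H hHV
    ((h • v : ↥V) : G) = h.1 * v.1 * h.1⁻¹ := rfl

/-- fixed points of `B ≤ H` on `V` in the ambient group -/
theorem fixSub_map_subtype (V H : Subgroup G) (hHV : H ≤ Subgroup.normalizer (V : Set G)) (B : Subgroup G)
    (hBH : B ≤ H) :
    letI := conjAct V H hHV
    (fixSub (V := ↥V) (B.subgroupOf H)).map V.subtype = V ⊓ Subgroup.centralizer (B : Set G) := by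
  let _ := conjAct V H hHV
  ext x
  constructor
  · rintro ⟨v, hv, rfl⟩
    refine ⟨v.2, Subgroup.mem_centralizer_iff.mpr ?_⟩
    intro b hb
    have := congrArg Subtype.val (hv ⟨b, hBH hb⟩ (Subgroup.mem_subgroupOf.mpr hb))
    have h2 : b * (v : G) * b⁻¹ = v := this
    show b * V.subtype v = V.subtype v * b
    rw [Subgroup.subtype_apply]
    calc b * (v : G) = (b * (v : G) * b⁻¹) * b := by group
      _ = (v : G) * b := by rw [h2]
  · rintro ⟨hxV, hxc⟩
    refine ⟨⟨x, hxV⟩, ?_, rfl⟩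
    intro b hb
    apply Subtype.ext
    show (b : G) * x * (b : G)⁻¹ = x
    have := (Subgroup.mem_centralizer_iff.mp hxc) b.1 (Subgroup.mem_subgroupOf.mp hb)
    rw [this]; group

theorem msr_subgroupOf [Finite G] (V H : Subgroup G) (hHV : H ≤ Subgroup.normalizer (V : Set G)) (B : Subgroup G)
    (hBH : B ≤ H) :
    letI := conjAct V H hHV
    msr ↥V (B.subgroupOf H) = Nat.card B * Nat.card ↥(V ⊓ Subgroup.centralizer (B : Set G)) := by
  let _ := conjAct V H hHV
  unfold msr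
  rw [card_subgroupOf_le hBH, ← fixSub_map_subtype V H hHV B hBH,
    Subgroup.card_map_of_injective (Subgroup.subtype_injective V)]

theorem subgroupOf_map_subtype_self (H : Subgroup G) (B' : Subgroup ↥H) :
    (B'.map H.subtype).subgroupOf H = B' :=
  Subgroup.comap_map_eq_self_of_injective (Subgroup.subtype_injective H) B'

end concrete

section setting
variable {G : Type*} [Group G] [Finite G] {p : ℕ} [hp : Fact p.Prime]

omit hp in
/-- the hypotheses of the abstract hyperplane argument hold for a best offender `A ≤ H` -/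
theorem setting_facts (V H : Subgroup G) (hV : Cfsg.IsElementaryAbelian p V)
    (hHV : H ≤ Subgroup.normalizer (V : Set G)) (hf : H ⊓ Subgroup.centralizer (V : Set G) = ⊥)
    (hS1 : Subgroup.centralizer (Cfsg.pPrimeCore p ↥H : Set ↥H) ≤ Cfsg.pPrimeCore p ↥H) :
    letI := conjAct V H hHV
    (∀ g : ↥H, (∀ v : ↥V, g • v = v) → g = 1) ∧ (∀ a b : ↥V, a * b = b * a) ∧ (∀ v : ↥V, v ^ p = 1) ∧
    (Nat.card (Cfsg.pPrimeCore p ↥H)).Coprime p ∧
    ∀ A : Subgroup G, A ≤ H → ⁅A, A⁆ ≤ Subgroup.centralizer (V : Set G) →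
      (∀ a ∈ A, a ^ p ∈ Subgroup.centralizer (V : Set G)) →
      (∀ a ∈ A.subgroupOf H, ∀ x ∈ Cfsg.pPrimeCore p ↥H, a * x * a⁻¹ ∈ Cfsg.pPrimeCore p ↥H) ∧
      (∀ a ∈ A.subgroupOf H, ∀ b ∈ A.subgroupOf H, a * b = b * a) ∧
      (∀ a ∈ A.subgroupOf H, a ^ p = 1) ∧
      (∀ a ∈ A.subgroupOf H, (∀ x ∈ Cfsg.pPrimeCore p ↥H, a * x * a⁻¹ = x) → a = 1) := by
  let _ := conjAct V H hHV
  have hQn : (Cfsg.pPrimeCore p ↥H).Normal := Cfsg.Agent.Lib.Helper1.pPrimeCore_normal p ↥H
  have hQcop : (Nat.card (Cfsg.pPrimeCore p ↥H)).Coprime p := Cfsg.Agent.Lib.Helper12.pPrimeCore_coprime p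
  have hHC : ∀ x : G, x ∈ H → x ∈ Subgroup.centralizer (V : Set G) → x = 1 := by
    intro x h1 h2
    have : x ∈ H ⊓ Subgroup.centralizer (V : Set G) := ⟨h1, h2⟩
    rw [hf, Subgroup.mem_bot] at this
    exact this
  refine ⟨?_, ?_, ?_, hQcop, ?_⟩
  · intro g hg
    apply Subtype.ext
    apply hHC g.1 g.2
    refine Subgroup.mem_centralizer_iff.mpr ?_
    intro v hv
    have := congrArg Subtype.val (hg ⟨v, hv⟩)
    have h2 : (g : G) * v * (g : G)⁻¹ = v := this
    calc v * (g : G) = ((g : G) * v * (g : G)⁻¹) * g := by rw [h2]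
      _ = g * v := by group
  · intro a b
    exact Subtype.ext (Cfsg.Agent.Lib.Helper4.elemAb_comm hV a.1 a.2 b.1 b.2)
  · intro v
    apply Subtype.ext
    rw [Subgroup.coe_pow, Subgroup.coe_one]
    exact hV.2 v.1 v.2
  · intro A hAH hAA hAp
    have hcomm : ∀ a ∈ A, ∀ b ∈ A, a * b = b * a := by
      intro a ha b hb
      have h1 : ⁅a, b⁆ ∈ ⁅A, A⁆ := Subgroup.commutator_mem_commutator ha hb
      have h2 : ⁅a, b⁆ ∈ H := by
        rw [commutatorElement_def]
        exact H.mul_mem (H.mul_mem (H.mul_mem (hAH ha) (hAH hb)) (H.inv_mem (hAH ha))) (H.inv_mem (hAH hb))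
      have h3 := hHC _ h2 (hAA h1)
      exact commutatorElement_eq_one_iff_mul_comm.mp h3
    have hpow : ∀ a ∈ A, a ^ p = 1 := fun a ha => hHC _ (H.pow_mem (hAH ha) p) (hAp a ha)
    refine ⟨fun a _ x hx => hQn.conj_mem x hx a, ?_, ?_, ?_⟩
    · intro a ha b hb
      exact Subtype.ext (hcomm a.1 (Subgroup.mem_subgroupOf.mp ha) b.1 (Subgroup.mem_subgroupOf.mp hb))
    · intro a ha
      apply Subtype.ext
      rw [Subgroup.coe_pow, Subgroup.coe_one]
      exact hpow a.1 (Subgroup.mem_subgroupOf.mp ha)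
    · intro a ha hcent
      have haC : a ∈ Subgroup.centralizer (Cfsg.pPrimeCore p ↥H : Set ↥H) := by
        refine Subgroup.mem_centralizer_iff.mpr ?_
        intro x hx
        calc x * a = (a * x * a⁻¹) * a := by rw [hcent x hx]
          _ = a * x := by group
      have haQ : a ∈ Cfsg.pPrimeCore p ↥H := hS1 haC
      have h1 : a ^ Nat.card (Cfsg.pPrimeCore p ↥H) = 1 := by
        have h0 : (⟨a, haQ⟩ : Cfsg.pPrimeCore p ↥H) ^ Nat.card (Cfsg.pPrimeCore p ↥H) = 1 := pow_card_eq_one'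
        have h00 := congrArg Subtype.val h0
        rw [Subgroup.coe_pow, Subgroup.coe_one] at h00
        exact h00
      have h2 : a ^ p = 1 := by
        apply Subtype.ext
        rw [Subgroup.coe_pow, Subgroup.coe_one]
        exact hpow a.1 (Subgroup.mem_subgroupOf.mp ha)
      have := pow_gcd_eq_one.mpr ⟨h1, h2⟩
      rwa [hQcop.gcd_eq_one, pow_one] at this

/-- best offenders in the abstract sense -/
theorem best_subgroupOf (V H : Subgroup G) (hHV : H ≤ Subgroup.normalizer (V : Set G)) (A : Subgroup G)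
    (hAH : A ≤ H)
    (hbest : ∀ B : Subgroup G, B ≤ A →
      Nat.card B * Nat.card ↥(V ⊓ Subgroup.centralizer (B : Set G)) ≤
        Nat.card A * Nat.card ↥(V ⊓ Subgroup.centralizer (A : Set G))) :
    letI := conjAct V H hHV
    ∀ B' : Subgroup ↥H, B' ≤ A.subgroupOf H → msr ↥V B' ≤ msr ↥V (A.subgroupOf H) := by
  let _ := conjAct V H hHV
  intro B' hB'
  have hle : B'.map H.subtype ≤ A := by
    rintro _ ⟨b, hb, rfl⟩
    exact Subgroup.mem_subgroupOf.mp (hB' hb)
  have h1 := msr_subgroupOf V H hHV (B'.map H.subtype) (hle.trans hAH)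
  rw [subgroupOf_map_subtype_self] at h1
  rw [h1, msr_subgroupOf V H hHV A hAH]
  exact hbest _ hle

end setting

section results
variable {G : Type*} [Group G] [Finite G] {p : ℕ} [hp : Fact p.Prime]

/-- **KS 9.3.2**: a best offender `A` in a faithful group with self-centralizing `p'`-core has
`|A| |C_V(A)| = |V|` -/
theorem card_mul_card_fix_eq (V H : Subgroup G) (hV : Cfsg.IsElementaryAbelian p V)
    (hHV : H ≤ Subgroup.normalizer (V : Set G)) (hf : H ⊓ Subgroup.centralizer (V : Set G) = ⊥)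
    (hS1 : Subgroup.centralizer (Cfsg.pPrimeCore p ↥H : Set ↥H) ≤ Cfsg.pPrimeCore p ↥H)
    (A : Subgroup G) (hAH : A ≤ H) (hA : Cfsg.IsBestOffenderOn p V A) :
    Nat.card A * Nat.card ↥(V ⊓ Subgroup.centralizer (A : Set G)) = Nat.card V := by
  let _ := conjAct V H hHV
  obtain ⟨hfaith, hVc, hVp, hQ, hfacts⟩ := setting_facts V H hV hHV hf hS1
  obtain ⟨hAQ, hAab, hAp, hAfaith⟩ := hfacts A hAH hA.2.1 hA.2.2
  have hbest := best_subgroupOf V H hHV A hAH hA.1
  have := msr_eq_card_of_best hfaith hVc hVp _ hQ _ (A.subgroupOf H) rfl hAQ hAab hAp hAfaith hbest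
  rw [msr_subgroupOf V H hHV A hAH] at this
  exact this

omit [Finite G] hp in
theorem ne_bot_of_commutator_ne_bot (V B : Subgroup G) (h : ⁅V, B⁆ ≠ ⊥) : B ≠ ⊥ := by
  intro hB
  apply h
  rw [hB, Subgroup.commutator_bot_right]

omit [Finite G] hp in
theorem commutator_ne_bot_of_ne_bot (V H : Subgroup G) (hf : H ⊓ Subgroup.centralizer (V : Set G) = ⊥)
    (B : Subgroup G) (hBH : B ≤ H) (hB : B ≠ ⊥) : ⁅V, B⁆ ≠ ⊥ := by
  intro h
  apply hB
  rw [Subgroup.commutator_eq_bot_iff_le_centralizer] at h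
  rw [eq_bot_iff, ← hf]
  exact le_inf hBH (Subgroup.le_centralizer_iff.mp h)

/-- a subgroup of prime order `p` with `|V : C_V(B)| = p` is a minimal best offender -/
theorem isBestOffenderOn_of_card_prime (V H : Subgroup G) (hf : H ⊓ Subgroup.centralizer (V : Set G) = ⊥)
    (B : Subgroup G) (hBH : B ≤ H) (hBp : Nat.card B = p)
    (hmsr : Nat.card B * Nat.card ↥(V ⊓ Subgroup.centralizer (B : Set G)) = Nat.card V)
    (hcomm : ⁅B, B⁆ ≤ Subgroup.centralizer (V : Set G))
    (hpow : ∀ b ∈ B, b ^ p ∈ Subgroup.centralizer (V : Set G)) :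
    Cfsg.IsBestOffenderOn p V B ∧ ⁅V, B⁆ ≠ ⊥ ∧
      ∀ C : Subgroup G, C ≤ B → Cfsg.IsBestOffenderOn p V C → ⁅V, C⁆ ≠ ⊥ → C = B := by
  have hp' : p.Prime := hp.out
  have hBne : B ≠ ⊥ := by
    intro h
    rw [h, Subgroup.card_bot] at hBp
    exact hp'.one_lt.ne hBp
  have hsub : ∀ C : Subgroup G, C ≤ B → C = ⊥ ∨ C = B := by
    intro C hC
    have hd := Subgroup.card_dvd_of_le hC
    rw [hBp] at hd
    rcases (Nat.dvd_prime hp').mp hd with h | h
    · left; exact Subgroup.card_eq_one.mp h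
    · right; exact Subgroup.eq_of_le_of_card_ge hC (by rw [h, hBp])
  refine ⟨⟨?_, hcomm, hpow⟩, commutator_ne_bot_of_ne_bot V H hf B hBH hBne, ?_⟩
  · intro C hC
    rcases hsub C hC with h | h
    · rw [h, hmsr, Subgroup.card_bot, one_mul]
      exact Subgroup.card_le_of_le inf_le_left
    · rw [h]
  · intro C hC _ hVC
    rcases hsub C hC with h | h
    · exact absurd h (ne_bot_of_commutator_ne_bot V C hVC)
    · exact h

/-- **KS 9.3.3**: minimal best offenders have order `p` and are transvection groups -/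
theorem minimal_best_offender (V H : Subgroup G) (hV : Cfsg.IsElementaryAbelian p V)
    (hHV : H ≤ Subgroup.normalizer (V : Set G)) (hf : H ⊓ Subgroup.centralizer (V : Set G) = ⊥)
    (hS1 : Subgroup.centralizer (Cfsg.pPrimeCore p ↥H : Set ↥H) ≤ Cfsg.pPrimeCore p ↥H)
    (A : Subgroup G) (hAH : A ≤ H) (hA : Cfsg.IsBestOffenderOn p V A) (hAV : ⁅V, A⁆ ≠ ⊥)
    (hmin : ∀ B : Subgroup G, B ≤ A → Cfsg.IsBestOffenderOn p V B → ⁅V, B⁆ ≠ ⊥ → B = A) :
    Nat.card A = p ∧ Nat.card ↥(⁅V, A⁆) = p ∧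
      ((V ⊓ Subgroup.centralizer (A : Set G))).relIndex V = p := by
  have hp' : p.Prime := hp.out
  let _ := conjAct V H hHV
  obtain ⟨hfaith, hVc, hVp, hQ, hfacts⟩ := setting_facts V H hV hHV hf hS1
  obtain ⟨hAQ, hAab, hAp, hAfaith⟩ := hfacts A hAH hA.2.1 hA.2.2
  have hbest := best_subgroupOf V H hHV A hAH hA.1
  have hAne : A ≠ ⊥ := ne_bot_of_commutator_ne_bot V A hAV
  have hA'ne : A.subgroupOf H ≠ ⊥ := by
    intro h
    apply hAne
    rw [Subgroup.subgroupOf_eq_bot] at h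
    rw [eq_bot_iff]
    intro a ha
    have : a ∈ A ⊓ H := ⟨ha, hAH ha⟩
    rw [disjoint_iff.mp h] at this
    exact this
  have hmin' : ∀ B' : Subgroup ↥H, B' ≤ A.subgroupOf H → (∀ C' : Subgroup ↥H, C' ≤ B' → msr ↥V C' ≤ msr ↥V B') →
      B' ≠ ⊥ → B' = A.subgroupOf H := by
    intro B' hB'A hB'best hB'ne
    have hle : B'.map H.subtype ≤ A := by
      rintro _ ⟨b, hb, rfl⟩
      exact Subgroup.mem_subgroupOf.mp (hB'A hb)
    have hBH : B'.map H.subtype ≤ H := hle.trans hAH
    have hBne : B'.map H.subtype ≠ ⊥ := by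
      intro h
      apply hB'ne
      exact (Subgroup.map_eq_bot_iff_of_injective B' (Subgroup.subtype_injective H)).mp h
    have hBbest : Cfsg.IsBestOffenderOn p V (B'.map H.subtype) := by
      refine ⟨?_, (Subgroup.commutator_mono hle hle).trans hA.2.1, fun b hb => hA.2.2 b (hle hb)⟩
      intro C hC
      have h1 := msr_subgroupOf V H hHV C (hC.trans hBH)
      have h2 := msr_subgroupOf V H hHV (B'.map H.subtype) hBH
      rw [← h1, ← h2, subgroupOf_map_subtype_self]
      apply hB'best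
      intro c hc
      have : (c : G) ∈ B'.map H.subtype := hC (Subgroup.mem_subgroupOf.mp hc)
      obtain ⟨b, hb, hbc⟩ := this
      have : b = c := Subtype.ext hbc
      rw [← this]; exact hb
    have := hmin _ hle hBbest (commutator_ne_bot_of_ne_bot V H hf _ hBH hBne)
    rw [← this, subgroupOf_map_subtype_self]
  have hcardA' := card_eq_of_minimal_best hfaith hVc hVp _ hQ (A.subgroupOf H) hAQ hAab hAp hAfaith hA'ne
    hbest hmin'
  have hcardA : Nat.card A = p := by rw [← card_subgroupOf_le hAH]; exact hcardA'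
  have hmsr := card_mul_card_fix_eq V H hV hHV hf hS1 A hAH hA
  have hrel : (V ⊓ Subgroup.centralizer (A : Set G)).relIndex V = p := by
    have h1 := relIndex_mul_card_eq (inf_le_left : V ⊓ Subgroup.centralizer (A : Set G) ≤ V)
    rw [← hmsr, hcardA] at h1
    exact Nat.eq_of_mul_eq_mul_right Nat.card_pos h1
  refine ⟨hcardA, ?_, hrel⟩
  -- a generator
  obtain ⟨⟨a, haA⟩, ha1'⟩ := Subgroup.ne_bot_iff_exists_ne_one.mp hAne
  have ha1 : a ≠ 1 := fun h => ha1' (Subtype.ext h)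
  have hzp : ∀ b ∈ A, b ∈ Subgroup.zpowers a := by
    intro b hb
    have hfp : Fact (Nat.card A).Prime := ⟨by rw [hcardA]; exact hp'⟩
    have h1 : Subgroup.zpowers (⟨a, haA⟩ : A) = ⊤ :=
      zpowers_eq_top_of_prime_card (p := Nat.card A) rfl (fun h => ha1' h)
    have h2 : (⟨b, hb⟩ : A) ∈ Subgroup.zpowers (⟨a, haA⟩ : A) := by rw [h1]; exact Subgroup.mem_top _
    obtain ⟨k, hk⟩ := Subgroup.mem_zpowers_iff.mp h2
    refine Subgroup.mem_zpowers_iff.mpr ⟨k, ?_⟩
    have := congrArg Subtype.val hk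
    simpa using this
  obtain ⟨a', ha'⟩ : ∃ a' : ↥H, a' = ⟨a, hAH haA⟩ := ⟨_, rfl⟩
  -- the elements `b'` with `w⁻¹ (b' • w) ∈ [V, a]` for all `w` form a subgroup
  let S : Subgroup ↥H :=
    { carrier := {b' | ∀ w : ↥V, w⁻¹ * b' • w ∈ (delta hVc a').range}
      one_mem' := fun w => by rw [one_smul, inv_mul_cancel]; exact Subgroup.one_mem _
      mul_mem' := by
        intro b c hb hc w
        have e : w⁻¹ * (b * c) • w = (w⁻¹ * c • w) * ((c • w)⁻¹ * b • (c • w)) := by
          rw [mul_smul]; group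
        rw [e]
        exact Subgroup.mul_mem _ (hc w) (hb (c • w))
      inv_mem' := by
        intro b hb w
        have e : w⁻¹ * b⁻¹ • w = ((b⁻¹ • w)⁻¹ * b • (b⁻¹ • w))⁻¹ := by
          rw [← mul_smul, mul_inv_cancel, one_smul]; group
        rw [e]
        exact Subgroup.inv_mem _ (hb (b⁻¹ • w)) }
  have ha'S : a' ∈ S := fun w => ⟨w, rfl⟩
  have hAS : ∀ b ∈ A, ∀ hb : b ∈ H, (⟨b, hb⟩ : ↥H) ∈ S := by
    intro b hbA hbH
    obtain ⟨k, hk⟩ := Subgroup.mem_zpowers_iff.mp (hzp b hbA)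
    have : (⟨b, hbH⟩ : ↥H) = a' ^ k := by
      apply Subtype.ext
      rw [ha', Subgroup.coe_zpow]
      exact hk.symm
    rw [this]
    exact Subgroup.zpow_mem _ ha'S k
  have hcomm_eq : ⁅V, A⁆ = (delta hVc a').range.map V.subtype := by
    apply le_antisymm
    · rw [Subgroup.commutator_le]
      intro v hv b hb
      have h1 := hAS b hb (hAH hb) ⟨v⁻¹, V.inv_mem hv⟩
      refine ⟨_, h1, ?_⟩
      show ((⟨v⁻¹, V.inv_mem hv⟩ : ↥V)⁻¹ * (⟨b, hAH hb⟩ : ↥H) • (⟨v⁻¹, V.inv_mem hv⟩ : ↥V) : ↥V).1 = ⁅v, b⁆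
      rw [Subgroup.coe_mul, Subgroup.coe_inv, conjAct_smul_coe, commutatorElement_def]
      show (v⁻¹)⁻¹ * (b * v⁻¹ * b⁻¹) = v * b * v⁻¹ * b⁻¹
      group
    · rintro _ ⟨_, ⟨w, rfl⟩, rfl⟩
      have : (V.subtype ((delta hVc a') w) : G) = ⁅(w : G)⁻¹, a⁆ := by
        rw [Subgroup.subtype_apply, delta_apply, Subgroup.coe_mul, Subgroup.coe_inv, conjAct_smul_coe, ha',
          commutatorElement_def]
        show (w : G)⁻¹ * (a * w * a⁻¹) = (w : G)⁻¹ * a * (w : G)⁻¹⁻¹ * a⁻¹
        group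
      rw [this]
      exact Subgroup.commutator_mem_commutator (V.inv_mem w.2) haA
  -- `C_V(a) = C_V(A)`
  have hfixeq : fixElt (V := ↥V) a' = fixSub (A.subgroupOf H) := by
    apply le_antisymm
    · intro v hv b hb
      have hbS : b ∈ Subgroup.zpowers a' := by
        obtain ⟨k, hk⟩ := Subgroup.mem_zpowers_iff.mp (hzp b.1 (Subgroup.mem_subgroupOf.mp hb))
        refine Subgroup.mem_zpowers_iff.mpr ⟨k, ?_⟩
        apply Subtype.ext
        rw [ha', Subgroup.coe_zpow]
        exact hk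
      have hle : Subgroup.zpowers a' ≤ MulAction.stabilizer ↥H v := by
        rw [Subgroup.zpowers_le]
        exact hv
      exact hle hbS
    · intro v hv
      exact hv a' (by rw [ha']; exact Subgroup.mem_subgroupOf.mpr haA)
  have h3 := card_range_delta hVc a'
  rw [hfixeq] at h3
  have h4 : Nat.card (fixSub (V := ↥V) (A.subgroupOf H)) =
      Nat.card ↥(V ⊓ Subgroup.centralizer (A : Set G)) := by
    rw [← fixSub_map_subtype V H hHV A hAH, Subgroup.card_map_of_injective (Subgroup.subtype_injective V)]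
  rw [hcomm_eq, Subgroup.card_map_of_injective (Subgroup.subtype_injective V)]
  rw [h4, ← hmsr, hcardA] at h3
  exact Nat.eq_of_mul_eq_mul_right Nat.card_pos h3

/-- **KS 9.3.5**: a best offender is the direct product of minimal best offenders -/
theorem best_offender_decomposition (V H : Subgroup G) (hV : Cfsg.IsElementaryAbelian p V)
    (hHV : H ≤ Subgroup.normalizer (V : Set G)) (hf : H ⊓ Subgroup.centralizer (V : Set G) = ⊥)
    (hS1 : Subgroup.centralizer (Cfsg.pPrimeCore p ↥H : Set ↥H) ≤ Cfsg.pPrimeCore p ↥H)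
    (A : Subgroup G) (hAH : A ≤ H) (hA : Cfsg.IsBestOffenderOn p V A) :
    ∃ (k : ℕ) (B : Fin k → Subgroup G), (∀ i, B i ≤ A ∧ Cfsg.IsBestOffenderOn p V (B i) ∧ ⁅V, B i⁆ ≠ ⊥ ∧
      ∀ C : Subgroup G, C ≤ B i → Cfsg.IsBestOffenderOn p V C → ⁅V, C⁆ ≠ ⊥ → C = B i) ∧
      iSupIndep B ∧ ⨆ i, B i = A := by
  have hp' : p.Prime := hp.out
  let _ := conjAct V H hHV
  obtain ⟨hfaith, hVc, hVp, hQ, hfacts⟩ := setting_facts V H hV hHV hf hS1
  obtain ⟨hAQ, hAab, hAp, hAfaith⟩ := hfacts A hAH hA.2.1 hA.2.2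
  have hbest := best_subgroupOf V H hHV A hAH hA.1
  obtain ⟨k, B', hB', hsup, hcard⟩ :=
    exists_generating_family hfaith hVc hVp _ hQ _ (A.subgroupOf H) rfl hAQ hAab hAp hAfaith hbest
  have hind : iSupIndep B' :=
    iSupIndep_of_card hp' (A.subgroupOf H) hAab B' (fun i => (hB' i).1) (fun i => (hB' i).2.1) hsup hcard
  have hBA : ∀ i, (B' i).map H.subtype ≤ A := by
    intro i
    rintro _ ⟨b, hb, rfl⟩
    exact Subgroup.mem_subgroupOf.mp ((hB' i).1 hb)
  refine ⟨k, fun i => (B' i).map H.subtype, ?_, iSupIndep_map H.subtype (Subgroup.subtype_injective H) B' hind, ?_⟩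
  · intro i
    have hBH : (B' i).map H.subtype ≤ H := (hBA i).trans hAH
    have hcardB : Nat.card ((B' i).map H.subtype) = p := by
      rw [Subgroup.card_map_of_injective (Subgroup.subtype_injective H)]; exact (hB' i).2.1
    have hmsrB : Nat.card ((B' i).map H.subtype) *
        Nat.card ↥(V ⊓ Subgroup.centralizer (((B' i).map H.subtype : Subgroup G) : Set G)) = Nat.card V := by
      have h1 := msr_subgroupOf V H hHV ((B' i).map H.subtype) hBH
      rw [subgroupOf_map_subtype_self] at h1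
      rw [← h1]
      exact (hB' i).2.2
    obtain ⟨h1, h2, h3⟩ := isBestOffenderOn_of_card_prime V H hf _ hBH hcardB hmsrB
      ((Subgroup.commutator_mono (hBA i) (hBA i)).trans hA.2.1) (fun b hb => hA.2.2 b (hBA i hb))
    exact ⟨hBA i, h1, h2, h3⟩
  · show ⨆ i, (B' i).map H.subtype = A
    rw [← Subgroup.map_iSup, hsup, Subgroup.subgroupOf_map_subtype, inf_eq_left.mpr hAH]

end results

end Cfsg.Agent.Lib.Helper8.FFOff
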