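import Mathlib
import Cfsg.Agent.Lib.Helper8.FFOffB
import Cfsg.Agent.Lib.Helper1.NilpotentAction
import Cfsg.Agent.Lib.Helper1.Commutator
import Cfsg.Agent.Lib.Helper26.ElemAbAut
import Cfsg.Agent.S0055

/-!
# KS 9.3.6: two conjugate minimal best offenders generate `SL₂(p)` (helper8 library)
-/

set_option autoImplicit false
open Subgroup
open scoped Pointwise commutatorElement

namespace Cfsg.Agent.Lib.Helper8.FFOff

open Cfsg.Agent.Lib.Helper8.ThTwo

section general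
variable {G : Type*} [Group G]

theorem commutatorElement_mul_right (v d₁ d₂ : G) : ⁅v, d₁ * d₂⁆ = ⁅v, d₁⁆ * (d₁ * ⁅v, d₂⁆ * d₁⁻¹) := by
  simp only [commutatorElement_def]; group

theorem conj_eq_commutatorElement_inv_mul (w d : G) : d * w * d⁻¹ = ⁅w, d⁆⁻¹ * w := by
  simp only [commutatorElement_def]; group

/-- the elements `d` with `[V, d] ≤ W` and `[V, d⁻¹] ≤ W`, for `W ≤ V` -/
def trivStab (V W : Subgroup G) (hWV : W ≤ V) : Subgroup G where
  carrier := {d | (∀ v ∈ V, ⁅v, d⁆ ∈ W) ∧ (∀ v ∈ V, ⁅v, d⁻¹⁆ ∈ W)}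
  one_mem' := by
    constructor
    · intro v _
      rw [commutatorElement_one_right]; exact W.one_mem
    · intro v _
      rw [inv_one, commutatorElement_one_right]; exact W.one_mem
  mul_mem' := by
    intro d₁ d₂ h1 h2
    constructor
    · intro v hv
      rw [commutatorElement_mul_right]
      refine W.mul_mem (h1.1 v hv) ?_
      rw [conj_eq_commutatorElement_inv_mul]
      exact W.mul_mem (W.inv_mem (h1.1 _ (hWV (h2.1 v hv)))) (h2.1 v hv)
    · intro v hv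
      rw [mul_inv_rev, commutatorElement_mul_right]
      refine W.mul_mem (h2.2 v hv) ?_
      rw [conj_eq_commutatorElement_inv_mul]
      exact W.mul_mem (W.inv_mem (h2.2 _ (hWV (h1.2 v hv)))) (h1.2 v hv)
  inv_mem' := by
    intro d h
    refine ⟨h.2, ?_⟩
    rw [inv_inv]
    exact h.1

theorem le_trivStab (V W : Subgroup G) (hWV : W ≤ V) (A : Subgroup G) (hA : ⁅V, A⁆ ≤ W) :
    A ≤ trivStab V W hWV := by
  intro a ha
  exact ⟨fun v hv => hA (Subgroup.commutator_mem_commutator hv ha),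
    fun v hv => hA (Subgroup.commutator_mem_commutator hv (A.inv_mem ha))⟩

theorem commutator_le_of_le_trivStab (V W : Subgroup G) (hWV : W ≤ V) (D : Subgroup G)
    (hD : D ≤ trivStab V W hWV) : ⁅V, D⁆ ≤ W := by
  rw [Subgroup.commutator_le]
  intro v hv d hd
  exact (hD hd).1 v hv

/-- `[V, ⨆ A i] = ⨆ [V, A i]` when all `A i` normalize `V` -/
theorem commutator_iSup_eq {ι : Sort*} (V : Subgroup G) (A : ι → Subgroup G)
    (hA : ∀ i, A i ≤ Subgroup.normalizer (V : Set G)) : ⁅V, ⨆ i, A i⁆ = ⨆ i, ⁅V, A i⁆ := by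
  apply le_antisymm
  · have hWV : (⨆ i, ⁅V, A i⁆) ≤ V :=
      iSup_le fun i => Cfsg.Agent.Lib.Helper1.commutator_le_of_le_normalizer (hA i)
    apply commutator_le_of_le_trivStab V _ hWV
    exact iSup_le fun i => le_trivStab V _ hWV (A i) (le_iSup (fun i => ⁅V, A i⁆) i)
  · exact iSup_le fun i => Subgroup.commutator_mono le_rfl (le_iSup A i)

theorem commutator_sup_eq (V A B : Subgroup G) (hA : A ≤ Subgroup.normalizer (V : Set G))
    (hB : B ≤ Subgroup.normalizer (V : Set G)) : ⁅V, A ⊔ B⁆ = ⁅V, A⁆ ⊔ ⁅V, B⁆ := by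
  apply le_antisymm
  · have hWV : ⁅V, A⁆ ⊔ ⁅V, B⁆ ≤ V :=
      sup_le (Cfsg.Agent.Lib.Helper1.commutator_le_of_le_normalizer hA)
        (Cfsg.Agent.Lib.Helper1.commutator_le_of_le_normalizer hB)
    apply commutator_le_of_le_trivStab V _ hWV
    exact sup_le (le_trivStab V _ hWV A le_sup_left) (le_trivStab V _ hWV B le_sup_right)
  · exact sup_le (Subgroup.commutator_mono le_rfl le_sup_left) (Subgroup.commutator_mono le_rfl le_sup_right)

/-- a `p`-group normalizing a group of order `p` centralizes it -/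
theorem le_centralizer_of_card_prime [Finite G] {p : ℕ} [hp : Fact p.Prime] {U P : Subgroup G}
    (hU : Nat.card U = p) (hP : IsPGroup p P) (hPU : P ≤ Subgroup.normalizer (U : Set G)) :
    P ≤ Subgroup.centralizer (U : Set G) := by
  have hUp : IsPGroup p U := IsPGroup.of_card (n := 1) (by rw [hU, pow_one])
  have hUne : U ≠ ⊥ := by
    intro h
    rw [h, Subgroup.card_bot] at hU
    exact hp.out.one_lt.ne hU
  have hlt := Cfsg.Agent.Lib.Helper1.IsPGroup.commutator_lt hUp hP hPU hUne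
  have hdvd : Nat.card (⁅U, P⁆ : Subgroup G) ∣ p := hU ▸ Subgroup.card_dvd_of_le hlt.le
  have hbot : ⁅U, P⁆ = ⊥ := by
    rcases (Nat.dvd_prime hp.out).mp hdvd with h | h
    · exact Subgroup.eq_bot_of_card_eq _ h
    · exfalso
      have := Subgroup.eq_of_le_of_card_ge hlt.le (by rw [h, hU])
      exact hlt.ne this
  rw [Subgroup.commutator_comm, Subgroup.commutator_eq_bot_iff_le_centralizer] at hbot
  exact hbot

/-- coprime action: `C_K([V, K]) ≤ C_K(V)` -/
theorem inf_centralizer_commutator_le [Finite G] (K V : Subgroup G) [IsMulCommutative V]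
    (hKV : K ≤ Subgroup.normalizer (V : Set G)) (hcop : (Nat.card K).Coprime (Nat.card V)) :
    K ⊓ Subgroup.centralizer ((⁅V, K⁆ : Subgroup G) : Set G) ≤ Subgroup.centralizer (V : Set G) := by
  set K₁ := K ⊓ Subgroup.centralizer ((⁅V, K⁆ : Subgroup G) : Set G) with hK₁
  have h1 : K₁ ≤ K := inf_le_left
  have hcop1 : (Nat.card K₁).Coprime (Nat.card V) :=
    Nat.Coprime.coprime_dvd_left (Subgroup.card_dvd_of_le h1) hcop
  have h55 := (Cfsg.Agent.S0055.result K₁ V (h1.trans hKV) hcop1).1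
  have h2 : ⁅V, K₁⁆ ≤ V ⊓ Subgroup.centralizer (K₁ : Set G) := by
    refine le_inf (Cfsg.Agent.Lib.Helper1.commutator_le_of_le_normalizer (h1.trans hKV)) ?_
    refine (Subgroup.commutator_mono le_rfl h1).trans ?_
    rw [Subgroup.le_centralizer_iff]
    exact inf_le_right
  have h3 : ⁅V, K₁⁆ = ⊥ := by
    rw [eq_bot_iff, ← h55]
    exact le_inf h2 le_rfl
  rw [Subgroup.commutator_comm, Subgroup.commutator_eq_bot_iff_le_centralizer] at h3
  exact h3

end general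

section SL2
open Matrix Cfsg.Agent.Lib.Helper13 Cfsg.Agent.Lib.Helper26

variable (p : ℕ) [hp : Fact p.Prime]

/-- a group acting faithfully on an elementary abelian group of order `p²`, generated by two distinct nontrivial
`p`-subgroups, is `SL₂(p)` -/
theorem nonempty_mulEquiv_SL2 {D W : Type*} [Group D] [Group W] [Finite W]
    (hcomm : ∀ a b : W, a * b = b * a) (hexp : ∀ a : W, a ^ p = 1) (hcard : Nat.card W = p ^ 2)
    (θ : D →* MulAut W) (hθ : Function.Injective θ) (A B : Subgroup D) (hA : IsPGroup p A) (hB : IsPGroup p B)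
    (hA1 : A ≠ ⊥) (hB1 : B ≠ ⊥) (hAB : A ≠ B) (hsup : A ⊔ B = ⊤) :
    Nonempty (D ≃* SpecialLinearGroup (Fin 2) (ZMod p)) := by
  obtain ⟨e⟩ := exists_mulEquiv_of_elemAb p hcomm hexp hcard
  set Ψ : MulAut W ≃* GL (Fin 2) (ZMod p) := (MulAut.congr e).trans (mulAutEquivGL p) with hΨ
  set f : D →* GL (Fin 2) (ZMod p) := Ψ.toMonoidHom.comp θ with hf
  have hfinj : Function.Injective f := Ψ.injective.comp hθ
  set ι := (SpecialLinearGroup.toGL : SpecialLinearGroup (Fin 2) (ZMod p) →* GL (Fin 2) (ZMod p)) with hι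
  have hinj : Function.Injective ι := toGL_injective p
  have hmapinj : Function.Injective (Subgroup.map f) := Subgroup.map_injective hfinj
  have hle : ι.range ≤ A.map f ⊔ B.map f := by
    apply range_toGL_le_of_two_pgroups p (A.map f ⊔ B.map f) (A.map f) (B.map f) le_sup_left le_sup_right
      (hA.map f) (hB.map f)
    · intro h
      apply hA1
      apply hmapinj
      rw [h, Subgroup.map_bot]
    · intro h
      apply hB1
      apply hmapinj
      rw [h, Subgroup.map_bot]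
    · intro h
      exact hAB (hmapinj h)
  have hge : A.map f ⊔ B.map f ≤ ι.range :=
    sup_le (pgroup_le_range_toGL p _ (hA.map f)) (pgroup_le_range_toGL p _ (hB.map f))
  have hrange : f.range = ι.range := by
    rw [MonoidHom.range_eq_map, ← hsup, Subgroup.map_sup]
    exact le_antisymm hge hle
  exact ⟨(MonoidHom.ofInjective hfinj).trans
    ((MulEquiv.subgroupCongr hrange).trans (MonoidHom.ofInjective hinj).symm)⟩

theorem dSL_mul_dSL {F : Type*} [Field F] (s t : F) (hs : s ≠ 0) (ht : t ≠ 0) :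
    dSL s hs * dSL t ht = dSL (s * t) (mul_ne_zero hs ht) := by
  apply Subtype.ext
  change (!![s, 0; 0, s⁻¹] * !![t, 0; 0, t⁻¹] : Matrix (Fin 2) (Fin 2) F) = !![s * t, 0; 0, (s * t)⁻¹]
  ext i j
  fin_cases i <;> fin_cases j <;> simp [Matrix.mul_apply, Fin.sum_univ_two, mul_comm]

theorem dSL_pow {F : Type*} [Field F] (s : F) (hs : s ≠ 0) (n : ℕ) :
    dSL s hs ^ n = dSL (s ^ n) (pow_ne_zero n hs) := by
  induction n with
  | zero =>
    apply Subtype.ext
    change (1 : Matrix (Fin 2) (Fin 2) F) = !![s ^ 0, 0; 0, (s ^ 0)⁻¹]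
    ext i j
    fin_cases i <;> fin_cases j <;> simp
  | succ n ih =>
    rw [pow_succ, ih, dSL_mul_dSL]
    apply Subtype.ext
    change (!![s ^ n * s, 0; 0, (s ^ n * s)⁻¹] : Matrix (Fin 2) (Fin 2) F) = !![s ^ (n + 1), 0; 0, (s ^ (n + 1))⁻¹]
    rw [pow_succ]

/-- `SL₂(p)` has a normal subgroup of order prime to `p` and `p`-power index only if `p ≤ 3` -/
theorem SL2_no_normal_p_complement (K : Subgroup (SpecialLinearGroup (Fin 2) (ZMod p))) [hK : K.Normal]
    (hcop : (Nat.card K).Coprime p) (hpow : ∀ g : SpecialLinearGroup (Fin 2) (ZMod p), g ^ p ∈ K) :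
    p = 2 ∨ p = 3 := by
  have hp' : p.Prime := hp.out
  by_contra hcon
  push Not at hcon
  obtain ⟨h2, h3⟩ := hcon
  have h2' : (2 : ZMod p) ≠ 0 := by
    intro h
    have h' : ((2 : ℕ) : ZMod p) = 0 := by exact_mod_cast h
    rw [ZMod.natCast_eq_zero_iff] at h'
    exact h2 ((Nat.prime_dvd_prime_iff_eq hp' Nat.prime_two).mp h')
  have h3' : (3 : ZMod p) ≠ 0 := by
    intro h
    have h' : ((3 : ℕ) : ZMod p) = 0 := by exact_mod_cast h
    rw [ZMod.natCast_eq_zero_iff] at h'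
    exact h3 ((Nat.prime_dvd_prime_iff_eq hp' Nat.prime_three).mp h')
  set b := dSL (2 : ZMod p) h2' with hb
  have hbp : b ^ p = b := by
    rw [hb, dSL_pow]
    apply Subtype.ext
    change (!![(2 : ZMod p) ^ p, 0; 0, ((2 : ZMod p) ^ p)⁻¹] : Matrix (Fin 2) (Fin 2) (ZMod p)) = !![2, 0; 0, 2⁻¹]
    rw [ZMod.pow_card]
  have hbK : b ∈ K := hbp ▸ hpow b
  have hb10 : (b : Matrix (Fin 2) (Fin 2) (ZMod p)) 1 0 = 0 := by
    change (!![(2 : ZMod p), 0; 0, 2⁻¹] : Matrix (Fin 2) (Fin 2) (ZMod p)) 1 0 = 0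
    simp
  have hb00 : (b : Matrix (Fin 2) (Fin 2) (ZMod p)) 0 0 = 2 := by
    change (!![(2 : ZMod p), 0; 0, 2⁻¹] : Matrix (Fin 2) (Fin 2) (ZMod p)) 0 0 = 2
    simp
  have hconj := upper_conj_tSL hb10 (1 : ZMod p)
  rw [hb00] at hconj
  have htinv : (tSL (1 : ZMod p))⁻¹ = tSL (-1) := by
    rw [inv_eq_iff_mul_eq_one, tSL_mul, add_neg_cancel, tSL_zero]
  have hc : b * (tSL (1 : ZMod p) * b⁻¹ * (tSL (1 : ZMod p))⁻¹) = tSL 3 := by
    have : b * (tSL (1 : ZMod p) * b⁻¹ * (tSL (1 : ZMod p))⁻¹) = (b * tSL 1 * b⁻¹) * (tSL (1 : ZMod p))⁻¹ := by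
      group
    rw [this, hconj, htinv, tSL_mul]
    congr 1
    norm_num
  have hcK : tSL (3 : ZMod p) ∈ K := by
    rw [← hc]
    exact K.mul_mem hbK (hK.conj_mem _ (K.inv_mem hbK) _)
  have hc1 : tSL (3 : ZMod p) ≠ 1 := by
    intro h
    rw [← tSL_zero] at h
    exact h3' (tSL_injective h)
  have hcp : tSL (3 : ZMod p) ^ p = 1 := by
    rw [tSL_pow, CharP.cast_eq_zero, zero_mul, tSL_zero]
  have hcK' : tSL (3 : ZMod p) ^ Nat.card K = 1 := by
    have h0 : (⟨tSL (3 : ZMod p), hcK⟩ : K) ^ Nat.card K = 1 := pow_card_eq_one'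
    have h00 := congrArg Subtype.val h0
    rw [Subgroup.coe_pow, Subgroup.coe_one] at h00
    exact h00
  have := pow_gcd_eq_one.mpr ⟨hcK', hcp⟩
  rw [hcop.gcd_eq_one, pow_one] at this
  exact hc1 this

end SL2

section setting
variable {G : Type*} [Group G] [Finite G] {p : ℕ} [hp : Fact p.Prime]

omit [Finite G] in
theorem eq_one_of_pow_of_coprime {g : G} {m : ℕ} (K : Subgroup G) (hg : g ∈ K) (hcop : (Nat.card K).Coprime m)
    (hm : g ^ m = 1) : g = 1 := by
  have h1 : g ^ Nat.card K = 1 := by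
    have h0 : (⟨g, hg⟩ : K) ^ Nat.card K = 1 := pow_card_eq_one'
    have h00 := congrArg Subtype.val h0
    rw [Subgroup.coe_pow, Subgroup.coe_one] at h00
    exact h00
  have := pow_gcd_eq_one.mpr ⟨h1, hm⟩
  rwa [hcop.gcd_eq_one, pow_one] at this

/-- **KS 9.3.6**: structure of `D = ⟨A, A^x⟩` for a minimal best offender `A` and `x ∈ O_{p'}(H) ∖ C(A)` -/
theorem conj_pair_structure (V H : Subgroup G) (hV : Cfsg.IsElementaryAbelian p V)
    (hHV : H ≤ Subgroup.normalizer (V : Set G)) (hf : H ⊓ Subgroup.centralizer (V : Set G) = ⊥)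
    (hS1 : Subgroup.centralizer (Cfsg.pPrimeCore p ↥H : Set ↥H) ≤ Cfsg.pPrimeCore p ↥H)
    (A : Subgroup G) (hAH : A ≤ H) (hA : Cfsg.IsBestOffenderOn p V A) (hAV : ⁅V, A⁆ ≠ ⊥)
    (hmin : ∀ B : Subgroup G, B ≤ A → Cfsg.IsBestOffenderOn p V B → ⁅V, B⁆ ≠ ⊥ → B = A)
    (x : G) (hx : x ∈ ((Cfsg.pPrimeCore p ↥H).map H.subtype)) (hxA : x ∉ Subgroup.centralizer (A : Set G))
    (B D K : Subgroup G) (hB : B = A.map (MulAut.conj x).toMonoidHom) (hD : D = A ⊔ B)
    (hK : K = D ⊓ (Cfsg.pPrimeCore p ↥H).map H.subtype) :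
    Nat.card (⁅V, D⁆ : Subgroup G) = p ^ 2 ∧ ⁅V, K⁆ = ⁅V, D⁆ ∧
      D ⊓ Subgroup.centralizer ((⁅V, D⁆ : Subgroup G) : Set G) = ⊥ ∧
      (V ⊓ Subgroup.centralizer (K : Set G)) ⊓ ⁅V, D⁆ = ⊥ ∧
      (V ⊓ Subgroup.centralizer (K : Set G)) ⊔ ⁅V, D⁆ = V ∧
      V ⊓ Subgroup.centralizer (K : Set G) ≤ Subgroup.centralizer (D : Set G) ∧
      A ⊔ K = D ∧ A ≠ B ∧ ⁅V, D⁆ = ⁅V, A⁆ ⊔ ⁅V, B⁆ ∧ (∀ d ∈ D, ∀ k ∈ K, d * k * d⁻¹ ∈ K) ∧
      (Nat.card K).Coprime p ∧ Nat.card B = p := by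
  have hp' : p.Prime := hp.out
  obtain ⟨hAcard, hVAcard, -⟩ := minimal_best_offender V H hV hHV hf hS1 A hAH hA hAV hmin
  have hQn : (Cfsg.pPrimeCore p ↥H).Normal := Cfsg.Agent.Lib.Helper1.pPrimeCore_normal p ↥H
  have hQcop : (Nat.card (Cfsg.pPrimeCore p ↥H)).Coprime p := Cfsg.Agent.Lib.Helper12.pPrimeCore_coprime p
  set Q := (Cfsg.pPrimeCore p ↥H).map H.subtype with hQdef
  have hQH : Q ≤ H := Subgroup.map_subtype_le _
  have hQcard : (Nat.card Q).Coprime p := by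
    have : Nat.card Q = Nat.card (Cfsg.pPrimeCore p ↥H) :=
      (Nat.card_congr (Subgroup.equivMapOfInjective _ _ H.subtype_injective).toEquiv).symm
    rw [this]; exact hQcop
  have hQnorm : ∀ h ∈ H, ∀ q ∈ Q, h * q * h⁻¹ ∈ Q := by
    rintro h hh _ ⟨q, hq, rfl⟩
    exact ⟨⟨h, hh⟩ * q * ⟨h, hh⟩⁻¹, hQn.conj_mem q hq ⟨h, hh⟩, rfl⟩
  have hxH : x ∈ H := hQH hx
  have hBmem : ∀ g : G, g ∈ B ↔ ∃ a ∈ A, x * a * x⁻¹ = g := by
    intro g
    rw [hB, Subgroup.mem_map]
    rfl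
  have hBH : B ≤ H := by
    intro g hg
    obtain ⟨a, ha, rfl⟩ := (hBmem g).mp hg
    exact H.mul_mem (H.mul_mem hxH (hAH ha)) (H.inv_mem hxH)
  have hBcard : Nat.card B = p := by
    rw [hB, ← hAcard]
    exact (Nat.card_congr (Subgroup.equivMapOfInjective _ _ (MulAut.conj x).injective).toEquiv).symm
  have hDH : D ≤ H := hD ▸ sup_le hAH hBH
  have hAD : A ≤ D := hD ▸ le_sup_left
  have hBD : B ≤ D := hD ▸ le_sup_right
  have hVc : ∀ v ∈ V, ∀ w ∈ V, v * w = w * v := Cfsg.Agent.Lib.Helper4.elemAb_comm hV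
  have : IsMulCommutative V := hV.1
  have hVp : IsPGroup p V := by
    intro v
    refine ⟨1, ?_⟩
    apply Subtype.ext
    rw [pow_one, Subgroup.coe_pow, Subgroup.coe_one]
    exact hV.2 v.1 v.2
  obtain ⟨n, hn⟩ := IsPGroup.iff_card.mp hVp
  have hHC : ∀ g : G, g ∈ H → g ∈ Subgroup.centralizer (V : Set G) → g = 1 := by
    intro g h1 h2
    have : g ∈ H ⊓ Subgroup.centralizer (V : Set G) := ⟨h1, h2⟩
    rw [hf, Subgroup.mem_bot] at this
    exact this
  -- `[V, B]`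
  have hVx : V.map (MulAut.conj x).toMonoidHom = V := by
    have hxN := hHV hxH
    ext g
    rw [Subgroup.mem_map]
    constructor
    · rintro ⟨v, hv, rfl⟩
      exact (Subgroup.mem_normalizer_iff.mp hxN v).mp hv
    · intro hg
      refine ⟨x⁻¹ * g * x, ?_, ?_⟩
      · have := (Subgroup.mem_normalizer_iff.mp hxN (x⁻¹ * g * x)).mpr
        apply this
        have e : x * (x⁻¹ * g * x) * x⁻¹ = g := by group
        rw [e]; exact hg
      · show x * (x⁻¹ * g * x) * x⁻¹ = g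
        group
  have hVB : ⁅V, B⁆ = (⁅V, A⁆).map (MulAut.conj x).toMonoidHom := by
    rw [Subgroup.map_commutator, hVx, hB]
  have hVBcard : Nat.card (⁅V, B⁆ : Subgroup G) = p := by
    rw [hVB, ← hVAcard]
    exact (Nat.card_congr (Subgroup.equivMapOfInjective _ _ (MulAut.conj x).injective).toEquiv).symm
  have hAN : A ≤ Subgroup.normalizer (V : Set G) := hAH.trans hHV
  have hBN : B ≤ Subgroup.normalizer (V : Set G) := hBH.trans hHV
  have hDN : D ≤ Subgroup.normalizer (V : Set G) := hDH.trans hHV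
  have hW : ⁅V, D⁆ = ⁅V, A⁆ ⊔ ⁅V, B⁆ := by rw [hD]; exact commutator_sup_eq V A B hAN hBN
  have hWV : ⁅V, D⁆ ≤ V := Cfsg.Agent.Lib.Helper1.commutator_le_of_le_normalizer hDN
  -- `K`
  have hKD' : K ≤ D := hK ▸ inf_le_left
  have hKQ : K ≤ Q := hK ▸ inf_le_right
  have hKcop : (Nat.card K).Coprime p :=
    Nat.Coprime.coprime_dvd_left (Subgroup.card_dvd_of_le hKQ) hQcard
  have hKN : K ≤ Subgroup.normalizer (V : Set G) := hKD'.trans hDN
  have hKcopV : (Nat.card K).Coprime (Nat.card V) := by rw [hn]; exact Nat.Coprime.pow_right n hKcop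
  have h55 := Cfsg.Agent.S0055.result K V hKN hKcopV
  have hKD : ∀ d ∈ D, ∀ k ∈ K, d * k * d⁻¹ ∈ K := by
    intro d hd k hk
    rw [hK] at hk ⊢
    exact ⟨D.mul_mem (D.mul_mem hd hk.1) (D.inv_mem hd), hQnorm d (hDH hd) k hk.2⟩
  -- the element `k₀`
  have hex : ∃ a ∈ A, a * x ≠ x * a := by
    by_contra hcon
    push Not at hcon
    exact hxA (Subgroup.mem_centralizer_iff.mpr hcon)
  obtain ⟨a, haA, hax⟩ := hex
  have hcomQ : ∀ a' ∈ A, a'⁻¹ * (x * a' * x⁻¹) ∈ K := by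
    intro a' ha'
    rw [hK]
    refine ⟨D.mul_mem (D.inv_mem (hAD ha')) (hBD ((hBmem _).mpr ⟨a', ha', rfl⟩)), ?_⟩
    have e : a'⁻¹ * (x * a' * x⁻¹) = (a'⁻¹ * x * a'⁻¹⁻¹) * x⁻¹ := by group
    rw [e]
    exact Q.mul_mem (hQnorm _ (H.inv_mem (hAH ha')) x hx) (Q.inv_mem hx)
  have hk₀K : a⁻¹ * (x * a * x⁻¹) ∈ K := hcomQ a haA
  have hk₀1 : a⁻¹ * (x * a * x⁻¹) ≠ 1 := by
    intro h
    apply hax
    have h2 : x * a * x⁻¹ = a := by
      have := congrArg (fun t => a * t) h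
      simpa using this
    calc a * x = (x * a * x⁻¹) * x := by rw [h2]
      _ = x * a := by group
  have hKne : ¬ K ≤ Subgroup.centralizer (V : Set G) := by
    intro h
    exact hk₀1 (hHC _ (hDH (hKD' hk₀K)) (h hk₀K))
  -- `A`, `B` are `p`-groups
  have hAp : IsPGroup p A := IsPGroup.of_card (n := 1) (by rw [hAcard, pow_one])
  have hBp : IsPGroup p B := IsPGroup.of_card (n := 1) (by rw [hBcard, pow_one])
  -- `[V, K]`
  have hVK_le : ⁅V, K⁆ ≤ ⁅V, D⁆ := Subgroup.commutator_mono le_rfl hKD'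
  have hVK_ne : ⁅V, K⁆ ≠ ⊥ := by
    intro h
    rw [Subgroup.commutator_comm, Subgroup.commutator_eq_bot_iff_le_centralizer] at h
    exact hKne h
  have hDNK : D ≤ Subgroup.normalizer (K : Set G) := by
    intro d hd
    rw [Subgroup.mem_normalizer_iff]
    intro k
    constructor
    · exact hKD d hd k
    · intro h
      have := hKD d⁻¹ (D.inv_mem hd) _ h
      have e : d⁻¹ * (d * k * d⁻¹) * d⁻¹⁻¹ = k := by group
      rwa [e] at this
  have hDNVK : D ≤ Subgroup.normalizer ((⁅V, K⁆ : Subgroup G) : Set G) :=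
    (le_inf hDN hDNK).trans (Cfsg.Agent.Lib.Helper1.inf_normalizer_le_normalizer_commutator V K)
  have hVK_np : Nat.card (⁅V, K⁆ : Subgroup G) ≠ p := by
    intro hc
    have h1 : A ≤ Subgroup.centralizer ((⁅V, K⁆ : Subgroup G) : Set G) :=
      le_centralizer_of_card_prime hc hAp (hAD.trans hDNVK)
    have h2 : B ≤ Subgroup.centralizer ((⁅V, K⁆ : Subgroup G) : Set G) :=
      le_centralizer_of_card_prime hc hBp (hBD.trans hDNVK)
    have h3 : D ≤ Subgroup.centralizer ((⁅V, K⁆ : Subgroup G) : Set G) := hD ▸ sup_le h1 h2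
    have h4 : K ≤ K ⊓ Subgroup.centralizer ((⁅V, K⁆ : Subgroup G) : Set G) := le_inf le_rfl (hKD'.trans h3)
    exact hKne (h4.trans (inf_centralizer_commutator_le K V hKN hKcopV))
  have hW1 : Nat.card (⁅V, D⁆ : Subgroup G) ≤ p * p := by
    rw [hW]
    calc Nat.card (⁅V, A⁆ ⊔ ⁅V, B⁆ : Subgroup G) ≤ Nat.card (⁅V, A⁆ : Subgroup G) * Nat.card (⁅V, B⁆ : Subgroup G) :=
          card_sup_le_mul (fun h hh k hk =>
            hVc h (Cfsg.Agent.Lib.Helper1.commutator_le_of_le_normalizer hAN hh) k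
              (Cfsg.Agent.Lib.Helper1.commutator_le_of_le_normalizer hBN hk))
      _ = p * p := by rw [hVAcard, hVBcard]
  have hVKp : IsPGroup p (⁅V, K⁆ : Subgroup G) := hVp.to_le (hVK_le.trans hWV)
  obtain ⟨m, hm⟩ := IsPGroup.iff_card.mp hVKp
  have hm0 : m ≠ 0 := by
    rintro rfl
    rw [pow_zero] at hm
    exact hVK_ne (Subgroup.eq_bot_of_card_eq _ hm)
  have hm1 : m ≠ 1 := by
    rintro rfl
    rw [pow_one] at hm
    exact hVK_np hm
  have hm2 : 2 ≤ m := by omega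
  have hle1 : Nat.card (⁅V, K⁆ : Subgroup G) ≤ Nat.card (⁅V, D⁆ : Subgroup G) := Subgroup.card_le_of_le hVK_le
  have hpp : p ^ 2 ≤ p ^ m := Nat.pow_le_pow_right hp'.pos hm2
  have hWcard : Nat.card (⁅V, D⁆ : Subgroup G) = p ^ 2 := by
    apply le_antisymm
    · rw [pow_two]; exact hW1
    · rw [hm] at hle1; exact hpp.trans hle1
  have hVKeq : ⁅V, K⁆ = ⁅V, D⁆ := by
    apply Subgroup.eq_of_le_of_card_ge hVK_le
    rw [hWcard, hm]
    exact hpp
  -- `C_V(K) ≤ C(D)`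
  have hCVK : V ⊓ Subgroup.centralizer (K : Set G) ≤ Subgroup.centralizer (D : Set G) := by
    intro v hv
    refine Subgroup.mem_centralizer_iff.mpr ?_
    intro d hd
    have hvV : v ∈ V := hv.1
    have hvK : ∀ k ∈ K, k * v = v * k := Subgroup.mem_centralizer_iff.mp hv.2
    have hc1 : ⁅v, d⁆ ∈ ⁅V, D⁆ := Subgroup.commutator_mem_commutator hvV hd
    have hc2 : ⁅v, d⁆ ∈ V ⊓ Subgroup.centralizer (K : Set G) := by
      refine ⟨hWV hc1, Subgroup.mem_centralizer_iff.mpr ?_⟩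
      intro k hk
      have hk' : d⁻¹ * k * d ∈ K := by
        have := hKD d⁻¹ (D.inv_mem hd) k hk
        rwa [inv_inv] at this
      have e1 := hvK k hk
      have e2 := hvK _ hk'
      have e3 : (d⁻¹ * k * d) * v⁻¹ = v⁻¹ * (d⁻¹ * k * d) := by
        calc (d⁻¹ * k * d) * v⁻¹ = v⁻¹ * (v * (d⁻¹ * k * d)) * v⁻¹ := by group
          _ = v⁻¹ * ((d⁻¹ * k * d) * v) * v⁻¹ := by rw [e2]
          _ = v⁻¹ * (d⁻¹ * k * d) := by group
      rw [commutatorElement_def]
      calc k * (v * d * v⁻¹ * d⁻¹) = (k * v) * (d * v⁻¹ * d⁻¹) := by group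
        _ = (v * k) * (d * v⁻¹ * d⁻¹) := by rw [e1]
        _ = v * d * ((d⁻¹ * k * d) * v⁻¹) * d⁻¹ := by group
        _ = v * d * (v⁻¹ * (d⁻¹ * k * d)) * d⁻¹ := by rw [e3]
        _ = v * d * v⁻¹ * d⁻¹ * k := by group
    have hc3 : ⁅v, d⁆ ∈ (V ⊓ Subgroup.centralizer (K : Set G)) ⊓ ⁅V, K⁆ := ⟨hc2, hVKeq ▸ hc1⟩
    rw [h55.1, Subgroup.mem_bot] at hc3
    exact (commutatorElement_eq_one_iff_mul_comm.mp hc3).symm
  -- `C_D(W) = 1`
  have hDW : D ⊓ Subgroup.centralizer ((⁅V, D⁆ : Subgroup G) : Set G) = ⊥ := by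
    rw [eq_bot_iff]
    intro d hd
    rw [Subgroup.mem_bot]
    apply hHC d (hDH hd.1)
    have h1 : V ⊓ Subgroup.centralizer (K : Set G) ≤ Subgroup.centralizer ({d} : Set G) := by
      intro v hv
      rw [Subgroup.mem_centralizer_singleton_iff]
      exact (Subgroup.mem_centralizer_iff.mp (hCVK hv) d hd.1).symm
    have h2 : ⁅V, D⁆ ≤ Subgroup.centralizer ({d} : Set G) := by
      intro w hw
      rw [Subgroup.mem_centralizer_singleton_iff]
      exact (Subgroup.mem_centralizer_iff.mp hd.2 w hw)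
    have h3 : V ≤ Subgroup.centralizer ({d} : Set G) := by
      calc V = (V ⊓ Subgroup.centralizer (K : Set G)) ⊔ ⁅V, K⁆ := h55.2.symm
        _ ≤ _ := sup_le h1 (hVKeq ▸ h2)
    refine Subgroup.mem_centralizer_iff.mpr ?_
    intro v hv
    have := h3 hv
    rw [Subgroup.mem_centralizer_singleton_iff] at this
    exact this
  -- `D = A K`
  have hAK : A ⊔ K = D := by
    apply le_antisymm (sup_le hAD hKD')
    rw [hD]
    refine sup_le le_sup_left ?_
    intro g hg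
    obtain ⟨a', ha', rfl⟩ := (hBmem g).mp hg
    have e : x * a' * x⁻¹ = a' * (a'⁻¹ * (x * a' * x⁻¹)) := by group
    rw [e]
    exact (A ⊔ K).mul_mem (Subgroup.mem_sup_left ha') (Subgroup.mem_sup_right (hcomQ a' ha'))
  have hAB : A ≠ B := by
    intro h
    have hDA : D = A := by rw [hD, ← h, sup_idem]
    have h1 : a⁻¹ * (x * a * x⁻¹) ∈ A := hDA ▸ hKD' hk₀K
    have h2 : (a⁻¹ * (x * a * x⁻¹)) ^ p = 1 := by
      have h0 : (⟨_, h1⟩ : A) ^ Nat.card A = 1 := pow_card_eq_one'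
      have h00 := congrArg Subtype.val h0
      rw [Subgroup.coe_pow, Subgroup.coe_one, hAcard] at h00
      exact h00
    exact hk₀1 (eq_one_of_pow_of_coprime K hk₀K hKcop h2)
  exact ⟨hWcard, hVKeq, hDW, hVKeq ▸ h55.1, hVKeq ▸ h55.2, hCVK, hAK, hAB, hW, hKD, hKcop, hBcard⟩

/-- a subgroup `D` acting faithfully on `W = [V, D]` of order `p²` and generated by two distinct subgroups of
order `p` is `SL₂(p)` -/
theorem nonempty_mulEquiv_SL2_of_subgroups (W D A B : Subgroup G) (hDW : D ≤ Subgroup.normalizer (W : Set G))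
    (hWc : ∀ v ∈ W, ∀ w ∈ W, v * w = w * v) (hWp : ∀ w ∈ W, w ^ p = 1) (hWcard : Nat.card W = p ^ 2)
    (hfaith : D ⊓ Subgroup.centralizer (W : Set G) = ⊥) (hAcard : Nat.card A = p) (hBcard : Nat.card B = p)
    (hAB : A ≠ B) (hD : D = A ⊔ B) :
    Nonempty (↥D ≃* Matrix.SpecialLinearGroup (Fin 2) (ZMod p)) := by
  have hp' : p.Prime := hp.out
  have hAD : A ≤ D := hD ▸ le_sup_left
  have hBD : B ≤ D := hD ▸ le_sup_right
  let _ := conjAct W D hDW
  set θ : ↥D →* MulAut ↥W := MulDistribMulAction.toMulAut ↥D ↥W with hθ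
  have hθinj : Function.Injective θ := by
    rw [injective_iff_map_eq_one]
    intro d hd
    have h1 : (d : G) ∈ D ⊓ Subgroup.centralizer (W : Set G) := by
      refine ⟨d.2, Subgroup.mem_centralizer_iff.mpr ?_⟩
      intro w hw
      have h2 := DFunLike.congr_fun hd (⟨w, hw⟩ : ↥W)
      rw [hθ, MulDistribMulAction.toMulAut_apply, MulAut.one_apply] at h2
      have h3 := congrArg Subtype.val h2
      have h4 : (d : G) * w * (d : G)⁻¹ = w := h3
      calc w * (d : G) = ((d : G) * w * (d : G)⁻¹) * d := by rw [h4]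
        _ = d * w := by group
    rw [hfaith, Subgroup.mem_bot] at h1
    exact Subtype.ext h1
  have hcardA' : Nat.card (A.subgroupOf D) = p := by rw [card_subgroupOf_le hAD, hAcard]
  have hcardB' : Nat.card (B.subgroupOf D) = p := by rw [card_subgroupOf_le hBD, hBcard]
  apply nonempty_mulEquiv_SL2 p (W := ↥W) ?_ ?_ hWcard θ hθinj (A.subgroupOf D) (B.subgroupOf D)
    (IsPGroup.of_card (n := 1) (by rw [hcardA', pow_one])) (IsPGroup.of_card (n := 1) (by rw [hcardB', pow_one]))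
  · intro h
    rw [h, Subgroup.card_bot] at hcardA'
    exact hp'.one_lt.ne hcardA'
  · intro h
    rw [h, Subgroup.card_bot] at hcardB'
    exact hp'.one_lt.ne hcardB'
  · intro h
    apply hAB
    have h1 := congrArg (Subgroup.map D.subtype) h
    rwa [Subgroup.subgroupOf_map_subtype, Subgroup.subgroupOf_map_subtype, inf_eq_left.mpr hAD,
      inf_eq_left.mpr hBD] at h1
  · rw [← Subgroup.subgroupOf_sup hAD hBD, ← hD, Subgroup.subgroupOf_self]
  · intro v w
    exact Subtype.ext (hWc v.1 v.2 w.1 w.2)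
  · intro w
    apply Subtype.ext
    rw [Subgroup.coe_pow, Subgroup.coe_one]
    exact hWp w.1 w.2

/-- **KS 9.3.6** (= S0613) -/
theorem conj_pair_SL2 (V H : Subgroup G) (hV : Cfsg.IsElementaryAbelian p V)
    (hHV : H ≤ Subgroup.normalizer (V : Set G)) (hf : H ⊓ Subgroup.centralizer (V : Set G) = ⊥)
    (hS1 : Subgroup.centralizer (Cfsg.pPrimeCore p ↥H : Set ↥H) ≤ Cfsg.pPrimeCore p ↥H)
    (A : Subgroup G) (hAH : A ≤ H) (hA : Cfsg.IsBestOffenderOn p V A) (hAV : ⁅V, A⁆ ≠ ⊥)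
    (hmin : ∀ B : Subgroup G, B ≤ A → Cfsg.IsBestOffenderOn p V B → ⁅V, B⁆ ≠ ⊥ → B = A)
    (x : G) (hx : x ∈ ((Cfsg.pPrimeCore p ↥H).map H.subtype)) (hxA : x ∉ Subgroup.centralizer (A : Set G)) :
    (p = 2 ∨ p = 3) ∧
      Nonempty (↥(A ⊔ A.map (MulAut.conj x).toMonoidHom) ≃* Matrix.SpecialLinearGroup (Fin 2) (ZMod p)) := by
  have hp' : p.Prime := hp.out
  obtain ⟨hAcard, -, -⟩ := minimal_best_offender V H hV hHV hf hS1 A hAH hA hAV hmin
  set B := A.map (MulAut.conj x).toMonoidHom with hB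
  set D := A ⊔ B with hD
  set K := D ⊓ (Cfsg.pPrimeCore p ↥H).map H.subtype with hK
  obtain ⟨hWcard, -, hDW, -, -, -, hAK, hAB, -, hKD, hKcop, hBcard⟩ :=
    conj_pair_structure V H hV hHV hf hS1 A hAH hA hAV hmin x hx hxA B D K hB hD hK
  have hAD : A ≤ D := le_sup_left
  have hKD' : K ≤ D := inf_le_left
  have hDH : D ≤ H := by
    refine sup_le hAH ?_
    have hxH : x ∈ H := Subgroup.map_subtype_le _ hx
    rintro _ ⟨a, ha, rfl⟩
    exact H.mul_mem (H.mul_mem hxH (hAH ha)) (H.inv_mem hxH)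
  have hDN : D ≤ Subgroup.normalizer (V : Set G) := hDH.trans hHV
  have hWV : ⁅V, D⁆ ≤ V := Cfsg.Agent.Lib.Helper1.commutator_le_of_le_normalizer hDN
  have hDNW : D ≤ Subgroup.normalizer ((⁅V, D⁆ : Subgroup G) : Set G) :=
    (le_inf hDN Subgroup.le_normalizer).trans (Cfsg.Agent.Lib.Helper1.inf_normalizer_le_normalizer_commutator V D)
  have hVc : ∀ v ∈ V, ∀ w ∈ V, v * w = w * v := Cfsg.Agent.Lib.Helper4.elemAb_comm hV
  have hiso : Nonempty (↥D ≃* Matrix.SpecialLinearGroup (Fin 2) (ZMod p)) :=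
    nonempty_mulEquiv_SL2_of_subgroups ⁅V, D⁆ D A B hDNW (fun v hv w hw => hVc v (hWV hv) w (hWV hw))
      (fun w hw => hV.2 w (hWV hw)) hWcard hDW hAcard hBcard hAB hD
  refine ⟨?_, hiso⟩
  obtain ⟨φ⟩ := hiso
  -- the normal `p`-complement
  have hNn : (K.subgroupOf D).Normal := by
    constructor
    intro k hk d
    rw [Subgroup.mem_subgroupOf] at hk ⊢
    exact hKD d.1 d.2 k.1 hk
  set K' := (K.subgroupOf D).map φ.toMonoidHom with hK'
  have hK'n : K'.Normal := hNn.map φ.toMonoidHom φ.surjective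
  have hK'card : (Nat.card K').Coprime p := by
    have h1 : Nat.card K' = Nat.card (K.subgroupOf D) :=
      (Nat.card_congr (Subgroup.equivMapOfInjective _ _ φ.injective).toEquiv).symm
    rw [h1, card_subgroupOf_le hKD']
    exact hKcop
  have hpowD : ∀ d : ↥D, d ^ p ∈ K.subgroupOf D := by
    intro d
    have hsup : (A.subgroupOf D) ⊔ (K.subgroupOf D) = ⊤ := by
      rw [← Subgroup.subgroupOf_sup hAD hKD', hAK, Subgroup.subgroupOf_self]
    have hd' : d ∈ (A.subgroupOf D) ⊔ (K.subgroupOf D) := hsup ▸ Subgroup.mem_top d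
    rw [Subgroup.mem_sup_of_normal_right] at hd'
    obtain ⟨y, hy, z, hz, rfl⟩ := hd'
    have hyp : y ^ p = 1 := by
      have h0 : (⟨y, hy⟩ : A.subgroupOf D) ^ Nat.card (A.subgroupOf D) = 1 := pow_card_eq_one'
      have h00 := congrArg Subtype.val h0
      rw [Subgroup.coe_pow, Subgroup.coe_one, card_subgroupOf_le hAD, hAcard] at h00
      exact h00
    rw [← QuotientGroup.eq_one_iff, QuotientGroup.mk_pow, QuotientGroup.mk_mul,
      (QuotientGroup.eq_one_iff z).mpr hz, mul_one, ← QuotientGroup.mk_pow, hyp, QuotientGroup.mk_one]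
  have hpow : ∀ g : Matrix.SpecialLinearGroup (Fin 2) (ZMod p), g ^ p ∈ K' := by
    intro g
    obtain ⟨d, rfl⟩ := φ.surjective g
    exact ⟨d ^ p, hpowD d, by simp⟩
  exact SL2_no_normal_p_complement p K' hK'card hpow

end setting

end Cfsg.Agent.Lib.Helper8.FFOff
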