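import Mathlib
import Cfsg.Agent.Lib.Helper8.FFOffC
import Cfsg.Agent.Lib.Helper1.CoprimeAbelian
import Cfsg.Agent.S0027

/-!
# KS 9.3.7: `[O_{p'}(H), A] A ≅ SL₂(p)` for a minimal best offender `A` (helper8 library)
-/

set_option autoImplicit false
open Subgroup
open scoped Pointwise commutatorElement

namespace Cfsg.Agent.Lib.Helper8.FFOff

open Cfsg.Agent.Lib.Helper8.ThTwo

section conj
variable {G : Type*} [Group G]

/-- conjugation by `h` as a monoid hom -/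
abbrev cj (h : G) : G →* G := (MulAut.conj h).toMonoidHom

theorem cj_apply (h g : G) : cj h g = h * g * h⁻¹ := rfl

theorem mem_map_cj (h : G) (X : Subgroup G) (g : G) : g ∈ X.map (cj h) ↔ ∃ a ∈ X, h * a * h⁻¹ = g := by
  rw [Subgroup.mem_map]; rfl

theorem mem_map_cj' (h : G) (X : Subgroup G) (g : G) : g ∈ X.map (cj h) ↔ h⁻¹ * g * h ∈ X := by
  rw [mem_map_cj]
  constructor
  · rintro ⟨a, ha, rfl⟩
    have e : h⁻¹ * (h * a * h⁻¹) * h = a := by group
    rw [e]; exact ha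
  · intro hg
    exact ⟨_, hg, by group⟩

theorem map_cj_map_cj (h k : G) (X : Subgroup G) : (X.map (cj k)).map (cj h) = X.map (cj (h * k)) := by
  rw [Subgroup.map_map]
  congr 1
  ext g
  simp only [MonoidHom.comp_apply, cj_apply]
  group

theorem map_cj_one (X : Subgroup G) : X.map (cj (1 : G)) = X := by
  ext g
  rw [mem_map_cj']
  simp

theorem map_cj_inv_cancel (h : G) (X : Subgroup G) : (X.map (cj h⁻¹)).map (cj h) = X := by
  rw [map_cj_map_cj, mul_inv_cancel, map_cj_one]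

theorem map_cj_cancel_inv (h : G) (X : Subgroup G) : (X.map (cj h)).map (cj h⁻¹) = X := by
  rw [map_cj_map_cj, inv_mul_cancel, map_cj_one]

theorem card_map_cj (h : G) (X : Subgroup G) : Nat.card (X.map (cj h)) = Nat.card X :=
  (Nat.card_congr (Subgroup.equivMapOfInjective _ _ (MulAut.conj h).injective).toEquiv).symm

theorem map_cj_eq_self_of_mem_normalizer {h : G} {V : Subgroup G} (hh : h ∈ Subgroup.normalizer (V : Set G)) :
    V.map (cj h) = V := by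
  ext g
  rw [mem_map_cj']
  have := (Subgroup.mem_normalizer_iff.mp hh (h⁻¹ * g * h))
  rw [this]
  have e : h * (h⁻¹ * g * h) * h⁻¹ = g := by group
  rw [e]

theorem map_cj_eq_self_of_mem_centralizer {h : G} {X : Subgroup G} (hh : h ∈ Subgroup.centralizer (X : Set G)) :
    X.map (cj h) = X := by
  ext g
  rw [mem_map_cj]
  constructor
  · rintro ⟨a, ha, rfl⟩
    have : a * h = h * a := Subgroup.mem_centralizer_iff.mp hh a ha
    have e : h * a * h⁻¹ = a := by rw [← this]; group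
    rw [e]; exact ha
  · intro hg
    refine ⟨g, hg, ?_⟩
    have : g * h = h * g := Subgroup.mem_centralizer_iff.mp hh g hg
    rw [← this]; group

theorem map_cj_commutator (h : G) (X Y : Subgroup G) : (⁅X, Y⁆).map (cj h) = ⁅X.map (cj h), Y.map (cj h)⁆ :=
  Subgroup.map_commutator X Y (cj h)

theorem map_cj_centralizer (h : G) (X : Subgroup G) :
    (Subgroup.centralizer (X : Set G)).map (cj h) = Subgroup.centralizer ((X.map (cj h) : Subgroup G) : Set G) := by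
  ext g
  rw [mem_map_cj', Subgroup.mem_centralizer_iff, Subgroup.mem_centralizer_iff]
  constructor
  · intro hg y hy
    obtain ⟨x, hx, rfl⟩ := (mem_map_cj h X y).mp hy
    have := hg x hx
    calc h * x * h⁻¹ * g = h * (x * (h⁻¹ * g * h)) * h⁻¹ := by group
      _ = h * ((h⁻¹ * g * h) * x) * h⁻¹ := by rw [this]
      _ = g * (h * x * h⁻¹) := by group
  · intro hg x hx
    have := hg (h * x * h⁻¹) ((mem_map_cj h X _).mpr ⟨x, hx, rfl⟩)
    calc x * (h⁻¹ * g * h) = h⁻¹ * ((h * x * h⁻¹) * g) * h := by group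
      _ = h⁻¹ * (g * (h * x * h⁻¹)) * h := by rw [this]
      _ = h⁻¹ * g * h * x := by group

theorem map_cj_inf (h : G) (X Y : Subgroup G) : (X ⊓ Y).map (cj h) = X.map (cj h) ⊓ Y.map (cj h) :=
  Subgroup.map_inf X Y (cj h) (MulAut.conj h).injective

theorem map_cj_sup (h : G) (X Y : Subgroup G) : (X ⊔ Y).map (cj h) = X.map (cj h) ⊔ Y.map (cj h) :=
  Subgroup.map_sup X Y (cj h)

theorem map_cj_le_iff (h : G) (X Y : Subgroup G) : X.map (cj h) ≤ Y.map (cj h) ↔ X ≤ Y :=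
  Subgroup.map_le_map_iff_of_injective (MulAut.conj h).injective

theorem map_cj_injective (h : G) : Function.Injective (Subgroup.map (cj h)) :=
  Subgroup.map_injective (MulAut.conj h).injective

/-- best offenders are preserved by conjugation with elements normalizing `V` -/
theorem isBestOffenderOn_map_cj {p : ℕ} {V A : Subgroup G} {h : G} (hh : h ∈ Subgroup.normalizer (V : Set G))
    (hA : Cfsg.IsBestOffenderOn p V A) : Cfsg.IsBestOffenderOn p V (A.map (cj h)) := by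
  have hV : V.map (cj h) = V := map_cj_eq_self_of_mem_normalizer hh
  have hfix : ∀ X : Subgroup G, Nat.card ↥(V ⊓ Subgroup.centralizer ((X.map (cj h) : Subgroup G) : Set G)) =
      Nat.card ↥(V ⊓ Subgroup.centralizer (X : Set G)) := by
    intro X
    rw [← card_map_cj h (V ⊓ Subgroup.centralizer (X : Set G)), map_cj_inf, hV, map_cj_centralizer]
  have hCV : (Subgroup.centralizer (V : Set G)).map (cj h) = Subgroup.centralizer (V : Set G) := by
    rw [map_cj_centralizer, hV]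
  refine ⟨?_, ?_, ?_⟩
  · intro B' hB'
    have hB0 : B'.map (cj h⁻¹) ≤ A := by
      rw [← map_cj_cancel_inv h A]
      exact Subgroup.map_mono hB'
    have h1 := hA.1 _ hB0
    rw [← hfix (B'.map (cj h⁻¹)), map_cj_inv_cancel, card_map_cj] at h1
    rw [hfix A, card_map_cj]
    exact h1
  · rw [← map_cj_commutator, ← hCV]
    exact Subgroup.map_mono hA.2.1
  · intro a' ha'
    obtain ⟨a, ha, rfl⟩ := (mem_map_cj h A a').mp ha'
    rw [← hCV, mem_map_cj]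
    refine ⟨a ^ p, hA.2.2 a ha, ?_⟩
    rw [← cj_apply, ← cj_apply, map_pow]

/-- minimal best offenders acting nontrivially -/
def IsMinBest (p : ℕ) (V A : Subgroup G) : Prop :=
  Cfsg.IsBestOffenderOn p V A ∧ ⁅V, A⁆ ≠ ⊥ ∧
    ∀ B : Subgroup G, B ≤ A → Cfsg.IsBestOffenderOn p V B → ⁅V, B⁆ ≠ ⊥ → B = A

theorem commutator_map_cj {V : Subgroup G} {h : G} (hh : h ∈ Subgroup.normalizer (V : Set G)) (A : Subgroup G) :
    ⁅V, A.map (cj h)⁆ = (⁅V, A⁆).map (cj h) := by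
  rw [map_cj_commutator, map_cj_eq_self_of_mem_normalizer hh]

theorem IsMinBest.map_cj {p : ℕ} {V A : Subgroup G} {h : G} (hh : h ∈ Subgroup.normalizer (V : Set G))
    (hA : IsMinBest p V A) : IsMinBest p V (A.map (cj h)) := by
  have hh' : h⁻¹ ∈ Subgroup.normalizer (V : Set G) := Subgroup.inv_mem _ hh
  refine ⟨isBestOffenderOn_map_cj hh hA.1, ?_, ?_⟩
  · rw [commutator_map_cj hh]
    intro h0
    apply hA.2.1
    apply map_cj_injective h
    rw [h0, Subgroup.map_bot]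
  · intro B' hB' hbest hne
    have hB0 : B'.map (cj h⁻¹) ≤ A := by
      rw [← map_cj_cancel_inv h A]
      exact Subgroup.map_mono hB'
    have h1 := hA.2.2 _ hB0 (isBestOffenderOn_map_cj hh' hbest) (by
      rw [commutator_map_cj hh']
      intro h0
      apply hne
      apply map_cj_injective h⁻¹
      rw [h0, Subgroup.map_bot])
    rw [← h1, map_cj_inv_cancel]

end conj

section setting
variable {G : Type*} [Group G] [Finite G] {p : ℕ} [hp : Fact p.Prime]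

/-- the standing hypotheses of KS 9.3 -/
structure FFSetting (p : ℕ) (V H : Subgroup G) : Prop where
  hV : Cfsg.IsElementaryAbelian p V
  hHV : H ≤ Subgroup.normalizer (V : Set G)
  hf : H ⊓ Subgroup.centralizer (V : Set G) = ⊥
  hS1 : Subgroup.centralizer (Cfsg.pPrimeCore p ↥H : Set ↥H) ≤ Cfsg.pPrimeCore p ↥H

/-- `O_{p'}(H)` as a subgroup of `G` -/
abbrev QG (p : ℕ) (H : Subgroup G) : Subgroup G := (Cfsg.pPrimeCore p ↥H).map H.subtype

omit [Finite G] hp in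
theorem QG_le (H : Subgroup G) : QG p H ≤ H := Subgroup.map_subtype_le _

omit [Finite G] hp in
theorem QG_conj_mem (H : Subgroup G) {h q : G} (hh : h ∈ H) (hq : q ∈ QG p H) : h * q * h⁻¹ ∈ QG p H := by
  have hQn : (Cfsg.pPrimeCore p ↥H).Normal := Cfsg.Agent.Lib.Helper1.pPrimeCore_normal p ↥H
  obtain ⟨q', hq', rfl⟩ := hq
  exact ⟨⟨h, hh⟩ * q' * ⟨h, hh⟩⁻¹, hQn.conj_mem q' hq' ⟨h, hh⟩, rfl⟩

omit hp in
theorem QG_coprime (H : Subgroup G) : (Nat.card (QG p H)).Coprime p := by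
  have hQcop : (Nat.card (Cfsg.pPrimeCore p ↥H)).Coprime p := Cfsg.Agent.Lib.Helper12.pPrimeCore_coprime p
  have : Nat.card (QG p H) = Nat.card (Cfsg.pPrimeCore p ↥H) :=
    (Nat.card_congr (Subgroup.equivMapOfInjective _ _ H.subtype_injective).toEquiv).symm
  rw [this]; exact hQcop

omit [Finite G] hp in
theorem map_cj_le_of_mem {H : Subgroup G} {h : G} (hh : h ∈ H) {A : Subgroup G} (hAH : A ≤ H) :
    A.map (cj h) ≤ H := by
  intro g hg
  obtain ⟨a, ha, rfl⟩ := (mem_map_cj h A g).mp hg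
  exact H.mul_mem (H.mul_mem hh (hAH ha)) (H.inv_mem hh)

/-- facts about the pair `A`, `A^q` (`q ∈ O_{p'}(H)`, `A^q ≠ A`) -/
theorem pair_facts {V H : Subgroup G} (S : FFSetting p V H) {A : Subgroup G} (hAH : A ≤ H) (hA : IsMinBest p V A)
    {q : G} (hq : q ∈ QG p H) (hne : A.map (cj q) ≠ A) (B D K : Subgroup G) (hB : B = A.map (cj q))
    (hD : D = A ⊔ B) (hK : K = D ⊓ QG p H) :
    Nat.card (⁅V, D⁆ : Subgroup G) = p ^ 2 ∧ ⁅V, D⁆ = ⁅V, A⁆ ⊔ ⁅V, B⁆ ∧
      D ⊓ Subgroup.centralizer ((⁅V, D⁆ : Subgroup G) : Set G) = ⊥ ∧ A ⊔ K = D ∧ B ⊔ K = D ∧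
      (∀ d ∈ D, ∀ k ∈ K, d * k * d⁻¹ ∈ K) ∧ ⁅V, K⁆ = ⁅V, D⁆ ∧
      (V ⊓ Subgroup.centralizer (K : Set G)) ⊓ ⁅V, D⁆ = ⊥ ∧
      (V ⊓ Subgroup.centralizer (K : Set G)) ⊔ ⁅V, D⁆ = V ∧
      V ⊓ Subgroup.centralizer (K : Set G) ≤ Subgroup.centralizer (D : Set G) ∧
      (Nat.card K).Coprime p ∧ Nat.card A = p ∧ Nat.card B = p := by
  have hqA : q ∉ Subgroup.centralizer (A : Set G) := fun h => hne (map_cj_eq_self_of_mem_centralizer h)
  obtain ⟨h1, h2, h3, h4, h5, h6, h7, -, h9, h10, h11, h12⟩ :=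
    conj_pair_structure V H S.hV S.hHV S.hf S.hS1 A hAH hA.1 hA.2.1 hA.2.2 q hq hqA B D K hB hD hK
  have hqH : q ∈ H := QG_le H hq
  have hqN : q ∈ Subgroup.normalizer (V : Set G) := S.hHV hqH
  have hBH : B ≤ H := hB ▸ map_cj_le_of_mem hqH hAH
  have hBmin : IsMinBest p V B := hB ▸ hA.map_cj hqN
  have hBA : B.map (cj q⁻¹) = A := by rw [hB, map_cj_cancel_inv]
  have hqB : q⁻¹ ∉ Subgroup.centralizer (B : Set G) := by
    intro h
    have := map_cj_eq_self_of_mem_centralizer h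
    rw [hBA] at this
    exact hne (hB ▸ this.symm)
  obtain ⟨-, -, -, -, -, -, h7', -⟩ :=
    conj_pair_structure V H S.hV S.hHV S.hf S.hS1 B hBH hBmin.1 hBmin.2.1 hBmin.2.2 q⁻¹
      (Subgroup.inv_mem _ hq) hqB A D K hBA.symm (by rw [hD, sup_comm]) hK
  obtain ⟨hAcard, -, -⟩ := minimal_best_offender V H S.hV S.hHV S.hf S.hS1 A hAH hA.1 hA.2.1 hA.2.2
  exact ⟨h1, h9, h3, h7, h7', h10, h2, h4, h5, h6, h11, hAcard, h12⟩

omit [Finite G] in
theorem mem_zpowers_of_card_prime {U : Subgroup G} (hU : Nat.card U = p) {u : G} (hu : u ∈ U) (hu1 : u ≠ 1) :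
    ∀ g ∈ U, g ∈ Subgroup.zpowers u := by
  intro g hg
  have h1 : Subgroup.zpowers (⟨u, hu⟩ : U) = ⊤ :=
    zpowers_eq_top_of_prime_card hU (fun h => hu1 (congrArg Subtype.val h))
  have h2 : (⟨g, hg⟩ : U) ∈ Subgroup.zpowers (⟨u, hu⟩ : U) := h1 ▸ Subgroup.mem_top _
  obtain ⟨k, hk⟩ := Subgroup.mem_zpowers_iff.mp h2
  refine Subgroup.mem_zpowers_iff.mpr ⟨k, ?_⟩
  have := congrArg Subtype.val hk
  rwa [Subgroup.coe_zpow] at this

theorem inf_eq_bot_of_card_prime {X Y : Subgroup G} (hX : Nat.card X = p) (hY : Nat.card Y = p) (hne : X ≠ Y) :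
    X ⊓ Y = ⊥ := by
  have hdvd : Nat.card (X ⊓ Y : Subgroup G) ∣ p := hX ▸ Subgroup.card_dvd_of_le inf_le_left
  rcases (Nat.dvd_prime hp.out).mp hdvd with h | h
  · exact Subgroup.eq_bot_of_card_eq _ h
  · exfalso
    have h1 : X ⊓ Y = X := Subgroup.eq_of_le_of_card_ge inf_le_left (by rw [h, hX])
    have h2 : X ⊓ Y = Y := Subgroup.eq_of_le_of_card_ge inf_le_right (by rw [h, hY])
    exact hne (h1.symm.trans h2)

omit [Finite G] hp in
theorem le_centralizer_sup {A X Y : Subgroup G} (hX : A ≤ Subgroup.centralizer (X : Set G))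
    (hY : A ≤ Subgroup.centralizer (Y : Set G)) : A ≤ Subgroup.centralizer ((X ⊔ Y : Subgroup G) : Set G) := by
  rw [Subgroup.le_centralizer_iff] at hX hY ⊢
  exact sup_le hX hY

omit [Finite G] hp in
theorem conj_pow_eq {x y c : G} (h : x * y * x⁻¹ = c * y) (hc : x * c = c * x) (k : ℕ) :
    x ^ k * y * (x ^ k)⁻¹ = c ^ k * y := by
  induction k with
  | zero => simp
  | succ k ih =>
    have h1 : x * c ^ k * x⁻¹ = c ^ k := by
      have : Commute x (c ^ k) := Commute.pow_right hc k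
      rw [this.eq]; group
    calc x ^ (k + 1) * y * (x ^ (k + 1))⁻¹ = x * (x ^ k * y * (x ^ k)⁻¹) * x⁻¹ := by
          rw [pow_succ']; group
      _ = x * (c ^ k * y) * x⁻¹ := by rw [ih]
      _ = (x * c ^ k * x⁻¹) * (x * y * x⁻¹) := by group
      _ = c ^ k * (c * y) := by rw [h1, h]
      _ = c ^ (k + 1) * y := by rw [pow_succ]; group

theorem IsMinBest.cards {V H : Subgroup G} (S : FFSetting p V H) {A : Subgroup G} (hAH : A ≤ H)
    (hA : IsMinBest p V A) :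
    Nat.card A = p ∧ Nat.card ↥(⁅V, A⁆) = p ∧ ((V ⊓ Subgroup.centralizer (A : Set G))).relIndex V = p :=
  minimal_best_offender V H S.hV S.hHV S.hf S.hS1 A hAH hA.1 hA.2.1 hA.2.2

theorem IsMinBest.le_centralizer_commutator {V H : Subgroup G} (S : FFSetting p V H) {A : Subgroup G}
    (hAH : A ≤ H) (hA : IsMinBest p V A) : A ≤ Subgroup.centralizer ((⁅V, A⁆ : Subgroup G) : Set G) := by
  obtain ⟨h1, h2, -⟩ := hA.cards S hAH
  refine le_centralizer_of_card_prime h2 (IsPGroup.of_card (n := 1) (by rw [h1, pow_one])) ?_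
  exact (le_inf (hAH.trans S.hHV) Subgroup.le_normalizer).trans
    (Cfsg.Agent.Lib.Helper1.inf_normalizer_le_normalizer_commutator V A)

omit [Finite G] hp in
theorem le_normalizer_of_conj_mem {D K : Subgroup G} (h : ∀ d ∈ D, ∀ k ∈ K, d * k * d⁻¹ ∈ K) :
    D ≤ Subgroup.normalizer (K : Set G) := by
  intro d hd
  rw [Subgroup.mem_normalizer_iff]
  intro k
  constructor
  · exact h d hd k
  · intro hk
    have := h d⁻¹ (D.inv_mem hd) _ hk
    have e : d⁻¹ * (d * k * d⁻¹) * d⁻¹⁻¹ = k := by group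
    rwa [e] at this

/-- **the line lemma**: all `O_{p'}(H)`-conjugates of `[V, A]` lie in `[V, A] [V, A^y]` -/
theorem center_le_of_ne {V H : Subgroup G} (S : FFSetting p V H) {A : Subgroup G} (hAH : A ≤ H)
    (hA : IsMinBest p V A) {y₁ y₂ : G} (h₁ : y₁ ∈ QG p H) (h₂ : y₂ ∈ QG p H)
    (hne : ⁅V, A.map (cj y₁)⁆ ≠ ⁅V, A⁆) : ⁅V, A.map (cj y₂)⁆ ≤ ⁅V, A⁆ ⊔ ⁅V, A.map (cj y₁)⁆ := by
  have hp' : p.Prime := hp.out
  by_contra hcon
  have hVc : ∀ v ∈ V, ∀ w ∈ V, v * w = w * v := Cfsg.Agent.Lib.Helper4.elemAb_comm S.hV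
  have hy₁H : y₁ ∈ H := QG_le H h₁
  have hy₂H : y₂ ∈ H := QG_le H h₂
  have hy₁N := S.hHV hy₁H
  have hy₂N := S.hHV hy₂H
  set A₁ := A.map (cj y₁) with hA₁def
  set A₂ := A.map (cj y₂) with hA₂def
  have hA₁H : A₁ ≤ H := map_cj_le_of_mem hy₁H hAH
  have hA₂H : A₂ ≤ H := map_cj_le_of_mem hy₂H hAH
  have hA₁ : IsMinBest p V A₁ := hA.map_cj hy₁N
  have hA₂ : IsMinBest p V A₂ := hA.map_cj hy₂N
  obtain ⟨hAc, hZc, hidx⟩ := hA.cards S hAH
  obtain ⟨hA₁c, hZ₁c, -⟩ := hA₁.cards S hA₁H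
  obtain ⟨hA₂c, hZ₂c, -⟩ := hA₂.cards S hA₂H
  have hA₁A : A₁ ≠ A := fun h => hne (by rw [h])
  have hZ₂₁ : ⁅V, A₂⁆ ≠ ⁅V, A₁⁆ := fun h => hcon (h ▸ le_sup_right)
  have hA₂₁ : A₂ ≠ A₁ := fun h => hZ₂₁ (by rw [h])
  -- pair `(A, A₁)`
  obtain ⟨hc01, hW01, hf01, -⟩ := pair_facts S hAH hA h₁ hA₁A A₁ (A ⊔ A₁) ((A ⊔ A₁) ⊓ QG p H) rfl rfl rfl
  -- pair `(A₁, A₂)`
  have hx' : y₂ * y₁⁻¹ ∈ QG p H := (QG p H).mul_mem h₂ ((QG p H).inv_mem h₁)
  have hA₁₂ : A₁.map (cj (y₂ * y₁⁻¹)) = A₂ := by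
    rw [hA₁def, map_cj_map_cj, inv_mul_cancel_right]
  obtain ⟨hc12, hW12, hf12, -, hA₂K, hKn, -⟩ :=
    pair_facts S hA₁H hA₁ hx' (by rw [hA₁₂]; exact hA₂₁) A₂ (A₁ ⊔ A₂) ((A₁ ⊔ A₂) ⊓ QG p H) hA₁₂.symm rfl rfl
  set K := (A₁ ⊔ A₂) ⊓ QG p H with hKdef
  have hAZ : A ≤ Subgroup.centralizer ((⁅V, A⁆ : Subgroup G) : Set G) := hA.le_centralizer_commutator S hAH
  have hA₁Z : A₁ ≤ Subgroup.centralizer ((⁅V, A₁⁆ : Subgroup G) : Set G) := hA₁.le_centralizer_commutator S hA₁H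
  have hA₂Z : A₂ ≤ Subgroup.centralizer ((⁅V, A₂⁆ : Subgroup G) : Set G) := hA₂.le_centralizer_commutator S hA₂H
  have hAne : A ≠ ⊥ := by
    intro h
    rw [h, Subgroup.card_bot] at hAc
    exact hp'.one_lt.ne hAc
  have hZ₁V : ⁅V, A₁⁆ ≤ V := Cfsg.Agent.Lib.Helper1.commutator_le_of_le_normalizer (hA₁H.trans S.hHV)
  have hZ₂V : ⁅V, A₂⁆ ≤ V := Cfsg.Agent.Lib.Helper1.commutator_le_of_le_normalizer (hA₂H.trans S.hHV)
  -- a general contradiction: `A` cannot centralize the centre of a different conjugate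
  have key : ∀ y ∈ QG p H, ⁅V, A.map (cj y)⁆ ≠ ⁅V, A⁆ →
      ¬ ⁅V, A.map (cj y)⁆ ≤ V ⊓ Subgroup.centralizer (A : Set G) := by
    intro y hy hney hle
    have hne' : A.map (cj y) ≠ A := fun h => hney (by rw [h])
    obtain ⟨-, hW, hff, -⟩ := pair_facts S hAH hA hy hne' (A.map (cj y)) (A ⊔ A.map (cj y))
      ((A ⊔ A.map (cj y)) ⊓ QG p H) rfl rfl rfl
    have h1 : A ≤ Subgroup.centralizer ((⁅V, A.map (cj y)⁆ : Subgroup G) : Set G) := by
      rw [Subgroup.le_centralizer_iff]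
      exact hle.trans inf_le_right
    have h2 : A ≤ (A ⊔ A.map (cj y)) ⊓ Subgroup.centralizer ((⁅V, A ⊔ A.map (cj y)⁆ : Subgroup G) : Set G) := by
      refine le_inf le_sup_left ?_
      rw [hW]
      exact le_centralizer_sup hAZ h1
    rw [hff] at h2
    exact hAne (eq_bot_iff.mpr h2)
  set Y := V ⊓ Subgroup.centralizer (A : Set G) with hYdef
  have hZ₁Y : ¬ ⁅V, A₁⁆ ≤ Y := key y₁ h₁ hne
  -- `Y Z₁ = V`
  have hYV : Y ≤ V := inf_le_left
  have hsupV : Y ⊔ ⁅V, A₁⁆ = V := by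
    apply le_antisymm (sup_le hYV hZ₁V)
    have h1 := Subgroup.relIndex_mul_relIndex Y (Y ⊔ ⁅V, A₁⁆) V le_sup_left (sup_le hYV hZ₁V)
    rw [hidx] at h1
    have h2 : Y.relIndex (Y ⊔ ⁅V, A₁⁆) ≠ 1 := by
      intro h
      rw [Subgroup.relIndex_eq_one] at h
      exact hZ₁Y (le_sup_right.trans h)
    have h3 : (Y ⊔ ⁅V, A₁⁆).relIndex V = 1 := by
      rcases (Nat.dvd_prime hp').mp (Dvd.intro _ h1) with h | h
      · exact absurd h h2
      · rw [h] at h1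
        have : p * (Y ⊔ ⁅V, A₁⁆).relIndex V = p * 1 := by rw [h1, mul_one]
        exact Nat.eq_of_mul_eq_mul_left hp'.pos this
    exact Subgroup.relIndex_eq_one.mp h3
  -- choose `z₂`
  have hZ₂ne : (⁅V, A₂⁆ : Subgroup G) ≠ ⊥ := hA₂.2.1
  obtain ⟨⟨z₂, hz₂⟩, hz₂1⟩ : ∃ z : (⁅V, A₂⁆ : Subgroup G), z ≠ 1 :=
    (Subgroup.ne_bot_iff_exists_ne_one).mp hZ₂ne
  have hz₂1' : z₂ ≠ 1 := fun h => hz₂1 (Subtype.ext h)
  have hZ₁NY : ⁅V, A₁⁆ ≤ Subgroup.normalizer (Y : Set G) := by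
    refine le_trans ?_ (Subgroup.centralizer_le_normalizer (s := (Y : Set G)))
    intro z hz
    refine Subgroup.mem_centralizer_iff.mpr ?_
    intro y hy
    exact hVc y (hYV hy) z (hZ₁V hz)
  have hz₂mem : z₂ ∈ ((Y ⊔ ⁅V, A₁⁆ : Subgroup G) : Set G) := by
    rw [hsupV]; exact hZ₂V hz₂
  rw [Subgroup.coe_mul_of_right_le_normalizer_left Y _ hZ₁NY] at hz₂mem
  obtain ⟨y', hy', t, ht, hyt⟩ := Set.mem_mul.mp hz₂mem
  have hy'Y : y' ∈ Y := hy'
  have htZ₁ : t ∈ (⁅V, A₁⁆ : Subgroup G) := ht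
  have hy'1 : y' ≠ 1 := by
    intro h
    rw [h, one_mul] at hyt
    have : z₂ ∈ (⁅V, A₁⁆ ⊓ ⁅V, A₂⁆ : Subgroup G) := ⟨hyt ▸ htZ₁, hz₂⟩
    rw [inf_eq_bot_of_card_prime hZ₁c hZ₂c hZ₂₁.symm, Subgroup.mem_bot] at this
    exact hz₂1' this
  -- the element `a₁`
  have hA₁ne : A₁ ≠ ⊥ := by
    intro h
    rw [h, Subgroup.card_bot] at hA₁c
    exact hp'.one_lt.ne hA₁c
  obtain ⟨⟨a₁, ha₁⟩, ha₁1⟩ : ∃ z : A₁, z ≠ 1 := (Subgroup.ne_bot_iff_exists_ne_one).mp hA₁ne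
  have ha₁1' : a₁ ≠ 1 := fun h => ha₁1 (Subtype.ext h)
  have hcZ₁ : ⁅a₁, z₂⁆ ∈ (⁅V, A₁⁆ : Subgroup G) := by
    rw [Subgroup.commutator_comm]
    exact Subgroup.commutator_mem_commutator ha₁ (hZ₂V hz₂)
  have hZ₂z : ∀ g ∈ (⁅V, A₂⁆ : Subgroup G), g ∈ Subgroup.zpowers z₂ := mem_zpowers_of_card_prime hZ₂c hz₂ hz₂1'
  have hc1 : ⁅a₁, z₂⁆ ≠ 1 := by
    intro h
    have hcomm : a₁ * z₂ = z₂ * a₁ := commutatorElement_eq_one_iff_mul_comm.mp h
    have h1 : a₁ ∈ Subgroup.centralizer ((⁅V, A₂⁆ : Subgroup G) : Set G) := by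
      refine Subgroup.mem_centralizer_iff.mpr ?_
      intro g hg
      obtain ⟨k, rfl⟩ := Subgroup.mem_zpowers_iff.mp (hZ₂z g hg)
      exact ((Commute.zpow_right (show Commute a₁ z₂ from hcomm) k).eq).symm
    have h2 : a₁ ∈ (A₁ ⊔ A₂) ⊓ Subgroup.centralizer ((⁅V, A₁ ⊔ A₂⁆ : Subgroup G) : Set G) := by
      refine ⟨Subgroup.mem_sup_left ha₁, ?_⟩
      rw [hW12]
      have h3 : Subgroup.zpowers a₁ ≤ Subgroup.centralizer ((⁅V, A₁⁆ ⊔ ⁅V, A₂⁆ : Subgroup G) : Set G) :=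
        le_centralizer_sup ((Subgroup.zpowers_le.mpr ha₁).trans hA₁Z) (Subgroup.zpowers_le.mpr h1)
      exact h3 (Subgroup.mem_zpowers a₁)
    rw [hf12, Subgroup.mem_bot] at h2
    exact ha₁1' h2
  have hZ₁z : ∀ g ∈ (⁅V, A₁⁆ : Subgroup G), g ∈ Subgroup.zpowers ⁅a₁, z₂⁆ :=
    mem_zpowers_of_card_prime hZ₁c hcZ₁ hc1
  obtain ⟨n, hn⟩ := (mem_powers_iff_mem_zpowers.mpr (hZ₁z t⁻¹ (Subgroup.inv_mem _ htZ₁)))
  have hn' : ⁅a₁, z₂⁆ ^ n = t⁻¹ := hn
  have hconj1 : a₁ * z₂ * a₁⁻¹ = ⁅a₁, z₂⁆ * z₂ := by rw [commutatorElement_def]; group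
  have hcc : a₁ * ⁅a₁, z₂⁆ = ⁅a₁, z₂⁆ * a₁ :=
    (Subgroup.mem_centralizer_iff.mp (hA₁Z ha₁) _ hcZ₁).symm
  have hconjn := conj_pow_eq hconj1 hcc n
  rw [hn'] at hconjn
  have htz : t⁻¹ * z₂ = y' := by
    rw [← hyt]
    have : y' * t = t * y' := hVc y' (hYV hy'Y) t (hZ₁V htZ₁)
    rw [this]; group
  rw [htz] at hconjn
  -- decompose `a₁ ^ n = k * a₂'`
  have han : a₁ ^ n ∈ ((K ⊔ A₂ : Subgroup G) : Set G) := by
    rw [sup_comm, hA₂K]
    exact Subgroup.mem_sup_left (A₁.pow_mem ha₁ n)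
  have hA₂NK : A₂ ≤ Subgroup.normalizer (K : Set G) :=
    le_sup_right.trans (le_normalizer_of_conj_mem hKn)
  rw [Subgroup.coe_mul_of_right_le_normalizer_left K A₂ hA₂NK] at han
  obtain ⟨k, hk, a₂', ha₂', hka⟩ := Set.mem_mul.mp han
  have hkK : k ∈ K := hk
  have ha₂'' : a₂' ∈ A₂ := ha₂'
  have hkQ : k ∈ QG p H := hkK.2
  have hkH : k ∈ H := QG_le H hkQ
  have hkN := S.hHV hkH
  -- `y' = k z₂ k⁻¹`
  have hy'k : y' = k * z₂ * k⁻¹ := by
    rw [← hconjn, ← hka]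
    have : a₂' * z₂ = z₂ * a₂' := (Subgroup.mem_centralizer_iff.mp (hA₂Z ha₂'') z₂ hz₂).symm
    calc k * a₂' * z₂ * (k * a₂')⁻¹ = k * (a₂' * z₂) * a₂'⁻¹ * k⁻¹ := by group
      _ = k * (z₂ * a₂') * a₂'⁻¹ * k⁻¹ := by rw [this]
      _ = k * z₂ * k⁻¹ := by group
  -- the conjugate `A* = A^{k y₂}`
  have hystar : k * y₂ ∈ QG p H := (QG p H).mul_mem hkQ h₂
  have hAstar : A.map (cj (k * y₂)) = A₂.map (cj k) := by rw [hA₂def, map_cj_map_cj]
  have hZstar : ⁅V, A.map (cj (k * y₂))⁆ = (⁅V, A₂⁆).map (cj k) := by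
    rw [hAstar, commutator_map_cj hkN]
  have hy'Zs : y' ∈ (⁅V, A.map (cj (k * y₂))⁆ : Subgroup G) := by
    rw [hZstar, mem_map_cj]
    exact ⟨z₂, hz₂, hy'k.symm⟩
  have hAsH : A.map (cj (k * y₂)) ≤ H := map_cj_le_of_mem (QG_le H hystar) hAH
  have hAs : IsMinBest p V (A.map (cj (k * y₂))) := hA.map_cj (S.hHV (QG_le H hystar))
  obtain ⟨-, hZsc, -⟩ := hAs.cards S hAsH
  have hZsz := mem_zpowers_of_card_prime hZsc hy'Zs hy'1
  have hZsY : ⁅V, A.map (cj (k * y₂))⁆ ≤ Y := by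
    intro g hg
    exact (Subgroup.zpowers_le.mpr hy'Y) (hZsz g hg)
  have hZsne : ⁅V, A.map (cj (k * y₂))⁆ ≠ ⁅V, A⁆ := by
    intro h
    apply hcon
    have hy'Z : y' ∈ (⁅V, A⁆ : Subgroup G) := h ▸ hy'Zs
    have hZz := mem_zpowers_of_card_prime hZc hy'Z hy'1
    have hy'W : y' ∈ (⁅V, A₁⁆ ⊔ ⁅V, A₂⁆ : Subgroup G) := by
      rw [← htz]
      exact Subgroup.mul_mem _ (Subgroup.mem_sup_left (Subgroup.inv_mem _ htZ₁)) (Subgroup.mem_sup_right hz₂)
    have hZW : ⁅V, A⁆ ≤ ⁅V, A₁⁆ ⊔ ⁅V, A₂⁆ := by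
      intro g hg
      exact (Subgroup.zpowers_le.mpr hy'W) (hZz g hg)
    have hle : ⁅V, A⁆ ⊔ ⁅V, A₁⁆ ≤ ⁅V, A₁⁆ ⊔ ⁅V, A₂⁆ := sup_le hZW le_sup_left
    have heq : ⁅V, A⁆ ⊔ ⁅V, A₁⁆ = ⁅V, A₁⁆ ⊔ ⁅V, A₂⁆ := by
      apply Subgroup.eq_of_le_of_card_ge hle
      rw [← hW12, ← hW01, hc01, hc12]
    rw [heq]
    exact le_sup_right
  exact key (k * y₂) hystar hZsne hZsY

/-- elements of `H` stabilizing the chain `1 ≤ W ≤ V` (with `W` invariant under `O_{p'}(H)`) are trivial -/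
theorem eq_one_of_stab_chain {V H : Subgroup G} (S : FFSetting p V H) (W : Subgroup G) (hWV : W ≤ V)
    (hQW : QG p H ≤ Subgroup.normalizer (W : Set G)) {e : G} (heH : e ∈ H)
    (heW : e ∈ Subgroup.centralizer (W : Set G)) (heV : e ∈ trivStab V W hWV) : e = 1 := by
  have hp' : p.Prime := hp.out
  have hHC : ∀ g : G, g ∈ H → g ∈ Subgroup.centralizer (V : Set G) → g = 1 := by
    intro g h1 h2
    have : g ∈ H ⊓ Subgroup.centralizer (V : Set G) := ⟨h1, h2⟩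
    rw [S.hf, Subgroup.mem_bot] at this
    exact this
  set P₀ := H ⊓ Subgroup.centralizer (W : Set G) ⊓ trivStab V W hWV with hP₀
  -- exponent `p`
  have hexp : ∀ g ∈ P₀, g ^ p = 1 := by
    intro g hg
    apply hHC _ (H.pow_mem hg.1.1 p)
    refine Subgroup.mem_centralizer_iff.mpr ?_
    intro v hv
    have hw : ⁅v, g⁆ ∈ W := hg.2.1 v hv
    have h1 : g * v * g⁻¹ = ⁅v, g⁆⁻¹ * v := conj_eq_commutatorElement_inv_mul v g
    have h2 : g * ⁅v, g⁆⁻¹ = ⁅v, g⁆⁻¹ * g :=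
      (Subgroup.mem_centralizer_iff.mp hg.1.2 _ (W.inv_mem hw)).symm
    have h3 := conj_pow_eq h1 h2 p
    have h4 : (⁅v, g⁆⁻¹) ^ p = 1 := S.hV.2 _ (hWV (W.inv_mem hw))
    rw [h4, one_mul] at h3
    calc v * g ^ p = (g ^ p * v * (g ^ p)⁻¹) * g ^ p := by rw [h3]
      _ = g ^ p * v := by group
  -- invariance under `Q`
  have hinv : ∀ q ∈ QG p H, ∀ g ∈ P₀, q * g * q⁻¹ ∈ P₀ := by
    intro q hq g hg
    have hqH := QG_le H hq
    have hqW := hQW hq
    have hqV := S.hHV hqH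
    have hWconj : ∀ w ∈ W, q * w * q⁻¹ ∈ W := fun w hw => (Subgroup.mem_normalizer_iff.mp hqW w).mp hw
    have hVconj : ∀ v ∈ V, q⁻¹ * v * q ∈ V := by
      intro v hv
      have := (Subgroup.mem_normalizer_iff.mp (Subgroup.inv_mem _ hqV) v).mp hv
      rwa [inv_inv] at this
    refine ⟨⟨H.mul_mem (H.mul_mem hqH hg.1.1) (H.inv_mem hqH), ?_⟩, ?_, ?_⟩
    · have h1 : q * g * q⁻¹ ∈ (Subgroup.centralizer (W : Set G)).map (cj q) :=
        (mem_map_cj q _ _).mpr ⟨g, hg.1.2, rfl⟩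
      rwa [map_cj_centralizer, map_cj_eq_self_of_mem_normalizer hqW] at h1
    · intro v hv
      have e : ⁅v, q * g * q⁻¹⁆ = q * ⁅q⁻¹ * v * q, g⁆ * q⁻¹ := by
        simp only [commutatorElement_def]; group
      rw [e]
      exact hWconj _ (hg.2.1 _ (hVconj v hv))
    · intro v hv
      have e : ⁅v, (q * g * q⁻¹)⁻¹⁆ = q * ⁅q⁻¹ * v * q, g⁻¹⁆ * q⁻¹ := by
        simp only [commutatorElement_def]; group
      rw [e]
      exact hWconj _ (hg.2.2 _ (hVconj v hv))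
  have heP : e ∈ P₀ := ⟨⟨heH, heW⟩, heV⟩
  -- `e` centralizes `Q`
  have hcomm : ∀ q ∈ QG p H, e * q = q * e := by
    intro q hq
    have h1 : ⁅e, q⁆ ∈ P₀ := by
      have e1 : ⁅e, q⁆ = e * (q * e⁻¹ * q⁻¹) := by rw [commutatorElement_def]; group
      rw [e1]
      exact P₀.mul_mem heP (hinv q hq _ (P₀.inv_mem heP))
    have h2 : ⁅e, q⁆ ∈ QG p H := by
      have e1 : ⁅e, q⁆ = (e * q * e⁻¹) * q⁻¹ := by rw [commutatorElement_def]
      rw [e1]
      exact (QG p H).mul_mem (QG_conj_mem H heH hq) ((QG p H).inv_mem hq)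
    have h3 := eq_one_of_pow_of_coprime (QG p H) h2 (QG_coprime H) (hexp _ h1)
    exact commutatorElement_eq_one_iff_mul_comm.mp h3
  have heC : (⟨e, heH⟩ : ↥H) ∈ Subgroup.centralizer (Cfsg.pPrimeCore p ↥H : Set ↥H) := by
    refine Subgroup.mem_centralizer_iff.mpr ?_
    intro q' hq'
    apply Subtype.ext
    exact (hcomm q'.1 ⟨q', hq', rfl⟩).symm
  have heQ : e ∈ QG p H := ⟨⟨e, heH⟩, S.hS1 heC, rfl⟩
  exact eq_one_of_pow_of_coprime (QG p H) heQ (QG_coprime H) (hexp e heP)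

section abstract
open Matrix Cfsg.Agent.Lib.Helper13 Cfsg.Agent.Lib.Helper26

omit [Finite G] in
/-- in the situation of `nonempty_mulEquiv_SL2`, every `p`-subgroup of `Aut W` lies in the image of `D` -/
theorem pgroup_le_range_of_two {D W : Type*} [Group D] [Group W] [Finite W]
    (hcomm : ∀ a b : W, a * b = b * a) (hexp : ∀ a : W, a ^ p = 1) (hcard : Nat.card W = p ^ 2)
    (θ : D →* MulAut W) (hθ : Function.Injective θ) (A B : Subgroup D) (hA : IsPGroup p A) (hB : IsPGroup p B)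
    (hA1 : A ≠ ⊥) (hB1 : B ≠ ⊥) (hAB : A ≠ B) (P : Subgroup (MulAut W)) (hP : IsPGroup p P) : P ≤ θ.range := by
  obtain ⟨e⟩ := exists_mulEquiv_of_elemAb p hcomm hexp hcard
  set Ψ : MulAut W ≃* GL (Fin 2) (ZMod p) := (MulAut.congr e).trans (mulAutEquivGL p) with hΨ
  set f : D →* GL (Fin 2) (ZMod p) := Ψ.toMonoidHom.comp θ with hf
  have hfinj : Function.Injective f := Ψ.injective.comp hθ
  set ι := (SpecialLinearGroup.toGL : SpecialLinearGroup (Fin 2) (ZMod p) →* GL (Fin 2) (ZMod p)) with hι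
  have hmapinj : Function.Injective (Subgroup.map f) := Subgroup.map_injective hfinj
  have hle : ι.range ≤ f.range := by
    apply range_toGL_le_of_two_pgroups p f.range (A.map f) (B.map f) (Subgroup.map_le_range f A)
      (Subgroup.map_le_range f B) (hA.map f) (hB.map f)
    · intro h
      apply hA1
      apply hmapinj
      rw [h, Subgroup.map_bot]
    · intro h
      apply hB1
      apply hmapinj
      rw [h, Subgroup.map_bot]
    · intro h
      exact hAB (hmapinj h)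
  have h1 : P.map Ψ.toMonoidHom ≤ ι.range := pgroup_le_range_toGL p _ (hP.map _)
  have h2 : f.range = θ.range.map Ψ.toMonoidHom := MonoidHom.range_comp Ψ.toMonoidHom θ
  have h3 : P.map Ψ.toMonoidHom ≤ θ.range.map Ψ.toMonoidHom := h2 ▸ h1.trans hle
  exact (Subgroup.map_le_map_iff_of_injective Ψ.injective).mp h3

end abstract

/-- elements of order `p` normalizing `W` act on `W` like elements of `D` -/
theorem exists_same_action (W D A B : Subgroup G) (hDW : D ≤ Subgroup.normalizer (W : Set G))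
    (hWc : ∀ v ∈ W, ∀ w ∈ W, v * w = w * v) (hWp : ∀ w ∈ W, w ^ p = 1) (hWcard : Nat.card W = p ^ 2)
    (hfaith : D ⊓ Subgroup.centralizer (W : Set G) = ⊥) (hAcard : Nat.card A = p) (hBcard : Nat.card B = p)
    (hAB : A ≠ B) (hAD : A ≤ D) (hBD : B ≤ D) {g : G} (hgW : g ∈ Subgroup.normalizer (W : Set G))
    (hgp : g ^ p = 1) : ∃ d ∈ D, ∀ w ∈ W, d * w * d⁻¹ = g * w * g⁻¹ := by
  have hp' : p.Prime := hp.out
  let _ := conjAct W D hDW
  set θ : ↥D →* MulAut ↥W := MulDistribMulAction.toMulAut ↥D ↥W with hθ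
  have hθinj : Function.Injective θ := by
    rw [injective_iff_map_eq_one]
    intro d hd
    have h1 : (d : G) ∈ D ⊓ Subgroup.centralizer (W : Set G) := by
      refine ⟨d.2, Subgroup.mem_centralizer_iff.mpr ?_⟩
      intro w hw
      have h2 := DFunLike.congr_fun hd (⟨w, hw⟩ : ↥W)
      rw [hθ, MulDistribMulAction.toMulAut_apply, MulAut.one_apply] at h2
      have h3 := congrArg Subtype.val h2
      have h4 : (d : G) * w * (d : G)⁻¹ = w := h3
      calc w * (d : G) = ((d : G) * w * (d : G)⁻¹) * d := by rw [h4]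
        _ = d * w := by group
    rw [hfaith, Subgroup.mem_bot] at h1
    exact Subtype.ext h1
  have hcardA' : Nat.card (A.subgroupOf D) = p := by rw [card_subgroupOf_le hAD, hAcard]
  have hcardB' : Nat.card (B.subgroupOf D) = p := by rw [card_subgroupOf_le hBD, hBcard]
  -- the automorphism induced by `g`
  let _ := conjAct W (Subgroup.zpowers g) (Subgroup.zpowers_le.mpr hgW)
  set α : MulAut ↥W := MulDistribMulAction.toMulAut ↥(Subgroup.zpowers g) ↥W ⟨g, Subgroup.mem_zpowers g⟩ with hα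
  have hαp : α ^ p = 1 := by
    rw [hα, ← map_pow]
    have : (⟨g, Subgroup.mem_zpowers g⟩ : Subgroup.zpowers g) ^ p = 1 := by
      apply Subtype.ext
      rw [Subgroup.coe_pow, Subgroup.coe_one]
      exact hgp
    rw [this, map_one]
  have hPp : IsPGroup p (Subgroup.zpowers α) := by
    rintro ⟨β, hβ⟩
    refine ⟨1, ?_⟩
    obtain ⟨k, rfl⟩ := Subgroup.mem_zpowers_iff.mp hβ
    apply Subtype.ext
    rw [pow_one, Subgroup.coe_pow, Subgroup.coe_one, ← zpow_natCast, ← zpow_mul, mul_comm, zpow_mul,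
      zpow_natCast, hαp, one_zpow]
  have hle := pgroup_le_range_of_two (p := p) (W := ↥W)
    (fun v w => Subtype.ext (hWc v.1 v.2 w.1 w.2))
    (fun w => by
      apply Subtype.ext
      rw [Subgroup.coe_pow, Subgroup.coe_one]
      exact hWp w.1 w.2) hWcard θ hθinj (A.subgroupOf D) (B.subgroupOf D)
    (IsPGroup.of_card (n := 1) (by rw [hcardA', pow_one])) (IsPGroup.of_card (n := 1) (by rw [hcardB', pow_one]))
    (by
      intro h
      rw [h, Subgroup.card_bot] at hcardA'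
      exact hp'.one_lt.ne hcardA')
    (by
      intro h
      rw [h, Subgroup.card_bot] at hcardB'
      exact hp'.one_lt.ne hcardB')
    (by
      intro h
      apply hAB
      have h1 := congrArg (Subgroup.map D.subtype) h
      rwa [Subgroup.subgroupOf_map_subtype, Subgroup.subgroupOf_map_subtype, inf_eq_left.mpr hAD,
        inf_eq_left.mpr hBD] at h1) (Subgroup.zpowers α) hPp
  obtain ⟨d, hd⟩ := hle (Subgroup.mem_zpowers α)
  refine ⟨d.1, d.2, ?_⟩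
  intro w hw
  have h1 := DFunLike.congr_fun hd (⟨w, hw⟩ : ↥W)
  have h2 := congrArg Subtype.val h1
  exact h2

omit [Finite G] hp in
theorem mem_normalizer_of_map_cj_eq {W : Subgroup G} {y : G} (h : W.map (cj y) = W) :
    y ∈ Subgroup.normalizer (W : Set G) := by
  rw [Subgroup.mem_normalizer_iff]
  intro g
  constructor
  · intro hg
    rw [← h]
    exact (mem_map_cj y W _).mpr ⟨g, hg, rfl⟩
  · intro hg
    rw [← h, mem_map_cj'] at hg
    have e : y⁻¹ * (y * g * y⁻¹) * y = g := by group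
    rwa [e] at hg

omit [Finite G] in
theorem card_eq_mul_of_normal_complement (D A K : Subgroup G) (hAD : A ≤ D) (hKD : K ≤ D)
    (hn : ∀ d ∈ D, ∀ k ∈ K, d * k * d⁻¹ ∈ K) (hsup : A ⊔ K = D) (hinf : A ⊓ K = ⊥) :
    Nat.card D = Nat.card A * Nat.card K := by
  have hNn : (K.subgroupOf D).Normal := by
    constructor
    intro k hk d
    rw [Subgroup.mem_subgroupOf] at hk ⊢
    exact hn d.1 d.2 k.1 hk
  have hdisj : Disjoint (A.subgroupOf D) (K.subgroupOf D) := by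
    rw [Subgroup.disjoint_def]
    intro d h1 h2
    have h3 : (d : G) ∈ A ⊓ K := ⟨Subgroup.mem_subgroupOf.mp h1, Subgroup.mem_subgroupOf.mp h2⟩
    rw [hinf, Subgroup.mem_bot] at h3
    exact Subtype.ext h3
  have hmul : ((A.subgroupOf D : Subgroup ↥D) : Set ↥D) * ((K.subgroupOf D : Subgroup ↥D) : Set ↥D) = Set.univ := by
    rw [← Subgroup.mul_normal, ← Subgroup.subgroupOf_sup hAD hKD, hsup, Subgroup.subgroupOf_self]
    rfl
  have h := (Subgroup.isComplement'_of_disjoint_and_mul_eq_univ hdisj hmul).card_mul_card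
  rw [card_subgroupOf_le hAD, card_subgroupOf_le hKD] at h
  exact h.symm

/-- a minimal best offender acts nontrivially on `O_{p'}(H)` -/
theorem exists_conj_ne {V H : Subgroup G} (S : FFSetting p V H) {A : Subgroup G} (hAH : A ≤ H)
    (hA : IsMinBest p V A) : ∃ x ∈ QG p H, A.map (cj x) ≠ A := by
  have hp' : p.Prime := hp.out
  obtain ⟨hAc, -, -⟩ := hA.cards S hAH
  by_contra hcon
  push Not at hcon
  have hApow : ∀ a ∈ A, a ^ p = 1 := by
    intro a ha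
    have h0 : (⟨a, ha⟩ : A) ^ Nat.card A = 1 := pow_card_eq_one'
    have h00 := congrArg Subtype.val h0
    rw [Subgroup.coe_pow, Subgroup.coe_one, hAc] at h00
    exact h00
  have hAbot : A = ⊥ := by
    rw [eq_bot_iff]
    intro a ha
    rw [Subgroup.mem_bot]
    have hcomm : ∀ q ∈ QG p H, a * q = q * a := by
      intro q hq
      have h1 : q * a * q⁻¹ ∈ A := by
        have := (mem_map_cj q A _).mpr ⟨a, ha, rfl⟩
        rwa [hcon q hq] at this
      have h2 : ⁅q, a⁆ ∈ A := by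
        rw [commutatorElement_def]
        exact A.mul_mem h1 (A.inv_mem ha)
      have h3 : ⁅q, a⁆ ∈ QG p H := by
        have e1 : ⁅q, a⁆ = q * (a * q⁻¹ * a⁻¹) := by rw [commutatorElement_def]; group
        rw [e1]
        exact (QG p H).mul_mem hq (QG_conj_mem H (hAH ha) ((QG p H).inv_mem hq))
      have h4 := eq_one_of_pow_of_coprime (QG p H) h3 (QG_coprime H) (hApow _ h2)
      exact (commutatorElement_eq_one_iff_mul_comm.mp h4).symm
    have heC : (⟨a, hAH ha⟩ : ↥H) ∈ Subgroup.centralizer (Cfsg.pPrimeCore p ↥H : Set ↥H) := by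
      refine Subgroup.mem_centralizer_iff.mpr ?_
      intro q' hq'
      apply Subtype.ext
      exact (hcomm q'.1 ⟨q', hq', rfl⟩).symm
    have heQ : a ∈ QG p H := ⟨⟨a, hAH ha⟩, S.hS1 heC, rfl⟩
    exact eq_one_of_pow_of_coprime (QG p H) heQ (QG_coprime H) (hApow a ha)
  rw [hAbot, Subgroup.card_bot] at hAc
  exact hp'.one_lt.ne hAc

/-- **KS 9.3.7 (first part)**: `[O_{p'}(H), A] A = ⟨A, A^x⟩` -/
theorem E_structure {V H : Subgroup G} (S : FFSetting p V H) {A : Subgroup G} (hAH : A ≤ H)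
    (hA : IsMinBest p V A) {x : G} (hx : x ∈ QG p H) (hne : A.map (cj x) ≠ A) :
    ⁅QG p H, A⁆ ⊔ A = A ⊔ A.map (cj x) ∧ (A ⊔ A.map (cj x)) ⊓ QG p H = ⁅QG p H, A⁆ ∧
      QG p H ≤ Subgroup.normalizer ((⁅V, A ⊔ A.map (cj x)⁆ : Subgroup G) : Set G) ∧
      (∀ y ∈ QG p H, A.map (cj y) ≤ A ⊔ A.map (cj x)) ∧
      (∀ y ∈ QG p H, ⁅V, A.map (cj y)⁆ ≤ ⁅V, A ⊔ A.map (cj x)⁆) := by
  have hp' : p.Prime := hp.out
  set B := A.map (cj x) with hB
  set D := A ⊔ B with hD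
  obtain ⟨hc, hW, hff, -, -, -, -, -, -, -, -, hAc, hBc⟩ :=
    pair_facts S hAH hA hx hne B D (D ⊓ QG p H) rfl rfl rfl
  have hxH : x ∈ H := QG_le H hx
  have hBH : B ≤ H := map_cj_le_of_mem hxH hAH
  have hDH : D ≤ H := sup_le hAH hBH
  have hDN : D ≤ Subgroup.normalizer (V : Set G) := hDH.trans S.hHV
  have hWV : ⁅V, D⁆ ≤ V := Cfsg.Agent.Lib.Helper1.commutator_le_of_le_normalizer hDN
  have hDW : D ≤ Subgroup.normalizer ((⁅V, D⁆ : Subgroup G) : Set G) :=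
    (le_inf hDN Subgroup.le_normalizer).trans (Cfsg.Agent.Lib.Helper1.inf_normalizer_le_normalizer_commutator V D)
  have hVc : ∀ v ∈ V, ∀ w ∈ V, v * w = w * v := Cfsg.Agent.Lib.Helper4.elemAb_comm S.hV
  have hZne : ⁅V, B⁆ ≠ ⁅V, A⁆ := by
    intro h
    rw [hW, h, sup_idem] at hc
    obtain ⟨-, hZc, -⟩ := hA.cards S hAH
    rw [hZc] at hc
    have : p * 1 = p * p := by rw [mul_one, ← pow_two]; exact hc
    have := Nat.eq_of_mul_eq_mul_left hp'.pos this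
    exact hp'.one_lt.ne this
  have hline : ∀ y ∈ QG p H, ⁅V, A.map (cj y)⁆ ≤ ⁅V, D⁆ := by
    intro y hy
    rw [hW]
    exact center_le_of_ne S hAH hA hx hy hZne
  have hQW : QG p H ≤ Subgroup.normalizer ((⁅V, D⁆ : Subgroup G) : Set G) := by
    intro y hy
    apply mem_normalizer_of_map_cj_eq
    have hyN := S.hHV (QG_le H hy)
    apply Subgroup.eq_of_le_of_card_ge
    · rw [hW, map_cj_sup, ← commutator_map_cj hyN, ← commutator_map_cj hyN, hB, map_cj_map_cj, ← hB, ← hW]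
      exact sup_le (hline y hy) (hline (y * x) ((QG p H).mul_mem hy hx))
    · rw [card_map_cj]
  have hApow : ∀ a ∈ A, a ^ p = 1 := by
    intro a ha
    have h0 : (⟨a, ha⟩ : A) ^ Nat.card A = 1 := pow_card_eq_one'
    have h00 := congrArg Subtype.val h0
    rw [Subgroup.coe_pow, Subgroup.coe_one, hAc] at h00
    exact h00
  have hconjle : ∀ y ∈ QG p H, A.map (cj y) ≤ D := by
    intro y hy g hg
    obtain ⟨a, ha, rfl⟩ := (mem_map_cj y A g).mp hg
    have hyH := QG_le H hy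
    have hgH : y * a * y⁻¹ ∈ H := H.mul_mem (H.mul_mem hyH (hAH ha)) (H.inv_mem hyH)
    have hgp : (y * a * y⁻¹) ^ p = 1 := by
      rw [← cj_apply, ← map_pow, hApow a ha, map_one]
    have hgW : y * a * y⁻¹ ∈ Subgroup.normalizer ((⁅V, D⁆ : Subgroup G) : Set G) :=
      Subgroup.mul_mem _ (Subgroup.mul_mem _ (hQW hy) (hDW (Subgroup.mem_sup_left ha)))
        (Subgroup.inv_mem _ (hQW hy))
    obtain ⟨d, hdD, hd⟩ := exists_same_action ⁅V, D⁆ D A B hDW
      (fun v hv w hw => hVc v (hWV hv) w (hWV hw)) (fun w hw => S.hV.2 w (hWV hw)) hc hff hAc hBc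
      (fun h => hne h.symm) le_sup_left le_sup_right hgW hgp
    have heH : d⁻¹ * (y * a * y⁻¹) ∈ H := H.mul_mem (H.inv_mem (hDH hdD)) hgH
    have heW : d⁻¹ * (y * a * y⁻¹) ∈ Subgroup.centralizer ((⁅V, D⁆ : Subgroup G) : Set G) := by
      refine Subgroup.mem_centralizer_iff.mpr ?_
      intro w hw
      have h1 := hd w hw
      calc w * (d⁻¹ * (y * a * y⁻¹)) = d⁻¹ * (d * w * d⁻¹) * (y * a * y⁻¹) := by group
        _ = d⁻¹ * ((y * a * y⁻¹) * w * (y * a * y⁻¹)⁻¹) * (y * a * y⁻¹) := by rw [h1]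
        _ = d⁻¹ * (y * a * y⁻¹) * w := by group
    have heV : d⁻¹ * (y * a * y⁻¹) ∈ trivStab V ⁅V, D⁆ hWV := by
      refine Subgroup.mul_mem _ (Subgroup.inv_mem _ (le_trivStab V _ hWV D le_rfl hdD)) ?_
      exact le_trivStab V _ hWV (A.map (cj y)) (hline y hy) ((mem_map_cj y A _).mpr ⟨a, ha, rfl⟩)
    have h1 := eq_one_of_stab_chain S ⁅V, D⁆ hWV hQW heH heW heV
    have h2 : y * a * y⁻¹ = d := by
      calc y * a * y⁻¹ = d * (d⁻¹ * (y * a * y⁻¹)) := by group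
        _ = d := by rw [h1, mul_one]
    rw [h2]; exact hdD
  have hAQ : A ≤ Subgroup.normalizer ((QG p H : Subgroup G) : Set G) :=
    le_normalizer_of_conj_mem (fun a ha q hq => QG_conj_mem H (hAH ha) hq)
  have hRD : ⁅QG p H, A⁆ ≤ D := by
    rw [Subgroup.commutator_le]
    intro q hq a ha
    rw [commutatorElement_def]
    exact D.mul_mem (hconjle q hq ((mem_map_cj q A _).mpr ⟨a, ha, rfl⟩)) (D.inv_mem (Subgroup.mem_sup_left ha))
  have hRQ : ⁅QG p H, A⁆ ≤ QG p H := Cfsg.Agent.Lib.Helper1.commutator_le_of_le_normalizer hAQ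
  have hsup : ⁅QG p H, A⁆ ⊔ A = D := by
    apply le_antisymm (sup_le hRD le_sup_left)
    refine sup_le le_sup_right ?_
    intro g hg
    obtain ⟨a, ha, rfl⟩ := (mem_map_cj x A g).mp hg
    have e : x * a * x⁻¹ = ⁅x, a⁆ * a := by rw [commutatorElement_def]; group
    rw [e]
    exact Subgroup.mul_mem _ (Subgroup.mem_sup_left (Subgroup.commutator_mem_commutator hx ha))
      (Subgroup.mem_sup_right ha)
  refine ⟨hsup, ?_, hQW, hconjle, hline⟩
  apply le_antisymm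
  · intro k hk
    have hAR : A ≤ Subgroup.normalizer ((⁅QG p H, A⁆ : Subgroup G) : Set G) :=
      (le_inf hAQ Subgroup.le_normalizer).trans
        (Cfsg.Agent.Lib.Helper1.inf_normalizer_le_normalizer_commutator (QG p H) A)
    have hk' : k ∈ ((⁅QG p H, A⁆ ⊔ A : Subgroup G) : Set G) := by rw [hsup]; exact hk.1
    rw [Subgroup.coe_mul_of_right_le_normalizer_left _ A hAR] at hk'
    obtain ⟨r, hr, a, ha, hra⟩ := Set.mem_mul.mp hk'
    have hr' : r ∈ ⁅QG p H, A⁆ := hr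
    have ha' : a ∈ A := ha
    have haQ : a ∈ QG p H := by
      have e : a = r⁻¹ * k := by rw [← hra]; group
      rw [e]
      exact (QG p H).mul_mem ((QG p H).inv_mem (hRQ hr')) hk.2
    have ha1 := eq_one_of_pow_of_coprime (QG p H) haQ (QG_coprime H) (hApow a ha')
    rw [ha1, mul_one] at hra
    rw [← hra]; exact hr'
  · exact le_inf hRD hRQ

/-- `|[O_{p'}(H), A]| = p² - 1` -/
theorem card_commutator_pPrimeCore {V H : Subgroup G} (S : FFSetting p V H) {A : Subgroup G} (hAH : A ≤ H)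
    (hA : IsMinBest p V A) : (p = 2 ∨ p = 3) ∧ Nat.card (⁅QG p H, A⁆ : Subgroup G) = p ^ 2 - 1 ∧
      Nonempty (↥(⁅QG p H, A⁆ ⊔ A) ≃* Matrix.SpecialLinearGroup (Fin 2) (ZMod p)) := by
  have hp' : p.Prime := hp.out
  obtain ⟨x, hx, hne⟩ := exists_conj_ne S hAH hA
  obtain ⟨hsup, hinf, -, -, -⟩ := E_structure S hAH hA hx hne
  have hxA : x ∉ Subgroup.centralizer (A : Set G) := fun h => hne (map_cj_eq_self_of_mem_centralizer h)
  obtain ⟨hp23, ⟨φ⟩⟩ := conj_pair_SL2 V H S.hV S.hHV S.hf S.hS1 A hAH hA.1 hA.2.1 hA.2.2 x hx hxA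
  obtain ⟨-, -, -, hAK, -, hKn, -, -, -, -, hKcop, hAc, -⟩ :=
    pair_facts S hAH hA hx hne (A.map (cj x)) (A ⊔ A.map (cj x)) ((A ⊔ A.map (cj x)) ⊓ QG p H) rfl rfl rfl
  rw [hinf] at hAK hKn hKcop
  have hRD : ⁅QG p H, A⁆ ≤ A ⊔ A.map (cj x) := hinf ▸ inf_le_left
  have hdisj : A ⊓ ⁅QG p H, A⁆ = ⊥ := by
    rw [eq_bot_iff]
    intro g hg
    rw [Subgroup.mem_bot]
    have h0 : (⟨g, hg.1⟩ : A) ^ Nat.card A = 1 := pow_card_eq_one'
    have h00 := congrArg Subtype.val h0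
    rw [Subgroup.coe_pow, Subgroup.coe_one, hAc] at h00
    exact eq_one_of_pow_of_coprime _ hg.2 hKcop h00
  have hcard := card_eq_mul_of_normal_complement (A ⊔ A.map (cj x)) A ⁅QG p H, A⁆ le_sup_left hRD hKn hAK hdisj
  have hcardSL : Nat.card ↥(A ⊔ A.map (cj x)) = p * (p ^ 2 - 1) := by
    rw [Nat.card_congr φ.toEquiv, Cfsg.Agent.Lib.Helper13.card_SL2, ZMod.card]
  rw [hcardSL, hAc] at hcard
  have hcardR : Nat.card (⁅QG p H, A⁆ : Subgroup G) = p ^ 2 - 1 := (Nat.eq_of_mul_eq_mul_left hp'.pos hcard).symm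
  refine ⟨hp23, hcardR, ?_⟩
  rw [hsup]
  exact ⟨φ⟩

/-- **KS 9.3.7 (= S0614)** -/
theorem commutator_pPrimeCore_structure {V H : Subgroup G} (S : FFSetting p V H) {A : Subgroup G} (hAH : A ≤ H)
    (hA : IsMinBest p V A) :
    (p = 2 ∧ IsPGroup 3 ↥(⁅QG p H, A⁆ : Subgroup G)) ∨
      (p = 3 ∧ IsPGroup 2 ↥(⁅QG p H, A⁆ : Subgroup G) ∧ ¬ IsMulCommutative ↥(⁅QG p H, A⁆ : Subgroup G)) := by
  obtain ⟨hp23, hcardR, -⟩ := card_commutator_pPrimeCore S hAH hA
  obtain ⟨hAc, -, -⟩ := hA.cards S hAH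
  rcases hp23 with h2 | h3
  · left
    refine ⟨h2, IsPGroup.of_card (n := 1) ?_⟩
    rw [hcardR, h2]; norm_num
  · right
    refine ⟨h3, IsPGroup.of_card (n := 3) ?_, ?_⟩
    · rw [hcardR, h3]; norm_num
    · intro hab
      have hAQ : A ≤ Subgroup.normalizer ((QG p H : Subgroup G) : Set G) :=
        le_normalizer_of_conj_mem (fun a ha q hq => QG_conj_mem H (hAH ha) hq)
      have hAR : A ≤ Subgroup.normalizer ((⁅QG p H, A⁆ : Subgroup G) : Set G) :=
        (le_inf hAQ Subgroup.le_normalizer).trans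
          (Cfsg.Agent.Lib.Helper1.inf_normalizer_le_normalizer_commutator (QG p H) A)
      have hRQ : ⁅QG p H, A⁆ ≤ QG p H := Cfsg.Agent.Lib.Helper1.commutator_le_of_le_normalizer hAQ
      have hcopQ : (Nat.card A).Coprime (Nat.card (QG p H)) := by
        rw [hAc]; exact (QG_coprime H).symm
      have hcopR : (Nat.card A).Coprime (Nat.card (⁅QG p H, A⁆ : Subgroup G)) :=
        Nat.Coprime.coprime_dvd_right (Subgroup.card_dvd_of_le hRQ) hcopQ
      have hAp : IsPGroup p A := IsPGroup.of_card (n := 1) (by rw [hAc, pow_one])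
      have hAsolv : Group.IsSolvable A := by
        have : Group.IsNilpotent A := hAp.isNilpotent
        infer_instance
      have h1 := Cfsg.Agent.Lib.Helper1.centralizer_inf_commutator_eq_bot A ⁅QG p H, A⁆ hAR hcopR
      have h2 := Cfsg.Agent.S0027.result A (QG p H) hAQ hcopQ (Or.inl hAsolv)
      rw [h2] at h1
      have h3' : ⁅QG p H, A⁆ ⊓ Subgroup.centralizer (A : Set G) = ⊥ := by
        rw [eq_bot_iff, ← h1]
        exact le_inf le_rfl inf_le_left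
      let _ := conjAct ⁅QG p H, A⁆ A hAR
      have hmod := hAp.card_modEq_card_fixedPoints ↥(⁅QG p H, A⁆ : Subgroup G)
      have hfix : Nat.card (MulAction.fixedPoints ↥A ↥(⁅QG p H, A⁆ : Subgroup G)) = 1 := by
        rw [Nat.card_eq_one_iff_unique]
        refine ⟨⟨?_⟩, ⟨⟨1, fun a => smul_one a⟩⟩⟩
        rintro ⟨r, hr⟩ ⟨r', hr'⟩
        have key : ∀ (t : ↥(⁅QG p H, A⁆ : Subgroup G)), t ∈ MulAction.fixedPoints ↥A ↥(⁅QG p H, A⁆ : Subgroup G) →
            t = 1 := by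
          intro t ht
          have h4 : (t : G) ∈ ⁅QG p H, A⁆ ⊓ Subgroup.centralizer (A : Set G) := by
            refine ⟨t.2, Subgroup.mem_centralizer_iff.mpr ?_⟩
            intro a ha
            have h5 := congrArg Subtype.val (ht ⟨a, ha⟩)
            have h6 : a * (t : G) * a⁻¹ = t := h5
            calc a * (t : G) = (a * (t : G) * a⁻¹) * a := by group
              _ = t * a := by rw [h6]
          rw [h3', Subgroup.mem_bot] at h4
          exact Subtype.ext h4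
        apply Subtype.ext
        exact (key r hr).trans (key r' hr').symm
      rw [hfix, hcardR, h3] at hmod
      exact absurd hmod (by decide)

end setting

end Cfsg.Agent.Lib.Helper8.FFOff
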