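import Mathlib
import Cfsg.Agent.Lib.Helper8.FFOffD

/-!
helper8: the "diagonal" homomorphism.  If a finite group `Y` permutes the conjugates of a subgroup `B`, the
stabilizer `Y₀` centralizes `B`, and `B` commutes with its conjugates under `Y ∖ Y₀`, then
`b ↦ ∏_{c ∈ Y/Y₀} b^c` is a homomorphism `B → C(Y)`.
-/

set_option autoImplicit false
open Subgroup

namespace Cfsg.Agent.Lib.Helper8.Diag

open Cfsg.Agent.Lib.Helper8.FFOff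

variable {Γ : Type*} [Group Γ]

/-- hypotheses for the diagonal construction -/
structure DiagHyp (Y Y₀ B : Subgroup Γ) : Prop where
  le : Y₀ ≤ Y
  cent : ∀ y ∈ Y₀, ∀ b ∈ B, y * b = b * y
  comm : ∀ y ∈ Y, y ∉ Y₀ → ∀ b ∈ B, ∀ b' ∈ B, b * (y * b' * y⁻¹) = (y * b' * y⁻¹) * b

section
variable {Y Y₀ B : Subgroup Γ}

/-- coset representatives -/
noncomputable def rep (Y Y₀ : Subgroup Γ) (c : ↥Y ⧸ Y₀.subgroupOf Y) : Γ := ((Quotient.out c : ↥Y) : Γ)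

theorem rep_mem (c : ↥Y ⧸ Y₀.subgroupOf Y) : rep Y Y₀ c ∈ Y := (Quotient.out c : ↥Y).2

theorem rep_rel {c c' : ↥Y ⧸ Y₀.subgroupOf Y} (hne : c ≠ c') : (rep Y Y₀ c)⁻¹ * rep Y Y₀ c' ∉ Y₀ := by
  intro h
  apply hne
  have h1 : (Quotient.out c : ↥Y)⁻¹ * (Quotient.out c' : ↥Y) ∈ Y₀.subgroupOf Y := by
    rw [mem_subgroupOf]
    exact h
  have h2 := QuotientGroup.eq.mpr h1
  rwa [QuotientGroup.out_eq', QuotientGroup.out_eq'] at h2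

theorem rep_smul (z : ↥Y) (c : ↥Y ⧸ Y₀.subgroupOf Y) :
    (rep Y Y₀ (z • c))⁻¹ * ((z : Γ) * rep Y Y₀ c) ∈ Y₀ := by
  have h1 : (QuotientGroup.mk (Quotient.out (z • c)) : ↥Y ⧸ Y₀.subgroupOf Y) =
      QuotientGroup.mk (z * Quotient.out c) := by
    rw [QuotientGroup.out_eq']
    conv_lhs => rw [← QuotientGroup.out_eq' c]
    rfl
  have h2 := QuotientGroup.eq.mp h1
  rw [mem_subgroupOf] at h2
  exact h2

theorem rep_one_mem : rep Y Y₀ ((1 : ↥Y) : ↥Y ⧸ Y₀.subgroupOf Y) ∈ Y₀ := by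
  have h1 : (QuotientGroup.mk (Quotient.out ((1 : ↥Y) : ↥Y ⧸ Y₀.subgroupOf Y)) : ↥Y ⧸ Y₀.subgroupOf Y) =
      QuotientGroup.mk (1 : ↥Y) := QuotientGroup.out_eq' _
  have h2 := QuotientGroup.eq.mp h1
  rw [mem_subgroupOf] at h2
  have h3 := Y₀.inv_mem h2
  simpa [rep] using h3

theorem rep_not_mem {c : ↥Y ⧸ Y₀.subgroupOf Y} (hne : c ≠ ((1 : ↥Y) : ↥Y ⧸ Y₀.subgroupOf Y)) :
    rep Y Y₀ c ∉ Y₀ := by
  intro h
  apply hne
  have h1 : (Quotient.out c : ↥Y)⁻¹ * (1 : ↥Y) ∈ Y₀.subgroupOf Y := by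
    rw [mem_subgroupOf]
    simpa [rep] using Y₀.inv_mem h
  have h2 := QuotientGroup.eq.mpr h1
  rwa [QuotientGroup.out_eq'] at h2

/-- the conjugation maps -/
noncomputable def phiC (Y Y₀ B : Subgroup Γ) (c : ↥Y ⧸ Y₀.subgroupOf Y) : ↥B →* Γ :=
  (cj (rep Y Y₀ c)).comp B.subtype

theorem phiC_apply (c : ↥Y ⧸ Y₀.subgroupOf Y) (b : ↥B) :
    phiC Y Y₀ B c b = rep Y Y₀ c * (b : Γ) * (rep Y Y₀ c)⁻¹ := rfl

theorem phiC_comm (h : DiagHyp Y Y₀ B) :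
    Pairwise fun c c' : ↥Y ⧸ Y₀.subgroupOf Y => ∀ x y : ↥B, Commute (phiC Y Y₀ B c x) (phiC Y Y₀ B c' y) := by
  intro c c' hne x y
  have hg : (rep Y Y₀ c)⁻¹ * rep Y Y₀ c' ∈ Y := Y.mul_mem (Y.inv_mem (rep_mem c)) (rep_mem c')
  have h1 := h.comm _ hg (rep_rel hne) x x.2 y y.2
  show phiC Y Y₀ B c x * phiC Y Y₀ B c' y = phiC Y Y₀ B c' y * phiC Y Y₀ B c x
  rw [phiC_apply, phiC_apply]
  set r := rep Y Y₀ c
  set r' := rep Y Y₀ c'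
  calc r * (x : Γ) * r⁻¹ * (r' * (y : Γ) * r'⁻¹)
      = r * ((x : Γ) * ((r⁻¹ * r') * (y : Γ) * (r⁻¹ * r')⁻¹)) * r⁻¹ := by group
    _ = r * (((r⁻¹ * r') * (y : Γ) * (r⁻¹ * r')⁻¹) * (x : Γ)) * r⁻¹ := by rw [h1]
    _ = r' * (y : Γ) * r'⁻¹ * (r * (x : Γ) * r⁻¹) := by group

end

section main
variable [Finite Γ] {Y Y₀ B : Subgroup Γ}

open Classical in
/-- the diagonal homomorphism -/
noncomputable def diag (h : DiagHyp Y Y₀ B) : ↥B →* Γ :=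
  letI : Fintype (↥Y ⧸ Y₀.subgroupOf Y) := Fintype.ofFinite _
  (MonoidHom.noncommPiCoprod (phiC Y Y₀ B) (phiC_comm h)).comp
    (MonoidHom.pi fun _ => MonoidHom.id ↥B)

open Classical in
theorem diag_conj (h : DiagHyp Y Y₀ B) (b : ↥B) (z : Γ) (hz : z ∈ Y) :
    z * diag h b * z⁻¹ = diag h b := by
  letI : Fintype (↥Y ⧸ Y₀.subgroupOf Y) := Fintype.ofFinite _
  let σ : (↥Y ⧸ Y₀.subgroupOf Y) ≃ (↥Y ⧸ Y₀.subgroupOf Y) := MulAction.toPerm (⟨z, hz⟩ : ↥Y)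
  let reidx : ((↥Y ⧸ Y₀.subgroupOf Y) → ↥B) →* ((↥Y ⧸ Y₀.subgroupOf Y) → ↥B) :=
    { toFun := fun f => f ∘ σ.symm
      map_one' := rfl
      map_mul' := fun _ _ => rfl }
  let F₁ : ((↥Y ⧸ Y₀.subgroupOf Y) → ↥B) →* Γ :=
    (cj z).comp (MonoidHom.noncommPiCoprod (phiC Y Y₀ B) (phiC_comm h))
  let F₂ : ((↥Y ⧸ Y₀.subgroupOf Y) → ↥B) →* Γ :=
    (MonoidHom.noncommPiCoprod (phiC Y Y₀ B) (phiC_comm h)).comp reidx
  have hF : F₁ = F₂ := by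
    apply MonoidHom.pi_ext
    intro c x
    have e1 : (Pi.mulSingle c x : (↥Y ⧸ Y₀.subgroupOf Y) → ↥B) ∘ σ.symm = Pi.mulSingle (σ c) x := by
      funext c'
      by_cases hc : c' = σ c
      · subst hc
        simp
      · have hc2 : σ.symm c' ≠ c := by
          intro h'
          apply hc
          rw [← h', Equiv.apply_symm_apply]
        simp [hc, hc2]
    show cj z (MonoidHom.noncommPiCoprod (phiC Y Y₀ B) (phiC_comm h) (Pi.mulSingle c x)) =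
      MonoidHom.noncommPiCoprod (phiC Y Y₀ B) (phiC_comm h) ((Pi.mulSingle c x : _ → ↥B) ∘ σ.symm)
    rw [e1, MonoidHom.noncommPiCoprod_mulSingle, MonoidHom.noncommPiCoprod_mulSingle]
    rw [phiC_apply, phiC_apply, cj_apply]
    have hy₀ := rep_smul (Y₀ := Y₀) (⟨z, hz⟩ : ↥Y) c
    have hcomm := h.cent _ hy₀ x x.2
    have hσ : σ c = (⟨z, hz⟩ : ↥Y) • c := rfl
    rw [hσ]
    set r := rep Y Y₀ c
    set r' := rep Y Y₀ ((⟨z, hz⟩ : ↥Y) • c)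
    have hcomm' : r'⁻¹ * (z * r) * (x : Γ) = (x : Γ) * (r'⁻¹ * (z * r)) := hcomm
    calc z * (r * (x : Γ) * r⁻¹) * z⁻¹ = r' * ((r'⁻¹ * (z * r)) * (x : Γ)) * (r⁻¹ * z⁻¹) := by group
      _ = r' * ((x : Γ) * (r'⁻¹ * (z * r))) * (r⁻¹ * z⁻¹) := by rw [hcomm']
      _ = r' * (x : Γ) * r'⁻¹ := by group
  have h2 := congrArg (fun F => F (fun _ => b)) hF
  exact h2

theorem diag_commute (h : DiagHyp Y Y₀ B) (b : ↥B) (z : Γ) (hz : z ∈ Y) :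
    z * diag h b = diag h b * z := by
  have := diag_conj h b z hz
  calc z * diag h b = z * diag h b * z⁻¹ * z := by group
    _ = diag h b * z := by rw [this]

open Classical in
theorem diag_eq_mul (h : DiagHyp Y Y₀ B) (B₁ : Subgroup Γ) (b : ↥B) (hb : (b : Γ) ∈ B₁) :
    ∃ c ∈ ⨆ y : {y : Γ // y ∈ Y ∧ y ∉ Y₀}, B₁.map (cj y.1), diag h b = (b : Γ) * c := by
  letI : Fintype (↥Y ⧸ Y₀.subgroupOf Y) := Fintype.ofFinite _
  set c₀ : ↥Y ⧸ Y₀.subgroupOf Y := ((1 : ↥Y) : ↥Y ⧸ Y₀.subgroupOf Y) with hc₀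
  have hd : diag h b = Finset.univ.noncommProd (fun c => phiC Y Y₀ B c b)
      (fun _ _ _ _ hne => phiC_comm h hne _ _) := by
    show MonoidHom.noncommPiCoprod (phiC Y Y₀ B) (phiC_comm h) (fun _ => b) = _
    rw [MonoidHom.noncommPiCoprod_apply]
  have h0 : phiC Y Y₀ B c₀ b = (b : Γ) := by
    rw [phiC_apply]
    have hcomm : rep Y Y₀ c₀ * (b : Γ) = (b : Γ) * rep Y Y₀ c₀ :=
      h.cent _ (rep_one_mem (Y := Y) (Y₀ := Y₀)) b b.2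
    rw [hcomm, mul_inv_cancel_right]
  refine ⟨(Finset.univ.erase c₀).noncommProd (fun c => phiC Y Y₀ B c b)
      (fun _ _ _ _ hne => phiC_comm h hne _ _), ?_, ?_⟩
  · apply Subgroup.noncommProd_mem
    intro c hc
    have hne : c ≠ c₀ := (Finset.mem_erase.mp hc).1
    have hr : rep Y Y₀ c ∉ Y₀ := rep_not_mem hne
    refine (le_iSup (fun y : {y : Γ // y ∈ Y ∧ y ∉ Y₀} => B₁.map (cj y.1))
      ⟨rep Y Y₀ c, rep_mem c, hr⟩) ?_
    exact ⟨(b : Γ), hb, rfl⟩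
  · rw [hd, ← h0]
    exact (Finset.mul_noncommProd_erase Finset.univ (Finset.mem_univ c₀)
      (fun c => phiC Y Y₀ B c b) (fun _ _ _ _ hne => phiC_comm h hne _ _)).symm

end main

end Cfsg.Agent.Lib.Helper8.Diag
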