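import Mathlib
import Cfsg.Agent.Lib.Helper8.FFOffD

/-!
# KS 9.3.7/9.3.8: `E = [O_{p'}(H), A] A ≅ SL₂(p)` is a direct factor of `H` (helper8 library)
-/

set_option autoImplicit false
open Subgroup
open scoped Pointwise commutatorElement

namespace Cfsg.Agent.Lib.Helper8.FFOff

open Cfsg.Agent.Lib.Helper8.ThTwo

section setting
variable {G : Type*} [Group G] [Finite G] {p : ℕ} [hp : Fact p.Prime]

/-- the subgroup `E_A = [O_{p'}(H), A] A` -/
abbrev EG (p : ℕ) (H A : Subgroup G) : Subgroup G := ⁅QG p H, A⁆ ⊔ A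

/-- basic facts on `E = E_A` -/
theorem E_facts {V H : Subgroup G} (S : FFSetting p V H) {A : Subgroup G} (hAH : A ≤ H)
    (hA : IsMinBest p V A) :
    EG p H A ≤ H ∧ Nat.card (⁅V, EG p H A⁆ : Subgroup G) = p ^ 2 ∧
      QG p H ≤ Subgroup.normalizer ((⁅V, EG p H A⁆ : Subgroup G) : Set G) ∧
      EG p H A ⊓ Subgroup.centralizer ((⁅V, EG p H A⁆ : Subgroup G) : Set G) = ⊥ ∧
      ⁅V, ⁅QG p H, A⁆⁆ = ⁅V, EG p H A⁆ ∧
      (V ⊓ Subgroup.centralizer (EG p H A : Set G)) ⊓ ⁅V, EG p H A⁆ = ⊥ ∧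
      (V ⊓ Subgroup.centralizer (EG p H A : Set G)) ⊔ ⁅V, EG p H A⁆ = V ∧
      V ⊓ Subgroup.centralizer ((⁅QG p H, A⁆ : Subgroup G) : Set G) = V ⊓ Subgroup.centralizer (EG p H A : Set G) ∧
      (∀ g ∈ H, g ^ p = 1 → g ∈ Subgroup.normalizer ((⁅V, EG p H A⁆ : Subgroup G) : Set G) →
        (∀ v ∈ V, ⁅v, g⁆ ∈ ⁅V, EG p H A⁆) → g ∈ EG p H A) ∧
      (∀ N : Subgroup G, N ≤ ⁅V, EG p H A⁆ → QG p H ≤ Subgroup.normalizer (N : Set G) → Nat.card N ≠ p) := by
  have hp' : p.Prime := hp.out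
  obtain ⟨x, hx, hne⟩ := exists_conj_ne S hAH hA
  obtain ⟨hsup, hinf, hQW, -, -⟩ := E_structure S hAH hA hx hne
  obtain ⟨hc, hW, hff, hAK, -, hKn, hVK, hUW, hUsup, hUle, hKcop, hAc, hBc⟩ :=
    pair_facts S hAH hA hx hne (A.map (cj x)) (A ⊔ A.map (cj x)) ((A ⊔ A.map (cj x)) ⊓ QG p H) rfl rfl rfl
  rw [hinf] at hAK hKn hVK hUW hUsup hUle hKcop
  have hxH : x ∈ H := QG_le H hx
  have hxN := S.hHV hxH
  have hBH : A.map (cj x) ≤ H := map_cj_le_of_mem hxH hAH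
  have hE : EG p H A = A ⊔ A.map (cj x) := hsup
  have hVc : ∀ v ∈ V, ∀ w ∈ V, v * w = w * v := Cfsg.Agent.Lib.Helper4.elemAb_comm S.hV
  rw [hE]
  set D := A ⊔ A.map (cj x) with hD
  have hDH : D ≤ H := sup_le hAH hBH
  have hDN : D ≤ Subgroup.normalizer (V : Set G) := hDH.trans S.hHV
  have hWV : ⁅V, D⁆ ≤ V := Cfsg.Agent.Lib.Helper1.commutator_le_of_le_normalizer hDN
  have hDW : D ≤ Subgroup.normalizer ((⁅V, D⁆ : Subgroup G) : Set G) :=
    (le_inf hDN Subgroup.le_normalizer).trans (Cfsg.Agent.Lib.Helper1.inf_normalizer_le_normalizer_commutator V D)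
  have hRD : ⁅QG p H, A⁆ ≤ D := hsup ▸ le_sup_left
  have hUeq : V ⊓ Subgroup.centralizer ((⁅QG p H, A⁆ : Subgroup G) : Set G) = V ⊓ Subgroup.centralizer (D : Set G) := by
    apply le_antisymm
    · exact le_inf inf_le_left hUle
    · exact le_inf inf_le_left (inf_le_right.trans (Subgroup.centralizer_le hRD))
  refine ⟨hDH, hc, hQW, hff, hVK, hUeq ▸ hUW, hUeq ▸ hUsup, hUeq, ?_, ?_⟩
  · -- same action
    intro g hgH hgp hgW hgV
    obtain ⟨d, hdD, hd⟩ := exists_same_action ⁅V, D⁆ D A (A.map (cj x)) hDW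
      (fun v hv w hw => hVc v (hWV hv) w (hWV hw)) (fun w hw => S.hV.2 w (hWV hw)) hc hff hAc hBc
      (fun h => hne h.symm) le_sup_left le_sup_right hgW hgp
    have heH : d⁻¹ * g ∈ H := H.mul_mem (H.inv_mem (hDH hdD)) hgH
    have heW : d⁻¹ * g ∈ Subgroup.centralizer ((⁅V, D⁆ : Subgroup G) : Set G) := by
      refine Subgroup.mem_centralizer_iff.mpr ?_
      intro w hw
      have h1 := hd w hw
      calc w * (d⁻¹ * g) = d⁻¹ * (d * w * d⁻¹) * g := by group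
        _ = d⁻¹ * (g * w * g⁻¹) * g := by rw [h1]
        _ = d⁻¹ * g * w := by group
    have hgT : g ∈ trivStab V ⁅V, D⁆ hWV := by
      refine ⟨hgV, ?_⟩
      intro v hv
      have e : ⁅v, g⁻¹⁆ = g⁻¹ * ⁅v, g⁆⁻¹ * g⁻¹⁻¹ := by simp only [commutatorElement_def]; group
      rw [e]
      exact (Subgroup.mem_normalizer_iff.mp (Subgroup.inv_mem _ hgW) _).mp (Subgroup.inv_mem _ (hgV v hv))
    have heV : d⁻¹ * g ∈ trivStab V ⁅V, D⁆ hWV :=
      Subgroup.mul_mem _ (Subgroup.inv_mem _ (le_trivStab V _ hWV D le_rfl hdD)) hgT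
    have h1 := eq_one_of_stab_chain S ⁅V, D⁆ hWV hQW heH heW heV
    have h2 : g = d := by
      calc g = d * (d⁻¹ * g) := by group
        _ = d := by rw [h1, mul_one]
    rw [h2]; exact hdD
  · -- no invariant points
    intro N hNM hQN hNc
    obtain ⟨-, hZc, -⟩ := hA.cards S hAH
    have hZ₁ : ⁅V, A.map (cj x)⁆ = (⁅V, A⁆).map (cj x) := commutator_map_cj hxN A
    have hZ₁c : Nat.card (⁅V, A.map (cj x)⁆ : Subgroup G) = p := by rw [hZ₁, card_map_cj, hZc]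
    have hZne : ⁅V, A.map (cj x)⁆ ≠ ⁅V, A⁆ := by
      intro h
      rw [hW, h, sup_idem, hZc] at hc
      have : p * 1 = p * p := by rw [mul_one, ← pow_two]; exact hc
      exact hp'.one_lt.ne (Nat.eq_of_mul_eq_mul_left hp'.pos this)
    have hZM : ⁅V, A⁆ ≤ ⁅V, D⁆ := hW ▸ le_sup_left
    have hZ₁M : ⁅V, A.map (cj x)⁆ ≤ ⁅V, D⁆ := hW ▸ le_sup_right
    have hNZ : N ≠ ⁅V, A⁆ := by
      intro h
      apply hZne
      rw [hZ₁, ← h]
      exact map_cj_eq_self_of_mem_normalizer (hQN hx)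
    have hNZinf : ⁅V, A⁆ ⊓ N = ⊥ := inf_eq_bot_of_card_prime hZc hNc hNZ.symm
    have hsupM : ⁅V, A⁆ ⊔ N = ⁅V, D⁆ := by
      apply Subgroup.eq_of_le_of_card_ge (sup_le hZM hNM)
      have := card_mul_card_le ⁅V, A⁆ N (⁅V, A⁆ ⊔ N) le_sup_left le_sup_right
      rw [hNZinf, Subgroup.card_bot, mul_one, hZc, hNc] at this
      rw [hc, pow_two]; exact this
    -- generator of `Z₁`
    obtain ⟨⟨z', hz'⟩, hz'1⟩ : ∃ z : (⁅V, A.map (cj x)⁆ : Subgroup G), z ≠ 1 :=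
      (Subgroup.ne_bot_iff_exists_ne_one).mp (fun h => by
        rw [h, Subgroup.card_bot] at hZ₁c; exact hp'.one_lt.ne hZ₁c)
    have hz'1' : z' ≠ 1 := fun h => hz'1 (Subtype.ext h)
    have hNNZ : N ≤ Subgroup.normalizer ((⁅V, A⁆ : Subgroup G) : Set G) := by
      refine le_trans ?_ (Subgroup.centralizer_le_normalizer (s := ((⁅V, A⁆ : Subgroup G) : Set G)))
      intro n hn
      refine Subgroup.mem_centralizer_iff.mpr ?_
      intro z hz
      exact hVc z (hWV (hZM hz)) n (hWV (hNM hn))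
    have hz'mem : z' ∈ ((⁅V, A⁆ ⊔ N : Subgroup G) : Set G) := by rw [hsupM]; exact hZ₁M hz'
    rw [Subgroup.coe_mul_of_right_le_normalizer_left _ N hNNZ] at hz'mem
    obtain ⟨z, hz, n, hn, hzn⟩ := Set.mem_mul.mp hz'mem
    have hzZ : z ∈ (⁅V, A⁆ : Subgroup G) := hz
    have hnN : n ∈ N := hn
    have hn1 : n ≠ 1 := by
      intro h
      rw [h, mul_one] at hzn
      have : z' ∈ (⁅V, A⁆ ⊓ ⁅V, A.map (cj x)⁆ : Subgroup G) := ⟨hzn ▸ hzZ, hz'⟩
      rw [inf_eq_bot_of_card_prime hZc hZ₁c hZne.symm, Subgroup.mem_bot] at this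
      exact hz'1' this
    -- generator of `A`
    have hAne : A ≠ ⊥ := by
      intro h
      rw [h, Subgroup.card_bot] at hAc
      exact hp'.one_lt.ne hAc
    obtain ⟨⟨a, ha⟩, ha1⟩ : ∃ z : A, z ≠ 1 := (Subgroup.ne_bot_iff_exists_ne_one).mp hAne
    have ha1' : a ≠ 1 := fun h => ha1 (Subtype.ext h)
    have hAZ : A ≤ Subgroup.centralizer ((⁅V, A⁆ : Subgroup G) : Set G) := hA.le_centralizer_commutator S hAH
    have hcZ : ⁅a, n⁆ ∈ (⁅V, A⁆ : Subgroup G) := by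
      rw [Subgroup.commutator_comm]
      exact Subgroup.commutator_mem_commutator ha (hWV (hNM hnN))
    have hNz : ∀ g ∈ N, g ∈ Subgroup.zpowers n := mem_zpowers_of_card_prime hNc hnN hn1
    have hc1 : ⁅a, n⁆ ≠ 1 := by
      intro h
      have hcomm : a * n = n * a := commutatorElement_eq_one_iff_mul_comm.mp h
      have h1 : a ∈ Subgroup.centralizer (N : Set G) := by
        refine Subgroup.mem_centralizer_iff.mpr ?_
        intro g hg
        obtain ⟨k, rfl⟩ := Subgroup.mem_zpowers_iff.mp (hNz g hg)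
        exact ((Commute.zpow_right (show Commute a n from hcomm) k).eq).symm
      have h2 : a ∈ D ⊓ Subgroup.centralizer ((⁅V, D⁆ : Subgroup G) : Set G) := by
        refine ⟨Subgroup.mem_sup_left ha, ?_⟩
        rw [← hsupM]
        have h3 : Subgroup.zpowers a ≤ Subgroup.centralizer ((⁅V, A⁆ ⊔ N : Subgroup G) : Set G) :=
          le_centralizer_sup ((Subgroup.zpowers_le.mpr ha).trans hAZ) (Subgroup.zpowers_le.mpr h1)
        exact h3 (Subgroup.mem_zpowers a)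
      rw [hff, Subgroup.mem_bot] at h2
      exact ha1' h2
    have hZz : ∀ g ∈ (⁅V, A⁆ : Subgroup G), g ∈ Subgroup.zpowers ⁅a, n⁆ := mem_zpowers_of_card_prime hZc hcZ hc1
    obtain ⟨j, hj⟩ := (mem_powers_iff_mem_zpowers.mpr (hZz z hzZ))
    have hj' : ⁅a, n⁆ ^ j = z := hj
    have hconj1 : a * n * a⁻¹ = ⁅a, n⁆ * n := by rw [commutatorElement_def]; group
    have hcc : a * ⁅a, n⁆ = ⁅a, n⁆ * a := (Subgroup.mem_centralizer_iff.mp (hAZ ha) _ hcZ).symm
    have hconjn := conj_pow_eq hconj1 hcc j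
    rw [hj', hzn] at hconjn
    -- `Z₁ = N^{a^j}` is `Q`-invariant
    have hz'N : z' ∈ N.map (cj (a ^ j)) := (mem_map_cj _ _ _).mpr ⟨n, hnN, hconjn⟩
    have hZ₁z : ∀ g ∈ (⁅V, A.map (cj x)⁆ : Subgroup G), g ∈ Subgroup.zpowers z' :=
      mem_zpowers_of_card_prime hZ₁c hz' hz'1'
    have hZ₁N : ⁅V, A.map (cj x)⁆ = N.map (cj (a ^ j)) := by
      apply Subgroup.eq_of_le_of_card_ge
      · intro g hg
        exact (Subgroup.zpowers_le.mpr hz'N) (hZ₁z g hg)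
      · rw [card_map_cj, hNc, hZ₁c]
    have hajH : a ^ j ∈ H := H.pow_mem (hAH ha) j
    have hinvx : (N.map (cj (a ^ j))).map (cj x⁻¹) = N.map (cj (a ^ j)) := by
      rw [map_cj_map_cj]
      have e : x⁻¹ * a ^ j = a ^ j * ((a ^ j)⁻¹ * x⁻¹ * (a ^ j)⁻¹⁻¹) := by group
      rw [e, ← map_cj_map_cj]
      congr 1
      apply map_cj_eq_self_of_mem_normalizer
      exact hQN (QG_conj_mem H (H.inv_mem hajH) ((QG p H).inv_mem hx))
    apply hZne
    rw [← hZ₁N, hZ₁, map_cj_cancel_inv] at hinvx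
    rw [hZ₁]
    exact hinvx.symm

omit [Finite G] hp in
theorem normalizer_inf_le (X Y : Subgroup G) :
    Subgroup.normalizer (X : Set G) ⊓ Subgroup.normalizer (Y : Set G) ≤
      Subgroup.normalizer ((X ⊓ Y : Subgroup G) : Set G) := by
  intro g hg
  rw [Subgroup.mem_normalizer_iff]
  intro h
  rw [Subgroup.mem_inf, Subgroup.mem_inf, ← Subgroup.mem_normalizer_iff.mp hg.1 h,
    ← Subgroup.mem_normalizer_iff.mp hg.2 h]

omit [Finite G] hp in
theorem E_le_normalizer_commutator {V H : Subgroup G} (hHV : H ≤ Subgroup.normalizer (V : Set G))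
    {E : Subgroup G} (hEH : E ≤ H) : E ≤ Subgroup.normalizer ((⁅V, E⁆ : Subgroup G) : Set G) :=
  (le_inf (hEH.trans hHV) Subgroup.le_normalizer).trans
    (Cfsg.Agent.Lib.Helper1.inf_normalizer_le_normalizer_commutator V E)

/-- **dichotomy**: two subgroups `E_A`, `E_B` either coincide or commute -/
theorem E_dichotomy {V H : Subgroup G} (S : FFSetting p V H) {A B : Subgroup G} (hAH : A ≤ H)
    (hA : IsMinBest p V A) (hBH : B ≤ H) (hB : IsMinBest p V B) :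
    (EG p H B ≤ EG p H A ∧ ⁅V, EG p H A⁆ = ⁅V, EG p H B⁆) ∨
      (⁅V, EG p H A⁆ ⊓ ⁅V, EG p H B⁆ = ⊥ ∧ EG p H B ≤ Subgroup.centralizer (EG p H A : Set G) ∧
        EG p H B ≤ Subgroup.centralizer ((⁅V, EG p H A⁆ : Subgroup G) : Set G) ∧
        ⁅V, EG p H B⁆ ≤ V ⊓ Subgroup.centralizer (EG p H A : Set G)) := by
  have hp' : p.Prime := hp.out
  obtain ⟨hEAH, hcA, hQA, hffA, hVRA, hUWA, hUsupA, hUeqA, hsameA, hirrA⟩ := E_facts S hAH hA
  obtain ⟨hEBH, hcB, hQB, hffB, hVRB, hUWB, hUsupB, hUeqB, hsameB, hirrB⟩ := E_facts S hBH hB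
  have hVc : ∀ v ∈ V, ∀ w ∈ V, v * w = w * v := Cfsg.Agent.Lib.Helper4.elemAb_comm S.hV
  have hMAV : ⁅V, EG p H A⁆ ≤ V := Cfsg.Agent.Lib.Helper1.commutator_le_of_le_normalizer (hEAH.trans S.hHV)
  have hMBV : ⁅V, EG p H B⁆ ≤ V := Cfsg.Agent.Lib.Helper1.commutator_le_of_le_normalizer (hEBH.trans S.hHV)
  have hQN : QG p H ≤ Subgroup.normalizer ((⁅V, EG p H A⁆ ⊓ ⁅V, EG p H B⁆ : Subgroup G) : Set G) :=
    (le_inf hQA hQB).trans (normalizer_inf_le _ _)
  have hNp : IsPGroup p (⁅V, EG p H A⁆ ⊓ ⁅V, EG p H B⁆ : Subgroup G) :=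
    (IsPGroup.of_card (n := 2) hcA).to_le inf_le_left
  obtain ⟨m, hm⟩ := IsPGroup.iff_card.mp hNp
  have hm2 : m ≤ 2 := by
    have h1 : p ^ m ≤ p ^ 2 := by
      rw [← hm, ← hcA]
      exact Subgroup.card_le_of_le inf_le_left
    exact (Nat.pow_le_pow_iff_right hp'.one_lt).mp h1
  have hm1 : m ≠ 1 := by
    rintro rfl
    rw [pow_one] at hm
    exact hirrA _ inf_le_left hQN hm
  interval_cases m
  · -- trivial intersection
    right
    rw [pow_zero] at hm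
    have hbot : ⁅V, EG p H A⁆ ⊓ ⁅V, EG p H B⁆ = ⊥ := Subgroup.eq_bot_of_card_eq _ hm
    have hRAQ : ⁅QG p H, A⁆ ≤ QG p H := Cfsg.Agent.Lib.Helper1.commutator_le_of_le_normalizer
      (le_normalizer_of_conj_mem (fun a ha q hq => QG_conj_mem H (hAH ha) hq))
    have hRBQ : ⁅QG p H, B⁆ ≤ QG p H := Cfsg.Agent.Lib.Helper1.commutator_le_of_le_normalizer
      (le_normalizer_of_conj_mem (fun a ha q hq => QG_conj_mem H (hBH ha) hq))
    have h1 : ⁅V, EG p H B⁆ ≤ V ⊓ Subgroup.centralizer (EG p H A : Set G) := by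
      rw [← hUeqA]
      refine le_inf hMBV ?_
      rw [← Subgroup.commutator_eq_bot_iff_le_centralizer, eq_bot_iff, ← hbot]
      refine le_inf ?_ ?_
      · rw [← hVRA]
        exact Subgroup.commutator_mono hMBV le_rfl
      · exact Cfsg.Agent.Lib.Helper1.commutator_le_of_le_normalizer (hRAQ.trans hQB)
    have h2 : ⁅V, EG p H A⁆ ≤ V ⊓ Subgroup.centralizer (EG p H B : Set G) := by
      rw [← hUeqB]
      refine le_inf hMAV ?_
      rw [← Subgroup.commutator_eq_bot_iff_le_centralizer, eq_bot_iff, ← hbot]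
      refine le_inf ?_ ?_
      · exact Cfsg.Agent.Lib.Helper1.commutator_le_of_le_normalizer (hRBQ.trans hQA)
      · rw [← hVRB]
        exact Subgroup.commutator_mono hMAV le_rfl
    have h3 : EG p H B ≤ Subgroup.centralizer ((⁅V, EG p H A⁆ : Subgroup G) : Set G) := by
      rw [Subgroup.le_centralizer_iff]
      exact h2.trans inf_le_right
    have h3' : EG p H A ≤ Subgroup.centralizer ((⁅V, EG p H B⁆ : Subgroup G) : Set G) := by
      rw [Subgroup.le_centralizer_iff]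
      exact h1.trans inf_le_right
    refine ⟨hbot, ?_, h3, h1⟩
    intro b hb
    refine Subgroup.mem_centralizer_iff.mpr ?_
    intro e he
    -- `e * b = b * e`
    have hbH := hEBH hb
    have heH := hEAH he
    have hcV : (b * e)⁻¹ * (e * b) ∈ Subgroup.centralizer (V : Set G) := by
      refine Subgroup.mem_centralizer_iff.mpr ?_
      intro v hv
      have hmb : ⁅b, v⁆ ∈ ⁅V, EG p H B⁆ := by
        rw [Subgroup.commutator_comm]; exact Subgroup.commutator_mem_commutator hb hv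
      have hme : ⁅e, v⁆ ∈ ⁅V, EG p H A⁆ := by
        rw [Subgroup.commutator_comm]; exact Subgroup.commutator_mem_commutator he hv
      have e1 : b * v * b⁻¹ = ⁅b, v⁆ * v := by rw [commutatorElement_def]; group
      have e2 : e * v * e⁻¹ = ⁅e, v⁆ * v := by rw [commutatorElement_def]; group
      have e3 : e * ⁅b, v⁆ = ⁅b, v⁆ * e := (Subgroup.mem_centralizer_iff.mp (h3' he) _ hmb).symm
      have e4 : b * ⁅e, v⁆ = ⁅e, v⁆ * b := (Subgroup.mem_centralizer_iff.mp (h3 hb) _ hme).symm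
      have e5 : ⁅b, v⁆ * ⁅e, v⁆ = ⁅e, v⁆ * ⁅b, v⁆ := hVc _ (hMBV hmb) _ (hMAV hme)
      have hL : e * b * v * (e * b)⁻¹ = ⁅b, v⁆ * ⁅e, v⁆ * v := by
        calc e * b * v * (e * b)⁻¹ = e * (b * v * b⁻¹) * e⁻¹ := by group
          _ = e * (⁅b, v⁆ * v) * e⁻¹ := by rw [e1]
          _ = (e * ⁅b, v⁆) * (v * e⁻¹) := by group
          _ = (⁅b, v⁆ * e) * (v * e⁻¹) := by rw [e3]
          _ = ⁅b, v⁆ * (e * v * e⁻¹) := by group
          _ = ⁅b, v⁆ * (⁅e, v⁆ * v) := by rw [e2]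
          _ = ⁅b, v⁆ * ⁅e, v⁆ * v := by group
      have hR : b * e * v * (b * e)⁻¹ = ⁅e, v⁆ * ⁅b, v⁆ * v := by
        calc b * e * v * (b * e)⁻¹ = b * (e * v * e⁻¹) * b⁻¹ := by group
          _ = b * (⁅e, v⁆ * v) * b⁻¹ := by rw [e2]
          _ = (b * ⁅e, v⁆) * (v * b⁻¹) := by group
          _ = (⁅e, v⁆ * b) * (v * b⁻¹) := by rw [e4]
          _ = ⁅e, v⁆ * (b * v * b⁻¹) := by group
          _ = ⁅e, v⁆ * (⁅b, v⁆ * v) := by rw [e1]
          _ = ⁅e, v⁆ * ⁅b, v⁆ * v := by group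
      have hLR : e * b * v * (e * b)⁻¹ = b * e * v * (b * e)⁻¹ := by rw [hL, hR, e5]
      calc v * ((b * e)⁻¹ * (e * b)) = (b * e)⁻¹ * (b * e * v * (b * e)⁻¹) * (e * b) := by group
        _ = (b * e)⁻¹ * (e * b * v * (e * b)⁻¹) * (e * b) := by rw [hLR]
        _ = (b * e)⁻¹ * (e * b) * v := by group
    have hcH : (b * e)⁻¹ * (e * b) ∈ H := H.mul_mem (H.inv_mem (H.mul_mem hbH heH)) (H.mul_mem heH hbH)
    have h1' : (b * e)⁻¹ * (e * b) ∈ H ⊓ Subgroup.centralizer (V : Set G) := ⟨hcH, hcV⟩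
    rw [S.hf, Subgroup.mem_bot] at h1'
    calc e * b = (b * e) * ((b * e)⁻¹ * (e * b)) := by group
      _ = b * e := by rw [h1', mul_one]
  · exact absurd rfl hm1
  · -- equal
    left
    have hNA : ⁅V, EG p H A⁆ ⊓ ⁅V, EG p H B⁆ = ⁅V, EG p H A⁆ :=
      Subgroup.eq_of_le_of_card_ge inf_le_left (by rw [hm, hcA])
    have hNB : ⁅V, EG p H A⁆ ⊓ ⁅V, EG p H B⁆ = ⁅V, EG p H B⁆ :=
      Subgroup.eq_of_le_of_card_ge inf_le_right (by rw [hm, hcB])
    have hMeq : ⁅V, EG p H A⁆ = ⁅V, EG p H B⁆ := hNA.symm.trans hNB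
    refine ⟨?_, hMeq⟩
    obtain ⟨y, hy, hney⟩ := exists_conj_ne S hBH hB
    obtain ⟨hsupB, -, -, -, -⟩ := E_structure S hBH hB hy hney
    obtain ⟨hBc, -, -⟩ := hB.cards S hBH
    have hEBN : EG p H B ≤ Subgroup.normalizer ((⁅V, EG p H A⁆ : Subgroup G) : Set G) := by
      rw [hMeq]; exact E_le_normalizer_commutator S.hHV hEBH
    have hgen : ∀ C : Subgroup G, C ≤ EG p H B → Nat.card C = p → C ≤ EG p H A := by
      intro C hCE hCc g hg
      have hgp : g ^ p = 1 := by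
        have h0 : (⟨g, hg⟩ : C) ^ Nat.card C = 1 := pow_card_eq_one'
        have h00 := congrArg Subtype.val h0
        rw [Subgroup.coe_pow, Subgroup.coe_one, hCc] at h00
        exact h00
      apply hsameA g (hEBH (hCE hg)) hgp (hEBN (hCE hg))
      intro v hv
      rw [hMeq]
      exact Subgroup.commutator_mem_commutator hv (hCE hg)
    have h1 : B ≤ EG p H A := hgen B le_sup_right hBc
    have h2 : B.map (cj y) ≤ EG p H A := by
      apply hgen _ _ (by rw [card_map_cj, hBc])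
      have : EG p H B = B ⊔ B.map (cj y) := hsupB
      rw [this]; exact le_sup_right
    have : EG p H B = B ⊔ B.map (cj y) := hsupB
    rw [this]
    exact sup_le h1 h2

/-- `H` (generated by best offenders) normalizes `E_A` and is `E_A C_H([V, E_A])` -/
theorem H_facts {V H : Subgroup G} (S : FFSetting p V H)
    (hS3 : H = ⨆ A : {A : Subgroup G // A ≤ H ∧ Cfsg.IsBestOffenderOn p V A}, (A : Subgroup G))
    {A : Subgroup G} (hAH : A ≤ H) (hA : IsMinBest p V A) :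
    H ≤ Subgroup.normalizer (EG p H A : Set G) ∧
      H ≤ EG p H A ⊔ (H ⊓ Subgroup.centralizer ((⁅V, EG p H A⁆ : Subgroup G) : Set G)) := by
  have key : ∀ B : Subgroup G, B ≤ H → IsMinBest p V B →
      B ≤ Subgroup.normalizer (EG p H A : Set G) ⊓
        (EG p H A ⊔ (H ⊓ Subgroup.centralizer ((⁅V, EG p H A⁆ : Subgroup G) : Set G))) := by
    intro B hBH hB
    have hBE : B ≤ EG p H B := le_sup_right
    obtain ⟨hEBH, -⟩ := E_facts S hBH hB
    rcases E_dichotomy S hAH hA hBH hB with ⟨h1, -⟩ | ⟨-, h2, h3, -⟩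
    · exact le_inf ((hBE.trans h1).trans Subgroup.le_normalizer) ((hBE.trans h1).trans le_sup_left)
    · refine le_inf ((hBE.trans h2).trans (Subgroup.centralizer_le_normalizer (s := (EG p H A : Set G)))) ?_
      exact (le_inf hBH (hBE.trans h3)).trans le_sup_right
  have hall : H ≤ Subgroup.normalizer (EG p H A : Set G) ⊓
      (EG p H A ⊔ (H ⊓ Subgroup.centralizer ((⁅V, EG p H A⁆ : Subgroup G) : Set G))) := by
    calc H = ⨆ A : {A : Subgroup G // A ≤ H ∧ Cfsg.IsBestOffenderOn p V A}, (A : Subgroup G) := hS3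
      _ ≤ _ := by
        refine iSup_le ?_
        rintro ⟨A', hA'H, hA'⟩
        obtain ⟨k, Bf, hBf, -, hsup⟩ := best_offender_decomposition V H S.hV S.hHV S.hf S.hS1 A' hA'H hA'
        show A' ≤ _
        rw [← hsup]
        refine iSup_le ?_
        intro i
        exact key (Bf i) ((hBf i).1.trans hA'H) ⟨(hBf i).2.1, (hBf i).2.2.1, (hBf i).2.2.2⟩
  exact ⟨hall.trans inf_le_left, hall.trans inf_le_right⟩

omit [Finite G] hp in
theorem normalizer_le_normalizer_centralizer (M : Subgroup G) :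
    Subgroup.normalizer (M : Set G) ≤ Subgroup.normalizer ((Subgroup.centralizer (M : Set G) : Subgroup G) : Set G) := by
  intro g hg
  apply mem_normalizer_of_map_cj_eq
  rw [map_cj_centralizer, map_cj_eq_self_of_mem_normalizer hg]

/-- **KS 9.3.7 (= S0616)**: `E_A ≅ SL₂(p)` is a direct factor of `H` and `V = [V, E_A] × C_V(E_A)` -/
theorem E_direct_factor {V H : Subgroup G} (S : FFSetting p V H)
    (hS3 : H = ⨆ A : {A : Subgroup G // A ≤ H ∧ Cfsg.IsBestOffenderOn p V A}, (A : Subgroup G))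
    {A : Subgroup G} (hAH : A ≤ H) (hA : IsMinBest p V A) :
    (p = 2 ∨ p = 3) ∧ Nonempty (↥(EG p H A) ≃* Matrix.SpecialLinearGroup (Fin 2) (ZMod p)) ∧
      Nat.card (⁅V, EG p H A⁆ : Subgroup G) = p ^ 2 ∧
      ⁅V, EG p H A⁆ ⊓ (V ⊓ Subgroup.centralizer (EG p H A : Set G)) = ⊥ ∧
      ⁅V, EG p H A⁆ ⊔ (V ⊓ Subgroup.centralizer (EG p H A : Set G)) = V ∧
      ⁅EG p H A, H ⊓ Subgroup.centralizer ((⁅V, EG p H A⁆ : Subgroup G) : Set G)⁆ = ⊥ ∧
      EG p H A ⊓ (H ⊓ Subgroup.centralizer ((⁅V, EG p H A⁆ : Subgroup G) : Set G)) = ⊥ ∧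
      EG p H A ⊔ (H ⊓ Subgroup.centralizer ((⁅V, EG p H A⁆ : Subgroup G) : Set G)) = H ∧
      ⁅V, H ⊓ Subgroup.centralizer ((⁅V, EG p H A⁆ : Subgroup G) : Set G)⁆ ≤
        V ⊓ Subgroup.centralizer (EG p H A : Set G) := by
  obtain ⟨hp23, -, hiso⟩ := card_commutator_pPrimeCore S hAH hA
  obtain ⟨hEH, hc, hQM, hff, hVR, hUW, hUsup, hUeq, hsame, hirr⟩ := E_facts S hAH hA
  obtain ⟨hHE, hHsup⟩ := H_facts S hS3 hAH hA
  have hVc : ∀ v ∈ V, ∀ w ∈ V, v * w = w * v := Cfsg.Agent.Lib.Helper4.elemAb_comm S.hV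
  set E := EG p H A with hEdef
  set M := ⁅V, E⁆ with hMdef
  set CM := H ⊓ Subgroup.centralizer (M : Set G) with hCMdef
  have hMV : M ≤ V := Cfsg.Agent.Lib.Helper1.commutator_le_of_le_normalizer (hEH.trans S.hHV)
  have hinf : E ⊓ CM = ⊥ := by
    rw [eq_bot_iff, ← hff]
    exact le_inf inf_le_left (inf_le_right.trans inf_le_right)
  have hCMH : CM ≤ H := inf_le_left
  have hEM : E ≤ Subgroup.normalizer (M : Set G) := E_le_normalizer_commutator S.hHV hEH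
  have hECM : E ≤ Subgroup.normalizer (CM : Set G) :=
    (le_inf (hEH.trans Subgroup.le_normalizer) (hEM.trans (normalizer_le_normalizer_centralizer M))).trans
      (normalizer_inf_le _ _)
  have hcomm : ⁅E, CM⁆ = ⊥ := by
    rw [eq_bot_iff, ← hinf]
    refine le_inf (Cfsg.Agent.Lib.Helper1.commutator_le_of_le_normalizer (hCMH.trans hHE)) ?_
    rw [Subgroup.commutator_comm]
    exact Cfsg.Agent.Lib.Helper1.commutator_le_of_le_normalizer hECM
  have hsupH : E ⊔ CM = H := le_antisymm (sup_le hEH hCMH) hHsup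
  refine ⟨hp23, hiso, hc, ?_, ?_, hcomm, hinf, hsupH, ?_⟩
  · rw [inf_comm]; exact hUW
  · rw [sup_comm]; exact hUsup
  · rw [Subgroup.commutator_le]
    intro v hv c hc'
    have hcH : c ∈ H := hc'.1
    have hcN := S.hHV hcH
    have hwV : ⁅v, c⁆ ∈ V := by
      rw [commutatorElement_def]
      have h1 : c * v⁻¹ * c⁻¹ ∈ V := (Subgroup.mem_normalizer_iff.mp hcN _).mp (V.inv_mem hv)
      have e : v * c * v⁻¹ * c⁻¹ = v * (c * v⁻¹ * c⁻¹) := by group
      rw [e]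
      exact V.mul_mem hv h1
    refine ⟨hwV, Subgroup.mem_centralizer_iff.mpr ?_⟩
    intro e he
    have hec : e * c = c * e := by
      have h1 : ⁅e, c⁆ ∈ ⁅E, CM⁆ := Subgroup.commutator_mem_commutator he hc'
      rw [hcomm, Subgroup.mem_bot] at h1
      exact commutatorElement_eq_one_iff_mul_comm.mp h1
    have hm : ⁅e, v⁆ ∈ M := by
      rw [hMdef, Subgroup.commutator_comm]
      exact Subgroup.commutator_mem_commutator he hv
    have hcm : c * ⁅e, v⁆ = ⁅e, v⁆ * c := (Subgroup.mem_centralizer_iff.mp hc'.2 _ hm).symm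
    have e1 : e * v * e⁻¹ = ⁅e, v⁆ * v := by rw [commutatorElement_def]; group
    have e2 : e * c * e⁻¹ = c := by rw [hec]; group
    have e3 : e * ⁅v, c⁆ * e⁻¹ = ⁅e * v * e⁻¹, e * c * e⁻¹⁆ := by
      simp only [commutatorElement_def]; group
    have e4 : ⁅⁅e, v⁆ * v, c⁆ = ⁅e, v⁆ * ⁅v, c⁆ * ⁅e, v⁆⁻¹ := by
      have hcm' : ⁅e, v⁆⁻¹ * c⁻¹ = c⁻¹ * ⁅e, v⁆⁻¹ := by
        rw [← mul_inv_rev, ← mul_inv_rev, hcm]
      calc ⁅⁅e, v⁆ * v, c⁆ = ⁅e, v⁆ * v * c * v⁻¹ * (⁅e, v⁆⁻¹ * c⁻¹) := by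
            rw [commutatorElement_def (⁅e, v⁆ * v) c]; group
        _ = ⁅e, v⁆ * v * c * v⁻¹ * (c⁻¹ * ⁅e, v⁆⁻¹) := by rw [hcm']
        _ = ⁅e, v⁆ * ⁅v, c⁆ * ⁅e, v⁆⁻¹ := by rw [commutatorElement_def v c]; group
    have e5 : ⁅e, v⁆ * ⁅v, c⁆ * ⁅e, v⁆⁻¹ = ⁅v, c⁆ := by
      rw [hVc _ (hMV hm) _ hwV]; group
    have e6 : e * ⁅v, c⁆ * e⁻¹ = ⁅v, c⁆ := by rw [e3, e1, e2, e4, e5]
    calc e * ⁅v, c⁆ = (e * ⁅v, c⁆ * e⁻¹) * e := by group
      _ = ⁅v, c⁆ * e := by rw [e6]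

end setting

end Cfsg.Agent.Lib.Helper8.FFOff
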