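import Mathlib
import Cfsg.Agent.Lib.Helper8.FFOffE

/-!
# KS 9.3.8: the structure theorem for failure of factorization (helper8 library)
-/

set_option autoImplicit false
open Subgroup
open scoped Pointwise commutatorElement

namespace Cfsg.Agent.Lib.Helper8.FFOff

open Cfsg.Agent.Lib.Helper8.ThTwo

section setting
variable {G : Type*} [Group G] [Finite G] {p : ℕ} [hp : Fact p.Prime]

/-- the subgroups `E = [O_{p'}(H), A] A` for minimal best offenders `A ≤ H` -/
def IsE (p : ℕ) (V H E : Subgroup G) : Prop :=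
  ∃ A : Subgroup G, A ≤ H ∧ Cfsg.IsBestOffenderOn p V A ∧ ⁅V, A⁆ ≠ ⊥ ∧
    (∀ B : Subgroup G, B ≤ A → Cfsg.IsBestOffenderOn p V B → ⁅V, B⁆ ≠ ⊥ → B = A) ∧
    E = ⁅((Cfsg.pPrimeCore p ↥H).map H.subtype), A⁆ ⊔ A

omit [Finite G] hp in
theorem IsE.exists {V H E : Subgroup G} (h : IsE p V H E) :
    ∃ A : Subgroup G, A ≤ H ∧ IsMinBest p V A ∧ E = EG p H A := by
  obtain ⟨A, h1, h2, h3, h4, h5⟩ := h
  exact ⟨A, h1, ⟨h2, h3, h4⟩, h5⟩

omit [Finite G] hp in
theorem isE_EG {V H A : Subgroup G} (hAH : A ≤ H) (hA : IsMinBest p V A) : IsE p V H (EG p H A) :=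
  ⟨A, hAH, hA.1, hA.2.1, hA.2.2, rfl⟩

/-- distinct `E`'s commute and have independent commutators -/
theorem E_ne_facts {V H : Subgroup G} (S : FFSetting p V H) {A B : Subgroup G} (hAH : A ≤ H)
    (hA : IsMinBest p V A) (hBH : B ≤ H) (hB : IsMinBest p V B) (hne : EG p H B ≠ EG p H A) :
    EG p H B ≤ Subgroup.centralizer ((⁅V, EG p H A⁆ : Subgroup G) : Set G) ∧
      ⁅V, EG p H B⁆ ≤ V ⊓ Subgroup.centralizer (EG p H A : Set G) := by
  have hp' : p.Prime := hp.out
  rcases E_dichotomy S hAH hA hBH hB with ⟨h1, h2⟩ | ⟨-, -, h3, h4⟩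
  · exfalso
    rcases E_dichotomy S hBH hB hAH hA with ⟨h1', -⟩ | ⟨h5, -⟩
    · exact hne (le_antisymm h1 h1')
    · rw [h2, inf_idem] at h5
      obtain ⟨-, hc, -⟩ := E_facts S hBH hB
      rw [h5, Subgroup.card_bot] at hc
      have : 1 < p ^ 2 := Nat.one_lt_pow (by norm_num) hp'.one_lt
      omega
  · exact ⟨h3, h4⟩

/-- **KS 9.3.8 (= S0617)** -/
theorem ff_structure {V H : Subgroup G} (S : FFSetting p V H)
    (hS3 : H = ⨆ A : {A : Subgroup G // A ≤ H ∧ Cfsg.IsBestOffenderOn p V A}, (A : Subgroup G))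
    (hH1 : H ≠ ⊥) :
    (p = 2 ∨ p = 3) ∧
      (∀ E : {E : Subgroup G // IsE p V H E}, H ≤ Subgroup.normalizer ((E : Subgroup G) : Set G) ∧
        Nonempty (↥(E : Subgroup G) ≃* Matrix.SpecialLinearGroup (Fin 2) (ZMod p)) ∧
        Nat.card ↥(⁅V, (E : Subgroup G)⁆) = p ^ 2) ∧
      iSupIndep (fun E : {E : Subgroup G // IsE p V H E} => (E : Subgroup G)) ∧
      (⨆ E : {E : Subgroup G // IsE p V H E}, (E : Subgroup G)) = H ∧
      iSupIndep (fun o : Option {E : Subgroup G // IsE p V H E} =>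
        o.elim (V ⊓ Subgroup.centralizer (H : Set G)) (fun E => ⁅V, (E : Subgroup G)⁆)) ∧
      (V ⊓ Subgroup.centralizer (H : Set G)) ⊔
        (⨆ E : {E : Subgroup G // IsE p V H E}, ⁅V, (E : Subgroup G)⁆) = V := by
  have hp' : p.Prime := hp.out
  -- every minimal best offender lies in some `E`
  have hcover : ∀ A' : Subgroup G, A' ≤ H → Cfsg.IsBestOffenderOn p V A' →
      A' ≤ ⨆ E : {E : Subgroup G // IsE p V H E}, (E : Subgroup G) := by
    intro A' hA'H hA'
    obtain ⟨k, Bf, hBf, -, hsup⟩ := best_offender_decomposition V H S.hV S.hHV S.hf S.hS1 A' hA'H hA'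
    rw [← hsup]
    refine iSup_le ?_
    intro i
    have hBH : Bf i ≤ H := (hBf i).1.trans hA'H
    have hB : IsMinBest p V (Bf i) := ⟨(hBf i).2.1, (hBf i).2.2.1, (hBf i).2.2.2⟩
    exact (le_sup_right : Bf i ≤ EG p H (Bf i)).trans
      (le_iSup (fun E : {E : Subgroup G // IsE p V H E} => (E : Subgroup G)) ⟨EG p H (Bf i), isE_EG hBH hB⟩)
  have hEH : ∀ E : {E : Subgroup G // IsE p V H E}, (E : Subgroup G) ≤ H := by
    rintro ⟨E, hE⟩
    obtain ⟨A, hAH, hA, rfl⟩ := hE.exists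
    exact (E_facts S hAH hA).1
  have hsupE : (⨆ E : {E : Subgroup G // IsE p V H E}, (E : Subgroup G)) = H := by
    apply le_antisymm (iSup_le hEH)
    calc H = ⨆ A : {A : Subgroup G // A ≤ H ∧ Cfsg.IsBestOffenderOn p V A}, (A : Subgroup G) := hS3
      _ ≤ _ := iSup_le (fun A' => hcover A'.1 A'.2.1 A'.2.2)
  -- existence of some `E`
  have hexE : Nonempty {E : Subgroup G // IsE p V H E} := by
    by_contra hcon
    rw [not_nonempty_iff] at hcon
    apply hH1
    rw [← hsupE, iSup_of_empty]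
  have hp23 : p = 2 ∨ p = 3 := by
    obtain ⟨⟨E, hE⟩⟩ := hexE
    obtain ⟨A, hAH, hA, rfl⟩ := hE.exists
    exact (E_direct_factor S hS3 hAH hA).1
  -- the `p'`-parts
  set R : Subgroup G := ⨆ E : {E : Subgroup G // IsE p V H E}, ((E : Subgroup G) ⊓ QG p H) with hRdef
  have hRQ : R ≤ QG p H := iSup_le (fun E => inf_le_right)
  have hRH : R ≤ H := hRQ.trans (QG_le H)
  have hVp : IsPGroup p V := by
    intro v
    refine ⟨1, ?_⟩
    apply Subtype.ext
    rw [pow_one, Subgroup.coe_pow, Subgroup.coe_one]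
    exact S.hV.2 v.1 v.2
  obtain ⟨n, hn⟩ := IsPGroup.iff_card.mp hVp
  have hRcop : (Nat.card R).Coprime (Nat.card V) := by
    rw [hn]
    exact Nat.Coprime.pow_right n (Nat.Coprime.coprime_dvd_left (Subgroup.card_dvd_of_le hRQ) (QG_coprime H))
  have : IsMulCommutative V := S.hV.1
  have h55 := Cfsg.Agent.S0055.result R V (hRH.trans S.hHV) hRcop
  have hEQ : ∀ E : {E : Subgroup G // IsE p V H E}, ⁅V, (E : Subgroup G) ⊓ QG p H⁆ = ⁅V, (E : Subgroup G)⁆ ∧
      V ⊓ Subgroup.centralizer (((E : Subgroup G) ⊓ QG p H : Subgroup G) : Set G) =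
        V ⊓ Subgroup.centralizer ((E : Subgroup G) : Set G) := by
    rintro ⟨E, hE⟩
    obtain ⟨A, hAH, hA, rfl⟩ := hE.exists
    obtain ⟨x, hx, hnex⟩ := exists_conj_ne S hAH hA
    obtain ⟨hsup, hinf, -⟩ := E_structure S hAH hA hx hnex
    obtain ⟨-, -, -, -, hVR, -, -, hUeq, -⟩ := E_facts S hAH hA
    have h1 : EG p H A ⊓ QG p H = ⁅QG p H, A⁆ := by
      have : EG p H A = A ⊔ A.map (cj x) := hsup
      rw [this]; exact hinf
    show ⁅V, EG p H A ⊓ QG p H⁆ = ⁅V, EG p H A⁆ ∧ _ = _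
    rw [h1]
    exact ⟨hVR, hUeq⟩
  have hVR : ⁅V, R⁆ = ⨆ E : {E : Subgroup G // IsE p V H E}, ⁅V, (E : Subgroup G)⁆ := by
    rw [hRdef, commutator_iSup_eq V _ (fun E => (inf_le_left.trans (hEH E)).trans S.hHV)]
    congr 1
    funext E
    exact (hEQ E).1
  have hCR : V ⊓ Subgroup.centralizer (R : Set G) = V ⊓ Subgroup.centralizer (H : Set G) := by
    apply le_antisymm
    · intro v hv
      refine ⟨hv.1, ?_⟩
      have h1 : ∀ E : {E : Subgroup G // IsE p V H E}, (E : Subgroup G) ≤ Subgroup.centralizer ({v} : Set G) := by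
        intro E
        have h2 : v ∈ V ⊓ Subgroup.centralizer (((E : Subgroup G) ⊓ QG p H : Subgroup G) : Set G) :=
          ⟨hv.1, Subgroup.centralizer_le (le_iSup (fun E : {E : Subgroup G // IsE p V H E} =>
            ((E : Subgroup G) ⊓ QG p H)) E) hv.2⟩
        rw [(hEQ E).2] at h2
        intro e he
        rw [Subgroup.mem_centralizer_singleton_iff]
        exact (Subgroup.mem_centralizer_iff.mp h2.2 e he)
      have h3 : H ≤ Subgroup.centralizer ({v} : Set G) := hsupE ▸ iSup_le h1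
      refine Subgroup.mem_centralizer_iff.mpr ?_
      intro h hh
      have := h3 hh
      rw [Subgroup.mem_centralizer_singleton_iff] at this
      exact this
    · exact le_inf inf_le_left (inf_le_right.trans (Subgroup.centralizer_le hRH))
  refine ⟨hp23, ?_, ?_, hsupE, ?_, ?_⟩
  · rintro ⟨E, hE⟩
    obtain ⟨A, hAH, hA, rfl⟩ := hE.exists
    obtain ⟨-, hiso, hc, -⟩ := E_direct_factor S hS3 hAH hA
    exact ⟨(H_facts S hS3 hAH hA).1, hiso, hc⟩
  · -- independence of the `E`'s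
    rintro ⟨E₀, hE₀⟩
    obtain ⟨A, hAH, hA, rfl⟩ := hE₀.exists
    rw [disjoint_iff, eq_bot_iff]
    obtain ⟨-, -, -, hff, -⟩ := E_facts S hAH hA
    rw [← hff]
    refine le_inf inf_le_left (inf_le_right.trans ?_)
    refine iSup_le ?_
    rintro ⟨E, hE⟩
    refine iSup_le ?_
    intro hne
    obtain ⟨B, hBH, hB, rfl⟩ := hE.exists
    have hne' : EG p H B ≠ EG p H A := fun h => hne (Subtype.ext h)
    exact (E_ne_facts S hAH hA hBH hB hne').1
  · -- independence of the commutators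
    intro o
    rw [disjoint_iff, eq_bot_iff]
    cases o with
    | none =>
      show (V ⊓ Subgroup.centralizer (H : Set G)) ⊓ _ ≤ ⊥
      rw [← h55.1, hCR, hVR]
      refine le_inf inf_le_left (inf_le_right.trans ?_)
      refine iSup_le ?_
      intro o'
      refine iSup_le ?_
      intro hne
      cases o' with
      | none => exact absurd rfl hne
      | some E => exact le_iSup (fun E : {E : Subgroup G // IsE p V H E} => ⁅V, (E : Subgroup G)⁆) E
    | some E₀ =>
      obtain ⟨E₀, hE₀⟩ := E₀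
      obtain ⟨A, hAH, hA, rfl⟩ := hE₀.exists
      show ⁅V, EG p H A⁆ ⊓ _ ≤ ⊥
      obtain ⟨hEAH, -, -, -, -, hUW, -⟩ := E_facts S hAH hA
      rw [← hUW, inf_comm (V ⊓ Subgroup.centralizer (EG p H A : Set G))]
      refine le_inf inf_le_left (inf_le_right.trans ?_)
      refine iSup_le ?_
      intro o'
      refine iSup_le ?_
      intro hne
      cases o' with
      | none =>
        show V ⊓ Subgroup.centralizer (H : Set G) ≤ _
        exact le_inf inf_le_left (inf_le_right.trans (Subgroup.centralizer_le hEAH))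
      | some E =>
        obtain ⟨E, hE⟩ := E
        obtain ⟨B, hBH, hB, rfl⟩ := hE.exists
        have hne' : EG p H B ≠ EG p H A := by
          intro h
          apply hne
          congr 1
          exact Subtype.ext h
        exact (E_ne_facts S hAH hA hBH hB hne').2
  · rw [← hVR, ← hCR]
    exact h55.2

end setting

end Cfsg.Agent.Lib.Helper8.FFOff
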