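import Mathlib
import Cfsg.Agent.Lib.Helper8.FFOffF
import Cfsg.Agent.Lib.Helper8.Diag
import Cfsg.Agent.Lib.Helper13.SL2Gen
import Cfsg.Agent.Lib.Helper12.Balance1
import Cfsg.Agent.Lib.Helper1.NormalPComplement
import Cfsg.Agent.Lib.Helper4.Basic

/-!
helper8: a coprime operator group `Y` (exponent `q ≥ 5`) acting on the failure-of-factorization structure
`H = E₁ × ⋯ × E_r`, `E_i ≅ SL₂(p)` (KS 9.3.9/9.3.10).
-/

set_option autoImplicit false
open Subgroup
open scoped Pointwise commutatorElement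

namespace Cfsg.Agent.Lib.Helper8.FFOff

open Cfsg.Agent.Lib.Helper8.ThTwo Cfsg.Agent.Lib.Helper13

section setting
variable {G : Type*} [Group G] [Finite G] {p : ℕ} [hp : Fact p.Prime]

omit [Finite G] hp in
theorem QG_map_cj {H : Subgroup G} {g : G} (hg : g ∈ Subgroup.normalizer (H : Set G)) :
    (QG p H).map (cj g) = QG p H := by
  have hH : H.map (cj g) = H := map_cj_eq_self_of_mem_normalizer hg
  have h1 := Cfsg.Agent.Lib.Helper12.map_pPrimeCore_subtype_map_equiv p (MulAut.conj g) H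
  change (QG p H).map (cj g) = (Cfsg.pPrimeCore p ↥(H.map (cj g))).map (H.map (cj g)).subtype at h1
  rw [h1, hH]

omit [Finite G] hp in
theorem isE_map_cj {V H E : Subgroup G} {g : G} (hgV : g ∈ Subgroup.normalizer (V : Set G))
    (hgH : g ∈ Subgroup.normalizer (H : Set G)) (hE : IsE p V H E) : IsE p V H (E.map (cj g)) := by
  obtain ⟨A, hAH, hA, rfl⟩ := hE.exists
  have hH : H.map (cj g) = H := map_cj_eq_self_of_mem_normalizer hgH
  have hA'H : A.map (cj g) ≤ H := by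
    rw [← hH]
    exact Subgroup.map_mono hAH
  have h1 := isE_EG (p := p) hA'H (hA.map_cj hgV)
  have e : EG p H (A.map (cj g)) = (EG p H A).map (cj g) := by
    show ⁅QG p H, A.map (cj g)⁆ ⊔ A.map (cj g) = (⁅QG p H, A⁆ ⊔ A).map (cj g)
    rw [map_cj_sup, map_cj_commutator, QG_map_cj hgH]
  rw [← e]
  exact h1

/-- distinct `E`'s commute -/
theorem E_ne_comm {V H : Subgroup G} (S : FFSetting p V H) {E E' : Subgroup G} (hE : IsE p V H E)
    (hE' : IsE p V H E') (hne : E' ≠ E) :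
    E' ≤ Subgroup.centralizer (E : Set G) ∧ E' ≤ Subgroup.centralizer ((⁅V, E⁆ : Subgroup G) : Set G) ∧
      ⁅V, E'⁆ ≤ V ⊓ Subgroup.centralizer (E : Set G) := by
  have hp' : p.Prime := hp.out
  obtain ⟨A, hAH, hA, rfl⟩ := hE.exists
  obtain ⟨B, hBH, hB, rfl⟩ := hE'.exists
  rcases E_dichotomy S hAH hA hBH hB with ⟨h1, h2⟩ | ⟨-, h2, h3, h4⟩
  · exfalso
    rcases E_dichotomy S hBH hB hAH hA with ⟨h1', -⟩ | ⟨h5, -⟩
    · exact hne (le_antisymm h1 h1')
    · rw [h2, inf_idem] at h5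
      obtain ⟨-, hc, -⟩ := E_facts S hBH hB
      rw [h5, Subgroup.card_bot] at hc
      have : 1 < p ^ 2 := Nat.one_lt_pow (by norm_num) hp'.one_lt
      omega
  · exact ⟨h2, h3, h4⟩

omit hp in
/-- an element of prime order `q ≥ 5` normalizing a group of order `4` or `9` centralizes it -/
theorem mem_centralizer_of_pow_prime {W : Subgroup G} (hp23 : p = 2 ∨ p = 3) (hW : Nat.card W = p ^ 2)
    {q : ℕ} [hq : Fact q.Prime] (hq2 : q ≠ 2) (hq3 : q ≠ 3) {y : G}
    (hyW : y ∈ Subgroup.normalizer (W : Set G)) (hyq : y ^ q = 1) :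
    y ∈ Subgroup.centralizer (W : Set G) := by
  have hq5 : 5 ≤ q := Nat.Prime.five_le_of_ne_two_of_ne_three hq.out hq2 hq3
  set φ : MulAut ↥W := W.normalizerMonoidHom ⟨y, hyW⟩ with hφdef
  have hφ : φ ^ q = 1 := by
    rw [hφdef, ← map_pow]
    have : (⟨y, hyW⟩ : ↥(Subgroup.normalizer (W : Set G))) ^ q = 1 := Subtype.ext (by simpa using hyq)
    rw [this, map_one]
  have h1 : φ = 1 := by
    apply Cfsg.Agent.Lib.Helper1.mulAut_eq_one_of_pow_prime_eq_one φ q hφ
    intro d hd hlt hdvd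
    rw [hW] at hd hlt hdvd
    rcases hp23 with rfl | rfl
    · have e4 : (2 : ℕ) ^ 2 = 4 := by norm_num
      rw [e4] at hd hlt hdvd
      have hle : q ≤ 4 - d := Nat.le_of_dvd (by omega) hdvd
      omega
    · have e9 : (3 : ℕ) ^ 2 = 9 := by norm_num
      rw [e9] at hd hlt hdvd
      have hle : q ≤ 9 - d := Nat.le_of_dvd (by omega) hdvd
      have hqp : q.Prime := hq.out
      clear hq
      interval_cases d <;> interval_cases q <;> first | omega | (exfalso; revert hqp; norm_num)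
  rw [Subgroup.mem_centralizer_iff]
  intro w hw
  have h2 : φ ⟨w, hw⟩ = ⟨w, hw⟩ := by rw [h1]; rfl
  have h3 : y * w * y⁻¹ = w := congrArg Subtype.val h2
  calc w * y = (y * w * y⁻¹) * y := by rw [h3]
    _ = y * w := by group

/-- the stabilizer in `Y` of `E` centralizes `E` and `[V, E]` -/
theorem stab_centralizes {V H : Subgroup G} (S : FFSetting p V H) (hp23 : p = 2 ∨ p = 3) {E : Subgroup G}
    (hE : IsE p V H E) {q : ℕ} [hq : Fact q.Prime] (hq2 : q ≠ 2) (hq3 : q ≠ 3) {y : G}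
    (hyV : y ∈ Subgroup.normalizer (V : Set G)) (hyE : y ∈ Subgroup.normalizer (E : Set G))
    (hyq : y ^ q = 1) :
    y ∈ Subgroup.centralizer (E : Set G) ∧ y ∈ Subgroup.centralizer ((⁅V, E⁆ : Subgroup G) : Set G) := by
  obtain ⟨A, hAH, hA, rfl⟩ := hE.exists
  obtain ⟨hEH, hc, -, hff, -⟩ := E_facts S hAH hA
  set E := EG p H A with hEdef
  set W := ⁅V, E⁆ with hWdef
  have hyW : y ∈ Subgroup.normalizer (W : Set G) :=
    Cfsg.Agent.Lib.Helper1.inf_normalizer_le_normalizer_commutator V E ⟨hyV, hyE⟩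
  have hyCW : y ∈ Subgroup.centralizer (W : Set G) := mem_centralizer_of_pow_prime hp23 hc hq2 hq3 hyW hyq
  refine ⟨?_, hyCW⟩
  have hEW : E ≤ Subgroup.normalizer (W : Set G) := E_le_normalizer_commutator S.hHV hEH
  rw [Subgroup.mem_centralizer_iff]
  intro e he
  have hu1 : e⁻¹ * (y * e * y⁻¹) ∈ E :=
    E.mul_mem (E.inv_mem he) ((Subgroup.mem_normalizer_iff.mp hyE e).mp he)
  have hu2 : e⁻¹ * (y * e * y⁻¹) ∈ Subgroup.centralizer (W : Set G) := by
    have hen : e⁻¹ ∈ Subgroup.normalizer ((Subgroup.centralizer (W : Set G) : Subgroup G) : Set G) :=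
      normalizer_le_normalizer_centralizer W (hEW (E.inv_mem he))
    have h1 : e⁻¹ * y * e⁻¹⁻¹ ∈ Subgroup.centralizer (W : Set G) :=
      (Subgroup.mem_normalizer_iff.mp hen y).mp hyCW
    have h2 := (Subgroup.centralizer (W : Set G)).mul_mem h1
      ((Subgroup.centralizer (W : Set G)).inv_mem hyCW)
    have e1 : e⁻¹ * y * e⁻¹⁻¹ * y⁻¹ = e⁻¹ * (y * e * y⁻¹) := by group
    rwa [e1] at h2
  have hu : e⁻¹ * (y * e * y⁻¹) ∈ E ⊓ Subgroup.centralizer (W : Set G) := ⟨hu1, hu2⟩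
  rw [hff, Subgroup.mem_bot] at hu
  have h3 : y * e * y⁻¹ = e := by
    calc y * e * y⁻¹ = e * (e⁻¹ * (y * e * y⁻¹)) := by group
      _ = e := by rw [hu, mul_one]
  calc e * y = (y * e * y⁻¹) * y := by rw [h3]
    _ = y * e := by group

/-- hypotheses of the diagonal construction for `B = E [V, E]` -/
theorem diagHyp_E {V H : Subgroup G} (S : FFSetting p V H) (hp23 : p = 2 ∨ p = 3) {E : Subgroup G}
    (hE : IsE p V H E) {q : ℕ} [hq : Fact q.Prime] (hq2 : q ≠ 2) (hq3 : q ≠ 3) {Y : Subgroup G}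
    (hYV : Y ≤ Subgroup.normalizer (V : Set G)) (hYH : Y ≤ Subgroup.normalizer (H : Set G))
    (hYq : ∀ y ∈ Y, y ^ q = 1) :
    Diag.DiagHyp Y (Y ⊓ Subgroup.normalizer (E : Set G)) (E ⊔ ⁅V, E⁆) := by
  have hVc : ∀ v ∈ V, ∀ w ∈ V, v * w = w * v := Cfsg.Agent.Lib.Helper4.elemAb_comm S.hV
  have hEH : E ≤ H := by
    obtain ⟨A, hAH, hA, rfl⟩ := hE.exists
    exact (E_facts S hAH hA).1
  have hWV : ⁅V, E⁆ ≤ V := Cfsg.Agent.Lib.Helper1.commutator_le_of_le_normalizer (hEH.trans S.hHV)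
  refine ⟨inf_le_left, ?_, ?_⟩
  · rintro y ⟨hyY, hyE⟩ b hb
    obtain ⟨h1, h2⟩ := stab_centralizes S hp23 hE hq2 hq3 (hYV hyY) hyE (hYq y hyY)
    have h3 : Subgroup.zpowers y ≤ Subgroup.centralizer ((E ⊔ ⁅V, E⁆ : Subgroup G) : Set G) :=
      le_centralizer_sup (Subgroup.zpowers_le.mpr h1) (Subgroup.zpowers_le.mpr h2)
    exact ((Subgroup.mem_centralizer_iff.mp (h3 (Subgroup.mem_zpowers y))) b hb).symm
  · intro y hyY hy b hb b' hb'
    have hyE : y ∉ Subgroup.normalizer (E : Set G) := fun h => hy ⟨hyY, h⟩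
    have hE' : IsE p V H (E.map (cj y)) := isE_map_cj (hYV hyY) (hYH hyY) hE
    have hne : E.map (cj y) ≠ E := fun h => hyE (mem_normalizer_of_map_cj_eq h)
    obtain ⟨h1, h2, h3⟩ := E_ne_comm S hE hE' hne
    have hW'V : ⁅V, E.map (cj y)⁆ ≤ V := by
      rw [commutator_map_cj (hYV hyY)]
      exact (Subgroup.map_mono hWV).trans (le_of_eq (map_cj_eq_self_of_mem_normalizer (hYV hyY)))
    have h4 : ⁅V, E.map (cj y)⁆ ≤ Subgroup.centralizer ((⁅V, E⁆ : Subgroup G) : Set G) := by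
      intro w hw
      rw [Subgroup.mem_centralizer_iff]
      intro v hv
      exact hVc v (hWV hv) w (hW'V hw)
    have h5 : E.map (cj y) ⊔ ⁅V, E.map (cj y)⁆ ≤
        Subgroup.centralizer ((E ⊔ ⁅V, E⁆ : Subgroup G) : Set G) :=
      sup_le (le_centralizer_sup h1 h2) (le_centralizer_sup (h3.trans inf_le_right) h4)
    have h6 : y * b' * y⁻¹ ∈ E.map (cj y) ⊔ ⁅V, E.map (cj y)⁆ := by
      rw [commutator_map_cj (hYV hyY), ← map_cj_sup]
      exact ⟨b', hb', rfl⟩
    exact (Subgroup.mem_centralizer_iff.mp (h5 h6)) b hb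

omit hp in
/-- a Sylow-type subgroup meets a normal subgroup in a Sylow-type subgroup -/
theorem not_dvd_relIndex_inf_of_normal {P N R : Subgroup G} (hPR : P ≤ R) (hNR : N ≤ R)
    (hnorm : R ≤ Subgroup.normalizer (N : Set G)) (h : ¬ p ∣ P.relIndex R) :
    ¬ p ∣ (P ⊓ N).relIndex N := by
  rw [Subgroup.inf_relIndex_right,
    ← Cfsg.Agent.Lib.Helper4.relIndex_sup_left_of_le_normalizer P N (hPR.trans hnorm)]
  intro hdvd
  apply h
  rw [← Subgroup.relIndex_mul_relIndex (H := P) (K := P ⊔ N) (L := R) le_sup_left (sup_le hPR hNR)]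
  exact dvd_mul_of_dvd_left hdvd _

omit [Finite G] in
/-- `SL₂(p)` has no proper normal subgroup of index prime to `p` -/
theorem le_of_SL2_of_not_dvd_relIndex {E N : Subgroup G}
    (e : ↥E ≃* Matrix.SpecialLinearGroup (Fin 2) (ZMod p))
    (hnorm : E ≤ Subgroup.normalizer (N : Set G)) (hidx : ¬ p ∣ N.relIndex E) : E ≤ N := by
  have hp' : p.Prime := hp.out
  have hN₀ : (N.subgroupOf E).Normal := Subgroup.normal_subgroupOf_of_le_normalizer hnorm
  have key : ∀ g : ↥E, g ^ p = 1 → g ∈ N.subgroupOf E := by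
    intro g hg
    have h1 : (QuotientGroup.mk g : ↥E ⧸ N.subgroupOf E) ^ p = 1 := by
      rw [← QuotientGroup.mk_pow, hg]
      rfl
    have h2 : (QuotientGroup.mk g : ↥E ⧸ N.subgroupOf E) ^ (N.subgroupOf E).index = 1 := by
      rw [Subgroup.index_eq_card]
      exact pow_card_eq_one'
    have hcop : Nat.Coprime p (N.subgroupOf E).index := (Nat.Prime.coprime_iff_not_dvd hp').mpr hidx
    have h3 := pow_gcd_eq_one.mpr ⟨h1, h2⟩
    rw [hcop.gcd_eq_one, pow_one] at h3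
    exact (QuotientGroup.eq_one_iff g).mp h3
  set N' : Subgroup (Matrix.SpecialLinearGroup (Fin 2) (ZMod p)) := (N.subgroupOf E).map e.toMonoidHom
    with hN'
  have hN'n : N'.Normal := Subgroup.Normal.map hN₀ _ e.surjective
  have hU : ∀ t : ZMod p, tSL t ∈ N' := by
    intro t
    refine ⟨e.symm (tSL t), key _ ?_, by simp⟩
    apply e.injective
    rw [map_pow, e.apply_symm_apply, tSL_pow, CharP.cast_eq_zero, zero_mul, tSL_zero, map_one]
  have htop : N' = ⊤ := unipSL_sup_conj_eq_top (lSL (1 : ZMod p)) (by rw [lSL_coe]; simp) N' hU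
    (fun t => hN'n.conj_mem _ (hU t) _)
  intro x hx
  have h4 : e ⟨x, hx⟩ ∈ N' := htop ▸ Subgroup.mem_top _
  obtain ⟨y, hy, hye⟩ := h4
  have h5 : y = ⟨x, hx⟩ := e.injective hye
  rw [h5] at hy
  exact Subgroup.mem_subgroupOf.mp hy

end setting

end Cfsg.Agent.Lib.Helper8.FFOff
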