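import Mathlib
import Cfsg.Prelude.Def_PLocal

/-!
helper8: "bridging" library.  For a normal subgroup `V` of `G`, the semidirect product
`Γ = V ⋊ (G / C_G(V))` contains a copy `V'` of `V` and a faithful copy of `G / C_G(V)`; this lets one apply
results stated for a subgroup `H ≤ N_G(V)` acting faithfully on `V` (`H ⊓ C_G(V) = ⊥`) to the
non-faithful action of `G` on `V`.
-/

set_option autoImplicit false

namespace Cfsg.Agent.Lib.Helper8.Bridge

open Subgroup

universe u
variable {G : Type u} [Group G] (V : Subgroup G) [V.Normal]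

/-- the quotient `G / C_G(V)` -/
abbrev Qt : Type u := G ⧸ centralizer (V : Set G)

theorem centralizer_le_ker_conjNormal :
    centralizer (V : Set G) ≤ (MulAut.conjNormal (H := V)).ker := by
  intro g hg
  rw [MonoidHom.mem_ker]
  ext v
  rw [MulAut.conjNormal_apply]
  have := (mem_centralizer_iff.mp hg) (v : G) v.2
  simp only [MulAut.one_apply]
  rw [← this, mul_inv_cancel_right]

/-- conjugation action of `G / C_G(V)` on `V` -/
noncomputable def phi : Qt V →* MulAut ↥V :=
  QuotientGroup.lift (centralizer (V : Set G)) (MulAut.conjNormal (H := V))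
    (centralizer_le_ker_conjNormal V)

theorem phi_mk (g : G) (v : V) :
    ((phi V (QuotientGroup.mk g : Qt V)) v : G) = g * v * g⁻¹ := by
  unfold phi
  rw [QuotientGroup.lift_mk, MulAut.conjNormal_apply]

/-- the ambient group `V ⋊ G/C_G(V)` -/
abbrev Gam : Type u := ↥V ⋊[phi V] Qt V

instance [Finite G] : Finite (Gam V) := Finite.of_equiv _ SemidirectProduct.equivProd.symm

/-- embedding of `V` -/
noncomputable def iota : ↥V →* Gam V := SemidirectProduct.inl

/-- the map `G → Γ` with kernel `C_G(V)` -/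
noncomputable def pi : G →* Gam V := SemidirectProduct.inr.comp (QuotientGroup.mk' _)

theorem iota_injective : Function.Injective (iota V) := SemidirectProduct.inl_injective

theorem pi_conj (g : G) (v : V) :
    pi V g * iota V v * (pi V g)⁻¹ = iota V ⟨g * v * g⁻¹, Normal.conj_mem ‹V.Normal› v v.2 g⟩ := by
  unfold pi iota
  rw [MonoidHom.comp_apply, ← map_inv, ← SemidirectProduct.inl_aut]
  congr 1

theorem ker_pi : (pi V).ker = centralizer (V : Set G) := by
  unfold pi
  rw [← MonoidHom.comap_ker, (MonoidHom.ker_eq_bot_iff _).mpr SemidirectProduct.inr_injective]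
  exact QuotientGroup.ker_mk' _

/-- the copy of `V` in `Γ` -/
noncomputable def V' : Subgroup (Gam V) := (iota V).range

instance : (V' V).Normal := by
  unfold V' iota
  rw [SemidirectProduct.range_inl_eq_ker_rightHom]
  infer_instance


theorem mem_V'_iff (x : Gam V) : x ∈ V' V ↔ ∃ v : V, iota V v = x := Iff.rfl

theorem iota_mem (v : V) : iota V v ∈ V' V := ⟨v, rfl⟩

/-- `ι v` commutes with `π a` iff `a` commutes with `v`. -/
theorem commute_iff (a : G) (v : V) :
    pi V a * iota V v = iota V v * pi V a ↔ a * (v : G) = v * a := by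
  constructor
  · intro h
    have h1 : pi V a * iota V v * (pi V a)⁻¹ = iota V v := by rw [h, mul_inv_cancel_right]
    rw [pi_conj] at h1
    have h2 := iota_injective V h1
    have h3 : a * (v : G) * a⁻¹ = v := congrArg Subtype.val h2
    calc a * (v : G) = a * v * a⁻¹ * a := by group
      _ = v * a := by rw [h3]
  · intro h
    have h3 : a * (v : G) * a⁻¹ = v := by rw [h, mul_inv_cancel_right]
    have h1 : pi V a * iota V v * (pi V a)⁻¹ = iota V v := by
      rw [pi_conj]
      congr 1
      exact Subtype.ext h3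
    calc pi V a * iota V v = pi V a * iota V v * (pi V a)⁻¹ * pi V a := by group
      _ = iota V v * pi V a := by rw [h1]

/-- `C_{V'}(π A) = ι (C_V(A))`. -/
theorem V'_inf_centralizer_map (A : Subgroup G) :
    V' V ⊓ centralizer ((A.map (pi V) : Subgroup (Gam V)) : Set (Gam V)) =
      ((V ⊓ centralizer (A : Set G)).subgroupOf V).map (iota V) := by
  ext x
  constructor
  · rintro ⟨⟨v, rfl⟩, hx2⟩
    refine ⟨v, mem_subgroupOf.mpr ⟨v.2, mem_centralizer_iff.mpr ?_⟩, rfl⟩
    intro a ha
    have := (mem_centralizer_iff.mp hx2) (pi V a) (mem_map_of_mem _ ha)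
    exact (commute_iff V a v).mp this
  · rintro ⟨v, hv, rfl⟩
    replace hv := mem_subgroupOf.mp hv
    refine ⟨iota_mem V v, mem_centralizer_iff.mpr ?_⟩
    rintro _ ⟨a, ha, rfl⟩
    exact (commute_iff V a v).mpr ((mem_centralizer_iff.mp hv.2) a ha)

theorem card_V'_inf_centralizer_map (A : Subgroup G) :
    Nat.card ↥(V' V ⊓ centralizer ((A.map (pi V) : Subgroup (Gam V)) : Set (Gam V))) =
      Nat.card ↥(V ⊓ centralizer (A : Set G)) := by
  rw [V'_inf_centralizer_map, card_map_of_injective (iota_injective V)]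
  exact Nat.card_congr (subgroupOfEquivOfLe inf_le_left).toEquiv

theorem card_V' : Nat.card ↥(V' V) = Nat.card V := by
  unfold V'
  rw [MonoidHom.range_eq_map, card_map_of_injective (iota_injective V)]
  exact Nat.card_congr (Subgroup.topEquiv).toEquiv

theorem card_subgroupOf_mul_relIndex {X : Type*} [Group X] (K A : Subgroup X) :
    Nat.card ↥(A ⊓ K) * K.relIndex A = Nat.card A := by
  have h1 : Nat.card ↥(K.subgroupOf A) = Nat.card ↥(A ⊓ K) := by
    rw [← inf_subgroupOf_right, inf_comm]
    exact Nat.card_congr (subgroupOfEquivOfLe inf_le_left).toEquiv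
  rw [← h1]
  exact (K.subgroupOf A).card_mul_index

/-- `|π A| · |A ∩ C_G(V)| = |A|`. -/
theorem card_map_pi_mul (A : Subgroup G) :
    Nat.card ↥(A.map (pi V)) * Nat.card ↥(A ⊓ centralizer (V : Set G)) = Nat.card A := by
  have h1 := relIndex_ker (pi V) (K := A)
  rw [ker_pi] at h1
  rw [← h1, mul_comm]
  exact card_subgroupOf_mul_relIndex _ A

/-- The image of `G` acts faithfully on `V'`. -/
theorem range_pi_inf_centralizer : (pi V).range ⊓ centralizer (V' V : Set (Gam V)) = ⊥ := by
  rw [eq_bot_iff]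
  rintro x ⟨⟨g, rfl⟩, hx⟩
  rw [mem_bot]
  have hg : g ∈ centralizer (V : Set G) := by
    rw [mem_centralizer_iff]
    intro v hv
    have := (mem_centralizer_iff.mp hx) (iota V ⟨v, hv⟩) (iota_mem V _)
    exact ((commute_iff V g ⟨v, hv⟩).mp this.symm).symm
  rw [← ker_pi] at hg
  exact hg

theorem isElementaryAbelian_V' {p : ℕ} (hV : Cfsg.IsElementaryAbelian p V) :
    Cfsg.IsElementaryAbelian p (V' V) := by
  obtain ⟨hc, he⟩ := hV
  constructor
  · constructor
    constructor
    rintro ⟨_, ⟨v, rfl⟩⟩ ⟨_, ⟨w, rfl⟩⟩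
    apply Subtype.ext
    show iota V v * iota V w = iota V w * iota V v
    rw [← map_mul, ← map_mul, hc.is_comm.comm v w]
  · rintro _ ⟨v, rfl⟩
    rw [← map_pow]
    have : v ^ p = 1 := Subtype.ext (by simpa using he v v.2)
    rw [this, map_one]

/-- Best offenders on `V` map to best offenders on `V'`. -/
theorem isBestOffenderOn_map_pi [Finite G] {p : ℕ} (A : Subgroup G) (hA : Cfsg.IsBestOffenderOn p V A) :
    Cfsg.IsBestOffenderOn p (V' V) (A.map (pi V)) := by
  obtain ⟨h1, h2, h3⟩ := hA
  refine ⟨?_, ?_, ?_⟩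
  · intro B' hB'
    set B : Subgroup G := A ⊓ B'.comap (pi V) with hB
    have hBmap : B.map (pi V) = B' := by
      apply le_antisymm
      · rintro _ ⟨b, hb, rfl⟩
        exact hb.2
      · intro x hx
        obtain ⟨a, ha, rfl⟩ := hB' hx
        exact ⟨a, ⟨ha, hx⟩, rfl⟩
    have hBC : B ⊓ centralizer (V : Set G) = A ⊓ centralizer (V : Set G) := by
      apply le_antisymm
      · exact inf_le_inf_right _ inf_le_left
      · intro x hx
        refine ⟨⟨hx.1, ?_⟩, hx.2⟩
        have : x ∈ (pi V).ker := by rw [ker_pi]; exact hx.2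
        show pi V x ∈ B'
        rw [MonoidHom.mem_ker.mp this]
        exact one_mem _
    have e1 := card_map_pi_mul V B
    have e2 := card_map_pi_mul V A
    rw [hBmap, hBC] at e1
    have e3 := card_V'_inf_centralizer_map V B
    rw [hBmap] at e3
    have e4 := card_V'_inf_centralizer_map V A
    have hle := h1 B inf_le_left
    rw [e3, e4]
    have hpos : 0 < Nat.card ↥(A ⊓ centralizer (V : Set G)) := Nat.card_pos
    apply Nat.le_of_mul_le_mul_right _ hpos
    calc Nat.card ↥B' * Nat.card ↥(V ⊓ centralizer (B : Set G)) * Nat.card ↥(A ⊓ centralizer (V : Set G))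
        = (Nat.card ↥B' * Nat.card ↥(A ⊓ centralizer (V : Set G))) * Nat.card ↥(V ⊓ centralizer (B : Set G)) := by ring
      _ = Nat.card B * Nat.card ↥(V ⊓ centralizer (B : Set G)) := by rw [e1]
      _ ≤ Nat.card A * Nat.card ↥(V ⊓ centralizer (A : Set G)) := hle
      _ = (Nat.card ↥(A.map (pi V)) * Nat.card ↥(A ⊓ centralizer (V : Set G))) * Nat.card ↥(V ⊓ centralizer (A : Set G)) := by rw [e2]
      _ = Nat.card ↥(A.map (pi V)) * Nat.card ↥(V ⊓ centralizer (A : Set G)) * Nat.card ↥(A ⊓ centralizer (V : Set G)) := by ring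
  · rw [← map_commutator]
    have : (⁅A, A⁆).map (pi V) = ⊥ := by
      rw [eq_bot_iff]
      rintro _ ⟨x, hx, rfl⟩
      rw [mem_bot, ← MonoidHom.mem_ker, ker_pi]
      exact h2 hx
    rw [this]
    exact bot_le
  · rintro _ ⟨a, ha, rfl⟩
    have : a ^ p ∈ (pi V).ker := by rw [ker_pi]; exact h3 a ha
    rw [← map_pow, MonoidHom.mem_ker.mp this]
    exact one_mem _

/-- pull back a subgroup of the image -/
theorem map_comap_pi (E' : Subgroup (Gam V)) (hE : E' ≤ (pi V).range) :
    (E'.comap (pi V)).map (pi V) = E' := by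
  rw [map_comap_eq, inf_eq_right.mpr hE]

theorem centralizer_le_comap_pi (E' : Subgroup (Gam V)) :
    centralizer (V : Set G) ≤ E'.comap (pi V) := by
  intro x hx
  rw [← ker_pi] at hx
  show pi V x ∈ E'
  rw [MonoidHom.mem_ker.mp hx]
  exact one_mem _

/-- `E / C_G(V) ≃ E'` for `E = π⁻¹ E'`, `E' ≤ π(G)`. -/
theorem nonempty_quotient_comap_equiv (E' : Subgroup (Gam V)) (hE : E' ≤ (pi V).range) :
    ∃ _hn : ((centralizer (V : Set G)).subgroupOf (E'.comap (pi V))).Normal,
      Nonempty ((↥(E'.comap (pi V)) ⧸ (centralizer (V : Set G)).subgroupOf (E'.comap (pi V))) ≃* ↥E') := by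
  refine ⟨inferInstance, ?_⟩
  let f : ↥(E'.comap (pi V)) →* ↥E' :=
    ((pi V).comp (E'.comap (pi V)).subtype).codRestrict E' (fun x => x.2)
  have hf : Function.Surjective f := by
    rintro ⟨y, hy⟩
    obtain ⟨g, rfl⟩ := hE hy
    exact ⟨⟨g, hy⟩, rfl⟩
  have hker : (centralizer (V : Set G)).subgroupOf (E'.comap (pi V)) = f.ker := by
    ext x
    rw [mem_subgroupOf, MonoidHom.mem_ker]
    have hk : (x : G) ∈ centralizer (V : Set G) ↔ pi V (x : G) = 1 := by
      rw [← MonoidHom.mem_ker, ker_pi]
    rw [hk]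
    constructor
    · intro h; exact Subtype.ext h
    · intro h; exact congrArg Subtype.val h
  exact ⟨QuotientGroup.liftEquiv (N := (centralizer (V : Set G)).subgroupOf (E'.comap (pi V))) hf hker⟩

end Cfsg.Agent.Lib.Helper8.Bridge
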