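import Mathlib
import Cfsg.Agent.Lib.Helper8.Bridge
import Cfsg.Agent.Lib.Helper8.DualHH
import Cfsg.Agent.S0606
import Cfsg.Agent.S0602
import Cfsg.Agent.Lib.Helper25.PSolvableSub
import Cfsg.Agent.Lib.Helper16.PCore

/-!
helper8: the failure-of-factorization hypotheses for the image of `J(G)` in `V ⋊ G/C_G(V)`.
-/

set_option autoImplicit false
set_option linter.unusedSectionVars false

namespace Cfsg.Agent.Lib.Helper8.Bridge

open Subgroup

universe u
variable {G : Type u} [Group G] [Finite G] {p : ℕ} [Fact p.Prime] (V : Subgroup G) [V.Normal]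

theorem isPSolvable_Qt (hsep : Cfsg.IsPSolvable p G) : Cfsg.IsPSolvable p (Qt V) :=
  Cfsg.Agent.Lib.Helper24.isPSolvable_of_surjective p (QuotientGroup.mk' _)
    (QuotientGroup.mk'_surjective _) hsep

/-- self-centralizing `p'`-core for the image of a normal subgroup of `G / C_G(V)` -/
theorem hS1_of_normal (hsep : Cfsg.IsPSolvable p G)
    (hO : Cfsg.pCore p (G ⧸ centralizer (V : Set G)) = ⊥)
    (N : Subgroup (Qt V)) [N.Normal] :
    centralizer (Cfsg.pPrimeCore p ↥(N.map (SemidirectProduct.inr : Qt V →* Gam V)) :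
        Set ↥(N.map (SemidirectProduct.inr : Qt V →* Gam V))) ≤
      Cfsg.pPrimeCore p ↥(N.map (SemidirectProduct.inr : Qt V →* Gam V)) := by
  let e : ↥N ≃* ↥(N.map (SemidirectProduct.inr : Qt V →* Gam V)) :=
    N.equivMapOfInjective _ SemidirectProduct.inr_injective
  have h1 : Cfsg.pCore p ↥N = ⊥ := by
    have := Cfsg.Agent.Lib.Helper16.pCoreOf_le_pCore_of_normal (p := p) N
    rw [hO, le_bot_iff, map_eq_bot_iff_of_injective _ N.subtype_injective] at this
    exact this
  have h2 : Cfsg.pCore p ↥(N.map (SemidirectProduct.inr : Qt V →* Gam V)) = ⊥ := by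
    rw [← Cfsg.Agent.Lib.Helper12.pCore_map_equiv' p e, h1, Subgroup.map_bot]
  have h3 : Cfsg.IsPSolvable p ↥(N.map (SemidirectProduct.inr : Qt V →* Gam V)) :=
    Cfsg.Agent.Lib.Helper24.isPSolvable_of_surjective p e.toMonoidHom e.surjective
      (Cfsg.Agent.Lib.Helper25.isPSolvable_subgroup p (isPSolvable_Qt V hsep) N)
  exact Cfsg.Agent.Lib.Helper8.DualHH.centralizer_pPrimeCore_le p h3 h2

theorem map_pi_eq (J : Subgroup G) :
    J.map (pi V) = (J.map (QuotientGroup.mk' (centralizer (V : Set G)))).map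
      (SemidirectProduct.inr : Qt V →* Gam V) := by
  unfold pi
  rw [Subgroup.map_map]

theorem hS1_map_pi (hsep : Cfsg.IsPSolvable p G)
    (hO : Cfsg.pCore p (G ⧸ centralizer (V : Set G)) = ⊥) (J : Subgroup G) [J.Normal] :
    centralizer (Cfsg.pPrimeCore p ↥(J.map (pi V)) : Set ↥(J.map (pi V))) ≤
      Cfsg.pPrimeCore p ↥(J.map (pi V)) := by
  have : (J.map (QuotientGroup.mk' (centralizer (V : Set G)))).Normal :=
    Subgroup.Normal.map inferInstance _ (QuotientGroup.mk'_surjective _)
  have := hS1_of_normal V hsep hO (J.map (QuotientGroup.mk' (centralizer (V : Set G))))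
  rw [map_pi_eq]
  exact this

theorem thompson_map_pi_eq_iSup (hV : Cfsg.IsElementaryAbelian p V) :
    (Cfsg.thompsonSubgroup p G).map (pi V) =
      ⨆ A : {A : Subgroup (Gam V) // A ≤ (Cfsg.thompsonSubgroup p G).map (pi V) ∧
        Cfsg.IsBestOffenderOn p (V' V) A}, (A : Subgroup (Gam V)) := by
  apply le_antisymm
  · rw [map_le_iff_le_comap]
    unfold Cfsg.thompsonSubgroup
    apply sSup_le
    intro A hA
    rw [← map_le_iff_le_comap]
    have hbo := isBestOffenderOn_map_pi V A (Cfsg.Agent.S0606.result V hV A hA)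
    have hle : A.map (pi V) ≤ (sSup (Cfsg.maxElementaryAbelianSubgroups p G)).map (pi V) :=
      map_mono (le_sSup hA)
    exact le_iSup_of_le (⟨A.map (pi V), hle, hbo⟩ : {A : Subgroup (Gam V) //
      A ≤ (sSup (Cfsg.maxElementaryAbelianSubgroups p G)).map (pi V) ∧
        Cfsg.IsBestOffenderOn p (V' V) A}) le_rfl
  · exact iSup_le (fun A => A.2.1)

theorem thompson_map_pi_le_normalizer :
    (Cfsg.thompsonSubgroup p G).map (pi V) ≤ normalizer ((V' V : Subgroup (Gam V)) : Set (Gam V)) := by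
  rw [normalizer_eq_top]
  exact le_top

theorem map_pi_inf_centralizer (J : Subgroup G) :
    J.map (pi V) ⊓ centralizer ((V' V : Subgroup (Gam V)) : Set (Gam V)) = ⊥ := by
  rw [eq_bot_iff, ← range_pi_inf_centralizer V]
  exact inf_le_inf_right _ (map_le_range _ _)

theorem thompson_map_pi_ne_bot
    (hJ : ¬ Cfsg.thompsonSubgroup p G ≤ centralizer (V : Set G)) :
    (Cfsg.thompsonSubgroup p G).map (pi V) ≠ ⊥ := by
  intro h
  apply hJ
  rw [← ker_pi]
  exact (Subgroup.map_eq_bot_iff _).mp h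

instance thompson_normal : (Cfsg.thompsonSubgroup p G).Normal := by
  have := (Cfsg.Agent.S0602.result (G := G) (p := p)).1
  infer_instance

end Cfsg.Agent.Lib.Helper8.Bridge
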