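import Mathlib
import Cfsg.Agent.Lib.Helper8.FFCoprime

/-!
helper8: KS 9.3.9/9.3.10 in the faithful setting: coprime operators and the structure `H = E₁ × ⋯ × E_r`.
-/

set_option autoImplicit false
open Subgroup
open scoped Pointwise commutatorElement

namespace Cfsg.Agent.Lib.Helper8.FFOff

open Cfsg.Agent.Lib.Helper8.ThTwo Cfsg.Agent.Lib.Helper13

section setting
variable {G : Type*} [Group G] [Finite G] {p : ℕ} [hp : Fact p.Prime]

/-- facts about the diagonal element `d(e)` -/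
theorem diag_E_facts {V H : Subgroup G} (S : FFSetting p V H) (hp23 : p = 2 ∨ p = 3) {E : Subgroup G}
    (hE : IsE p V H E) {q : ℕ} [hq : Fact q.Prime] (hq2 : q ≠ 2) (hq3 : q ≠ 3) {Y : Subgroup G}
    (hYV : Y ≤ Subgroup.normalizer (V : Set G)) (hYH : Y ≤ Subgroup.normalizer (H : Set G))
    (hYq : ∀ y ∈ Y, y ^ q = 1) (e : G) (he : e ∈ E) :
    ∃ c : G, c ∈ H ∧ c ∈ Subgroup.centralizer (E : Set G) ∧
      e * c ∈ H ⊓ Subgroup.centralizer (Y : Set G) := by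
  have hD := diagHyp_E S hp23 hE hq2 hq3 hYV hYH hYq
  have hEH : E ≤ H := by
    obtain ⟨A, hAH, hA, rfl⟩ := hE.exists
    exact (E_facts S hAH hA).1
  obtain ⟨c, hc, hdc⟩ := Diag.diag_eq_mul hD E ⟨e, Subgroup.mem_sup_left he⟩ he
  have hle : (⨆ y : {y : G // y ∈ Y ∧ y ∉ Y ⊓ Subgroup.normalizer (E : Set G)}, E.map (cj y.1)) ≤
      H ⊓ Subgroup.centralizer (E : Set G) := by
    apply iSup_le
    rintro ⟨y, hyY, hy⟩
    have hyE : y ∉ Subgroup.normalizer (E : Set G) := fun h => hy ⟨hyY, h⟩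
    have hE' : IsE p V H (E.map (cj y)) := isE_map_cj (hYV hyY) (hYH hyY) hE
    have hne : E.map (cj y) ≠ E := fun h => hyE (mem_normalizer_of_map_cj_eq h)
    obtain ⟨h1, -, -⟩ := E_ne_comm S hE hE' hne
    refine le_inf ?_ h1
    rw [← map_cj_eq_self_of_mem_normalizer (hYH hyY)]
    exact Subgroup.map_mono hEH
  have hcH := (hle hc).1
  have hcE := (hle hc).2
  refine ⟨c, hcH, hcE, Subgroup.mem_inf.mpr ⟨H.mul_mem (hEH he) hcH, ?_⟩⟩
  rw [Subgroup.mem_centralizer_iff]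
  intro z hz
  have := Diag.diag_commute hD ⟨e, Subgroup.mem_sup_left he⟩ z hz
  rw [hdc] at this
  exact this

/-- **KS 9.3.9, faithful form**: `H` is generated by `C_H(Y)` and a Sylow `p`-subgroup -/
theorem le_of_coprime_operator {V H : Subgroup G} (S : FFSetting p V H)
    (hS3 : H = ⨆ A : {A : Subgroup G // A ≤ H ∧ Cfsg.IsBestOffenderOn p V A}, (A : Subgroup G))
    {q : ℕ} [hq : Fact q.Prime] (hq2 : q ≠ 2) (hq3 : q ≠ 3) {Y : Subgroup G}
    (hYV : Y ≤ Subgroup.normalizer (V : Set G)) (hYH : Y ≤ Subgroup.normalizer (H : Set G))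
    (hYq : ∀ y ∈ Y, y ^ q = 1) (T P : Subgroup G)
    (hT : H ⊓ Subgroup.centralizer (Y : Set G) ≤ T) (hPT : P ≤ T)
    (hP : ¬ p ∣ (P ⊓ H).relIndex H) : H ≤ T := by
  by_cases hH1 : H = ⊥
  · rw [hH1]; exact bot_le
  obtain ⟨hp23, hEprops, -, hsup, -, -⟩ := ff_structure S hS3 hH1
  rw [← hsup]
  apply iSup_le
  rintro ⟨E, hE⟩
  show E ≤ T
  obtain ⟨hHE, ⟨e⟩, -⟩ := hEprops ⟨E, hE⟩
  have hEH : E ≤ H := by
    obtain ⟨A, hAH, hA, rfl⟩ := hE.exists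
    exact (E_facts S hAH hA).1
  -- `P ⊓ E` is a Sylow subgroup of `E`
  have hPE : ¬ p ∣ (P ⊓ E).relIndex E := by
    have h1 := not_dvd_relIndex_inf_of_normal (p := p) (P := P ⊓ H) (N := E) (R := H) inf_le_right hEH hHE hP
    have e1 : P ⊓ H ⊓ E = P ⊓ E := by rw [inf_assoc, inf_eq_right.mpr hEH]
    rwa [e1] at h1
  -- the normal closure of `P ⊓ E` in `E`
  set N : Subgroup G := ⨆ x : ↥E, (P ⊓ E).map (cj (x : G)) with hN
  have hNE : N ≤ E := by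
    apply iSup_le
    intro x
    rintro _ ⟨g, hg, rfl⟩
    exact E.mul_mem (E.mul_mem x.2 hg.2) (E.inv_mem x.2)
  have hPN : P ⊓ E ≤ N := by
    refine le_trans ?_ (le_iSup (fun x : ↥E => (P ⊓ E).map (cj (x : G))) 1)
    rw [Subgroup.coe_one, map_cj_one]
  have hEN : E ≤ Subgroup.normalizer (N : Set G) := by
    intro x hx
    apply mem_normalizer_of_map_cj_eq
    apply le_antisymm
    · rw [hN, Subgroup.map_iSup]
      apply iSup_le
      intro x'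
      rw [map_cj_map_cj]
      exact le_iSup (fun x : ↥E => (P ⊓ E).map (cj (x : G))) ⟨x * x', E.mul_mem hx x'.2⟩
    · rw [hN]
      apply iSup_le
      intro x'
      have h1 : (P ⊓ E).map (cj (x' : G)) = ((P ⊓ E).map (cj (x⁻¹ * x'))).map (cj x) := by
        rw [map_cj_map_cj, mul_inv_cancel_left]
      rw [h1]
      apply Subgroup.map_mono
      exact le_iSup (fun x : ↥E => (P ⊓ E).map (cj (x : G))) ⟨x⁻¹ * x', E.mul_mem (E.inv_mem hx) x'.2⟩
  have hNidx : ¬ p ∣ N.relIndex E := fun h => hPE (dvd_trans h (Subgroup.relIndex_dvd_of_le_left E hPN))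
  have hEN' : E ≤ N := le_of_SL2_of_not_dvd_relIndex e hEN hNidx
  refine hEN'.trans ?_
  rw [hN]
  apply iSup_le
  rintro ⟨x, hx⟩
  rintro _ ⟨g, hg, rfl⟩
  obtain ⟨c, -, hcE, hd⟩ := diag_E_facts S hp23 hE hq2 hq3 hYV hYH hYq x hx
  have hdT : x * c ∈ T := hT hd
  have hgT : g ∈ T := hPT hg.1
  have hcg : g * c = c * g := (Subgroup.mem_centralizer_iff.mp hcE) g hg.2
  have e1 : cj x g = (x * c) * g * (x * c)⁻¹ := by
    rw [cj_apply]
    calc x * g * x⁻¹ = x * (g * c) * c⁻¹ * x⁻¹ := by group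
      _ = x * (c * g) * c⁻¹ * x⁻¹ := by rw [hcg]
      _ = (x * c) * g * (x * c)⁻¹ := by group
  show cj x g ∈ T
  rw [e1]
  exact T.mul_mem (T.mul_mem hdT hgT) (T.inv_mem hdT)

/-- **KS 9.3.10, faithful form**: `C(Y)` contains a plane `W'` of `V` and a copy of `SL₂(p)` in `H` acting
faithfully on it -/
theorem exists_fixed_plane {V H : Subgroup G} (S : FFSetting p V H)
    (hS3 : H = ⨆ A : {A : Subgroup G // A ≤ H ∧ Cfsg.IsBestOffenderOn p V A}, (A : Subgroup G))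
    (hH1 : H ≠ ⊥) {q : ℕ} [hq : Fact q.Prime] (hq2 : q ≠ 2) (hq3 : q ≠ 3) {Y : Subgroup G}
    (hYV : Y ≤ Subgroup.normalizer (V : Set G)) (hYH : Y ≤ Subgroup.normalizer (H : Set G))
    (hYq : ∀ y ∈ Y, y ^ q = 1) :
    (p = 2 ∨ p = 3) ∧ ∃ W' D' : Subgroup G, W' ≤ V ⊓ Subgroup.centralizer (Y : Set G) ∧
      D' ≤ H ⊓ Subgroup.centralizer (Y : Set G) ∧ Nat.card W' = p ^ 2 ∧
      D' ≤ Subgroup.normalizer (W' : Set G) ∧ D' ⊓ Subgroup.centralizer (W' : Set G) = ⊥ ∧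
      Nonempty (↥D' ≃* Matrix.SpecialLinearGroup (Fin 2) (ZMod p)) := by
  obtain ⟨hp23, hEprops, -, hsup, -, -⟩ := ff_structure S hS3 hH1
  refine ⟨hp23, ?_⟩
  have hne : Nonempty {E : Subgroup G // IsE p V H E} := by
    by_contra hemp
    rw [not_nonempty_iff] at hemp
    rw [iSup_of_empty] at hsup
    exact hH1 hsup.symm
  obtain ⟨⟨E, hE⟩⟩ := hne
  obtain ⟨hHE, ⟨e⟩, hcW⟩ := hEprops ⟨E, hE⟩
  have hfacts : E ≤ H ∧ E ⊓ Subgroup.centralizer ((⁅V, E⁆ : Subgroup G) : Set G) = ⊥ ∧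
      (V ⊓ Subgroup.centralizer (E : Set G)) ⊓ ⁅V, E⁆ = ⊥ := by
    obtain ⟨A, hAH, hA, rfl⟩ := hE.exists
    obtain ⟨h1, -, -, h4, -, h6, -⟩ := E_facts S hAH hA
    exact ⟨h1, h4, h6⟩
  obtain ⟨hEH, hff, hUW⟩ := hfacts
  have hWV : ⁅V, E⁆ ≤ V := Cfsg.Agent.Lib.Helper1.commutator_le_of_le_normalizer (hEH.trans S.hHV)
  have hEW : E ≤ Subgroup.normalizer ((⁅V, E⁆ : Subgroup G) : Set G) := E_le_normalizer_commutator S.hHV hEH
  have hD := diagHyp_E S hp23 hE hq2 hq3 hYV hYH hYq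
  -- the restrictions of the diagonal map
  let dW : ↥(⁅V, E⁆ : Subgroup G) →* G := (Diag.diag hD).comp (Subgroup.inclusion le_sup_right)
  let dE : ↥E →* G := (Diag.diag hD).comp (Subgroup.inclusion le_sup_left)
  have hdY : ∀ b : ↥(E ⊔ ⁅V, E⁆), Diag.diag hD b ∈ Subgroup.centralizer (Y : Set G) := by
    intro b
    rw [Subgroup.mem_centralizer_iff]
    intro z hz
    exact Diag.diag_commute hD b z hz
  have k1 : ∀ w : ↥(⁅V, E⁆ : Subgroup G), ∃ c ∈ V ⊓ Subgroup.centralizer (E : Set G), dW w = (w : G) * c := by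
    intro w
    obtain ⟨c, hc, hdc⟩ := Diag.diag_eq_mul hD ⁅V, E⁆ (Subgroup.inclusion le_sup_right w) w.2
    refine ⟨c, ?_, hdc⟩
    refine (iSup_le ?_ : (⨆ y : {y : G // y ∈ Y ∧ y ∉ Y ⊓ Subgroup.normalizer (E : Set G)},
      (⁅V, E⁆ : Subgroup G).map (cj y.1)) ≤ V ⊓ Subgroup.centralizer (E : Set G)) hc
    rintro ⟨y, hyY, hy⟩
    have hyE : y ∉ Subgroup.normalizer (E : Set G) := fun h => hy ⟨hyY, h⟩
    have hE' : IsE p V H (E.map (cj y)) := isE_map_cj (hYV hyY) (hYH hyY) hE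
    have hne : E.map (cj y) ≠ E := fun h => hyE (mem_normalizer_of_map_cj_eq h)
    obtain ⟨-, -, h3⟩ := E_ne_comm S hE hE' hne
    rw [← commutator_map_cj (hYV hyY)]
    exact h3
  have k2 : Function.Injective dW := by
    rw [injective_iff_map_eq_one]
    intro w hw
    obtain ⟨c, hc, hdc⟩ := k1 w
    rw [hw] at hdc
    have h1 : (w : G) = c⁻¹ := eq_inv_of_mul_eq_one_left hdc.symm
    have h2 : (w : G) ∈ (V ⊓ Subgroup.centralizer (E : Set G)) ⊓ ⁅V, E⁆ :=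
      ⟨h1 ▸ Subgroup.inv_mem _ hc, w.2⟩
    rw [hUW, Subgroup.mem_bot] at h2
    exact Subtype.ext h2
  have k3 : ∀ x : ↥E, ∃ c ∈ H, dE x = (x : G) * c := by
    intro x
    obtain ⟨c, hc, hdc⟩ := Diag.diag_eq_mul hD E (Subgroup.inclusion le_sup_left x) x.2
    refine ⟨c, ?_, hdc⟩
    refine (iSup_le ?_ : (⨆ y : {y : G // y ∈ Y ∧ y ∉ Y ⊓ Subgroup.normalizer (E : Set G)},
      E.map (cj y.1)) ≤ H) hc
    rintro ⟨y, hyY, hy⟩
    rw [← map_cj_eq_self_of_mem_normalizer (hYH hyY)]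
    exact Subgroup.map_mono hEH
  have k4 : ∀ (x : ↥E) (w : ↥(⁅V, E⁆ : Subgroup G)),
      dE x * dW w * (dE x)⁻¹ = dW ⟨(x : G) * w * (x : G)⁻¹,
        (Subgroup.mem_normalizer_iff.mp (hEW x.2) _).mp w.2⟩ := by
    intro x w
    show Diag.diag hD _ * Diag.diag hD _ * (Diag.diag hD _)⁻¹ = Diag.diag hD _
    rw [← map_mul, ← map_inv, ← map_mul]
    congr 1
  have k5 : ∀ x : ↥E, dE x ∈ Subgroup.centralizer ((dW.range : Subgroup G) : Set G) → x = 1 := by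
    intro x hx
    have h1 : (x : G) ∈ E ⊓ Subgroup.centralizer ((⁅V, E⁆ : Subgroup G) : Set G) := by
      refine Subgroup.mem_inf.mpr ⟨x.2, ?_⟩
      rw [Subgroup.mem_centralizer_iff]
      intro w hw
      have h2 := (Subgroup.mem_centralizer_iff.mp hx) (dW ⟨w, hw⟩) ⟨_, rfl⟩
      have h3 : dE x * dW ⟨w, hw⟩ * (dE x)⁻¹ = dW ⟨w, hw⟩ := by
        rw [← h2, mul_inv_cancel_right]
      rw [k4] at h3
      have h4 := congrArg Subtype.val (k2 h3)
      have h5 : (x : G) * w * (x : G)⁻¹ = w := h4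
      calc w * (x : G) = ((x : G) * w * (x : G)⁻¹) * x := by rw [h5]
        _ = x * w := by group
    rw [hff, Subgroup.mem_bot] at h1
    exact Subtype.ext h1
  have k6 : Function.Injective dE := by
    rw [injective_iff_map_eq_one]
    intro x hx
    apply k5
    rw [hx]
    exact Subgroup.one_mem _
  refine ⟨dW.range, dE.range, ?_, ?_, ?_, ?_, ?_, ?_⟩
  · rintro _ ⟨w, rfl⟩
    refine ⟨?_, hdY _⟩
    obtain ⟨c, hc, hdc⟩ := k1 w
    rw [hdc]
    exact V.mul_mem (hWV w.2) hc.1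
  · rintro _ ⟨x, rfl⟩
    refine ⟨?_, hdY _⟩
    obtain ⟨c, hc, hdc⟩ := k3 x
    rw [hdc]
    exact H.mul_mem (hEH x.2) hc
  · rw [← hcW]
    exact (Nat.card_congr (MonoidHom.ofInjective k2).toEquiv).symm
  · apply le_normalizer_of_conj_mem
    rintro _ ⟨x, rfl⟩ _ ⟨w, rfl⟩
    rw [k4]
    exact ⟨_, rfl⟩
  · rw [eq_bot_iff]
    rintro _ ⟨⟨x, rfl⟩, hx⟩
    rw [Subgroup.mem_bot, k5 x hx, map_one]
  · exact ⟨(MonoidHom.ofInjective k6).symm.trans e⟩

end setting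

end Cfsg.Agent.Lib.Helper8.FFOff
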