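import Mathlib
import Cfsg.Agent.Lib.Helper8.BridgeFF
import Cfsg.Agent.Lib.Helper8.FFCoprime2
import Cfsg.Agent.Lib.Helper1.Coprime
import Cfsg.Agent.Lib.Helper13.SL2
import Cfsg.Agent.Lib.Helper4.Basic

/-!
helper8: KS 9.3.9/9.3.10 for a group `G` with a normal elementary abelian `V`, `O_p(G/C_G(V)) = 1`,
a normal `p`-solvable subgroup `K ≥ J(G)` and a coprime operator group `X ≤ G`.
-/

set_option autoImplicit false
set_option linter.unusedSectionVars false

namespace Cfsg.Agent.Lib.Helper8.Bridge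

open Subgroup Cfsg.Agent.Lib.Helper8.FFOff

universe u
variable {G : Type u} [Group G] [Finite G] {p : ℕ} [Fact p.Prime] (V : Subgroup G) [V.Normal]

/-- self-centralizing `p'`-core for the image of a normal `p`-solvable subgroup of `G / C_G(V)` -/
theorem hS1_of_normal' (hO : Cfsg.pCore p (G ⧸ centralizer (V : Set G)) = ⊥)
    (N : Subgroup (Qt V)) [N.Normal] (hN : Cfsg.IsPSolvable p ↥N) :
    centralizer (Cfsg.pPrimeCore p ↥(N.map (SemidirectProduct.inr : Qt V →* Gam V)) :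
        Set ↥(N.map (SemidirectProduct.inr : Qt V →* Gam V))) ≤
      Cfsg.pPrimeCore p ↥(N.map (SemidirectProduct.inr : Qt V →* Gam V)) := by
  let e : ↥N ≃* ↥(N.map (SemidirectProduct.inr : Qt V →* Gam V)) :=
    N.equivMapOfInjective _ SemidirectProduct.inr_injective
  have h1 : Cfsg.pCore p ↥N = ⊥ := by
    have := Cfsg.Agent.Lib.Helper16.pCoreOf_le_pCore_of_normal (p := p) N
    rw [hO, le_bot_iff, map_eq_bot_iff_of_injective _ N.subtype_injective] at this
    exact this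
  have h2 : Cfsg.pCore p ↥(N.map (SemidirectProduct.inr : Qt V →* Gam V)) = ⊥ := by
    rw [← Cfsg.Agent.Lib.Helper12.pCore_map_equiv' p e, h1, Subgroup.map_bot]
  have h3 : Cfsg.IsPSolvable p ↥(N.map (SemidirectProduct.inr : Qt V →* Gam V)) :=
    Cfsg.Agent.Lib.Helper24.isPSolvable_of_surjective p e.toMonoidHom e.surjective hN
  exact Cfsg.Agent.Lib.Helper8.DualHH.centralizer_pPrimeCore_le p h3 h2

theorem hS1_map_pi' (hO : Cfsg.pCore p (G ⧸ centralizer (V : Set G)) = ⊥) (J : Subgroup G) [J.Normal]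
    (hJ : Cfsg.IsPSolvable p ↥J) :
    centralizer (Cfsg.pPrimeCore p ↥(J.map (pi V)) : Set ↥(J.map (pi V))) ≤
      Cfsg.pPrimeCore p ↥(J.map (pi V)) := by
  have : (J.map (QuotientGroup.mk' (centralizer (V : Set G)))).Normal :=
    Subgroup.Normal.map inferInstance _ (QuotientGroup.mk'_surjective _)
  have hs : Cfsg.IsPSolvable p ↥(J.map (QuotientGroup.mk' (centralizer (V : Set G)))) :=
    Cfsg.Agent.Lib.Helper24.isPSolvable_of_surjective p
      ((QuotientGroup.mk' (centralizer (V : Set G))).subgroupMap J)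
      ((QuotientGroup.mk' (centralizer (V : Set G))).subgroupMap_surjective J) hJ
  have := hS1_of_normal' V hO (J.map (QuotientGroup.mk' (centralizer (V : Set G)))) hs
  rw [map_pi_eq]
  exact this

/-- the failure-of-factorization setting for the image of `J(G)` -/
theorem ffSetting_thompson (hVe : Cfsg.IsElementaryAbelian p V)
    (hO : Cfsg.pCore p (G ⧸ centralizer (V : Set G)) = ⊥)
    (hJs : Cfsg.IsPSolvable p ↥(Cfsg.thompsonSubgroup p G)) :
    FFSetting p (V' V) ((Cfsg.thompsonSubgroup p G).map (pi V)) :=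
  ⟨isElementaryAbelian_V' V hVe, thompson_map_pi_le_normalizer V, map_pi_inf_centralizer V _,
    hS1_map_pi' V hO _ hJs⟩

theorem isPSolvable_of_le {K J : Subgroup G} (hKs : Cfsg.IsPSolvable p ↥K) (hJK : J ≤ K) :
    Cfsg.IsPSolvable p ↥J := by
  have h1 := Cfsg.Agent.Lib.Helper25.isPSolvable_subgroup p hKs (J.subgroupOf K)
  exact Cfsg.Agent.Lib.Helper24.isPSolvable_of_surjective p
    (Subgroup.subgroupOfEquivOfLe hJK).toMonoidHom (Subgroup.subgroupOfEquivOfLe hJK).surjective h1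

theorem range_pi_le_normalizer_map (J : Subgroup G) [hJ : J.Normal] :
    (pi V).range ≤ normalizer ((J.map (pi V) : Subgroup (Gam V)) : Set (Gam V)) := by
  apply le_normalizer_of_conj_mem
  rintro _ ⟨g, rfl⟩ _ ⟨j, hj, rfl⟩
  refine ⟨g * j * g⁻¹, hJ.conj_mem j hj g, ?_⟩
  rw [map_mul, map_mul, map_inv]

/-- coprime lifting of fixed points -/
theorem exists_lift_centralizer (K X J : Subgroup G) [hK : K.Normal] (hJK : J ≤ K) {q : ℕ} [hq : Fact q.Prime]
    (hX : IsPGroup q X) (hqK : ¬ q ∣ Nat.card K) (h : Gam V)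
    (hh : h ∈ J.map (pi V) ⊓ centralizer ((X.map (pi V) : Subgroup (Gam V)) : Set (Gam V))) :
    ∃ k ∈ K ⊓ centralizer (X : Set G), pi V k = h := by
  obtain ⟨⟨j, hj, rfl⟩, hc⟩ := Subgroup.mem_inf.mp hh
  have hj : j ∈ J := hj
  have hc : pi V j ∈ centralizer ((X.map (pi V) : Subgroup (Gam V)) : Set (Gam V)) := hc
  have hCn : (centralizer (V : Set G)).Normal := inferInstance
  have hNn : (K ⊓ centralizer (V : Set G)).Normal := inferInstance
  have hnorm : X ≤ normalizer ((K ⊓ centralizer (V : Set G) : Subgroup G) : Set G) := by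
    rw [normalizer_eq_top]
    exact le_top
  have hcop : Nat.Coprime (Nat.card X) (Nat.card ↥(K ⊓ centralizer (V : Set G))) := by
    obtain ⟨n, hn⟩ := IsPGroup.iff_card.mp hX
    rw [hn]
    apply Nat.Coprime.pow_left
    apply Nat.Coprime.coprime_dvd_right (Subgroup.card_dvd_of_le inf_le_left)
    exact (Nat.Prime.coprime_iff_not_dvd hq.out).mpr hqK
  have hsolv : Group.IsSolvable ↥X := by
    have : Group.IsNilpotent ↥X := hX.isNilpotent
    infer_instance
  have hx : ∀ a ∈ X, j⁻¹ * a * j * a⁻¹ ∈ K ⊓ centralizer (V : Set G) := by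
    intro a ha
    refine Subgroup.mem_inf.mpr ⟨?_, ?_⟩
    · have h1 : a * j * a⁻¹ ∈ K := hK.conj_mem j (hJK hj) a
      have h2 := K.mul_mem (K.inv_mem (hJK hj)) h1
      have e : j⁻¹ * (a * j * a⁻¹) = j⁻¹ * a * j * a⁻¹ := by group
      rwa [e] at h2
    · rw [← ker_pi, MonoidHom.mem_ker]
      have h1 := (mem_centralizer_iff.mp hc) (pi V a) (mem_map_of_mem _ ha)
      rw [map_mul, map_mul, map_mul, map_inv, map_inv]
      calc (pi V j)⁻¹ * pi V a * pi V j * (pi V a)⁻¹ = (pi V j)⁻¹ * (pi V a * pi V j) * (pi V a)⁻¹ := by group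
        _ = (pi V j)⁻¹ * (pi V j * pi V a) * (pi V a)⁻¹ := by rw [h1]
        _ = 1 := by group
  obtain ⟨n, hn, hjn⟩ := Cfsg.Agent.Lib.Helper1.exists_mul_mem_centralizer hnorm hcop (Or.inl hsolv) j hx
  refine ⟨j * n, Subgroup.mem_inf.mpr ⟨K.mul_mem (hJK hj) hn.1, hjn⟩, ?_⟩
  have : n ∈ (pi V).ker := by rw [ker_pi]; exact hn.2
  rw [map_mul, MonoidHom.mem_ker.mp this, mul_one]

/-- the order of `K` is divisible by `6` when the factorization fails, so a coprime prime is at least `5` -/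
theorem prime_ne_two_three (hVe : Cfsg.IsElementaryAbelian p V)
    (hO : Cfsg.pCore p (G ⧸ centralizer (V : Set G)) = ⊥)
    (hJ : ¬ Cfsg.thompsonSubgroup p G ≤ centralizer (V : Set G)) (K : Subgroup G)
    (hJK : Cfsg.thompsonSubgroup p G ≤ K) (hKs : Cfsg.IsPSolvable p ↥K) {q : ℕ} [hq : Fact q.Prime]
    (hqK : ¬ q ∣ Nat.card K) : q ≠ 2 ∧ q ≠ 3 := by
  have S := ffSetting_thompson V hVe hO (isPSolvable_of_le hKs hJK)
  obtain ⟨hp23, hEprops, -, hsup, -, -⟩ :=
    ff_structure S (thompson_map_pi_eq_iSup V hVe) (thompson_map_pi_ne_bot V hJ)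
  have hne : Nonempty {E : Subgroup (Gam V) // IsE p (V' V) ((Cfsg.thompsonSubgroup p G).map (pi V)) E} := by
    by_contra hemp
    rw [not_nonempty_iff] at hemp
    rw [iSup_of_empty] at hsup
    exact thompson_map_pi_ne_bot V hJ hsup.symm
  obtain ⟨E⟩ := hne
  obtain ⟨-, ⟨e⟩, -⟩ := hEprops E
  have hEH : (E : Subgroup (Gam V)) ≤ (Cfsg.thompsonSubgroup p G).map (pi V) := by
    refine le_trans ?_ (le_of_eq hsup)
    exact le_iSup (fun E : {E : Subgroup (Gam V) //
      IsE p (V' V) ((Cfsg.thompsonSubgroup p G).map (pi V)) E} => (E : Subgroup (Gam V))) E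
  have hcardE : Nat.card (E : Subgroup (Gam V)) = p * (p ^ 2 - 1) := by
    rw [Nat.card_congr e.toEquiv, Cfsg.Agent.Lib.Helper13.card_SL2, ZMod.card]
  have hdvd : Nat.card (E : Subgroup (Gam V)) ∣ Nat.card K :=
    (Subgroup.card_dvd_of_le hEH).trans ((Subgroup.card_map_dvd _ _).trans (Subgroup.card_dvd_of_le hJK))
  rw [hcardE] at hdvd
  constructor
  · rintro rfl
    apply hqK
    refine dvd_trans ?_ hdvd
    rcases hp23 with rfl | rfl <;> norm_num
  · rintro rfl
    apply hqK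
    refine dvd_trans ?_ hdvd
    rcases hp23 with rfl | rfl <;> norm_num

/-- **KS 9.3.9** in `G`: `J(G)` lies in any subgroup of `K` containing `C_K(V)`, `C_K(X)` and a Sylow
`p`-subgroup of `K` -/
theorem thompson_le_of_coprime_operator (hVe : Cfsg.IsElementaryAbelian p V)
    (hO : Cfsg.pCore p (G ⧸ centralizer (V : Set G)) = ⊥) (K X : Subgroup G) [hK : K.Normal]
    (hJK : Cfsg.thompsonSubgroup p G ≤ K) (hKs : Cfsg.IsPSolvable p ↥K) {q : ℕ} [hq : Fact q.Prime]
    (hXq : ∀ x ∈ X, x ^ q = 1) (hX : IsPGroup q X) (hqK : ¬ q ∣ Nat.card K) (T S : Subgroup G)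
    (hTK : T ≤ K) (hT1 : K ⊓ centralizer (V : Set G) ≤ T) (hT2 : K ⊓ centralizer (X : Set G) ≤ T)
    (hST : S ≤ T) (hS : ¬ p ∣ S.relIndex K) : Cfsg.thompsonSubgroup p G ≤ T := by
  by_cases hJ : Cfsg.thompsonSubgroup p G ≤ centralizer (V : Set G)
  · exact (le_inf hJK hJ).trans hT1
  have hJs := isPSolvable_of_le hKs hJK
  have Sff := ffSetting_thompson V hVe hO hJs
  obtain ⟨hq2, hq3⟩ := prime_ne_two_three V hVe hO hJ K hJK hKs hqK
  set H := (Cfsg.thompsonSubgroup p G).map (pi V) with hH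
  have hRH : (pi V).range ≤ normalizer ((H : Subgroup (Gam V)) : Set (Gam V)) :=
    range_pi_le_normalizer_map V _
  have hYV : X.map (pi V) ≤ normalizer ((V' V : Subgroup (Gam V)) : Set (Gam V)) := by
    rw [normalizer_eq_top]
    exact le_top
  have hYH : X.map (pi V) ≤ normalizer ((H : Subgroup (Gam V)) : Set (Gam V)) :=
    (Subgroup.map_le_range _ _).trans hRH
  have hYq : ∀ y ∈ X.map (pi V), y ^ q = 1 := by
    rintro _ ⟨x, hx, rfl⟩
    rw [← map_pow, hXq x hx, map_one]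
  have hT : H ⊓ centralizer ((X.map (pi V) : Subgroup (Gam V)) : Set (Gam V)) ≤ T.map (pi V) := by
    intro h hh
    obtain ⟨k, hk, rfl⟩ := exists_lift_centralizer V K X _ hJK hX hqK h hh
    exact Subgroup.mem_map_of_mem _ (hT2 hk)
  have hSK : S ≤ K := hST.trans hTK
  have hP0 : ¬ p ∣ (S.map (pi V)).relIndex (K.map (pi V)) := by
    rw [Subgroup.relIndex_map_map]
    have hn : S ⊔ (pi V).ker ≤ normalizer (K : Set G) := by
      rw [normalizer_eq_top]
      exact le_top
    have h1 := Cfsg.Agent.Lib.Helper4.relIndex_sup_left_of_le_normalizer (S ⊔ (pi V).ker) K hn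
    have e1 : S ⊔ (pi V).ker ⊔ K = K ⊔ (pi V).ker := by
      rw [sup_comm, ← sup_assoc, sup_eq_left.mpr hSK]
    rw [e1] at h1
    rw [h1]
    intro hdvd
    exact hS (dvd_trans hdvd (Subgroup.relIndex_dvd_of_le_left K le_sup_left))
  have hP : ¬ p ∣ (S.map (pi V) ⊓ H).relIndex H :=
    not_dvd_relIndex_inf_of_normal (Subgroup.map_mono hSK) (Subgroup.map_mono hJK)
      ((Subgroup.map_le_range _ _).trans hRH) hP0
  have hmain := le_of_coprime_operator Sff (thompson_map_pi_eq_iSup V hVe) hq2 hq3 hYV hYH hYq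
    (T.map (pi V)) (S.map (pi V)) hT (Subgroup.map_mono hST) hP
  intro j hj
  obtain ⟨t, ht, htj⟩ := hmain (Subgroup.mem_map_of_mem _ hj)
  have hk : t⁻¹ * j ∈ K ⊓ centralizer (V : Set G) := by
    refine Subgroup.mem_inf.mpr ⟨K.mul_mem (K.inv_mem (hTK ht)) (hJK hj), ?_⟩
    rw [← ker_pi, MonoidHom.mem_ker, map_mul, map_inv, htj, inv_mul_cancel]
  have : j = t * (t⁻¹ * j) := by group
  rw [this]
  exact T.mul_mem ht (hT1 hk)

/-- **KS 9.3.10** in `G` -/
theorem exists_plane_of_coprime_operator (hVe : Cfsg.IsElementaryAbelian p V)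
    (hO : Cfsg.pCore p (G ⧸ centralizer (V : Set G)) = ⊥)
    (hJ : ¬ Cfsg.thompsonSubgroup p G ≤ centralizer (V : Set G)) (K X : Subgroup G) [hK : K.Normal]
    (hVK : V ≤ K) (hJK : Cfsg.thompsonSubgroup p G ≤ K) (hKs : Cfsg.IsPSolvable p ↥K) {q : ℕ}
    [hq : Fact q.Prime] (hXq : ∀ x ∈ X, x ^ q = 1) (hX : IsPGroup q X) (hqK : ¬ q ∣ Nat.card K) :
    (p = 2 ∨ p = 3) ∧ ∃ W D : Subgroup G, W ≤ K ⊓ centralizer (X : Set G) ∧
      D ≤ K ⊓ centralizer (X : Set G) ∧ Cfsg.IsElementaryAbelian p W ∧ Nat.card W = p ^ 2 ∧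
      D ≤ normalizer (W : Set G) ∧ ∃ hn : ((centralizer (W : Set G)).subgroupOf D).Normal,
        Nonempty ((↥D ⧸ (centralizer (W : Set G)).subgroupOf D) ≃*
          Matrix.SpecialLinearGroup (Fin 2) (ZMod p)) := by
  have hJs := isPSolvable_of_le hKs hJK
  have Sff := ffSetting_thompson V hVe hO hJs
  obtain ⟨hq2, hq3⟩ := prime_ne_two_three V hVe hO hJ K hJK hKs hqK
  set H := (Cfsg.thompsonSubgroup p G).map (pi V) with hH
  have hRH : (pi V).range ≤ normalizer ((H : Subgroup (Gam V)) : Set (Gam V)) :=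
    range_pi_le_normalizer_map V _
  have hYV : X.map (pi V) ≤ normalizer ((V' V : Subgroup (Gam V)) : Set (Gam V)) := by
    rw [normalizer_eq_top]
    exact le_top
  have hYH : X.map (pi V) ≤ normalizer ((H : Subgroup (Gam V)) : Set (Gam V)) :=
    (Subgroup.map_le_range _ _).trans hRH
  have hYq : ∀ y ∈ X.map (pi V), y ^ q = 1 := by
    rintro _ ⟨x, hx, rfl⟩
    rw [← map_pow, hXq x hx, map_one]
  obtain ⟨hp23, W', D', hW', hD', hcW', hDW', hDC', ⟨e⟩⟩ :=
    exists_fixed_plane Sff (thompson_map_pi_eq_iSup V hVe) (thompson_map_pi_ne_bot V hJ) hq2 hq3 hYV hYH hYq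
  refine ⟨hp23, ?_⟩
  -- the plane
  set W : Subgroup G := (W'.comap (iota V)).map V.subtype with hWdef
  have hWV : W ≤ V := Subgroup.map_subtype_le _
  have hW'r : W' ≤ (iota V).range := hW'.trans inf_le_left
  have hmemW : ∀ g : G, g ∈ W ↔ ∃ hg : g ∈ V, iota V ⟨g, hg⟩ ∈ W' := by
    intro g
    constructor
    · rintro ⟨v, hv, rfl⟩
      exact ⟨v.2, hv⟩
    · rintro ⟨hg, h⟩
      exact ⟨⟨g, hg⟩, h, rfl⟩
  have hmemW' : ∀ x ∈ W', ∃ v : V, (v : G) ∈ W ∧ iota V v = x := by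
    intro x hx
    obtain ⟨v, rfl⟩ := hW'r hx
    exact ⟨v, (hmemW v).mpr ⟨v.2, hx⟩, rfl⟩
  -- the group
  set D : Subgroup G := (D'.comap (pi V)) ⊓ (K ⊓ centralizer (X : Set G)) with hDdef
  have hWX : W ≤ K ⊓ centralizer (X : Set G) := by
    intro g hg
    obtain ⟨hgV, hgW'⟩ := (hmemW g).mp hg
    refine Subgroup.mem_inf.mpr ⟨hVK hgV, ?_⟩
    rw [mem_centralizer_iff]
    intro x hx
    have h1 := (mem_centralizer_iff.mp (hW' hgW').2) (pi V x) (Subgroup.mem_map_of_mem _ hx)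
    exact (commute_iff V x ⟨g, hgV⟩).mp h1
  have hcardW : Nat.card W = p ^ 2 := by
    have h1 : Nat.card W = Nat.card (W'.comap (iota V)) :=
      Subgroup.card_map_of_injective V.subtype_injective
    have h2 : Nat.card ((W'.comap (iota V)).map (iota V)) = Nat.card (W'.comap (iota V)) :=
      Subgroup.card_map_of_injective (iota_injective V)
    rw [Subgroup.map_comap_eq_self hW'r] at h2
    rw [h1, ← h2, hcW']
  have hconj : ∀ k ∈ D, ∀ w ∈ W, k * w * k⁻¹ ∈ W := by
    intro k hk w hw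
    obtain ⟨hwV, hwW'⟩ := (hmemW w).mp hw
    have hkD' : pi V k ∈ D' := hk.1
    rw [hmemW]
    refine ⟨Normal.conj_mem ‹V.Normal› w hwV k, ?_⟩
    rw [← pi_conj V k ⟨w, hwV⟩]
    exact (mem_normalizer_iff.mp (hDW' hkD') _).mp hwW'
  have hDW : D ≤ normalizer (W : Set G) := le_normalizer_of_conj_mem hconj
  -- the centralizer of `W` in `D` is the kernel
  have hker : ∀ k ∈ D, (k ∈ centralizer (W : Set G) ↔ pi V k = 1) := by
    intro k hk
    have hkD' : pi V k ∈ D' := hk.1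
    constructor
    · intro hkW
      have h1 : pi V k ∈ D' ⊓ centralizer ((W' : Subgroup (Gam V)) : Set (Gam V)) := by
        refine Subgroup.mem_inf.mpr ⟨hkD', ?_⟩
        rw [mem_centralizer_iff]
        intro x hx
        obtain ⟨v, hvW, rfl⟩ := hmemW' x hx
        have h2 := (mem_centralizer_iff.mp hkW) (v : G) hvW
        exact ((commute_iff V k v).mpr h2.symm).symm
      rw [hDC', Subgroup.mem_bot] at h1
      exact h1
    · intro h1
      have h2 : k ∈ centralizer (V : Set G) := by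
        rw [← ker_pi]
        exact h1
      exact centralizer_le hWV h2
  have hn : ((centralizer (W : Set G)).subgroupOf D).Normal :=
    Subgroup.normal_subgroupOf_of_le_normalizer (hDW.trans (normalizer_le_normalizer_centralizer W))
  refine ⟨W, D, hWX, inf_le_right, Cfsg.Agent.Lib.Helper4.elemAb_mono hWV hVe, hcardW, hDW, hn, ?_⟩
  let f : ↥D →* ↥D' := ((pi V).comp D.subtype).codRestrict D' (fun x => x.2.1)
  have hf : Function.Surjective f := by
    rintro ⟨h, hh⟩
    have hh' := hD' hh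
    obtain ⟨k, hk, rfl⟩ := exists_lift_centralizer V K X _ hJK hX hqK h hh'
    exact ⟨⟨k, Subgroup.mem_inf.mpr ⟨hh, hk⟩⟩, rfl⟩
  have hkerf : (centralizer (W : Set G)).subgroupOf D = f.ker := by
    ext x
    rw [mem_subgroupOf, MonoidHom.mem_ker, hker x.1 x.2]
    constructor
    · intro h; exact Subtype.ext h
    · intro h; exact congrArg Subtype.val h
  exact ⟨(QuotientGroup.liftEquiv (N := (centralizer (W : Set G)).subgroupOf D) hf hkerf).trans e⟩

end Cfsg.Agent.Lib.Helper8.Bridge
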