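import Mathlib
import Cfsg.Prelude.Def_Involutions
import Cfsg.Agent.Lib.Helper8.CIT

/-!
# Groups in which centralizers of involutions are abelian, part A (helper8)

Basic facts: the Sylow 2-subgroups are abelian, they are the "points" of a geometry in which every involution
lies in exactly one point, the centralizer of an involution is the centralizer of its point, and the normalizer of
a point is strongly embedded.
-/

set_option autoImplicit false

namespace Cfsg.Agent.Lib.Helper8.AbInv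

open Cfsg.Agent.Lib.Helper2 Cfsg.Agent.Lib.Helper8

variable {G : Type*} [Group G]

/-- centralizers of involutions are abelian (elementwise form) -/
def AbHyp (G : Type*) [Group G] : Prop :=
  ∀ t : G, orderOf t = 2 → ∀ x y : G, x * t = t * x → y * t = t * y → x * y = y * x

theorem abHyp_of_isMulCommutative
    (h : ∀ t : G, orderOf t = 2 → IsMulCommutative ↥(Subgroup.centralizer ({t} : Set G))) :
    AbHyp G := by
  intro t ht x y hx hy
  have hx' : x ∈ Subgroup.centralizer ({t} : Set G) :=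
    Subgroup.mem_centralizer_singleton_iff.mpr hx
  have hy' : y ∈ Subgroup.centralizer ({t} : Set G) :=
    Subgroup.mem_centralizer_singleton_iff.mpr hy
  have := (h t ht).is_comm.comm ⟨x, hx'⟩ ⟨y, hy'⟩
  exact congrArg Subtype.val this

/-- the hypothesis passes to subgroups -/
theorem AbHyp.subgroup (h : AbHyp G) (Y : Subgroup G) : AbHyp ↥Y := by
  intro t ht x y hx hy
  apply Subtype.ext
  have ht' : orderOf (t : G) = 2 := by rw [Subgroup.orderOf_coe]; exact ht
  exact h (t : G) ht' x y (congrArg Subtype.val hx) (congrArg Subtype.val hy)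

/-- the normalizer of a Sylow 2-subgroup -/
abbrev Nz (P : Sylow 2 G) : Subgroup G := Subgroup.normalizer ((P : Subgroup G) : Set G)

/-- the centralizer of a Sylow 2-subgroup -/
abbrev Cz (P : Sylow 2 G) : Subgroup G := Subgroup.centralizer ((P : Subgroup G) : Set G)

theorem mem_smul_sylow {g x : G} {P : Sylow 2 G} :
    x ∈ ((g • P : Sylow 2 G) : Subgroup G) ↔ g⁻¹ * x * g ∈ (P : Subgroup G) := by
  rw [Sylow.coe_subgroup_smul, Subgroup.mem_pointwise_smul_iff_inv_smul_mem]
  simp [MulAut.smul_def, MulAut.conj_apply, mul_assoc]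

theorem conj_mem_smul_sylow {g x : G} {P : Sylow 2 G} (hx : x ∈ (P : Subgroup G)) :
    g * x * g⁻¹ ∈ ((g • P : Sylow 2 G) : Subgroup G) := by
  rw [mem_smul_sylow]
  have : g⁻¹ * (g * x * g⁻¹) * g = x := by group
  rw [this]; exact hx

theorem smul_eq_iff_mem_Nz {g : G} {P : Sylow 2 G} : g • P = P ↔ g ∈ Nz P :=
  Sylow.smul_eq_iff_mem_normalizer

theorem Cz_le_Nz (P : Sylow 2 G) : Cz P ≤ Nz P := Subgroup.centralizer_le_normalizer _

theorem le_Nz (P : Sylow 2 G) : (P : Subgroup G) ≤ Nz P := Subgroup.le_normalizer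

theorem mem_Cz_iff {x : G} {P : Sylow 2 G} : x ∈ Cz P ↔ ∀ s ∈ (P : Subgroup G), s * x = x * s :=
  Subgroup.mem_centralizer_iff

/-- `Nz (g • P) = g (Nz P) g⁻¹` -/
theorem mem_Nz_smul {g x : G} {P : Sylow 2 G} : x ∈ Nz (g • P) ↔ g⁻¹ * x * g ∈ Nz P := by
  rw [← smul_eq_iff_mem_Nz, ← smul_eq_iff_mem_Nz]
  constructor
  · intro h
    rw [mul_smul, mul_smul, h, inv_smul_smul]
  · intro h
    have h1 : g • ((g⁻¹ * x * g) • P) = g • P := by rw [h]
    rw [← mul_smul] at h1
    have h2 : g * (g⁻¹ * x * g) = x * g := by group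
    rw [h2, mul_smul] at h1
    exact h1

/-- `Cz (g • P) = g (Cz P) g⁻¹` -/
theorem mem_Cz_smul {g x : G} {P : Sylow 2 G} : x ∈ Cz (g • P) ↔ g⁻¹ * x * g ∈ Cz P := by
  rw [mem_Cz_iff, mem_Cz_iff]
  constructor
  · intro h s hs
    have h1 := h (g * s * g⁻¹) (conj_mem_smul_sylow hs)
    calc s * (g⁻¹ * x * g) = g⁻¹ * (g * s * g⁻¹ * x) * g := by group
      _ = g⁻¹ * (x * (g * s * g⁻¹)) * g := by rw [h1]
      _ = g⁻¹ * x * g * s := by group
  · intro h s hs
    rw [mem_smul_sylow] at hs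
    have h1 := h _ hs
    calc s * x = g * (g⁻¹ * s * g * (g⁻¹ * x * g)) * g⁻¹ := by group
      _ = g * (g⁻¹ * x * g * (g⁻¹ * s * g)) * g⁻¹ := by rw [h1]
      _ = x * s := by group

/-- a 2-element normalizing a Sylow 2-subgroup lies in it -/
theorem two_elt_mem_of_mem_Nz (P : Sylow 2 G) {x : G} (hx : IsPGroup 2 (Subgroup.zpowers x))
    (hxN : x ∈ Nz P) : x ∈ (P : Subgroup G) := by
  have : Fact (Nat.Prime 2) := ⟨Nat.prime_two⟩
  have hle : Subgroup.zpowers x ≤ Subgroup.normalizer ((P : Subgroup G) : Set G) := by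
    rw [Subgroup.zpowers_le]; exact hxN
  have hsup := IsPGroup.to_sup_of_normal_right' hx P.2 hle
  have := P.is_maximal' hsup le_sup_right
  have h2 : Subgroup.zpowers x ≤ (P : Subgroup G) := by
    rw [← this]; exact le_sup_left
  exact h2 (Subgroup.mem_zpowers x)

/-- a 2-subgroup normalizing a Sylow 2-subgroup lies in it -/
theorem le_of_le_Nz (P : Sylow 2 G) {Q : Subgroup G} (hQ : IsPGroup 2 Q) (hQN : Q ≤ Nz P) :
    Q ≤ (P : Subgroup G) := by
  intro x hx
  apply two_elt_mem_of_mem_Nz P _ (hQN hx)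
  exact hQ.to_le (by rw [Subgroup.zpowers_le]; exact hx)

theorem isPGroup_zpowers_of_invol {t : G} (ht : orderOf t = 2) : IsPGroup 2 (Subgroup.zpowers t) := by
  apply IsPGroup.of_card (n := 1)
  rw [Nat.card_zpowers, ht, pow_one]

/-- an involution normalizing a point lies in it -/
theorem invol_mem_of_mem_Nz (P : Sylow 2 G) {t : G} (ht : orderOf t = 2) (htN : t ∈ Nz P) :
    t ∈ (P : Subgroup G) :=
  two_elt_mem_of_mem_Nz P (isPGroup_zpowers_of_invol ht) htN

theorem invol_fix_iff (P : Sylow 2 G) {t : G} (ht : orderOf t = 2) : t • P = P ↔ t ∈ (P : Subgroup G) := by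
  rw [smul_eq_iff_mem_Nz]
  exact ⟨invol_mem_of_mem_Nz P ht, fun h => le_Nz P h⟩

section Finite

variable [Finite G]

omit [Finite G] in
/-- every involution lies in a point -/
theorem exists_sylow_of_invol {t : G} (ht : orderOf t = 2) : ∃ P : Sylow 2 G, t ∈ (P : Subgroup G) := by
  have : Fact (Nat.Prime 2) := ⟨Nat.prime_two⟩
  obtain ⟨P, hP⟩ := (isPGroup_zpowers_of_invol ht).exists_le_sylow
  exact ⟨P, hP (Subgroup.mem_zpowers t)⟩

theorem sylow_ne_bot (heven : Even (Nat.card G)) (P : Sylow 2 G) : (P : Subgroup G) ≠ ⊥ := by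
  have : Fact (Nat.Prime 2) := ⟨Nat.prime_two⟩
  intro h
  have h1 : Nat.card (P : Subgroup G) = 1 := by rw [h]; exact Subgroup.card_bot
  have h2 := P.card_eq_multiplicity
  rw [h1] at h2
  have h3 : 2 ∣ Nat.card G := even_iff_two_dvd.mp heven
  have h4 : 1 ≤ (Nat.card G).factorization 2 :=
    (Nat.Prime.dvd_iff_one_le_factorization Nat.prime_two Nat.card_pos.ne').mp h3
  have h5 : 2 ^ 1 ≤ 2 ^ (Nat.card G).factorization 2 := Nat.pow_le_pow_right (by norm_num) h4
  omega

variable (h : AbHyp G)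

include h in
/-- the points are abelian -/
theorem sylow_comm (P : Sylow 2 G) (hP : (P : Subgroup G) ≠ ⊥) :
    ∀ a ∈ (P : Subgroup G), ∀ b ∈ (P : Subgroup G), a * b = b * a := by
  obtain ⟨t0, ht0T, ht02, ht0c⟩ := sylow_exists_central_invol P hP
  intro a ha b hb
  exact h t0 ht02 a b (ht0c a ha) (ht0c b hb)

include h in
/-- the centralizer of an involution is the centralizer of its point -/
theorem centralizer_invol (P : Sylow 2 G) {t : G} (ht : t ∈ (P : Subgroup G)) (ht2 : orderOf t = 2) :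
    Subgroup.centralizer ({t} : Set G) = Cz P := by
  have hP : (P : Subgroup G) ≠ ⊥ := by
    intro hb
    rw [hb, Subgroup.mem_bot] at ht
    exact invol_ne_one ht2 ht
  have hab := sylow_comm h P hP
  apply le_antisymm
  · intro x hx
    rw [Subgroup.mem_centralizer_singleton_iff] at hx
    rw [mem_Cz_iff]
    intro s hs
    exact h t ht2 s x (hab s hs t ht) hx
  · intro x hx
    rw [Subgroup.mem_centralizer_singleton_iff]
    rw [mem_Cz_iff] at hx
    exact (hx t ht).symm

include h in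
/-- elementwise version -/
theorem mem_Cz_of_commute (P : Sylow 2 G) {t x : G} (ht : t ∈ (P : Subgroup G)) (ht2 : orderOf t = 2)
    (hx : x * t = t * x) : x ∈ Cz P := by
  rw [← centralizer_invol h P ht ht2, Subgroup.mem_centralizer_singleton_iff]
  exact hx

include h in
/-- `Cz P` is abelian -/
theorem Cz_comm (P : Sylow 2 G) (hP : (P : Subgroup G) ≠ ⊥) :
    ∀ a ∈ Cz P, ∀ b ∈ Cz P, a * b = b * a := by
  obtain ⟨t0, ht0T, ht02, -⟩ := sylow_exists_central_invol P hP
  intro a ha b hb
  rw [mem_Cz_iff] at ha hb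
  exact h t0 ht02 a b (ha t0 ht0T).symm (hb t0 ht0T).symm

include h in
/-- an involution lies in exactly one point -/
theorem sylow_eq_of_invol {P Q : Sylow 2 G} {t : G} (ht2 : orderOf t = 2) (htP : t ∈ (P : Subgroup G))
    (htQ : t ∈ (Q : Subgroup G)) : P = Q := by
  have hP : (P : Subgroup G) ≠ ⊥ := by
    intro hb
    rw [hb, Subgroup.mem_bot] at htP
    exact invol_ne_one ht2 htP
  have hQ : (Q : Subgroup G) ≠ ⊥ := by
    intro hb
    rw [hb, Subgroup.mem_bot] at htQ
    exact invol_ne_one ht2 htQ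
  have hle : (Q : Subgroup G) ≤ (P : Subgroup G) := by
    apply le_of_le_Nz P Q.2
    intro x hx
    apply Cz_le_Nz P
    apply mem_Cz_of_commute h P htP ht2
    exact sylow_comm h Q hQ x hx t htQ
  symm
  exact Sylow.ext (Q.is_maximal' P.2 hle).symm

include h in
/-- the normalizer of a point is strongly embedded -/
theorem stronglyEmbedded_Nz (P : Sylow 2 G) (hP : (P : Subgroup G) ≠ ⊥)
    (hnn : ¬ (P : Subgroup G).Normal) : Cfsg.IsStronglyEmbedded (Nz P) := by
  obtain ⟨t0, ht0T, ht02, _⟩ := sylow_exists_central_invol P hP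
  rw [stronglyEmbedded_iff]
  refine ⟨?_, ?_, ?_⟩
  · intro h1
    exact hnn (Subgroup.normalizer_eq_top_iff.mp h1)
  · rw [even_card_iff_exists_invol]
    exact ⟨t0, le_Nz P ht0T, ht02⟩
  · intro g t ht ht2 hgt
    have htT : t ∈ (P : Subgroup G) := invol_mem_of_mem_Nz P ht2 ht
    have hgtT : g * t * g⁻¹ ∈ (P : Subgroup G) :=
      invol_mem_of_mem_Nz P (orderOf_conj_two g ht2) hgt
    have h1 : g * t * g⁻¹ ∈ ((g • P : Sylow 2 G) : Subgroup G) := conj_mem_smul_sylow htT
    have h2 : g • P = P := sylow_eq_of_invol h (orderOf_conj_two g ht2) h1 hgtT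
    exact smul_eq_iff_mem_Nz.mp h2

end Finite

end Cfsg.Agent.Lib.Helper8.AbInv
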