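/-
helper8 (S2345, Defs-free combinatorial core of O2 / Case A in helper27's plan):
if an `SL_n`- and torus-invariant multiplicity function `m` on alternating matrices is positive at
some alternating `Y₀` of rank `≥ 4`, then the alternating matrices with first row `e₁` carry total
multiplicity at least `2 q^(n-2) m(Y₀)`.
-/
import Mathlib
import Cfsg.Agent.Lib.Helper10.OPMinCnt
import Cfsg.Agent.Lib.Helper13.OPMinChs
import Cfsg.Agent.Lib.Helper8.OPMinOrb

set_option autoImplicit false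
set_option linter.unusedSectionVars false
set_option linter.unusedVariables false

namespace Cfsg.Agent.Lib.Helper8.OPMinCaseA

open Matrix Cfsg.Agent.Lib.Helper10.OPMinCnt Cfsg.Agent.Lib.Helper8.OPMinOrb

section general

variable {F : Type*} [Field F] {ι : Type*} [Fintype ι] [DecidableEq ι]

/-- alternating matrices -/
def IsAltM (Y : Matrix ι ι F) : Prop := Yᵀ = -Y ∧ ∀ i, Y i i = 0

theorem IsAltM.apply_swap {Y : Matrix ι ι F} (h : IsAltM Y) (i j : ι) : Y j i = -Y i j := by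
  have := congrFun (congrFun h.1 i) j
  simpa using this

/-- entries of `g Y gᵀ` in terms of the rows of `g` -/
theorem conj_apply (g Y : Matrix ι ι F) (a b : ι) :
    (g * Y * gᵀ) a b = g a ⬝ᵥ (Y *ᵥ g b) := by
  simp only [Matrix.mul_apply, Matrix.transpose_apply, dotProduct, mulVec, Finset.sum_mul,
    Finset.mul_sum]
  rw [Finset.sum_comm]
  apply Finset.sum_congr rfl
  intro i _
  apply Finset.sum_congr rfl
  intro j _
  ring

/-- an alternating form vanishes on the diagonal -/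
theorem IsAltM.dot_self {Y : Matrix ι ι F} (h : IsAltM Y) (r : ι → F) : r ⬝ᵥ (Y *ᵥ r) = 0 := by
  have e : r ⬝ᵥ (Y *ᵥ r) = ∑ p ∈ (Finset.univ : Finset (ι × ι)), r p.1 * Y p.1 p.2 * r p.2 := by
    simp only [dotProduct, mulVec, Finset.mul_sum]
    rw [← Finset.univ_product_univ, Finset.sum_product]
    apply Finset.sum_congr rfl
    intro i _
    apply Finset.sum_congr rfl
    intro j _
    ring
  rw [e]
  refine Finset.sum_involution (fun (p : ι × ι) _ => p.swap) ?_ ?_ (fun p _ => Finset.mem_univ _)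
    (fun p _ => Prod.swap_swap p)
  · intro p _
    show r p.1 * Y p.1 p.2 * r p.2 + r p.2 * Y p.2 p.1 * r p.1 = 0
    rw [h.apply_swap p.1 p.2]
    ring
  · intro p _ hne hswap
    apply hne
    have h12 : p.2 = p.1 := congrArg Prod.fst hswap
    rw [h12, h.2, mul_zero, zero_mul]

theorem IsAltM.conj {Y : Matrix ι ι F} (h : IsAltM Y) (g : Matrix ι ι F) :
    IsAltM (g * Y * gᵀ) := by
  refine ⟨?_, fun i => ?_⟩
  · rw [Matrix.transpose_mul, Matrix.transpose_mul, Matrix.transpose_transpose, h.1,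
      Matrix.neg_mul, Matrix.mul_neg, Matrix.mul_assoc]
  · rw [conj_apply]
    exact h.dot_self _

/-- `1 + d φᵀ` for `φ ⬝ᵥ d = 0` -/
def tvv (d φ : ι → F) (h : φ ⬝ᵥ d = 0) : SpecialLinearGroup ι F :=
  ⟨1 + vecMulVec d φ, by
    rw [vecMulVec_eq Unit, det_one_add_replicateCol_mul_replicateRow, h, add_zero]⟩

theorem tvv_row (d φ : ι → F) (h : φ ⬝ᵥ d = 0) (a : ι) :
    (tvv d φ h).1 a = Pi.single a 1 + d a • φ := by
  ext b
  show (1 + vecMulVec d φ) a b = _
  rw [Matrix.add_apply, vecMulVec_apply, Matrix.one_apply, Pi.add_apply, Pi.smul_apply,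
    Pi.single_apply, smul_eq_mul]
  congr 1
  by_cases hab : a = b
  · rw [if_pos hab, if_pos hab.symm]
  · rw [if_neg hab, if_neg (Ne.symm hab)]

theorem single_dot_mulVec_single (Y : Matrix ι ι F) (a b : ι) :
    (Pi.single a 1 : ι → F) ⬝ᵥ (Y *ᵥ Pi.single b 1) = Y a b := by
  rw [single_one_dotProduct, mulVec_single_one]
  rfl

theorem conj_conj (g₂ g₁ : SpecialLinearGroup ι F) (Y : Matrix ι ι F) :
    (g₂ * g₁).1 * Y * (g₂ * g₁).1ᵀ = g₂.1 * (g₁.1 * Y * g₁.1ᵀ) * g₂.1ᵀ := by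
  have e : (g₂ * g₁).1 = g₂.1 * g₁.1 := rfl
  rw [e, Matrix.transpose_mul]
  simp only [Matrix.mul_assoc]

end general

section normalform

variable {F : Type*} [Field F] {k : ℕ}

/-- (N1) an alternating `Y ≠ 0` can be moved by `SL_n` to a matrix with first row `e₁`. -/
theorem exists_sl_row_zero {Y : Matrix (Fin (k + 3)) (Fin (k + 3)) F} (h : IsAltM Y)
    (h0 : Y ≠ 0) :
    ∃ g : SpecialLinearGroup (Fin (k + 3)) F, (g.1 * Y * g.1ᵀ) 0 = Pi.single 1 1 := by
  obtain ⟨i, j, hij⟩ : ∃ i j, Y i j ≠ 0 := by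
    by_contra hcon
    push Not at hcon
    exact h0 (Matrix.ext hcon)
  have hne : i ≠ j := by
    rintro rfl
    exact hij (h.2 i)
  set c := Y i j with hc
  set u : Fin (k + 3) → F := c⁻¹ • Pi.single i 1 with hu
  set v : Fin (k + 3) → F := Pi.single j 1 with hv
  have huv : LinearIndependent F ![u, v] := by
    apply Cfsg.Agent.Lib.Helper13.OPMinChs.indep_of_minor u v i j
    rw [hu, hv]
    simp only [Pi.smul_apply, Pi.single_eq_same, smul_eq_mul, mul_one,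
      Pi.single_eq_of_ne hne, zero_mul, sub_zero]
    exact inv_ne_zero hij
  obtain ⟨x, hx0, hx1⟩ := Cfsg.Agent.Lib.Helper1.SLMLeaf.exists_sl_std_pair huv
  -- first step: `g₁ = xᵀ`
  have r0 : x.1ᵀ 0 = u := by
    rw [← hx0, mulVec_single_one]
    rfl
  have r1 : x.1ᵀ 1 = v := by
    rw [← hx1, mulVec_single_one]
    rfl
  set Y1 := x.1ᵀ * Y * x.1ᵀᵀ with hY1
  have hY1alt : IsAltM Y1 := h.conj _
  have h01 : Y1 0 1 = 1 := by
    rw [hY1, conj_apply, r0, r1, hu, hv, smul_dotProduct, single_dot_mulVec_single, smul_eq_mul,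
      inv_mul_cancel₀ hij]
  -- second step: clear the rest of the first row
  set cvec : Fin (k + 3) → F := fun a => if a = 0 ∨ a = 1 then 0 else -(Y1 0 a) with hcvec
  have hc1 : (Pi.single 1 1 : Fin (k + 3) → F) ⬝ᵥ cvec = 0 := by
    rw [single_one_dotProduct, hcvec]
    simp
  set g₂ := tvv cvec (Pi.single 1 1) hc1 with hg₂
  refine ⟨g₂ * x.transpose, ?_⟩
  have hxT : (x.transpose).1 = x.1ᵀ := rfl
  rw [conj_conj, hxT, ← hY1]
  ext b
  rw [conj_apply, hg₂, tvv_row, tvv_row]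
  have hc0 : cvec 0 = 0 := by rw [hcvec]; simp
  rw [hc0, zero_smul, add_zero, mulVec_add, mulVec_smul, dotProduct_add, dotProduct_smul,
    single_dot_mulVec_single, single_dot_mulVec_single, h01, smul_eq_mul, mul_one]
  by_cases hb0 : b = 0
  · subst hb0
    rw [hc0, add_zero, hY1alt.2, Pi.single_eq_of_ne (by simp)]
  · by_cases hb1 : b = 1
    · subst hb1
      have : cvec 1 = 0 := by rw [hcvec]; simp
      rw [this, add_zero, h01, Pi.single_eq_same]
    · have : cvec b = -(Y1 0 b) := by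
        rw [hcvec]
        simp [hb0, hb1]
      rw [this, add_neg_cancel, Pi.single_eq_of_ne hb1]

/-- (N2) alternating, first row `e₁`, vanishing lower block: rank two. -/
theorem mem_rk2_of_block_zero {Y : Matrix (Fin (k + 3)) (Fin (k + 3)) F} (h : IsAltM Y)
    (hrow : Y 0 = Pi.single 1 1)
    (hblk : ∀ a b, a ≠ 0 → a ≠ 1 → b ≠ 0 → b ≠ 1 → Y a b = 0) :
    Y ∈ rk2 F (Fin (k + 3)) := by
  have h10 : (1 : Fin (k + 3)) ≠ 0 := by simp
  have hY0 : ∀ b, Y 0 b = if b = 1 then 1 else 0 := by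
    intro b
    rw [hrow, Pi.single_apply]
  have hYa0 : ∀ a, Y a 0 = -(if a = 1 then 1 else 0) := by
    intro a
    rw [h.apply_swap 0 a, hY0]
  set u : Fin (k + 3) → F :=
    fun a => (if a = 0 then 1 else 0) - (if a = 0 ∨ a = 1 then 0 else Y 1 a) with hu
  set v : Fin (k + 3) → F := Pi.single 1 1 with hv
  have hu0 : u 0 = 1 := by rw [hu]; simp
  have hu1 : u 1 = 0 := by rw [hu]; simp
  have hv0 : v 0 = 0 := by rw [hv]; simp
  have hv1 : v 1 = 1 := by rw [hv]; simp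
  refine ⟨u, v, ?_, ?_⟩
  · apply Cfsg.Agent.Lib.Helper13.OPMinChs.indep_of_minor u v 0 1
    rw [hu0, hv1, hv0, hu1]
    simp
  · ext a b
    rw [wedge_apply]
    by_cases ha0 : a = 0
    · subst ha0
      rw [hu0, hv0, zero_mul, sub_zero, one_mul, hY0, hv, Pi.single_apply]
    · by_cases ha1 : a = 1
      · subst ha1
        rw [hu1, hv1, zero_mul, zero_sub, one_mul]
        by_cases hb0 : b = 0
        · subst hb0
          rw [hu0, hYa0]
          simp
        · by_cases hb1 : b = 1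
          · subst hb1
            rw [hu1, h.2, neg_zero]
          · have : u b = -(Y 1 b) := by
              rw [hu]
              simp [hb0, hb1]
            rw [this, neg_neg]
      · have hua : u a = -(Y 1 a) := by
          rw [hu]
          simp [ha0, ha1]
        have hva : v a = 0 := by rw [hv, Pi.single_apply, if_neg ha1]
        rw [hua, hva, zero_mul, sub_zero]
        by_cases hb0 : b = 0
        · subst hb0
          rw [hv0, mul_zero, hYa0, if_neg ha1, neg_zero]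
        · by_cases hb1 : b = 1
          · subst hb1
            rw [hv1, mul_one, h.apply_swap 1 a]
          · have hvb : v b = 0 := by rw [hv, Pi.single_apply, if_neg hb1]
            rw [hvb, mul_zero]
            exact hblk a b ha0 ha1 hb0 hb1

/-- the shift `1 + s e₀ᵀ` (`s₀ = 0`) -/
def shiftG (s : Fin (k + 3) → F) (hs0 : s 0 = 0) : SpecialLinearGroup (Fin (k + 3)) F :=
  tvv s (Pi.single 0 1) (by rw [single_one_dotProduct]; exact hs0)

theorem shift_apply (Y : Matrix (Fin (k + 3)) (Fin (k + 3)) F) (s : Fin (k + 3) → F)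
    (hs0 : s 0 = 0) (a b : Fin (k + 3)) :
    ((shiftG s hs0).1 * Y * (shiftG s hs0).1ᵀ) a b =
      Y a b + s b * Y a 0 + s a * (Y 0 b + s b * Y 0 0) := by
  rw [conj_apply]
  unfold shiftG
  rw [tvv_row, tvv_row, mulVec_add, mulVec_smul, add_dotProduct, dotProduct_add, dotProduct_add,
    smul_dotProduct, smul_dotProduct, dotProduct_smul, dotProduct_smul,
    single_dot_mulVec_single, single_dot_mulVec_single, single_dot_mulVec_single,
    single_dot_mulVec_single]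
  simp only [smul_eq_mul]
  ring

/-- (N3) the shift keeps an alternating matrix with first row `e₁` of the same kind, moves the
second row by `-s` and keeps the lower block -/
theorem shift_row_zero {Y : Matrix (Fin (k + 3)) (Fin (k + 3)) F} (h : IsAltM Y)
    (hrow : Y 0 = Pi.single 1 1) (s : Fin (k + 3) → F) (hs0 : s 0 = 0) :
    ((shiftG s hs0).1 * Y * (shiftG s hs0).1ᵀ) 0 = Pi.single 1 1 := by
  ext b
  rw [shift_apply, hs0, zero_mul, add_zero, h.2, mul_zero, add_zero, hrow]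

theorem shift_row_one {Y : Matrix (Fin (k + 3)) (Fin (k + 3)) F} (h : IsAltM Y)
    (hrow : Y 0 = Pi.single 1 1) (s : Fin (k + 3) → F) (hs0 : s 0 = 0) (hs1 : s 1 = 0)
    (b : Fin (k + 3)) :
    ((shiftG s hs0).1 * Y * (shiftG s hs0).1ᵀ) 1 b = Y 1 b - s b := by
  have h10 : Y 1 0 = -1 := by
    rw [h.apply_swap 0 1, hrow, Pi.single_eq_same]
  rw [shift_apply, hs1, zero_mul, add_zero, h10]
  ring

theorem shift_block {Y : Matrix (Fin (k + 3)) (Fin (k + 3)) F} (h : IsAltM Y)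
    (hrow : Y 0 = Pi.single 1 1) (s : Fin (k + 3) → F) (hs0 : s 0 = 0)
    (a b : Fin (k + 3)) (ha1 : a ≠ 1) (hb1 : b ≠ 1) :
    ((shiftG s hs0).1 * Y * (shiftG s hs0).1ᵀ) a b = Y a b := by
  have hb : Y 0 b = 0 := by rw [hrow, Pi.single_apply, if_neg hb1]
  have ha : Y a 0 = 0 := by rw [h.apply_swap 0 a, hrow, Pi.single_apply, if_neg ha1, neg_zero]
  rw [shift_apply, ha, hb, h.2]
  ring

/-- the torus element with `t` at the positions `k`, `l` -/
def Dkl (a b : Fin (k + 3)) (t : F) : Matrix (Fin (k + 3)) (Fin (k + 3)) F :=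
  diagonal (fun i => if i = a ∨ i = b then t else 1)

theorem Dkl_conj_apply (a b : Fin (k + 3)) (t : F) (Y : Matrix (Fin (k + 3)) (Fin (k + 3)) F)
    (i j : Fin (k + 3)) :
    (Dkl a b t * Y * (Dkl a b t)ᵀ) i j =
      (if i = a ∨ i = b then t else 1) * Y i j * (if j = a ∨ j = b then t else 1) := by
  unfold Dkl
  rw [diagonal_transpose, mul_diagonal, diagonal_mul]

/-- `SL_n` elements with first row `e₀` are transitive on the non-zero vectors `y` with `y₀ = 0`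
(as images of `e₁`) -/
theorem exists_row_fix {y : Fin (k + 3) → F} (hy0 : y 0 = 0) (hy : y ≠ 0) :
    ∃ x : SpecialLinearGroup (Fin (k + 3)) F,
      x.1 0 = Pi.single 0 1 ∧ x.1 *ᵥ Pi.single 1 1 = y := by
  let Gp : (Fin (k + 2) → F) → Prop := fun v =>
    ∃ x : SpecialLinearGroup (Fin (k + 3)) F,
      x.1 0 = Pi.single 0 1 ∧ x.1 *ᵥ Pi.single 1 1 = (Fin.cons 0 v : Fin (k + 3) → F)
  have hcons : ∀ (c : F) (v w : Fin (k + 2) → F),
      (Fin.cons c v : Fin (k + 3) → F) ⬝ᵥ (Fin.cons 0 w : Fin (k + 3) → F) = v ⬝ᵥ w := by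
    intro c v w
    simp [dotProduct, Fin.sum_univ_succ]
  have h1 : (Fin.cons 0 (Fin.tail y) : Fin (k + 3) → F) = y := by
    rw [← hy0]
    exact Fin.cons_self_tail y
  have hv : (Fin.tail y : Fin (k + 2) → F) ≠ 0 := by
    intro h
    apply hy
    rw [← h1, h]
    funext i
    refine Fin.cases ?_ (fun j => ?_) i <;> simp
  have key := Cfsg.Agent.S2392.chain (F := F) (k := k) Gp ?_ hv
  · have h2 : Gp (Fin.tail y) := by
      rw [key]
      refine ⟨1, ?_, ?_⟩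
      · ext b
        show (1 : Matrix (Fin (k + 3)) (Fin (k + 3)) F) 0 b = _
        rw [Matrix.one_apply, Pi.single_apply]
        by_cases hb : b = 0
        · rw [if_pos hb, if_pos hb.symm]
        · rw [if_neg hb, if_neg (Ne.symm hb)]
      · show (1 : Matrix (Fin (k + 3)) (Fin (k + 3)) F) *ᵥ _ = _
        rw [one_mulVec]
        funext i
        refine Fin.cases ?_ (fun j => ?_) i
        · simp
        · rw [Fin.cons_succ]
          by_cases hj : j = 0
          · subst hj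
            have : (Fin.succ (0 : Fin (k + 2)) : Fin (k + 3)) = 1 := rfl
            simp [this]
          · have h4 : (Fin.succ j : Fin (k + 3)) ≠ 1 := by
              intro h
              apply hj
              exact Fin.succ_injective _ h
            simp [h4, hj]
    obtain ⟨x, hx0, hx1⟩ := h2
    exact ⟨x, hx0, by rw [hx1, h1]⟩
  · rintro v w r hrw ⟨x, hx0, hx1⟩
    have hE : (Fin.cons 0 w : Fin (k + 3) → F) ⬝ᵥ (Fin.cons 0 r : Fin (k + 3) → F) = 0 := by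
      rw [hcons, dotProduct_comm]
      exact hrw
    refine ⟨Cfsg.Agent.S2392.EE (Fin.cons 0 r) (Fin.cons 0 w) hE * x, ?_, ?_⟩
    · ext b
      show ((1 + vecMulVec (Fin.cons 0 r) (Fin.cons 0 w)) * x.1) 0 b = _
      rw [Matrix.add_mul, Matrix.one_mul, Matrix.add_apply, Matrix.mul_apply]
      have hz : ∀ c, vecMulVec (Fin.cons (0 : F) r : Fin (k + 3) → F) (Fin.cons 0 w) 0 c = 0 := by
        intro c
        rw [vecMulVec_apply, Fin.cons_zero, zero_mul]
      simp only [hz, zero_mul, Finset.sum_const_zero, add_zero]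
      exact congrFun hx0 b
    · rw [Cfsg.Agent.Lib.Helper15.SLTrans.mulVec_mul, hx1,
        Cfsg.Agent.Lib.Helper15.SLTrans.EE_mulVec, hcons]
      funext i
      refine Fin.cases ?_ (fun j => ?_) i <;> simp

/-- conjugation by an element with first row `e₀` moves the first row by the matrix itself -/
theorem conj_row_zero (x : SpecialLinearGroup (Fin (k + 3)) F) (hx0 : x.1 0 = Pi.single 0 1)
    (Y : Matrix (Fin (k + 3)) (Fin (k + 3)) F) :
    (x.1 * Y * x.1ᵀ) 0 = x.1 *ᵥ (Y 0) := by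
  ext l
  rw [conj_apply, hx0, single_one_dotProduct]
  simp only [mulVec, dotProduct]
  apply Finset.sum_congr rfl
  intro b _
  rw [mul_comm]

theorem conj_injective (x : SpecialLinearGroup (Fin (k + 3)) F) :
    Function.Injective (fun Y : Matrix (Fin (k + 3)) (Fin (k + 3)) F => x.1 * Y * x.1ᵀ) := by
  intro Y Y' h
  have h2 : (x⁻¹).1 * (x.1 * Y * x.1ᵀ) * (x⁻¹).1ᵀ = (x⁻¹).1 * (x.1 * Y' * x.1ᵀ) * (x⁻¹).1ᵀ := by
    show (x⁻¹).1 * ((fun Y : Matrix (Fin (k + 3)) (Fin (k + 3)) F => x.1 * Y * x.1ᵀ) Y) *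
      (x⁻¹).1ᵀ = _
    rw [h]
  rw [← conj_conj, ← conj_conj, inv_mul_cancel] at h2
  have e1 : ((1 : SpecialLinearGroup (Fin (k + 3)) F)).1 = 1 := rfl
  rw [e1, Matrix.one_mul, Matrix.transpose_one, Matrix.mul_one, Matrix.one_mul, Matrix.mul_one]
    at h2
  exact h2

end normalform

section count

variable {F : Type*} [Field F] [Fintype F] [DecidableEq F] {k : ℕ}

theorem exists_sq_ne_one (hq : 3 < Fintype.card F) : ∃ t : F, t ≠ 0 ∧ t * t ≠ 1 := by
  by_contra hcon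
  push Not at hcon
  have hsub : (Finset.univ : Finset F) ⊆ {0, 1, -1} := by
    intro t _
    by_cases ht : t = 0
    · simp [ht]
    · rcases mul_self_eq_one_iff.mp (hcon t ht) with h | h
      · simp [h]
      · simp [h]
  have h1 := Finset.card_le_card hsub
  have h3 : ({0, 1, -1} : Finset F).card ≤ 3 := Finset.card_le_three
  rw [Finset.card_univ] at h1
  omega

/-- the index set of the shifts -/
abbrev Shifts (F : Type*) [Field F] (k : ℕ) := {s : Fin (k + 3) → F // s 0 = 0 ∧ s 1 = 0}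

/-- Case A, the family, with an abstract "second orbit" step. -/
theorem caseA_family_gen
    (m : Matrix (Fin (k + 3)) (Fin (k + 3)) F → ℕ)
    (hm1 : ∀ (g : SpecialLinearGroup (Fin (k + 3)) F) (Y : Matrix (Fin (k + 3)) (Fin (k + 3)) F),
      m (g.1 * Y * g.1ᵀ) = m Y)
    (hstep : ∀ (Y₁ : Matrix (Fin (k + 3)) (Fin (k + 3)) F) (a b : Fin (k + 3)), IsAltM Y₁ →
      Y₁ 0 = Pi.single 1 1 → a ≠ 0 → a ≠ 1 → b ≠ 0 → b ≠ 1 → Y₁ a b ≠ 0 →
      ∃ Y₂ : Matrix (Fin (k + 3)) (Fin (k + 3)) F, IsAltM Y₂ ∧ Y₂ 0 = Pi.single 1 1 ∧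
        m Y₂ = m Y₁ ∧ Y₂ a b ≠ Y₁ a b)
    (Y₀ : Matrix (Fin (k + 3)) (Fin (k + 3)) F) (halt : IsAltM Y₀) (h0 : Y₀ ≠ 0)
    (hrk : Y₀ ∉ rk2 F (Fin (k + 3))) :
    ∃ Φ : Bool × Shifts F k → Matrix (Fin (k + 3)) (Fin (k + 3)) F,
      Function.Injective Φ ∧
        ∀ p, IsAltM (Φ p) ∧ (Φ p) 0 = Pi.single 1 1 ∧ m (Φ p) = m Y₀ := by
  obtain ⟨g, hg⟩ := exists_sl_row_zero halt h0
  set Y₁ := g.1 * Y₀ * g.1ᵀ with hY₁
  have a1 : IsAltM Y₁ := halt.conj _
  have m1 : m Y₁ = m Y₀ := hm1 g Y₀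
  have nrk : Y₁ ∉ rk2 F (Fin (k + 3)) := by
    intro hmem
    apply hrk
    have h2 := rk2_conj g⁻¹ hmem
    rw [hY₁, ← conj_conj, inv_mul_cancel] at h2
    have e1 : ((1 : SpecialLinearGroup (Fin (k + 3)) F)).1 = 1 := rfl
    rw [e1, Matrix.one_mul, Matrix.transpose_one, Matrix.mul_one] at h2
    exact h2
  obtain ⟨a, b, ha0, ha1, hb0, hb1, hab⟩ :
      ∃ a b, a ≠ 0 ∧ a ≠ 1 ∧ b ≠ 0 ∧ b ≠ 1 ∧ Y₁ a b ≠ 0 := by
    by_contra hcon
    push Not at hcon
    exact nrk (mem_rk2_of_block_zero a1 hg (fun a b h1 h2 h3 h4 => hcon a b h1 h2 h3 h4))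
  obtain ⟨Y₂, a2, r2, m2', d2⟩ := hstep Y₁ a b a1 hg ha0 ha1 hb0 hb1 hab
  have m2 : m Y₂ = m Y₀ := m2'.trans m1
  set base : Bool → Matrix (Fin (k + 3)) (Fin (k + 3)) F := fun ε => cond ε Y₂ Y₁ with hbase
  have balt : ∀ ε, IsAltM (base ε) := by
    intro ε
    cases ε
    · exact a1
    · exact a2
  have brow : ∀ ε, base ε 0 = Pi.single 1 1 := by
    intro ε
    cases ε
    · exact hg
    · exact r2
  have bm : ∀ ε, m (base ε) = m Y₀ := by
    intro ε
    cases ε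
    · exact m1
    · exact m2
  refine ⟨fun p => (shiftG p.2.1 p.2.2.1).1 * base p.1 * (shiftG p.2.1 p.2.2.1).1ᵀ, ?_, ?_⟩
  · rintro ⟨ε, s⟩ ⟨ε', s'⟩ heq
    have hent : ∀ i j, ((shiftG s.1 s.2.1).1 * base ε * (shiftG s.1 s.2.1).1ᵀ) i j =
        ((shiftG s'.1 s'.2.1).1 * base ε' * (shiftG s'.1 s'.2.1).1ᵀ) i j := by
      intro i j
      exact congrFun (congrFun heq i) j
    have hε : ε = ε' := by
      have h1 := hent a b
      rw [shift_block (balt ε) (brow ε) _ _ a b ha1 hb1,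
        shift_block (balt ε') (brow ε') _ _ a b ha1 hb1] at h1
      cases ε <;> cases ε'
      · rfl
      · exact absurd h1.symm d2
      · exact absurd h1 d2
      · rfl
    subst hε
    have hs : s = s' := by
      apply Subtype.ext
      funext j
      have h1 := hent 1 j
      rw [shift_row_one (balt ε) (brow ε) _ _ s.2.2, shift_row_one (balt ε) (brow ε) _ _ s'.2.2]
        at h1
      exact sub_right_injective h1
    rw [hs]
  · rintro ⟨ε, s⟩
    refine ⟨(balt ε).conj _, shift_row_zero (balt ε) (brow ε) _ _, ?_⟩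
    exact (hm1 _ _).trans (bm ε)

/-- the step for the torus elements `Dkl a b t` -/
theorem step_Dkl (hq : 3 < Fintype.card F)
    (m : Matrix (Fin (k + 3)) (Fin (k + 3)) F → ℕ)
    (hm2 : ∀ (a b : Fin (k + 3)) (t : F), a ≠ b → t ≠ 0 →
      ∀ Y : Matrix (Fin (k + 3)) (Fin (k + 3)) F, m (Dkl a b t * Y * (Dkl a b t)ᵀ) = m Y)
    (Y₁ : Matrix (Fin (k + 3)) (Fin (k + 3)) F) (a b : Fin (k + 3)) (a1 : IsAltM Y₁)
    (hg : Y₁ 0 = Pi.single 1 1) (ha0 : a ≠ 0) (ha1 : a ≠ 1) (hb0 : b ≠ 0) (hb1 : b ≠ 1)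
    (hab : Y₁ a b ≠ 0) :
    ∃ Y₂ : Matrix (Fin (k + 3)) (Fin (k + 3)) F, IsAltM Y₂ ∧ Y₂ 0 = Pi.single 1 1 ∧
      m Y₂ = m Y₁ ∧ Y₂ a b ≠ Y₁ a b := by
  have hne : a ≠ b := by
    rintro rfl
    exact hab (a1.2 a)
  obtain ⟨t, ht0, ht1⟩ := exists_sq_ne_one hq
  refine ⟨Dkl a b t * Y₁ * (Dkl a b t)ᵀ, a1.conj _, ?_, hm2 a b t hne ht0 Y₁, ?_⟩
  · ext j
    rw [Dkl_conj_apply, if_neg (by
      rintro (h | h)
      · exact ha0 h.symm
      · exact hb0 h.symm), one_mul, hg, Pi.single_apply]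
    by_cases hj : j = 1
    · rw [if_pos hj, if_neg (by
        rintro (h | h)
        · exact ha1 (h.symm.trans hj)
        · exact hb1 (h.symm.trans hj)), mul_one]
    · rw [if_neg hj, zero_mul]
  · rw [Dkl_conj_apply, if_pos (Or.inl rfl), if_pos (Or.inr rfl)]
    intro heq
    have h3 : (t * t - 1) * Y₁ a b = 0 := by
      linear_combination heq
    rcases mul_eq_zero.mp h3 with h4 | h4
    · exact ht1 (sub_eq_zero.mp h4)
    · exact hab h4

/-- the diagonal matrix with `s²` at `a` -/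
def Dsq (a : Fin (k + 3)) (s : F) : Matrix (Fin (k + 3)) (Fin (k + 3)) F :=
  diagonal (fun i => if i = a then s ^ 2 else 1)

theorem Dsq_conj_apply (a : Fin (k + 3)) (s : F) (Y : Matrix (Fin (k + 3)) (Fin (k + 3)) F)
    (i j : Fin (k + 3)) :
    (Dsq a s * Y * Dsq a s) i j =
      (if i = a then s ^ 2 else 1) * Y i j * (if j = a then s ^ 2 else 1) := by
  unfold Dsq
  rw [mul_diagonal, diagonal_mul]

theorem isAltM_Dsq_conj {Y : Matrix (Fin (k + 3)) (Fin (k + 3)) F} (h : IsAltM Y)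
    (a : Fin (k + 3)) (s : F) : IsAltM (Dsq a s * Y * Dsq a s) := by
  have := h.conj (Dsq a s)
  have e : (Dsq a s)ᵀ = Dsq a s := by
    unfold Dsq
    rw [diagonal_transpose]
  rw [e] at this
  exact this

/-- the step for the torus elements `Dsq a s` (one position, square entry) -/
theorem step_Dsq (hq : 3 < Fintype.card F)
    (m : Matrix (Fin (k + 3)) (Fin (k + 3)) F → ℕ)
    (hm2 : ∀ (a : Fin (k + 3)) (s : F), s ≠ 0 →
      ∀ Y : Matrix (Fin (k + 3)) (Fin (k + 3)) F, m (Dsq a s * Y * Dsq a s) = m Y)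
    (Y₁ : Matrix (Fin (k + 3)) (Fin (k + 3)) F) (a b : Fin (k + 3)) (a1 : IsAltM Y₁)
    (hg : Y₁ 0 = Pi.single 1 1) (ha0 : a ≠ 0) (ha1 : a ≠ 1) (hb0 : b ≠ 0) (hb1 : b ≠ 1)
    (hab : Y₁ a b ≠ 0) :
    ∃ Y₂ : Matrix (Fin (k + 3)) (Fin (k + 3)) F, IsAltM Y₂ ∧ Y₂ 0 = Pi.single 1 1 ∧
      m Y₂ = m Y₁ ∧ Y₂ a b ≠ Y₁ a b := by
  have hne : a ≠ b := by
    rintro rfl
    exact hab (a1.2 a)
  obtain ⟨t, ht0, ht1⟩ := exists_sq_ne_one hq
  refine ⟨Dsq a t * Y₁ * Dsq a t, isAltM_Dsq_conj a1 a t, ?_, hm2 a t ht0 Y₁, ?_⟩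
  · ext j
    rw [Dsq_conj_apply, if_neg (fun h => ha0 h.symm), one_mul, hg, Pi.single_apply]
    by_cases hj : j = 1
    · rw [if_pos hj, if_neg (fun h => ha1 (h.symm.trans hj)), mul_one]
    · rw [if_neg hj, zero_mul]
  · rw [Dsq_conj_apply, if_pos rfl, if_neg (fun h => hne h.symm), mul_one]
    intro heq
    have h3 : (t * t - 1) * Y₁ a b = 0 := by
      linear_combination heq
    rcases mul_eq_zero.mp h3 with h4 | h4
    · exact ht1 (sub_eq_zero.mp h4)
    · exact hab h4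

/-- Case A, the family: `2 q^(n-2)` distinct alternating matrices with first row `e₁`, all of
multiplicity `m Y₀`. -/
theorem caseA_family (hq : 3 < Fintype.card F)
    (m : Matrix (Fin (k + 3)) (Fin (k + 3)) F → ℕ)
    (hm1 : ∀ (g : SpecialLinearGroup (Fin (k + 3)) F) (Y : Matrix (Fin (k + 3)) (Fin (k + 3)) F),
      m (g.1 * Y * g.1ᵀ) = m Y)
    (hm2 : ∀ (a b : Fin (k + 3)) (t : F), a ≠ b → t ≠ 0 →
      ∀ Y : Matrix (Fin (k + 3)) (Fin (k + 3)) F, m (Dkl a b t * Y * (Dkl a b t)ᵀ) = m Y)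
    (Y₀ : Matrix (Fin (k + 3)) (Fin (k + 3)) F) (halt : IsAltM Y₀) (h0 : Y₀ ≠ 0)
    (hrk : Y₀ ∉ rk2 F (Fin (k + 3))) :
    ∃ Φ : Bool × Shifts F k → Matrix (Fin (k + 3)) (Fin (k + 3)) F,
      Function.Injective Φ ∧
        ∀ p, IsAltM (Φ p) ∧ (Φ p) 0 = Pi.single 1 1 ∧ m (Φ p) = m Y₀ :=
  caseA_family_gen m hm1 (fun Y₁ a b h1 h2 h3 h4 h5 h6 h7 =>
    step_Dkl hq m hm2 Y₁ a b h1 h2 h3 h4 h5 h6 h7) Y₀ halt h0 hrk

/-- Case A, the count: `μ ≥ 2 q^(n-2) m(Y₀)`. -/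
theorem caseA_count (hq : 3 < Fintype.card F)
    (m : Matrix (Fin (k + 3)) (Fin (k + 3)) F → ℕ)
    (hm1 : ∀ (g : SpecialLinearGroup (Fin (k + 3)) F) (Y : Matrix (Fin (k + 3)) (Fin (k + 3)) F),
      m (g.1 * Y * g.1ᵀ) = m Y)
    (hm2 : ∀ (a b : Fin (k + 3)) (t : F), a ≠ b → t ≠ 0 →
      ∀ Y : Matrix (Fin (k + 3)) (Fin (k + 3)) F, m (Dkl a b t * Y * (Dkl a b t)ᵀ) = m Y)
    (Y₀ : Matrix (Fin (k + 3)) (Fin (k + 3)) F) (halt : IsAltM Y₀) (h0 : Y₀ ≠ 0)
    (hrk : Y₀ ∉ rk2 F (Fin (k + 3)))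
    (T : Finset (Matrix (Fin (k + 3)) (Fin (k + 3)) F))
    (hT : ∀ Y : Matrix (Fin (k + 3)) (Fin (k + 3)) F, IsAltM Y → Y 0 = Pi.single 1 1 → Y ∈ T) :
    2 * Fintype.card F ^ (k + 1) * m Y₀ ≤ ∑ Y ∈ T, m Y := by
  obtain ⟨Φ, hinj, hΦ⟩ := caseA_family hq m hm1 hm2 Y₀ halt h0 hrk
  have hsub : (Finset.univ : Finset (Bool × Shifts F k)).image Φ ⊆ T := by
    intro Y hY
    obtain ⟨p, _, rfl⟩ := Finset.mem_image.mp hY
    exact hT _ (hΦ p).1 (hΦ p).2.1
  have hcard : Fintype.card (Bool × Shifts F k) = 2 * Fintype.card F ^ (k + 1) := by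
    rw [Fintype.card_prod, Fintype.card_bool]
    congr 1
    have h01 : (0 : Fin (k + 3)) ≠ 1 := by simp
    have := Cfsg.Agent.Lib.Helper13.OPMinChs.card_prescribed (F := F) (0 : Fin (k + 3)) 1 h01 0 0
    rw [Fintype.card_fin, (by omega : k + 3 - 2 = k + 1)] at this
    convert this using 2
  calc 2 * Fintype.card F ^ (k + 1) * m Y₀
      = ∑ _p : Bool × Shifts F k, m Y₀ := by
        rw [Finset.sum_const, Finset.card_univ, hcard, smul_eq_mul]
    _ = ∑ p : Bool × Shifts F k, m (Φ p) :=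
        Finset.sum_congr rfl (fun p _ => ((hΦ p).2.2).symm)
    _ = ∑ Y ∈ (Finset.univ : Finset (Bool × Shifts F k)).image Φ, m Y :=
        (Finset.sum_image (fun x _ y _ h => hinj h)).symm
    _ ≤ ∑ Y ∈ T, m Y := Finset.sum_le_sum_of_subset hsub

/-- the possible first rows -/
abbrev Rows (F : Type*) [Field F] (k : ℕ) := {y : Fin (k + 3) → F // y 0 = 0 ∧ y ≠ 0}

theorem card_rows : Fintype.card (Rows F k) = Fintype.card F ^ (k + 2) - 1 := by
  have e : Rows F k ≃ {v : Fin (k + 2) → F // v ≠ 0} :=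
    { toFun := fun y => ⟨Fin.tail y.1, by
        intro h
        apply y.2.2
        rw [← Fin.cons_self_tail y.1, h, y.2.1]
        funext i
        refine Fin.cases ?_ (fun j => ?_) i <;> simp⟩
      invFun := fun v => ⟨Fin.cons 0 v.1, by simp, by
        intro h
        apply v.2
        funext j
        have := congrFun h j.succ
        simpa using this⟩
      left_inv := by
        intro y
        apply Subtype.ext
        show (Fin.cons 0 (Fin.tail y.1) : Fin (k + 3) → F) = y.1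
        have h := Fin.cons_self_tail y.1
        rw [y.2.1] at h
        exact h
      right_inv := by
        intro v
        apply Subtype.ext
        show Fin.tail (Fin.cons 0 v.1 : Fin (k + 3) → F) = v.1
        exact Fin.tail_cons _ _ }
  rw [Fintype.card_congr e, Fintype.card_subtype, Finset.filter_ne' Finset.univ (0 : Fin (k + 2) → F),
    Finset.card_erase_of_mem (Finset.mem_univ _), Finset.card_univ, Fintype.card_fun,
    Fintype.card_fin]

/-- Case A, the whole family: `(q^(n-1) - 1) 2 q^(n-2)` distinct alternating matrices of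
multiplicity `m Y₀`. -/
theorem caseA_total_family
    (m : Matrix (Fin (k + 3)) (Fin (k + 3)) F → ℕ)
    (hm1 : ∀ (g : SpecialLinearGroup (Fin (k + 3)) F) (Y : Matrix (Fin (k + 3)) (Fin (k + 3)) F),
      m (g.1 * Y * g.1ᵀ) = m Y)
    (hstep : ∀ (Y₁ : Matrix (Fin (k + 3)) (Fin (k + 3)) F) (a b : Fin (k + 3)), IsAltM Y₁ →
      Y₁ 0 = Pi.single 1 1 → a ≠ 0 → a ≠ 1 → b ≠ 0 → b ≠ 1 → Y₁ a b ≠ 0 →
      ∃ Y₂ : Matrix (Fin (k + 3)) (Fin (k + 3)) F, IsAltM Y₂ ∧ Y₂ 0 = Pi.single 1 1 ∧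
        m Y₂ = m Y₁ ∧ Y₂ a b ≠ Y₁ a b)
    (Y₀ : Matrix (Fin (k + 3)) (Fin (k + 3)) F) (halt : IsAltM Y₀) (h0 : Y₀ ≠ 0)
    (hrk : Y₀ ∉ rk2 F (Fin (k + 3))) :
    ∃ Ψ : Rows F k × (Bool × Shifts F k) → Matrix (Fin (k + 3)) (Fin (k + 3)) F,
      Function.Injective Ψ ∧ ∀ p, IsAltM (Ψ p) ∧ m (Ψ p) = m Y₀ := by
  obtain ⟨Φ, hinj, hΦ⟩ := caseA_family_gen m hm1 hstep Y₀ halt h0 hrk
  choose x hx0 hx1 using fun y : Rows F k => exists_row_fix y.2.1 y.2.2
  have hrow : ∀ (y : Rows F k) (p : Bool × Shifts F k),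
      ((x y).1 * Φ p * (x y).1ᵀ) 0 = y.1 := by
    intro y p
    rw [conj_row_zero (x y) (hx0 y), (hΦ p).2.1, hx1 y]
  refine ⟨fun yp => (x yp.1).1 * Φ yp.2 * (x yp.1).1ᵀ, ?_, ?_⟩
  · rintro ⟨y, p⟩ ⟨y', p'⟩ heq
    have hy : y = y' := by
      apply Subtype.ext
      rw [← hrow y p, ← hrow y' p']
      exact congrFun heq 0
    subst hy
    have hp : Φ p = Φ p' := conj_injective (x y) heq
    rw [hinj hp]
  · rintro ⟨y, p⟩
    exact ⟨(hΦ p).1.conj _, (hm1 _ _).trans (hΦ p).2.2⟩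

/-- Case A, the total count. -/
theorem caseA_total
    (m : Matrix (Fin (k + 3)) (Fin (k + 3)) F → ℕ)
    (hm1 : ∀ (g : SpecialLinearGroup (Fin (k + 3)) F) (Y : Matrix (Fin (k + 3)) (Fin (k + 3)) F),
      m (g.1 * Y * g.1ᵀ) = m Y)
    (hstep : ∀ (Y₁ : Matrix (Fin (k + 3)) (Fin (k + 3)) F) (a b : Fin (k + 3)), IsAltM Y₁ →
      Y₁ 0 = Pi.single 1 1 → a ≠ 0 → a ≠ 1 → b ≠ 0 → b ≠ 1 → Y₁ a b ≠ 0 →
      ∃ Y₂ : Matrix (Fin (k + 3)) (Fin (k + 3)) F, IsAltM Y₂ ∧ Y₂ 0 = Pi.single 1 1 ∧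
        m Y₂ = m Y₁ ∧ Y₂ a b ≠ Y₁ a b)
    (Y₀ : Matrix (Fin (k + 3)) (Fin (k + 3)) F) (halt : IsAltM Y₀) (h0 : Y₀ ≠ 0)
    (hrk : Y₀ ∉ rk2 F (Fin (k + 3)))
    (T : Finset (Matrix (Fin (k + 3)) (Fin (k + 3)) F))
    (hT : ∀ Y : Matrix (Fin (k + 3)) (Fin (k + 3)) F, IsAltM Y → Y ∈ T) :
    (Fintype.card F ^ (k + 2) - 1) * (2 * Fintype.card F ^ (k + 1)) * m Y₀ ≤ ∑ Y ∈ T, m Y := by
  obtain ⟨Ψ, hinj, hΨ⟩ := caseA_total_family m hm1 hstep Y₀ halt h0 hrk
  have hsub : (Finset.univ : Finset (Rows F k × (Bool × Shifts F k))).image Ψ ⊆ T := by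
    intro Y hY
    obtain ⟨p, _, rfl⟩ := Finset.mem_image.mp hY
    exact hT _ (hΨ p).1
  have hcard2 : Fintype.card (Bool × Shifts F k) = 2 * Fintype.card F ^ (k + 1) := by
    rw [Fintype.card_prod, Fintype.card_bool]
    congr 1
    have h01 : (0 : Fin (k + 3)) ≠ 1 := by simp
    have := Cfsg.Agent.Lib.Helper13.OPMinChs.card_prescribed (F := F) (0 : Fin (k + 3)) 1 h01 0 0
    rw [Fintype.card_fin, (by omega : k + 3 - 2 = k + 1)] at this
    convert this using 2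
  have hcard : Fintype.card (Rows F k × (Bool × Shifts F k)) =
      (Fintype.card F ^ (k + 2) - 1) * (2 * Fintype.card F ^ (k + 1)) := by
    rw [Fintype.card_prod, hcard2, card_rows]
  calc (Fintype.card F ^ (k + 2) - 1) * (2 * Fintype.card F ^ (k + 1)) * m Y₀
      = ∑ _p : Rows F k × (Bool × Shifts F k), m Y₀ := by
        rw [Finset.sum_const, Finset.card_univ, hcard, smul_eq_mul]
    _ = ∑ p : Rows F k × (Bool × Shifts F k), m (Ψ p) :=
        Finset.sum_congr rfl (fun p _ => ((hΨ p).2).symm)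
    _ = ∑ Y ∈ (Finset.univ : Finset (Rows F k × (Bool × Shifts F k))).image Ψ, m Y :=
        (Finset.sum_image (fun x _ y _ h => hinj h)).symm
    _ ≤ ∑ Y ∈ T, m Y := Finset.sum_le_sum_of_subset hsub

/-- invariance under `Y ↦ g⁻ᵀ Y g⁻¹` is the same as invariance under `Y ↦ g Y gᵀ` -/
theorem inv_of_invT {ι : Type*} [Fintype ι] [DecidableEq ι] {A : Type*}
    (m : Matrix ι ι F → A)
    (h : ∀ (g : SpecialLinearGroup ι F) (Y : Matrix ι ι F), m ((g⁻¹).1ᵀ * Y * (g⁻¹).1) = m Y) :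
    ∀ (g : SpecialLinearGroup ι F) (Y : Matrix ι ι F), m (g.1 * Y * g.1ᵀ) = m Y := by
  intro g Y
  have h1 := h (g.transpose)⁻¹ Y
  rw [inv_inv] at h1
  have e1 : (g.transpose).1 = g.1ᵀ := rfl
  rw [e1, Matrix.transpose_transpose] at h1
  exact h1

end count

end Cfsg.Agent.Lib.Helper8.OPMinCaseA
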