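/-
helper8 (S2345, leaf (A) `caseA` of helper27's plan, exact name + binders of
`notes/S2345_leaves.lean`): if a weight of rank at least 4 of the Siegel radical occurs, the
dimension is at least `bnd q n`.
-/
import Mathlib
import Cfsg.Agent.Lib.Helper27.OPMinDefs
import Cfsg.Agent.Lib.Helper13.SLMinW
import Cfsg.Agent.Lib.Helper24.OPMinWS
import Cfsg.Agent.Lib.Helper13.OPMinAR
import Cfsg.Agent.Lib.Helper8.OPMinCaseA

set_option autoImplicit false
set_option linter.unusedSectionVars false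
set_option linter.unusedVariables false

namespace Cfsg.Agent.Lib.Helper8.OPMin

open Matrix Module Cfsg.Agent.Lib.Helper27.OPMin Cfsg.Agent.Lib.Helper16.SLMin

section REP

variable {F : Type*} [Field F] [Fintype F] [DecidableEq F] {n : ℕ} {H : Type*} [Group H]
  {M : Type*} [AddCommGroup M] [Module ℂ M] [FiniteDimensional ℂ M]
  (D : Siegel F n H) (ρ : Representation ℂ H M)

/-- the multiplicity of the weight `Y` -/
noncomputable def mult (Y : Matrix (Fin n) (Fin n) F) : ℕ :=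
  finrank ℂ ↥(wt ρ D.radv (ofM Y))

theorem mult_levi (g : SpecialLinearGroup (Fin n) F) (Y : Matrix (Fin n) (Fin n) F) :
    mult D ρ (g.1 * Y * g.1ᵀ) = mult D ρ Y := by
  unfold mult
  have hv : toM (ofM (g.1 * Y * g.1ᵀ)) =
      ((g.transpose : SpecialLinearGroup (Fin n) F) : Matrix (Fin n) (Fin n) F)ᵀ * toM (ofM Y) *
        ((g.transpose : SpecialLinearGroup (Fin n) F) : Matrix (Fin n) (Fin n) F) := by
    rw [toM_ofM, toM_ofM]
    show g.1 * Y * g.1ᵀ = g.1ᵀᵀ * Y * g.1ᵀ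
    rw [Matrix.transpose_transpose]
  have h := Cfsg.Agent.Lib.Helper24.OPMin.map_wt_levi D ρ g.transpose _ _ hv
  rw [← h, Cfsg.Agent.Lib.Helper13.SLMin.finrank_map_rho]

theorem mult_tor (a : Fin n) (s : Fˣ) (Y : Matrix (Fin n) (Fin n) F) :
    mult D ρ (dsq a s * Y * dsq a s) = mult D ρ Y := by
  unfold mult
  have hv : toM (ofM (dsq a s * Y * dsq a s)) = dsq a s * toM (ofM Y) * dsq a s := by
    rw [toM_ofM, toM_ofM]
  have h := Cfsg.Agent.Lib.Helper24.OPMin.map_wt_tor D ρ a s _ _ hv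
  rw [← h, Cfsg.Agent.Lib.Helper13.SLMin.finrank_map_rho]

theorem finrank_eq_sum_mult :
    finrank ℂ M = ∑ v : Fin n × Fin n → F, mult D ρ (toM v) := by
  have h := Cfsg.Agent.Lib.Helper13.SLMin.finrank_eq_sum_inf_wt ρ D.radv D.radv_add ⊤
    (fun _ _ _ => Submodule.mem_top)
  rw [finrank_top] at h
  rw [h]
  apply Finset.sum_congr rfl
  intro v _
  rw [top_inf_eq]
  rfl

end REP

section A

variable {F : Type*} [Field F] [Fintype F] [DecidableEq F] {n : ℕ} {H : Type*} [Group H]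
  {M : Type*} [AddCommGroup M] [Module ℂ M] [FiniteDimensional ℂ M]
  (D : Siegel F n H) (ρ : Representation ℂ H M)

/-- A (Case A): a weight of rank at least 4 occurs. -/
theorem caseA (hn : 4 ≤ n) (hq : 3 < Fintype.card F) (v : Fin n × Fin n → F) (hv0 : v ≠ 0)
    (hv : wt ρ D.radv v ≠ ⊥) (hnw : ¬ ∃ a b : Fin n → F, toM v = wedge a b) :
    bnd (Fintype.card F) n ≤ finrank ℂ M := by
  obtain ⟨k, rfl⟩ : ∃ k, n = k + 3 := ⟨n - 3, by omega⟩
  have hk : 1 ≤ k := by omega
  -- the hypotheses of the combinatorial core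
  have halt27 := Cfsg.Agent.Lib.Helper24.OPMin.isAltM_of_wt_ne_bot D ρ v hv
  have halt : Cfsg.Agent.Lib.Helper8.OPMinCaseA.IsAltM (toM v) := by
    refine ⟨?_, halt27.1⟩
    ext i j
    rw [Matrix.transpose_apply, Matrix.neg_apply]
    exact halt27.2 i j
  have h0 : toM v ≠ 0 := by
    intro h
    apply hv0
    have := congrArg ofM h
    rw [ofM_toM, ofM_zero] at this
    exact this
  have hrk : toM v ∉ Cfsg.Agent.Lib.Helper10.OPMinCnt.rk2 F (Fin (k + 3)) := by
    rintro ⟨a, b, _, h⟩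
    apply hnw
    refine ⟨a, b, ?_⟩
    rw [h]
    ext i j
    rw [Cfsg.Agent.Lib.Helper10.OPMinCnt.wedge_apply, wedge_apply]
  have hm0 : 1 ≤ mult D ρ (toM v) := by
    unfold mult
    rw [ofM_toM]
    rw [Nat.one_le_iff_ne_zero]
    intro h
    exact hv (Submodule.finrank_eq_zero.mp h)
  have hstep := fun Y₁ a b h1 h2 h3 h4 h5 h6 h7 =>
    Cfsg.Agent.Lib.Helper8.OPMinCaseA.step_Dsq hq (mult D ρ)
      (fun a s hs Y => by
        have h := mult_tor D ρ a (Units.mk0 s hs) Y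
        exact h) Y₁ a b h1 h2 h3 h4 h5 h6 h7
  have hT : ∀ Y : Matrix (Fin (k + 3)) (Fin (k + 3)) F,
      Cfsg.Agent.Lib.Helper8.OPMinCaseA.IsAltM Y →
        Y ∈ (Finset.univ : Finset (Fin (k + 3) × Fin (k + 3) → F)).image toM := by
    intro Y _
    exact Finset.mem_image.mpr ⟨ofM Y, Finset.mem_univ _, toM_ofM Y⟩
  have hcount := Cfsg.Agent.Lib.Helper8.OPMinCaseA.caseA_total (mult D ρ) (mult_levi D ρ) hstep
    (toM v) halt h0 hrk _ hT
  have hsum : ∑ Y ∈ (Finset.univ : Finset (Fin (k + 3) × Fin (k + 3) → F)).image toM,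
      mult D ρ Y = finrank ℂ M := by
    rw [finrank_eq_sum_mult D ρ, Finset.sum_image]
    intro x _ y _ hxy
    have := congrArg ofM hxy
    rw [ofM_toM, ofM_toM] at this
    exact this
  rw [hsum] at hcount
  have hb := Cfsg.Agent.Lib.Helper13.OPMin.bnd_le_caseA (Fintype.card F) (k + 3) (by omega) hn
  have e1 : k + 3 - 2 = k + 1 := by omega
  have e2 : k + 3 - 1 = k + 2 := by omega
  rw [e1, e2] at hb
  calc bnd (Fintype.card F) (k + 3)
      ≤ 2 * Fintype.card F ^ (k + 1) * (Fintype.card F ^ (k + 2) - 1) := hb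
    _ = (Fintype.card F ^ (k + 2) - 1) * (2 * Fintype.card F ^ (k + 1)) * 1 := by ring
    _ ≤ (Fintype.card F ^ (k + 2) - 1) * (2 * Fintype.card F ^ (k + 1)) * mult D ρ (toM v) :=
        Nat.mul_le_mul_left _ hm0
    _ ≤ finrank ℂ M := hcount

end A

end Cfsg.Agent.Lib.Helper8.OPMin
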