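import Mathlib
import Cfsg.Agent.Lib.Helper17.OSubDefs

/-!
helper8: leaves C3 (`sset_line`) and C4 (`sset_all`, here in the form `sset_all_of` with leaf B5 as an
explicit hypothesis) of helper17's S5659 market (`notes/S5659_plan.md`).
-/

set_option autoImplicit false
set_option linter.unusedSectionVars false
set_option linter.unusedVariables false
set_option linter.unusedSimpArgs false

namespace Cfsg.Agent.Lib.Helper8.OSubLeaf
open Cfsg Matrix Cfsg.Agent.Lib.Helper5.SpMax
  Cfsg.Agent.Lib.Helper5.UForm Cfsg.Agent.Lib.Helper5.HermBridge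
  Cfsg.Agent.Lib.Helper5.SUGen Cfsg.Agent.Lib.Helper5.SUMax Cfsg.Agent.Lib.Helper5.USub
  Cfsg.Agent.Lib.Helper17.OSub

variable {F : Type*} [Field F] [Fintype F] {q n : ℕ}

theorem zero_mem_Sset (hF : Fintype.card F = q ^ 2) (M : Subgroup (GL (Fin n) F)) :
    (0 : Fin n → F) ∈ Sset hF M := by
  intro c hc g hg
  have h1 : g = 1 := by
    apply Units.ext
    apply mat_eq_of_mulVec
    intro v
    rw [hg, smul_zero, add_zero, Units.val_one, Matrix.one_mulVec]
  rw [h1]
  exact M.one_mem

section Rat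
variable {hF : Fintype.card F = q ^ 2} {F₀ : Subfield F} {P : GL (Fin n) F}
  (S : Setup hF F₀ P)
include S

variable {M : Subgroup (GL (Fin n) F)}

/-- LEAF C3: isotropic vectors on the hyperbolic line through two centres are centres. -/
theorem sset_line {z₁ z₂ x : Fin n → F} {α₁ α₂ : F} (h₁ : z₁ ∈ Sset hF M) (h₂ : z₂ ∈ Sset hF M)
    (h₁₁ : Cfsg.hermForm n F q z₁ z₁ = 0) (h₂₂ : Cfsg.hermForm n F q z₂ z₂ = 0)
    (h₁₂ : Cfsg.hermForm n F q z₁ z₂ ≠ 0) (hx : x = α₁ • z₁ + α₂ • z₂)
    (hxx : Cfsg.hermForm n F q x x = 0) : x ∈ Sset hF M := by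
  have hf := herm_unitary (n := n) hF
  by_cases hα : α₁ = 0
  · rw [hx, hα, zero_smul, zero_add]
    exact Sset_smul hF h₂ α₂
  · obtain ⟨β, hβ⟩ : ∃ β, β = Cfsg.hermForm n F q z₁ z₂ := ⟨_, rfl⟩
    rw [← hβ] at h₁₂
    have h21 : Cfsg.hermForm n F q z₂ z₁ = frobQ hF β := by rw [hβ]; exact hf.herm z₂ z₁
    have hexp : α₁ * frobQ hF α₂ * β + α₂ * frobQ hF α₁ * frobQ hF β = 0 := by
      rw [hx] at hxx
      simp only [hf.add_left, hf.smul_left, u_add_right hf, u_smul_right hf] at hxx
      rw [h₁₁, h₂₂, h21, ← hβ] at hxx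
      linear_combination hxx
    have e1 : frobQ hF α₁ ≠ 0 := (map_ne_zero _).mpr hα
    have e2 : frobQ hF β ≠ 0 := (map_ne_zero _).mpr h₁₂
    have hcs : frobQ hF (α₂ / (α₁ * β)) = -(α₂ / (α₁ * β)) := by
      rw [map_div₀, map_mul]
      field_simp
      linear_combination hexp
    have h3 := Sset_tv hF h₁ h₂ h₂₂ hcs
    have h4 := Sset_smul hF h3 α₁
    have h5 : α₁ • (z₁ + (α₂ / (α₁ * β) * Cfsg.hermForm n F q z₁ z₂) • z₂) = x := by
      rw [hx, smul_add, smul_smul, ← hβ]
      congr 2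
      field_simp
    rwa [h5] at h4

/-- shifting `b` by a rational multiple of `z` -/
theorem c4_shift (hR : ∀ z, RS q F₀ P z → z ∈ Sset hF M) {ζ : F} (hζ : frobQ hF ζ = -ζ)
    {a b z : Fin n → F} (hz : RS q F₀ P z) (hbz : Cfsg.hermForm n F q b z = 0)
    (haz : Cfsg.hermForm n F q a z = 1) {s : F} (hs : frobQ hF s = s)
    (hxs : a + ζ • (b + s • z) ∈ Sset hF M) : a + ζ • b ∈ Sset hF M := by
  have hf := herm_unitary (n := n) hF
  have hc : frobQ hF (-(s * ζ)) = -(-(s * ζ)) := by
    rw [map_neg, map_mul, hs, hζ]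
    ring
  have h1 := Sset_tv hF hxs (hR z hz) hz.2.2 hc
  have h2 : Cfsg.hermForm n F q (a + ζ • (b + s • z)) z = 1 := by
    simp only [hf.add_left, hf.smul_left]
    rw [haz, hbz, hz.2.2]
    ring
  rw [h2] at h1
  have h3 : a + ζ • (b + s • z) + (-(s * ζ) * 1) • z = a + ζ • b := by
    funext i
    simp only [Pi.add_apply, Pi.smul_apply, smul_eq_mul]
    ring
  rwa [h3] at h1

/-- LEAF C4 (closure), with leaf B5 as an explicit hypothesis. -/
theorem sset_all_of
    (hB5 : ∀ {a b : Fin n → F}, IsRat F₀ P a → IsRat F₀ P b → Ind F₀ a b →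
      ∃ z, RS q F₀ P z ∧ Cfsg.hermForm n F q b z = 0 ∧ Cfsg.hermForm n F q a z = 1)
    (hR : ∀ z, RS q F₀ P z → z ∈ Sset hF M)
    (x : Fin n → F) (hx : Cfsg.hermForm n F q x x = 0) : x ∈ Sset hF M := by
  have hf := herm_unitary (n := n) hF
  obtain ⟨ζ, hζ0, hζ⟩ := S.exists_zeta
  have hω := S.zeta_moved hζ0 hζ
  obtain ⟨a, b, ha, hb, hxab⟩ := S.decomp_vec hω x
  by_cases hind : Ind F₀ a b
  · obtain ⟨z, hz, hbz, haz⟩ := hB5 ha hb hind
    have hzb : Cfsg.hermForm n F q z b = 0 := by rw [S.sym hb hz.1]; exact hbz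
    have hza : Cfsg.hermForm n F q z a = 1 := by rw [S.sym ha hz.1]; exact haz
    obtain ⟨γ, hγ⟩ : ∃ γ, γ = Cfsg.hermForm n F q a b := ⟨_, rfl⟩
    obtain ⟨β, hβ⟩ : ∃ β, β = Cfsg.hermForm n F q b b := ⟨_, rfl⟩
    have hba : Cfsg.hermForm n F q b a = γ := by rw [hγ]; exact S.sym ha hb
    have hγF : γ ∈ F₀ := by rw [hγ]; exact S.form a b ha hb
    have hβF : β ∈ F₀ := by rw [hβ]; exact S.form b b hb hb
    have hσγ : frobQ hF γ = γ := (S.fix_iff γ).mp hγF
    have hσβ : frobQ hF β = β := (S.fix_iff β).mp hβF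
    have hAA : Cfsg.hermForm n F q a a = ζ * ζ * β := by
      rw [hxab] at hx
      simp only [hf.add_left, hf.smul_left, u_add_right hf, u_smul_right hf] at hx
      rw [hζ, hba, ← hγ, ← hβ] at hx
      linear_combination hx
    rw [hxab]
    have key : ∀ s : F, frobQ hF s = s →
        IsRat F₀ P (b + s • z) ∧
        Cfsg.hermForm n F q (b + s • z) (b + s • z) = β ∧
        Cfsg.hermForm n F q a (b + s • z) = γ + s ∧
        Cfsg.hermForm n F q (b + s • z) a = γ + s ∧
        Cfsg.hermForm n F q (a + ζ • (b + s • z)) (a + ζ • (b + s • z)) = 0 := by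
      intro s hs
      have hsF : s ∈ F₀ := (S.fix_iff s).mpr hs
      have e1 : Cfsg.hermForm n F q (b + s • z) (b + s • z) = β := by
        simp only [hf.add_left, hf.smul_left, u_add_right hf, u_smul_right hf]
        rw [hbz, hzb, hz.2.2, ← hβ]
        ring
      have e2 : Cfsg.hermForm n F q a (b + s • z) = γ + s := by
        simp only [u_add_right hf, u_smul_right hf]
        rw [hs, haz, ← hγ]
        ring
      have e3 : Cfsg.hermForm n F q (b + s • z) a = γ + s := by
        simp only [hf.add_left, hf.smul_left]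
        rw [hba, hza]
        ring
      refine ⟨isRat_add hb (isRat_smul hsF hz.1), e1, e2, e3, ?_⟩
      rw [hf.add_left, hf.smul_left, u_add_right hf a, u_add_right hf (b + s • z),
        u_smul_right hf, u_smul_right hf, hζ, e1, e2, e3, hAA]
      ring
    by_cases hβ0 : β = 0
    · have hs : frobQ hF (1 - γ) = 1 - γ := by rw [map_sub, map_one, hσγ]
      obtain ⟨k1, k2, k3, k4, k5⟩ := key _ hs
      apply c4_shift S hR hζ hz hbz haz hs
      have hab1 : Cfsg.hermForm n F q a (b + (1 - γ) • z) = 1 := by rw [k3]; ring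
      have haRS : RS q F₀ P a := ⟨ha, ind_ne_zero hind, by rw [hAA, hβ0, mul_zero]⟩
      have hb0 : b + (1 - γ) • z ≠ 0 := by
        intro h0
        rw [h0, u_zero_right hf] at hab1
        exact zero_ne_one hab1
      have hbRS : RS q F₀ P (b + (1 - γ) • z) := ⟨k1, hb0, by rw [k2, hβ0]⟩
      exact sset_line S (hR _ haRS) (hR _ hbRS) haRS.2.2 hbRS.2.2
        (by rw [hab1]; exact one_ne_zero) (by rw [one_smul]) k5
    · have h2 := S.two_ne_zero
      obtain ⟨t, ht⟩ : ∃ t, t = ζ * ζ * β * β := ⟨_, rfl⟩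
      have hσt : frobQ hF t = t := by
        rw [ht, map_mul, map_mul, map_mul, hζ, hσβ]
        ring
      have ht1 : t ≠ 1 := by
        intro ht'
        have h3 : (ζ * β - 1) * (ζ * β + 1) = 0 := by
          rw [ht] at ht'
          linear_combination ht'
        rcases mul_eq_zero.mp h3 with h4 | h4
        · have h5 : ζ * β = 1 := by linear_combination h4
          have h6 := congrArg (frobQ hF) h5
          rw [map_mul, hζ, hσβ, map_one] at h6
          apply h2
          linear_combination (-1 : F) * h5 + (-1 : F) * h6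
        · have h5 : ζ * β = -1 := by linear_combination h4
          have h6 := congrArg (frobQ hF) h5
          rw [map_mul, hζ, hσβ, map_neg, map_one] at h6
          apply h2
          linear_combination h5 + h6
      have h1t : 1 - t ≠ 0 := sub_ne_zero.mpr (Ne.symm ht1)
      obtain ⟨g, hg⟩ : ∃ g, g = (1 + t) / 2 := ⟨_, rfl⟩
      have hσg : frobQ hF g = g := by
        rw [hg, map_div₀, map_add, map_one, hσt, map_ofNat]
      have hs : frobQ hF (g - γ) = g - γ := by rw [map_sub, hσg, hσγ]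
      obtain ⟨k1, k2, k3, k4, k5⟩ := key _ hs
      apply c4_shift S hR hζ hz hbz haz hs
      obtain ⟨bs, hbs⟩ : ∃ bs, bs = b + (g - γ) • z := ⟨_, rfl⟩
      rw [← hbs] at k1 k2 k3 k4 k5 ⊢
      have hab : Cfsg.hermForm n F q a bs = g := by rw [k3]; ring
      have hba' : Cfsg.hermForm n F q bs a = g := by rw [k4]; ring
      have htF : t ∈ F₀ := (S.fix_iff t).mpr hσt
      have r1 : IsRat F₀ P (β • a - t • bs) :=
        isRat_sub (isRat_smul hβF ha) (isRat_smul htF k1)
      have r2 : IsRat F₀ P (β • a - bs) := isRat_sub (isRat_smul hβF ha) k1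
      have i1 : Cfsg.hermForm n F q (β • a - t • bs) (β • a - t • bs) = 0 := by
        simp only [u_sub_left hf, u_sub_right hf, hf.smul_left, u_smul_right hf]
        rw [hσβ, hσt, hAA, hab, hba', k2, hg, ht]
        field_simp
        ring
      have i2 : Cfsg.hermForm n F q (β • a - bs) (β • a - bs) = 0 := by
        simp only [u_sub_left hf, u_sub_right hf, hf.smul_left, u_smul_right hf]
        rw [hσβ, hAA, hab, hba', k2, hg, ht]
        field_simp
        ring
      have i12 : Cfsg.hermForm n F q (β • a - t • bs) (β • a - bs) * 2 = -β * (1 - t) ^ 2 := by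
        simp only [u_sub_left hf, u_sub_right hf, hf.smul_left, u_smul_right hf]
        rw [hσβ, hAA, hab, hba', k2, hg, ht]
        field_simp
        ring
      have i12' : Cfsg.hermForm n F q (β • a - t • bs) (β • a - bs) ≠ 0 := by
        intro h0
        rw [h0, zero_mul] at i12
        have : -β * (1 - t) ^ 2 ≠ 0 := mul_ne_zero (neg_ne_zero.mpr hβ0) (pow_ne_zero 2 h1t)
        exact this i12.symm
      have n1 : β • a - t • bs ≠ 0 := by
        intro h0
        rw [h0, u_zero_left hf] at i12'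
        exact i12' rfl
      have n2 : β • a - bs ≠ 0 := by
        intro h0
        rw [h0, u_zero_right hf] at i12'
        exact i12' rfl
      have hz1 : RS q F₀ P (β • a - t • bs) := ⟨r1, n1, i1⟩
      have hz2 : RS q F₀ P (β • a - bs) := ⟨r2, n2, i2⟩
      refine sset_line S (α₁ := (1 / β + ζ) / (1 - t)) (α₂ := 1 / β - (1 / β + ζ) / (1 - t))
        (hR _ hz1) (hR _ hz2) i1 i2 i12' ?_ k5
      funext i
      simp only [Pi.add_apply, Pi.smul_apply, Pi.sub_apply, smul_eq_mul]
      field_simp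
      ring
  · obtain ⟨κ, r, hr, hκr⟩ := mult_of_not_ind ζ ha hb hind
    rw [hxab, hκr]
    by_cases hκ : κ = 0
    · rw [hκ, zero_smul]
      exact zero_mem_Sset hF M
    by_cases hr0 : r = 0
    · rw [hr0, smul_zero]
      exact zero_mem_Sset hF M
    have h1 : Cfsg.hermForm n F q (κ • r) (κ • r) = 0 := by
      rw [← hκr, ← hxab]
      exact hx
    rw [hf.smul_left, u_smul_right hf] at h1
    have h2 : Cfsg.hermForm n F q r r = 0 := by
      rcases mul_eq_zero.mp h1 with h | h
      · exact absurd h hκ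
      · rcases mul_eq_zero.mp h with h' | h'
        · exact absurd ((map_eq_zero _).mp h') hκ
        · exact h'
    exact Sset_smul hF (hR r ⟨hr, hr0, h2⟩) κ

end Rat

end Cfsg.Agent.Lib.Helper8.OSubLeaf
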