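import Mathlib
import Cfsg.Agent.Lib.Helper17.OSubDefs
import Cfsg.Agent.Lib.Helper24.OSubB1
import Cfsg.Agent.Lib.Helper6.OSubB
import Cfsg.Agent.Lib.Helper8.OSubC34

/-!
helper8: leaf B5 (`exists_sing_sep`) and the exact-signature leaf C4 (`sset_all`) of helper17's S5659
market (`notes/S5659_plan.md`).
-/

set_option autoImplicit false
set_option linter.unusedSectionVars false
set_option linter.unusedVariables false
set_option linter.unusedSimpArgs false

namespace Cfsg.Agent.Lib.Helper8.OSubLeaf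
open Cfsg Matrix Cfsg.Agent.Lib.Helper5.SpMax
  Cfsg.Agent.Lib.Helper5.UForm Cfsg.Agent.Lib.Helper5.HermBridge
  Cfsg.Agent.Lib.Helper5.SUGen Cfsg.Agent.Lib.Helper5.SUMax Cfsg.Agent.Lib.Helper5.USub
  Cfsg.Agent.Lib.Helper17.OSub

variable {F : Type*} [Field F] [Fintype F] {q n : ℕ}

section Rat
variable {hF : Fintype.card F = q ^ 2} {F₀ : Subfield F} {P : GL (Fin n) F}
  (S : Setup hF F₀ P)
include S

/-- LEAF B5: a rational isotropic vector separating an independent rational pair. -/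
theorem exists_sing_sep (hn : 13 ≤ n) {a b : Fin n → F} (ha : IsRat F₀ P a)
    (hb : IsRat F₀ P b) (hind : Ind F₀ a b) :
    ∃ z, RS q F₀ P z ∧ Cfsg.hermForm n F q b z = 0 ∧ Cfsg.hermForm n F q a z = 1 := by
  have hf := herm_unitary (n := n) hF
  have hfix : ∀ {x y : Fin n → F}, IsRat F₀ P x → IsRat F₀ P y →
      frobQ hF (Cfsg.hermForm n F q x y) = Cfsg.hermForm n F q x y :=
    fun hx hy => (S.fix_iff _).mp (S.form _ _ hx hy)
  have hind' : Ind F₀ b a := by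
    intro s t hs ht hst
    have := hind t s ht hs (by rw [add_comm]; exact hst)
    exact ⟨this.2, this.1⟩
  obtain ⟨a', ha', haa', hba'⟩ := Cfsg.Agent.Lib.Helper6.OSubLeaf.exists_dual S ha hb hind
  obtain ⟨b', hb', hbb', hab'⟩ := Cfsg.Agent.Lib.Helper6.OSubLeaf.exists_dual S hb ha hind'
  obtain ⟨z5, hz5, hz5y⟩ :=
    Cfsg.Agent.Lib.Helper24.OSubLeaf.exists_sing_perp S hn (![a, b, a', b', 0])
  have p0 : Cfsg.hermForm n F q z5 a = 0 := by simpa using hz5y 0
  have p1 : Cfsg.hermForm n F q z5 b = 0 := by simpa using hz5y 1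
  have p2 : Cfsg.hermForm n F q z5 a' = 0 := by simpa using hz5y 2
  have p3 : Cfsg.hermForm n F q z5 b' = 0 := by simpa using hz5y 3
  obtain ⟨w, hw, hz5w⟩ := Cfsg.Agent.Lib.Helper6.OSubLeaf.exists_partner S hz5
  have hz5z5 := hz5.2.2
  have hww := hw.2.2
  have q0 : Cfsg.hermForm n F q a z5 = 0 := by rw [S.sym hz5.1 ha]; exact p0
  have q1 : Cfsg.hermForm n F q b z5 = 0 := by rw [S.sym hz5.1 hb]; exact p1
  have q2 : Cfsg.hermForm n F q a' z5 = 0 := by rw [S.sym hz5.1 ha']; exact p2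
  have q3 : Cfsg.hermForm n F q b' z5 = 0 := by rw [S.sym hz5.1 hb']; exact p3
  have hwz5 : Cfsg.hermForm n F q w z5 = 1 := by rw [S.sym hz5.1 hw.1]; exact hz5w
  obtain ⟨κa, hκa⟩ : ∃ κ, κ = Cfsg.hermForm n F q a w := ⟨_, rfl⟩
  obtain ⟨κb, hκb⟩ : ∃ κ, κ = Cfsg.hermForm n F q b w := ⟨_, rfl⟩
  obtain ⟨la, hla⟩ : ∃ κ, κ = Cfsg.hermForm n F q a' w := ⟨_, rfl⟩
  obtain ⟨lb, hlb⟩ : ∃ κ, κ = Cfsg.hermForm n F q b' w := ⟨_, rfl⟩
  have sκa : frobQ hF κa = κa := by rw [hκa]; exact hfix ha hw.1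
  have sκb : frobQ hF κb = κb := by rw [hκb]; exact hfix hb hw.1
  have sla : frobQ hF la = la := by rw [hla]; exact hfix ha' hw.1
  have slb : frobQ hF lb = lb := by rw [hlb]; exact hfix hb' hw.1
  have mκa : κa ∈ F₀ := (S.fix_iff _).mpr sκa
  have mκb : κb ∈ F₀ := (S.fix_iff _).mpr sκb
  have mla : la ∈ F₀ := (S.fix_iff _).mpr sla
  have mlb : lb ∈ F₀ := (S.fix_iff _).mpr slb
  -- a'' and b''
  obtain ⟨a'', ha''⟩ : ∃ v, v = a' - la • z5 := ⟨_, rfl⟩
  obtain ⟨b'', hb''⟩ : ∃ v, v = b' - lb • z5 := ⟨_, rfl⟩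
  have ra'' : IsRat F₀ P a'' := by rw [ha'']; exact isRat_sub ha' (isRat_smul mla hz5.1)
  have rb'' : IsRat F₀ P b'' := by rw [hb'']; exact isRat_sub hb' (isRat_smul mlb hz5.1)
  have a1 : Cfsg.hermForm n F q a'' z5 = 0 := by
    rw [ha'', u_sub_left hf, hf.smul_left, q2, hz5z5]; ring
  have a2 : Cfsg.hermForm n F q a'' w = 0 := by
    rw [ha'', u_sub_left hf, hf.smul_left, ← hla, hz5w]; ring
  have a3 : Cfsg.hermForm n F q a a'' = 1 := by
    rw [ha'', u_sub_right hf, u_smul_right hf, haa', q0]; ring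
  have a4 : Cfsg.hermForm n F q b a'' = 0 := by
    rw [ha'', u_sub_right hf, u_smul_right hf, hba', q1]; ring
  have b1 : Cfsg.hermForm n F q b'' z5 = 0 := by
    rw [hb'', u_sub_left hf, hf.smul_left, q3, hz5z5]; ring
  have b2 : Cfsg.hermForm n F q b'' w = 0 := by
    rw [hb'', u_sub_left hf, hf.smul_left, ← hlb, hz5w]; ring
  have b3 : Cfsg.hermForm n F q a b'' = 0 := by
    rw [hb'', u_sub_right hf, u_smul_right hf, hab', q0]; ring
  have b4 : Cfsg.hermForm n F q b b'' = 1 := by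
    rw [hb'', u_sub_right hf, u_smul_right hf, hbb', q1]; ring
  -- u
  obtain ⟨u, hu⟩ : ∃ v, v = (1 - κa) • a'' + (-κb) • b'' := ⟨_, rfl⟩
  have ru : IsRat F₀ P u := by
    rw [hu]
    exact isRat_add (isRat_smul (F₀.sub_mem F₀.one_mem mκa) ra'')
      (isRat_smul (F₀.neg_mem mκb) rb'')
  have u1 : Cfsg.hermForm n F q u z5 = 0 := by
    rw [hu, hf.add_left, hf.smul_left, hf.smul_left, a1, b1]; ring
  have u2 : Cfsg.hermForm n F q u w = 0 := by
    rw [hu, hf.add_left, hf.smul_left, hf.smul_left, a2, b2]; ring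
  have u3 : Cfsg.hermForm n F q a u = 1 - κa := by
    rw [hu, u_add_right hf, u_smul_right hf, u_smul_right hf, a3, b3, map_sub, map_one, sκa]; ring
  have u4 : Cfsg.hermForm n F q b u = -κb := by
    rw [hu, u_add_right hf, u_smul_right hf, u_smul_right hf, a4, b4, map_neg, sκb]; ring
  have u1' : Cfsg.hermForm n F q z5 u = 0 := by rw [S.sym ru hz5.1]; exact u1
  have u2' : Cfsg.hermForm n F q w u = 0 := by rw [S.sym ru hw.1]; exact u2
  obtain ⟨μ, hμ⟩ : ∃ κ, κ = Cfsg.hermForm n F q u u := ⟨_, rfl⟩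
  have sμ : frobQ hF μ = μ := by rw [hμ]; exact hfix ru ru
  obtain ⟨c, hc⟩ : ∃ κ, κ = 2⁻¹ * μ := ⟨_, rfl⟩
  have sc : frobQ hF c = c := by rw [hc, map_mul, map_inv₀, map_ofNat, sμ]
  have mc : c ∈ F₀ := (S.fix_iff _).mpr sc
  have h2 := S.two_ne_zero
  have hzz : Cfsg.hermForm n F q (w + u - c • z5) (w + u - c • z5) = 0 := by
    simp only [u_sub_left hf, u_sub_right hf, hf.add_left, u_add_right hf, hf.smul_left,
      u_smul_right hf]
    rw [sc, hww, u2, u2', u1, u1', hz5z5, hz5w, hwz5, ← hμ, hc]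
    field_simp
    ring
  have haz : Cfsg.hermForm n F q a (w + u - c • z5) = 1 := by
    simp only [u_sub_right hf, u_add_right hf, u_smul_right hf]
    rw [← hκa, u3, q0]
    ring
  have hbz : Cfsg.hermForm n F q b (w + u - c • z5) = 0 := by
    simp only [u_sub_right hf, u_add_right hf, u_smul_right hf]
    rw [← hκb, u4, q1]
    ring
  refine ⟨w + u - c • z5, ⟨isRat_sub (isRat_add hw.1 ru) (isRat_smul mc hz5.1), ?_, hzz⟩,
    hbz, haz⟩
  intro h0
  rw [h0, u_zero_right hf] at haz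
  exact zero_ne_one haz

variable {M : Subgroup (GL (Fin n) F)}

/-- LEAF C4 (closure): all isotropic vectors are centres. -/
theorem sset_all (hn : 13 ≤ n) (hR : ∀ z, RS q F₀ P z → z ∈ Sset hF M)
    (x : Fin n → F) (hx : Cfsg.hermForm n F q x x = 0) : x ∈ Sset hF M :=
  sset_all_of S (fun ha hb hind => exists_sing_sep S hn ha hb hind) hR x hx

end Rat

end Cfsg.Agent.Lib.Helper8.OSubLeaf
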