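import Mathlib
import Cfsg.Agent.Lib.Helper18.TM4A

/-!
# S3996 leaf D (`D_index_two`): the index two subgroup of a group of order `2 * odd` has the same
odd-order counts as the group (helper8; market of helper22, notes/S3996_leaves.lean)
-/

set_option autoImplicit false

namespace Cfsg.Agent.Lib.Helper8.SOT

/-- **D** (M, group theory): a group of order `2 * odd`: the counts of the index two subgroup -/
theorem D_index_two {G : Type*} [Group G] [Finite G] {k : ℕ} (hk : Odd k) (hG : Nat.card G = 2 * k) :
    ∃ Y : Subgroup G, Y.Normal ∧ Y.index = 2 ∧ Nat.card Y = k ∧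
      ∀ d, Odd d → Nat.card {g : Y // orderOf g = d} = Nat.card {g : G // orderOf g = d} := by
  obtain ⟨Y, hYn, hYi, hYc, hY⟩ :=
    Cfsg.Agent.Lib.Helper18.TwoMod4.exists_odd_index_two hk hG
  refine ⟨Y, hYn, hYi, hYc, ?_⟩
  intro d hd
  refine Nat.card_congr
    { toFun := fun g => ⟨(g.1 : G), by rw [Subgroup.orderOf_coe]; exact g.2⟩
      invFun := fun g => ⟨⟨g.1, (hY g.1).2 (by rw [g.2]; exact hd)⟩, by
        rw [← Subgroup.orderOf_coe]; exact g.2⟩
      left_inv := fun g => by ext; rfl
      right_inv := fun g => by ext; rfl }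

end Cfsg.Agent.Lib.Helper8.SOT
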