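import Cfsg.Agent.Lib.Helper20.SPT2Calc
import Cfsg.Agent.Lib.Helper20.SPT2Rel
import Cfsg.Agent.Lib.Helper5.SPT2NUCONJ
import Cfsg.Agent.Lib.Helper12.SPT2SL2GEN

/-!
# S3713 super-leaf T2 (sub-planner helper20), leaf T2-CONJ (helper8):
`Nt` conjugates `σo` on `S_o` to `σp` on `S_p` like `νg`, and back
-/

set_option autoImplicit false

namespace Cfsg.Agent.Lib.Helper8.SPT2CONJ

open Matrix Cfsg.Agent.Lib.Helper5 Cfsg.Agent.Lib.Helper14.SpPerfect Cfsg.Agent.Lib.Helper18.SP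
open Cfsg.Agent.Lib.Helper20.SPT2

variable {F : Type*} [Field F] {n : ℕ} {H : Type*} [Group H] {o p : Fin n}

theorem Tr_e_mem_SS (k : Fin n) (t : F) : Tr (eV n F k) t ∈ SS n F k := by
  show _ ∈ GJ n F {k}
  exact Tr_mem_GJ (eV_mem_VJ (Set.mem_singleton k)) t

theorem Tr_f_mem_SS (k : Fin n) (t : F) : Tr (fV n F k) t ∈ SS n F k := by
  show _ ∈ GJ n F {k}
  exact Tr_mem_GJ (fV_mem_VJ (Set.mem_singleton k)) t

/-- conjugating a partial hom by a fixed element of `H` -/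
theorem homOn_conj {S : Subgroup (Sp n F)} {φ : Sp n F → H} (hφ : HomOn S φ) (N : H) :
    HomOn S (fun g => N * φ g * N⁻¹) := by
  intro a ha b hb
  show N * φ (a * b) * N⁻¹ = N * φ a * N⁻¹ * (N * φ b * N⁻¹)
  rw [hφ.map_mul ha hb]
  group

/-- composing a partial hom with a conjugation of `G` mapping `S` into `T` -/
theorem homOn_comp_conj {S T : Subgroup (Sp n F)} {φ : Sp n F → H} (hφ : HomOn T φ) (ν : Sp n F)
    (hν : ∀ g ∈ S, ν * g * ν⁻¹ ∈ T) : HomOn S (fun g => φ (ν * g * ν⁻¹)) := by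
  intro a ha b hb
  show φ (ν * (a * b) * ν⁻¹) = φ (ν * a * ν⁻¹) * φ (ν * b * ν⁻¹)
  rw [← hφ.map_mul (hν a ha) (hν b hb)]
  congr 1
  group

/-- **CONJ**: `HomOn.eqOn_closure` on the generators of SL2GEN (`SS_le_closure_Tr`), `νg_conj_SS_o/p`, NUCONJ -/
theorem conjRel (A : T2Hyp n F H o p) (W : WeylRel A) : ConjRel A := by
  have hop := A.hop
  constructor
  · intro g hg
    have h1 : HomOn (SS n F o) (fun g => A.Nt * A.σo g * A.Nt⁻¹) := homOn_conj A.hσo A.Nt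
    have h2 : HomOn (SS n F o) (fun g => A.σp (νg n F o p * g * (νg n F o p)⁻¹)) :=
      homOn_comp_conj A.hσp (νg n F o p)
        (fun g hg => Cfsg.Agent.Lib.Helper5.SPT2NUCONJ.νg_conj_SS_o hop hg)
    have hX : {g : Sp n F | ∃ t : F, g = Tr (eV n F o) t ∨ g = Tr (fV n F o) t} ⊆ SS n F o := by
      rintro x ⟨t, rfl | rfl⟩
      · exact Tr_e_mem_SS o t
      · exact Tr_f_mem_SS o t
    refine HomOn.eqOn_closure h1 h2 hX ?_ g
      (Cfsg.Agent.Lib.Helper12.SPT2SL2GEN.SS_le_closure_Tr o hg)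
    rintro x ⟨t, rfl | rfl⟩
    · show A.Nt * A.σo (Tr (eV n F o) t) * A.Nt⁻¹ = A.σp (νg n F o p * Tr (eV n F o) t * (νg n F o p)⁻¹)
      rw [W.R1, Cfsg.Agent.Lib.Helper5.SPT2NUCONJ.νg_conj_Tr_eo hop]
    · show A.Nt * A.σo (Tr (fV n F o) t) * A.Nt⁻¹ = A.σp (νg n F o p * Tr (fV n F o) t * (νg n F o p)⁻¹)
      rw [W.R2, Cfsg.Agent.Lib.Helper5.SPT2NUCONJ.νg_conj_Tr_fo hop]
  · intro g hg
    have h1 : HomOn (SS n F p) (fun g => A.Nt * A.σp g * A.Nt⁻¹) := homOn_conj A.hσp A.Nt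
    have h2 : HomOn (SS n F p) (fun g => A.σo (νg n F o p * g * (νg n F o p)⁻¹)) :=
      homOn_comp_conj A.hσo (νg n F o p)
        (fun g hg => Cfsg.Agent.Lib.Helper5.SPT2NUCONJ.νg_conj_SS_p hop hg)
    have hX : {g : Sp n F | ∃ t : F, g = Tr (eV n F p) t ∨ g = Tr (fV n F p) t} ⊆ SS n F p := by
      rintro x ⟨t, rfl | rfl⟩
      · exact Tr_e_mem_SS p t
      · exact Tr_f_mem_SS p t
    refine HomOn.eqOn_closure h1 h2 hX ?_ g
      (Cfsg.Agent.Lib.Helper12.SPT2SL2GEN.SS_le_closure_Tr p hg)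
    rintro x ⟨t, rfl | rfl⟩
    · show A.Nt * A.σp (Tr (eV n F p) t) * A.Nt⁻¹ = A.σo (νg n F o p * Tr (eV n F p) t * (νg n F o p)⁻¹)
      rw [W.R3, Cfsg.Agent.Lib.Helper5.SPT2NUCONJ.νg_conj_Tr_ep hop]
    · show A.Nt * A.σp (Tr (fV n F p) t) * A.Nt⁻¹ = A.σo (νg n F o p * Tr (fV n F p) t * (νg n F o p)⁻¹)
      rw [W.R4, Cfsg.Agent.Lib.Helper5.SPT2NUCONJ.νg_conj_Tr_fp hop]

end Cfsg.Agent.Lib.Helper8.SPT2CONJ
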