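import Cfsg.Agent.Lib.Helper20.SPT2Calc
import Cfsg.Agent.Lib.Helper12.SPT2G

/-!
# S3713 super-leaf T2 (sub-planner helper20), leaf T2-HMUL (helper8): `Ht` is multiplicative
-/

set_option autoImplicit false

namespace Cfsg.Agent.Lib.Helper8.SPT2HMUL

open Matrix Cfsg.Agent.Lib.Helper5 Cfsg.Agent.Lib.Helper14.SpPerfect Cfsg.Agent.Lib.Helper18.SP
open Cfsg.Agent.Lib.Helper20.SPT2

variable {F : Type*} [Field F] {n : ℕ} {H : Type*} [Group H] {o p : Fin n}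

/-- **HMUL** -/
theorem Ht_mul (A : T2Hyp n F H o p) {s s' : F} (hs : s ≠ 0) (hs' : s' ≠ 0) :
    A.Ht (s * s') = A.Ht s * A.Ht s' := by
  show A.σo (hT n F o (s * s')) * A.σp (hT n F p (s * s')⁻¹) =
    A.σo (hT n F o s) * A.σp (hT n F p s⁻¹) * (A.σo (hT n F o s') * A.σp (hT n F p s'⁻¹))
  rw [← Cfsg.Agent.Lib.Helper12.SPT2G.hT_mul o hs hs', mul_inv,
    ← Cfsg.Agent.Lib.Helper12.SPT2G.hT_mul p (inv_ne_zero hs) (inv_ne_zero hs'),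
    A.hσo.map_mul (hT_mem_SS o s) (hT_mem_SS o s'),
    A.hσp.map_mul (hT_mem_SS p s⁻¹) (hT_mem_SS p s'⁻¹)]
  have hc : A.σo (hT n F o s') * A.σp (hT n F p s⁻¹) = A.σp (hT n F p s⁻¹) * A.σo (hT n F o s') :=
    (A.hD _ (hT_mem_SS o s') _ (hT_mem_SS p s⁻¹)).eq
  calc A.σo (hT n F o s) * A.σo (hT n F o s') * (A.σp (hT n F p s⁻¹) * A.σp (hT n F p s'⁻¹))
      = A.σo (hT n F o s) * (A.σo (hT n F o s') * A.σp (hT n F p s⁻¹)) * A.σp (hT n F p s'⁻¹) := by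
        simp only [mul_assoc]
    _ = A.σo (hT n F o s) * (A.σp (hT n F p s⁻¹) * A.σo (hT n F o s')) * A.σp (hT n F p s'⁻¹) := by
        rw [hc]
    _ = _ := by simp only [mul_assoc]

end Cfsg.Agent.Lib.Helper8.SPT2HMUL
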