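import Cfsg.Agent.Lib.Helper20.SPT2Calc
import Cfsg.Agent.Lib.Helper20.SPT2Rel
import Cfsg.Agent.Lib.Helper12.SPT2G

/-!
# S3713 super-leaf T2 (sub-planner helper20), leaves T2-HX, T2-HY (helper8):
the torus `Ht s` acts on `Xt`, `Yt` by `s²`, `s⁻²`
-/

set_option autoImplicit false

namespace Cfsg.Agent.Lib.Helper8.SPT2HX

open Matrix Cfsg.Agent.Lib.Helper5 Cfsg.Agent.Lib.Helper14.SpPerfect Cfsg.Agent.Lib.Helper18.SP
open Cfsg.Agent.Lib.Helper20.SPT2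

variable {F : Type*} [Field F] {n : ℕ} {H : Type*} [Group H] {o p : Fin n}

theorem SS_p_le_P1 (hop : o ≠ p) : SS n F p ≤ PJ n F {o, p} o := by
  show GJ n F {p} ≤ _
  refine GJ_le_PJ ?_ ?_
  · intro x hx
    rw [Set.mem_singleton_iff] at hx
    rw [hx]
    exact Set.mem_insert_of_mem o rfl
  · rw [Set.mem_singleton_iff]
    exact hop

/-- **HX**: `σp (hT p s⁻¹) = ψ₁ (…)` conjugates in `P1` (`hTp_conj_Xg`), `σo (hT o s) = φ₁ (…)` in `Ph1` (`hTo_conj_Xg`) -/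
theorem Ht_Xt (A : T2Hyp n F H o p) {φ₁ : Sp n F → H} (P1 : Phi1 A φ₁) {s : F} (hs : s ≠ 0) (t : F) :
    A.Ht s * A.Xt t = A.Xt (s ^ 2 * t) * A.Ht s := by
  have hop := A.hop
  have hX : ∀ t : F, Xg n F o p t ∈ PJ n F {o, p} o := Cfsg.Agent.Lib.Helper12.SPT2G.Xg_mem_P1 hop
  have h1 : A.σp (hT n F p s⁻¹) * A.Xt t = A.Xt (s * t) * A.σp (hT n F p s⁻¹) := by
    have hmem := SS_p_le_P1 hop (hT_mem_SS p s⁻¹)
    rw [← A.h1p _ (hT_mem_SS p s⁻¹)]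
    show A.ψ₁ (hT n F p s⁻¹) * A.ψ₁ (Xg n F o p t) = A.ψ₁ (Xg n F o p (s * t)) * A.ψ₁ (hT n F p s⁻¹)
    rw [← A.hψ₁.map_mul hmem (hX t), ← A.hψ₁.map_mul (hX _) hmem]
    congr 1
    have := Cfsg.Agent.Lib.Helper12.SPT2G.hT_p_conj_Xg hop (inv_ne_zero hs) t
    rw [inv_inv] at this
    rw [← this]
    group
  have h2 : A.σo (hT n F o s) * A.Xt (s * t) = A.Xt (s ^ 2 * t) * A.σo (hT n F o s) := by
    have hB : hT n F o s ∈ PhJ n F {o} o := TT_le_PhJ (Set.mem_singleton o) (hT_mem_TT o hs)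
    have hmem : hT n F o s ∈ PhJ n F {o, p} o :=
      PhJ_mono (by
        intro x hx
        rw [Set.mem_singleton_iff] at hx
        rw [hx]
        exact Set.mem_insert o {p}) o hB
    have hX' : ∀ t, Xg n F o p t ∈ PhJ n F {o, p} o := fun t => PJ_le_PhJ _ _ (hX t)
    rw [← P1.onB _ hB]
    show φ₁ (hT n F o s) * A.ψ₁ (Xg n F o p (s * t)) = A.ψ₁ (Xg n F o p (s ^ 2 * t)) * φ₁ (hT n F o s)
    rw [← P1.onP _ (hX _), ← P1.onP _ (hX _), ← P1.hom.map_mul hmem (hX' _),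
      ← P1.hom.map_mul (hX' _) hmem]
    congr 1
    have := Cfsg.Agent.Lib.Helper12.SPT2G.hT_o_conj_Xg hop hs (s * t)
    have e : s ^ 2 * t = s * (s * t) := by ring
    rw [e, ← this]
    group
  show A.σo (hT n F o s) * A.σp (hT n F p s⁻¹) * A.Xt t =
    A.Xt (s ^ 2 * t) * (A.σo (hT n F o s) * A.σp (hT n F p s⁻¹))
  rw [mul_assoc, h1, ← mul_assoc, h2, mul_assoc]

end Cfsg.Agent.Lib.Helper8.SPT2HX
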