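import Cfsg.Agent.Lib.Helper20.SPT2Calc
import Cfsg.Agent.Lib.Helper20.SPT2Rel
import Cfsg.Agent.Lib.Helper12.SPT2G

/-!
# S3713 super-leaf T2 (sub-planner helper20), leaf T2-HY (helper8): the torus `Ht s` acts on `Yt` by `s⁻²`
-/

set_option autoImplicit false

namespace Cfsg.Agent.Lib.Helper8.SPT2HY

open Matrix Cfsg.Agent.Lib.Helper5 Cfsg.Agent.Lib.Helper14.SpPerfect Cfsg.Agent.Lib.Helper18.SP
open Cfsg.Agent.Lib.Helper20.SPT2

variable {F : Type*} [Field F] {n : ℕ} {H : Type*} [Group H] {o p : Fin n}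

theorem SS_o_le_P2 (hop : o ≠ p) : SS n F o ≤ PJ n F {o, p} p := by
  show GJ n F {o} ≤ _
  refine GJ_le_PJ ?_ ?_
  · intro x hx
    rw [Set.mem_singleton_iff] at hx
    rw [hx]
    exact Set.mem_insert o {p}
  · rw [Set.mem_singleton_iff]
    exact hop.symm

/-- **HY** (directly like HX with `φ₂` on `PhJ {p,o} p`) -/
theorem Ht_Yt (A : T2Hyp n F H o p) {φ₂ : Sp n F → H} (P2 : Phi1 A.symm φ₂) {s : F} (hs : s ≠ 0) (t : F) :
    A.Ht s * A.Yt t = A.Yt ((s ^ 2)⁻¹ * t) * A.Ht s := by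
  have hop := A.hop
  have hY : ∀ t : F, Yg n F o p t ∈ PJ n F {o, p} p := Cfsg.Agent.Lib.Helper12.SPT2G.Yg_mem_P2 hop
  have hpair : ({p, o} : Set (Fin n)) = {o, p} := Set.pair_comm p o
  have hY2 : ∀ t : F, Yg n F o p t ∈ PJ n F {p, o} p := fun t => by rw [hpair]; exact hY t
  have h1 : ∀ t : F, A.σo (hT n F o s) * A.Yt t = A.Yt (s⁻¹ * t) * A.σo (hT n F o s) := by
    intro t
    have hmem := SS_o_le_P2 hop (hT_mem_SS o s)
    rw [← A.h2o _ (hT_mem_SS o s)]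
    show A.ψ₂ (hT n F o s) * A.ψ₂ (Yg n F o p t) = A.ψ₂ (Yg n F o p (s⁻¹ * t)) * A.ψ₂ (hT n F o s)
    rw [← A.hψ₂.map_mul hmem (hY t), ← A.hψ₂.map_mul (hY _) hmem]
    congr 1
    have := Cfsg.Agent.Lib.Helper12.SPT2G.hT_o_conj_Yg hop hs t
    rw [← this]
    group
  have h2 : ∀ u : F, A.σp (hT n F p s⁻¹) * A.Yt u = A.Yt (s⁻¹ * u) * A.σp (hT n F p s⁻¹) := by
    intro u
    have hB : hT n F p s⁻¹ ∈ PhJ n F {p} p :=
      TT_le_PhJ (Set.mem_singleton p) (hT_mem_TT p (inv_ne_zero hs))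
    have hmem : hT n F p s⁻¹ ∈ PhJ n F {p, o} p :=
      PhJ_mono (by
        intro x hx
        rw [Set.mem_singleton_iff] at hx
        rw [hx]
        exact Set.mem_insert p {o}) p hB
    have hY' : ∀ t, Yg n F o p t ∈ PhJ n F {p, o} p := fun t => PJ_le_PhJ _ _ (hY2 t)
    have e1 : A.σp (hT n F p s⁻¹) = φ₂ (hT n F p s⁻¹) := (P2.onB _ hB).symm
    have e2 : ∀ t : F, A.Yt t = φ₂ (Yg n F o p t) := fun t => (P2.onP _ (hY2 t)).symm
    rw [e1, e2, e2, ← P2.hom.map_mul hmem (hY' _), ← P2.hom.map_mul (hY' _) hmem]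
    congr 1
    have := Cfsg.Agent.Lib.Helper12.SPT2G.hT_p_conj_Yg hop (inv_ne_zero hs) u
    rw [← this]
    group
  show A.σo (hT n F o s) * A.σp (hT n F p s⁻¹) * A.Yt t =
    A.Yt ((s ^ 2)⁻¹ * t) * (A.σo (hT n F o s) * A.σp (hT n F p s⁻¹))
  have e : (s ^ 2)⁻¹ * t = s⁻¹ * (s⁻¹ * t) := by
    rw [pow_two, mul_inv, mul_assoc]
  rw [mul_assoc, h2, ← mul_assoc, h1, mul_assoc, e]

end Cfsg.Agent.Lib.Helper8.SPT2HY
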