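import Cfsg.Agent.Lib.Helper20.SPT2Calc
import Cfsg.Agent.Lib.Helper20.SPT2Rel
import Cfsg.Agent.Lib.Helper12.SPT2G

/-!
# S3713 super-leaf T2 (sub-planner helper20), leaf T2-XADD (helper8): additivity of `Xt`, `Yt`, `Zt`
-/

set_option autoImplicit false

namespace Cfsg.Agent.Lib.Helper8.SPT2XADD

open Matrix Cfsg.Agent.Lib.Helper5 Cfsg.Agent.Lib.Helper14.SpPerfect Cfsg.Agent.Lib.Helper18.SP
open Cfsg.Agent.Lib.Helper20.SPT2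

variable {F : Type*} [Field F] {n : ℕ} {H : Type*} [Group H] {o p : Fin n}

/-- **XADD**: additivity of `Xt`, `Yt`, `Zt` (local in `P1` / `P2`) -/
theorem addRel (A : T2Hyp n F H o p) : AddRel A := by
  have hop := A.hop
  have hX : ∀ t : F, Xg n F o p t ∈ PJ n F {o, p} o := Cfsg.Agent.Lib.Helper12.SPT2G.Xg_mem_P1 hop
  have hY : ∀ t : F, Yg n F o p t ∈ PJ n F {o, p} p := Cfsg.Agent.Lib.Helper12.SPT2G.Yg_mem_P2 hop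
  have hZ : ∀ t : F, Zg n F o p t ∈ PJ n F {o, p} o := fun t =>
    MM_le_PJ (Set.mem_insert o {p}) (Set.mem_insert_of_mem o rfl) o
      (Cfsg.Agent.Lib.Helper12.SPT2G.Zg_mem_MM t)
  have hXinv : ∀ t : F, (A.Xt t)⁻¹ = A.Xt (-t) := fun t => by
    show (A.ψ₁ (Xg n F o p t))⁻¹ = A.ψ₁ (Xg n F o p (-t))
    rw [← A.hψ₁.map_inv (hX t), Cfsg.Agent.Lib.Helper12.SPT2G.Xg_inv hop]
  have hYinv : ∀ t : F, (A.Yt t)⁻¹ = A.Yt (-t) := fun t => by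
    show (A.ψ₂ (Yg n F o p t))⁻¹ = A.ψ₂ (Yg n F o p (-t))
    rw [← A.hψ₂.map_inv (hY t), Cfsg.Agent.Lib.Helper12.SPT2G.Yg_inv hop]
  refine ⟨fun t u => ?_, fun t u => ?_, hXinv, hYinv, fun t => ?_, ?_, ?_, ?_⟩
  · show A.ψ₁ (Xg n F o p (t + u)) = A.ψ₁ (Xg n F o p t) * A.ψ₁ (Xg n F o p u)
    rw [← A.hψ₁.map_mul (hX t) (hX u), Cfsg.Agent.Lib.Helper12.SPT2G.Xg_add hop]
  · show A.ψ₂ (Yg n F o p (t + u)) = A.ψ₂ (Yg n F o p t) * A.ψ₂ (Yg n F o p u)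
    rw [← A.hψ₂.map_mul (hY t) (hY u), Cfsg.Agent.Lib.Helper12.SPT2G.Yg_add hop]
  · show (A.ψ₁ (Zg n F o p t))⁻¹ = A.ψ₁ (Zg n F o p (-t))
    rw [← A.hψ₁.map_inv (hZ t), Cfsg.Agent.Lib.Helper12.SPT2G.Zg_inv]
  · show (A.Xt 1 * A.Yt (-1) * A.Xt 1)⁻¹ = _
    rw [_root_.mul_inv_rev, _root_.mul_inv_rev, hXinv, hYinv, neg_neg, mul_assoc]
  · show A.ψ₂ (yE n F o p) = A.ψ₂ (Yg n F o p 1)
    rw [Cfsg.Agent.Lib.Helper12.SPT2G.yE_eq_Yg]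
  · exact A.hD _ (nW_mem_SS o) _ (nW_mem_SS p)

end Cfsg.Agent.Lib.Helper8.SPT2XADD
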