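import Mathlib
import Cfsg.Agent.Lib.Helper27.DODefs
import Cfsg.Agent.Lib.Helper8.DOMDefs

/-!
# S4700 wrapper market (helper27), leaf BRW-RANK (helper8)

`G` transitive on `Ω`, `|Ω| = 1 + n p`, the stabilizer of `a` is `N = N_G(P)`, `|P| = p`, `C_G(P) = P`,
`N ≠ P` (i.e. `|N : C_G(P)| ≥ 2`; WITHOUT this the statement is false: `D_10` on 5 points, `p = 2`),
and `N` has exactly `n + 1` orbits on `Ω`.  Then `(n+1) ∣ p (p-1)`.
-/

set_option autoImplicit false
set_option linter.unusedSectionVars false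
set_option linter.style.haveILetI false

namespace Cfsg.Agent.Lib.Helper8.BRWRANK

open Cfsg Cfsg.Agent.Lib.Helper8.DOM Cfsg.Agent.Lib.Helper27.DO

universe u

variable {G : Type u} [Group G] [Finite G] {p : ℕ} [Fact p.Prime]

/-- a subgroup containing a non-trivial element of a group of prime order contains the group -/
theorem le_of_mem_of_prime_card (P K : Subgroup G) (hP : Nat.card P = p) {z : G} (hzP : z ∈ P)
    (hz1 : z ≠ 1) (hzK : z ∈ K) : P ≤ K := by
  intro y hy
  have hz1' : (⟨z, hzP⟩ : P) ≠ 1 := fun h => hz1 (congrArg Subtype.val h)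
  have htop := zpowers_eq_top_of_prime_card hP hz1'
  have hmem : (⟨y, hy⟩ : P) ∈ Subgroup.zpowers (⟨z, hzP⟩ : P) := by
    rw [htop]; exact Subgroup.mem_top _
  obtain ⟨k, hk⟩ := Subgroup.mem_zpowers_iff.mp hmem
  have hy' : y = z ^ k := by
    have := congrArg Subtype.val hk
    simpa using this.symm
  rw [hy']
  exact K.zpow_mem hzK k

/-- `N_G(P)/C_G(P)` is abelian for `P` of prime order -/
theorem comm_mem_Cz (P : Subgroup G) (hP : Nat.card P = p) {s t : G} (hs : s ∈ Nz P)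
    (ht : t ∈ Nz P) : s * t * s⁻¹ * t⁻¹ ∈ Cz P := by
  haveI : IsCyclic P := isCyclic_of_prime_card hP
  have hcomm : ∀ α β : MulAut P, α * β = β * α := by
    intro α β
    apply (IsCyclic.mulAutMulEquiv P).injective
    rw [map_mul, map_mul, mul_comm]
  have h1 : P.normalizerMonoidHom
      ((⟨s, hs⟩ : Nz P) * ⟨t, ht⟩ * (⟨s, hs⟩ : Nz P)⁻¹ * (⟨t, ht⟩ : Nz P)⁻¹) = 1 := by
    rw [map_mul, map_mul, map_mul, map_inv, map_inv,
      hcomm (P.normalizerMonoidHom ⟨s, hs⟩) (P.normalizerMonoidHom ⟨t, ht⟩)]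
    group
  have h2 : ((⟨s, hs⟩ : Nz P) * ⟨t, ht⟩ * (⟨s, hs⟩ : Nz P)⁻¹ * (⟨t, ht⟩ : Nz P)⁻¹) ∈
      P.normalizerMonoidHom.ker := h1
  rw [Subgroup.normalizerMonoidHom_ker] at h2
  exact Subgroup.mem_subgroupOf.mp h2

/-- elements of order dividing `p` of `N_G(P)` centralize `P` -/
theorem mem_Cz_of_pow (P : Subgroup G) (hP : Nat.card P = p) {s : G} (hs : s ∈ Nz P)
    (hsp : s ^ p = 1) : s ∈ Cz P := by
  have hpp : p.Prime := Fact.out
  haveI : IsCyclic P := isCyclic_of_prime_card hP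
  have hcard : Nat.card (MulAut P) = p - 1 := by
    rw [IsCyclic.card_mulAut, hP, Nat.totient_prime hpp]
  haveI : Finite (MulAut P) := by
    apply Nat.finite_of_card_ne_zero
    rw [hcard]
    have := hpp.two_le
    omega
  have h1 : (P.normalizerMonoidHom ⟨s, hs⟩) ^ p = 1 := by
    rw [← map_pow]
    have : (⟨s, hs⟩ : Nz P) ^ p = 1 := Subtype.ext (by simpa using hsp)
    rw [this, map_one]
  have h2 : (P.normalizerMonoidHom ⟨s, hs⟩) ^ (p - 1) = 1 := by
    rw [← hcard]; exact pow_card_eq_one'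
  have h3 : P.normalizerMonoidHom ⟨s, hs⟩ = 1 := by
    have hp1 : p = (p - 1) + 1 := by have := hpp.pos; omega
    rw [hp1, pow_succ, h2, one_mul] at h1
    exact h1
  have h4 : (⟨s, hs⟩ : Nz P) ∈ P.normalizerMonoidHom.ker := h3
  rw [Subgroup.normalizerMonoidHom_ker] at h4
  exact Subgroup.mem_subgroupOf.mp h4

theorem pow_eq_one_of_mem (P : Subgroup G) (hP : Nat.card P = p) {x : G} (hx : x ∈ P) :
    x ^ p = 1 := by
  have := pow_card_eq_one' (G := P) (x := ⟨x, hx⟩)
  rw [hP] at this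
  simpa using congrArg Subtype.val this

section action

variable {Ω : Type*} [MulAction G Ω] (a : Ω) (P : Subgroup G)

theorem fix_iff (hstab : MulAction.stabilizer G a = Nz P) (g : G) : g • a = a ↔ g ∈ Nz P := by
  rw [← hstab]; exact MulAction.mem_stabilizer_iff.symm

theorem smul_of_mem (hstab : MulAction.stabilizer G a = Nz P) {x : G} (hx : x ∈ P) : x • a = a :=
  (fix_iff a P hstab x).mpr (Subgroup.le_normalizer hx)

theorem conj_mem (hstab : MulAction.stabilizer G a = Nz P) {s x : G} (hs : s • a = a)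
    (hx : x ∈ P) : s * x * s⁻¹ ∈ P :=
  (Subgroup.mem_normalizer_iff.mp ((fix_iff a P hstab s).mp hs) x).mp hx

theorem inv_fix {s : G} {ω : Ω} (hs : s • ω = ω) : s⁻¹ • ω = ω := by
  rw [inv_smul_eq_iff, hs]

theorem comm_mem (hP : Nat.card P = p) (hC : Cz P = P) (hstab : MulAction.stabilizer G a = Nz P)
    {s t : G} (hs : s • a = a) (ht : t • a = a) : s * t * s⁻¹ * t⁻¹ ∈ P := by
  have := comm_mem_Cz P hP ((fix_iff a P hstab s).mp hs) ((fix_iff a P hstab t).mp ht)
  rwa [hC] at this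

theorem mem_of_pow (hP : Nat.card P = p) (hC : Cz P = P) (hstab : MulAction.stabilizer G a = Nz P)
    {s : G} (hs : s • a = a) (hsp : s ^ p = 1) : s ∈ P := by
  have := mem_Cz_of_pow P hP ((fix_iff a P hstab s).mp hs) hsp
  rwa [hC] at this

/-- `P` fixes only `a` -/
theorem eq_of_fixed [MulAction.IsPretransitive G Ω] (hP : Nat.card P = p) (hC : Cz P = P)
    (hstab : MulAction.stabilizer G a = Nz P) {ω : Ω} (h : ∀ x ∈ P, x • ω = ω) : ω = a := by
  obtain ⟨g, rfl⟩ := MulAction.exists_smul_eq G a ω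
  have h1 : ∀ x, x ∈ (P : Set G) → g⁻¹ * x * g⁻¹⁻¹ ∈ (P : Set G) := by
    intro x hx
    have hfix : (g⁻¹ * x * g⁻¹⁻¹) • a = a := by
      rw [inv_inv, mul_smul, mul_smul, h x hx, inv_smul_smul]
    apply mem_of_pow a P hP hC hstab hfix
    rw [conj_pow, pow_eq_one_of_mem P hP hx]
    group
  have h2 : g⁻¹ ∈ Nz P := Subgroup.mem_normalizer_fintype h1
  have h3 : g ∈ Nz P := by simpa using (Nz P).inv_mem h2
  exact (fix_iff a P hstab g).mpr h3

/-- `P` is semiregular off `a` -/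
theorem eq_one_of_fix [MulAction.IsPretransitive G Ω] (hP : Nat.card P = p) (hC : Cz P = P)
    (hstab : MulAction.stabilizer G a = Nz P) {ω : Ω} (hω : ω ≠ a) {x : G} (hx : x ∈ P)
    (hfix : x • ω = ω) : x = 1 := by
  by_contra hx1
  apply hω
  apply eq_of_fixed a P hP hC hstab
  have := le_of_mem_of_prime_card P (MulAction.stabilizer G ω) hP hx hx1
    (MulAction.mem_stabilizer_iff.mpr hfix)
  intro y hy
  exact MulAction.mem_stabilizer_iff.mp (this hy)

/-- an element outside `P = C_G(P)` commutes with no non-trivial element of `P` -/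
theorem eq_one_of_commute (hP : Nat.card P = p) (hC : Cz P = P) {s z : G} (hsP : s ∉ P)
    (hz : z ∈ P) (hcomm : s * z = z * s) : z = 1 := by
  by_contra hz1
  apply hsP
  have h1 : P ≤ Subgroup.centralizer {s} := le_of_mem_of_prime_card P _ hP hz hz1 (by
    rw [Subgroup.mem_centralizer_iff]
    intro h hh
    rw [Set.mem_singleton_iff] at hh
    subst hh
    exact hcomm)
  rw [← hC, Subgroup.mem_centralizer_iff]
  intro y hy
  exact (Subgroup.mem_centralizer_iff.mp (h1 hy) s rfl).symm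

/-- an element of `N \ P` fixes at most one point of a `P`-orbit (off `a`) -/
theorem eq_one_of_fix_two [MulAction.IsPretransitive G Ω] (hP : Nat.card P = p) (hC : Cz P = P)
    (hstab : MulAction.stabilizer G a = Nz P) {s z : G} (hs : s • a = a) (hsP : s ∉ P) {ω : Ω}
    (hω : ω ≠ a) (hz : z ∈ P) (h1 : s • ω = ω) (h2 : s • (z • ω) = z • ω) : z = 1 := by
  have hc : s⁻¹ * z⁻¹ * s * z ∈ P := by
    have := conj_mem a P hstab (inv_fix hs) (P.inv_mem hz)
    rw [inv_inv] at this
    exact P.mul_mem this hz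
  have hcfix : (s⁻¹ * z⁻¹ * s * z) • ω = ω := by
    rw [mul_smul, mul_smul, mul_smul, h2, inv_smul_smul, inv_smul_eq_iff, h1]
  have hc1 := eq_one_of_fix a P hP hC hstab hω hc hcfix
  apply eq_one_of_commute P hP hC hsP hz
  have : s⁻¹ * z⁻¹ * s * z = 1 := hc1
  calc s * z = z * s * (s⁻¹ * z⁻¹ * s * z) := by group
    _ = z * s := by rw [this, mul_one]

/-- the `P`-conjugates of `s ∈ N \ P` fill the coset `P s` -/
theorem exists_conj_eq (hP : Nat.card P = p) (hC : Cz P = P)
    (hstab : MulAction.stabilizer G a = Nz P) {s c : G} (hs : s • a = a) (hsP : s ∉ P)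
    (hc : c ∈ P) : ∃ x ∈ P, x⁻¹ * s * x = c * s := by
  have hmem : ∀ x : P, (x : G)⁻¹ * s * x * s⁻¹ ∈ P := by
    intro x
    have h1 := conj_mem a P hstab hs x.2
    have : (x : G)⁻¹ * s * x * s⁻¹ = (x : G)⁻¹ * (s * x * s⁻¹) := by group
    rw [this]
    exact P.mul_mem (P.inv_mem x.2) h1
  let ψ : P → P := fun x => ⟨(x : G)⁻¹ * s * x * s⁻¹, hmem x⟩
  have hinj : Function.Injective ψ := by
    intro x y hxy
    have h1 : (x : G)⁻¹ * s * x * s⁻¹ = (y : G)⁻¹ * s * y * s⁻¹ := congrArg Subtype.val hxy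
    have h2 : s * ((x : G) * (y : G)⁻¹) = ((x : G) * (y : G)⁻¹) * s := by
      have h3 : (x : G)⁻¹ * s * x = (y : G)⁻¹ * s * y := by
        have := congrArg (· * s) h1
        simpa using this
      calc s * ((x : G) * (y : G)⁻¹) = x * ((x : G)⁻¹ * s * x) * (y : G)⁻¹ := by group
        _ = x * ((y : G)⁻¹ * s * y) * (y : G)⁻¹ := by rw [h3]
        _ = ((x : G) * (y : G)⁻¹) * s := by group
    have h4 := eq_one_of_commute P hP hC hsP (P.mul_mem x.2 (P.inv_mem y.2)) h2
    apply Subtype.ext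
    exact mul_inv_eq_one.mp h4
  haveI : Finite P := Subtype.finite
  have hsurj : Function.Surjective ψ := Finite.injective_iff_surjective.mp hinj
  obtain ⟨x, hx⟩ := hsurj ⟨c, hc⟩
  refine ⟨x, x.2, ?_⟩
  have h1 : (x : G)⁻¹ * s * x * s⁻¹ = c := congrArg Subtype.val hx
  rw [← h1]
  group

/-- the classes of the orbit relation of the stabilizer -/
theorem mk_eq_iff (ω ω' : Ω) :
    (Quotient.mk'' ω : MulAction.orbitRel.Quotient (MulAction.stabilizer G a) Ω) = Quotient.mk'' ω' ↔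
      ∃ s : G, s • a = a ∧ s • ω' = ω := by
  rw [Quotient.eq'']
  show ω ∈ MulAction.orbit (MulAction.stabilizer G a) ω' ↔ _
  constructor
  · rintro ⟨⟨s, hs⟩, rfl⟩
    exact ⟨s, MulAction.mem_stabilizer_iff.mp hs, rfl⟩
  · rintro ⟨s, hs, rfl⟩
    exact ⟨⟨s, MulAction.mem_stabilizer_iff.mpr hs⟩, rfl⟩

end action

section counting

variable {Ω : Type*} [Fintype Ω] [MulAction G Ω] [MulAction.IsPretransitive G Ω] (a : Ω)
  (P : Subgroup G) (hP : Nat.card P = p) (hC : Cz P = P)
  (hstab : MulAction.stabilizer G a = Nz P) (n : ℕ) (hcard : Fintype.card Ω = 1 + n * p)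
  (hrank : Nat.card (MulAction.orbitRel.Quotient (MulAction.stabilizer G a) Ω) = n + 1)

include hP hC hstab hcard hrank

/-- every `N`-orbit off `a` is a single `P`-orbit -/
theorem exists_smul_eq_of_fix {ω : Ω} (hω : ω ≠ a) {s : G} (hs : s • a = a) :
    ∃ x ∈ P, s • ω = x • ω := by
  classical
  let Q := MulAction.orbitRel.Quotient (MulAction.stabilizer G a) Ω
  let mk : Ω → Q := fun ω => Quotient.mk'' ω
  have hmk : ∀ ω ω' : Ω, mk ω = mk ω' ↔ ∃ s : G, s • a = a ∧ s • ω' = ω := mk_eq_iff a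
  have hout : ∀ q : Q, mk q.out = q := fun q => Quotient.out_eq' q
  let qa : Q := mk a
  have hwd : ∀ (q : {q : Q // q ≠ qa}) (x : P), (x : G) • (q : Q).out ≠ a := by
    intro q x h
    apply q.2
    have h1 : (q : Q).out = a := by
      have := congrArg (fun ω => (x : G)⁻¹ • ω) h
      simp only [inv_smul_smul] at this
      rw [this, inv_smul_eq_iff, smul_of_mem a P hstab x.2]
    rw [← hout q, h1]
  let Φ : {q : Q // q ≠ qa} × P → {ω : Ω // ω ≠ a} :=
    fun qx => ⟨(qx.2 : G) • (qx.1 : Q).out, hwd qx.1 qx.2⟩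
  have hinj : Function.Injective Φ := by
    rintro ⟨q, x⟩ ⟨q', x'⟩ h
    have h1 : (x : G) • (q : Q).out = (x' : G) • (q' : Q).out := congrArg Subtype.val h
    have hqq : (q : Q) = q' := by
      rw [← hout q, ← hout q', hmk]
      refine ⟨(x : G)⁻¹ * x', ?_, ?_⟩
      · rw [mul_smul, smul_of_mem a P hstab x'.2, inv_smul_eq_iff, smul_of_mem a P hstab x.2]
      · rw [mul_smul, ← h1, inv_smul_smul]
    have hqq' : q = q' := Subtype.ext hqq
    subst hqq'
    have hne : (q : Q).out ≠ a := by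
      intro h2
      apply q.2
      rw [← hout q, h2]
    have h2 : ((x' : G)⁻¹ * x) • (q : Q).out = (q : Q).out := by
      rw [mul_smul, h1, inv_smul_smul]
    have h3 := eq_one_of_fix a P hP hC hstab hne (P.mul_mem (P.inv_mem x'.2) x.2) h2
    have : x = x' := Subtype.ext (inv_mul_eq_one.mp h3).symm
    rw [this]
  have hcQ : Nat.card {q : Q // q ≠ qa} = n := by
    have := Nat.card_congr (Equiv.optionSubtypeNe qa)
    rw [Finite.card_option, hrank] at this
    omega
  have hcΩ : Nat.card {ω : Ω // ω ≠ a} = n * p := by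
    have := Nat.card_congr (Equiv.optionSubtypeNe a)
    rw [Finite.card_option, Nat.card_eq_fintype_card (α := Ω), hcard] at this
    omega
  have hbij : Function.Bijective Φ := by
    apply hinj.bijective_of_nat_card_le
    rw [Nat.card_prod, hcQ, hP, hcΩ]
  have hsω : s • ω ≠ a := by
    intro h
    apply hω
    have := congrArg (fun w => s⁻¹ • w) h
    simp only [inv_smul_smul] at this
    rw [this, inv_smul_eq_iff, hs]
  obtain ⟨⟨q1, x1⟩, h1⟩ := hbij.2 ⟨ω, hω⟩
  obtain ⟨⟨q2, x2⟩, h2⟩ := hbij.2 ⟨s • ω, hsω⟩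
  have h1' : (x1 : G) • (q1 : Q).out = ω := congrArg Subtype.val h1
  have h2' : (x2 : G) • (q2 : Q).out = s • ω := congrArg Subtype.val h2
  have hqq : (q2 : Q) = q1 := by
    rw [← hout q2, ← hout q1, hmk]
    refine ⟨(x2 : G)⁻¹ * s * x1, ?_, ?_⟩
    · rw [mul_smul, mul_smul, smul_of_mem a P hstab x1.2, hs, inv_smul_eq_iff,
        smul_of_mem a P hstab x2.2]
    · rw [mul_smul, mul_smul, h1', ← h2', inv_smul_smul]
  refine ⟨(x2 : G) * (x1 : G)⁻¹, P.mul_mem x2.2 (P.inv_mem x1.2), ?_⟩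
  rw [← h2', hqq, mul_smul, ← h1', inv_smul_smul]

/-- an element of `N \ P` fixes a point of every `P`-orbit -/
theorem exists_fix_point {s : G} (hs : s • a = a) (hsP : s ∉ P) {ω : Ω} (hω : ω ≠ a) :
    ∃ x ∈ P, s • (x • ω) = x • ω := by
  obtain ⟨y, hy, hyω⟩ := exists_smul_eq_of_fix a P hP hC hstab n hcard hrank hω hs
  obtain ⟨x, hx, hxs⟩ := exists_conj_eq a P hP hC hstab hs hsP (P.inv_mem hy)
  refine ⟨x, hx, ?_⟩
  have h1 : (x⁻¹ * s * x) • ω = ω := by
    rw [hxs, mul_smul, hyω, inv_smul_smul]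
  calc s • (x • ω) = x • ((x⁻¹ * s * x) • ω) := by simp only [mul_smul, smul_inv_smul]
    _ = x • ω := by rw [h1]

/-- a non-trivial subgroup of `N` meeting `P` trivially fixes a point of every `P`-orbit -/
theorem exists_fixed (T : Subgroup G) (hTa : ∀ t ∈ T, t • a = a) (hTP : ∀ t ∈ T, t ∈ P → t = 1)
    {t0 : G} (ht0 : t0 ∈ T) (ht01 : t0 ≠ 1) {ω : Ω} (hω : ω ≠ a) :
    ∃ x ∈ P, ∀ t ∈ T, t • (x • ω) = x • ω := by
  have ht0P : t0 ∉ P := fun h => ht01 (hTP t0 ht0 h)
  obtain ⟨x, hx, hfix⟩ := exists_fix_point a P hP hC hstab n hcard hrank (hTa t0 ht0) ht0P hω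
  refine ⟨x, hx, fun t ht => ?_⟩
  have hω' : x • ω ≠ a := by
    intro h
    apply hω
    have := congrArg (fun w => x⁻¹ • w) h
    simp only [inv_smul_smul] at this
    rw [this, inv_smul_eq_iff, smul_of_mem a P hstab hx]
  obtain ⟨z, hz, hzω⟩ := exists_smul_eq_of_fix a P hP hC hstab n hcard hrank hω' (hTa t ht)
  have hcomm : t0 * t = t * t0 := by
    have hc : t0⁻¹ * t⁻¹ * t0⁻¹⁻¹ * t⁻¹⁻¹ ∈ P :=
      comm_mem a P hP hC hstab (inv_fix (hTa t0 ht0)) (inv_fix (hTa t ht))
    have hcT : t0⁻¹ * t⁻¹ * t0⁻¹⁻¹ * t⁻¹⁻¹ ∈ T :=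
      T.mul_mem (T.mul_mem (T.mul_mem (T.inv_mem ht0) (T.inv_mem ht)) (T.inv_mem (T.inv_mem ht0)))
        (T.inv_mem (T.inv_mem ht))
    have h1 := hTP _ hcT hc
    calc t0 * t = t * t0 * (t0⁻¹ * t⁻¹ * t0⁻¹⁻¹ * t⁻¹⁻¹) := by group
      _ = t * t0 := by rw [h1, mul_one]
  have h2 : t0 • (z • (x • ω)) = z • (x • ω) := by
    rw [← hzω, ← mul_smul, hcomm, mul_smul, hfix]
  have := eq_one_of_fix_two a P hP hC hstab (hTa t0 ht0) ht0P hω' hz hfix h2
  rw [hzω, this, one_smul]

/-- such a subgroup fixes exactly `n + 1` points -/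
theorem card_fixed (T : Subgroup G) (hTa : ∀ t ∈ T, t • a = a) (hTP : ∀ t ∈ T, t ∈ P → t = 1)
    {t0 : G} (ht0 : t0 ∈ T) (ht01 : t0 ≠ 1) :
    Nat.card {ω : Ω // ∀ t ∈ T, t • ω = ω} = n + 1 := by
  have ht0P : t0 ∉ P := fun h => ht01 (hTP t0 ht0 h)
  rw [← hrank]
  let F : {ω : Ω // ∀ t ∈ T, t • ω = ω} →
      MulAction.orbitRel.Quotient (MulAction.stabilizer G a) Ω := fun ω => Quotient.mk'' (ω : Ω)
  refine Nat.card_congr (Equiv.ofBijective F ⟨?_, ?_⟩)
  · rintro ⟨ω1, h1⟩ ⟨ω2, h2⟩ h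
    have h' : (Quotient.mk'' ω1 : MulAction.orbitRel.Quotient (MulAction.stabilizer G a) Ω) =
        Quotient.mk'' ω2 := h
    rw [mk_eq_iff] at h'
    obtain ⟨s, hs, hsω⟩ := h'
    apply Subtype.ext
    show ω1 = ω2
    by_cases hω2 : ω2 = a
    · rw [← hsω, hω2, hs]
    · obtain ⟨z, hz, hzω⟩ := exists_smul_eq_of_fix a P hP hC hstab n hcard hrank hω2 hs
      have := eq_one_of_fix_two a P hP hC hstab (hTa t0 ht0) ht0P hω2 hz (h2 t0 ht0)
        (by rw [← hzω, hsω]; exact h1 t0 ht0)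
      rw [← hsω, hzω, this, one_smul]
  · intro q
    induction q using Quotient.inductionOn' with
    | h ω =>
      by_cases hω : ω = a
      · refine ⟨⟨a, hTa⟩, ?_⟩
        show (Quotient.mk'' a : MulAction.orbitRel.Quotient (MulAction.stabilizer G a) Ω) = _
        rw [hω]
      · obtain ⟨x, hx, hfix⟩ := exists_fixed a P hP hC hstab n hcard hrank T hTa hTP ht0 ht01 hω
        refine ⟨⟨x • ω, hfix⟩, ?_⟩
        show (Quotient.mk'' (x • ω) : MulAction.orbitRel.Quotient (MulAction.stabilizer G a) Ω) = _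
        rw [mk_eq_iff]
        exact ⟨x, smul_of_mem a P hstab hx, rfl⟩

end counting

/-- RANK (F3), corrected (`hf2`). -/
theorem succ_dvd_of_rank {Ω : Type*} [Fintype Ω] [MulAction G Ω] [MulAction.IsPretransitive G Ω] (a : Ω)
    (P : Subgroup G) (hP : Nat.card P = p) (hC : Cz P = P) (hf2 : 2 ≤ (Cz P).relIndex (Nz P))
    (hstab : MulAction.stabilizer G a = Nz P)
    (n : ℕ) (hn : 1 ≤ n) (hcard : Fintype.card Ω = 1 + n * p)
    (hrank : Nat.card (MulAction.orbitRel.Quotient (MulAction.stabilizer G a) Ω) = n + 1) :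
    (n + 1) ∣ p * (p - 1) := by
  classical
  have hpp : p.Prime := Fact.out
  -- an element of `N \ P`
  have hnle : ¬ Nz P ≤ Cz P := fun h => by
    have := Subgroup.relIndex_eq_one.mpr h
    omega
  obtain ⟨s0, hs0N, hs0C⟩ := SetLike.not_le_iff_exists.mp hnle
  have hs0P : s0 ∉ P := by rwa [hC] at hs0C
  have hs0a : s0 • a = a := (fix_iff a P hstab s0).mpr hs0N
  have hs01 : s0 ≠ 1 := fun h => hs0P (h ▸ P.one_mem)
  -- a point off `a` fixed by `s0`
  have hlt : 1 < Fintype.card Ω := by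
    rw [hcard]
    have : 1 * 2 ≤ n * p := Nat.mul_le_mul hn hpp.two_le
    omega
  obtain ⟨ω0, hω0⟩ := Fintype.exists_ne_of_one_lt_card hlt a
  obtain ⟨x0, hx0, hs0ω⟩ := exists_fix_point a P hP hC hstab n hcard hrank hs0a hs0P hω0
  have hω : x0 • ω0 ≠ a := by
    intro h
    apply hω0
    have := congrArg (fun w => x0⁻¹ • w) h
    simp only [inv_smul_smul] at this
    rw [this, inv_smul_eq_iff, smul_of_mem a P hstab hx0]
  generalize x0 • ω0 = ω at hs0ω hω
  -- the two-point stabilizer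
  let E : Subgroup G := MulAction.stabilizer G a ⊓ MulAction.stabilizer G ω
  have hEmem : ∀ e, e ∈ E ↔ e • a = a ∧ e • ω = ω := fun e => by
    show e ∈ MulAction.stabilizer G a ⊓ MulAction.stabilizer G ω ↔ _
    rw [Subgroup.mem_inf, MulAction.mem_stabilizer_iff, MulAction.mem_stabilizer_iff]
  have hEa : ∀ e ∈ E, e • a = a := fun e he => ((hEmem e).mp he).1
  have hEω : ∀ e ∈ E, e • ω = ω := fun e he => ((hEmem e).mp he).2
  have hEP : ∀ e ∈ E, e ∈ P → e = 1 := fun e he heP =>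
    eq_one_of_fix a P hP hC hstab hω heP (hEω e he)
  have hs0E : s0 ∈ E := (hEmem s0).mpr ⟨hs0a, hs0ω⟩
  have hfixcard : Nat.card {ω' : Ω // ∀ e ∈ E, e • ω' = ω'} = n + 1 :=
    card_fixed a P hP hC hstab n hcard hrank E hEa hEP hs0E hs01
  let M : Subgroup G := Subgroup.normalizer (E : Set G)
  -- (ii) the normalizer of `E` is transitive on the fixed points of `E`
  have hii : ∀ ω' : Ω, (∀ e ∈ E, e • ω' = ω') → ∃ h ∈ M, h • a = ω' := by
    intro ω' hfix
    obtain ⟨g, rfl⟩ := MulAction.exists_smul_eq G a ω'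
    let T : Subgroup G := E.comap (MulAut.conj g).toMonoidHom
    have hTmem : ∀ t, t ∈ T ↔ g * t * g⁻¹ ∈ E := fun t => Iff.rfl
    have hTa : ∀ t ∈ T, t • a = a := by
      intro t ht
      have h1 := hfix _ ((hTmem t).mp ht)
      rw [mul_smul, mul_smul, inv_smul_smul] at h1
      exact smul_left_cancel g h1
    have hTP : ∀ t ∈ T, t ∈ P → t = 1 := by
      intro t ht htP
      have he := (hTmem t).mp ht
      have hpow : (g * t * g⁻¹) ^ p = 1 := by
        rw [conj_pow, pow_eq_one_of_mem P hP htP]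
        group
      have heP := mem_of_pow a P hP hC hstab (hEa _ he) hpow
      have h1 := hEP _ he heP
      have : t = g⁻¹ * (g * t * g⁻¹) * g := by group
      rw [this, h1]
      group
    have ht0 : g⁻¹ * s0 * g ∈ T := (hTmem _).mpr (by
      have : g * (g⁻¹ * s0 * g) * g⁻¹ = s0 := by group
      rw [this]
      exact hs0E)
    have ht01 : g⁻¹ * s0 * g ≠ 1 := by
      intro h
      apply hs01
      have : s0 = g * (g⁻¹ * s0 * g) * g⁻¹ := by group
      rw [this, h]
      group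
    obtain ⟨y, hy, hyfix⟩ := exists_fixed a P hP hC hstab n hcard hrank T hTa hTP ht0 ht01 hω
    refine ⟨g * y, ?_, ?_⟩
    · have hinv : (g * y)⁻¹ ∈ M := by
        apply Subgroup.mem_normalizer_fintype
        intro e he
        have he' : e ∈ E := he
        have htT : g⁻¹ * e * g ∈ T := (hTmem _).mpr (by
          have : g * (g⁻¹ * e * g) * g⁻¹ = e := by group
          rw [this]
          exact he')
        have heq : (g * y)⁻¹ * e * (g * y)⁻¹⁻¹ = y⁻¹ * (g⁻¹ * e * g) * y := by group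
        rw [heq]
        show _ ∈ E
        rw [hEmem]
        constructor
        · rw [mul_smul, mul_smul, smul_of_mem a P hstab hy, hTa _ htT, inv_smul_eq_iff,
            smul_of_mem a P hstab hy]
        · rw [mul_smul, mul_smul, hyfix _ htT, inv_smul_smul]
      have := M.inv_mem hinv
      rwa [inv_inv] at this
    · rw [mul_smul, smul_of_mem a P hstab hy]
  -- (iii) the stabilizer of `a` in the normalizer of `E` is `E`
  have hiii : ∀ h ∈ M, h • a = a → h ∈ E := by
    intro h hM ha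
    rw [hEmem]
    refine ⟨ha, ?_⟩
    obtain ⟨z, hz, hzω⟩ := exists_smul_eq_of_fix a P hP hC hstab n hcard hrank hω ha
    have hfix2 : s0 • (z • ω) = z • ω := by
      rw [← hzω]
      have hinv : h⁻¹ ∈ M := M.inv_mem hM
      have hc : h⁻¹ * s0 * h⁻¹⁻¹ ∈ E := (Subgroup.mem_normalizer_iff.mp hinv s0).mp hs0E
      have hc' := hEω _ hc
      rw [inv_inv] at hc'
      calc s0 • (h • ω) = h • ((h⁻¹ * s0 * h) • ω) := by simp only [mul_smul, smul_inv_smul]
        _ = h • ω := by rw [hc']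
    have := eq_one_of_fix_two a P hP hC hstab hs0a hs0P hω hz hs0ω hfix2
    rw [hzω, this, one_smul]
  -- the orbit of `a` under the normalizer of `E`
  have horb : ∀ ω' : Ω, ω' ∈ MulAction.orbit M a ↔ ∀ e ∈ E, e • ω' = ω' := by
    intro ω'
    constructor
    · rintro ⟨⟨h, hM⟩, rfl⟩ e he
      show e • (h • a) = h • a
      have hinv : h⁻¹ ∈ M := M.inv_mem hM
      have hc : h⁻¹ * e * h⁻¹⁻¹ ∈ E := (Subgroup.mem_normalizer_iff.mp hinv e).mp he
      have hc' := hEa _ hc
      rw [inv_inv] at hc'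
      calc e • (h • a) = h • ((h⁻¹ * e * h) • a) := by simp only [mul_smul, smul_inv_smul]
        _ = h • a := by rw [hc']
    · intro hfix
      obtain ⟨h, hM, hh⟩ := hii ω' hfix
      exact ⟨⟨h, hM⟩, hh⟩
  -- cardinalities
  have hcorb : Nat.card (MulAction.orbit M a) = n + 1 := by
    rw [← hfixcard]
    exact Nat.card_congr (Equiv.subtypeEquivRight horb)
  have hcstab : Nat.card (MulAction.stabilizer M a) = Nat.card E := by
    let f : MulAction.stabilizer M a → E := fun m =>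
      ⟨((m : M) : G), hiii _ (m : M).2 (MulAction.mem_stabilizer_iff.mp m.2)⟩
    refine Nat.card_congr (Equiv.ofBijective f ⟨?_, ?_⟩)
    · intro m m' h
      have h1 : ((f m : E) : G) = ((f m' : E) : G) := congrArg Subtype.val h
      exact Subtype.ext (Subtype.ext h1)
    · intro e
      refine ⟨⟨⟨(e : G), Subgroup.le_normalizer e.2⟩, ?_⟩, ?_⟩
      · rw [MulAction.mem_stabilizer_iff]
        exact hEa _ e.2
      · exact Subtype.ext rfl
  have hcM : Nat.card M = (n + 1) * Nat.card E := by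
    have h1 := Subgroup.index_mul_card (MulAction.stabilizer M a)
    rw [MulAction.index_stabilizer, ← Nat.card_coe_set_eq, hcorb, hcstab] at h1
    exact h1.symm
  have hcS : Nat.card (MulAction.stabilizer G a) = p * Nat.card E := by
    let f : P × E → MulAction.stabilizer G a := fun xe =>
      ⟨(xe.1 : G) * (xe.2 : G), by
        rw [MulAction.mem_stabilizer_iff, mul_smul, hEa _ xe.2.2, smul_of_mem a P hstab xe.1.2]⟩
    have hbij : Function.Bijective f := by
      constructor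
      · rintro ⟨x, e⟩ ⟨x', e'⟩ h
        have h1 : (x : G) * (e : G) = (x' : G) * (e' : G) := congrArg Subtype.val h
        have h2 : (x' : G)⁻¹ * (x : G) = (e' : G) * (e : G)⁻¹ := by
          calc (x' : G)⁻¹ * (x : G) = (x' : G)⁻¹ * ((x : G) * (e : G)) * (e : G)⁻¹ := by group
            _ = (x' : G)⁻¹ * ((x' : G) * (e' : G)) * (e : G)⁻¹ := by rw [h1]
            _ = (e' : G) * (e : G)⁻¹ := by group
        have h3 : (e' : G) * (e : G)⁻¹ = 1 := by
          apply hEP _ (E.mul_mem e'.2 (E.inv_mem e.2))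
          rw [← h2]
          exact P.mul_mem (P.inv_mem x'.2) x.2
        have h4 : (x' : G)⁻¹ * (x : G) = 1 := by rw [h2, h3]
        have hx : x = x' := Subtype.ext (inv_mul_eq_one.mp h4).symm
        have he : e = e' := Subtype.ext (mul_inv_eq_one.mp h3).symm
        rw [hx, he]
      · rintro ⟨s, hs⟩
        have hsa : s • a = a := MulAction.mem_stabilizer_iff.mp hs
        obtain ⟨y, hy, hyω⟩ := exists_smul_eq_of_fix a P hP hC hstab n hcard hrank hω hsa
        have he : y⁻¹ * s ∈ E := by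
          rw [hEmem]
          constructor
          · rw [mul_smul, hsa, inv_smul_eq_iff, smul_of_mem a P hstab hy]
          · rw [mul_smul, hyω, inv_smul_smul]
        refine ⟨(⟨y, hy⟩, ⟨y⁻¹ * s, he⟩), ?_⟩
        apply Subtype.ext
        show y * (y⁻¹ * s) = s
        group
    rw [← Nat.card_congr (Equiv.ofBijective f hbij), Nat.card_prod, hP]
  have hcG : Nat.card G = (1 + n * p) * (p * Nat.card E) := by
    have h1 := Subgroup.index_mul_card (MulAction.stabilizer G a)
    rw [MulAction.index_stabilizer_of_transitive, Nat.card_eq_fintype_card (α := Ω), hcard,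
      hcS] at h1
    exact h1.symm
  have hdvd : Nat.card M ∣ Nat.card G := Subgroup.card_subgroup_dvd_card M
  rw [hcM, hcG] at hdvd
  have hEpos : 0 < Nat.card E := Nat.card_pos
  have hd1 : (n + 1) ∣ (1 + n * p) * p := by
    apply Nat.dvd_of_mul_dvd_mul_right hEpos
    have : (1 + n * p) * p * Nat.card E = (1 + n * p) * (p * Nat.card E) := by ring
    rw [this]
    exact hdvd
  have hd2 : (n + 1) ∣ (1 + n * p) * p + p * (p - 1) := by
    have hkey : (1 + n * p) * p + p * (p - 1) = (n + 1) * (p * p) := by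
      obtain ⟨k, hk⟩ : ∃ k, p = k + 1 := ⟨p - 1, by have := hpp.pos; omega⟩
      rw [hk]
      simp only [Nat.add_sub_cancel]
      ring
    rw [hkey]
    exact dvd_mul_right _ _
  exact (Nat.dvd_add_right hd1).mp hd2

end Cfsg.Agent.Lib.Helper8.BRWRANK
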