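import Mathlib
import Cfsg.Agent.Lib.Helper1.Zipper

/-!
# The generalized zipper lemma (Wielandt's maximizer lemma, Flavell's Theorem A)

Let `A < G` be a subgroup of a finite group with `⟨A^G⟩ = G`.  Let `Y` be the join of all proper
subgroups `H ≥ A` with `⟨A^H⟩ = H`.  Then `Y = G` or `A` lies in a unique maximal subgroup of `G`.

The proof is a downward induction on `|A|` inside the fixed group `G`.
-/

set_option autoImplicit false

namespace Cfsg.Agent.Lib.Helper8.GenZipper

open Subgroup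
open scoped Pointwise
open Cfsg.Agent.Lib.Helper1

universe u

variable {G : Type u} [Group G]

/-- `H` is generated by its own conjugates of `A` (lattice form): no proper subgroup of `H`
that is normalized by `H` contains `A`. -/
def Perf (A H : Subgroup G) : Prop :=
  A ≤ H ∧ ∀ L : Subgroup G, A ≤ L → L ≤ H → H ≤ normalizer (L : Set G) → H ≤ L

theorem perf_iff {A H : Subgroup G} (hAH : A ≤ H) :
    Subgroup.normalClosure ((A.subgroupOf H : Subgroup ↥H) : Set ↥H) = ⊤ ↔ Perf A H := by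
  constructor
  · intro h
    refine ⟨hAH, fun L hAL hLH hHL => ?_⟩
    have hn : (L.subgroupOf H).Normal := (normal_subgroupOf_iff_le_normalizer hLH).mpr hHL
    have h1 : Subgroup.normalClosure ((A.subgroupOf H : Subgroup ↥H) : Set ↥H) ≤ L.subgroupOf H := by
      apply Subgroup.normalClosure_le_normal
      intro x hx
      exact hAL hx
    rw [h, top_le_iff, subgroupOf_eq_top] at h1
    exact h1
  · rintro ⟨_, h⟩
    set N : Subgroup ↥H := Subgroup.normalClosure ((A.subgroupOf H : Subgroup ↥H) : Set ↥H) with hN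
    have hNn : N.Normal := Subgroup.normalClosure_normal
    have h1 : A ≤ N.map H.subtype := by
      intro a ha
      refine ⟨⟨a, hAH ha⟩, ?_, rfl⟩
      apply Subgroup.subset_normalClosure
      exact ha
    have h2 : N.map H.subtype ≤ H := map_subtype_le N
    have h3 : H ≤ normalizer ((N.map H.subtype : Subgroup G) : Set G) := by
      rw [← normal_subgroupOf_iff_le_normalizer h2]
      have : (N.map H.subtype).subgroupOf H = N :=
        comap_map_eq_self_of_injective H.subtype_injective N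
      rw [this]
      exact hNn
    have h4 := h _ h1 h2 h3
    rw [eq_top_iff]
    intro x _
    obtain ⟨y, hy, hyx⟩ := h4 x.2
    have : y = x := Subtype.ext hyx
    rwa [← this]

theorem Perf.eq_of_subIn {A H K : Subgroup G} (hP : Perf A H) (hs : SubIn A K) (hHK : H ≤ K) :
    H = A := by
  have hs' : SubIn A H := hs.restrict hP.1 hHK
  by_contra hne
  obtain ⟨L, hAL, hLH, hLne, hHL⟩ := hs'.exists_normal (fun h => hne h.symm)
  exact hLne (le_antisymm hLH (hP.2 L hAL hLH hHL))

theorem Perf.trans {A B H : Subgroup G} (h1 : Perf A B) (h2 : Perf B H) : Perf A H := by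
  refine ⟨h1.1.trans h2.1, fun L hAL hLH hHL => ?_⟩
  have hBL : B ≤ L := by
    have h3 : B ≤ L ⊓ B := by
      apply h1.2 (L ⊓ B) (le_inf hAL h1.1) inf_le_right
      intro b hb
      have hbL : b ∈ normalizer (L : Set G) := hHL (h2.1 hb)
      have hbB : b ∈ normalizer (B : Set G) := le_normalizer hb
      rw [mem_normalizer_iff] at hbL hbB ⊢
      intro x
      rw [mem_inf, mem_inf, ← hbL x, ← hbB x]
    exact h3.trans inf_le_left
  exact h2.2 L hBL hLH hHL

theorem perf_top_of_normalClosure {A : Subgroup G}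
    (h : Subgroup.normalClosure (A : Set G) = ⊤) : Perf A ⊤ := by
  refine ⟨le_top, fun L hAL _ hL => ?_⟩
  have hn : L.Normal := normalizer_eq_top_iff.mp (top_le_iff.mp hL)
  rw [← h]
  exact Subgroup.normalClosure_le_normal hAL

/-- A non-subnormal subgroup has a proper "perfect" overgroup inside. -/
theorem exists_perf_of_not_subIn [Finite G] {A K : Subgroup G} (hAK : A ≤ K) (hns : ¬ SubIn A K) :
    ∃ B : Subgroup G, B ≤ K ∧ B ≠ A ∧ Perf A B := by
  classical
  let S : Set (Subgroup G) := {B | A ≤ B ∧ B ≤ K ∧ ¬ SubIn A B}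
  have hSne : S.Nonempty := ⟨K, hAK, le_rfl, hns⟩
  obtain ⟨B, ⟨hAB, hBK, hnB⟩, hmin⟩ := (wellFounded_lt (α := Subgroup G)).has_min S hSne
  refine ⟨B, hBK, ?_, hAB, fun L hAL hLB hBL => ?_⟩
  · intro he
    apply hnB
    rw [he]
    exact SubIn.refl A
  · by_contra hcon
    have hlt : L < B := lt_of_le_of_ne hLB (fun he => hcon (he ▸ le_rfl))
    have h1 : SubIn A L := by
      by_contra h
      exact hmin L ⟨hAL, hLB.trans hBK, h⟩ hlt
    exact hnB (h1.trans (SubIn.of_le_normalizer hLB hBL))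

/-! ### conjugation -/

theorem conj_smul_smul (g h : G) (A : Subgroup G) :
    MulAut.conj g • MulAut.conj h • A = MulAut.conj (g * h) • A := by
  rw [smul_smul, ← map_mul]

theorem conj_inv_smul_smul (g : G) (A : Subgroup G) :
    MulAut.conj g⁻¹ • MulAut.conj g • A = A := by
  rw [conj_smul_smul]; simp

theorem conj_smul_inv_smul (g : G) (A : Subgroup G) :
    MulAut.conj g • MulAut.conj g⁻¹ • A = A := by
  rw [conj_smul_smul]; simp

theorem conj_smul_eq_iff_mem_normalizer {g : G} {A : Subgroup G} :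
    MulAut.conj g • A = A ↔ g ∈ normalizer (A : Set G) :=
  mem_normalizer_iff_map_conj_eq.symm

theorem conj_smul_eq_of_le [Finite G] {g : G} {A : Subgroup G} (h : MulAut.conj g • A ≤ A) :
    MulAut.conj g • A = A :=
  Subgroup.eq_of_le_of_card_ge h (le_of_eq (card_conj_smul A g).symm)

theorem isCoatom_conj_smul {M : Subgroup G} (hM : IsCoatom M) (g : G) :
    IsCoatom (MulAut.conj g • M) := by
  constructor
  · intro h
    apply hM.1
    rw [eq_top_iff]
    intro x _
    have h1 : g * x * g⁻¹ ∈ MulAut.conj g • M := by rw [h]; exact mem_top _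
    rw [mem_conj_smul_iff] at h1
    have h2 : g⁻¹ * (g * x * g⁻¹) * g = x := by group
    rwa [h2] at h1
  · intro L hL
    have h1 : M < MulAut.conj g⁻¹ • L := by
      have h2 : MulAut.conj g⁻¹ • MulAut.conj g • M < MulAut.conj g⁻¹ • L := by
        rw [lt_iff_le_not_ge] at hL ⊢
        exact ⟨pointwise_smul_le_pointwise_smul_iff.mpr hL.1,
          fun h => hL.2 (pointwise_smul_le_pointwise_smul_iff.mp h)⟩
      rwa [conj_inv_smul_smul] at h2
    have h3 := hM.2 _ h1
    rw [eq_top_iff]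
    intro x _
    have h4 : g⁻¹ * x * g ∈ MulAut.conj g⁻¹ • L := by rw [h3]; exact mem_top _
    rw [mem_conj_smul_iff] at h4
    have h5 : g⁻¹⁻¹ * (g⁻¹ * x * g) * g⁻¹ = x := by group
    rwa [h5] at h4

theorem normalClosure_conj_smul {A : Subgroup G} (h : Subgroup.normalClosure (A : Set G) = ⊤)
    (g : G) : Subgroup.normalClosure ((MulAut.conj g • A : Subgroup G) : Set G) = ⊤ := by
  rw [eq_top_iff, ← h]
  apply Subgroup.normalClosure_le_normal
  intro a ha
  have ha' : a ∈ A := ha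
  have h1 : g * a * g⁻¹ ∈ MulAut.conj g • A := by
    rw [mem_conj_smul_iff]
    have : g⁻¹ * (g * a * g⁻¹) * g = a := by group
    rwa [this]
  have h2 : g * a * g⁻¹ ∈ Subgroup.normalClosure ((MulAut.conj g • A : Subgroup G) : Set G) :=
    Subgroup.subset_normalClosure h1
  have h3 := (Subgroup.normalClosure_normal (s := ((MulAut.conj g • A : Subgroup G) : Set G))).conj_mem
    _ h2 g⁻¹
  have h4 : g⁻¹ * (g * a * g⁻¹) * g⁻¹⁻¹ = a := by group
  rw [h4] at h3
  exact h3

theorem normalClosure_eq_top_of_le {A B : Subgroup G}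
    (h : Subgroup.normalClosure (A : Set G) = ⊤) (hAB : A ≤ B) :
    Subgroup.normalClosure (B : Set G) = ⊤ := by
  rw [eq_top_iff, ← h]
  exact Subgroup.normalClosure_mono hAB

/-- a finite join of subnormal subgroups is subnormal -/
theorem subIn_sSup [Finite G] {K : Subgroup G} (S : Set (Subgroup G))
    (h : ∀ X ∈ S, SubIn X K) : SubIn (sSup S) K := by
  have hfin : S.Finite := Set.toFinite S
  revert h
  refine Set.Finite.induction_on S hfin ?_ ?_
  · intro _
    rw [sSup_empty]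
    refine ⟨bot_le, ?_⟩
    rw [bot_subgroupOf]
    exact (normal_bot).isSubnormal
  · intro a s _ _ ih h
    rw [sSup_insert]
    exact (h a (Set.mem_insert a s)).sup (ih (fun X hX => h X (Set.mem_insert_of_mem a hX)))

/-! ### the induction hypothesis and the context of a minimal counterexample -/

/-- the set of proper subgroups over `B` generated by their conjugates of `B` -/
def Sig (B : Subgroup G) : Set (Subgroup G) :=
  {H | B ≤ H ∧ H ≠ ⊤ ∧ Subgroup.normalClosure ((B.subgroupOf H : Subgroup ↥H) : Set ↥H) = ⊤}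

/-- the theorem for all subgroups of order `> n` -/
def IHyp (G : Type u) [Group G] (n : ℕ) : Prop :=
  ∀ B : Subgroup G, n < Nat.card B → Subgroup.normalClosure (B : Set G) = ⊤ → B ≠ ⊤ →
    (sSup (Sig B) = ⊤ ∨ ∃! M : Subgroup G, IsCoatom M ∧ B ≤ M)

/-- `C` has order `n`, normal closure `G`, and `M` is the only maximal subgroup over `C` in which
`C` is not subnormal. -/
structure Ctx (n : ℕ) (C M : Subgroup G) : Prop where
  card : Nat.card C = n
  ncl : Subgroup.normalClosure (C : Set G) = ⊤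
  coatom : IsCoatom M
  le : C ≤ M
  bad : ¬ SubIn C M
  good : ∀ K : Subgroup G, IsCoatom K → C ≤ K → K ≠ M → SubIn C K

theorem Ctx.conj {n : ℕ} {C M : Subgroup G} (h : Ctx n C M) (g : G) :
    Ctx n (MulAut.conj g • C) (MulAut.conj g • M) where
  card := by rw [card_conj_smul]; exact h.card
  ncl := normalClosure_conj_smul h.ncl g
  coatom := isCoatom_conj_smul h.coatom g
  le := pointwise_smul_le_pointwise_smul_iff.mpr h.le
  bad := by
    intro hs
    apply h.bad
    have := hs.conj g⁻¹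
    rwa [conj_inv_smul_smul, conj_inv_smul_smul] at this
  good := by
    intro K hK hCK hne
    have h1 : C ≤ MulAut.conj g⁻¹ • K := by
      have := (pointwise_smul_le_pointwise_smul_iff (a := MulAut.conj g⁻¹)).mpr hCK
      rwa [conj_inv_smul_smul] at this
    have h2 : MulAut.conj g⁻¹ • K ≠ M := by
      intro he
      apply hne
      rw [← he, conj_smul_inv_smul]
    have := (h.good _ (isCoatom_conj_smul hK g⁻¹) h1 h2).conj g
    rwa [conj_smul_inv_smul] at this

theorem Ctx.unique {n : ℕ} {C M M' : Subgroup G} (h : Ctx n C M) (h' : Ctx n C M') : M = M' := by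
  by_contra hne
  exact h.bad (h'.good M h.coatom h.le hne)

theorem Ctx.ne_of_ne {n : ℕ} {C C' M M' : Subgroup G} (h : Ctx n C M) (h' : Ctx n C' M')
    (hne : M ≠ M') : C ≠ C' := by
  intro he
  subst he
  exact hne (h.unique h')

theorem Ctx.eq_of_not_subIn {n : ℕ} {C M K : Subgroup G} (h : Ctx n C M) (hK : IsCoatom K)
    (hCK : C ≤ K) (hns : ¬ SubIn C K) : K = M := by
  by_contra hne
  exact hns (h.good K hK hCK hne)

theorem Ctx.not_normal {n : ℕ} {C M : Subgroup G} (h : Ctx n C M) : ¬ M.Normal := by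
  intro hn
  apply h.coatom.1
  rw [eq_top_iff, ← h.ncl]
  exact Subgroup.normalClosure_le_normal h.le

theorem Ctx.normalizer_le {n : ℕ} {C M : Subgroup G} (h : Ctx n C M) :
    normalizer (C : Set G) ≤ M := by
  intro x hx
  have h1 : MulAut.conj x • C = C := conj_smul_eq_iff_mem_normalizer.mpr hx
  have h2 := h.conj x
  rw [h1] at h2
  have h3 : MulAut.conj x • M = M := h2.unique h
  have h4 : x ∈ normalizer (M : Set G) := conj_smul_eq_iff_mem_normalizer.mp h3
  rcases h.coatom.le_iff.mp (le_normalizer : M ≤ normalizer (M : Set G)) with h5 | h5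
  · exact absurd (normalizer_eq_top_iff.mp h5) h.not_normal
  · rw [h5] at h4; exact h4

theorem eq_of_isCoatom_le {K M : Subgroup G} (hK : IsCoatom K) (hM : IsCoatom M) (h : K ≤ M) :
    K = M := by
  rcases hK.le_iff.mp h with h1 | h1
  · exact absurd h1 hM.1
  · exact h1.symm

/-- the key consequence of the induction hypothesis -/
theorem key [Finite G] {n : ℕ} (ih : IHyp G n) {B K₁ K₂ : Subgroup G} (hn : n < Nat.card B)
    (hncl : Subgroup.normalClosure (B : Set G) = ⊤) (hK₁ : IsCoatom K₁) (hK₂ : IsCoatom K₂)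
    (hne : K₁ ≠ K₂) (hB₁ : B ≤ K₁) (hB₂ : B ≤ K₂) (K₀ : Subgroup G) :
    ∃ K : Subgroup G, IsCoatom K ∧ K ≠ K₀ ∧ B ≤ K ∧ ¬ SubIn B K := by
  by_contra hcon
  push Not at hcon
  have hBtop : B ≠ ⊤ := fun h => hK₁.1 (top_le_iff.mp (h ▸ hB₁))
  rcases ih B hn hncl hBtop with h | ⟨M, _, hM⟩
  · -- all members of `Sig B` lie in one coatom
    have hall : ∃ K' : Subgroup G, IsCoatom K' ∧ ∀ H ∈ Sig B, H ≤ K' := by
      by_cases hB0 : B ≤ K₀ ∧ IsCoatom K₀
      · refine ⟨K₀, hB0.2, fun H hH => ?_⟩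
        obtain ⟨hBH, hHtop, hHp⟩ := hH
        rcases eq_top_or_exists_le_coatom H with h1 | ⟨K, hK, hHK⟩
        · exact absurd h1 hHtop
        · by_cases hKK : K = K₀
          · exact hKK ▸ hHK
          · have hs := hcon K hK hKK (hBH.trans hHK)
            have := ((perf_iff hBH).mp hHp).eq_of_subIn hs hHK
            rw [this]; exact hB0.1
      · refine ⟨K₁, hK₁, fun H hH => ?_⟩
        obtain ⟨hBH, hHtop, hHp⟩ := hH
        rcases eq_top_or_exists_le_coatom H with h1 | ⟨K, hK, hHK⟩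
        · exact absurd h1 hHtop
        · have hKK : K ≠ K₀ := by
            intro he
            exact hB0 ⟨he ▸ hBH.trans hHK, he ▸ hK⟩
          have hs := hcon K hK hKK (hBH.trans hHK)
          have := ((perf_iff hBH).mp hHp).eq_of_subIn hs hHK
          rw [this]; exact hB₁
    obtain ⟨K', hK', hall⟩ := hall
    have : sSup (Sig B) ≤ K' := sSup_le hall
    rw [h, top_le_iff] at this
    exact hK'.1 this
  · exact hne ((hM K₁ ⟨hK₁, hB₁⟩).trans (hM K₂ ⟨hK₂, hB₂⟩).symm)

/-- **Linking**: two distinct members whose join lies in two maximal subgroups lie in each other's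
special maximal subgroup. -/
theorem link [Finite G] {n : ℕ} (ih : IHyp G n) {C C' M M' K₁ K₂ : Subgroup G}
    (h : Ctx n C M) (h' : Ctx n C' M') (hCC : C ≠ C') (hK₁ : IsCoatom K₁) (hK₂ : IsCoatom K₂)
    (hne : K₁ ≠ K₂) (hB₁ : C ⊔ C' ≤ K₁) (hB₂ : C ⊔ C' ≤ K₂) :
    M ≠ M' ∧ C ⊔ C' ≤ M ⊓ M' := by
  have hlt : n < Nat.card (C ⊔ C' : Subgroup G) := by
    rw [← h.card]
    apply card_lt_card_of_le_of_ne le_sup_left
    intro he
    have h1 : C' ≤ C := he ▸ le_sup_right
    have h2 : C' = C := Subgroup.eq_of_le_of_card_ge h1 (by rw [h.card, h'.card])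
    exact hCC h2.symm
  have hncl : Subgroup.normalClosure ((C ⊔ C' : Subgroup G) : Set G) = ⊤ :=
    normalClosure_eq_top_of_le h.ncl le_sup_left
  -- a bad coatom different from `M` must be `M'`
  obtain ⟨K, hK, hKM, hBK, hns⟩ := key ih hlt hncl hK₁ hK₂ hne hB₁ hB₂ M
  have hCK : SubIn C K := h.good K hK (le_sup_left.trans hBK) hKM
  have hC'K : ¬ SubIn C' K := fun hs => hns (hCK.sup hs)
  have hKM' : K = M' := h'.eq_of_not_subIn hK (le_sup_right.trans hBK) hC'K
  subst hKM'
  obtain ⟨K', hK', hK'M, hBK', hns'⟩ := key ih hlt hncl hK₁ hK₂ hne hB₁ hB₂ K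
  have hC'K' : SubIn C' K' := h'.good K' hK' (le_sup_right.trans hBK') hK'M
  have hCK' : ¬ SubIn C K' := fun hs => hns' (hs.sup hC'K')
  have hK'M2 : K' = M := h.eq_of_not_subIn hK' (le_sup_left.trans hBK') hCK'
  subst hK'M2
  exact ⟨fun he => hKM he.symm, le_inf hBK' hBK⟩

/-- members lying in the intersection of two maximal subgroups lie in each other's special
maximal subgroups -/
theorem le_special [Finite G] {n : ℕ} (ih : IHyp G n) {C C' M M' K₁ K₂ : Subgroup G}
    (h : Ctx n C M) (h' : Ctx n C' M') (hK₁ : IsCoatom K₁) (hK₂ : IsCoatom K₂)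
    (hne : K₁ ≠ K₂) (hC : C ≤ K₁ ⊓ K₂) (hC' : C' ≤ K₁ ⊓ K₂) : C ≤ M' := by
  by_cases hCC : C = C'
  · rw [hCC]; exact h'.le
  · have := (link ih h h' hCC hK₁ hK₂ hne (sup_le (hC.trans inf_le_left) (hC'.trans inf_le_left))
      (sup_le (hC.trans inf_le_right) (hC'.trans inf_le_right))).2
    exact (le_sup_left.trans this).trans inf_le_right

/-- the special maximal subgroup controls fusion of `C` into other maximal subgroups -/
theorem conj_eq_self [Finite G] {n : ℕ} (ih : IHyp G n) {C M K : Subgroup G} (h : Ctx n C M)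
    (hK : IsCoatom K) (hCK : C ≤ K) (hKM : K ≠ M) {m : G} (hm : m ∈ M)
    (hmK : MulAut.conj m • C ≤ K) : MulAut.conj m • C = C := by
  by_contra hne
  have h' := h.conj m
  rw [conj_smul_eq_self_of_mem hm] at h'
  have hCM' : MulAut.conj m • C ≤ M := h'.le
  exact (link ih h h' (fun he => hne he.symm) h.coatom hK (fun he => hKM he.symm)
    (sup_le h.le hCM') (sup_le hCK hmK)).1 rfl

theorem inf_le_normalizer [Finite G] {n : ℕ} (ih : IHyp G n) {C M K : Subgroup G} (h : Ctx n C M)
    (hK : IsCoatom K) (hCK : C ≤ K) (hKM : K ≠ M) : M ⊓ K ≤ normalizer (C : Set G) := by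
  intro m hm
  rw [← conj_smul_eq_iff_mem_normalizer]
  exact conj_eq_self ih h hK hCK hKM hm.1 (conj_smul_le_of_mem hCK hm.2)

/-- existence of a linked partner -/
theorem exists_partner [Finite G] {n : ℕ} (ih : IHyp G n) {A M K : Subgroup G} (h : Ctx n A M)
    (hK : IsCoatom K) (hAK : A ≤ K) (hKM : K ≠ M) :
    ∃ A' M' : Subgroup G, Ctx n A' M' ∧ M ≠ M' ∧ A' ≤ M ∧ A ≤ M' := by
  classical
  have hs : SubIn A K := h.good K hK hAK hKM
  let S : Set (Subgroup G) := {N | A ≤ N ∧ N ≤ K ∧ ¬ N ≤ M}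
  have hKnM : ¬ K ≤ M := fun hle => hKM (eq_of_isCoatom_le hK h.coatom hle)
  have hSne : S.Nonempty := ⟨K, hAK, le_rfl, hKnM⟩
  obtain ⟨N, ⟨hAN, hNK, hNM⟩, hmin⟩ := (wellFounded_lt (α := Subgroup G)).has_min S hSne
  have hsN : SubIn A N := hs.restrict hAN hNK
  have hANne : A ≠ N := fun he => hNM (he ▸ h.le)
  obtain ⟨L, hAL, hLN, hLne, hNL⟩ := hsN.exists_normal hANne
  have hLM : L ≤ M := by
    by_contra hcon
    exact hmin L ⟨hAL, hLN.trans hNK, hcon⟩ (lt_of_le_of_ne hLN hLne)
  obtain ⟨k, hkN, hkM⟩ := SetLike.not_le_iff_exists.mp hNM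
  have hkL : MulAut.conj k • L = L := conj_smul_eq_iff_mem_normalizer.mpr (hNL hkN)
  have hA'L : MulAut.conj k • A ≤ L := by
    have := (pointwise_smul_le_pointwise_smul_iff (a := MulAut.conj k)).mpr hAL
    rwa [hkL] at this
  have h' := h.conj k
  have hne : MulAut.conj k • A ≠ A := by
    intro he
    exact hkM (h.normalizer_le (conj_smul_eq_iff_mem_normalizer.mp he))
  have hlink := link ih h h' (fun he => hne he.symm) h.coatom hK (fun he => hKM he.symm)
    (sup_le h.le (hA'L.trans hLM)) (sup_le hAK ((hA'L.trans hLN).trans hNK))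
  exact ⟨_, _, h', hlink.1, hA'L.trans hLM, (le_sup_left.trans hlink.2).trans inf_le_right⟩

/-- For a linked pair there is an `M`-only subgroup `Q ∋ A'` normalizing `A` all of whose
conjugates of `A'` stay in `M ⊓ M'`. -/
theorem exists_Q [Finite G] {n : ℕ} (ih : IHyp G n) {A A' M M' : Subgroup G} (h : Ctx n A M)
    (h' : Ctx n A' M') (hne : M ≠ M') (hA'M : A' ≤ M) (hAM' : A ≤ M') :
    ∃ Q : Subgroup G, Q ≤ M ∧ (∀ K : Subgroup G, IsCoatom K → Q ≤ K → K = M) ∧
      Q ≤ normalizer (A : Set G) ∧ ∀ q ∈ Q, MulAut.conj q • A' ≤ M ⊓ M' := by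
  classical
  have hsA' : SubIn A' M := h'.good M h.coatom hA'M hne
  let S : Set (Subgroup G) :=
    {Q | A' ≤ Q ∧ Q ≤ M ∧ ∀ K : Subgroup G, IsCoatom K → Q ≤ K → K = M}
  have hSne : S.Nonempty :=
    ⟨M, hA'M, le_rfl, fun K hK hMK => (eq_of_isCoatom_le h.coatom hK hMK).symm⟩
  obtain ⟨Q, ⟨hA'Q, hQM, hQonly⟩, hmin⟩ := (wellFounded_lt (α := Subgroup G)).has_min S hSne
  -- the normal closure of `A'` in `Q`
  obtain ⟨R, hR⟩ : ∃ R : Subgroup G, R = sSup {X | ∃ q ∈ Q, X = MulAut.conj q • A'} := ⟨_, rfl⟩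
  have hRge : ∀ q ∈ Q, MulAut.conj q • A' ≤ R := by
    intro q hq
    rw [hR]
    exact le_sSup ⟨q, hq, rfl⟩
  have hA'R : A' ≤ R := by
    have := hRge 1 Q.one_mem
    simpa using this
  have hRQ : R ≤ Q := by
    rw [hR]
    apply sSup_le
    rintro X ⟨q, hq, rfl⟩
    exact conj_smul_le_of_mem hA'Q hq
  have hRnorm : ∀ q ∈ Q, MulAut.conj q • R = R := by
    intro q hq
    apply conj_smul_eq_of_le
    intro x hx
    rw [mem_conj_smul_iff] at hx
    -- `q⁻¹ x q ∈ R`, so `x ∈ q R q⁻¹`; show `q • R ≤ R` through generators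
    have hle : R ≤ MulAut.conj q⁻¹ • R := by
      conv_lhs => rw [hR]
      apply sSup_le
      rintro X ⟨q', hq', rfl⟩
      have h1 : MulAut.conj (q * q') • A' ≤ R := hRge _ (Q.mul_mem hq hq')
      have h2 := (pointwise_smul_le_pointwise_smul_iff (a := MulAut.conj q⁻¹)).mpr h1
      rwa [conj_smul_smul, inv_mul_cancel_left] at h2
    have h3 := hle hx
    rw [mem_conj_smul_iff] at h3
    simpa [mul_assoc] using h3
  have hsA'Q : SubIn A' Q := hsA'.restrict hA'Q hQM
  have hA'M' : A' ≤ M' := h'.le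
  have hA'Qne : A' ≠ Q := by
    intro he
    exact hne (hQonly M' h'.coatom (he ▸ hA'M')).symm
  obtain ⟨L, hA'L, hLQ, hLne, hQL⟩ := hsA'Q.exists_normal hA'Qne
  have hRL : R ≤ L := by
    rw [hR]
    apply sSup_le
    rintro X ⟨q, hq, rfl⟩
    have hqL : MulAut.conj q • L = L := conj_smul_eq_iff_mem_normalizer.mpr (hQL hq)
    have := (pointwise_smul_le_pointwise_smul_iff (a := MulAut.conj q)).mpr hA'L
    rwa [hqL] at this
  have hRltQ : R < Q := lt_of_le_of_ne hRQ (fun he => hLne (le_antisymm hLQ (he ▸ hRL)))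
  -- `R` is not `M`-only
  have hRnot : ¬ ∀ K : Subgroup G, IsCoatom K → R ≤ K → K = M := by
    intro hcon
    exact hmin R ⟨hA'R, hRQ.trans hQM, hcon⟩ hRltQ
  push Not at hRnot
  obtain ⟨K'', hK'', hRK'', hK''M⟩ := hRnot
  have hRM : R ≤ M := hRQ.trans hQM
  -- `R ≠ A'`
  have hRA' : A' ≠ R := by
    intro he
    have hQN : Q ≤ normalizer (A' : Set G) := by
      intro q hq
      rw [← conj_smul_eq_iff_mem_normalizer]
      apply conj_smul_eq_of_le
      have := hRge q hq
      rwa [← he] at this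
    exact hne (hQonly M' h'.coatom (hQN.trans h'.normalizer_le)).symm
  have hlt : n < Nat.card R := by
    rw [← h'.card]
    exact card_lt_card_of_le_of_ne hA'R hRA'
  have hncl : Subgroup.normalClosure (R : Set G) = ⊤ := normalClosure_eq_top_of_le h'.ncl hA'R
  obtain ⟨K, hK, hKM, hRK, hns⟩ :=
    key ih hlt hncl h.coatom hK'' (fun he => hK''M he.symm) hRM hRK'' M
  -- some generator of `R` is not subnormal in `K`
  have hex : ∃ q ∈ Q, ¬ SubIn (MulAut.conj q • A') K := by
    by_contra hcon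
    push Not at hcon
    apply hns
    rw [hR]
    apply subIn_sSup
    rintro X ⟨q, hq, rfl⟩
    exact hcon q hq
  obtain ⟨q₀, hq₀, hq₀ns⟩ := hex
  have hKeq : K = MulAut.conj q₀ • M' :=
    (h'.conj q₀).eq_of_not_subIn hK ((hRge q₀ hq₀).trans hRK) hq₀ns
  have hRM' : R ≤ M' := by
    have h1 : R ≤ MulAut.conj q₀ • M' := hKeq ▸ hRK
    have h2 := (pointwise_smul_le_pointwise_smul_iff (a := MulAut.conj q₀⁻¹)).mpr h1
    rwa [conj_inv_smul_smul, hRnorm q₀⁻¹ (Q.inv_mem hq₀)] at h2
  have hconj : ∀ q ∈ Q, MulAut.conj q • A' ≤ M ⊓ M' :=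
    fun q hq => (hRge q hq).trans (le_inf hRM hRM')
  refine ⟨Q, hQM, hQonly, ?_, hconj⟩
  -- `Q` normalizes `A`
  intro q hq
  have hqM : q ∈ M := hQM hq
  have hX := h'.conj q
  have hXle := hconj q hq
  have hM'ne : M ≠ MulAut.conj q • M' := by
    intro he
    apply hne
    have := congrArg (fun X => MulAut.conj q⁻¹ • X) he
    simp only [conj_inv_smul_smul] at this
    rw [← this, conj_smul_eq_self_of_mem (M.inv_mem hqM)]
  have hAle : A ≤ M ⊓ M' := le_inf h.le hAM'
  have h1 : A ≤ MulAut.conj q • M' :=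
    le_special ih h hX h.coatom h'.coatom hne hAle hXle
  have h2 : MulAut.conj q⁻¹ • A ≤ M' := by
    have := (pointwise_smul_le_pointwise_smul_iff (a := MulAut.conj q⁻¹)).mpr h1
    rwa [conj_inv_smul_smul] at this
  have h3 : MulAut.conj q⁻¹ • A = A :=
    conj_eq_self ih h h'.coatom hAM' (fun he => hne he.symm) (M.inv_mem hqM) h2
  have h4 : q⁻¹ ∈ normalizer (A : Set G) := conj_smul_eq_iff_mem_normalizer.mp h3
  have := (normalizer (A : Set G)).inv_mem h4
  simpa using this

/-- `Q` permutes the members lying in `M ⊓ M'`. -/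
theorem conj_mem_line [Finite G] {n : ℕ} (ih : IHyp G n) {A' M M' Q : Subgroup G}
    (hM : IsCoatom M) (h' : Ctx n A' M') (hne : M ≠ M') (hQM : Q ≤ M)
    (hconj : ∀ q ∈ Q, MulAut.conj q • A' ≤ M ⊓ M') {q : G} (hq : q ∈ Q) {C MC : Subgroup G}
    (hC : Ctx n C MC) (hCle : C ≤ M ⊓ M') : MulAut.conj q • C ≤ M ⊓ M' := by
  refine le_inf ?_ ?_
  · exact conj_smul_le_of_mem (hCle.trans inf_le_left) (hQM hq)
  · have hX := h'.conj q⁻¹
    have hXle := hconj q⁻¹ (Q.inv_mem hq)
    have h1 : C ≤ MulAut.conj q⁻¹ • M' :=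
      le_special ih hC hX hM h'.coatom hne hCle hXle
    have h2 := (pointwise_smul_le_pointwise_smul_iff (a := MulAut.conj q)).mpr h1
    rwa [conj_smul_inv_smul] at h2

/-- a linked pair cannot exist -/
theorem no_linked_pair [Finite G] {n : ℕ} (ih : IHyp G n) {A A' M M' : Subgroup G}
    (h : Ctx n A M) (h' : Ctx n A' M') (hne : M ≠ M') (hA'M : A' ≤ M) (hAM' : A ≤ M') : False := by
  obtain ⟨Q, hQM, hQonly, _, hQconj⟩ := exists_Q ih h h' hne hA'M hAM'
  obtain ⟨Q', hQ'M, hQ'only, _, hQ'conj⟩ := exists_Q ih h' h (fun he => hne he.symm) hAM' hA'M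
  obtain ⟨P, hP⟩ : ∃ P : Subgroup G,
      P = sSup {C | (∃ MC : Subgroup G, Ctx n C MC) ∧ C ≤ M ⊓ M'} := ⟨_, rfl⟩
  have hAP : A ≤ P := by
    rw [hP]
    exact le_sSup ⟨⟨M, h⟩, le_inf h.le hAM'⟩
  have hPM : P ≤ M := by
    rw [hP]
    apply sSup_le
    rintro C ⟨_, hC⟩
    exact hC.trans inf_le_left
  have hQ'conj' : ∀ q ∈ Q', MulAut.conj q • A ≤ M ⊓ M' := by
    intro q hq
    have := hQ'conj q hq
    rwa [inf_comm] at this
  have hQN : Q ≤ normalizer (P : Set G) := by
    intro q hq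
    rw [← conj_smul_eq_iff_mem_normalizer]
    apply conj_smul_eq_of_le
    have hle : P ≤ MulAut.conj q⁻¹ • P := by
      conv_lhs => rw [hP]
      apply sSup_le
      rintro C ⟨⟨MC, hC⟩, hCle⟩
      have h1 : MulAut.conj q • C ≤ P := by
        rw [hP]
        exact le_sSup ⟨⟨_, hC.conj q⟩, conj_mem_line ih h.coatom h' hne hQM hQconj hq hC hCle⟩
      have h2 := (pointwise_smul_le_pointwise_smul_iff (a := MulAut.conj q⁻¹)).mpr h1
      rwa [conj_inv_smul_smul] at h2
    have h3 := (pointwise_smul_le_pointwise_smul_iff (a := MulAut.conj q)).mpr hle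
    rwa [conj_smul_inv_smul] at h3
  have hQ'N : Q' ≤ normalizer (P : Set G) := by
    intro q hq
    rw [← conj_smul_eq_iff_mem_normalizer]
    apply conj_smul_eq_of_le
    have hle : P ≤ MulAut.conj q⁻¹ • P := by
      conv_lhs => rw [hP]
      apply sSup_le
      rintro C ⟨⟨MC, hC⟩, hCle⟩
      have h1 : MulAut.conj q • C ≤ P := by
        rw [hP]
        refine le_sSup ⟨⟨_, hC.conj q⟩, ?_⟩
        have hCle' : C ≤ M' ⊓ M := by rwa [inf_comm]
        have := conj_mem_line ih h'.coatom h (fun he => hne he.symm) hQ'M hQ'conj hq hC hCle'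
        rwa [inf_comm] at this
      have h2 := (pointwise_smul_le_pointwise_smul_iff (a := MulAut.conj q⁻¹)).mpr h1
      rwa [conj_inv_smul_smul] at h2
    have h3 := (pointwise_smul_le_pointwise_smul_iff (a := MulAut.conj q)).mpr hle
    rwa [conj_smul_inv_smul] at h3
  have htop : normalizer (P : Set G) = ⊤ := by
    rcases eq_top_or_exists_le_coatom (normalizer (P : Set G)) with h1 | ⟨K, hK, hNK⟩
    · exact h1
    · exfalso
      have h2 : K = M := hQonly K hK (hQN.trans hNK)
      have h3 : K = M' := hQ'only K hK (hQ'N.trans hNK)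
      exact hne (h2.symm.trans h3)
  have hPn : P.Normal := normalizer_eq_top_iff.mp htop
  apply h.coatom.1
  rw [eq_top_iff, ← h.ncl]
  exact (Subgroup.normalClosure_le_normal hAP).trans hPM

theorem perf_top_ne [Finite G] {A : Subgroup G} (hncl : Subgroup.normalClosure (A : Set G) = ⊤)
    (hA : A ≠ ⊤) : ¬ SubIn A ⊤ := by
  intro hs
  exact hA ((perf_top_of_normalClosure hncl).eq_of_subIn hs le_rfl).symm

theorem isMaxIn_top_of_isCoatom {M : Subgroup G} (hM : IsCoatom M) : IsMaxIn M ⊤ := by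
  refine ⟨le_top, hM.1, fun L hML _ => ?_⟩
  rcases hM.le_iff.mp hML with h | h
  · exact Or.inr h
  · exact Or.inl h

/-- **The generalized zipper lemma.** -/
theorem gen_zipper_aux [Finite G] : ∀ (k : ℕ) (A : Subgroup G), Nat.card G - Nat.card A = k →
    Subgroup.normalClosure (A : Set G) = ⊤ → A ≠ ⊤ →
    (sSup (Sig A) = ⊤ ∨ ∃! M : Subgroup G, IsCoatom M ∧ A ≤ M) := by
  intro k
  induction k using Nat.strong_induction_on with
  | _ k IH =>
    intro A hk hncl hA
    have ih : IHyp G (Nat.card A) := by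
      intro B hB hBncl hBtop
      have h1 : Nat.card B ≤ Nat.card G := Subgroup.card_le_card_group B
      exact IH (Nat.card G - Nat.card B) (by omega) B rfl hBncl hBtop
    by_contra hcon
    push Not at hcon
    obtain ⟨hY, hnu⟩ := hcon
    -- two distinct maximal subgroups over `A`
    obtain ⟨M₁, hM₁, hAM₁⟩ := (eq_top_or_exists_le_coatom A).resolve_left hA
    have hM₂ : ∃ M₂ : Subgroup G, IsCoatom M₂ ∧ A ≤ M₂ ∧ M₂ ≠ M₁ := by
      by_contra hcon
      push Not at hcon
      exact hnu ⟨M₁, ⟨hM₁, hAM₁⟩, fun M' hM' => hcon M' hM'.1 hM'.2⟩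
    obtain ⟨M₂, hM₂, hAM₂, hM₂₁⟩ := hM₂
    -- the maximal subgroup over `Y`
    obtain ⟨M, hM, hYM⟩ := (eq_top_or_exists_le_coatom (sSup (Sig A))).resolve_left hY
    have hgood : ∀ K : Subgroup G, IsCoatom K → A ≤ K → K ≠ M → SubIn A K := by
      intro K hK hAK hKM
      by_contra hns
      obtain ⟨B, hBK, hBA, hPB⟩ := exists_perf_of_not_subIn hAK hns
      have hBtop : B ≠ ⊤ := fun he => hK.1 (top_le_iff.mp (he ▸ hBK))
      have hBSig : B ∈ Sig A := ⟨hPB.1, hBtop, (perf_iff hPB.1).mpr hPB⟩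
      have hBM : B ≤ M := (le_sSup hBSig).trans hYM
      have hlt : Nat.card A < Nat.card B := card_lt_card_of_le_of_ne hPB.1 (fun he => hBA he.symm)
      rcases ih B hlt (normalClosure_eq_top_of_le hncl hPB.1) hBtop with h | ⟨M', _, hM'⟩
      · have hsub : Sig B ⊆ Sig A := by
          rintro H ⟨hBH, hHtop, hHp⟩
          exact ⟨hPB.1.trans hBH, hHtop,
            (perf_iff (hPB.1.trans hBH)).mpr (hPB.trans ((perf_iff hBH).mp hHp))⟩
        have : sSup (Sig B) ≤ sSup (Sig A) := sSup_le_sSup hsub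
        rw [h, top_le_iff] at this
        exact hY this
      · exact hKM ((hM' K ⟨hK, hBK⟩).trans (hM' M ⟨hM, hBM⟩).symm)
    have hAM : A ≤ M := by
      by_contra hAM
      -- then `A` is subnormal in every maximal subgroup over it: zipper
      have hall : ∀ H : Subgroup G, A ≤ H → H ≤ ⊤ → H ≠ ⊤ → SubIn A H := by
        intro H hAH _ hHtop
        obtain ⟨K, hK, hHK⟩ := (eq_top_or_exists_le_coatom H).resolve_left hHtop
        have hKM : K ≠ M := fun he => hAM (he ▸ hAH.trans hHK)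
        exact (hgood K hK (hAH.trans hHK) hKM).restrict hAH hHK
      exact hM₂₁ (zipper ⊤ _ A rfl le_top hall (perf_top_ne hncl hA) M₂ M₁
        (isMaxIn_top_of_isCoatom hM₂) (isMaxIn_top_of_isCoatom hM₁) hAM₂ hAM₁)
    have hbad : ¬ SubIn A M := by
      intro hs
      have hall : ∀ H : Subgroup G, A ≤ H → H ≤ ⊤ → H ≠ ⊤ → SubIn A H := by
        intro H hAH _ hHtop
        obtain ⟨K, hK, hHK⟩ := (eq_top_or_exists_le_coatom H).resolve_left hHtop
        by_cases hKM : K = M
        · exact (hKM ▸ hs).restrict hAH hHK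
        · exact (hgood K hK (hAH.trans hHK) hKM).restrict hAH hHK
      exact hM₂₁ (zipper ⊤ _ A rfl le_top hall (perf_top_ne hncl hA) M₂ M₁
        (isMaxIn_top_of_isCoatom hM₂) (isMaxIn_top_of_isCoatom hM₁) hAM₂ hAM₁)
    have hctx : Ctx (Nat.card A) A M := ⟨rfl, hncl, hM, hAM, hbad, hgood⟩
    -- a maximal subgroup over `A` different from `M`
    obtain ⟨K, hK, hAK, hKM⟩ : ∃ K : Subgroup G, IsCoatom K ∧ A ≤ K ∧ K ≠ M := by
      by_cases h1 : M₁ = M
      · exact ⟨M₂, hM₂, hAM₂, fun he => hM₂₁ (he.trans h1.symm)⟩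
      · exact ⟨M₁, hM₁, hAM₁, h1⟩
    obtain ⟨A', M', h', hne, hA'M, hAM'⟩ := exists_partner ih hctx hK hAK hKM
    exact no_linked_pair ih hctx h' hne hA'M hAM'

/-- **The generalized zipper lemma** (Wielandt's maximizer lemma / Flavell's Theorem A). -/
theorem gen_zipper [Finite G] (A : Subgroup G) (hA : Subgroup.normalClosure (A : Set G) = ⊤)
    (hAG : A ≠ ⊤) :
    sSup {H : Subgroup G | A ≤ H ∧ H ≠ ⊤ ∧
        Subgroup.normalClosure ((A.subgroupOf H : Subgroup ↥H) : Set ↥H) = ⊤} = ⊤ ∨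
      ∃! M : Subgroup G, IsCoatom M ∧ A ≤ M :=
  gen_zipper_aux _ A rfl hA hAG

end Cfsg.Agent.Lib.Helper8.GenZipper
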