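import Mathlib
import Cfsg.Agent.Lib.Helper8.GenZipper

/-!
# Generation by periodic points of `b ↦ b a b⁻¹`

If `H = ⟨a^H⟩` is a finite group then `H` is generated by the periodic points of the map
`b ↦ b a b⁻¹`.  As a consequence, if `[G, α] = G` for an automorphism `α` of a finite group `G`,
then `G` is generated by the periodic points of `c ↦ c α(c)⁻¹`, hence by the values of every iterate.
-/

set_option autoImplicit false

namespace Cfsg.Agent.Lib.Helper8.BaerGen

open Subgroup
open scoped Pointwise
open Cfsg.Agent.Lib.Helper1 Cfsg.Agent.Lib.Helper8.GenZipper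

universe u

/-- in a finite type every orbit of a self-map reaches a periodic point -/
theorem exists_iterate_mem_periodicPts {X : Type*} [Finite X] (f : X → X) (x : X) :
    ∃ i : ℕ, f^[i] x ∈ Function.periodicPts f := by
  obtain ⟨i, j, hij, h⟩ := Finite.exists_ne_map_eq_of_infinite (fun i : ℕ => f^[i] x)
  wlog hlt : i < j generalizing i j
  · exact this j i hij.symm h.symm (lt_of_le_of_ne (not_lt.mp hlt) hij.symm)
  refine ⟨i, Function.mem_periodicPts.mpr ⟨j - i, Nat.sub_pos_of_lt hlt, ?_⟩⟩
  show f^[j - i] (f^[i] x) = f^[i] x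
  rw [← Function.iterate_add_apply, Nat.sub_add_cancel hlt.le]
  exact h.symm

theorem closure_periodicPts_conj_aux : ∀ (n : ℕ) (H : Type u) [Group H] [Finite H],
    Nat.card H = n → ∀ a : H, Subgroup.normalClosure ({a} : Set H) = ⊤ →
      Subgroup.closure (Function.periodicPts (fun b : H => b * a * b⁻¹)) = ⊤ := by
  intro n
  induction n using Nat.strong_induction_on with
  | _ n IH =>
    intro H _ _ hn a ha
    have haper : a ∈ Function.periodicPts (fun b : H => b * a * b⁻¹) := by
      refine Function.mem_periodicPts.mpr ⟨1, one_pos, ?_⟩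
      show (fun b : H => b * a * b⁻¹)^[1] a = a
      simp
    have hAL : zpowers a ≤ Subgroup.closure (Function.periodicPts (fun b : H => b * a * b⁻¹)) := by
      rw [zpowers_le]
      exact Subgroup.subset_closure haper
    by_cases hA : zpowers a = ⊤
    · rw [eq_top_iff, ← hA]; exact hAL
    have hAncl : Subgroup.normalClosure ((zpowers a : Subgroup H) : Set H) = ⊤ := by
      rw [eq_top_iff, ← ha]
      apply Subgroup.normalClosure_mono
      intro x hx
      rw [Set.mem_singleton_iff] at hx
      rw [hx]
      exact mem_zpowers a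
    rcases gen_zipper (zpowers a) hAncl hA with h | ⟨U, ⟨hU, hAU⟩, huniq⟩
    · rw [eq_top_iff, ← h]
      apply sSup_le
      rintro X ⟨hAX, hXtop, hXp⟩
      have haX : a ∈ X := hAX (mem_zpowers a)
      have hcard : Nat.card X < n := by
        rw [← hn, ← Subgroup.card_top (G := H)]
        exact card_lt_card_of_le_of_ne le_top hXtop
      have ha' : Subgroup.normalClosure ({(⟨a, haX⟩ : X)} : Set X) = ⊤ := by
        rw [eq_top_iff, ← hXp]
        apply Subgroup.normalClosure_le_normal
        intro x hx
        have hx' : (x : H) ∈ zpowers a := hx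
        obtain ⟨k, hk⟩ := mem_zpowers_iff.mp hx'
        have hxk : x = (⟨a, haX⟩ : X) ^ k := by
          apply Subtype.ext
          rw [← hk]
          simp
        rw [hxk]
        exact zpow_mem (Subgroup.subset_normalClosure (Set.mem_singleton _)) k
      have h1 := IH _ hcard X rfl ⟨a, haX⟩ ha'
      intro x hx
      have h2 : (⟨x, hx⟩ : X) ∈ Subgroup.closure
          (Function.periodicPts (fun b : X => b * ⟨a, haX⟩ * b⁻¹)) := by
        rw [h1]; exact mem_top _
      have h3 : x ∈ (Subgroup.closure
          (Function.periodicPts (fun b : X => b * ⟨a, haX⟩ * b⁻¹))).map X.subtype :=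
        ⟨⟨x, hx⟩, h2, rfl⟩
      rw [MonoidHom.map_closure] at h3
      refine (Subgroup.closure_mono ?_) h3
      rintro _ ⟨b, hb, rfl⟩
      obtain ⟨m, hm, hper⟩ := Function.mem_periodicPts.mp hb
      refine Function.mem_periodicPts.mpr ⟨m, hm, ?_⟩
      exact hper.map (g := X.subtype) (fun b => by simp)
    · by_contra hL
      obtain ⟨K, hK, hLK⟩ := (eq_top_or_exists_le_coatom _).resolve_left hL
      have hKU : K = U := huniq K ⟨hK, hAL.trans hLK⟩
      rw [hKU] at hLK
      have haU : a ∈ U := hAU (mem_zpowers a)
      have hUnn : ¬ U.Normal := by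
        intro hn'
        apply hU.1
        rw [eq_top_iff, ← ha]
        apply Subgroup.normalClosure_le_normal
        intro x hx
        rw [Set.mem_singleton_iff] at hx
        rw [hx]; exact haU
      have hNU : normalizer (U : Set H) = U := by
        rcases hU.le_iff.mp (le_normalizer : U ≤ normalizer (U : Set H)) with h5 | h5
        · exact absurd (normalizer_eq_top_iff.mp h5) hUnn
        · exact h5
      have hback : ∀ c : H, c * a * c⁻¹ ∈ U → c ∈ U := by
        intro c hc
        have h1 : zpowers a ≤ MulAut.conj c⁻¹ • U := by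
          rw [zpowers_le, mem_conj_smul_iff]
          simpa using hc
        have h2 : MulAut.conj c⁻¹ • U = U := huniq _ ⟨isCoatom_conj_smul hU c⁻¹, h1⟩
        have h3 : c⁻¹ ∈ normalizer (U : Set H) := conj_smul_eq_iff_mem_normalizer.mp h2
        rw [hNU] at h3
        simpa using U.inv_mem h3
      have hiter : ∀ (i : ℕ) (b : H), (fun b : H => b * a * b⁻¹)^[i] b ∈ U → b ∈ U := by
        intro i
        induction i with
        | zero => intro b hb; simpa using hb
        | succ i ih =>
          intro b hb
          rw [Function.iterate_succ_apply] at hb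
          exact hback b (ih _ hb)
      apply hU.1
      rw [eq_top_iff]
      intro b _
      obtain ⟨i, hi⟩ := exists_iterate_mem_periodicPts (fun b : H => b * a * b⁻¹) b
      exact hiter i b (hLK (Subgroup.subset_closure hi))

/-- **Generalized Baer theorem**: a finite group generated by the conjugates of `a` is generated by
the periodic points of `b ↦ b a b⁻¹`. -/
theorem closure_periodicPts_conj {H : Type u} [Group H] [Finite H] (a : H)
    (ha : Subgroup.normalClosure ({a} : Set H) = ⊤) :
    Subgroup.closure (Function.periodicPts (fun b : H => b * a * b⁻¹)) = ⊤ :=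
  closure_periodicPts_conj_aux _ H rfl a ha

/-! ### automorphisms -/

section aut

variable {G : Type u} [Group G]

/-- the map `c ↦ c α(c)⁻¹` -/
def comm (α : MulAut G) : G → G := fun c => c * (α c)⁻¹

theorem comm_semiconj {α β : MulAut G} (h : Commute α β) :
    Function.Semiconj β (comm α) (comm α) := by
  intro c
  show β (c * (α c)⁻¹) = β c * (α (β c))⁻¹
  have h1 : α (β c) = β (α c) := by
    have := congrArg (fun γ : MulAut G => γ c) h.eq
    simpa [MulAut.mul_apply] using this
  rw [h1, map_mul, map_inv]

theorem periodicPts_subset_range_iterate {X : Type*} (f : X → X) (k : ℕ) :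
    Function.periodicPts f ⊆ Set.range (f^[k]) := by
  intro c hc
  obtain ⟨n, hn, hper⟩ := Function.mem_periodicPts.mp hc
  have h1 : Function.IsPeriodicPt f (n * k) c := hper.mul_const k
  have h2 : n * k = k + (n * k - k) := by
    have : k ≤ n * k := Nat.le_mul_of_pos_left k hn
    omega
  refine ⟨f^[n * k - k] c, ?_⟩
  rw [← Function.iterate_add_apply, ← h2]
  exact h1

/-- the semidirect product of `G` with the cyclic group generated by `α` -/
abbrev Hα (α : MulAut G) : Type u :=
  G ⋊[(Subgroup.zpowers α).subtype] ↥(Subgroup.zpowers α)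

/-- the element of `Hα α` inducing `α` -/
def aα (α : MulAut G) : Hα α := SemidirectProduct.inr ⟨α, Subgroup.mem_zpowers α⟩

/-- the embedding of `G` -/
def il (α : MulAut G) : G →* Hα α := SemidirectProduct.inl

theorem il_injective (α : MulAut G) : Function.Injective (il α) := SemidirectProduct.inl_injective

theorem act (α : MulAut G) (c : G) : aα α * il α c * (aα α)⁻¹ = il α (α c) := by
  have := SemidirectProduct.inl_aut (φ := (Subgroup.zpowers α).subtype)
    (⟨α, Subgroup.mem_zpowers α⟩ : Subgroup.zpowers α) c
  rw [map_inv] at this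
  exact this.symm

theorem hid (α : MulAut G) (c : G) :
    il α c * aα α * (il α c)⁻¹ = il α (comm α c) * aα α := by
  have h1 : il α c * aα α * (il α c)⁻¹ = il α c * (aα α * il α c * (aα α)⁻¹)⁻¹ * aα α := by
    group
  rw [h1, act]
  show _ = il α (c * (α c)⁻¹) * aα α
  rw [map_mul, map_inv]

theorem exists_zpow (α : MulAut G) (z : Subgroup.zpowers α) :
    ∃ k : ℤ, (SemidirectProduct.inr z : Hα α) = aα α ^ k := by
  obtain ⟨k, hk⟩ := Subgroup.mem_zpowers_iff.mp z.2
  refine ⟨k, ?_⟩
  have : z = (⟨α, Subgroup.mem_zpowers α⟩ : Subgroup.zpowers α) ^ k := by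
    apply Subtype.ext
    simp [← hk]
  rw [this, map_zpow]
  rfl

theorem decomp (α : MulAut G) (b : Hα α) : ∃ k : ℤ, b = il α b.left * aα α ^ k := by
  obtain ⟨k, hk⟩ := exists_zpow α b.right
  refine ⟨k, ?_⟩
  rw [← hk]
  exact (SemidirectProduct.inl_left_mul_inr_right b).symm

theorem hconj (α : MulAut G) (b : Hα α) :
    b * aα α * b⁻¹ = il α (comm α b.left) * aα α := by
  obtain ⟨k, hk⟩ := decomp α b
  have h1 : b * aα α * b⁻¹ = il α b.left * aα α * (il α b.left)⁻¹ := by
    conv_lhs => rw [hk]
    have : aα α ^ k * aα α * (aα α ^ k)⁻¹ = aα α := by group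
    calc il α b.left * aα α ^ k * aα α * (il α b.left * aα α ^ k)⁻¹
        = il α b.left * (aα α ^ k * aα α * (aα α ^ k)⁻¹) * (il α b.left)⁻¹ := by group
      _ = _ := by rw [this]
  rw [h1, hid]

theorem ncl (α : MulAut G) (hG : Subgroup.closure (Set.range (comm α)) = ⊤) :
    Subgroup.normalClosure ({aα α} : Set (Hα α)) = ⊤ := by
  rw [eq_top_iff]
  intro b _
  have haN : aα α ∈ Subgroup.normalClosure ({aα α} : Set (Hα α)) :=
    Subgroup.subset_normalClosure (Set.mem_singleton _)
  have h1 : ∀ c : G, il α (comm α c) ∈ Subgroup.normalClosure ({aα α} : Set (Hα α)) := by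
    intro c
    have h2 : il α (comm α c) = (il α c * aα α * (il α c)⁻¹) * (aα α)⁻¹ := by
      rw [hid]; group
    rw [h2]
    exact Subgroup.mul_mem _ (Subgroup.normalClosure_normal.conj_mem _ haN _)
      (Subgroup.inv_mem _ haN)
  have h3 : (⊤ : Subgroup G).map (il α) ≤ Subgroup.normalClosure ({aα α} : Set (Hα α)) := by
    rw [← hG, MonoidHom.map_closure, Subgroup.closure_le]
    rintro _ ⟨_, ⟨c, rfl⟩, rfl⟩
    exact h1 c
  have h4 : il α b.left ∈ Subgroup.normalClosure ({aα α} : Set (Hα α)) :=
    h3 ⟨b.left, Subgroup.mem_top _, rfl⟩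
  obtain ⟨k, hk⟩ := decomp α b
  rw [hk]
  exact Subgroup.mul_mem _ h4 (Subgroup.zpow_mem _ haN k)

theorem closure_periodicPts_comm [Finite G] (α : MulAut G)
    (hG : Subgroup.closure (Set.range (comm α)) = ⊤) :
    Subgroup.closure (Function.periodicPts (comm α)) = ⊤ := by
  classical
  have hfin : Finite (Hα α) :=
    Finite.of_equiv _ (SemidirectProduct.equivProd (φ := (Subgroup.zpowers α).subtype)).symm
  have hmain := closure_periodicPts_conj (aα α) (ncl α hG)
  -- the subgroup of elements whose left component lies in `D`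
  set D : Subgroup G := Subgroup.closure (Function.periodicPts (comm α)) with hD
  have hDinv : ∀ z : Subgroup.zpowers α, ∀ d ∈ D, (z : MulAut G) d ∈ D := by
    intro z d hd
    have hzc : Commute α (z : MulAut G) := by
      obtain ⟨k, hk⟩ := Subgroup.mem_zpowers_iff.mp z.2
      rw [← hk]
      exact (Commute.refl α).zpow_right k
    have h1 : D.map (z : MulAut G).toMonoidHom ≤ D := by
      rw [hD, MonoidHom.map_closure, Subgroup.closure_le]
      rintro _ ⟨c, hc, rfl⟩
      apply Subgroup.subset_closure
      obtain ⟨m, hm, hper⟩ := Function.mem_periodicPts.mp hc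
      exact Function.mem_periodicPts.mpr ⟨m, hm, hper.map (comm_semiconj hzc)⟩
    exact h1 ⟨d, hd, rfl⟩
  let Dt : Subgroup (Hα α) :=
    { carrier := {h | h.left ∈ D}
      mul_mem' := by
        intro x y hx hy
        show (x * y).left ∈ D
        rw [SemidirectProduct.mul_left]
        exact D.mul_mem hx (hDinv x.right _ hy)
      one_mem' := by
        show (1 : Hα α).left ∈ D
        rw [SemidirectProduct.one_left]
        exact D.one_mem
      inv_mem' := by
        intro x hx
        show (x⁻¹).left ∈ D
        rw [SemidirectProduct.inv_left]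
        exact hDinv (x.right⁻¹) _ (D.inv_mem hx) }
  have hsemi : Function.Semiconj (fun c : G => il α c * aα α) (comm α)
      (fun b : Hα α => b * aα α * b⁻¹) := by
    intro c
    show il α (comm α c) * aα α = il α c * aα α * aα α * (il α c * aα α)⁻¹
    rw [← hid]; group
  have hsub : Function.periodicPts (fun b : Hα α => b * aα α * b⁻¹) ⊆ (Dt : Set (Hα α)) := by
    intro b hb
    obtain ⟨m, hm, hper⟩ := Function.mem_periodicPts.mp hb
    obtain ⟨m', rfl⟩ : ∃ m', m = m' + 1 := ⟨m - 1, by omega⟩
    obtain ⟨c, hc⟩ : ∃ c : G, b = il α c * aα α := by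
      refine ⟨comm α ((fun b : Hα α => b * aα α * b⁻¹)^[m'] b).left, ?_⟩
      have h1 : (fun b : Hα α => b * aα α * b⁻¹)^[m' + 1] b = b := hper
      rw [Function.iterate_succ_apply'] at h1
      rw [← hconj]
      exact h1.symm
    have hcper : c ∈ Function.periodicPts (comm α) := by
      refine Function.mem_periodicPts.mpr ⟨m' + 1, hm, ?_⟩
      have h2 : il α ((comm α)^[m' + 1] c) * aα α = il α c * aα α := by
        have : il α ((comm α)^[m' + 1] c) * aα α =
            (fun b : Hα α => b * aα α * b⁻¹)^[m' + 1] (il α c * aα α) :=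
          (hsemi.iterate_right (m' + 1)).eq c
        rw [this, ← hc]
        exact hper
      exact il_injective α (mul_right_cancel h2)
    show b.left ∈ D
    have : b.left = c := by
      rw [hc]
      simp [il, aα]
    rw [this]
    exact Subgroup.subset_closure hcper
  have htop : Dt = ⊤ := by
    rw [eq_top_iff, ← hmain, Subgroup.closure_le]
    exact hsub
  rw [eq_top_iff]
  intro g _
  have : il α g ∈ Dt := by rw [htop]; exact Subgroup.mem_top _
  have h2 : (il α g).left ∈ D := this
  simpa [il] using h2

/-- **Iterated commutators with an automorphism generate.** -/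
theorem closure_range_iterate_comm [Finite G] (α : MulAut G)
    (hG : Subgroup.closure (Set.range (fun c : G => c * (α c)⁻¹)) = ⊤) (k : ℕ) :
    Subgroup.closure (Set.range ((fun c : G => c * (α c)⁻¹)^[k])) = ⊤ := by
  rw [eq_top_iff, ← closure_periodicPts_comm α hG]
  exact Subgroup.closure_mono (periodicPts_subset_range_iterate (comm α) k)

end aut

end Cfsg.Agent.Lib.Helper8.BaerGen
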