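import Cfsg.Agent.Lib.Helper8.CcSLC
import Cfsg.Agent.Lib.Lead.CentClU

/-!
# Central extensions of the special linear groups over finite fields split (helper8)

Every central extension of `SL_I(K)` (`K` a finite field, `I` with at least three elements, with the usual exceptions
`(|I|, |K|) = (3, 2), (3, 4), (4, 2)`) splits; consequently the Schur multiplier of `SL_I(K)` is trivial.
-/

set_option autoImplicit false

universe u

namespace Cfsg.Agent.Lib.Helper8.StSL

open Matrix

section field

variable {K : Type*} [Field K] [Fintype K]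

/-- a generator of the multiplicative group -/
theorem exists_pow_ne_one (d : ℕ) (hd : ¬ (Fintype.card K - 1) ∣ d) : ∃ c : K, c ≠ 0 ∧ c ^ d ≠ 1 := by
  classical
  obtain ⟨g, hg⟩ := IsCyclic.exists_generator (α := Kˣ)
  have hord : orderOf g = Fintype.card K - 1 := by
    rw [orderOf_eq_card_of_forall_mem_zpowers hg, Nat.card_eq_fintype_card, Fintype.card_units]
  refine ⟨(g : K), g.ne_zero, ?_⟩
  intro h
  apply hd
  rw [← hord]
  apply orderOf_dvd_of_pow_eq_one
  ext
  rw [Units.val_pow_eq_pow_val, h, Units.val_one]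

theorem exists_cube_ne_one (h2 : Fintype.card K ≠ 2) (h4 : Fintype.card K ≠ 4) :
    ∃ c : K, c ≠ 0 ∧ c ^ 3 ≠ 1 := by
  apply exists_pow_ne_one
  intro h
  have h1 : 1 < Fintype.card K := Fintype.one_lt_card
  have hle := Nat.le_of_dvd (by norm_num) h
  have : Fintype.card K - 1 = 1 ∨ Fintype.card K - 1 = 3 := by
    have hp : Nat.Prime 3 := by norm_num
    exact (Nat.dvd_prime hp).mp h
  omega

theorem exists_sq_ne_one (h2 : Fintype.card K ≠ 2) (h3 : Fintype.card K ≠ 3) :
    ∃ c : K, c ≠ 0 ∧ c ^ 2 ≠ 1 := by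
  apply exists_pow_ne_one
  intro h
  have h1 : 1 < Fintype.card K := Fintype.one_lt_card
  have : Fintype.card K - 1 = 1 ∨ Fintype.card K - 1 = 2 := by
    have hp : Nat.Prime 2 := by norm_num
    exact (Nat.dvd_prime hp).mp h
  omega

/-- the field with three elements -/
theorem card_three_elems (h3 : Fintype.card K = 3) :
    (∀ t : K, t = 0 ∨ t = 1 ∨ t = -1) ∧ (1 : K) + 1 + 1 = 0 := by
  classical
  have h30 : (1 : K) + 1 + 1 = 0 := by
    have := Nat.cast_card_eq_zero K
    rw [h3] at this
    have e : ((3 : ℕ) : K) = 1 + 1 + 1 := by norm_num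
    rw [← e]
    exact this
  have h11 : (1 : K) ≠ -1 := by
    intro h
    have h2 : (1 : K) + 1 = 0 := by
      nth_rewrite 2 [h]
      exact add_neg_cancel 1
    rw [h2, zero_add] at h30
    exact one_ne_zero h30
  refine ⟨?_, h30⟩
  intro t
  by_contra hcon
  push Not at hcon
  have hsub : ({0, 1, -1, t} : Finset K) ⊆ Finset.univ := Finset.subset_univ _
  have hcard : ({0, 1, -1, t} : Finset K).card = 4 := by
    rw [Finset.card_insert_of_notMem, Finset.card_insert_of_notMem, Finset.card_insert_of_notMem,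
      Finset.card_singleton]
    · simpa using hcon.2.2.symm
    · simp [h11, hcon.2.1.symm]
    · simp [hcon.1.symm]
  have := Finset.card_le_card hsub
  rw [hcard, Finset.card_univ, h3] at this
  omega

end field

section main

variable {I : Type*} [Fintype I] [DecidableEq I] {K : Type*} [Field K] [Fintype K]

/-- **Central extensions of `SL_I(K)` split.** -/
theorem sl_exists_section (h3 : 3 ≤ Fintype.card I)
    (hexc : (Fintype.card I, Fintype.card K) ∉ ({(3, 2), (3, 4), (4, 2)} : Set (ℕ × ℕ)))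
    {E : Type*} [Group E] (π : E →* Matrix.SpecialLinearGroup I K) (hπ : Function.Surjective π)
    (hc : π.ker ≤ Subgroup.center E) :
    ∃ s : Matrix.SpecialLinearGroup I K →* E, π.comp s = MonoidHom.id _ := by
  simp only [Set.mem_insert_iff, Set.mem_singleton_iff, Prod.mk.injEq, not_or, not_and] at hexc
  have hK3 : Fintype.card I = 3 → ∃ c : K, c ≠ 0 ∧ c ^ 3 ≠ 1 := by
    intro hI
    exact exists_cube_ne_one (hexc.1 hI) (hexc.2.1 hI)
  have hK4 : Fintype.card I = 4 → (∃ c : K, c ≠ 0 ∧ c ^ 2 ≠ 1) ∨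
      ((∀ t : K, t = 0 ∨ t = 1 ∨ t = -1) ∧ (1 : K) + 1 + 1 = 0) := by
    intro hI
    by_cases hq3 : Fintype.card K = 3
    · exact Or.inr (card_three_elems hq3)
    · exact Or.inl (exists_sq_ne_one (hexc.2.2 hI) hq3)
  obtain ⟨S', hS'⟩ := exists_stRel_lift (slRel I K) π hπ hc h3 hK3 hK4
  obtain ⟨f, hf⟩ := exists_hom_of_stRel h3 S'
  refine ⟨f, ?_⟩
  have hnt : Nontrivial I := Fintype.one_lt_card_iff_nontrivial.mp (by omega)
  ext1 A
  refine Cfsg.Agent.Lib.Helper2.sl_transvection_induction
    (fun A => (π.comp f) A = (MonoidHom.id (Matrix.SpecialLinearGroup I K)) A) ?_ ?_ A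
  · intro i j h t
    rw [MonoidHom.comp_apply, hf i j h t, hS' i j h t, slRel_x h, MonoidHom.id_apply]
  · intro A B hA hB
    rw [map_mul, map_mul, hA, hB]

end main

section schur

variable {I : Type} [Fintype I] [DecidableEq I] {K : Type u} [Field K] [Fintype K]

/-- **The Schur multiplier of `SL_I(K)` is trivial.** -/
theorem sl_trivial_multiplier (h3 : 3 ≤ Fintype.card I)
    (hexc : (Fintype.card I, Fintype.card K) ∉ ({(3, 2), (3, 4), (4, 2)} : Set (ℕ × ℕ))) :
    Cfsg.HasCyclicSchurMultiplier (Matrix.SpecialLinearGroup I K) 1 := by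
  apply Cfsg.Agent.Lib.Lead.CentCl.trivial_multiplier_of_universal
    (MonoidHom.id (Matrix.SpecialLinearGroup I K)) Function.surjective_id
  · intro x hx
    rw [MonoidHom.mem_ker, MonoidHom.id_apply] at hx
    rw [hx]
    exact one_mem _
  · exact Cfsg.Agent.Lib.Helper2.sl_commutator_eq_top h3
  · intro Δ _ _ π hπ hc
    exact sl_exists_section h3 hexc π hπ hc

end schur

end Cfsg.Agent.Lib.Helper8.StSL
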