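import Mathlib
import Cfsg.Agent.Lib.Helper2.EQDefs

/-!
# EQ leaves M8 (`bruhat`) and M9 (`hc_mem_closure`)

Matrices are compared through their action on column vectors: `X a b t` sends `v` to
`Function.update v a (v a + t * v b)` and `dg t` multiplies the coordinates by `t`.
-/

set_option autoImplicit false

namespace Cfsg.Agent.Lib.Helper8.EQ

open Matrix Module Cfsg.Agent.Lib.Helper16.SLMin Cfsg.Agent.Lib.Helper16.SLMinSpine
  Cfsg.Agent.Lib.Helper2.EQ

section M

variable {F : Type*} [Field F] {m : ℕ}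

theorem sl_ext_mulVec {g h : SpecialLinearGroup (Fin m) F}
    (H : ∀ v : Fin m → F, (g : Matrix (Fin m) (Fin m) F) *ᵥ v = (h : Matrix (Fin m) (Fin m) F) *ᵥ v) :
    g = h := by
  apply Subtype.ext
  apply Matrix.toLin'.injective
  apply LinearMap.ext
  intro v
  rw [Matrix.toLin'_apply, Matrix.toLin'_apply]
  exact H v

theorem X_mulVec (a b : Fin m) (hab : a ≠ b) (t : F) (v : Fin m → F) :
    ((X a b t : SpecialLinearGroup (Fin m) F) : Matrix (Fin m) (Fin m) F) *ᵥ v =
      Function.update v a (v a + t * v b) := by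
  have hX : (X a b t : SpecialLinearGroup (Fin m) F) =
      ⟨transvection a b t, det_transvection_of_ne a b hab t⟩ := dif_pos hab
  rw [hX]
  show transvection a b t *ᵥ v = _
  unfold transvection
  rw [add_mulVec, one_mulVec]
  funext i
  rw [Pi.add_apply]
  by_cases hi : i = a
  · subst hi
    rw [Function.update_self]
    congr 1
    simp [mulVec, dotProduct, Matrix.single_apply]
  · rw [Function.update_of_ne hi]
    have : (Matrix.single a b t *ᵥ v) i = 0 := by
      simp [mulVec, dotProduct, Ne.symm hi]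
    rw [this, add_zero]

theorem dg_mulVec (t : Tor m F) (v : Fin m → F) :
    ((dg t : SpecialLinearGroup (Fin m) F) : Matrix (Fin m) (Fin m) F) *ᵥ v =
      fun i => (((t : Fin m → Fˣ) i : Fˣ) : F) * v i := by
  show (diagonal fun i => (((t : Fin m → Fˣ) i : Fˣ) : F)) *ᵥ v = _
  funext i
  rw [mulVec_diagonal]

theorem mul_mulVec' (g h : SpecialLinearGroup (Fin m) F) (v : Fin m → F) :
    ((g * h : SpecialLinearGroup (Fin m) F) : Matrix (Fin m) (Fin m) F) *ᵥ v =
      (g : Matrix (Fin m) (Fin m) F) *ᵥ ((h : Matrix (Fin m) (Fin m) F) *ᵥ v) := by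
  exact (mulVec_mulVec v (g : Matrix (Fin m) (Fin m) F) (h : Matrix (Fin m) (Fin m) F)).symm

theorem sd_mulVec (a b : Fin m) (hab : a ≠ b) (v : Fin m → F) :
    ((sd a b : SpecialLinearGroup (Fin m) F) : Matrix (Fin m) (Fin m) F) *ᵥ v =
      Function.update (Function.update v a (v b)) b (- v a) := by
  unfold sd
  rw [mul_mulVec', mul_mulVec', X_mulVec a b hab, X_mulVec b a hab.symm, X_mulVec a b hab]
  funext i
  by_cases hia : i = a
  · subst hia
    simp [Function.update_apply, hab, hab.symm]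
  · by_cases hib : i = b
    · subst hib
      simp [Function.update_apply, hab, hab.symm]
    · simp [Function.update_apply, hia, hib]

theorem hc_apply (a b : Fin m) (hab : a ≠ b) (t : Fˣ) (i : Fin m) :
    (((hc a b t : Tor m F) : Fin m → Fˣ) i : Fˣ) =
      if i = a then t else if i = b then t⁻¹ else 1 := by
  show (Pi.mulSingle a t * Pi.mulSingle b t⁻¹ : Fin m → Fˣ) i = _
  rw [Pi.mul_apply]
  by_cases hia : i = a
  · subst hia
    rw [if_pos rfl, Pi.mulSingle_eq_same, Pi.mulSingle_eq_of_ne hab, mul_one]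
  · rw [if_neg hia, Pi.mulSingle_eq_of_ne hia, one_mul]
    by_cases hib : i = b
    · subst hib
      rw [if_pos rfl, Pi.mulSingle_eq_same]
    · rw [if_neg hib, Pi.mulSingle_eq_of_ne hib]

/-- M8: the rank-one Bruhat identity `ṡ x(s) ṡ = x(-1/s) h(-1/s) ṡ x(-1/s)` -/
theorem bruhat (a b : Fin m) (hab : a ≠ b) (s : Fˣ) :
    sd a b * X a b (s : F) * sd a b =
      X a b (-((s⁻¹ : Fˣ) : F)) * dg (hc a b (-s⁻¹)) * sd a b * X a b (-((s⁻¹ : Fˣ) : F)) := by
  apply sl_ext_mulVec
  intro v
  simp only [mul_mulVec', sd_mulVec a b hab, X_mulVec a b hab, dg_mulVec]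
  have hs : (s : F) ≠ 0 := s.ne_zero
  funext i
  by_cases hia : i = a
  · subst hia
    simp [Function.update_apply, hab, hab.symm, hc_apply _ _ hab] <;> (try field_simp) <;> (try ring)
  · by_cases hib : i = b
    · subst hib
      simp [Function.update_apply, hab, hab.symm, hc_apply _ _ hab] <;> (try field_simp) <;> (try ring)
    · simp [Function.update_apply, hia, hib, hc_apply _ _ hab]

theorem dg_hc_eq (a b : Fin m) (hab : a ≠ b) (t : Fˣ) :
    (dg (hc a b t) : SpecialLinearGroup (Fin m) F) =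
      X a b (t : F) * X b a (-((t⁻¹ : Fˣ) : F)) * X a b (t : F) *
        (X a b (-1) * X b a 1 * X a b (-1)) := by
  apply sl_ext_mulVec
  intro v
  simp only [mul_mulVec', X_mulVec a b hab, X_mulVec b a hab.symm, dg_mulVec]
  have hs : (t : F) ≠ 0 := t.ne_zero
  funext i
  by_cases hia : i = a
  · subst hia
    simp [Function.update_apply, hab, hab.symm, hc_apply _ _ hab] <;> (try field_simp) <;> (try ring)
  · by_cases hib : i = b
    · subst hib
      simp [Function.update_apply, hab, hab.symm, hc_apply _ _ hab] <;> (try field_simp) <;> (try ring)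
    · simp [Function.update_apply, hia, hib, hc_apply _ _ hab]

/-- M9: `h_ab(t)` lies in the rank-one group `⟨X a b, X b a⟩` -/
theorem hc_mem_closure (a b : Fin m) (hab : a ≠ b) (t : Fˣ) :
    dg (hc a b t) ∈ Subgroup.closure
      ({g : SpecialLinearGroup (Fin m) F | ∃ s : F, g = X a b s} ∪ {g | ∃ s : F, g = X b a s}) := by
  rw [dg_hc_eq a b hab t]
  have h1 : ∀ s : F, X a b s ∈ Subgroup.closure
      ({g : SpecialLinearGroup (Fin m) F | ∃ s : F, g = X a b s} ∪ {g | ∃ s : F, g = X b a s}) :=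
    fun s => Subgroup.subset_closure (Or.inl ⟨s, rfl⟩)
  have h2 : ∀ s : F, X b a s ∈ Subgroup.closure
      ({g : SpecialLinearGroup (Fin m) F | ∃ s : F, g = X a b s} ∪ {g | ∃ s : F, g = X b a s}) :=
    fun s => Subgroup.subset_closure (Or.inr ⟨s, rfl⟩)
  exact mul_mem (mul_mem (mul_mem (h1 _) (h2 _)) (h1 _)) (mul_mem (mul_mem (h1 _) (h2 _)) (h1 _))

end M

end Cfsg.Agent.Lib.Helper8.EQ
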