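import Mathlib
import Cfsg.Agent.Lib.Helper2.EQDefs
import Cfsg.Agent.Lib.Helper20.EQM5
import Cfsg.Agent.Lib.Helper8.EQM8
import Cfsg.Agent.Lib.Helper6.EQStab
import Cfsg.Agent.Lib.Helper2.EQM12

/-!
# EQ leaf R6 (`local_zero_j`): LOCALITY of the torus weights on `C_M(U)`

`pj x β` is the weight-`β` projection of a one-parameter group `x : F → End M`.
-/

set_option autoImplicit false
set_option linter.unusedSectionVars false
set_option linter.unusedVariables false

namespace Cfsg.Agent.Lib.Helper8.EQ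

open Matrix Module Cfsg.Agent.Lib.Helper16.SLMin Cfsg.Agent.Lib.Helper16.SLMinSpine
  Cfsg.Agent.Lib.Helper2.EQ Cfsg.Agent.Lib.Helper20.EQ

section oneparam

variable {F : Type*} [Field F] [Fintype F] {M : Type*} [AddCommGroup M] [Module ℂ M]

/-- the weight-`β` projection of the one-parameter group `x` -/
noncomputable def pj (x : F → Module.End ℂ M) (β : F) : Module.End ℂ M :=
  ((Fintype.card F : ℂ)⁻¹) • ∑ t : F, eps F (-(β * t)) • x t

theorem pj_apply (x : F → Module.End ℂ M) (β : F) (u : M) :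
    pj x β u = ((Fintype.card F : ℂ)⁻¹) • ∑ t : F, eps F (-(β * t)) • x t u := by
  unfold pj
  rw [LinearMap.smul_apply, LinearMap.sum_apply]
  rfl

theorem x_pj (x : F → Module.End ℂ M) (hxa : ∀ s t, x (s + t) = x s * x t) (s β : F) (u : M) :
    x s (pj x β u) = eps F (β * s) • pj x β u := by
  have h1 : x s (pj x β u) =
      ((Fintype.card F : ℂ)⁻¹) • ∑ t : F, eps F (-(β * t)) • x (s + t) u := by
    rw [pj_apply, (x s).map_smul, map_sum]
    congr 1
    apply Finset.sum_congr rfl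
    intro t _
    rw [(x s).map_smul, hxa]
    rfl
  rw [h1, pj_apply, smul_comm (eps F (β * s))]
  congr 1
  rw [Finset.smul_sum]
  rw [← Equiv.sum_comp (Equiv.addLeft s) (fun t => eps F (β * s) • eps F (-(β * t)) • x t u)]
  apply Finset.sum_congr rfl
  intro t _
  rw [Equiv.coe_addLeft, smul_smul, ← AddChar.map_add_eq_mul]
  have : β * s + -(β * (s + t)) = -(β * t) := by ring
  rw [this]

theorem sum_pj [DecidableEq F] (x : F → Module.End ℂ M) (hx0 : x 0 = 1) (u : M) :
    ∑ β : F, pj x β u = u := by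
  simp only [pj_apply]
  rw [← Finset.smul_sum, Finset.sum_comm]
  have h2 : ∀ t ∈ (Finset.univ : Finset F), ∑ β : F, eps F (-(β * t)) • x t u =
      (if t = 0 then (Fintype.card F : ℂ) else 0) • x t u := by
    intro t _
    rw [← Finset.sum_smul]
    congr 1
    have := AddChar.sum_mulShift (ψ := eps F) (-t) (eps_prim F)
    simp only [neg_eq_zero] at this
    have h3 : ∑ β : F, eps F (-(β * t)) = ∑ β : F, eps F (β * -t) := by
      apply Finset.sum_congr rfl
      intro β _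
      congr 1
      ring
    rw [h3, this]
    split_ifs <;> simp
  rw [Finset.sum_congr rfl h2]
  simp only [ite_smul, zero_smul, Finset.sum_ite_eq', Finset.mem_univ, if_true]
  rw [smul_smul, inv_mul_cancel₀ (Nat.cast_ne_zero.mpr Fintype.card_ne_zero), one_smul, hx0]
  rfl

theorem pj_mem (x : F → Module.End ℂ M) (W : Submodule ℂ M) (hW : ∀ t, ∀ u ∈ W, x t u ∈ W)
    (β : F) {u : M} (hu : u ∈ W) : pj x β u ∈ W := by
  rw [pj_apply]
  exact W.smul_mem _ (W.sum_mem fun t _ => W.smul_mem _ (hW t u hu))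

theorem pj_comm (x : F → Module.End ℂ M) (D : Module.End ℂ M)
    (hD : ∀ t u, D (x t u) = x t (D u)) (β : F) (u : M) : D (pj x β u) = pj x β (D u) := by
  rw [pj_apply, pj_apply, map_smul, map_sum]
  congr 1
  apply Finset.sum_congr rfl
  intro t _
  rw [map_smul, hD]

/-- if all the non-zero weight components vanish, the vector is fixed -/
theorem fixed_of_pj_eq_zero [DecidableEq F] (x : F → Module.End ℂ M)
    (hxa : ∀ s t, x (s + t) = x s * x t) (hx0 : x 0 = 1) (u : M)
    (h : ∀ β : F, β ≠ 0 → pj x β u = 0) (s : F) : x s u = u := by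
  have h1 : pj x 0 u = u := by
    conv_rhs => rw [← sum_pj x hx0 u]
    rw [Finset.sum_eq_single (0 : F)]
    · intro β _ hβ
      exact h β hβ
    · intro h0
      exact absurd (Finset.mem_univ _) h0
  rw [← h1, x_pj x hxa, zero_mul, AddChar.map_zero_eq_one, one_smul]

end oneparam

section tools

variable {F : Type*} [Field F] [Fintype F] [DecidableEq F] {M : Type*} [AddCommGroup M]
  [Module ℂ M] {m : ℕ}

/-- the one-parameter group of operators of the root group `X c d` -/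
noncomputable def xg (ρ : Representation ℂ (SpecialLinearGroup (Fin m) F) M) (c d : Fin m) :
    F → Module.End ℂ M := fun t => ρ (X c d t)

theorem xg_apply (ρ : Representation ℂ (SpecialLinearGroup (Fin m) F) M) (c d : Fin m) (t : F) :
    xg ρ c d t = ρ (X c d t) := rfl

theorem xg_add (ρ : Representation ℂ (SpecialLinearGroup (Fin m) F) M) (c d : Fin m) (s t : F) :
    xg ρ c d (s + t) = xg ρ c d s * xg ρ c d t := by
  unfold xg
  rw [X_add, map_mul]

theorem xg_zero (ρ : Representation ℂ (SpecialLinearGroup (Fin m) F) M) (c d : Fin m) :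
    xg ρ c d 0 = 1 := by
  unfold xg
  rw [X_zero, map_one]

theorem rho_mul_apply {G : Type*} [Group G] (ρ : Representation ℂ G M) (g h : G) (y : M) :
    ρ (g * h) y = ρ g (ρ h y) := by
  rw [map_mul, Module.End.mul_apply]

theorem rho_inv_apply {G : Type*} [Group G] (ρ : Representation ℂ G M) (g : G) (y : M) :
    ρ g⁻¹ (ρ g y) = y := by
  rw [← rho_mul_apply, inv_mul_cancel, map_one]
  rfl

theorem rho_injective {G : Type*} [Group G] (ρ : Representation ℂ G M) (g : G) {y y' : M}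
    (h : ρ g y = ρ g y') : y = y' := by
  rw [← rho_inv_apply ρ g y, h, rho_inv_apply]

theorem fixed_of_mem_closure {G : Type*} [Group G] (ρ : Representation ℂ G M) (S : Set G) (y : M)
    (h : ∀ g ∈ S, ρ g y = y) {g : G} (hg : g ∈ Subgroup.closure S) : ρ g y = y := by
  induction hg using Subgroup.closure_induction with
  | mem g hg => exact h g hg
  | one => rw [map_one]; rfl
  | mul g h _ _ ihg ihh => rw [rho_mul_apply, ihh, ihg]
  | inv g _ ih =>
    have := rho_inv_apply ρ g y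
    rw [ih] at this
    exact this

/-- a vector fixed by `X c d` and `X d c` on which `h_cd(t0)` acts by a scalar `≠ 1` vanishes -/
theorem eq_zero_of_fixed_pair (ρ : Representation ℂ (SpecialLinearGroup (Fin m) F) M)
    (c d : Fin m) (hcd : c ≠ d) (y : M)
    (h1 : ∀ t : F, ρ (X c d t) y = y) (h2 : ∀ t : F, ρ (X d c t) y = y)
    (t0 : Fˣ) (μ : ℂ) (hμ : μ ≠ 1) (hy : ρ (dg (hc c d t0)) y = μ • y) : y = 0 := by
  have h3 : ρ (dg (hc c d t0)) y = y := by
    refine fixed_of_mem_closure ρ _ y ?_ (hc_mem_closure c d hcd t0)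
    rintro g (⟨s, rfl⟩ | ⟨s, rfl⟩)
    · exact h1 s
    · exact h2 s
  rw [h3] at hy
  have h4 : (1 - μ) • y = 0 := by
    rw [sub_smul, one_smul, ← hy, sub_self]
  rcases smul_eq_zero.mp h4 with h | h
  · exact absurd (sub_eq_zero.mp h).symm hμ
  · exact h

/-- if `ρ(ṡ_cd) y` is fixed by `X c d` then `y` is fixed by `X d c` -/
theorem fixed_low_of_sd (ρ : Representation ℂ (SpecialLinearGroup (Fin m) F) M)
    (c d : Fin m) (hcd : c ≠ d) (y : M)
    (h : ∀ t : F, ρ (X c d t) (ρ (sd c d) y) = ρ (sd c d) y) (t : F) : ρ (X d c t) y = y := by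
  obtain ⟨ε, hε, hconj⟩ := sd_inv_conj_X (F := F) c d c d hcd hcd
  have hsw1 : Equiv.swap c d c = d := Equiv.swap_apply_left c d
  have hsw2 : Equiv.swap c d d = c := Equiv.swap_apply_right c d
  have key : ∀ s, ρ (X d c (ε * s)) y = y := by
    intro s
    have h5 := hconj s
    rw [hsw1, hsw2] at h5
    rw [← h5, rho_mul_apply, rho_mul_apply, h s, rho_inv_apply]
  have h6 : t = ε * (ε * t) := by
    rcases hε with rfl | rfl <;> ring
  rw [h6]
  exact key _

/-- the torus element `dg h` against a root element -/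
theorem dg_mul_X (h : Tor m F) (c d : Fin m) (s : F) :
    dg h * X c d s =
      X c d ((((h : Fin m → Fˣ) c : Fˣ) : F) * ((((h : Fin m → Fˣ) d)⁻¹ : Fˣ) : F) * s) * dg h := by
  rw [← dg_conj_X h c d s, inv_mul_cancel_right]

theorem dg_comm_X (h : Tor m F) (c d : Fin m)
    (hcd : (h : Fin m → Fˣ) c = (h : Fin m → Fˣ) d) (s : F) :
    dg h * X c d s = X c d s * dg h := by
  rw [dg_mul_X, hcd]
  congr 2
  rw [← Units.val_mul, mul_inv_cancel, Units.val_one, one_mul]

theorem dg_comm_sd (h : Tor m F) (c d : Fin m)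
    (hcd : (h : Fin m → Fˣ) c = (h : Fin m → Fˣ) d) :
    dg h * sd c d = sd c d * dg h := by
  have c1 : ∀ s : F, Commute (dg h) (X c d s) := fun s => dg_comm_X h c d hcd s
  have c2 : ∀ s : F, Commute (dg h) (X d c s) := fun s => dg_comm_X h d c hcd.symm s
  exact ((c1 1).mul_right (c2 (-1))).mul_right (c1 1)

theorem X_comm_sd (a b c d : Fin m) (h1 : b ≠ c) (h2 : a ≠ d) (h3 : b ≠ d) (h4 : a ≠ c) (t : F) :
    X a b t * sd c d = sd c d * (X a b t : SpecialLinearGroup (Fin m) F) := by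
  have c1 : ∀ s : F, Commute (X a b t) (X c d s) := fun s => X_comm a b c d h1 h2 t s
  have c2 : ∀ s : F, Commute (X a b t) (X d c s) := fun s => X_comm a b d c h3 h4 t s
  exact ((c1 1).mul_right (c2 (-1))).mul_right (c1 1)

theorem exists_sq_ne_one (hq : 5 ≤ Fintype.card F) : ∃ c : Fˣ, ((c : F)) * (c : F) ≠ 1 := by
  by_contra hcon
  push Not at hcon
  have h1 : ∀ x : F, x ∈ ({0, 1, -1} : Finset F) := by
    intro x
    by_cases hx : x = 0
    · simp [hx]
    · have h2 := hcon (Units.mk0 x hx)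
      rw [Units.val_mk0] at h2
      have h3 : (x - 1) * (x + 1) = 0 := by ring_nf; rw [← h2]; ring
      rcases mul_eq_zero.mp h3 with h | h
      · have : x = 1 := sub_eq_zero.mp h
        simp [this]
      · have : x = -1 := eq_neg_of_add_eq_zero_left h
        simp [this]
  have h2 : Fintype.card F ≤ ({0, 1, -1} : Finset F).card := by
    rw [← Finset.card_univ]
    exact Finset.card_le_card (fun x _ => h1 x)
  have := Finset.card_le_three (a := (0 : F)) (b := 1) (c := -1)
  omega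

end tools

section main

variable {F : Type*} [Field F] [Fintype F] [DecidableEq F] {M : Type*} [AddCommGroup M]
  [Module ℂ M] [FiniteDimensional ℂ M] {N : ℕ}

/-- R6 with the leaves STAB3, STAB5, M12e as hypotheses -/
theorem local_zero_j_of (hq : 5 ≤ Fintype.card F)
    (ρ : Representation ℂ (SpecialLinearGroup (Fin (N + 1)) F) M)
    (hSTAB3 : ∀ (i : Fin N) (t : F) {x : M}, x ∈ Efix ρ i →
      ρ (X i.castSucc i.succ t) x ∈ Efix ρ i)
    (hSTAB5 : ∀ (i : Fin N) {x : M}, x ∈ Efix ρ i → ρ (sd i.castSucc i.succ) x ∈ Efix ρ i)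
    (hM12e : ∀ (w : Fin N → F) (x : M), x ∈ wt ρ (row0 (F := F) (N := N)) w ↔
      ∀ (k : Fin N) (t : F), ρ (X 0 k.succ t) x = (eps F (w k * t)) • x)
    (hm1 : ∀ w : Fin N → F, w ≠ 0 → finrank ℂ ↥(wt ρ (row0 (F := F) (N := N)) w) = 1)
    (θ : Tor (N + 1) F →* ℂˣ) (i j : Fin N) (hi : i.val = 0) (hj : 2 ≤ j.val)
    (h0 : ∃ t : Fˣ, θ (hc i.castSucc i.succ t) ≠ 1)
    (h1 : ∃ t : Fˣ, θ (hc j.castSucc j.succ t) ≠ 1) : Cfix ρ ⊓ wtT ρ θ = ⊥ := by
  rw [eq_bot_iff]
  rintro x ⟨hxC, hxT⟩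
  rw [Submodule.mem_bot]
  have hxT' := mem_wtT.mp hxT
  have hxC' := mem_Fx.mp hxC
  -- positions
  obtain ⟨p0, hp0⟩ : ∃ p0 : Fin (N + 1), p0 = i.castSucc := ⟨_, rfl⟩
  obtain ⟨p1, hp1⟩ : ∃ p1 : Fin (N + 1), p1 = i.succ := ⟨_, rfl⟩
  obtain ⟨a, ha⟩ : ∃ a : Fin (N + 1), a = j.castSucc := ⟨_, rfl⟩
  obtain ⟨b, hb⟩ : ∃ b : Fin (N + 1), b = j.succ := ⟨_, rfl⟩
  rw [← hp0, ← hp1] at h0
  rw [← ha, ← hb] at h1
  have vp0 : p0.val = 0 := by rw [hp0, Fin.val_castSucc]; exact hi
  have vp1 : p1.val = 1 := by rw [hp1, Fin.val_succ, hi]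
  have va : a.val = j.val := by rw [ha, Fin.val_castSucc]
  have vb : b.val = j.val + 1 := by rw [hb, Fin.val_succ]
  have ne : ∀ {u v : Fin (N + 1)}, u.val ≠ v.val → u ≠ v := fun h e => h (congrArg Fin.val e)
  have hp01 : p0 ≠ p1 := ne (by omega)
  have hab : a ≠ b := ne (by omega)
  have hap0 : a ≠ p0 := ne (by omega)
  have hap1 : a ≠ p1 := ne (by omega)
  have hbp0 : b ≠ p0 := ne (by omega)
  have hbp1 : b ≠ p1 := ne (by omega)
  have hp0z : p0 = 0 := Fin.ext (by rw [vp0]; rfl)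
  have hlt01 : p0 < p1 := Fin.lt_def.mpr (by omega)
  have hltab : a < b := Fin.lt_def.mpr (by omega)
  -- x ∈ Efix j
  have hxE : x ∈ Efix ρ j := fun c d hcd t => hxC' c d hcd.1 t
  -- u
  obtain ⟨u, hu⟩ : ∃ u : M, u = ρ (sd a b) x := ⟨_, rfl⟩
  have huE : u ∈ Efix ρ j := by
    rw [hu, ha, hb]
    exact hSTAB5 j hxE
  have hST3 : ∀ (t : F) (v : M), v ∈ Efix ρ j → xg ρ a b t v ∈ Efix ρ j := by
    intro t v hv
    rw [xg_apply, ha, hb]
    exact hSTAB3 j t hv
  -- the claim
  have claim : ∀ β : F, β ≠ 0 → pj (xg ρ a b) β u = 0 := by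
    intro β hβ
    obtain ⟨y, hy⟩ : ∃ y : M, y = pj (xg ρ a b) β u := ⟨_, rfl⟩
    rw [← hy]
    have hyE : y ∈ Efix ρ j := by
      rw [hy]
      exact pj_mem (xg ρ a b) (Efix ρ j) hST3 β huE
    have hyE' := mem_Fx.mp hyE
    have hyw : ∀ t, ρ (X a b t) y = eps F (β * t) • y := by
      intro t
      rw [hy]
      exact x_pj (xg ρ a b) (xg_add ρ a b) t β u
    have hyT : ∀ t : Fˣ, ρ (dg (hc p0 p1 t)) y = ((θ (hc p0 p1 t) : ℂˣ) : ℂ) • y := by
      intro t
      have hh : ((hc p0 p1 t : Tor (N + 1) F) : Fin (N + 1) → Fˣ) a =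
          ((hc p0 p1 t : Tor (N + 1) F) : Fin (N + 1) → Fˣ) b := by
        rw [hc_apply _ _ hp01, hc_apply _ _ hp01, if_neg hap0, if_neg hap1, if_neg hbp0,
          if_neg hbp1]
      have hcomm : ∀ s v, ρ (dg (hc p0 p1 t)) (xg ρ a b s v) =
          xg ρ a b s (ρ (dg (hc p0 p1 t)) v) := by
        intro s v
        rw [xg_apply, ← rho_mul_apply, ← rho_mul_apply, dg_comm_X _ a b hh s]
      rw [hy, pj_comm (xg ρ a b) (ρ (dg (hc p0 p1 t))) hcomm β u]
      have h2 : ρ (dg (hc p0 p1 t)) u = ((θ (hc p0 p1 t) : ℂˣ) : ℂ) • u := by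
        rw [hu, ← rho_mul_apply, dg_comm_sd _ a b hh, rho_mul_apply, hxT', map_smul]
      rw [h2, map_smul]
    obtain ⟨z, hz⟩ : ∃ z : M, z = ρ (sd p0 p1) y := ⟨_, rfl⟩
    have hz1 : ∀ k : Fin (N + 1), k ≠ p0 → k ≠ p1 → ∀ t, ρ (X p0 k t) z = z := by
      intro k hk0 hk1 t
      obtain ⟨ε, hε, hconj⟩ := sd_conj_X (F := F) p0 p1 p1 k hp01 (Ne.symm hk1)
      have hsw1 : Equiv.swap p0 p1 p1 = p0 := Equiv.swap_apply_right p0 p1
      have hsw2 : Equiv.swap p0 p1 k = k := Equiv.swap_apply_of_ne_of_ne hk0 hk1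
      have hyk : ∀ s, ρ (X p1 k s) y = y := by
        intro s
        refine hyE' p1 k ⟨?_, ?_⟩ s
        · rw [Fin.lt_def]
          have h3 : k.val ≠ 0 := fun h => hk0 (Fin.ext (by omega))
          have h4 : k.val ≠ 1 := fun h => hk1 (Fin.ext (by omega))
          omega
        · rintro ⟨h, _⟩
          rw [← ha] at h
          exact hap1 h.symm
      have key : ∀ s, ρ (X p0 k (ε * s)) z = z := by
        intro s
        have h5 := hconj s
        rw [hsw1, hsw2] at h5
        rw [← h5, hz, rho_mul_apply, rho_mul_apply, rho_inv_apply, hyk s]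
      have h6 : t = ε * (ε * t) := by
        rcases hε with rfl | rfl <;> ring
      rw [h6]
      exact key _
    have hz2 : ∀ t, ρ (X a b t) z = eps F (β * t) • z := by
      intro t
      rw [hz, ← rho_mul_apply, X_comm_sd a b p0 p1 hbp0 hap1 hbp1 hap0 t, rho_mul_apply, hyw t,
        map_smul]
    have hzα : ∀ α : F, α ≠ 0 → pj (xg ρ p0 p1) α z = 0 := by
      intro α hα
      obtain ⟨v, hv⟩ : ∃ v : M, v = pj (xg ρ p0 p1) α z := ⟨_, rfl⟩
      rw [← hv]
      by_contra hv0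
      have v1 : ∀ t, ρ (X p0 p1 t) v = eps F (α * t) • v := by
        intro t
        rw [hv]
        exact x_pj (xg ρ p0 p1) (xg_add ρ p0 p1) t α z
      have v2 : ∀ k : Fin (N + 1), k ≠ p0 → k ≠ p1 → ∀ t, ρ (X p0 k t) v = v := by
        intro k hk0 hk1 t
        have hcomm : ∀ s w, ρ (X p0 k t) (xg ρ p0 p1 s w) = xg ρ p0 p1 s (ρ (X p0 k t) w) := by
          intro s w
          rw [xg_apply, ← rho_mul_apply, ← rho_mul_apply, X_comm p0 k p0 p1 hk0 hp01 t s]
        rw [hv, pj_comm (xg ρ p0 p1) (ρ (X p0 k t)) hcomm α z, hz1 k hk0 hk1 t]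
      have v3 : ∀ t, ρ (X a b t) v = eps F (β * t) • v := by
        intro t
        have hcomm : ∀ s w, ρ (X a b t) (xg ρ p0 p1 s w) = xg ρ p0 p1 s (ρ (X a b t) w) := by
          intro s w
          rw [xg_apply, ← rho_mul_apply, ← rho_mul_apply, X_comm a b p0 p1 hbp0 hap1 t s]
        rw [hv, pj_comm (xg ρ p0 p1) (ρ (X a b t)) hcomm α z, hz2 t, map_smul]
      obtain ⟨w, hw⟩ : ∃ w : Fin N → F, w = Pi.single i α := ⟨_, rfl⟩
      have hw0 : w ≠ 0 := by
        intro h
        apply hα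
        have h3 := congrFun h i
        rwa [hw, Pi.single_eq_same] at h3
      have crit : ∀ v' : M, (∀ t, ρ (X p0 p1 t) v' = eps F (α * t) • v') →
          (∀ k : Fin (N + 1), k ≠ p0 → k ≠ p1 → ∀ t, ρ (X p0 k t) v' = v') →
          v' ∈ wt ρ (row0 (F := F) (N := N)) w := by
        intro v' c1 c2
        rw [hM12e]
        intro k t
        rw [← hp0z]
        by_cases hk : k = i
        · rw [hk, hw, Pi.single_eq_same, ← hp1]
          exact c1 t
        · rw [hw, Pi.single_eq_of_ne hk, zero_mul, AddChar.map_zero_eq_one, one_smul]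
          refine c2 k.succ (ne ?_) (ne ?_) t
          · rw [vp0, Fin.val_succ]
            omega
          · rw [vp1, Fin.val_succ]
            intro h
            apply hk
            apply Fin.ext
            omega
      obtain ⟨c, hc2⟩ := exists_sq_ne_one hq
      obtain ⟨dd, hdd⟩ : ∃ dd : Tor (N + 1) F, dd = hc a b c := ⟨_, rfl⟩
      have hda : (dd : Fin (N + 1) → Fˣ) a = c := by
        rw [hdd, hc_apply _ _ hab, if_pos rfl]
      have hdb : (dd : Fin (N + 1) → Fˣ) b = c⁻¹ := by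
        rw [hdd, hc_apply _ _ hab, if_neg hab.symm, if_pos rfl]
      have hd0 : (dd : Fin (N + 1) → Fˣ) p0 = 1 := by
        rw [hdd, hc_apply _ _ hab, if_neg hap0.symm, if_neg hbp0.symm]
      have hd1 : (dd : Fin (N + 1) → Fˣ) p1 = 1 := by
        rw [hdd, hc_apply _ _ hab, if_neg hap1.symm, if_neg hbp1.symm]
      have hvL : v ∈ wt ρ (row0 (F := F) (N := N)) w := crit v v1 v2
      have hdvL : ρ (dg dd) v ∈ wt ρ (row0 (F := F) (N := N)) w := by
        apply crit
        · intro t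
          rw [← rho_mul_apply, ← dg_comm_X dd p0 p1 (hd0.trans hd1.symm) t, rho_mul_apply, v1 t,
            map_smul]
        · intro k hk0 hk1 t
          obtain ⟨lam, hlam⟩ : ∃ lam : F, lam = (((dd : Fin (N + 1) → Fˣ) p0 : Fˣ) : F) *
              ((((dd : Fin (N + 1) → Fˣ) k)⁻¹ : Fˣ) : F) := ⟨_, rfl⟩
          have hlam0 : lam ≠ 0 := by
            rw [hlam]
            exact mul_ne_zero (Units.ne_zero _) (Units.ne_zero _)
          have h7 := dg_mul_X dd p0 k (lam⁻¹ * t)
          rw [← hlam] at h7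
          have h8 : lam * (lam⁻¹ * t) = t := by
            field_simp
          rw [h8] at h7
          rw [← rho_mul_apply, ← h7, rho_mul_apply, v2 k hk0 hk1]
      have hfr := hm1 w hw0
      obtain ⟨δ, hδ⟩ := (finrank_eq_one_iff_of_nonzero'
        (⟨v, hvL⟩ : ↥(wt ρ (row0 (F := F) (N := N)) w))
        (by
          intro h
          apply hv0
          exact congrArg Subtype.val h)).mp hfr ⟨ρ (dg dd) v, hdvL⟩
      have hδ' : δ • v = ρ (dg dd) v := congrArg Subtype.val hδ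
      have hcc : ∀ t, dg dd * X a b t = X a b ((c : F) * (c : F) * t) * dg dd := by
        intro t
        rw [dg_mul_X dd a b t, hda, hdb, inv_inv]
      have hδ0 : δ ≠ 0 := by
        intro h
        rw [h, zero_smul] at hδ'
        apply hv0
        apply rho_injective ρ (dg dd)
        rw [← hδ', map_zero]
      have h8 : ∀ t, eps F (β * ((c : F) * (c : F) * t)) = eps F (β * t) := by
        intro t
        have e1 : ρ (X a b ((c : F) * (c : F) * t)) (ρ (dg dd) v) =
            eps F (β * t) • ρ (dg dd) v := by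
          rw [← rho_mul_apply, ← hcc t, rho_mul_apply, v3 t, map_smul]
        rw [← hδ', map_smul, v3, smul_smul, smul_smul] at e1
        have e2 : (δ * eps F (β * ((c : F) * (c : F) * t)) - eps F (β * t) * δ) • v = 0 := by
          rw [sub_smul, e1, sub_self]
        rcases smul_eq_zero.mp e2 with h | h
        · have h9 : δ * (eps F (β * ((c : F) * (c : F) * t)) - eps F (β * t)) = 0 := by
            rw [← h]
            ring
          rcases mul_eq_zero.mp h9 with h' | h'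
          · exact absurd h' hδ0
          · exact sub_eq_zero.mp h'
        · exact absurd h hv0
      have hγ : β * ((c : F) * (c : F) - 1) ≠ 0 := mul_ne_zero hβ (sub_ne_zero.mpr hc2)
      have hprim := eps_prim F hγ
      rw [AddChar.ne_one_iff] at hprim
      obtain ⟨t, ht⟩ := hprim
      apply ht
      rw [AddChar.mulShift_apply]
      have h10 : β * ((c : F) * (c : F) - 1) * t = β * ((c : F) * (c : F) * t) + -(β * t) := by
        ring
      rw [h10, AddChar.map_add_eq_mul, h8 t, ← AddChar.map_add_eq_mul, add_neg_cancel,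
        AddChar.map_zero_eq_one]
    have hzfix : ∀ t, ρ (X p0 p1 t) (ρ (sd p0 p1) y) = ρ (sd p0 p1) y := by
      intro t
      rw [← hz]
      exact fixed_of_pj_eq_zero (xg ρ p0 p1) (xg_add ρ p0 p1) (xg_zero ρ p0 p1) z hzα t
    obtain ⟨t0, ht0⟩ := h0
    refine eq_zero_of_fixed_pair ρ p0 p1 hp01 y
      (fun t => hyE' p0 p1 ⟨hlt01, fun h => hap0 (by rw [ha]; exact h.1.symm)⟩ t)
      (fixed_low_of_sd ρ p0 p1 hp01 y hzfix) t0 ((θ (hc p0 p1 t0) : ℂˣ) : ℂ) ?_ (hyT t0)
    intro h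
    apply ht0
    exact Units.ext h
  -- conclusion
  have hfix : ∀ t, ρ (X a b t) (ρ (sd a b) x) = ρ (sd a b) x := by
    intro t
    rw [← hu]
    exact fixed_of_pj_eq_zero (xg ρ a b) (xg_add ρ a b) (xg_zero ρ a b) u claim t
  obtain ⟨t1, ht1⟩ := h1
  refine eq_zero_of_fixed_pair ρ a b hab x (fun t => hxC' a b hltab t)
    (fixed_low_of_sd ρ a b hab x hfix) t1 ((θ (hc a b t1) : ℂˣ) : ℂ) ?_ (hxT' _)
  intro h
  apply ht1
  exact Units.ext h

/-- R6: LOCALITY: no torus weight on `C_M(U)` is non-trivial on the coroots at the positions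
`0` and `j ≥ 2` simultaneously -/
theorem local_zero_j (hq : 5 ≤ Fintype.card F)
    (ρ : Representation ℂ (SpecialLinearGroup (Fin (N + 1)) F) M)
    (hm1 : ∀ w : Fin N → F, w ≠ 0 → finrank ℂ ↥(wt ρ (row0 (F := F) (N := N)) w) = 1)
    (θ : Tor (N + 1) F →* ℂˣ) (i j : Fin N) (hi : i.val = 0) (hj : 2 ≤ j.val)
    (h0 : ∃ t : Fˣ, θ (hc i.castSucc i.succ t) ≠ 1)
    (h1 : ∃ t : Fˣ, θ (hc j.castSucc j.succ t) ≠ 1) : Cfix ρ ⊓ wtT ρ θ = ⊥ :=
  local_zero_j_of hq ρ
    (fun i t _ hx => Cfsg.Agent.Lib.Helper6.EQ.X_mem_Efix ρ i t hx)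
    (fun i _ hx => Cfsg.Agent.Lib.Helper6.EQ.sd_mem_Efix ρ i hx)
    (fun w x => Cfsg.Agent.Lib.Helper2.EQ.mem_wt_row0_iff ρ w x)
    hm1 θ i j hi hj h0 h1

end main

end Cfsg.Agent.Lib.Helper8.EQ
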