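import Mathlib
import Cfsg.Agent.Lib.Helper1.MetaCoprime
import Cfsg.Agent.Lib.Helper1.NilpotentAction

/-! S4642 leaf AXB (helper8): Thompson's `A × B` lemma, ambient form, all primes. -/

set_option autoImplicit false

namespace Cfsg.Agent.Lib.Helper8.FPTAXB

open scoped commutatorElement

universe u

variable {p : ℕ} [hpp : Fact p.Prime]

/-- the induction behind the `A × B` lemma -/
theorem axb_aux {X : Type u} [Group X] [Finite X] (A B : Subgroup X) (hA : IsPGroup p A)
    (hB : ¬ p ∣ Nat.card B) (hAB : ∀ a ∈ A, ∀ b ∈ B, a * b = b * a) :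
    ∀ (n : ℕ) (P : Subgroup X), Nat.card P = n → IsPGroup p P →
      A ≤ Subgroup.normalizer (P : Set X) → B ≤ Subgroup.normalizer (P : Set X) →
      P ⊓ Subgroup.centralizer (A : Set X) ≤ Subgroup.centralizer (B : Set X) →
      P ≤ Subgroup.centralizer (B : Set X) := by
  have hcop : (Nat.card B).Coprime p :=
    ((Nat.Prime.coprime_iff_not_dvd hpp.out).mpr hB).symm
  have hAcB : A ≤ Subgroup.centralizer (B : Set X) := by
    intro a ha
    rw [Subgroup.mem_centralizer_iff]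
    intro b hb
    exact (hAB a ha b hb).symm
  have hBcA : B ≤ Subgroup.centralizer (A : Set X) := by
    intro b hb
    rw [Subgroup.mem_centralizer_iff]
    intro a ha
    exact hAB a ha b hb
  have hABbot : ⁅A, B⁆ = ⊥ := Subgroup.commutator_eq_bot_iff_le_centralizer.mpr hAcB
  intro n
  induction n using Nat.strong_induction_on with
  | _ n ih =>
  intro P hn hP hAP hBP hC
  by_cases hne : P = ⊥
  · rw [hne]; exact bot_le
  -- R = [P, A] < P
  have hRlt : ⁅P, A⁆ < P := Cfsg.Agent.Lib.Helper1.IsPGroup.commutator_lt hP hA hAP hne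
  have hRle : ⁅P, A⁆ ≤ P := hRlt.le
  have hRcard : Nat.card (⁅P, A⁆ : Subgroup X) < n := by
    rw [← hn]
    refine lt_of_le_of_ne (Subgroup.card_le_of_le hRle) (fun h => ?_)
    exact hRlt.ne (Subgroup.eq_of_le_of_card_ge hRle h.ge)
  have hAR : A ≤ Subgroup.normalizer ((⁅P, A⁆ : Subgroup X) : Set X) :=
    (le_inf hAP Subgroup.le_normalizer).trans
      (Cfsg.Agent.Lib.Helper1.inf_normalizer_le_normalizer_commutator P A)
  have hBR : B ≤ Subgroup.normalizer ((⁅P, A⁆ : Subgroup X) : Set X) :=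
    (le_inf hBP (hBcA.trans (Subgroup.centralizer_le_normalizer _))).trans
      (Cfsg.Agent.Lib.Helper1.inf_normalizer_le_normalizer_commutator P A)
  have hRB : ⁅P, A⁆ ≤ Subgroup.centralizer (B : Set X) :=
    ih _ hRcard _ rfl (hP.to_le hRle) hAR hBR ((inf_le_inf_right _ hRle).trans hC)
  have h1 : ⁅⁅P, A⁆, B⁆ = ⊥ := Subgroup.commutator_eq_bot_iff_le_centralizer.mpr hRB
  have h2 : ⁅⁅A, B⁆, P⁆ = ⊥ := by rw [hABbot]; exact Subgroup.commutator_bot_left P
  have h3 : ⁅⁅B, P⁆, A⁆ = ⊥ := Subgroup.commutator_commutator_eq_bot_of_rotate h1 h2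
  have hQA : ⁅P, B⁆ ≤ Subgroup.centralizer (A : Set X) := by
    rw [Subgroup.commutator_comm P B]
    exact Subgroup.commutator_eq_bot_iff_le_centralizer.mp h3
  have hQP : ⁅P, B⁆ ≤ P := Cfsg.Agent.Lib.Helper1.commutator_le_of_le_normalizer hBP
  have hQB : ⁅P, B⁆ ≤ Subgroup.centralizer (B : Set X) := (le_inf hQP hQA).trans hC
  have h4 : ⁅⁅P, B⁆, B⁆ = ⊥ := Subgroup.commutator_eq_bot_iff_le_centralizer.mpr hQB
  rw [Cfsg.Agent.Lib.Helper1.MetaCoprime.commutator_commutator_eq P B hP hBP hcop] at h4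
  exact Subgroup.commutator_eq_bot_iff_le_centralizer.mp h4

/-- (AXB) Thompson's `A × B` lemma, ambient form. -/
theorem axb_lemma {X : Type u} [Group X] [Finite X] (A B P : Subgroup X) (hA : IsPGroup p A)
    (hB : ¬ p ∣ Nat.card B) (hP : IsPGroup p P)
    (hAB : ∀ a ∈ A, ∀ b ∈ B, a * b = b * a)
    (hAP : A ≤ Subgroup.normalizer (P : Set X)) (hBP : B ≤ Subgroup.normalizer (P : Set X))
    (hC : P ⊓ Subgroup.centralizer (A : Set X) ≤ Subgroup.centralizer (B : Set X)) :
    P ≤ Subgroup.centralizer (B : Set X) :=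
  axb_aux A B hA hB hAB _ P rfl hP hAP hBP hC

end Cfsg.Agent.Lib.Helper8.FPTAXB
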