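import Mathlib

/-! S4642 leaf LIFT (helper8): coprime lifting of centralizers, `C_{G/K}(RK/K) = C_G(R)K/K` for a `p`-subgroup
`R` and a normal `p'`-subgroup `K` (fixed point of `R` on the coset `gK`). -/

set_option autoImplicit false

namespace Cfsg.Agent.Lib.Helper8.FPTLIFT

universe u

variable {G : Type u} [Group G] [Fintype G] {p : ℕ} [hpp : Fact p.Prime]

/-- a `p`-subgroup `R` whose image centralizes `gK` fixes (by conjugation) an element of the coset `gK` -/
theorem exists_fixed_in_coset (K : Subgroup G) [hKn : K.Normal] (hKp : ¬ p ∣ Nat.card K)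
    (R : Subgroup G) (hR : IsPGroup p R) (g : G)
    (hg : QuotientGroup.mk' K g ∈
      Subgroup.centralizer ((R.map (QuotientGroup.mk' K) : Subgroup (G ⧸ K)) : Set (G ⧸ K))) :
    ∃ h : G, h ∈ Subgroup.centralizer (R : Set G) ∧ QuotientGroup.mk' K h = QuotientGroup.mk' K g := by
  classical
  have hcl : ∀ (r : R) (h : {h : G // QuotientGroup.mk' K h = QuotientGroup.mk' K g}),
      QuotientGroup.mk' K ((r : G) * h.1 * (r : G)⁻¹) = QuotientGroup.mk' K g := by
    intro r h
    rw [map_mul, map_mul, map_inv, h.2]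
    have h1 := Subgroup.mem_centralizer_iff.mp hg (QuotientGroup.mk' K (r : G)) ⟨(r : G), r.2, rfl⟩
    rw [h1]
    group
  letI : MulAction R {h : G // QuotientGroup.mk' K h = QuotientGroup.mk' K g} :=
    { smul := fun r h => ⟨(r : G) * h.1 * (r : G)⁻¹, hcl r h⟩
      one_smul := fun h => by
        apply Subtype.ext
        show ((1 : R) : G) * h.1 * ((1 : R) : G)⁻¹ = h.1
        simp
      mul_smul := fun r s h => by
        apply Subtype.ext
        show ((r * s : R) : G) * h.1 * ((r * s : R) : G)⁻¹ = (r : G) * ((s : G) * h.1 * (s : G)⁻¹) * (r : G)⁻¹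
        push_cast
        group }
  have hsmul : ∀ (r : R) (h : {h : G // QuotientGroup.mk' K h = QuotientGroup.mk' K g}),
      ((r • h : {h : G // QuotientGroup.mk' K h = QuotientGroup.mk' K g}) : G) =
        (r : G) * h.1 * (r : G)⁻¹ := fun _ _ => rfl
  have hcard : ¬ p ∣ Nat.card {h : G // QuotientGroup.mk' K h = QuotientGroup.mk' K g} := by
    have e : K ≃ {h : G // QuotientGroup.mk' K h = QuotientGroup.mk' K g} :=
      { toFun := fun k => ⟨g * (k : G), by
          rw [map_mul]
          have : QuotientGroup.mk' K (k : G) = 1 := (QuotientGroup.eq_one_iff (k : G)).mpr k.2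
          rw [this, mul_one]⟩
        invFun := fun h => ⟨g⁻¹ * h.1, by
          have h1 : QuotientGroup.mk' K (g⁻¹ * h.1) = 1 := by
            rw [map_mul, map_inv, h.2, inv_mul_cancel]
          exact (QuotientGroup.eq_one_iff _).mp h1⟩
        left_inv := fun k => by
          apply Subtype.ext
          show g⁻¹ * (g * (k : G)) = (k : G)
          group
        right_inv := fun h => by
          apply Subtype.ext
          show g * (g⁻¹ * h.1) = h.1
          group }
    rw [← Nat.card_congr e]
    exact hKp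
  obtain ⟨h, hh⟩ := hR.nonempty_fixed_point_of_prime_not_dvd_card
    {h : G // QuotientGroup.mk' K h = QuotientGroup.mk' K g} hcard
  refine ⟨h.1, ?_, h.2⟩
  rw [Subgroup.mem_centralizer_iff]
  intro r hr
  have h1 := hh ⟨r, hr⟩
  have h2 : r * h.1 * r⁻¹ = h.1 := by
    have := congrArg Subtype.val h1
    rwa [hsmul] at this
  calc r * h.1 = (r * h.1 * r⁻¹) * r := by group
    _ = h.1 * r := by rw [h2]

/-- (LIFT) Coprime lifting of centralizers: `C_{G/K}(RK/K) = C_G(R)K/K` for a `p`-subgroup `R` and
a normal `p'`-subgroup `K`. -/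
theorem centralizer_map_mk (K : Subgroup G) [hKn : K.Normal] (hKp : ¬ p ∣ Nat.card K)
    (R : Subgroup G) (hR : IsPGroup p R) :
    Subgroup.centralizer ((R.map (QuotientGroup.mk' K) : Subgroup (G ⧸ K)) : Set (G ⧸ K)) =
      (Subgroup.centralizer (R : Set G)).map (QuotientGroup.mk' K) := by
  apply le_antisymm
  · intro gbar hg
    obtain ⟨g, rfl⟩ := QuotientGroup.mk'_surjective K gbar
    obtain ⟨h, hh, hhg⟩ := exists_fixed_in_coset K hKp R hR g hg
    exact ⟨h, hh, hhg⟩
  · rintro _ ⟨g, hg, rfl⟩
    rw [Subgroup.mem_centralizer_iff]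
    rintro _ ⟨r, hr, rfl⟩
    rw [← map_mul, ← map_mul, Subgroup.mem_centralizer_iff.mp hg r hr]

end Cfsg.Agent.Lib.Helper8.FPTLIFT
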