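import Mathlib
import Cfsg.Agent.Lib.Helper8.FPTAXB
import Cfsg.Agent.Lib.Helper8.FPTLIFT

/-! S4642 leaf GT1 (helper8): in the `p`-constrained situation, a `p'`-element of `C_G(R)` centralizing a
`p`-subgroup `Q₀` with `C_L(R) ≤ K Q₀` lies in `K`. -/

set_option autoImplicit false

namespace Cfsg.Agent.Lib.Helper8.FPTGT1

open Cfsg.Agent.Lib.Helper8.FPTAXB Cfsg.Agent.Lib.Helper8.FPTLIFT
open scoped Pointwise

universe u

variable {G : Type u} [Group G] [Fintype G] {p : ℕ} [hpp : Fact p.Prime]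

/-- (GT1) In the `p`-constrained situation, a `p'`-element of `C_G(R)` centralizing a `p`-subgroup
`Q₀` with `C_L(R) ≤ K Q₀` lies in `K`. -/
theorem mem_of_pRegular_centralizes (K L Q : Subgroup G) [hKn : K.Normal] [hLn : L.Normal]
    (hKp : ¬ p ∣ Nat.card K) (hKL : K ≤ L) (hLK : ∃ a : ℕ, K.relIndex L = p ^ a)
    (hQL : Q ≤ L) (hQp : IsPGroup p Q) (hQS : ¬ p ∣ Q.relIndex L)
    (hCQ : Subgroup.centralizer (Q : Set G) ≤ L)
    (R : Subgroup G) (hR : IsPGroup p R) (Q₀ : Subgroup G) (hQ₀ : IsPGroup p Q₀)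
    (hLR : L ⊓ Subgroup.centralizer (R : Set G) ≤ K ⊔ Q₀)
    (x : G) (hxR : x ∈ Subgroup.centralizer (R : Set G))
    (hxQ : x ∈ Subgroup.centralizer (Q₀ : Set G)) (hx : ¬ p ∣ orderOf x) : x ∈ K := by
  classical
  obtain ⟨a, ha⟩ := hLK
  -- the image of `L` is a `p`-group
  have hLb : IsPGroup p (L.map (QuotientGroup.mk' K)) := by
    rintro ⟨_, y, hy, rfl⟩
    refine ⟨a, ?_⟩
    apply Subtype.ext
    have hn : (K.subgroupOf L).Normal := Subgroup.Normal.subgroupOf hKn L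
    have h1 : (⟨y, hy⟩ : L) ^ (K.subgroupOf L).index ∈ K.subgroupOf L :=
      Subgroup.pow_index_mem (K.subgroupOf L) ⟨y, hy⟩
    have h2 : (K.subgroupOf L).index = p ^ a := ha
    rw [h2, Subgroup.mem_subgroupOf] at h1
    have h3 : y ^ p ^ a ∈ K := by simpa using h1
    show (QuotientGroup.mk' K y) ^ p ^ a = 1
    rw [← map_pow]
    exact (QuotientGroup.eq_one_iff _).mpr h3
  have hLbn : (L.map (QuotientGroup.mk' K)).Normal :=
    Subgroup.Normal.map hLn _ (QuotientGroup.mk'_surjective K)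
  have hNtop : Subgroup.normalizer ((L.map (QuotientGroup.mk' K) : Subgroup (G ⧸ K)) : Set (G ⧸ K)) = ⊤ :=
    Subgroup.normalizer_eq_top _
  -- `B̄ = ⟨x̄⟩` is a `p'`-group
  have hBcard : ¬ p ∣ Nat.card (Subgroup.zpowers (QuotientGroup.mk' K x)) := by
    rw [Nat.card_zpowers]
    intro h
    exact hx (h.trans (orderOf_map_dvd _ x))
  have hcomm_pow : ∀ z : G ⧸ K, QuotientGroup.mk' K x * z = z * QuotientGroup.mk' K x →
      ∀ b ∈ Subgroup.zpowers (QuotientGroup.mk' K x), z * b = b * z := by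
    intro z hz b hb
    obtain ⟨k, rfl⟩ := Subgroup.mem_zpowers_iff.mp hb
    have hc : Commute (QuotientGroup.mk' K x) z := hz
    exact (hc.zpow_left k).eq.symm
  -- the hypothesis on fixed points
  have hC : L.map (QuotientGroup.mk' K) ⊓
      Subgroup.centralizer ((R.map (QuotientGroup.mk' K) : Subgroup (G ⧸ K)) : Set (G ⧸ K)) ≤
      Subgroup.centralizer ((Subgroup.zpowers (QuotientGroup.mk' K x) : Subgroup (G ⧸ K)) :
        Set (G ⧸ K)) := by
    rintro z ⟨hzL, hzC⟩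
    rw [SetLike.mem_coe, centralizer_map_mk K hKp R hR] at hzC
    obtain ⟨c, hc, rfl⟩ := hzC
    obtain ⟨l, hl, hlc⟩ := hzL
    have hcL : c ∈ L := by
      have h1 : QuotientGroup.mk' K (l⁻¹ * c) = 1 := by
        rw [map_mul, map_inv, hlc, inv_mul_cancel]
      have h2 : l⁻¹ * c ∈ K := (QuotientGroup.eq_one_iff _).mp h1
      have h3 : c = l * (l⁻¹ * c) := by group
      rw [h3]
      exact L.mul_mem hl (hKL h2)
    have hcKQ : c ∈ K ⊔ Q₀ := hLR ⟨hcL, hc⟩
    have hcKQ' : c ∈ ((K : Set G) * (Q₀ : Set G)) := by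
      rw [← Subgroup.normal_mul K Q₀]; exact hcKQ
    obtain ⟨k, hk, q, hq, rfl⟩ := Set.mem_mul.mp hcKQ'
    have hk1 : QuotientGroup.mk' K k = 1 := (QuotientGroup.eq_one_iff _).mpr hk
    rw [Subgroup.mem_centralizer_iff]
    intro b hb
    have hxq : QuotientGroup.mk' K x * QuotientGroup.mk' K (k * q) =
        QuotientGroup.mk' K (k * q) * QuotientGroup.mk' K x := by
      rw [map_mul, hk1, one_mul, ← map_mul, ← map_mul,
        (Subgroup.mem_centralizer_iff.mp hxQ q hq).symm]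
    exact (hcomm_pow _ hxq b hb).symm
  have hAB : ∀ a ∈ R.map (QuotientGroup.mk' K), ∀ b ∈ Subgroup.zpowers (QuotientGroup.mk' K x),
      a * b = b * a := by
    rintro _ ⟨r, hr, rfl⟩ b hb
    apply hcomm_pow _ _ b hb
    rw [← map_mul, ← map_mul, (Subgroup.mem_centralizer_iff.mp hxR r hr).symm]
  have hmain := axb_lemma (R.map (QuotientGroup.mk' K)) (Subgroup.zpowers (QuotientGroup.mk' K x))
    (L.map (QuotientGroup.mk' K)) (hR.map _) hBcard hLb hAB (by rw [hNtop]; exact le_top)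
    (by rw [hNtop]; exact le_top) hC
  -- `x̄` centralizes `Q̄`, hence lies in the image of `C_G(Q) ≤ L`
  have hxQb : QuotientGroup.mk' K x ∈
      Subgroup.centralizer ((Q.map (QuotientGroup.mk' K) : Subgroup (G ⧸ K)) : Set (G ⧸ K)) := by
    rw [Subgroup.mem_centralizer_iff]
    rintro _ ⟨q, hq, rfl⟩
    have h1 := Subgroup.mem_centralizer_iff.mp (hmain ⟨q, hQL hq, rfl⟩) (QuotientGroup.mk' K x)
      (Subgroup.mem_zpowers _)
    exact h1.symm
  rw [centralizer_map_mk K hKp Q hQp] at hxQb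
  obtain ⟨c, hc, hcx⟩ := hxQb
  have hxL : QuotientGroup.mk' K x ∈ L.map (QuotientGroup.mk' K) := ⟨c, hCQ hc, hcx⟩
  obtain ⟨k, hk⟩ := hLb ⟨_, hxL⟩
  have hk' : (QuotientGroup.mk' K x) ^ p ^ k = 1 := congrArg Subtype.val hk
  have h1 : orderOf (QuotientGroup.mk' K x) ∣ p ^ k := orderOf_dvd_of_pow_eq_one hk'
  have h2 : orderOf (QuotientGroup.mk' K x) ∣ orderOf x := orderOf_map_dvd _ x
  have h3 : orderOf (QuotientGroup.mk' K x) = 1 := by
    obtain ⟨j, -, hj⟩ := (Nat.dvd_prime_pow hpp.out).mp h1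
    rcases j with _ | j
    · simpa using hj
    · exfalso
      apply hx
      rw [hj] at h2
      exact (dvd_pow_self p (Nat.succ_ne_zero j)).trans h2
  exact (QuotientGroup.eq_one_iff _).mp (orderOf_eq_one_iff.mp h3)

end Cfsg.Agent.Lib.Helper8.FPTGT1
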