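import Mathlib
import Cfsg.Prelude.Def_CaseTheorems
import Cfsg.Prelude.Def_OddOrderLocal
import Cfsg.Agent.Lib.Helper1.MaxNormalAbelian

set_option autoImplicit false
open scoped commutatorElement

namespace Cfsg.Agent.Lib.Helper8.R5Leaf

open Subgroup

/-- existence of a maximal normal abelian subgroup in a finite group -/
theorem exists_max_normal_abelian_r5 (D : Type*) [Group D] [Finite D] :
    ∃ A : Subgroup D, A.Normal ∧ IsMulCommutative A ∧
      ∀ B : Subgroup D, B.Normal → IsMulCommutative B → A ≤ B → B = A := by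
  classical
  let P : Subgroup D → Prop := fun A => A.Normal ∧ IsMulCommutative A
  have hbot : P ⊥ := by
    refine ⟨inferInstance, ⟨⟨?_⟩⟩⟩
    intro a b
    have ha : a = 1 := Subsingleton.elim _ _
    have hb : b = 1 := Subsingleton.elim _ _
    rw [ha, hb]
  have hfin : (Set.univ : Set (Subgroup D)).Finite := Set.finite_univ
  obtain ⟨A, hA, hmax⟩ :=
    Set.Finite.exists_maximalFor (fun A : Subgroup D => Nat.card A) {A | P A}
      (Set.toFinite _) ⟨⊥, hbot⟩
  refine ⟨A, hA.1, hA.2, ?_⟩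
  intro B hBn hBc hAB
  have hle : Nat.card B ≤ Nat.card A := hmax ⟨hBn, hBc⟩ (Subgroup.card_le_of_le hAB)
  have hge : Nat.card A ≤ Nat.card B := Subgroup.card_le_of_le hAB
  have := Subgroup.eq_of_le_of_card_ge hAB hle
  exact this.symm

/-- (C) exponent p and rank ≤ 2 imply order ≤ p³ -/
theorem card_le_of_exp_rank_two {D : Type*} [Group D] [Finite D] {p : ℕ} [Fact p.Prime]
    (hexp : ∀ x : D, x ^ p = 1) (hrk : Cfsg.PRankLE p 2 D) : Nat.card D ≤ p ^ 3 := by
  have hp : p.Prime := Fact.out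
  have hD : IsPGroup p D := fun g => ⟨1, by rw [pow_one]; exact hexp g⟩
  obtain ⟨A, hAn, hAc, hmax⟩ := exists_max_normal_abelian_r5 D
  have hAle : Nat.card A ≤ p ^ 2 := hrk A hAc (fun a _ => hexp a)
  obtain ⟨a, ha⟩ := (hD.to_subgroup A).exists_card_eq
  have ha2 : a ≤ 2 := by
    rw [ha] at hAle
    exact (Nat.pow_le_pow_iff_right hp.one_lt).mp hAle
  have h := Cfsg.Agent.Lib.Helper1.card_le_of_max_normal_abelian hD A hAc hmax a ha
  have h3 : a * (a + 1) / 2 ≤ 3 := by
    interval_cases a <;> norm_num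
  exact h.trans (Nat.pow_le_pow_right hp.pos h3)

end Cfsg.Agent.Lib.Helper8.R5Leaf
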