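/-
S5813 (omega7 geometric, planner helper20), SUBFIELD block leaf K4 `k4_exc` (helper8).
Full name: `Cfsg.Agent.Lib.Helper20.Om7S.Cfsg.Agent.Lib.Helper8.Om7Leaf.k4_exc`.
-/
import Mathlib
import Cfsg.Prelude.Def_ClassicalGeometry
import Cfsg.Prelude.Def_GeometricClasses
import Cfsg.Agent.Lib.Helper13.DkGen
import Cfsg.Agent.Lib.Helper20.Om7S.Wrap
import Cfsg.Agent.Lib.Helper20.Om7S.KDefs
import Cfsg.Agent.Lib.Helper23.Om7SL0
import Cfsg.Agent.Lib.Helper22.Om7SL0cd

set_option linter.dupNamespace false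
set_option linter.ambiguousOpen false

namespace Cfsg.Agent.Lib.Helper20.Om7S

set_option autoImplicit false
set_option linter.unusedSectionVars false
set_option linter.unusedVariables false

open Cfsg Matrix QuadraticMap Module Cfsg.Agent.Lib.Helper25.Siegel Cfsg.Agent.Lib.Helper19.OSub
open _root_.Cfsg _root_.Cfsg.Agent.Lib.Helper25.Siegel
open Cfsg.Agent.Lib.Helper26.OSubLeaf
open S7

namespace Cfsg.Agent.Lib.Helper8.Om7Leaf

variable {ι : Type} [Fintype ι] [DecidableEq ι] {F : Type*} [Field F] [Fintype F]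
  {F₀ : Subfield F} {Q : QuadraticForm F (ι → F)} {M : Subgroup (GL ι F)}

/-- a conjugate `z (rt a w 1) z⁻¹` with `z a = -a` gives `rt a (z w) 1 ∈ M` -/
theorem rt_neg_conj_mem (h : Ctx F₀ Q M) {a w : ι → F} (hQa : Q a = 0) (hQw : Q w = 0)
    (haw : polar Q a w = 0) {z : GL ι F} (hzM : z ∈ M) (hza : mv z a = -a)
    (hM : rt Q a w 1 ∈ M) :
    Q (mv z w) = 0 ∧ polar Q a (mv z w) = 0 ∧ rt Q a (mv z w) 1 ∈ M := by
  have hzi : z ∈ Cfsg.isometryGroup F ⇑Q := omegaGL_le_iso (h.le_om hzM)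
  have hQw2 : Q (mv z w) = 0 := by rw [iso_Q hzi, hQw]
  have haw2 : polar Q a (mv z w) = 0 := by
    have e : a = mv z (-a) := by rw [mv_neg, hza, neg_neg]
    rw [e, iso_polar hzi, polar_neg_left, haw, neg_zero]
  refine ⟨hQw2, haw2, ?_⟩
  have h1 : z * rt Q a w 1 * z⁻¹ ∈ M := M.mul_mem (M.mul_mem hzM hM) (M.inv_mem hzM)
  rw [conj_rt hzi, hza] at h1
  have e2 : (-a : ι → F) = (-1 : F) • a := by rw [neg_smul, one_smul]
  rw [e2, rt_smul_left hQa hQw2 haw2, mul_one] at h1
  have h3 := M.inv_mem h1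
  rw [rt_inv, neg_neg] at h3
  exact h3

/-- K4 -/
theorem k4_exc (h : Ctx F₀ Q M) (h2 : (2 : F) ≠ 0) {u v u' v' : ι → F} (hu : RatV F₀ u)
    (hv : RatV F₀ v) (hq : Quad Q u v u' v') {δ : F} (hj : rt Q u' v' δ ∈ M) {z : GL ι F}
    (hzM : z ∈ M) (hzu : mv z u = -u) (hzv : mv z v = -v) (hzu' : mv z u' = -u')
    (hzv' : mv z v' = -v')
    (hzp : ∀ x, polar Q u x = 0 → polar Q v x = 0 → polar Q u' x = 0 → polar Q v' x = 0 →
      mv z x = x) : δ ∈ F₀ := by
  classical
  obtain ⟨hQu, hQv, hQu', hQv', huv, hu'v', huu', hvv', huv', hvu'⟩ := hq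
  have hvu : polar Q v u = 0 := by rw [polar_comm, huv]
  have hu'u : polar Q u' u = 1 := by rw [polar_comm, huu']
  have hv'v : polar Q v' v = 1 := by rw [polar_comm, hvv']
  have hv'u : polar Q v' u = 0 := by rw [polar_comm, huv']
  have hu'v : polar Q u' v = 0 := by rw [polar_comm, hvu']
  have huu : polar Q u u = 0 := polar_self_sing hQu
  have hvv : polar Q v v = 0 := polar_self_sing hQv
  have hu0 : u ≠ 0 := by
    intro h0
    rw [h0, polar_zero_left] at huu'
    exact zero_ne_one huu'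
  have hv0 : v ≠ 0 := by
    intro h0
    rw [h0, polar_zero_left] at hvv'
    exact zero_ne_one hvv'
  -- a rational hyperbolic pair orthogonal to `u, v`
  obtain ⟨w, w', ⟨hw, hw', hQw, hQw', hww'⟩, huw, huw', hvw, hvw'⟩ :=
    Cfsg.Agent.Lib.Helper22.Om7SLeaf.exists_perp_pair h.toQCtx hu hv
  have hwu : polar Q w u = 0 := by rw [polar_comm, huw]
  have hwv : polar Q w v = 0 := by rw [polar_comm, hvw]
  -- `z w` is rational
  obtain ⟨hQw2, huw2, hM1⟩ := rt_neg_conj_mem h hQu hQw huw hzM hzu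
    (h.le (rt_mem_H0 h.toQCtx hu hw F₀.one_mem))
  obtain ⟨-, hvw2, hM2⟩ := rt_neg_conj_mem h hQv hQw hvw hzM hzv
    (h.le (rt_mem_H0 h.toQCtx hv hw F₀.one_mem))
  obtain ⟨θ₁, hθ₁⟩ := S7.ratNS h hu hu0 hQu hQw2 huw2 hM1
  obtain ⟨θ₂, hθ₂⟩ := S7.ratNS h hv hv0 hQv hQw2 hvw2 hM2
  have hli : LinearIndependent F ![u, v] := by
    rw [LinearIndependent.pair_iff]
    intro s t hst
    have h1 : polar Q (s • u + t • v) u' = 0 := by rw [hst, polar_zero_left]
    have h2' : polar Q (s • u + t • v) v' = 0 := by rw [hst, polar_zero_left]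
    rw [polar_add_left, polar_smul_left, polar_smul_left, huu', hvu', smul_eq_mul, smul_eq_mul,
      mul_one, mul_zero, add_zero] at h1
    rw [polar_add_left, polar_smul_left, polar_smul_left, huv', hvv', smul_eq_mul, smul_eq_mul,
      mul_one, mul_zero, zero_add] at h2'
    exact ⟨h1, h2'⟩
  have hdiff : RatV F₀ (θ₁ • u + (-θ₂) • v) := by
    have := ratV_sub hθ₂ hθ₁
    have e : mv z w - θ₂ • v - (mv z w - θ₁ • u) = θ₁ • u + (-θ₂) • v := by module
    rw [e] at this
    exact this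
  obtain ⟨hθ₁F, -⟩ := Cfsg.Agent.Lib.Helper23.Om7SLeaf.coeff_rat hu hv hli hdiff
  have hzw : RatV F₀ (mv z w) := by
    have := ratV_add hθ₁ (ratV_smul hθ₁F hu)
    have e : mv z w - θ₁ • u + θ₁ • u = mv z w := by module
    rw [e] at this
    exact this
  -- the component `c` of `w` orthogonal to the 4-space
  obtain ⟨α, hα⟩ : ∃ α, α = polar Q u' w := ⟨_, rfl⟩
  obtain ⟨β, hβ⟩ : ∃ β, β = polar Q v' w := ⟨_, rfl⟩
  obtain ⟨c, hc⟩ : ∃ c, c = w - α • u - β • v := ⟨_, rfl⟩
  have hcu : polar Q u c = 0 := by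
    rw [hc, polar_sub_right, polar_sub_right, polar_smul_right, polar_smul_right, huw, huu, huv]
    simp
  have hcv : polar Q v c = 0 := by
    rw [hc, polar_sub_right, polar_sub_right, polar_smul_right, polar_smul_right, hvw, hvu, hvv]
    simp
  have hcu' : polar Q u' c = 0 := by
    rw [hc, polar_sub_right, polar_sub_right, polar_smul_right, polar_smul_right, hu'u, hu'v, ← hα]
    simp
  have hcv' : polar Q v' c = 0 := by
    rw [hc, polar_sub_right, polar_sub_right, polar_smul_right, polar_smul_right, hv'u, hv'v, ← hβ]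
    simp
  have hzc : mv z c = c := hzp c hcu hcv hcu' hcv'
  have hw_eq : w = c + α • u + β • v := by rw [hc]; module
  have hzw_eq : mv z w = c - α • u - β • v := by
    conv_lhs => rw [hw_eq]
    rw [mv_add, mv_add, mv_smul, mv_smul, hzc, hzu, hzv]
    module
  have h2F : (2 : F) ∈ F₀ := by
    have : (2 : F) = 1 + 1 := by norm_num
    rw [this]
    exact F₀.add_mem F₀.one_mem F₀.one_mem
  have hcrat : RatV F₀ c := by
    have := ratV_smul (F₀.inv_mem h2F) (ratV_add hw hzw)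
    have e : (2 : F)⁻¹ • (w + mv z w) = c := by
      rw [hzw_eq]
      conv_lhs => rw [hw_eq]
      have : c + α • u + β • v + (c - α • u - β • v) = (2 : F) • c := by module
      rw [this, smul_smul, inv_mul_cancel₀ h2, one_smul]
    rw [e] at this
    exact this
  have hQc : Q c = 0 := by
    have e : c = w + ((-α) • u + (-β) • v) := by rw [hc]; module
    rw [e, Cfsg.Agent.Lib.Helper25.MaxTS.Q_add, Cfsg.Agent.Lib.Helper25.MaxTS.Q_add,
      QuadraticMap.map_smul, QuadraticMap.map_smul, hQw, hQu, hQv, polar_add_right,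
      polar_smul_right, polar_smul_right, polar_smul_left, polar_smul_right, hwu, hwv, huv]
    simp
  have hc0 : c ≠ 0 := by
    intro h0
    have h1 : polar Q c w' = 1 := by
      rw [hc, polar_sub_left, polar_sub_left, polar_smul_left, polar_smul_left, hww', huw', hvw']
      simp
    rw [h0, polar_zero_left] at h1
    exact zero_ne_one h1
  -- conjugate `rt u c 1` by `j = rt u' v' δ`
  have hji : rt Q u' v' δ ∈ Cfsg.isometryGroup F ⇑Q := rt_mem_iso u' v' δ
  have hM3 : rt Q u' v' δ * rt Q u c 1 * (rt Q u' v' δ)⁻¹ ∈ M :=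
    M.mul_mem (M.mul_mem hj (h.le (rt_mem_H0 h.toQCtx hu hcrat F₀.one_mem))) (M.inv_mem hj)
  rw [conj_rt hji, mv_rt hQu' hQv' hu'v', mv_rt hQu' hQv' hu'v', hu'u, hv'u, hcu', hcv'] at hM3
  have ea : u + δ • ((1 : F) • v' - (0 : F) • u') = u + δ • v' := by module
  have ec : c + δ • ((0 : F) • v' - (0 : F) • u') = c := by module
  rw [ea, ec] at hM3
  obtain ⟨a, ha⟩ : ∃ a, a = u + δ • v' := ⟨_, rfl⟩
  rw [← ha] at hM3
  have hQa : Q a = 0 := by
    rw [ha, Cfsg.Agent.Lib.Helper25.MaxTS.Q_add_smul, hQu, hQv', huv']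
    ring
  have hca : polar Q c a = 0 := by
    rw [ha, polar_add_right, polar_smul_right, polar_comm Q c u, hcu, polar_comm Q c v', hcv']
    simp
  have hac : polar Q a c = 0 := by rw [polar_comm, hca]
  have hM4 : rt Q c a 1 ∈ M := by
    have h3 := M.inv_mem hM3
    rw [rt_swap hQa hQc hac, rt_inv, neg_neg] at h3
    exact h3
  obtain ⟨θ, hθ⟩ := S7.ratNS h hcrat hc0 hQc hQa hca hM4
  have hfin := ratV_polar h.toQCtx hv hθ
  have e : polar Q v (a - θ • c) = δ := by
    rw [ha, polar_sub_right, polar_add_right, polar_smul_right, polar_smul_right, hvu, hvv', hcv]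
    simp
  rw [e] at hfin
  exact hfin

end Cfsg.Agent.Lib.Helper8.Om7Leaf

end Cfsg.Agent.Lib.Helper20.Om7S
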