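/-
S5825 conjunct (8), characteristic 2 (planner helper20), leaf E5 `exists_comm_root` (helper8).
Full name: `Cfsg.Agent.Lib.Helper20.Om7S.Cfsg.Agent.Lib.Helper8.Om7ELeaf.exists_comm_root`.
-/
import Mathlib
import Cfsg.Prelude.Def_ClassicalGeometry
import Cfsg.Prelude.Def_GeometricClasses
import Cfsg.Agent.Lib.Helper20.Om7S.Wrap
import Cfsg.Agent.Lib.Helper20.Om7S.KDefs
import Cfsg.Agent.Lib.Helper20.Om7S.EDefs

set_option linter.dupNamespace false
set_option linter.ambiguousOpen false

namespace Cfsg.Agent.Lib.Helper20.Om7S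

set_option autoImplicit false
set_option linter.unusedSectionVars false
set_option linter.unusedVariables false

open Cfsg Matrix QuadraticMap Module Cfsg.Agent.Lib.Helper25.Siegel Cfsg.Agent.Lib.Helper19.OSub
open _root_.Cfsg _root_.Cfsg.Agent.Lib.Helper25.Siegel
open Cfsg.Agent.Lib.Helper26.OSubLeaf
open S7
open scoped commutatorElement

namespace Cfsg.Agent.Lib.Helper8.Om7ELeaf

variable {ι : Type} [Fintype ι] [DecidableEq ι] {F : Type*} [Field F] [Fintype F]
  {F₀ : Subfield F} {Q : QuadraticForm F (ι → F)} {M : Subgroup (GL ι F)}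

/-- change of basis of the line: `rt (a u + b v) (c u + d v) e = rt u v ((ad - bc) e)` -/
theorem rt_basis {u v : ι → F} (hu : Q u = 0) (hv : Q v = 0) (huv : polar Q u v = 0) (a b c d e : F) :
    rt Q (a • u + b • v) (c • u + d • v) e = rt Q u v ((a * d - b * c) * e) := by
  have hvu : polar Q v u = 0 := by rw [polar_comm, huv]
  have h1 : Q (a • u + b • v) = 0 := by
    rw [Cfsg.Agent.Lib.Helper25.MaxTS.Q_add, QuadraticMap.map_smul, QuadraticMap.map_smul, hu, hv,
      polar_smul_left, polar_smul_right, huv]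
    simp
  have h2 : Q (c • u + d • v) = 0 := by
    rw [Cfsg.Agent.Lib.Helper25.MaxTS.Q_add, QuadraticMap.map_smul, QuadraticMap.map_smul, hu, hv,
      polar_smul_left, polar_smul_right, huv]
    simp
  have h3 : polar Q (a • u + b • v) (c • u + d • v) = 0 := by
    simp only [polar_add_left, polar_add_right, polar_smul_left, polar_smul_right, polar_self_sing hu,
      polar_self_sing hv, huv, hvu, smul_eq_mul, mul_zero, add_zero]
  apply gl_ext
  intro x
  rw [mv_rt h1 h2 h3, mv_rt hu hv huv]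
  simp only [polar_add_left, polar_smul_left, smul_eq_mul]
  module

/-- root elements on two mutually orthogonal totally singular pairs commute -/
theorem rt_commute4 {a b x y : ι → F} (ha : Q a = 0) (hb : Q b = 0) (hab : polar Q a b = 0)
    (hx : Q x = 0) (hy : Q y = 0) (hxy : polar Q x y = 0) (hax : polar Q a x = 0) (hay : polar Q a y = 0)
    (hbx : polar Q b x = 0) (hby : polar Q b y = 0) (c d : F) :
    rt Q a b c * rt Q x y d = rt Q x y d * rt Q a b c := by
  apply gl_ext
  intro z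
  rw [mv_mul, mv_mul, mv_rt ha hb hab, mv_rt hx hy hxy, mv_rt ha hb hab, mv_rt hx hy hxy]
  simp only [polar_add_right, polar_smul_right, polar_sub_right,
    smul_eq_mul, hax, hay, hbx, hby, polar_comm Q x a, polar_comm Q y a, polar_comm Q x b,
    polar_comm Q y b]
  module

/-- E5 -/
theorem exists_comm_root {u v x y : ι → F} (huv : TS Q u v) (hxy : TS Q x y)
    (hδ : minor Q x y u v = 0) :
    ∃ p p' : ι → F, TS Q p p' ∧
      rt Q p p' 1 ∈ Subgroup.closure ({rt Q u v 1, rt Q x y 1} : Set (GL ι F)) ∧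
      rt Q p p' 1 * rt Q u v 1 = rt Q u v 1 * rt Q p p' 1 ∧
      rt Q p p' 1 * rt Q x y 1 = rt Q x y 1 * rt Q p p' 1 := by
  classical
  obtain ⟨hQu, hQv, huv0, hli⟩ := huv
  obtain ⟨hQx, hQy, hxy0, hli'⟩ := hxy
  unfold minor at hδ
  have hvu0 : polar Q v u = 0 := by rw [polar_comm, huv0]
  have hyx0 : polar Q y x = 0 := by rw [polar_comm, hxy0]
  -- a non-zero vector of the left kernel of the Gram matrix
  obtain ⟨α, β, hαβ, hk1, hk2⟩ : ∃ α β : F, ¬ (α = 0 ∧ β = 0) ∧ α * polar Q u x + β * polar Q v x = 0 ∧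
      α * polar Q u y + β * polar Q v y = 0 := by
    by_cases h1 : polar Q v x = 0 ∧ polar Q u x = 0
    · by_cases h2 : polar Q v y = 0 ∧ polar Q u y = 0
      · exact ⟨1, 0, by simp, by rw [h1.2]; ring, by rw [h2.2]; ring⟩
      · refine ⟨polar Q v y, -polar Q u y, ?_, ?_, ?_⟩
        · rintro ⟨e1, e2⟩
          exact h2 ⟨e1, neg_eq_zero.1 e2⟩
        · rw [h1.1, h1.2]; ring
        · ring
    · refine ⟨polar Q v x, -polar Q u x, ?_, by ring, ?_⟩
      · rintro ⟨e1, e2⟩
        exact h1 ⟨e1, neg_eq_zero.1 e2⟩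
      · linear_combination -hδ
  -- a complement
  obtain ⟨γ, ε, hdet⟩ : ∃ γ ε : F, α * ε - β * γ = 1 := by
    by_cases hα : α = 0
    · have hβ : β ≠ 0 := fun h => hαβ ⟨hα, h⟩
      refine ⟨-β⁻¹, 0, ?_⟩
      rw [hα]
      field_simp
      ring
    · refine ⟨0, α⁻¹, ?_⟩
      field_simp
      ring
  obtain ⟨p, hp⟩ : ∃ p, p = α • u + β • v := ⟨_, rfl⟩
  obtain ⟨w, hw⟩ : ∃ w, w = γ • u + ε • v := ⟨_, rfl⟩
  have hT : rt Q u v 1 = rt Q p w 1 := by
    rw [hp, hw, rt_basis hQu hQv huv0, hdet, one_mul]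
  have hQp : Q p = 0 := by
    rw [hp, Cfsg.Agent.Lib.Helper25.MaxTS.Q_add, QuadraticMap.map_smul, QuadraticMap.map_smul, hQu, hQv,
      polar_smul_left, polar_smul_right, huv0]
    simp
  have hQw : Q w = 0 := by
    rw [hw, Cfsg.Agent.Lib.Helper25.MaxTS.Q_add, QuadraticMap.map_smul, QuadraticMap.map_smul, hQu, hQv,
      polar_smul_left, polar_smul_right, huv0]
    simp
  have hpw : polar Q p w = 0 := by
    rw [hp, hw]
    simp only [polar_add_left, polar_add_right, polar_smul_left, polar_smul_right, polar_self_sing hQu,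
      polar_self_sing hQv, huv0, hvu0, smul_eq_mul, mul_zero, add_zero]
  have hpx : polar Q p x = 0 := by
    rw [hp, polar_add_left, polar_smul_left, polar_smul_left, smul_eq_mul, smul_eq_mul]
    exact hk1
  have hpy : polar Q p y = 0 := by
    rw [hp, polar_add_left, polar_smul_left, polar_smul_left, smul_eq_mul, smul_eq_mul]
    exact hk2
  have hpu : polar Q p u = 0 := by
    rw [hp, polar_add_left, polar_smul_left, polar_smul_left, polar_self_sing hQu, hvu0, smul_zero, smul_zero,
      add_zero]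
  have hpv : polar Q p v = 0 := by
    rw [hp, polar_add_left, polar_smul_left, polar_smul_left, polar_self_sing hQv, huv0, smul_zero, smul_zero,
      add_zero]
  obtain ⟨p', hp'⟩ : ∃ p', p' = polar Q y w • x - polar Q x w • y := ⟨_, rfl⟩
  have hcomm : ⁅rt Q p w 1, rt Q x y 1⁆ = rt Q p p' 1 := by
    rw [hp']
    exact rt_comm1 hQp hQw hQx hQy hpw hpx hpy hxy0
  have hueq : u = ε • p - β • w := by
    calc u = (α * ε - β * γ) • u := by rw [hdet, one_smul]
      _ = ε • p - β • w := by rw [hp, hw]; module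
  have hveq : v = -γ • p + α • w := by
    calc v = (α * ε - β * γ) • v := by rw [hdet, one_smul]
      _ = -γ • p + α • w := by rw [hp, hw]; module
  have hQp' : Q p' = 0 := by
    rw [hp', sub_eq_add_neg, ← neg_smul, Cfsg.Agent.Lib.Helper25.MaxTS.Q_add, QuadraticMap.map_smul,
      QuadraticMap.map_smul, hQx, hQy, polar_smul_left, polar_smul_right, hxy0]
    simp
  have hp'x : polar Q p' x = 0 := by
    rw [hp', polar_sub_left, polar_smul_left, polar_smul_left, polar_self_sing hQx, hyx0, smul_zero, smul_zero,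
      sub_zero]
  have hp'y : polar Q p' y = 0 := by
    rw [hp', polar_sub_left, polar_smul_left, polar_smul_left, polar_self_sing hQy, hxy0, smul_zero, smul_zero,
      sub_zero]
  have hp'p : polar Q p' p = 0 := by
    rw [hp', polar_sub_left, polar_smul_left, polar_smul_left, polar_comm Q x p, polar_comm Q y p, hpx, hpy,
      smul_zero, smul_zero, sub_zero]
  have hpp' : polar Q p p' = 0 := by rw [polar_comm, hp'p]
  have hp'w : polar Q p' w = 0 := by
    rw [hp', polar_sub_left, polar_smul_left, polar_smul_left, smul_eq_mul, smul_eq_mul]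
    ring
  have hp'u : polar Q p' u = 0 := by
    rw [hueq, polar_sub_right, polar_smul_right, polar_smul_right, hp'p, hp'w, smul_zero, smul_zero, sub_zero]
  have hp'v : polar Q p' v = 0 := by
    rw [hveq, polar_add_right, polar_smul_right, polar_smul_right, hp'p, hp'w, smul_zero, smul_zero, add_zero]
  have hmem : rt Q p p' 1 ∈ Subgroup.closure ({rt Q u v 1, rt Q x y 1} : Set (GL ι F)) := by
    rw [← hcomm, ← hT, commutatorElement_def]
    have h1 : rt Q u v 1 ∈ Subgroup.closure ({rt Q u v 1, rt Q x y 1} : Set (GL ι F)) :=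
      Subgroup.subset_closure (Set.mem_insert _ _)
    have h2 : rt Q x y 1 ∈ Subgroup.closure ({rt Q u v 1, rt Q x y 1} : Set (GL ι F)) :=
      Subgroup.subset_closure (Set.mem_insert_of_mem _ rfl)
    exact Subgroup.mul_mem _ (Subgroup.mul_mem _ (Subgroup.mul_mem _ h1 h2) (Subgroup.inv_mem _ h1))
      (Subgroup.inv_mem _ h2)
  by_cases hind : LinearIndependent F ![p, p']
  · exact ⟨p, p', ⟨hQp, hQp', hpp', hind⟩, hmem,
      rt_commute4 hQp hQp' hpp' hQu hQv huv0 hpu hpv hp'u hp'v 1 1,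
      rt_commute4 hQp hQp' hpp' hQx hQy hxy0 hpx hpy hp'x hp'y 1 1⟩
  · have h1 : ⁅rt Q u v 1, rt Q x y 1⁆ = 1 := by
      rw [hT, hcomm, Cfsg.Agent.Lib.Helper27.OSubCore.rt_eq_one_of_dep hind]
    rw [commutatorElement_eq_one_iff_mul_comm] at h1
    exact ⟨x, y, ⟨hQx, hQy, hxy0, hli'⟩, Subgroup.subset_closure (Set.mem_insert_of_mem _ rfl), h1.symm, rfl⟩

end Cfsg.Agent.Lib.Helper8.Om7ELeaf

end Cfsg.Agent.Lib.Helper20.Om7S
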