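/-
S5825 conjunct (8), characteristic 2 (planner helper20), leaf E6 `exists_conj_of_opp` (helper8).
Full name: `Cfsg.Agent.Lib.Helper20.Om7S.Cfsg.Agent.Lib.Helper8.Om7ELeaf.exists_conj_of_opp`.
-/
import Mathlib
import Cfsg.Prelude.Def_ClassicalGeometry
import Cfsg.Prelude.Def_GeometricClasses
import Cfsg.Agent.Lib.Helper5.LSubC
import Cfsg.Agent.Lib.Helper20.Om7S.Wrap
import Cfsg.Agent.Lib.Helper20.Om7S.KDefs
import Cfsg.Agent.Lib.Helper20.Om7S.EDefs
import Cfsg.Agent.Lib.Helper1.Om7K1a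
import Cfsg.Agent.Lib.Helper7.Om7SK2

set_option linter.dupNamespace false
set_option linter.ambiguousOpen false

namespace Cfsg.Agent.Lib.Helper20.Om7S

set_option autoImplicit false
set_option linter.unusedSectionVars false
set_option linter.unusedVariables false

open Cfsg Matrix QuadraticMap Module Cfsg.Agent.Lib.Helper25.Siegel Cfsg.Agent.Lib.Helper19.OSub
open _root_.Cfsg _root_.Cfsg.Agent.Lib.Helper25.Siegel
open Cfsg.Agent.Lib.Helper26.OSubLeaf
open S7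
open Cfsg.Agent.Lib.Helper1.Om7Leaf Cfsg.Agent.Lib.Helper7.Om7SLeaf

namespace Cfsg.Agent.Lib.Helper8.Om7ELeaf

variable {ι : Type} [Fintype ι] [DecidableEq ι] {F : Type*} [Field F] [Fintype F]
  {F₀ : Subfield F} {Q : QuadraticForm F (ι → F)} {M : Subgroup (GL ι F)}

/-- a matrix of `SL₂` commuting with `lSL (-1)` and `tSL δ` (`δ ≠ 0`) in characteristic 2 is `1` -/
theorem sl2_central_eq_one (hc2 : (2 : F) = 0) {δ : F} (hδ : δ ≠ 0) (S : Matrix.SpecialLinearGroup (Fin 2) F)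
    (h1 : S * Cfsg.Agent.Lib.Helper13.lSL (-1) = Cfsg.Agent.Lib.Helper13.lSL (-1) * S)
    (h2 : S * Cfsg.Agent.Lib.Helper13.tSL δ = Cfsg.Agent.Lib.Helper13.tSL δ * S) : S = 1 := by
  have e1 := congrArg (fun T : Matrix.SpecialLinearGroup (Fin 2) F => (T : Matrix (Fin 2) (Fin 2) F)) h1
  have e2 := congrArg (fun T : Matrix.SpecialLinearGroup (Fin 2) F => (T : Matrix (Fin 2) (Fin 2) F)) h2
  simp only [Matrix.SpecialLinearGroup.coe_mul, Cfsg.Agent.Lib.Helper13.lSL_coe, Cfsg.Agent.Lib.Helper13.tSL_coe] at e1 e2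
  have hdet := S.2
  rw [Matrix.det_fin_two] at hdet
  have a00 := congrFun (congrFun e2 0) 0
  have a01 := congrFun (congrFun e2 0) 1
  have b00 := congrFun (congrFun e1 0) 0
  simp [Matrix.mul_apply, Fin.sum_univ_two] at a00 a01 b00
  have hc : (S : Matrix (Fin 2) (Fin 2) F) 1 0 = 0 := by
    rcases a00 with h | h
    · exact absurd h hδ
    · exact h
  have had : (S : Matrix (Fin 2) (Fin 2) F) 0 0 = (S : Matrix (Fin 2) (Fin 2) F) 1 1 := by
    have : δ * ((S : Matrix (Fin 2) (Fin 2) F) 0 0 - (S : Matrix (Fin 2) (Fin 2) F) 1 1) = 0 := by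
      linear_combination a01
    rcases mul_eq_zero.1 this with h | h
    · exact absurd h hδ
    · exact sub_eq_zero.1 h
  rw [b00, hc, ← had, mul_zero, sub_zero] at hdet
  have ha1 : (S : Matrix (Fin 2) (Fin 2) F) 0 0 = 1 := by
    have : ((S : Matrix (Fin 2) (Fin 2) F) 0 0 - 1) * ((S : Matrix (Fin 2) (Fin 2) F) 0 0 - 1) = 0 := by
      linear_combination hdet - (S : Matrix (Fin 2) (Fin 2) F) 0 0 * hc2 + hc2
    rcases mul_eq_zero.1 this with h | h <;> exact sub_eq_zero.1 h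
  apply Subtype.ext
  ext i j
  fin_cases i <;> fin_cases j
  · simpa using ha1
  · simpa using b00
  · simpa using hc
  · simpa using (had ▸ ha1 : (S : Matrix (Fin 2) (Fin 2) F) 1 1 = 1)

/-- the embedding `SL₂ → GL(V)` of a `Quad` is injective (it is determined by its action on `u, v'`) -/
theorem k1a_injective {u v u' v' : ι → F} (hq : Quad Q u v u' v')
    (φ : Matrix.SpecialLinearGroup (Fin 2) F →* GL ι F)
    (hφ : ∀ S : Matrix.SpecialLinearGroup (Fin 2) F,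
        mv (φ S) u = (S : Matrix (Fin 2) (Fin 2) F) 1 1 • u + (S : Matrix (Fin 2) (Fin 2) F) 0 1 • v' ∧
        mv (φ S) v' = (S : Matrix (Fin 2) (Fin 2) F) 0 0 • v' + (S : Matrix (Fin 2) (Fin 2) F) 1 0 • u) :
    Function.Injective φ := by
  intro S S' hSS
  have e1 := (hφ S).1
  have e2 := (hφ S).2
  rw [hSS, (hφ S').1] at e1
  rw [hSS, (hφ S').2] at e2
  have hu'u : polar Q u' u = 1 := by rw [polar_comm, hq.uu']
  have hvu : polar Q v u = 0 := by rw [polar_comm, hq.uv]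
  have f11 := congrArg (polar Q u') e1
  have f01 := congrArg (polar Q v) e1
  have f00 := congrArg (polar Q v) e2
  have f10 := congrArg (polar Q u') e2
  simp only [polar_add_right, polar_smul_right, hu'u, hq.u'v', hvu, hq.vv', smul_eq_mul, mul_one, mul_zero,
    add_zero, zero_add] at f11 f01 f00 f10
  apply Subtype.ext
  ext i j
  fin_cases i <;> fin_cases j
  · exact f00.symm
  · exact f01.symm
  · exact f10.symm
  · exact f11.symm

/-- E6 -/
theorem exists_conj_of_opp (hc2 : (2 : F) = 0) {u v x y : ι → F} (huv : TS Q u v) (hxy : TS Q x y)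
    (hδ : minor Q x y u v ≠ 0) :
    ∃ w ∈ Subgroup.closure ({rt Q u v 1, rt Q x y 1} : Set (GL ι F)),
      w * rt Q u v 1 * w⁻¹ = rt Q x y 1 := by
  classical
  obtain ⟨hQu, hQv, huv0, hli⟩ := huv
  obtain ⟨hQx, hQy, hxy0, hli'⟩ := hxy
  obtain ⟨u', v', hq, hrt⟩ := k2_dual hQu hQv huv0 hQx hQy hxy0 hδ
  obtain ⟨φ, hφl, hφt, hφmv⟩ := k1a_hom hq
  obtain ⟨δ, hδdef⟩ : ∃ δ : F, δ = minor Q x y u v := ⟨_, rfl⟩
  rw [← hδdef] at hδ hrt
  have hT : rt Q u v 1 = φ (Cfsg.Agent.Lib.Helper13.lSL (-1)) := (hφl 1).symm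
  have hT' : rt Q x y 1 = φ (Cfsg.Agent.Lib.Helper13.tSL δ) := by rw [hrt 1, one_mul, hφt]
  have hinj : Function.Injective φ := k1a_injective hq φ (fun S => ⟨(hφmv S).1, (hφmv S).2.1⟩)
  have h11 : (1 : F) + 1 = 0 := by rw [one_add_one_eq_two]; exact hc2
  have hTT : rt Q u v 1 * rt Q u v 1 = 1 := by rw [rt_mul, h11, rt_zero]
  have hTT' : rt Q x y 1 * rt Q x y 1 = 1 := by rw [rt_mul, h11, rt_zero]
  have hmT : rt Q u v 1 ∈ Subgroup.closure ({rt Q u v 1, rt Q x y 1} : Set (GL ι F)) :=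
    Subgroup.subset_closure (Set.mem_insert _ _)
  have hmT' : rt Q x y 1 ∈ Subgroup.closure ({rt Q u v 1, rt Q x y 1} : Set (GL ι F)) :=
    Subgroup.subset_closure (Set.mem_insert_of_mem _ rfl)
  obtain ⟨i, hi⟩ : ∃ i : ↥(Subgroup.closure ({rt Q u v 1, rt Q x y 1} : Set (GL ι F))), i = ⟨_, hmT⟩ := ⟨_, rfl⟩
  obtain ⟨j, hj⟩ : ∃ j : ↥(Subgroup.closure ({rt Q u v 1, rt Q x y 1} : Set (GL ι F))), j = ⟨_, hmT'⟩ := ⟨_, rfl⟩
  have hii : i * i = 1 := by rw [hi]; exact Subtype.ext hTT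
  have hjj : j * j = 1 := by rw [hj]; exact Subtype.ext hTT'
  rcases Cfsg.Agent.Lib.Helper5.LSub.dihedral i j hii hjj with ⟨w, hw⟩ | ⟨m, hz1, -, hzi, hzj⟩
  · refine ⟨w.1, w.2, ?_⟩
    have := congrArg Subtype.val hw
    rw [hi, hj] at this
    exact this
  · exfalso
    apply hz1
    obtain ⟨S, hS⟩ : ∃ S : Matrix.SpecialLinearGroup (Fin 2) F,
        S = (Cfsg.Agent.Lib.Helper13.lSL (-1) * Cfsg.Agent.Lib.Helper13.tSL δ) ^ m := ⟨_, rfl⟩
    have hzφ : (((i * j) ^ m : ↥(Subgroup.closure ({rt Q u v 1, rt Q x y 1} : Set (GL ι F)))) : GL ι F) = φ S := by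
      rw [hS, map_pow, map_mul, ← hT, ← hT', hi, hj]
      rfl
    have hci := congrArg Subtype.val hzi
    have hcj := congrArg Subtype.val hzj
    rw [Subgroup.coe_mul, Subgroup.coe_mul, hzφ] at hci hcj
    have hiv : (i : GL ι F) = φ (Cfsg.Agent.Lib.Helper13.lSL (-1)) := by rw [hi, ← hT]
    have hjv : (j : GL ι F) = φ (Cfsg.Agent.Lib.Helper13.tSL δ) := by rw [hj, ← hT']
    rw [hiv, ← map_mul, ← map_mul] at hci
    rw [hjv, ← map_mul, ← map_mul] at hcj
    have hS1 : S = 1 := sl2_central_eq_one hc2 hδ S (hinj hci) (hinj hcj)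
    apply Subtype.ext
    rw [hzφ, hS1, map_one]
    rfl

end Cfsg.Agent.Lib.Helper8.Om7ELeaf

end Cfsg.Agent.Lib.Helper20.Om7S
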