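import Mathlib
import Cfsg.Agent.Lib.Helper21.ESMain
import Cfsg.Agent.Lib.Helper26.OrderPCubeA
import Cfsg.Agent.Lib.Helper10.FrobQuot
import Cfsg.Agent.Lib.Helper20.PGroupBasics
import Cfsg.Agent.Lib.Helper9.BGNonabA

/-!
A cyclic `p'`-group `K` acting on a nonabelian group `P` of order `p^3` such that every nonidentity element of `K`
has the same fixed-point subgroup `Z` of order dividing `p` has order dividing `p - 1` or `p + 1`.
-/

set_option autoImplicit false

namespace Cfsg.Agent.Lib.Helper8.ExtraCube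

variable {G : Type*} [Group G] [Finite G]

/-- The semiregular case: `K` normalizes `P`, and no nonidentity element of `K` centralizes a nonidentity
element of `Z(P)`; then `|K|` divides `|Z(P)| - 1`. -/
theorem card_dvd_card_center_sub_one {P K : Subgroup G}
    (hKP : K ≤ Subgroup.normalizer (P : Set G))
    (hfree : ∀ k ∈ K, k ≠ 1 → ∀ z ∈ P ⊓ Subgroup.centralizer (P : Set G), k * z * k⁻¹ = z → z = 1) :
    Nat.card K ∣ Nat.card ↥(P ⊓ Subgroup.centralizer (P : Set G)) - 1 := by
  classical
  have hconj : ∀ k ∈ K, ∀ z ∈ P ⊓ Subgroup.centralizer (P : Set G),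
      k * z * k⁻¹ ∈ P ⊓ Subgroup.centralizer (P : Set G) := by
    intro k hk z hz
    have hkN := hKP hk
    rw [Subgroup.mem_normalizer_iff] at hkN
    refine ⟨(hkN z).mp hz.1, ?_⟩
    show k * z * k⁻¹ ∈ Subgroup.centralizer (P : Set G)
    rw [Subgroup.mem_centralizer_iff]
    intro x hx
    have hx' : k⁻¹ * x * k ∈ P := by
      have := (hkN (k⁻¹ * x * k)).mpr
      apply this
      have : k * (k⁻¹ * x * k) * k⁻¹ = x := by group
      rw [this]
      exact hx
    have hc := (Subgroup.mem_centralizer_iff.mp hz.2) _ hx'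
    calc x * (k * z * k⁻¹) = k * ((k⁻¹ * x * k) * z) * k⁻¹ := by group
      _ = k * (z * (k⁻¹ * x * k)) * k⁻¹ := by rw [hc]
      _ = k * z * k⁻¹ * x := by group
  let act : MulAction ↥K ↥(P ⊓ Subgroup.centralizer (P : Set G)) :=
    { smul := fun k z => ⟨(k : G) * z * (k : G)⁻¹, hconj k k.2 z z.2⟩
      one_smul := by
        intro z
        apply Subtype.ext
        show ((1 : ↥K) : G) * z * ((1 : ↥K) : G)⁻¹ = z
        simp
      mul_smul := by
        intro a b z
        apply Subtype.ext
        show ((a * b : ↥K) : G) * z * ((a * b : ↥K) : G)⁻¹ = (a : G) * ((b : G) * z * (b : G)⁻¹) * (a : G)⁻¹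
        rw [Subgroup.coe_mul]
        group }
  have hsmul : ∀ (k : ↥K) (z : ↥(P ⊓ Subgroup.centralizer (P : Set G))),
      ((k • z : ↥(P ⊓ Subgroup.centralizer (P : Set G))) : G) = (k : G) * z * (k : G)⁻¹ := fun _ _ => rfl
  letI : Fintype ↥K := Fintype.ofFinite _
  letI : Fintype ↥(P ⊓ Subgroup.centralizer (P : Set G)) := Fintype.ofFinite _
  have h := Cfsg.Agent.Lib.Helper10.index_dvd_card_sub_one_of_free (L := ↥K)
    (X := ↥(P ⊓ Subgroup.centralizer (P : Set G))) (⊥ : Subgroup ↥K) 1
    (by
      intro k hk q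
      rw [Subgroup.mem_bot] at hk
      rw [hk, one_smul])
    (by
      intro x hx q hq
      apply Subtype.ext
      have hx1 : (x : G) ≠ 1 := by
        intro h1
        apply hx
        rw [Subgroup.mem_bot]
        exact Subtype.ext h1
      have := congrArg Subtype.val hq
      rw [hsmul] at this
      exact hfree x x.2 hx1 q q.2 this)
    (by
      intro x
      apply Subtype.ext
      rw [hsmul]
      simp)
  rw [Subgroup.index_bot, ← Nat.card_eq_fintype_card] at h
  exact h

theorem card_dvd_pm_one_of_card_cube {p : ℕ} [Fact p.Prime] (hp2 : p ≠ 2) {P K Z : Subgroup G}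
  (hPcard : Nat.card P = p ^ 3) (hPna : ¬ IsMulCommutative P)
  (hKP : K ≤ Subgroup.normalizer (P : Set G)) (hKc : IsCyclic K) (hKodd : Odd (Nat.card K))
  (hKp : (Nat.card K).Coprime p) (hZ : Nat.card Z ∣ p)
  (hfix : ∀ k ∈ K, k ≠ 1 → P ⊓ Subgroup.centralizer ({k} : Set G) = Z) :
  Nat.card K ∣ p - 1 ∨ Nat.card K ∣ p + 1 := by
  classical
  have hpp : p.Prime := Fact.out
  have hZ0card : Nat.card ↥(P ⊓ Subgroup.centralizer (P : Set G)) = p :=
    Cfsg.Agent.Lib.Helper9.BGNonab.card_inf_centralizer_of_card_cube hPcard hPna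
  by_cases hZeq : Z = P ⊓ Subgroup.centralizer (P : Set G)
  · -- the extraspecial case: every nonidentity element of `K` has fixed points exactly `Z(P)`
    have hna' : ¬ ∀ a b : ↥P, a * b = b * a := fun h => hPna ⟨⟨h⟩⟩
    have hES : Cfsg.IsExtraspecial p ↥P :=
      (Cfsg.Agent.Lib.Helper26.cube_structure hPcard hna').2.2
    have h := Cfsg.Agent.Lib.Helper21.ES.es_cyclic_dvd P K hES 1 (by rw [hPcard]) hKc hKp hKP
      (by
        intro x hx hx1
        rw [hfix x hx hx1, hZeq, Cfsg.Agent.Lib.Helper20.center_map_subtype_eq])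
    rw [pow_one] at h
    rcases h with h | h
    · exact Or.inr h
    · exact Or.inl h
  · left
    have hinf : Z ⊓ (P ⊓ Subgroup.centralizer (P : Set G)) = ⊥ := by
      have hdvd : Nat.card ↥(Z ⊓ (P ⊓ Subgroup.centralizer (P : Set G))) ∣ p := by
        rw [← hZ0card]
        exact Subgroup.card_dvd_of_le inf_le_right
      rcases (Nat.dvd_prime hpp).mp hdvd with h1 | h1
      · exact Subgroup.card_eq_one.mp h1
      · exfalso
        have h2 : Z ⊓ (P ⊓ Subgroup.centralizer (P : Set G)) = P ⊓ Subgroup.centralizer (P : Set G) :=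
          Subgroup.eq_of_le_of_card_ge inf_le_right (by rw [h1, hZ0card])
        have h3 : P ⊓ Subgroup.centralizer (P : Set G) ≤ Z := by
          rw [← h2]
          exact inf_le_left
        apply hZeq
        symm
        apply Subgroup.eq_of_le_of_card_ge h3
        rw [hZ0card]
        exact Nat.le_of_dvd hpp.pos hZ
    have h := card_dvd_card_center_sub_one hKP (by
      intro k hk hk1 z hz hkz
      have hzZ : z ∈ Z := by
        rw [← hfix k hk hk1]
        refine ⟨hz.1, ?_⟩
        have hcomm : k * z = z * k := by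
          calc k * z = (k * z * k⁻¹) * k := by group
            _ = z * k := by rw [hkz]
        show z ∈ Subgroup.centralizer ({k} : Set G)
        rw [Subgroup.mem_centralizer_singleton_iff]
        first
          | exact hcomm
          | exact hcomm.symm
      have : z ∈ Z ⊓ (P ⊓ Subgroup.centralizer (P : Set G)) := ⟨hzZ, hz⟩
      rw [hinf, Subgroup.mem_bot] at this
      exact this)
    rw [hZ0card] at h
    exact h

end Cfsg.Agent.Lib.Helper8.ExtraCube
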