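import Mathlib
import Cfsg.Agent.Lib.Helper24.KRDefs
import Cfsg.Agent.Lib.Helper24.BlockClimb
import Cfsg.Agent.Lib.Helper24.InducedTrans
import Cfsg.Agent.Lib.Helper6.DeficiencyClass
import Cfsg.Agent.Lib.Helper6.SylowBlockCount
import Cfsg.Agent.Lib.Helper16.KleinSCA

/-! S4651 leaf B1 (`finsum_Lam_nested`), helper8: nested transport of the rank sums `Lam`. -/

set_option autoImplicit false

namespace Cfsg.Agent.Lib.Helper8.KRB1

open Cfsg Cfsg.Agent.CharLib Cfsg.Agent.Lib.Helper24 Cfsg.Agent.Lib.Helper6 Cfsg.Agent.Lib.Helper24.KR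

universe u

variable {G : Type u} [Group G] [Finite G] {p : ℕ} [hpp : Fact p.Prime] {M : Ideal AlgInt}

theorem mem_Cz_nested_iff (H : Subgroup G) (u x : H) :
    x ∈ Cz u ↔ (x : G) ∈ Cz (u : G) ⊓ H := by
  rw [Subgroup.mem_inf, Subgroup.mem_centralizer_iff, Subgroup.mem_centralizer_iff]
  constructor
  · intro h
    refine ⟨?_, x.2⟩
    intro y hy
    rw [Set.mem_singleton_iff] at hy
    subst hy
    exact congrArg Subtype.val (h u rfl)
  · rintro ⟨h, -⟩ y hy
    rw [Set.mem_singleton_iff] at hy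
    subst hy
    apply Subtype.ext
    exact h (y : G) rfl

/-- the identification `C_H(u) ≃* C_G(u) ⊓ H` -/
def czEquiv (H : Subgroup G) (u : H) : ↥(Cz u) ≃* ↥(Cz (u : G) ⊓ H) :=
  nestedEquiv H (Cz u) (Cz (u : G) ⊓ H) (mem_Cz_nested_iff H u) inf_le_right

theorem czEquiv_coe (H : Subgroup G) (u : H) (k' : ↥(Cz u)) :
    ((czEquiv H u k' : ↥(Cz (u : G) ⊓ H)) : G) = ((k' : H) : G) := rfl

theorem pullBlock_pullBlock_symm {A A' : Type u} [Group A] [Group A'] (ψ : A ≃* A')
    (b : Set (IrrCharacter A)) : BlockIso.pullBlock ψ (BlockIso.pullBlock ψ.symm b) = b :=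
  BlockIso.pullBlock_symm_pullBlock ψ.symm b

/-- (B1) nested transport. -/
theorem finsum_Lam_nested (hM : IsPModular p M) (b : Set (IrrCharacter G)) (H : Subgroup G)
    (u : H) (hu : ∃ k : ℕ, orderOf u = p ^ k) :
    ∑ᶠ β ∈ {β : Set (IrrCharacter H) | IsInducedBlock M H β b}, Lam p M β (Cz u) =
      Lam p M b (Cz (u : G) ⊓ H) := by
  classical
  have hprime : M.IsPrime := isPrime_of_isPModular hM
  unfold Lam
  -- step 1: the double sum is a sum over a disjoint union
  have hdisj : ({β : Set (IrrCharacter H) | IsInducedBlock M H β b}).PairwiseDisjoint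
      (fun β => {β' : Set (IrrCharacter (Cz u)) | IsInducedBlock M (Cz u) β' β}) := by
    intro β₁ _ β₂ _ hne
    rw [Function.onFun, Set.disjoint_left]
    intro β' h1 h2
    exact hne (Cfsg.Agent.Lib.Helper6.isInducedBlock_unique h1 h2)
  rw [← finsum_mem_biUnion hdisj (Set.toFinite _) (fun β _ => Set.toFinite _)]
  -- step 2: reindex
  symm
  apply finsum_mem_eq_of_bijOn (fun β'' => BlockIso.pullBlock (czEquiv H u) β'')
  · refine ⟨?_, ?_, ?_⟩
    · intro β'' hβ''
      have hβ''b : IsInducedBlock M (Cz (u : G) ⊓ H) β'' b := hβ''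
      obtain ⟨β, hβ⟩ := DeficiencyClass.inducedBlockDefined_centralizer hM u hu
        (BlockIso.pullBlock (czEquiv H u) β'') (BlockIso.isPBlock_pullBlock _ hβ''b.1)
      have hβb : IsInducedBlock M H β b :=
        isInducedBlock_cancel H (Cz (u : G) ⊓ H) (Cz u) (czEquiv H u) (czEquiv_coe H u) β'' β b
          hβ hβ''b
      exact Set.mem_biUnion hβb hβ
    · intro β₁ _ β₂ _ h12
      have := congrArg (BlockIso.pullBlock (czEquiv H u).symm) h12
      rwa [BlockIso.pullBlock_symm_pullBlock, BlockIso.pullBlock_symm_pullBlock] at this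
    · intro β' hβ'
      obtain ⟨β, hβb, hβ'β⟩ := Set.mem_iUnion₂.mp hβ'
      have hβb' : IsInducedBlock M H β b := hβb
      have hβ'β' : IsInducedBlock M (Cz u) β' β := hβ'β
      refine ⟨BlockIso.pullBlock (czEquiv H u).symm β', ?_, pullBlock_pullBlock_symm _ β'⟩
      show IsInducedBlock M (Cz (u : G) ⊓ H) (BlockIso.pullBlock (czEquiv H u).symm β') b
      apply isInducedBlock_trans H (Cz (u : G) ⊓ H) (Cz u) (czEquiv H u) (czEquiv_coe H u) _ β b
        _ hβb'
      rw [pullBlock_pullBlock_symm]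
      exact hβ'β'
  · intro β'' _
    exact (Cfsg.Agent.Lib.Helper16.KleinSCA.blockRank_pullBlock p (czEquiv H u) β'').symm

end Cfsg.Agent.Lib.Helper8.KRB1
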