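import Mathlib
import Cfsg.Agent.Lib.Helper24.KRDefs

/-! S4651 leaf B2 (`card_indChars`, `blockRank_indChars`), helper8: `k` and `l` of a union of blocks. -/

set_option autoImplicit false

namespace Cfsg.Agent.Lib.Helper8.KRB2

open Cfsg Cfsg.Agent.CharLib Cfsg.Agent.Lib.Helper6 Cfsg.Agent.Lib.Helper24 Cfsg.Agent.Lib.Helper24.KR

universe u

variable {G : Type u} [Group G] [Finite G] {p : ℕ} [hpp : Fact p.Prime] {M : Ideal AlgInt}

theorem indChars_eq_biUnion (b : Set (IrrCharacter G)) (H : Subgroup G) :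
    indChars M b H = ⋃ β ∈ {β : Set (IrrCharacter H) | IsInducedBlock M H β b}, β := by
  ext ψ
  simp only [indChars, Set.mem_setOf_eq, Set.mem_iUnion, exists_prop]
  constructor
  · rintro ⟨β, h1, h2⟩; exact ⟨β, h2, h1⟩
  · rintro ⟨β, h2, h1⟩; exact ⟨β, h1, h2⟩

theorem indChars_eq_sUnion (b : Set (IrrCharacter G)) (H : Subgroup G) :
    indChars M b H = ⋃₀ {β : Set (IrrCharacter H) | IsInducedBlock M H β b} := by
  rw [indChars_eq_biUnion, Set.sUnion_eq_biUnion]

theorem natCard_eq_finsum_one {α : Type*} [Finite α] (s : Set α) :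
    Nat.card s = ∑ᶠ a ∈ s, 1 := by
  classical
  rw [finsum_mem_eq_finite_toFinset_sum _ (Set.toFinite s), Nat.card_coe_set_eq,
    Set.ncard_eq_toFinset_card s (Set.toFinite s)]
  simp

/-- (B2a) the number of characters in a union of blocks. -/
theorem card_indChars (hM : IsPModular p M) (b : Set (IrrCharacter G)) (H : Subgroup G) :
    Nat.card (indChars M b H) =
      ∑ᶠ β ∈ {β : Set (IrrCharacter H) | IsInducedBlock M H β b}, Nat.card β := by
  classical
  have hprime : M.IsPrime := isPrime_of_isPModular hM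
  have hdisj : ({β : Set (IrrCharacter H) | IsInducedBlock M H β b}).PairwiseDisjoint
      (fun β => β) := by
    intro β₁ h1 β₂ h2 hne
    rw [Function.onFun, Set.disjoint_left]
    intro ψ hψ1 hψ2
    have h1' : IsInducedBlock M H β₁ b := h1
    have h2' : IsInducedBlock M H β₂ b := h2
    exact hne (isPBlock_eq_of_mem h1'.1 h2'.1 hψ1 hψ2)
  rw [natCard_eq_finsum_one, indChars_eq_biUnion,
    finsum_mem_biUnion hdisj (Set.toFinite _) (fun β _ => Set.toFinite _)]
  apply finsum_mem_congr rfl
  intro β _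
  exact (natCard_eq_finsum_one β).symm

/-- (B2b) the rank of a union of blocks. -/
theorem blockRank_indChars (hM : IsPModular p M) (b : Set (IrrCharacter G)) (H : Subgroup G) :
    blockRank p (indChars M b H) = Lam p M b H := by
  classical
  letI : Fintype H := Fintype.ofFinite H
  have h := finrank_regSpan_sUnion (p := p) hM {β : Set (IrrCharacter H) | IsInducedBlock M H β b}
    (fun β hβ => (hβ : IsInducedBlock M H β b).1)
  rw [indChars_eq_sUnion, blockRank_eq_finrank_regSpan]
  exact h

end Cfsg.Agent.Lib.Helper8.KRB2
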