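/-
helper8: package ORD of S4257 (element orders), exact statements of notes/S4257_leaves.lean.
-/
import Mathlib
import Cfsg.Agent.Lib.Helper26.CSDDefs

set_option autoImplicit false

namespace Cfsg.Agent.Lib.Helper8.CSD

open Cfsg.Agent.Lib.Helper17.ClassGraph
open scoped commutatorElement

variable {G : Type*} [Group G]

/-- Bezout in a cyclic group: `x = (x^c)^s * (x^d)^t` for coprime `c`, `d`. -/
theorem eq_zpow_mul_zpow_of_coprime (x : G) {c d : ℕ} (hcd : c.Coprime d) :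
    x = (x ^ c) ^ (Nat.gcdA c d) * (x ^ d) ^ (Nat.gcdB c d) := by
  rw [← zpow_natCast x c, ← zpow_natCast x d, ← zpow_mul, ← zpow_mul, ← zpow_add]
  have := Nat.gcd_eq_gcd_ab c d
  rw [hcd] at this
  have e : (c : ℤ) * Nat.gcdA c d + d * Nat.gcdB c d = 1 := by
    exact_mod_cast this.symm
  rw [e, zpow_one]

/-- (PD) strong induction on `orderOf x`. -/
theorem exists_ppo_pow_not_commute [Finite G] (x g : G) (h : ¬ Commute g x) :
    ∃ (k u j : ℕ), u.Prime ∧ orderOf (x ^ k) = u ^ j ∧ ¬ Commute g (x ^ k) := by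
  induction' hn : orderOf x using Nat.strong_induction_on with n ih generalizing x
  have hn0 : 0 < n := hn ▸ orderOf_pos x
  by_cases hn1 : n = 1
  · exfalso
    apply h
    rw [hn1, orderOf_eq_one_iff] at hn
    rw [hn]
    exact Commute.one_right g
  obtain ⟨u, hu, hun⟩ : ∃ u : ℕ, u.Prime ∧ u ∣ n := ⟨n.minFac, Nat.minFac_prime hn1, Nat.minFac_dvd n⟩
  obtain ⟨a, m, hm, hnm⟩ := Nat.exists_eq_pow_mul_and_not_dvd hn0.ne' u hu.ne_one
  by_cases hm1 : m = 1
  · exact ⟨1, u, a, hu, by rw [pow_one, hn, hnm, hm1, mul_one], by rwa [pow_one]⟩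
  have ha : 0 < a := by
    rcases Nat.eq_zero_or_pos a with h0 | h0
    · exfalso
      apply hm
      rw [h0, pow_zero, one_mul] at hnm
      rw [← hnm]
      exact hun
    · exact h0
  have hcop : Nat.Coprime (u ^ a) m :=
    Nat.Coprime.pow_left a ((Nat.Prime.coprime_iff_not_dvd hu).mpr hm)
  have hm0 : 0 < m := by
    rcases Nat.eq_zero_or_pos m with h0 | h0
    · exfalso; rw [h0, mul_zero] at hnm; omega
    · exact h0
  have hua : 1 < u ^ a := Nat.one_lt_pow ha.ne' hu.one_lt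
  have ho1 : orderOf (x ^ (u ^ a)) = m := by
    rw [orderOf_pow_of_dvd (pow_pos hu.pos a).ne' (by rw [hn, hnm]; exact dvd_mul_right _ _), hn,
      hnm, Nat.mul_div_cancel_left _ (pow_pos hu.pos a)]
  have ho2 : orderOf (x ^ m) = u ^ a := by
    rw [orderOf_pow_of_dvd hm0.ne' (by rw [hn, hnm]; exact dvd_mul_left _ _), hn,
      hnm, Nat.mul_div_cancel _ hm0]
  have hlt1 : m < n := by
    rw [hnm]; nlinarith
  have hlt2 : u ^ a < n := by
    rw [hnm]
    have : 1 < m := by omega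
    nlinarith
  by_cases hc1 : Commute g (x ^ (u ^ a))
  · by_cases hc2 : Commute g (x ^ m)
    · exfalso
      apply h
      rw [eq_zpow_mul_zpow_of_coprime x hcop]
      exact (hc1.zpow_right _).mul_right (hc2.zpow_right _)
    · exact ⟨m, u, a, hu, ho2, hc2⟩
  · obtain ⟨k, u', j, hup, ho, hc⟩ := ih m hlt1 (x ^ (u ^ a)) hc1 ho1
    refine ⟨u ^ a * k, u', j, hup, ?_, ?_⟩
    · rw [pow_mul]; exact ho
    · rw [pow_mul]; exact hc

/-- (DEC) `u`-part and `u'`-part of an element. -/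
theorem exists_pi_decomp [Finite G] (g : G) (u : ℕ) (hu : u.Prime) :
    ∃ a b : G, a ∈ Subgroup.zpowers g ∧ b ∈ Subgroup.zpowers g ∧ g = a * b ∧
      (∃ j : ℕ, orderOf a = u ^ j) ∧ (orderOf b).Coprime u := by
  have hn0 : 0 < orderOf g := orderOf_pos g
  obtain ⟨j, m, hm, hnm⟩ := Nat.exists_eq_pow_mul_and_not_dvd hn0.ne' u hu.ne_one
  have hcop : Nat.Coprime m (u ^ j) :=
    (Nat.Coprime.pow_left j ((Nat.Prime.coprime_iff_not_dvd hu).mpr hm)).symm
  refine ⟨(g ^ m) ^ (Nat.gcdA m (u ^ j)), (g ^ (u ^ j)) ^ (Nat.gcdB m (u ^ j)), ?_, ?_,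
    eq_zpow_mul_zpow_of_coprime g hcop, ?_, ?_⟩
  · exact Subgroup.zpow_mem _ (Subgroup.pow_mem _ (Subgroup.mem_zpowers g) _) _
  · exact Subgroup.zpow_mem _ (Subgroup.pow_mem _ (Subgroup.mem_zpowers g) _) _
  · have h1 : ((g ^ m) ^ (Nat.gcdA m (u ^ j))) ^ (u ^ j) = 1 := by
      rw [← zpow_natCast, ← zpow_mul, mul_comm, zpow_mul, zpow_natCast, ← pow_mul, mul_comm,
        ← hnm, pow_orderOf_eq_one, one_zpow]
    have h2 : orderOf ((g ^ m) ^ (Nat.gcdA m (u ^ j))) ∣ u ^ j := orderOf_dvd_of_pow_eq_one h1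
    obtain ⟨i, -, hi⟩ := (Nat.dvd_prime_pow hu).mp h2
    exact ⟨i, hi⟩
  · have h1 : ((g ^ (u ^ j)) ^ (Nat.gcdB m (u ^ j))) ^ m = 1 := by
      rw [← zpow_natCast, ← zpow_mul, mul_comm, zpow_mul, zpow_natCast, ← pow_mul,
        ← hnm, pow_orderOf_eq_one, one_zpow]
    have h2 : orderOf ((g ^ (u ^ j)) ^ (Nat.gcdB m (u ^ j))) ∣ m := orderOf_dvd_of_pow_eq_one h1
    exact Nat.Coprime.coprime_dvd_left h2 ((Nat.Prime.coprime_iff_not_dvd hu).mpr hm).symm

theorem ind_pow_dvd (x : G) (k : ℕ) : ind (x ^ k) ∣ ind x := by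
  apply ind_dvd_of_le
  intro c hc
  rw [mem_centralizer_singleton] at hc ⊢
  have hc' : Commute c x := hc
  exact hc'.pow_right k

/-- use helper17 `centralizer_mul_le` with `n = orderOf x`, `m = orderOf b`. -/
theorem ind_dvd_ind_mul_of_coprime {x b : G} (hxb : Commute x b)
    (hnm : (orderOf x).Coprime (orderOf b)) (hx0 : 0 < orderOf x) (hb0 : 0 < orderOf b) :
    ind x ∣ ind (x * b) ∧ ind b ∣ ind (x * b) := by
  have hx1 : x ^ orderOf x ∈ Subgroup.center G := by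
    rw [pow_orderOf_eq_one]; exact Subgroup.one_mem _
  have hb1 : b ^ orderOf b ∈ Subgroup.center G := by
    rw [pow_orderOf_eq_one]; exact Subgroup.one_mem _
  refine ⟨ind_dvd_of_le (centralizer_mul_le hxb hx1 hb1 hnm), ?_⟩
  have := ind_dvd_of_le (centralizer_mul_le hxb.symm hb1 hx1 hnm.symm)
  rwa [← hxb.eq] at this

end Cfsg.Agent.Lib.Helper8.CSD
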