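import Mathlib
import Cfsg.Prelude.Def_Local
import Cfsg.Agent.Lib.Helper26.MixDefs
import Cfsg.Agent.Lib.Helper8.AbInvA

/-!
# S4017 market, leaf MIX-ABHYP in `_of` form (helper8)

`Comm` ⇒ all involution centralizers are abelian, given the structure of `C_G(t)` (leaf STRUCT) as a hypothesis.
-/

set_option autoImplicit false

namespace Cfsg.Agent.Lib.Helper8.MIXABHYPOf

open Cfsg Cfsg.Agent.Lib.Helper26.Mix

universe u

variable {G : Type u} [Group G] [Finite G] {p a : ℕ} {Q : Subgroup G} {g : G}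

/-- ABHYP (`_of` form) -/
theorem abHyp_of_comm_of (c : Ctx G p a Q g) (hcomm : Comm G Q)
    (hstruct : ∀ t ∈ Q, t ≠ 1 → IsPGroup p ↥(centralizerPPrimeCore 2 t) ∧
      (∀ x ∈ Subgroup.centralizer ({t} : Set G),
        ∃ w ∈ centralizerPPrimeCore 2 t, ∃ u ∈ Q, x = w * u) ∧
      (∀ x ∈ Subgroup.centralizer ({t} : Set G), Odd (orderOf x) → x ∈ centralizerPPrimeCore 2 t)) :
    Cfsg.Agent.Lib.Helper8.AbInv.AbHyp G := by
  classical
  have : Fact (Nat.Prime 2) := ⟨Nat.prime_two⟩
  have hQsyl : Nat.card Q = 2 ^ (Nat.card G).factorization 2 := by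
    rw [c.hQcard, c.hQsyl]
  let QS : Sylow 2 G := Sylow.ofCard Q hQsyl
  have hQS : (QS : Subgroup G) = Q := rfl
  -- the case `t ∈ Q`
  have key : ∀ t ∈ Q, t ≠ 1 → ∀ x y : G, x * t = t * x → y * t = t * y → x * y = y * x := by
    intro t ht ht1 x y hx hy
    obtain ⟨hpg, hdec, -⟩ := hstruct t ht ht1
    obtain ⟨w, hw, u, hu, rfl⟩ := hdec x (Subgroup.mem_centralizer_singleton_iff.mpr hx)
    obtain ⟨w', hw', u', hu', rfl⟩ := hdec y (Subgroup.mem_centralizer_singleton_iff.mpr hy)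
    have h1 : w * w' = w' * w := c.hab _ hpg w hw w' hw'
    have h2 : u * u' = u' * u := c.hQab u hu u' hu'
    have h3 : w * u' = u' * w := hcomm t ht ht1 w hw u' hu'
    have h4 : w' * u = u * w' := hcomm t ht ht1 w' hw' u hu
    calc w * u * (w' * u') = w * (u * w') * u' := by group
      _ = w * (w' * u) * u' := by rw [h4]
      _ = (w * w') * (u * u') := by group
      _ = (w' * w) * (u' * u) := by rw [h1, h2]
      _ = w' * (w * u') * u := by group
      _ = w' * (u' * w) * u := by rw [h3]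
      _ = w' * u' * (w * u) := by group
  intro t ht x y hx hy
  -- conjugate `t` into `Q`
  have htp : IsPGroup 2 (Subgroup.zpowers t) := by
    apply IsPGroup.of_card (n := 1)
    rw [Nat.card_zpowers, ht, pow_one]
  obtain ⟨R, hR⟩ := htp.exists_le_sylow
  obtain ⟨h, hh⟩ := MulAction.exists_smul_eq G R QS
  have htQ : h * t * h⁻¹ ∈ Q := by
    have h1 : t ∈ (R : Subgroup G) := hR (Subgroup.mem_zpowers t)
    have h2 : h * t * h⁻¹ ∈ ((h • R : Sylow 2 G) : Subgroup G) := by
      rw [Sylow.smul_def, Sylow.pointwise_smul_def]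
      have h3 := Subgroup.smul_mem_pointwise_smul t (MulAut.conj h) (R : Subgroup G) h1
      simpa [MulAut.smul_def, MulAut.conj_apply] using h3
    rw [hh] at h2
    exact h2
  have ht1 : h * t * h⁻¹ ≠ 1 := by
    intro h0
    have : t = 1 := by
      have := congrArg (fun z => h⁻¹ * z * h) h0
      simpa [mul_assoc] using this
    rw [this, orderOf_one] at ht
    omega
  have hx' : (h * x * h⁻¹) * (h * t * h⁻¹) = (h * t * h⁻¹) * (h * x * h⁻¹) := by
    calc (h * x * h⁻¹) * (h * t * h⁻¹) = h * (x * t) * h⁻¹ := by group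
      _ = h * (t * x) * h⁻¹ := by rw [hx]
      _ = _ := by group
  have hy' : (h * y * h⁻¹) * (h * t * h⁻¹) = (h * t * h⁻¹) * (h * y * h⁻¹) := by
    calc (h * y * h⁻¹) * (h * t * h⁻¹) = h * (y * t) * h⁻¹ := by group
      _ = h * (t * y) * h⁻¹ := by rw [hy]
      _ = _ := by group
  have := key _ htQ ht1 _ _ hx' hy'
  have h5 : h * (x * y) * h⁻¹ = h * (y * x) * h⁻¹ := by
    calc h * (x * y) * h⁻¹ = (h * x * h⁻¹) * (h * y * h⁻¹) := by group
      _ = (h * y * h⁻¹) * (h * x * h⁻¹) := this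
      _ = _ := by group
  exact mul_left_cancel (mul_right_cancel h5)

end Cfsg.Agent.Lib.Helper8.MIXABHYPOf
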