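import Mathlib
import Cfsg.Prelude.Def_Local
import Cfsg.Agent.Lib.Helper26.MixDefs
import Cfsg.Agent.Lib.Helper8.MIXABHYPOf
import Cfsg.Agent.Lib.Helper9.MIXSTRUCT

/-!
# S4017 market, leaf MIX-ABHYP (helper8)
-/

set_option autoImplicit false

namespace Cfsg.Agent.Lib.Helper8.MIXABHYP

open Cfsg Cfsg.Agent.Lib.Helper26.Mix

universe u

variable {G : Type u} [Group G] [Finite G] {p a : ℕ} {Q : Subgroup G} {g : G}

/-- ABHYP : `Comm` ⇒ all involution centralizers are abelian. -/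
theorem abHyp_of_comm (c : Ctx G p a Q g) (hcomm : Comm G Q) :
    Cfsg.Agent.Lib.Helper8.AbInv.AbHyp G :=
  Cfsg.Agent.Lib.Helper8.MIXABHYPOf.abHyp_of_comm_of c hcomm
    (fun t ht ht1 => Cfsg.Agent.Lib.Helper9.MIXSTRUCT.cent_structure c t ht ht1)

end Cfsg.Agent.Lib.Helper8.MIXABHYP
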