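import Cfsg.Agent.Lib.Helper8.AbInvN

/-!
# Groups in which centralizers of involutions are abelian, part O (helper8)

The main theorem, by induction on the order.
-/

set_option autoImplicit false

namespace Cfsg.Agent.Lib.Helper8.AbInv

open Cfsg.Agent.Lib.Helper2 Cfsg.Agent.Lib.Helper8

universe u

theorem subtype_not_isCyclic {G : Type*} [Group G] {Y : Subgroup G} {P : Sylow 2 G}
    (hPY : (P : Subgroup G) ≤ Y) (hnc : ¬ IsCyclic ↥(P : Subgroup G)) :
    ¬ IsCyclic ↥((P.subtype hPY : Sylow 2 Y) : Subgroup Y) := by
  intro hcyc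
  apply hnc
  have e : ↥((P.subtype hPY : Sylow 2 Y) : Subgroup Y) ≃* ↥(P : Subgroup G) := by
    rw [Sylow.coe_subtype]
    exact Subgroup.subgroupOfEquivOfLe hPY
  exact isCyclic_of_surjective e e.surjective

/-- **Groups in which the centralizers of involutions are abelian** -/
theorem abInv_main : ∀ n : ℕ, ∀ (G : Type u) [Group G] [Finite G], Nat.card G = n → AbHyp G →
    Even (Nat.card G) →
    (∀ P : Sylow 2 G, IsCyclic ↥(P : Subgroup G)) ∨ (∀ P : Sylow 2 G, (P : Subgroup G).Normal) ∨
      SLStruct G := by
  intro n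
  induction n using Nat.strong_induction_on with
  | _ n ih =>
  intro G _ _ hn h heven
  have : Fact (Nat.Prime 2) := ⟨Nat.prime_two⟩
  obtain ⟨P⟩ : Nonempty (Sylow 2 G) := inferInstance
  by_cases hnc : IsCyclic ↥(P : Subgroup G)
  · left
    intro Q
    by_contra hQ
    exact forall_not_isCyclic Q hQ P hnc
  by_cases hnn : (P : Subgroup G).Normal
  · right; left
    intro Q
    by_contra hQ
    exact forall_not_normal Q hQ P hnn
  right; right
  have hne := sylow_ne_bot heven
  have hnnall := forall_not_normal P hnn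
  have hncall := forall_not_isCyclic P hnc
  by_cases hI : CaseI G
  · exact caseI_struct h hI hne hnnall hncall
  unfold CaseI at hI
  push Not at hI
  obtain ⟨Q, a, haC, haodd, ha1, hYN⟩ := hI
  by_cases hYtop : Subgroup.centralizer ({a} : Set G) = ⊤
  · -- `a` is central: pass to the quotient
    have hac : a ∈ Subgroup.center G := by
      rw [Subgroup.mem_center_iff]
      intro g
      have hg : g ∈ Subgroup.centralizer ({a} : Set G) := by rw [hYtop]; exact Subgroup.mem_top g
      exact Subgroup.mem_centralizer_singleton_iff.mp hg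
    have hKc : Subgroup.zpowers a ≤ Subgroup.center G := by
      rw [Subgroup.zpowers_le]; exact hac
    have hKn : (Subgroup.zpowers a).Normal := by
      refine ⟨fun k hk g => ?_⟩
      have h1 : g * k * g⁻¹ = k := by
        rw [Subgroup.mem_center_iff.mp (hKc hk) g, mul_inv_cancel_right]
      rw [h1]; exact hk
    have hπ := QuotientGroup.mk'_surjective (Subgroup.zpowers a)
    have hker : (QuotientGroup.mk' (Subgroup.zpowers a)).ker = Subgroup.zpowers a :=
      QuotientGroup.ker_mk' _
    have hc : (QuotientGroup.mk' (Subgroup.zpowers a)).ker ≤ Subgroup.center G := by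
      rw [hker]; exact hKc
    have hodd : Odd (Nat.card (QuotientGroup.mk' (Subgroup.zpowers a)).ker) := by
      rw [hker, Nat.card_zpowers]; exact haodd
    have hlt : Nat.card (G ⧸ Subgroup.zpowers a) < n := by
      have h1 := Subgroup.card_eq_card_quotient_mul_card_subgroup (Subgroup.zpowers a)
      rw [hn, Nat.card_zpowers] at h1
      have h2 : 1 < orderOf a := by
        have h3 : orderOf a ≠ 1 := fun h3 => ha1 (orderOf_eq_one_iff.mp h3)
        have h4 : 0 < orderOf a := orderOf_pos a
        omega
      have h5 : 0 < Nat.card (G ⧸ Subgroup.zpowers a) := Nat.card_pos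
      rw [h1]
      nlinarith
    have hH := abHyp_quot (QuotientGroup.mk' (Subgroup.zpowers a)) hπ hc hodd h
    have hevenH := even_card_quot (QuotientGroup.mk' (Subgroup.zpowers a)) hπ hodd heven
    rcases ih _ hlt (G ⧸ Subgroup.zpowers a) rfl hH hevenH with hcyc | hnor | hS
    · exact absurd (hcyc _) (imgS_not_isCyclic (QuotientGroup.mk' (Subgroup.zpowers a)) hπ hc hodd Q
        (hncall Q))
    · exact absurd (hnor _) (imgS_not_normal (QuotientGroup.mk' (Subgroup.zpowers a)) hπ hc hodd Q
        (hnnall Q))
    · exact slStruct_lift h heven (QuotientGroup.mk' (Subgroup.zpowers a)) hπ hc hodd hS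
  · -- the centralizer of `a` is a proper subgroup
    obtain ⟨Y, hY⟩ : ∃ Y : Subgroup G, Y = Subgroup.centralizer ({a} : Set G) := ⟨_, rfl⟩
    rw [← hY] at hYN hYtop
    have hCY : Cz Q ≤ Y := by
      intro c hcC
      rw [hY, Subgroup.mem_centralizer_singleton_iff]
      exact Cz_comm h Q (hne Q) c hcC a haC
    have hab := sylow_comm h Q (hne Q)
    have hQC : (Q : Subgroup G) ≤ Cz Q := by
      intro x hx
      rw [mem_Cz_iff]
      intro s hs
      exact hab s hs x hx
    have hQY : (Q : Subgroup G) ≤ Y := hQC.trans hCY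
    have hlt : Nat.card ↥Y < n := by
      rw [← hn]
      have h1 : Nat.card ↥Y ≤ Nat.card G := Subgroup.card_le_card_group Y
      rcases h1.lt_or_eq with h2 | h2
      · exact h2
      · exact absurd (Subgroup.eq_top_of_card_eq Y h2) hYtop
    have hevenY : Even (Nat.card ↥Y) := by
      obtain ⟨s, hsQ, hs2, -⟩ := sylow_exists_central_invol Q (hne Q)
      rw [even_card_iff_exists_invol]
      exact ⟨s, hQY hsQ, hs2⟩
    rcases ih _ hlt ↥Y rfl (h.subgroup Y) hevenY with hcyc | hnor | hS
    · exact absurd (hcyc _) (subtype_not_isCyclic hQY (hncall Q))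
    · exact absurd (hnor _) (subtype_not_normal hQY hYN)
    · exact (caseII_false h Q (hne Q) (hnnall Q) (hncall Q) Y hCY hYN hYtop hS).elim

end Cfsg.Agent.Lib.Helper8.AbInv
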