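import Mathlib
import Cfsg.Prelude.Def_Local
import Cfsg.Agent.Lib.Helper26.MixDefs
import Cfsg.Agent.Lib.Helper8.AbInvO

/-!
# S4017 market, leaf MIX-SL2 (helper8)

`AbHyp` + the critical configuration + simplicity ⇒ `G ≅ SL₂(F)`, `char F = 2`
(over `AbInv.abInv_main`).
-/

set_option autoImplicit false

namespace Cfsg.Agent.Lib.Helper8.MIXSL2

open Cfsg Cfsg.Agent.Lib.Helper26.Mix

universe u

variable {G : Type u} [Group G] [Finite G] {p a : ℕ} {Q : Subgroup G} {g : G}

/-- `Q` is not normal in a simple group satisfying `Ctx` -/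
theorem not_normal (c : Ctx G p a Q g) (hsimple : Simple G) : ¬ Q.Normal := by
  intro hn
  have h4 : 4 ≤ Nat.card Q := by
    rw [c.hQcard]
    calc 4 = 2 ^ 2 := by norm_num
      _ ≤ 2 ^ a := Nat.pow_le_pow_right (by norm_num) c.ha
  rcases hsimple Q hn with h | h
  · rw [h, Subgroup.card_bot] at h4
    omega
  · have hcard : Nat.card G = 2 ^ a := by
      rw [← c.hQcard, h, Subgroup.card_top]
    have hp := c.hpG
    rw [hcard] at hp
    have := (Nat.prime_dvd_prime_iff_eq c.hp Nat.prime_two).mp (c.hp.dvd_of_dvd_pow hp)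
    exact c.hp2 this

/-- SL2 : helper8 `AbInv.abInv_main` + simplicity (`A ≤ Z(G) = 1`, Sylow 2-subgroups neither cyclic nor normal). -/
theorem exists_sl2 (c : Ctx G p a Q g) (hthird : Third G p 2) (hsimple : Simple G)
    (hab : Cfsg.Agent.Lib.Helper8.AbInv.AbHyp G) :
    ∃ (F : Type) (_ : Field F) (_ : Fintype F), CharP F 2 ∧
      Nonempty (G ≃* Matrix.SpecialLinearGroup (Fin 2) F) := by
  classical
  have : Fact (Nat.Prime 2) := ⟨Nat.prime_two⟩
  have h4 : 4 ≤ Nat.card Q := by
    rw [c.hQcard]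
    calc 4 = 2 ^ 2 := by norm_num
      _ ≤ 2 ^ a := Nat.pow_le_pow_right (by norm_num) c.ha
  have heven : Even (Nat.card G) := by
    have h1 : Nat.card Q ∣ Nat.card G := Subgroup.card_subgroup_dvd_card Q
    rw [c.hQcard] at h1
    have h2 : 2 ∣ 2 ^ a := dvd_pow_self 2 (by have := c.ha; omega)
    exact even_iff_two_dvd.mpr (h2.trans h1)
  -- `Q` as a Sylow subgroup
  have hQsyl : Nat.card Q = 2 ^ (Nat.card G).factorization 2 := by
    rw [c.hQcard, c.hQsyl]
  let QS : Sylow 2 G := Sylow.ofCard Q hQsyl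
  have hQS : (QS : Subgroup G) = Q := rfl
  rcases Cfsg.Agent.Lib.Helper8.AbInv.abInv_main (Nat.card G) G rfl hab heven with h | h | h
  · -- cyclic Sylow subgroups
    exfalso
    have hcyc : IsCyclic ↥Q := h QS
    obtain ⟨x, hx⟩ := hcyc.exists_generator
    have hx2 : x * x = 1 := Subtype.ext (c.hQexp x x.2)
    have hle : Nat.card Q ≤ 2 := by
      have h1 : orderOf x = Nat.card Q := orderOf_eq_card_of_forall_mem_zpowers hx
      rw [← h1]
      apply Nat.le_of_dvd (by norm_num)
      apply orderOf_dvd_of_pow_eq_one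
      rw [pow_two, hx2]
    omega
  · -- normal Sylow subgroups
    exfalso
    exact not_normal c hsimple (h QS)
  · -- `SLStruct`
    obtain ⟨-, F, hF1, hF2, hchar, -, L, A, hA, hLA, hLA', -, -, ⟨e⟩⟩ := h
    refine ⟨F, hF1, hF2, hchar, ?_⟩
    have hcen : Subgroup.center G = ⊥ := by
      rcases hsimple (Subgroup.center G) inferInstance with h0 | h0
      · exact h0
      · exfalso
        apply not_normal c hsimple
        constructor
        intro n hn x
        have hx : x ∈ Subgroup.center G := by rw [h0]; trivial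
        have := Subgroup.mem_center_iff.mp hx n
        rw [← this, mul_inv_cancel_right]
        exact hn
    have hA0 : A = ⊥ := by
      rw [eq_bot_iff, ← hcen]
      exact hA
    have hL : L = ⊤ := by
      rw [hA0, sup_bot_eq] at hLA'
      exact hLA'
    exact ⟨((MulEquiv.subgroupCongr hL).trans Subgroup.topEquiv).symm.trans e⟩

end Cfsg.Agent.Lib.Helper8.MIXSL2
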