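import Mathlib

/-!
# S4017 market, leaf MIX-SL2INV (helper8)

In `SL₂(F)`, `char F = 2`, every element which is not an involution (or the identity) is inverted by an involution.
-/

set_option autoImplicit false

namespace Cfsg.Agent.Lib.Helper8.MIXSL2INV

open Matrix

theorem core_of_matrix {F : Type} [Field F] (y s : Matrix.SpecialLinearGroup (Fin 2) F)
    (hs1 : (s : Matrix (Fin 2) (Fin 2) F) ≠ 1)
    (hss : (s : Matrix (Fin 2) (Fin 2) F) * (s : Matrix (Fin 2) (Fin 2) F) = 1)
    (hsy : (s : Matrix (Fin 2) (Fin 2) F) * (y : Matrix (Fin 2) (Fin 2) F) =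
      ((y⁻¹ : Matrix.SpecialLinearGroup (Fin 2) F) : Matrix (Fin 2) (Fin 2) F) *
        (s : Matrix (Fin 2) (Fin 2) F)) :
    s ≠ 1 ∧ s * s = 1 ∧ s * y * s⁻¹ = y⁻¹ := by
  refine ⟨?_, ?_, ?_⟩
  · intro h
    apply hs1
    rw [h, Matrix.SpecialLinearGroup.coe_one]
  · apply Subtype.ext
    rw [Matrix.SpecialLinearGroup.coe_mul, Matrix.SpecialLinearGroup.coe_one]
    exact hss
  · rw [mul_inv_eq_iff_eq_mul]
    apply Subtype.ext
    rw [Matrix.SpecialLinearGroup.coe_mul, Matrix.SpecialLinearGroup.coe_mul]
    exact hsy

/-- SL2INV : in `SL_2(F)`, `char F = 2`, every element that is not an involution is inverted by an involution. -/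
theorem sl2_inverted (F : Type) [Field F] [CharP F 2] (y : Matrix.SpecialLinearGroup (Fin 2) F)
    (hy : y * y ≠ 1) :
    ∃ s : Matrix.SpecialLinearGroup (Fin 2) F, s ≠ 1 ∧ s * s = 1 ∧ s * y * s⁻¹ = y⁻¹ := by
  have h2 : (2 : F) = 0 := CharTwo.two_eq_zero
  obtain ⟨a, b, c, d, hyM⟩ : ∃ a b c d : F, (y : Matrix (Fin 2) (Fin 2) F) = !![a, b; c, d] :=
    ⟨_, _, _, _, (Matrix.etaExpand_eq (y : Matrix (Fin 2) (Fin 2) F)).symm⟩
  have hdet : a * d - b * c = 1 := by
    have := y.2
    rw [hyM, Matrix.det_fin_two_of] at this
    exact this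
  have had : a + d ≠ 0 := by
    intro had
    apply hy
    apply Subtype.ext
    rw [Matrix.SpecialLinearGroup.coe_mul, hyM, Matrix.SpecialLinearGroup.coe_one]
    ext i j
    fin_cases i <;> fin_cases j
    · simp only [Matrix.mul_apply, Fin.sum_univ_two]
      simp
      linear_combination hdet + a * had + b * c * h2 - a * d * h2
    · simp only [Matrix.mul_apply, Fin.sum_univ_two]
      simp
      linear_combination b * had
    · simp only [Matrix.mul_apply, Fin.sum_univ_two]
      simp
      linear_combination c * had
    · simp only [Matrix.mul_apply, Fin.sum_univ_two]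
      simp
      linear_combination hdet + d * had + b * c * h2 - a * d * h2
  -- the inverse of `y`
  have hyinv : ((y⁻¹ : Matrix.SpecialLinearGroup (Fin 2) F) : Matrix (Fin 2) (Fin 2) F) = !![d, b; c, a] := by
    rw [Matrix.SpecialLinearGroup.coe_inv, hyM, Matrix.adjugate_fin_two_of]
    ext i j
    fin_cases i <;> fin_cases j
    · simp
    · simp
      linear_combination (-b) * h2
    · simp
      linear_combination (-c) * h2
    · simp
  have hex : ∀ M : Matrix (Fin 2) (Fin 2) F, M.det = 1 →
      ∃ s : Matrix.SpecialLinearGroup (Fin 2) F, (s : Matrix (Fin 2) (Fin 2) F) = M :=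
    fun M h => ⟨⟨M, h⟩, rfl⟩
  by_cases hc : c = 0
  · by_cases hb : b = 0
    · -- diagonal
      subst hc hb
      obtain ⟨s, hs⟩ := hex !![0, 1; 1, 0] (by
        rw [Matrix.det_fin_two_of]
        linear_combination (-1 : F) * h2)
      refine ⟨s, core_of_matrix y s ?_ ?_ ?_⟩
      · rw [hs]
        intro h
        have := congrFun (congrFun h 0) 0
        simp at this
      · rw [hs]
        ext i j
        fin_cases i <;> fin_cases j <;> simp [Matrix.mul_apply, Fin.sum_univ_two]
      · rw [hs, hyM, hyinv]
        ext i j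
        fin_cases i <;> fin_cases j <;> simp [Matrix.mul_apply, Fin.sum_univ_two]
    · -- `b ≠ 0`
      obtain ⟨k, hk⟩ : ∃ k : F, k * b = a + d := ⟨(a + d) / b, div_mul_cancel₀ _ hb⟩
      have hk0 : k ≠ 0 := by
        rintro rfl
        rw [zero_mul] at hk
        exact had hk.symm
      obtain ⟨s, hs⟩ := hex !![1, 0; k, 1] (by
        rw [Matrix.det_fin_two_of]
        ring)
      refine ⟨s, core_of_matrix y s ?_ ?_ ?_⟩
      · rw [hs]
        intro h
        have := congrFun (congrFun h 1) 0
        simp at this
        exact hk0 this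
      · rw [hs, Matrix.mul_fin_two, Matrix.one_fin_two]
        congr 1
        ext i j
        fin_cases i <;> fin_cases j
        · simp
        · simp
        · simp
          linear_combination k * h2
        · simp
      · rw [hs, hyM, hyinv, Matrix.mul_fin_two, Matrix.mul_fin_two]
        ext i j
        fin_cases i <;> fin_cases j
        · simp
          linear_combination (-1 : F) * hk - d * h2
        · simp
        · simp
          ring
        · simp
          linear_combination hk + d * h2
  · -- `c ≠ 0`
    obtain ⟨k, hk⟩ : ∃ k : F, k * c = a + d := ⟨(a + d) / c, div_mul_cancel₀ _ hc⟩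
    have hk0 : k ≠ 0 := by
      rintro rfl
      rw [zero_mul] at hk
      exact had hk.symm
    obtain ⟨s, hs⟩ := hex !![1, k; 0, 1] (by
      rw [Matrix.det_fin_two_of]
      ring)
    refine ⟨s, core_of_matrix y s ?_ ?_ ?_⟩
    · rw [hs]
      intro h
      have := congrFun (congrFun h 0) 1
      simp at this
      exact hk0 this
    · rw [hs, Matrix.mul_fin_two, Matrix.one_fin_two]
      ext i j
      fin_cases i <;> fin_cases j
      · simp
      · simp
        linear_combination k * h2
      · simp
      · simp
    · rw [hs, hyM, hyinv, Matrix.mul_fin_two, Matrix.mul_fin_two]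
      ext i j
      fin_cases i <;> fin_cases j
      · simp
        linear_combination hk + a * h2
      · simp
        ring
      · simp
      · simp
        linear_combination (-1 : F) * hk - a * h2

end Cfsg.Agent.Lib.Helper8.MIXSL2INV
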