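/- helper8: simple groups of order 2520, pieces (C-inv) and (C-3) of the character values:
arithmetic lemmas and the divisibility `9 ∣ |C(s)|` for elements of order 3. -/
import Mathlib

set_option autoImplicit false

namespace Cfsg.Agent.Lib.Helper8.A7Val

set_option maxRecDepth 20000 in
theorem arith_168 : ∀ c < 169, 126 ≤ c → 168 % c = 0 → c % 7 = 0 := by decide

set_option maxRecDepth 20000 in
theorem arith_504 : ∀ c < 505, 126 ≤ c → 504 % c = 0 → c % 7 = 0 := by decide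

set_option maxRecDepth 20000 in
theorem arith_24 : ∀ c < 169, 14 ≤ c → 168 % c = 0 → c % 7 ≠ 0 → c = 24 := by decide

set_option maxRecDepth 20000 in
theorem arith_252 :
    ∀ c < 253, 252 % c = 0 → c % 9 = 0 → c % 7 ≠ 0 → c = 9 ∨ c = 18 ∨ c = 36 := by
  decide

set_option maxRecDepth 20000 in
theorem arith_126 : ∀ c < 127, 126 % c = 0 → c % 9 = 0 → c % 7 ≠ 0 → c = 9 ∨ c = 18 := by
  decide

set_option maxRecDepth 20000 in
theorem arith_378 : ∀ c < 379, 246 ≤ c → 378 % c = 0 → c % 7 = 0 := by decide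

/-- wrappers: from divisibility to the decided statements -/
theorem dvd_168_ge (c : ℕ) (h : c ∣ 168) (hge : 126 ≤ c) : 7 ∣ c := by
  have hle : c ≤ 168 := Nat.le_of_dvd (by norm_num) h
  exact Nat.dvd_of_mod_eq_zero (arith_168 c (by omega) hge (Nat.mod_eq_zero_of_dvd h))

theorem dvd_504_ge (c : ℕ) (h : c ∣ 504) (hge : 126 ≤ c) : 7 ∣ c := by
  have hle : c ≤ 504 := Nat.le_of_dvd (by norm_num) h
  exact Nat.dvd_of_mod_eq_zero (arith_504 c (by omega) hge (Nat.mod_eq_zero_of_dvd h))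

theorem dvd_168_eq (c : ℕ) (h : c ∣ 168) (hge : 14 ≤ c) (h7 : ¬ 7 ∣ c) : c = 24 := by
  have hle : c ≤ 168 := Nat.le_of_dvd (by norm_num) h
  exact arith_24 c (by omega) hge (Nat.mod_eq_zero_of_dvd h)
    (fun h0 => h7 (Nat.dvd_of_mod_eq_zero h0))

theorem dvd_252_cases (c : ℕ) (h : c ∣ 252) (h9 : 9 ∣ c) (h7 : ¬ 7 ∣ c) :
    c = 9 ∨ c = 18 ∨ c = 36 := by
  have hle : c ≤ 252 := Nat.le_of_dvd (by norm_num) h
  exact arith_252 c (by omega) (Nat.mod_eq_zero_of_dvd h) (Nat.mod_eq_zero_of_dvd h9)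
    (fun h0 => h7 (Nat.dvd_of_mod_eq_zero h0))

theorem dvd_126_cases (c : ℕ) (h : c ∣ 126) (h9 : 9 ∣ c) (h7 : ¬ 7 ∣ c) :
    c = 9 ∨ c = 18 := by
  have hle : c ≤ 126 := Nat.le_of_dvd (by norm_num) h
  exact arith_126 c (by omega) (Nat.mod_eq_zero_of_dvd h) (Nat.mod_eq_zero_of_dvd h9)
    (fun h0 => h7 (Nat.dvd_of_mod_eq_zero h0))

theorem dvd_378_ge (c : ℕ) (h : c ∣ 378) (hge : 246 ≤ c) : 7 ∣ c := by
  have hle : c ≤ 378 := Nat.le_of_dvd (by norm_num) h
  exact Nat.dvd_of_mod_eq_zero (arith_378 c (by omega) hge (Nat.mod_eq_zero_of_dvd h))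

/-- from `k * c ∣ k * n` over `ℤ` to `c ∣ n` over `ℕ` -/
theorem nat_dvd_of_int_mul_dvd (k : ℤ) (hk : k ≠ 0) (c n : ℕ) (z : ℤ)
    (h : k * (c : ℤ) ∣ z) (hz : z = k * (n : ℤ) ∨ z = k * (-(n : ℤ))) : c ∣ n := by
  have h1 : k * (c : ℤ) ∣ k * (n : ℤ) := by
    rcases hz with hz | hz
    · rwa [hz] at h
    · rw [hz, mul_neg, dvd_neg] at h
      exact h
  have h2 : (c : ℤ) ∣ (n : ℤ) := Int.dvd_of_mul_dvd_mul_left hk h1
  exact_mod_cast h2

/-- **the values at an involution**: arithmetic -/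
theorem invol_arith (a b : ℤ) (j j' : ℕ) (ha : a = 6 - 4 * j) (hb : b = 15 - 4 * j')
    (ha6 : -6 ≤ a) (hb15 : -15 ≤ b) (hne : a ≠ 6)
    (hE : (15 : ℤ) * 6 * 10 + 1 * (b * b) * (6 * 10) + (-1) * (a * a) * (15 * 10) +
      (-1) * ((1 + 1 * b + (-1) * a) * (1 + 1 * b + (-1) * a)) * (15 * 6) = 0) :
    (a = 2 ∧ b = -1) ∨ (a = 2 ∧ b = 7) ∨ (a = -2 ∧ b = -1) ∨ (a = -6 ∧ b = -9) := by
  have hj : j ≤ 3 := by omega
  have hj' : j' ≤ 7 := by omega
  interval_cases j <;> interval_cases j' <;> simp_all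

/-- **the centralizer of an involution**: arithmetic.  `c = |C(t)|`; in the case
`(a, b) = (-2, -1)` the extra information `N * cs = 84`, `9 ∣ cs` is contradictory. -/
theorem invol_cent_arith (a b : ℤ) (c : ℕ)
    (hab : (a = 2 ∧ b = -1) ∨ (a = 2 ∧ b = 7) ∨ (a = -2 ∧ b = -1) ∨ (a = -6 ∧ b = -9))
    (F5 : 1 + b ^ 2 + a ^ 2 + 2 * (1 + 1 * b + (-1) * a) ^ 2 ≤ (c : ℤ))
    (F6 : (6 : ℤ) * (c : ℤ) ∣ 2520 * a) (F15 : (15 : ℤ) * (c : ℤ) ∣ 2520 * b)
    (F7 : ¬ 7 ∣ c)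
    (hβ : a = -2 → b = -1 → c = 24 → False) :
    a = 2 ∧ b = -1 ∧ c = 24 := by
  rcases hab with ⟨rfl, rfl⟩ | ⟨rfl, rfl⟩ | ⟨rfl, rfl⟩ | ⟨rfl, rfl⟩
  · -- (2,-1)
    have h1 : c ∣ 168 := nat_dvd_of_int_mul_dvd 15 (by norm_num) c 168 _ F15 (Or.inr (by norm_num))
    have hge : 14 ≤ c := by
      have : (14 : ℤ) ≤ (c : ℤ) := by
        have := F5
        norm_num at this
        linarith
      exact_mod_cast this
    exact ⟨rfl, rfl, dvd_168_eq c h1 hge F7⟩
  · -- (2,7)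
    exfalso
    have h1 : c ∣ 840 := nat_dvd_of_int_mul_dvd 6 (by norm_num) c 840 _ F6 (Or.inl (by norm_num))
    have h2 : c ∣ 1176 :=
      nat_dvd_of_int_mul_dvd 15 (by norm_num) c 1176 _ F15 (Or.inl (by norm_num))
    have h3 : c ∣ 168 := by
      have := Nat.dvd_gcd h1 h2
      norm_num at this
      exact this
    have hge : 126 ≤ c := by
      have : (126 : ℤ) ≤ (c : ℤ) := by
        have := F5
        norm_num at this
        linarith
      exact_mod_cast this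
    exact F7 (dvd_168_ge c h3 hge)
  · -- (-2,-1)
    exfalso
    have h1 : c ∣ 168 := nat_dvd_of_int_mul_dvd 15 (by norm_num) c 168 _ F15 (Or.inr (by norm_num))
    have hge : 14 ≤ c := by
      have : (14 : ℤ) ≤ (c : ℤ) := by
        have := F5
        norm_num at this
        linarith
      exact_mod_cast this
    exact hβ rfl rfl (dvd_168_eq c h1 hge F7)
  · -- (-6,-9)
    exfalso
    have h1 : c ∣ 2520 :=
      nat_dvd_of_int_mul_dvd 6 (by norm_num) c 2520 _ F6 (Or.inr (by norm_num))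
    have h2 : c ∣ 1512 :=
      nat_dvd_of_int_mul_dvd 15 (by norm_num) c 1512 _ F15 (Or.inr (by norm_num))
    have h3 : c ∣ 504 := by
      have := Nat.dvd_gcd h1 h2
      norm_num at this
      exact this
    have hge : 126 ≤ c := by
      have : (126 : ℤ) ≤ (c : ℤ) := by
        have := F5
        norm_num at this
        linarith
      exact_mod_cast this
    exact F7 (dvd_504_ge c h3 hge)

/-- **the centralizer of an element of order 3**: arithmetic -/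
theorem three_arith (a b : ℤ) (N c m m' : ℕ)
    (h6 : (6 : ℤ) + 2 * a = 3 * m) (h15 : (15 : ℤ) + 2 * b = 3 * m')
    (ha : a ≤ 5) (hb : b ≤ 14)
    (F1 : (N : ℤ) * (c : ℤ) = 14 * (9 + b - 4 * a)) (F2 : 9 ∣ c) (F3 : ¬ 7 ∣ c)
    (F5 : 1 + b ^ 2 + a ^ 2 + 2 * (1 + 1 * b + (-1) * a) ^ 2 ≤ (c : ℤ))
    (F6 : (6 : ℤ) * (c : ℤ) ∣ 2520 * a) (F15 : (15 : ℤ) * (c : ℤ) ∣ 2520 * b) :
    c = 9 ∨ c = 18 ∨ c = 36 := by
  have G1 : (0 : ℤ) ≤ 9 + b - 4 * a := by
    have h0 : (0 : ℤ) ≤ (N : ℤ) * (c : ℤ) := by positivity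
    rw [F1] at h0
    omega
  have G2 : (9 : ℤ) ∣ 14 * (9 + b - 4 * a) := by
    rw [← F1]
    apply Dvd.dvd.mul_left
    exact_mod_cast F2
  have hcases : (a = 3 ∧ b = 3) ∨ (a = 3 ∧ b = 12) ∨ (a = 0 ∧ b = 0) ∨ (a = 0 ∧ b = 9) ∨
      (a = -3 ∧ b = -3) ∨ (a = -3 ∧ b = 6) := by
    clear F5 F6 F15 F1 F2 F3
    obtain ⟨a', rfl⟩ : ∃ a', a = 3 * a' := ⟨a - m + 2, by omega⟩
    obtain ⟨b', rfl⟩ : ∃ b', b = 3 * b' := ⟨b - m' + 5, by omega⟩
    have h1 : -1 ≤ a' := by omega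
    have h2 : a' ≤ 1 := by omega
    have h3 : -2 ≤ b' := by omega
    have h4 : b' ≤ 4 := by omega
    interval_cases a' <;> interval_cases b' <;> omega
  rcases hcases with ⟨rfl, rfl⟩ | ⟨rfl, rfl⟩ | ⟨rfl, rfl⟩ | ⟨rfl, rfl⟩ | ⟨rfl, rfl⟩ | ⟨rfl, rfl⟩
  · -- (3,3)
    have h1 : c ∣ 1260 :=
      nat_dvd_of_int_mul_dvd 6 (by norm_num) c 1260 _ F6 (Or.inl (by norm_num))
    have h2 : c ∣ 504 :=
      nat_dvd_of_int_mul_dvd 15 (by norm_num) c 504 _ F15 (Or.inl (by norm_num))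
    have h3 : c ∣ 252 := by
      have := Nat.dvd_gcd h1 h2
      norm_num at this
      exact this
    exact dvd_252_cases c h3 F2 F3
  · -- (3,12)
    exfalso
    have h1 : N * c = 126 := by
      have : (N : ℤ) * (c : ℤ) = 126 := by rw [F1]; norm_num
      exact_mod_cast this
    have h2 : c ≤ 126 := Nat.le_of_dvd (by norm_num) (Dvd.intro_left N h1)
    have h3 : (354 : ℤ) ≤ (c : ℤ) := by
      have := F5
      norm_num at this
      linarith
    have h4 : 354 ≤ c := by exact_mod_cast h3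
    omega
  · -- (0,0)
    have h1 : N * c = 126 := by
      have : (N : ℤ) * (c : ℤ) = 126 := by rw [F1]; norm_num
      exact_mod_cast this
    rcases dvd_126_cases c (Dvd.intro_left N h1) F2 F3 with h | h
    · exact Or.inl h
    · exact Or.inr (Or.inl h)
  · -- (0,9)
    exfalso
    have h1 : N * c = 252 := by
      have : (N : ℤ) * (c : ℤ) = 252 := by rw [F1]; norm_num
      exact_mod_cast this
    have h2 : c ≤ 252 := Nat.le_of_dvd (by norm_num) (Dvd.intro_left N h1)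
    have h3 : (282 : ℤ) ≤ (c : ℤ) := by
      have := F5
      norm_num at this
      linarith
    have h4 : 282 ≤ c := by exact_mod_cast h3
    omega
  · -- (-3,-3)
    have h1 : N * c = 252 := by
      have : (N : ℤ) * (c : ℤ) = 252 := by rw [F1]; norm_num
      exact_mod_cast this
    exact dvd_252_cases c (Dvd.intro_left N h1) F2 F3
  · -- (-3,6)
    exfalso
    have h1 : N * c = 378 := by
      have : (N : ℤ) * (c : ℤ) = 378 := by rw [F1]; norm_num
      exact_mod_cast this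
    have h3 : (246 : ℤ) ≤ (c : ℤ) := by
      have := F5
      norm_num at this
      linarith
    have h4 : 246 ≤ c := by exact_mod_cast h3
    exact F3 (dvd_378_ge c (Dvd.intro_left N h1) h4)

end Cfsg.Agent.Lib.Helper8.A7Val
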