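/- helper8: simple groups of order 2520, pieces (C-inv) and (C-3): the values of the characters
of degree 6 and 15 at the involutions, the orders of the centralizers of the involutions and of
the elements of order 3, from the principal 7-block `Blk7 x15 x6 Yf 15 1 6 (-1) 10 (-1)`
(helper27's toolbox `A7BlkF/G`). -/
import Mathlib
import Cfsg.Agent.Lib.Helper8.A7ValA
import Cfsg.Agent.Lib.Helper27.A7BlkG

set_option autoImplicit false
set_option linter.unusedSectionVars false
set_option linter.style.haveILetI false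

namespace Cfsg.Agent.Lib.Helper8.A7Val

open MulAction Cfsg Cfsg.Agent.Lib.Helper8.SmallSimple Cfsg.Agent.Lib.Helper8.SmallSimple2
  Cfsg.Agent.Lib.Helper7 Cfsg.Agent.CharLib
  Cfsg.Agent.Lib.Helper24 Cfsg.Agent.Lib.Helper12.BSF Cfsg.Agent.Lib.Helper6
  Cfsg.Agent.Lib.Helper5.L33 Cfsg.Agent.Lib.Helper27.A7Blk
open scoped ComplexConjugate

universe u

variable {G : Type u} [Group G] [Finite G]

/-- an element of order `3` of a group of order `2520` is centralized by a Sylow `3`-subgroup -/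
theorem nine_dvd_card_centralizer (hG : Nat.card G = 2520) (s : G) (hs : orderOf s = 3) :
    9 ∣ Nat.card ↥(Subgroup.centralizer ({s} : Set G)) := by
  haveI : Fact (Nat.Prime 3) := ⟨Nat.prime_three⟩
  have hp : IsPGroup 3 ↥(Subgroup.zpowers s) := by
    apply IsPGroup.of_card (n := 1)
    rw [Nat.card_zpowers, hs, pow_one]
  obtain ⟨S, hS⟩ := hp.exists_le_sylow
  have hfac : (2520 : ℕ).factorization 3 = 2 := by
    have e : (2520 : ℕ) = 3 ^ 2 * 280 := by norm_num
    have h0 : (280 : ℕ).factorization 3 = 0 :=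
      Nat.factorization_eq_zero_of_not_dvd (by norm_num)
    rw [e, Nat.factorization_mul (by norm_num) (by norm_num), Finsupp.add_apply,
      Nat.Prime.factorization_pow (by norm_num), h0]
    simp
  have hcard : Nat.card (S : Subgroup G) = 3 ^ 2 := by
    rw [S.card_eq_multiplicity, hG, hfac]
  have hcomm := IsPGroup.commutative_of_card_eq_prime_sq hcard
  have hle : (S : Subgroup G) ≤ Subgroup.centralizer ({s} : Set G) := by
    intro g hg
    rw [Subgroup.mem_centralizer_singleton_iff]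
    have := hcomm ⟨g, hg⟩ ⟨s, hS (Subgroup.mem_zpowers s)⟩
    exact congrArg Subtype.val this
  have := Subgroup.card_dvd_of_le hle
  rw [hcard] at this
  norm_num at this
  exact this

section main

variable [IsSimpleGroup G] (hG : Nat.card G = 2520)
  (h7 : ∀ y : G, orderOf y = 7 → Nat.card ↥(Subgroup.centralizer ({y} : Set G)) = 7)
  (h21 : ∀ y : G, orderOf y = 7 →
    Nat.card ↥(Subgroup.normalizer ((Subgroup.zpowers y : Subgroup G) : Set G)) = 21)
  {x15 x6 : IrrCharacter G} {Yf : Finset (IrrCharacter G)}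
  (B : Blk7 x15 x6 Yf 15 1 6 (-1) 10 (-1))

include B in
theorem unique6 (ψ : IrrCharacter G)
    (hψ : charDegree (ψ : G → ℂ) = charDegree (x6 : G → ℂ)) : ψ = x6 :=
  B.unique3 (by norm_num) (by norm_num) (by norm_num) (by norm_num) ψ hψ

include B in
theorem unique15 (ψ : IrrCharacter G)
    (hψ : charDegree (ψ : G → ℂ) = charDegree (x15 : G → ℂ)) : ψ = x15 :=
  B.unique2 (by norm_num) (by norm_num) (by norm_num) (by norm_num) ψ hψ

include hG h7 B in
/-- the common facts about a non-trivial `7`-regular element -/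
theorem common_facts (g : G) (hg1 : g ≠ 1) (hreg : ¬ 7 ∣ orderOf g) :
    ∃ a b : ℤ, (x6 : G → ℂ) g = (a : ℂ) ∧ (x15 : G → ℂ) g = (b : ℂ) ∧
      -6 ≤ a ∧ a ≤ 5 ∧ -15 ≤ b ∧ b ≤ 14 ∧
      1 + b ^ 2 + a ^ 2 + 2 * (1 + 1 * b + (-1) * a) ^ 2 ≤
        (Nat.card ↥(Subgroup.centralizer ({g} : Set G)) : ℤ) ∧
      (6 : ℤ) * (Nat.card ↥(Subgroup.centralizer ({g} : Set G)) : ℤ) ∣ 2520 * a ∧
      (15 : ℤ) * (Nat.card ↥(Subgroup.centralizer ({g} : Set G)) : ℤ) ∣ 2520 * b ∧
      ¬ 7 ∣ Nat.card ↥(Subgroup.centralizer ({g} : Set G)) := by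
  obtain ⟨a, ha⟩ := int_of_unique x6 (unique6 B) g
  obtain ⟨b, hb⟩ := int_of_unique x15 (unique15 B) g
  have hna := irr_norm_le x6 g
  rw [ha, B.d3, Complex.norm_intCast] at hna
  have hnb := irr_norm_le x15 g
  rw [hb, B.d2, Complex.norm_intCast] at hnb
  push_cast at hna hnb
  have ha1 : -6 ≤ a ∧ a ≤ 6 := by
    have h := abs_le.mp hna
    constructor
    · have : ((-6 : ℤ) : ℝ) ≤ (a : ℝ) := by push_cast; linarith [h.1]
      exact_mod_cast this
    · have : (a : ℝ) ≤ ((6 : ℤ) : ℝ) := by push_cast; linarith [h.2]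
      exact_mod_cast this
  have hb1 : -15 ≤ b ∧ b ≤ 15 := by
    have h := abs_le.mp hnb
    constructor
    · have : ((-15 : ℤ) : ℝ) ≤ (b : ℝ) := by push_cast; linarith [h.1]
      exact_mod_cast this
    · have : (b : ℝ) ≤ ((15 : ℤ) : ℝ) := by push_cast; linarith [h.2]
      exact_mod_cast this
  have ha6 : a ≠ 6 := by
    intro h
    apply hg1
    apply eq_one_of_apply_eq_apply_one x6 B.t3 g
    rw [ha, h, B.apply_one_3]
    norm_num
  have hb15 : b ≠ 15 := by
    intro h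
    apply hg1
    apply eq_one_of_apply_eq_apply_one x15 B.t2 g
    rw [hb, h, B.apply_one_2]
    norm_num
  have F5 := B.cent_lower g hreg b a hb ha
  have F6 := omega_dvd' x6 g a ha
  rw [B.d3, hG] at F6
  have F15 := omega_dvd' x15 g b hb
  rw [B.d2, hG] at F15
  have F7 := not_seven_dvd_card_centralizer h7 g hg1 hreg
  refine ⟨a, b, ha, hb, ha1.1, by omega, hb1.1, by omega, F5, ?_, ?_, F7⟩
  · exact_mod_cast F6
  · exact_mod_cast F15

include hG in
theorem exists_orderOf_seven : ∃ y : G, orderOf y = 7 := by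
  haveI : Fact (Nat.Prime 7) := ⟨by norm_num⟩
  exact exists_prime_orderOf_dvd_card' (G := G) 7 (by rw [hG]; norm_num)

include hG in
theorem exists_orderOf_two : ∃ t : G, orderOf t = 2 := by
  haveI : Fact (Nat.Prime 2) := ⟨Nat.prime_two⟩
  exact exists_prime_orderOf_dvd_card' (G := G) 2 (by rw [hG]; norm_num)

include hG h7 h21 B in
/-- **(C-inv)** the involutions: `x6 t = 2`, `x15 t = -1`, `|C(t)| = 24` -/
theorem invol_data
    (hs : ∃ s : G, orderOf s = 3 ∧ (x6 : G → ℂ) s = 0 ∧ (x15 : G → ℂ) s = 0) :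
    ∀ t : G, orderOf t = 2 → (x6 : G → ℂ) t = 2 ∧ (x15 : G → ℂ) t = -1 ∧
      Nat.card ↥(Subgroup.centralizer ({t} : Set G)) = 24 := by
  intro t ht
  have hreg : ¬ 7 ∣ orderOf t := by rw [ht]; norm_num
  have ht1 : t ≠ 1 := by
    intro h
    rw [h, orderOf_one] at ht
    omega
  obtain ⟨a, b, ha, hb, ha6, ha5, hb15, hb14, F5, F6, F15, F7⟩ :=
    common_facts hG h7 B t ht1 hreg
  obtain ⟨y, hy⟩ := exists_orderOf_seven hG
  -- congruences mod 4
  have hnc : ¬ IsMulCommutative G := by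
    apply not_comm_of_card_not_prime
    rw [hG]; norm_num
  have hperf := commutator_eq_top_of_simple hnc
  obtain ⟨j, hj⟩ := Cfsg.Agent.Lib.Helper12.Ord5040.char_invol_mod_four hperf
    (IsIrrCharacter.isCharacter x6.2) t ht
  obtain ⟨j', hj'⟩ := Cfsg.Agent.Lib.Helper12.Ord5040.char_invol_mod_four hperf
    (IsIrrCharacter.isCharacter x15.2) t ht
  rw [ha, B.apply_one_3] at hj
  rw [hb, B.apply_one_2] at hj'
  have haj : a = 6 - 4 * (j : ℤ) := by
    have : ((a : ℤ) : ℂ) = ((6 - 4 * (j : ℤ) : ℤ) : ℂ) := by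
      rw [hj]; push_cast; ring
    exact_mod_cast this
  have hbj : b = 15 - 4 * (j' : ℤ) := by
    have : ((b : ℤ) : ℂ) = ((15 - 4 * (j' : ℤ) : ℤ) : ℂ) := by
      rw [hj']; push_cast; ring
    exact_mod_cast this
  have hE := B.invol_eq h21 y hy t t ht ht b a b a hb ha hb ha
  have hE' : (15 : ℤ) * 6 * 10 + 1 * (b * b) * (6 * 10) + (-1) * (a * a) * (15 * 10) +
      (-1) * ((1 + 1 * b + (-1) * a) * (1 + 1 * b + (-1) * a)) * (15 * 6) = 0 := by
    exact_mod_cast hE
  have hab := invol_arith a b j j' haj hbj ha6 hb15 (by omega) hE'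
  have hfin := invol_cent_arith a b _ hab F5 F6 F15 F7 (by
    intro ha2 hb1 hc24
    obtain ⟨s, hs3, hs6, hs15⟩ := hs
    have hregs : ¬ 7 ∣ orderOf s := by rw [hs3]; norm_num
    have hp := B.pair_count_int s t y hregs hreg hy 0 0 b a
      (by rw [hs15]; norm_num) (by rw [hs6]; norm_num) hb ha
    rw [hc24, hG, ha2, hb1] at hp
    have h9 := nine_dvd_card_centralizer hG s hs3
    set N := Nat.card {s_1 : G // IsConj s s_1 ∧ IsConj t (s_1⁻¹ * y)} with hN
    set cs := Nat.card ↥(Subgroup.centralizer ({s} : Set G)) with hcs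
    have h84 : (N : ℤ) * (cs : ℤ) = 84 := by
      push_cast at hp
      linarith
    have h9' : (9 : ℤ) ∣ (N : ℤ) * (cs : ℤ) := by
      apply Dvd.dvd.mul_left
      exact_mod_cast h9
    rw [h84] at h9'
    norm_num at h9')
  obtain ⟨h1, h2, h3⟩ := hfin
  refine ⟨?_, ?_, h3⟩
  · rw [ha, h1]; norm_num
  · rw [hb, h2]; norm_num

include hG h7 B in
/-- **(C-3)** the elements of order `3`: `|C(s)| ∈ {9, 18, 36}` -/
theorem three_data
    (hinv : ∀ t : G, orderOf t = 2 → (x6 : G → ℂ) t = 2 ∧ (x15 : G → ℂ) t = -1 ∧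
      Nat.card ↥(Subgroup.centralizer ({t} : Set G)) = 24) :
    ∀ s : G, orderOf s = 3 → Nat.card ↥(Subgroup.centralizer ({s} : Set G)) = 9 ∨
      Nat.card ↥(Subgroup.centralizer ({s} : Set G)) = 18 ∨
      Nat.card ↥(Subgroup.centralizer ({s} : Set G)) = 36 := by
  intro s hs3
  have hreg : ¬ 7 ∣ orderOf s := by rw [hs3]; norm_num
  have hs1 : s ≠ 1 := by
    intro h
    rw [h, orderOf_one] at hs3
    omega
  obtain ⟨a, b, ha, hb, ha6, ha5, hb15, hb14, F5, F6, F15, F7⟩ :=
    common_facts hG h7 B s hs1 hreg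
  obtain ⟨y, hy⟩ := exists_orderOf_seven hG
  obtain ⟨t, ht⟩ := exists_orderOf_two hG
  obtain ⟨ht6, ht15, htc⟩ := hinv t ht
  have hregt : ¬ 7 ∣ orderOf t := by rw [ht]; norm_num
  obtain ⟨m, hm⟩ := prime_sum_of_unique x6 (unique6 B) s 3 Nat.prime_three hs3 a ha
  obtain ⟨m', hm'⟩ := prime_sum_of_unique x15 (unique15 B) s 3 Nat.prime_three hs3 b hb
  rw [B.d3] at hm
  rw [B.d2] at hm'
  have h6 : (6 : ℤ) + 2 * a = 3 * m := by
    push_cast at hm
    linarith
  have h15 : (15 : ℤ) + 2 * b = 3 * m' := by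
    push_cast at hm'
    linarith
  have hp := B.pair_count_int s t y hreg hregt hy b a (-1) 2 hb ha
    (by rw [ht15]; norm_num) (by rw [ht6]; norm_num)
  rw [htc, hG] at hp
  set N := Nat.card {s_1 : G // IsConj s s_1 ∧ IsConj t (s_1⁻¹ * y)} with hN
  set c := Nat.card ↥(Subgroup.centralizer ({s} : Set G)) with hc
  have F1 : (N : ℤ) * (c : ℤ) = 14 * (9 + b - 4 * a) := by
    push_cast at hp
    linarith
  exact three_arith a b N c m m' h6 h15 ha5 hb14 F1 (nine_dvd_card_centralizer hG s hs3) F7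
    F5 F6 F15

end main

end Cfsg.Agent.Lib.Helper8.A7Val
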