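import Mathlib

/-!
helper8: leaf HP1a of helper24's S3779 market (Higman–Kreknin–Kostrikin):
commutator calculus of the lower central series `γ d = (⊤ : Subgroup G).lowerCentralSeries d`
of an arbitrary group (no finiteness): `⁅γ i, γ j⁆ ≤ γ (i+j+1)`, bilinearity and well-definedness of
the commutator modulo the next term, and the Hall–Witt identity modulo `γ (i+j+k+3)`.
-/

set_option autoImplicit false
open scoped commutatorElement

namespace Cfsg.Agent.Lib.Helper8.HKKLeaf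

universe u

variable {G : Type u} [Group G]

/-- Three subgroups lemma modulo a normal subgroup (private copy). -/
private theorem three_subgroups_normal' (H₁ H₂ H₃ N : Subgroup G) [N.Normal]
    (h1 : ⁅⁅H₂, H₃⁆, H₁⁆ ≤ N) (h2 : ⁅⁅H₃, H₁⁆, H₂⁆ ≤ N) : ⁅⁅H₁, H₂⁆, H₃⁆ ≤ N := by
  have key : ∀ X : Subgroup G, X ≤ N ↔ X.map (QuotientGroup.mk' N) = ⊥ := by
    intro X
    rw [Subgroup.map_eq_bot_iff, QuotientGroup.ker_mk']
  rw [key] at h1 h2 ⊢
  rw [Subgroup.map_commutator, Subgroup.map_commutator] at h1 h2 ⊢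
  exact Subgroup.commutator_commutator_eq_bot_of_rotate h1 h2

instance lcs_normal (d : ℕ) : ((⊤ : Subgroup G).lowerCentralSeries d).Normal := inferInstance

/-- `⁅γ i, γ j⁆ ≤ γ (i + j + 1)`. -/
theorem lcs_comm_le : ∀ (j i : ℕ),
    ⁅(⊤ : Subgroup G).lowerCentralSeries i, (⊤ : Subgroup G).lowerCentralSeries j⁆ ≤
      (⊤ : Subgroup G).lowerCentralSeries (i + j + 1) := by
  intro j
  induction j with
  | zero =>
    intro i
    exact le_rfl
  | succ j ih =>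
    intro i
    rw [Subgroup.lowerCentralSeries_succ (⊤ : Subgroup G) j, Subgroup.commutator_comm]
    apply three_subgroups_normal'
    · rw [Subgroup.commutator_comm (⊤ : Subgroup G)]
      have h1 := ih (i + 1)
      rw [Subgroup.lowerCentralSeries_succ (⊤ : Subgroup G) i] at h1
      have : i + 1 + j + 1 = i + (j + 1) + 1 := by omega
      rw [this] at h1
      exact h1
    · have h2 := ih i
      have h3 := Subgroup.commutator_mono h2 (le_refl (⊤ : Subgroup G))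
      exact h3

/-- HP1a (1). -/
theorem lcs_comm_mem (i j : ℕ) : ∀ x ∈ (⊤ : Subgroup G).lowerCentralSeries i,
    ∀ y ∈ (⊤ : Subgroup G).lowerCentralSeries j,
      x * y * x⁻¹ * y⁻¹ ∈ (⊤ : Subgroup G).lowerCentralSeries (i + j + 1) := by
  intro x hx y hy
  exact lcs_comm_le j i (Subgroup.commutator_mem_commutator hx hy)

/-- elements of `γ d` are central modulo `γ (d+1)`. -/
theorem conj_comm_mem (d : ℕ) {u : G} (hu : u ∈ (⊤ : Subgroup G).lowerCentralSeries d) (g : G) :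
    g * u * g⁻¹ * u⁻¹ ∈ (⊤ : Subgroup G).lowerCentralSeries (d + 1) := by
  have h : u * g * u⁻¹ * g⁻¹ ∈ (⊤ : Subgroup G).lowerCentralSeries (d + 1) := by
    rw [Subgroup.lowerCentralSeries_succ]
    exact Subgroup.commutator_mem_commutator hu (Subgroup.mem_top g)
  have h2 := inv_mem h
  have e : (u * g * u⁻¹ * g⁻¹)⁻¹ = g * u * g⁻¹ * u⁻¹ := by group
  rwa [e] at h2

theorem central_mk (d : ℕ) {u : G} (hu : u ∈ (⊤ : Subgroup G).lowerCentralSeries d)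
    (q : G ⧸ (⊤ : Subgroup G).lowerCentralSeries (d + 1)) :
    q * (QuotientGroup.mk u : G ⧸ (⊤ : Subgroup G).lowerCentralSeries (d + 1)) =
      (QuotientGroup.mk u : G ⧸ (⊤ : Subgroup G).lowerCentralSeries (d + 1)) * q := by
  induction q using QuotientGroup.induction_on with
  | H g =>
    have h := conj_comm_mem d hu g
    rw [← QuotientGroup.eq_one_iff] at h
    simp only [QuotientGroup.mk_mul, QuotientGroup.mk_inv] at h
    set Q := G ⧸ (⊤ : Subgroup G).lowerCentralSeries (d + 1)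
    have : (QuotientGroup.mk g : Q) * QuotientGroup.mk u =
        ((QuotientGroup.mk g : Q) * QuotientGroup.mk u * (QuotientGroup.mk g : Q)⁻¹ *
          (QuotientGroup.mk u : Q)⁻¹) * (QuotientGroup.mk u * QuotientGroup.mk g) := by group
    rw [this, h, one_mul]

/-- HP1a (2). -/
theorem comm_mul_left_mem (i j : ℕ) : ∀ x ∈ (⊤ : Subgroup G).lowerCentralSeries i,
    ∀ x' ∈ (⊤ : Subgroup G).lowerCentralSeries i, ∀ y ∈ (⊤ : Subgroup G).lowerCentralSeries j,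
      ((x * x') * y * (x * x')⁻¹ * y⁻¹)⁻¹ * ((x * y * x⁻¹ * y⁻¹) * (x' * y * x'⁻¹ * y⁻¹)) ∈
        (⊤ : Subgroup G).lowerCentralSeries (i + j + 2) := by
  intro x hx x' hx' y hy
  have hu := lcs_comm_mem i j x' hx' y hy
  have hw := lcs_comm_mem i j x hx y hy
  have cU := central_mk (i + j + 1) hu
  have cW := central_mk (i + j + 1) hw
  rw [← QuotientGroup.eq_one_iff]
  simp only [QuotientGroup.mk_mul, QuotientGroup.mk_inv] at cU cW ⊢
  set X : G ⧸ (⊤ : Subgroup G).lowerCentralSeries (i + j + 1 + 1) := (QuotientGroup.mk x : G ⧸ (⊤ : Subgroup G).lowerCentralSeries (i + j + 1 + 1)) with hX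
  set X' : G ⧸ (⊤ : Subgroup G).lowerCentralSeries (i + j + 1 + 1) := (QuotientGroup.mk x' : G ⧸ (⊤ : Subgroup G).lowerCentralSeries (i + j + 1 + 1)) with hX'
  set Y : G ⧸ (⊤ : Subgroup G).lowerCentralSeries (i + j + 1 + 1) := (QuotientGroup.mk y : G ⧸ (⊤ : Subgroup G).lowerCentralSeries (i + j + 1 + 1)) with hY
  have key : X * X' * Y * (X * X')⁻¹ * Y⁻¹ =
      X * (X' * Y * X'⁻¹ * Y⁻¹) * X⁻¹ * (X * Y * X⁻¹ * Y⁻¹) := by group
  have e1 : X * (X' * Y * X'⁻¹ * Y⁻¹) * X⁻¹ = X' * Y * X'⁻¹ * Y⁻¹ := by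
    rw [cU X]; group
  rw [key, e1, cW (X' * Y * X'⁻¹ * Y⁻¹)]
  group

/-- HP1a (3). -/
theorem comm_mul_right_mem (i j : ℕ) : ∀ x ∈ (⊤ : Subgroup G).lowerCentralSeries i,
    ∀ y ∈ (⊤ : Subgroup G).lowerCentralSeries j, ∀ y' ∈ (⊤ : Subgroup G).lowerCentralSeries j,
      (x * (y * y') * x⁻¹ * (y * y')⁻¹)⁻¹ * ((x * y * x⁻¹ * y⁻¹) * (x * y' * x⁻¹ * y'⁻¹)) ∈
        (⊤ : Subgroup G).lowerCentralSeries (i + j + 2) := by
  intro x hx y hy y' hy'
  have hu := lcs_comm_mem i j x hx y' hy'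
  have cU := central_mk (i + j + 1) hu
  rw [← QuotientGroup.eq_one_iff]
  simp only [QuotientGroup.mk_mul, QuotientGroup.mk_inv] at cU ⊢
  set X : G ⧸ (⊤ : Subgroup G).lowerCentralSeries (i + j + 1 + 1) := (QuotientGroup.mk x : G ⧸ (⊤ : Subgroup G).lowerCentralSeries (i + j + 1 + 1)) with hX
  set Y' : G ⧸ (⊤ : Subgroup G).lowerCentralSeries (i + j + 1 + 1) := (QuotientGroup.mk y' : G ⧸ (⊤ : Subgroup G).lowerCentralSeries (i + j + 1 + 1)) with hY'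
  set Y : G ⧸ (⊤ : Subgroup G).lowerCentralSeries (i + j + 1 + 1) := (QuotientGroup.mk y : G ⧸ (⊤ : Subgroup G).lowerCentralSeries (i + j + 1 + 1)) with hY
  have key : X * (Y * Y') * X⁻¹ * (Y * Y')⁻¹ =
      (X * Y * X⁻¹ * Y⁻¹) * (Y * (X * Y' * X⁻¹ * Y'⁻¹) * Y⁻¹) := by group
  have e1 : Y * (X * Y' * X⁻¹ * Y'⁻¹) * Y⁻¹ = X * Y' * X⁻¹ * Y'⁻¹ := by
    rw [cU Y]; group
  rw [key, e1]
  group

/-- HP1a (4). -/
theorem comm_congr_left_mem (i j : ℕ) : ∀ x ∈ (⊤ : Subgroup G).lowerCentralSeries i,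
    ∀ a ∈ (⊤ : Subgroup G).lowerCentralSeries (i + 1), ∀ y ∈ (⊤ : Subgroup G).lowerCentralSeries j,
      ((x * a) * y * (x * a)⁻¹ * y⁻¹)⁻¹ * (x * y * x⁻¹ * y⁻¹) ∈
        (⊤ : Subgroup G).lowerCentralSeries (i + j + 2) := by
  intro x _ a ha y hy
  have hu := lcs_comm_mem (i + 1) j a ha y hy
  have e : i + 1 + j + 1 = i + j + 2 := by omega
  rw [e] at hu
  rw [← QuotientGroup.eq_one_iff] at hu ⊢
  simp only [QuotientGroup.mk_mul, QuotientGroup.mk_inv] at hu ⊢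
  set X : G ⧸ (⊤ : Subgroup G).lowerCentralSeries (i + j + 2) := (QuotientGroup.mk x : G ⧸ (⊤ : Subgroup G).lowerCentralSeries (i + j + 2)) with hX
  set A : G ⧸ (⊤ : Subgroup G).lowerCentralSeries (i + j + 2) := (QuotientGroup.mk a : G ⧸ (⊤ : Subgroup G).lowerCentralSeries (i + j + 2)) with hA
  set Y : G ⧸ (⊤ : Subgroup G).lowerCentralSeries (i + j + 2) := (QuotientGroup.mk y : G ⧸ (⊤ : Subgroup G).lowerCentralSeries (i + j + 2)) with hY
  have key : X * A * Y * (X * A)⁻¹ * Y⁻¹ =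
      X * (A * Y * A⁻¹ * Y⁻¹) * X⁻¹ * (X * Y * X⁻¹ * Y⁻¹) := by group
  rw [key, hu]
  group

/-- HP1a (5). -/
theorem comm_congr_right_mem (i j : ℕ) : ∀ x ∈ (⊤ : Subgroup G).lowerCentralSeries i,
    ∀ y ∈ (⊤ : Subgroup G).lowerCentralSeries j, ∀ b ∈ (⊤ : Subgroup G).lowerCentralSeries (j + 1),
      (x * (y * b) * x⁻¹ * (y * b)⁻¹)⁻¹ * (x * y * x⁻¹ * y⁻¹) ∈
        (⊤ : Subgroup G).lowerCentralSeries (i + j + 2) := by
  intro x hx y _ b hb
  have hu := lcs_comm_mem i (j + 1) x hx b hb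
  have e : i + (j + 1) + 1 = i + j + 2 := by omega
  rw [e] at hu
  rw [← QuotientGroup.eq_one_iff] at hu ⊢
  simp only [QuotientGroup.mk_mul, QuotientGroup.mk_inv] at hu ⊢
  set X : G ⧸ (⊤ : Subgroup G).lowerCentralSeries (i + j + 2) := (QuotientGroup.mk x : G ⧸ (⊤ : Subgroup G).lowerCentralSeries (i + j + 2)) with hX
  set B : G ⧸ (⊤ : Subgroup G).lowerCentralSeries (i + j + 2) := (QuotientGroup.mk b : G ⧸ (⊤ : Subgroup G).lowerCentralSeries (i + j + 2)) with hB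
  set Y : G ⧸ (⊤ : Subgroup G).lowerCentralSeries (i + j + 2) := (QuotientGroup.mk y : G ⧸ (⊤ : Subgroup G).lowerCentralSeries (i + j + 2)) with hY
  have key : X * (Y * B) * X⁻¹ * (Y * B)⁻¹ =
      (X * Y * X⁻¹ * Y⁻¹) * (Y * (X * B * X⁻¹ * B⁻¹) * Y⁻¹) := by group
  rw [key, hu]
  group

/-- the exact Hall–Witt identity for the convention `⁅a, b⁆ = a b a⁻¹ b⁻¹`. -/
theorem hall_witt_exact (x y z : G) :
    ((x * y * x⁻¹ * y⁻¹) * (y * z * y⁻¹) * (x * y * x⁻¹ * y⁻¹)⁻¹ * (y * z * y⁻¹)⁻¹) *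
    ((y * z * y⁻¹ * z⁻¹) * (z * x * z⁻¹) * (y * z * y⁻¹ * z⁻¹)⁻¹ * (z * x * z⁻¹)⁻¹) *
    ((z * x * z⁻¹ * x⁻¹) * (x * y * x⁻¹) * (z * x * z⁻¹ * x⁻¹)⁻¹ * (x * y * x⁻¹)⁻¹) = 1 := by
  group

/-- one Hall–Witt factor: `⁅⁅x,y⁆, y z y⁻¹⁆ ≡ ⁅⁅x,y⁆, z⁆` modulo `γ (i+j+k+3)`. -/
theorem hw_factor (i j k : ℕ) : ∀ x ∈ (⊤ : Subgroup G).lowerCentralSeries i,
    ∀ y ∈ (⊤ : Subgroup G).lowerCentralSeries j, ∀ z ∈ (⊤ : Subgroup G).lowerCentralSeries k,
      (((x * y * x⁻¹ * y⁻¹) * (y * z * y⁻¹) * (x * y * x⁻¹ * y⁻¹)⁻¹ * (y * z * y⁻¹)⁻¹ : G) :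
          G ⧸ (⊤ : Subgroup G).lowerCentralSeries (i + j + k + 3)) =
        (((x * y * x⁻¹ * y⁻¹) * z * (x * y * x⁻¹ * y⁻¹)⁻¹ * z⁻¹ : G) : G ⧸ _) := by
  intro x hx y hy z hz
  have hc := lcs_comm_mem i j x hx y hy
  -- b := z⁻¹ * ⁅y, z⁆ * z ∈ γ (k+1)
  have hyz : y * z * y⁻¹ * z⁻¹ ∈ (⊤ : Subgroup G).lowerCentralSeries (k + 1) := by
    have h := lcs_comm_mem j k y hy z hz
    exact Subgroup.lowerCentralSeries_antitone (⊤ : Subgroup G) (by omega : k + 1 ≤ j + k + 1) h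
  have hb : z⁻¹ * (y * z * y⁻¹ * z⁻¹) * z ∈ (⊤ : Subgroup G).lowerCentralSeries (k + 1) := by
    have := (lcs_normal (G := G) (k + 1)).conj_mem _ hyz z⁻¹
    simpa using this
  have h := comm_congr_right_mem (i + j + 1) k (x * y * x⁻¹ * y⁻¹) hc z hz _ hb
  have e : i + j + 1 + k + 2 = i + j + k + 3 := by omega
  rw [e] at h
  have e2 : z * (z⁻¹ * (y * z * y⁻¹ * z⁻¹) * z) = y * z * y⁻¹ := by group
  rw [e2] at h
  rw [← QuotientGroup.eq_one_iff] at h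
  rw [QuotientGroup.mk_mul, QuotientGroup.mk_inv, inv_mul_eq_one] at h
  exact h

/-- HP1a (6): Hall–Witt modulo `γ (i+j+k+3)`. -/
theorem hall_witt_mem (i j k : ℕ) : ∀ x ∈ (⊤ : Subgroup G).lowerCentralSeries i,
    ∀ y ∈ (⊤ : Subgroup G).lowerCentralSeries j, ∀ z ∈ (⊤ : Subgroup G).lowerCentralSeries k,
      ((x * y * x⁻¹ * y⁻¹) * z * (x * y * x⁻¹ * y⁻¹)⁻¹ * z⁻¹) *
      ((y * z * y⁻¹ * z⁻¹) * x * (y * z * y⁻¹ * z⁻¹)⁻¹ * x⁻¹) *
      ((z * x * z⁻¹ * x⁻¹) * y * (z * x * z⁻¹ * x⁻¹)⁻¹ * y⁻¹) ∈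
        (⊤ : Subgroup G).lowerCentralSeries (i + j + k + 3) := by
  intro x hx y hy z hz
  have h1 := hw_factor i j k x hx y hy z hz
  have h2 := hw_factor j k i y hy z hz x hx
  have h3 := hw_factor k i j z hz x hx y hy
  have e2 : j + k + i + 3 = i + j + k + 3 := by omega
  have e3 : k + i + j + 3 = i + j + k + 3 := by omega
  rw [e2] at h2
  rw [e3] at h3
  rw [← QuotientGroup.eq_one_iff, QuotientGroup.mk_mul, QuotientGroup.mk_mul, ← h1, ← h2, ← h3,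
    ← QuotientGroup.mk_mul, ← QuotientGroup.mk_mul, hall_witt_exact]
  rfl

end Cfsg.Agent.Lib.Helper8.HKKLeaf
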