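import Mathlib
import Cfsg.Agent.Lib.Helper8.TWS2ADefs

/-!
# S5668 (C7 symplectic) — STAGE II, CASE A: LEMMA A + LEMMA A' (helper8)

`lemmaAS`: an additive family `𝒯` stable under `slot l Sp(A)` containing a `Ψ` which is not trivial at `l`
contains a `Ψ₁ ≠ 0` with an `N`-type weight `N_z` (`Sym²` branch: some compression `N_z Ψ N_z ≠ 0`) or a
`Λ²`-type weight `w' ∧ w`, `⟨w, w'⟩` a t.i. plane (`Λ²` branch: all compressions vanish, i.e. all blocks are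
selfadjoint; `Ψ₁ = 4 [N_w', [N_w, Ψ]]`).  Only `c = ±1` transvections are used.
-/

set_option autoImplicit false
set_option linter.unusedSectionVars false
set_option linter.unusedVariables false

namespace Cfsg.Agent.Lib.Helper8.TWS2A
open Matrix Cfsg.Geo Cfsg.Agent.Lib.Helper18.AschA89 Cfsg.Agent.Lib.Helper8.TW
open Cfsg.Agent.Lib.Helper5.TWS Cfsg.Agent.Lib.Helper28.TWU2A
open Cfsg.Agent.Lib.Helper25.SpT (sf sfv)
open Cfsg.Agent.Lib.Helper29.TWSOne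

variable {F : Type*} [Field F] {t k : ℕ}

lemma slot_one_add (l : Fin t) (N : Matrix (Fin k) (Fin k) F) :
    slot k t l (1 + N) = 1 + slot k t l N := by
  rw [slot_add, slot_one]

lemma slot_one_sub (l : Fin t) (N : Matrix (Fin k) (Fin k) F) :
    slot k t l (1 - N) = 1 - slot k t l N := by
  rw [sub_eq_add_neg, ← neg_one_smul F N, slot_add, slot_one, slot_smul, neg_one_smul, ← sub_eq_add_neg]

/-- the two conjugates by `1 ± N_u` at slot `l` -/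
lemma conj_plus_mem (l : Fin t) (𝒯 : Matrix (Idx t k) (Idx t k) F → Prop) (h𝒯 : StableAtS l 𝒯)
    (Ψ : Matrix (Idx t k) (Idx t k) F) (hΨ : 𝒯 Ψ) (u : Fin k → F) :
    𝒯 ((1 + slot k t l (Nz u)) * Ψ * (1 - slot k t l (Nz u))) := by
  have h1 := h𝒯.conj (unip ((1 : F) • Nz u) (Nz_smul_sq u 1)) (unipNz_mem_GSA u 1) Ψ hΨ
  rw [unip_val, unip_inv_val, one_smul, slot_one_add, slot_one_sub] at h1
  exact h1

lemma conj_minus_mem (l : Fin t) (𝒯 : Matrix (Idx t k) (Idx t k) F → Prop) (h𝒯 : StableAtS l 𝒯)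
    (Ψ : Matrix (Idx t k) (Idx t k) F) (hΨ : 𝒯 Ψ) (u : Fin k → F) :
    𝒯 ((1 - slot k t l (Nz u)) * Ψ * (1 + slot k t l (Nz u))) := by
  have h1 := h𝒯.conj (unip ((-1 : F) • Nz u) (Nz_smul_sq u (-1))) (unipNz_mem_GSA u (-1)) Ψ hΨ
  rw [unip_val, unip_inv_val, neg_one_smul, sub_neg_eq_add, ← sub_eq_add_neg, slot_one_add, slot_one_sub] at h1
  exact h1

/-- `-2 n Ψ n ∈ 𝒯` -/
lemma compress_mem2 (l : Fin t) (𝒯 : Matrix (Idx t k) (Idx t k) F → Prop) (h𝒯 : StableAtS l 𝒯)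
    (Ψ : Matrix (Idx t k) (Idx t k) F) (hΨ : 𝒯 Ψ) (u : Fin k → F) :
    𝒯 (-(slot k t l (Nz u) * Ψ * slot k t l (Nz u) + slot k t l (Nz u) * Ψ * slot k t l (Nz u))) := by
  have h1 := h𝒯.add _ _ (h𝒯.add _ _ (h𝒯.add _ _ (conj_plus_mem l 𝒯 h𝒯 Ψ hΨ u) (conj_minus_mem l 𝒯 h𝒯 Ψ hΨ u))
    (h𝒯.neg _ hΨ)) (h𝒯.neg _ hΨ)
  rw [conj_pm_add] at h1
  exact h1

/-- `2 [n, Ψ] ∈ 𝒯` -/
lemma bracket_mem2 (l : Fin t) (𝒯 : Matrix (Idx t k) (Idx t k) F → Prop) (h𝒯 : StableAtS l 𝒯)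
    (Ψ : Matrix (Idx t k) (Idx t k) F) (hΨ : 𝒯 Ψ) (u : Fin k → F) :
    𝒯 ((slot k t l (Nz u) * Ψ - Ψ * slot k t l (Nz u)) + (slot k t l (Nz u) * Ψ - Ψ * slot k t l (Nz u))) := by
  have h1 := h𝒯.add _ _ (conj_plus_mem l 𝒯 h𝒯 Ψ hΨ u) (h𝒯.neg _ (conj_minus_mem l 𝒯 h𝒯 Ψ hΨ u))
  rw [conj_pm_sub] at h1
  exact h1

lemma Nz_ne_zero (hk : Even k) {z : Fin k → F} (hz : z ≠ 0) : Nz z ≠ 0 := by
  intro h
  obtain ⟨a, ha⟩ := Cfsg.Agent.Lib.Helper25.SpT.exists_sf_ne_zero hk hz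
  have ha' : sf a z ≠ 0 := by
    rw [Cfsg.Agent.Lib.Helper25.SpT.sf_skew]; exact neg_ne_zero.2 ha
  have h1 : Nz z *ᵥ a = 0 := by rw [h, Matrix.zero_mulVec]
  rw [dy_mulVec] at h1
  rcases smul_eq_zero.1 h1 with h3 | h3
  · exact ha' h3
  · exact hz h3

/-- nondegeneracy in the second argument -/
lemma eq_zero_of_forall_sf (hk : Even k) {x : Fin k → F} (h : ∀ v, sf v x = 0) : x = 0 := by
  by_contra hx
  obtain ⟨a, ha⟩ := Cfsg.Agent.Lib.Helper25.SpT.exists_sf_ne_zero hk hx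
  apply ha
  rw [Cfsg.Agent.Lib.Helper25.SpT.sf_skew, h a, neg_zero]

/-- `η ∉ F w` is seen by some `w' ⟂ w` -/
lemma exists_perp_sf_ne_zero (hk : Even k) {w η : Fin k → F} (hw : w ≠ 0) (hη : ¬ ∃ c : F, η = c • w) :
    ∃ w' : Fin k → F, sf w' w = 0 ∧ sf w' η ≠ 0 := by
  by_contra hcon
  push Not at hcon
  obtain ⟨a, ha⟩ := Cfsg.Agent.Lib.Helper25.SpT.exists_sf_ne_zero hk hw
  have ha' : sf a w ≠ 0 := by
    rw [Cfsg.Agent.Lib.Helper25.SpT.sf_skew]; exact neg_ne_zero.2 ha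
  apply hη
  refine ⟨(sf a w)⁻¹ * sf a η, ?_⟩
  have key : ∀ v, sf v (η - ((sf a w)⁻¹ * sf a η) • w) = 0 := by
    intro v
    have h1 : sf (v - (sf v w * (sf a w)⁻¹) • a) w = 0 := by
      rw [Cfsg.Agent.Lib.Helper25.SpT.sf_sub_left, Cfsg.Agent.Lib.Helper25.SpT.sf_smul_left,
        mul_assoc, inv_mul_cancel₀ ha', mul_one, sub_self]
    have h2 := hcon _ h1
    rw [Cfsg.Agent.Lib.Helper25.SpT.sf_sub_left, Cfsg.Agent.Lib.Helper25.SpT.sf_smul_left] at h2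
    rw [Cfsg.Agent.Lib.Helper25.SpT.sf_sub_right, Cfsg.Agent.Lib.Helper25.SpT.sf_smul_right]
    linear_combination h2
  exact sub_eq_zero.1 (eq_zero_of_forall_sf hk key)

/-- **Lemma A + Lemma A'** -/
theorem lemmaAS (h2 : (2 : F) ≠ 0) (hk : Even k) (l : Fin t) (𝒯 : Matrix (Idx t k) (Idx t k) F → Prop)
    (h𝒯 : StableAtS l 𝒯) (Ψ : Matrix (Idx t k) (Idx t k) F) (hΨ : 𝒯 Ψ) (hnt : ¬ Triv l Ψ) :
    ∃ (w : Matrix (Fin k) (Fin k) F) (Ψ₁ : Matrix (Idx t k) (Idx t k) F),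
      (IsNW w ∨ IsLW w) ∧ 𝒯 Ψ₁ ∧ Ψ₁ ≠ 0 ∧ WForm l w Ψ₁ := by
  by_cases hcomp : ∃ z : Fin k → F, slot k t l (Nz z) * Ψ * slot k t l (Nz z) ≠ 0
  · -- the `Sym²` branch
    obtain ⟨z, hz⟩ := hcomp
    have hz0 : z ≠ 0 := by
      rintro rfl
      apply hz
      have : Nz (0 : Fin k → F) = 0 := by
        ext a b; simp [dy_apply]
      rw [this, slot_zero, zero_mul, zero_mul]
    refine ⟨Nz z, _, Or.inl ⟨z, hz0, rfl⟩, compress_mem2 l 𝒯 h𝒯 Ψ hΨ z, ?_, ?_⟩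
    · intro h
      apply hz
      have h3 : (2 : F) • (slot k t l (Nz z) * Ψ * slot k t l (Nz z)) = 0 := by
        rw [two_smul]; exact neg_eq_zero.1 h
      rcases smul_eq_zero.1 h3 with h4 | h4
      · exact absurd h4 h2
      · exact h4
    · apply wform_of_blk
      intro p p'
      refine ⟨-(sf (blk l Ψ p p' *ᵥ z) z + sf (blk l Ψ p p' *ᵥ z) z), ?_⟩
      rw [blk_neg, blk_add, blk_mul_slot, blk_slot_mul, Nz_mul_mul_Nz, neg_smul, add_smul]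
  · -- the `Λ²` branch
    push Not at hcomp
    have hsa : ∀ p p', SelfAdj (blk l Ψ p p') := by
      intro p p'
      rw [selfAdj_iff_forall_sf_self h2]
      intro z
      by_cases hz : z = 0
      · rw [hz, Matrix.mulVec_zero]; exact Cfsg.Agent.Lib.Helper25.SpT.sf_zero_left _
      have h1 : blk l (slot k t l (Nz z) * Ψ * slot k t l (Nz z)) p p' = 0 := by
        rw [hcomp z]; rfl
      rw [blk_mul_slot, blk_slot_mul, Nz_mul_mul_Nz] at h1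
      rcases smul_eq_zero.1 h1 with h3 | h3
      · exact h3
      · exact absurd h3 (Nz_ne_zero hk hz)
    obtain ⟨p₀, p₀', hB₀⟩ := exists_blk_not_scalar l Ψ hnt
    obtain ⟨w, hw0, hwη, -⟩ := exists_wedge_ne_zero hk (blk l Ψ p₀ p₀') hB₀
    obtain ⟨w', hw'w, hw'η⟩ := exists_perp_sf_ne_zero hk hw0 hwη
    have hw'0 : w' ≠ 0 := by
      rintro rfl
      exact hw'η (Cfsg.Agent.Lib.Helper25.SpT.sf_zero_left _)
    have hind : ¬ ∃ c : F, w = c • w' := by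
      rintro ⟨c, hc⟩
      apply hw'η
      have h1 : sf (blk l Ψ p₀ p₀' *ᵥ w') w' = 0 := (selfAdj_iff_forall_sf_self h2 _).1 (hsa p₀ p₀') w'
      rw [hc, Matrix.mulVec_smul, Cfsg.Agent.Lib.Helper25.SpT.sf_smul_right,
        Cfsg.Agent.Lib.Helper25.SpT.sf_skew, h1, neg_zero, mul_zero]
    set Ψ' := (slot k t l (Nz w) * Ψ - Ψ * slot k t l (Nz w)) + (slot k t l (Nz w) * Ψ - Ψ * slot k t l (Nz w))
      with hΨ'
    have hΨ'mem : 𝒯 Ψ' := bracket_mem2 l 𝒯 h𝒯 Ψ hΨ w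
    set Ψ'' := (slot k t l (Nz w') * Ψ' - Ψ' * slot k t l (Nz w')) +
      (slot k t l (Nz w') * Ψ' - Ψ' * slot k t l (Nz w')) with hΨ''
    have hΨ''mem : 𝒯 Ψ'' := bracket_mem2 l 𝒯 h𝒯 Ψ' hΨ'mem w'
    have hblk' : ∀ p p', blk l Ψ' p p' =
        wedge w (blk l Ψ p p' *ᵥ w) + wedge w (blk l Ψ p p' *ᵥ w) := by
      intro p p'
      rw [hΨ', blk_add, blk_sub, blk_slot_mul, blk_mul_slot, comm_Nz_selfAdj (hsa p p') w]
    have hblk'' : ∀ p p', blk l Ψ'' p p' =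
        ((2 : F) * 2 * sf w' (blk l Ψ p p' *ᵥ w)) • wedge w' w := by
      intro p p'
      rw [hΨ'', blk_add, blk_sub, blk_slot_mul, blk_mul_slot, hblk' p p']
      have e : Nz w' * (wedge w (blk l Ψ p p' *ᵥ w) + wedge w (blk l Ψ p p' *ᵥ w)) -
          (wedge w (blk l Ψ p p' *ᵥ w) + wedge w (blk l Ψ p p' *ᵥ w)) * Nz w' =
          (Nz w' * wedge w (blk l Ψ p p' *ᵥ w) - wedge w (blk l Ψ p p' *ᵥ w) * Nz w') +
          (Nz w' * wedge w (blk l Ψ p p' *ᵥ w) - wedge w (blk l Ψ p p' *ᵥ w) * Nz w') := by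
        noncomm_ring
      rw [e, comm_Nz_wedge_of_perp hw'w]
      module
    refine ⟨wedge w' w, Ψ'', Or.inr ⟨w', w, hw'0, hw'w, hind, rfl⟩, hΨ''mem, ?_, ?_⟩
    · intro h
      have h1 : blk l Ψ'' p₀ p₀' = 0 := by rw [h]; rfl
      rw [hblk''] at h1
      rcases smul_eq_zero.1 h1 with h3 | h3
      · rcases mul_eq_zero.1 h3 with h4 | h4
        · rcases mul_eq_zero.1 h4 with h5 | h5 <;> exact h2 h5
        · exact hw'η h4
      · exact wedge_ne_zero hk hw'0 hind h3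
    · apply wform_of_blk
      intro p p'
      exact ⟨_, hblk'' p p'⟩

end Cfsg.Agent.Lib.Helper8.TWS2A
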