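import Mathlib
import Cfsg.Prelude.Def_LocalEven
import Cfsg.Prelude.Def_PLocal

/-!
Helper lemmas (helper8): a chief factor `X/Y` with `X` a `p`-group is elementary abelian.
-/

set_option autoImplicit false
set_option linter.style.haveILetI false

namespace Cfsg.Agent.Lib.Helper8.TraceArg

open scoped commutatorElement

section chief
variable {G : Type*} [Group G] [Finite G] {p : ℕ} [Fact p.Prime]

/-- a chief factor `X/Y` with `X` a `p`-group is abelian -/
theorem commutator_le_of_chief {X Y : Subgroup G} (hchief : Cfsg.IsChiefFactor X Y)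
    (hXp : IsPGroup p X) : ⁅X, X⁆ ≤ Y := by
  obtain ⟨hYX, hXn, hYn, hmin⟩ := hchief
  haveI := hXn
  haveI := hYn
  have hNn : (⁅X, X⁆ ⊔ Y).Normal := inferInstance
  have hle : ⁅X, X⁆ ⊔ Y ≤ X := sup_le (Subgroup.commutator_le_left X X) hYX.le
  rcases hmin _ hNn le_sup_right hle with h | h
  · rw [← h]; exact le_sup_left
  · exfalso
    set Y' := Y.subgroupOf X with hY'
    haveI : Y'.Normal := inferInstance
    have hY'top : Y' ≠ ⊤ := by
      intro htop
      rw [hY', Subgroup.subgroupOf_eq_top] at htop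
      exact lt_irrefl _ (lt_of_lt_of_le hYX htop)
    have hpq : IsPGroup p (↥X ⧸ Y') := hXp.to_quotient Y'
    haveI : Nontrivial (↥X ⧸ Y') := by
      rw [← Finite.one_lt_card_iff_nontrivial, ← Subgroup.index_eq_card]
      have h1 : Y'.index ≠ 1 := fun h1 => hY'top (Subgroup.index_eq_one.mp h1)
      have h0 : Y'.index ≠ 0 := Subgroup.index_ne_zero_of_finite
      omega
    haveI : Group.IsNilpotent (↥X ⧸ Y') := hpq.isNilpotent
    have hlt := Group.IsSolvable.commutator_lt_top_of_nontrivial (↥X ⧸ Y')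
    apply ne_of_lt hlt
    -- the commutator of the quotient is everything
    have h1 : (commutator ↥X).map X.subtype = ⁅X, X⁆ := by
      rw [commutator_def, Subgroup.map_commutator, ← MonoidHom.range_eq_map, Subgroup.range_subtype]
    have h2 : commutator ↥X ⊔ Y' = ⊤ := by
      rw [eq_top_iff]
      intro v _
      have hv : (v : G) ∈ ⁅X, X⁆ ⊔ Y := by rw [h]; exact v.2
      rw [← h1] at hv
      have h3 : (v : G) ∈ (commutator ↥X ⊔ Y').map X.subtype := by
        rw [Subgroup.map_sup, hY', Subgroup.subgroupOf_map_subtype, inf_eq_left.mpr hYX.le]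
        exact hv
      obtain ⟨w, hw, hwv⟩ := h3
      have : w = v := Subtype.ext hwv
      rw [← this]; exact hw
    have h4 : (commutator ↥X).map (QuotientGroup.mk' Y') = commutator (↥X ⧸ Y') := by
      rw [commutator_def, commutator_def, Subgroup.map_commutator,
        Subgroup.map_top_of_surjective _ (QuotientGroup.mk'_surjective Y')]
    rw [← h4]
    have h5 : (commutator ↥X ⊔ Y').map (QuotientGroup.mk' Y') = ⊤ := by
      rw [h2, Subgroup.map_top_of_surjective _ (QuotientGroup.mk'_surjective Y')]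
    rw [Subgroup.map_sup] at h5
    have h6 : Y'.map (QuotientGroup.mk' Y') = ⊥ := QuotientGroup.map_mk'_self Y'
    rw [h6, sup_bot_eq] at h5
    exact h5

/-- `p`-th powers of a chief factor `X/Y` with `X` a `p`-group are trivial. -/
theorem pow_mem_of_chief' {X Y : Subgroup G} (hchief : Cfsg.IsChiefFactor X Y)
    (hXp : IsPGroup p X) : ∀ v ∈ X, v ^ p ∈ Y := by
  classical
  have hcomm := commutator_le_of_chief hchief hXp
  obtain ⟨hYX, hXn, hYn, hmin⟩ := hchief
  have hprod : ∀ a ∈ X, ∀ b ∈ X, ∀ n : ℕ, (a * b) ^ n * ((a ^ n * b ^ n)⁻¹) ∈ Y := by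
    intro a ha b hb n
    set Y' := Y.subgroupOf X with hY'
    haveI : Y'.Normal := by rw [hY']; haveI := hYn; infer_instance
    let π := QuotientGroup.mk' Y'
    have hc : Commute (π ⟨a, ha⟩) (π ⟨b, hb⟩) := by
      show π ⟨a, ha⟩ * π ⟨b, hb⟩ = π ⟨b, hb⟩ * π ⟨a, ha⟩
      rw [← map_mul, ← map_mul]
      apply (QuotientGroup.eq).mpr
      rw [hY', Subgroup.mem_subgroupOf]
      have e : (((⟨a, ha⟩ * ⟨b, hb⟩ : ↥X)⁻¹ * (⟨b, hb⟩ * ⟨a, ha⟩) : ↥X) : G) = ⁅b⁻¹, a⁻¹⁆ := by
        rw [commutatorElement_def]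
        simp only [Subgroup.coe_mul, Subgroup.coe_inv]
        group
      rw [e]
      exact hcomm (Subgroup.commutator_mem_commutator (X.inv_mem hb) (X.inv_mem ha))
    have h1 : π (((⟨a, ha⟩ * ⟨b, hb⟩ : ↥X)) ^ n * ((⟨a, ha⟩ ^ n * ⟨b, hb⟩ ^ n : ↥X))⁻¹) = 1 := by
      rw [map_mul, map_inv, map_pow, map_mul, map_mul, map_pow, map_pow, hc.mul_pow, mul_inv_cancel]
    have h2 := (QuotientGroup.eq_one_iff _).mp h1
    rw [hY', Subgroup.mem_subgroupOf] at h2
    simpa using h2
  let N : Subgroup G :=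
    { carrier := {v | v ∈ X ∧ v ^ p ∈ Y}
      mul_mem' := by
        rintro a b ⟨ha, hap⟩ ⟨hb, hbp⟩
        refine ⟨X.mul_mem ha hb, ?_⟩
        have h1 := hprod a ha b hb p
        have h2 : (a * b) ^ p = ((a * b) ^ p * (a ^ p * b ^ p)⁻¹) * (a ^ p * b ^ p) := by group
        rw [h2]
        exact Y.mul_mem h1 (Y.mul_mem hap hbp)
      one_mem' := ⟨X.one_mem, by rw [one_pow]; exact Y.one_mem⟩
      inv_mem' := by
        rintro a ⟨ha, hap⟩
        refine ⟨X.inv_mem ha, ?_⟩
        rw [inv_pow]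
        exact Y.inv_mem hap }
  have hNmem : ∀ v, v ∈ N ↔ v ∈ X ∧ v ^ p ∈ Y := fun v => Iff.rfl
  have hNn : N.Normal := by
    constructor
    intro v hv l
    rw [hNmem] at hv ⊢
    refine ⟨hXn.conj_mem v hv.1 l, ?_⟩
    rw [conj_pow]
    exact hYn.conj_mem _ hv.2 l
  have hYN : Y ≤ N := fun v hv => (hNmem v).mpr ⟨hYX.le hv, Y.pow_mem hv p⟩
  have hNX : N ≤ X := fun v hv => ((hNmem v).mp hv).1
  rcases hmin N hNn hYN hNX with h | h
  · exfalso
    obtain ⟨v, hvX, hvY⟩ := SetLike.exists_of_lt hYX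
    obtain ⟨k, hk⟩ := hXp ⟨v, hvX⟩
    have hk' : v ^ (p ^ k) = 1 := by
      have := congrArg Subtype.val hk
      simpa using this
    have hex : ∃ k, v ^ (p ^ k) ∈ Y := ⟨k, by rw [hk']; exact Y.one_mem⟩
    have h0 : Nat.find hex ≠ 0 := by
      intro h0
      have := Nat.find_spec hex
      rw [h0, pow_zero, pow_one] at this
      exact hvY this
    obtain ⟨k', hk'⟩ := Nat.exists_eq_succ_of_ne_zero h0
    have hw : v ^ (p ^ k') ∉ Y := Nat.find_min hex (by omega)
    apply hw
    rw [← h, hNmem]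
    refine ⟨X.pow_mem hvX _, ?_⟩
    have := Nat.find_spec hex
    rw [hk', pow_succ, pow_mul] at this
    exact this
  · intro v hv
    have : v ∈ N := by rw [h]; exact hv
    exact ((hNmem v).mp this).2


end chief

end Cfsg.Agent.Lib.Helper8.TraceArg
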