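import Mathlib
import Cfsg.Agent.Lib.Helper13.DkMax

/-!
helper8: BQ-CARD7 (S4501 market, planner helper4): `|PSL(2, ZMod 7)| = 168`.
-/

set_option autoImplicit false

namespace Cfsg.Agent.Lib.Helper8.BQCARD7

/-- BQ-CARD7. -/
theorem card_psl_seven : Nat.card (Matrix.ProjectiveSpecialLinearGroup (Fin 2) (ZMod 7)) = 168 := by
  have : Fact (Nat.Prime 7) := ⟨by norm_num⟩
  have h := Cfsg.Agent.Lib.Helper13.Dk.card_PSL2_mul_gcd (K := ZMod 7)
  rw [ZMod.card] at h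
  have h2 : Nat.gcd 2 (7 - 1) = 2 := by decide
  rw [h2] at h
  omega

end Cfsg.Agent.Lib.Helper8.BQCARD7
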