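import Mathlib
import Cfsg.Agent.Lib.Helper13.DkMax
import Cfsg.Agent.S0253
import Cfsg.Agent.S0495

/-!
helper8: BQ-ISO (S4501 market, planner helper4): `PSL2(F)`, `|F| = 5` is `A5`; `|F| = 7` is `PSL2(ZMod 7)`.
-/

set_option autoImplicit false

namespace Cfsg.Agent.Lib.Helper8.BQISO

universe u

variable {G : Type u} [Group G] [Finite G]

/-- BQ-ISO. -/
theorem iso_of_psl [IsSimpleGroup G]
    (h : (∃ (F : Type) (_ : Field F) (_ : Fintype F), Fintype.card F = 5 ∧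
        Nonempty (G ≃* Matrix.ProjectiveSpecialLinearGroup (Fin 2) F)) ∨
      (∃ (F : Type) (_ : Field F) (_ : Fintype F), Fintype.card F = 7 ∧
        Nonempty (G ≃* Matrix.ProjectiveSpecialLinearGroup (Fin 2) F))) :
    Nonempty (G ≃* alternatingGroup (Fin 5)) ∨
      Nonempty (G ≃* Matrix.ProjectiveSpecialLinearGroup (Fin 2) (ZMod 7)) := by
  rcases h with ⟨F, _, _, hF, ⟨e⟩⟩ | ⟨F, _, _, hF, ⟨e⟩⟩
  · left
    obtain ⟨e'⟩ := Cfsg.Agent.S0253.result (F := F) hF
    exact ⟨e.trans e'⟩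
  · right
    have hc := Cfsg.Agent.Lib.Helper13.Dk.card_PSL2_mul_gcd (K := F)
    rw [hF] at hc
    have h2 : Nat.gcd 2 (7 - 1) = 2 := by decide
    rw [h2] at hc
    have hG : Nat.card G = 168 := by
      rw [Nat.card_congr e.toEquiv]
      omega
    have : Fact (Nat.Prime 7) := ⟨by norm_num⟩
    exact Cfsg.Agent.S0495.result hG (F := ZMod 7) (ZMod.card 7)

end Cfsg.Agent.Lib.Helper8.BQISO
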