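import Mathlib
import Cfsg.Prelude.Def_OddOrderLocal
import Cfsg.Agent.Lib.Helper8.BG76
import Cfsg.Agent.Lib.Helper8.Transitivity
import Cfsg.Agent.Lib.Helper8.Hyperplane
import Cfsg.Agent.Lib.Helper8.SylIn
import Cfsg.Agent.Lib.Helper16.StronglyEmbedded

/-!
# Thompson's transitivity theorem (odd `p`, solvable `p`-locals)
-/

set_option autoImplicit false

namespace Cfsg.Agent.Lib.Helper8.ThompsonTrans

open Subgroup

variable {G : Type*} [Group G]

/-- Invariant `p'`-subgroups of a solvable subgroup `H ≥ A` lie in `O_{p'}(H)`. -/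
theorem le_map_pPrimeCore [Finite G] {p : ℕ} [hpf : Fact p.Prime] (hp2 : p ≠ 2)
    {A : Subgroup G} (hAp : IsPGroup p ↥A)
    (hΩ : ∀ x ∈ centralizer (A : Set G), orderOf x = p → x ∈ A)
    {H : Subgroup G} (hHs : Group.IsSolvable ↥H) (hAH : A ≤ H) {Y : Subgroup G} (hYH : Y ≤ H)
    (hYp : ¬ p ∣ Nat.card ↥Y) (hAY : A ≤ normalizer (Y : Set G)) :
    Y ≤ (Cfsg.pPrimeCore p ↥H).map H.subtype := by
  have hpp : p.Prime := hpf.out
  have hXc : Cfsg.IsPConstrained p ↥H := by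
    obtain ⟨P⟩ : Nonempty (Sylow p ↥(Cfsg.pPrimePCore p ↥H)) := inferInstance
    apply Cfsg.Agent.Lib.Helper9.isPConstrained_of_isPSolvable_centralizer p P
    apply Cfsg.Agent.Lib.Helper25.isPSolvable_of_isSolvable' p hpp
    infer_instance
  have hAp' : IsPGroup p ↥(A.subgroupOf H) := hAp.comap_subtype
  have hΩ' : ∀ x ∈ centralizer ((A.subgroupOf H : Subgroup ↥H) : Set ↥H),
      orderOf x = p → x ∈ A.subgroupOf H := by
    intro x hx hox
    rw [Subgroup.mem_subgroupOf]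
    apply hΩ
    · rw [Subgroup.mem_centralizer_iff]
      intro a ha
      have h1 := Subgroup.mem_centralizer_iff.mp hx ⟨a, hAH ha⟩ (Subgroup.mem_subgroupOf.mpr ha)
      exact congrArg Subtype.val h1
    · rw [Subgroup.orderOf_coe]
      exact hox
  have hcardY : Nat.card ↥(Y.subgroupOf H) = Nat.card ↥Y :=
    Nat.card_congr (Subgroup.subgroupOfEquivOfLe hYH).toEquiv
  have hQ' : ¬ p ∣ Nat.card ↥(Y.subgroupOf H) := by
    rw [hcardY]; exact hYp
  have hAQ' : A.subgroupOf H ≤ normalizer ((Y.subgroupOf H : Subgroup ↥H) : Set ↥H) := by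
    intro a ha
    rw [Subgroup.mem_normalizer_iff]
    intro y
    have h1 := Subgroup.mem_normalizer_iff.mp (hAY (Subgroup.mem_subgroupOf.mp ha)) (y : G)
    simp only [Subgroup.mem_subgroupOf]
    exact h1
  have hmain := Cfsg.Agent.Lib.Helper8.InvPPrime.le_pPrimeCore_of_invariant p hp2 hXc
    (A.subgroupOf H) hAp' hΩ' (Y.subgroupOf H) hQ' hAQ'
  have h2 := Subgroup.map_mono (f := H.subtype) hmain
  rwa [Subgroup.map_subgroupOf_eq_of_le hYH] at h2

/-- `θ(a) = O_{p'}(C_G(a))`. -/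
def thetaP (p : ℕ) (a : G) : Subgroup G :=
  (Cfsg.pPrimeCore p ↥(centralizer ({a} : Set G))).map (centralizer ({a} : Set G)).subtype

theorem thetaP_le (p : ℕ) (a : G) : thetaP p a ≤ centralizer ({a} : Set G) :=
  Subgroup.map_subtype_le _

theorem thetaP_not_dvd [Finite G] (p : ℕ) [hpf : Fact p.Prime] (a : G) :
    ¬ p ∣ Nat.card ↥(thetaP p a) := by
  unfold thetaP
  rw [Subgroup.card_map_of_injective (Subgroup.subtype_injective _)]
  have hcop : (Nat.card ↥(Cfsg.pPrimeCore p ↥(centralizer ({a} : Set G)))).Coprime p :=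
    Cfsg.Agent.Lib.Helper12.pPrimeCore_coprime p
  exact (Nat.Prime.coprime_iff_not_dvd hpf.out).mp hcop.symm

theorem thetaP_conj (p : ℕ) (a : G) {g : G} (hg : g ∈ centralizer ({a} : Set G)) {x : G}
    (hx : x ∈ thetaP p a) : g * x * g⁻¹ ∈ thetaP p a := by
  obtain ⟨x', hx', rfl⟩ := hx
  haveI : (Cfsg.pPrimeCore p ↥(centralizer ({a} : Set G))).Normal :=
    Cfsg.Agent.Lib.Helper24.pPrimeCore_normal' p
  exact ⟨⟨g, hg⟩ * x' * ⟨g, hg⟩⁻¹, ‹(Cfsg.pPrimeCore p _).Normal›.conj_mem x' hx' ⟨g, hg⟩, rfl⟩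

/-- Two Sylow subgroups (in the `IsSylIn` sense) of `L` are conjugate in `L`. -/
theorem exists_conj_isSylIn [Finite G] {p : ℕ} [Fact p.Prime] {S T L : Subgroup G}
    (hS : IsSylIn p S L) (hTL : T ≤ L) (hT : IsPGroup p ↥T) :
    ∃ g ∈ L, ∀ t ∈ T, g * t * g⁻¹ ∈ S := by
  have hT' : IsPGroup p ↥(T.subgroupOf L) := hT.comap_subtype
  obtain ⟨Q, hQ⟩ := hT'.exists_le_sylow
  obtain ⟨g, hg⟩ := MulAction.exists_smul_eq ↥L Q hS.toSylow
  refine ⟨g, g.2, fun t ht => ?_⟩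
  have h1 : (⟨t, hTL ht⟩ : ↥L) ∈ (Q : Subgroup ↥L) := hQ (Subgroup.mem_subgroupOf.mpr ht)
  have h2 : g * ⟨t, hTL ht⟩ * g⁻¹ ∈ ((g • Q : Sylow p ↥L) : Subgroup ↥L) := by
    rw [Sylow.coe_subgroup_smul]
    have := Subgroup.smul_mem_pointwise_smul (⟨t, hTL ht⟩ : ↥L) (MulAut.conj g) (Q : Subgroup ↥L) h1
    simpa [MulAut.smul_def] using this
  rw [hg] at h2
  have h3 : ((g * ⟨t, hTL ht⟩ * g⁻¹ : ↥L) : G) ∈
      ((hS.toSylow : Sylow p ↥L) : Subgroup ↥L).map L.subtype := ⟨_, h2, rfl⟩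
  rw [hS.toSylow_map] at h3
  exact h3

end Cfsg.Agent.Lib.Helper8.ThompsonTrans
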