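import Mathlib
import Cfsg.Agent.Lib.Helper11.T23UDefs
import Cfsg.Agent.Lib.Helper11.C4UBasic
import Cfsg.Agent.Lib.Helper18.C4UN5S
import Cfsg.Agent.Lib.Helper14.U23Q2
import Cfsg.Agent.Lib.Helper9.U23Bridge
import Cfsg.Agent.Lib.Helper17.U23Tri
import Cfsg.Agent.Lib.Helper24.U23GC

/-!
# S5801 conjunct (8) `GU_2(3) ⊗ GU_3(3) < SU_6(3)`: the `q = 3` assembly (core, explicit hypotheses)

Route: notes/S5801_C4_q3_route_helper18.md.  `no_nonopp_q3_of` proves the interface `hNO` of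
`Helper11.T23UMain.model_of_NO` at `card F = 9` for one isotropic `x`, from

* `hL1`  : (L1) `Stab_M(x ⊗ B) ≤ KG`;
* `hTW`  : the twist at `ρ = -1` (`exists_x0` + leaf TW);
* `hB`   : `block_of_meet_two` (Step A/B structure: `R'' = x ⊗ d^⊥ + x₂ ⊗ d`, `u''` block diagonal);
* `hE`   : the endgame lemma (E) `T1U_of_slice`;
* `hQ4`  : Step C (`dim W = 1 ⟹` an element of `H` with `dim (R'' ∩ h R'') = 2`).

Wired leaves already on main: `Helper18.C4UN5.nonopp_shape` (Step A), `Helper14.U23Q2.slice_of_block` (Step B),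
`Helper9.U23Bridge.T1U'_of_T1U_23`, `Helper17.U23Tri.hNO_of_GB_GC`, `Helper24.U23GC`.
-/

set_option autoImplicit false
set_option linter.unusedSectionVars false
set_option linter.unusedVariables false

namespace Cfsg.Agent.Lib.Helper8.U23Q3
open Matrix Module
open Cfsg.Agent.Lib.Helper25.Tens Cfsg.Agent.Lib.Helper25.TensLeaf
open Cfsg.Agent.Lib.Helper20.UT Cfsg.Agent.Lib.Helper5.UTG Cfsg.Agent.Lib.Helper11.T23U

variable {F : Type*} [Field F] [Fintype F] {M : Subgroup (GL (Idx 2 3) F)}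

/-- in a field with nine elements `-1 ≠ 1` -/
lemma neg_one_ne_one_nine (hF : Fintype.card F = 3 ^ 2) : (-1 : F) ≠ 1 := by
  intro h
  have h3 : (3 : F) = 0 := Cfsg.Agent.Lib.Helper14.U23Q2.three_eq_zero hF
  have h2 : (2 : F) = 0 := by linear_combination -h
  have h1 : (1 : F) = 0 := by linear_combination h3 - h2
  exact one_ne_zero h1

/-- the shape of a non-opposite pair `(R_x, g R_x)`: **Step A** wrapped on the twist at `-1` -/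
theorem shape_of_nonopp (h : MC 3 M) {x : Fin 2 → F} (hx0 : x ≠ 0) (hx : hv 3 x x = 0)
    (hL1 : ∀ m ∈ M, m ∈ StabA (b := 3) x → m ∈ KG 2 3 F)
    {g : GL (Idx 2 3) F} (hg : g ∈ M)
    (hTW : ∃ T ∈ M, (∀ v ∈ FibA (b := 3) x ⊓ mvS g (FibA (b := 3) x), mv T v = v) ∧
      ∀ v ∈ FibA (b := 3) x, mv T v - (-1 : F)⁻¹ • v ∈ FibA (b := 3) x ⊓ mvS g (FibA (b := 3) x))
    (hK0 : FibA (b := 3) x ⊓ mvS g (FibA (b := 3) x) ≠ ⊥)
    (hne : mvS g (FibA (b := 3) x) ≠ FibA (b := 3) x) :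
    (∃ w : Fin 3 → F, hv 3 w w ≠ 0 ∧ ∀ y, pt x y ∈ mvS g (FibA (b := 3) x) ↔ ∃ c : F, y = c • w) ∨
      (∃ d : Fin 3 → F, hv 3 d d ≠ 0 ∧ ∀ y, pt x y ∈ mvS g (FibA (b := 3) x) ↔ hv 3 y d = 0) := by
  have hF := h.hF
  obtain ⟨T, hTM, hT1, hT2⟩ := hTW
  have hTst : T ∈ StabA (b := 3) x := by
    apply Cfsg.Agent.Lib.Helper11.C4U.mem_StabA_of_maps
    intro y
    have hvv : pt x y ∈ FibA (b := 3) x := mem_FibA.mpr ⟨y, rfl⟩
    have h3 := hT2 _ hvv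
    have h4 : mv T (pt x y) = (mv T (pt x y) - (-1 : F)⁻¹ • pt x y) + (-1 : F)⁻¹ • pt x y := by abel
    rw [h4]
    exact (FibA x).add_mem h3.1 ((FibA x).smul_mem _ hvv)
  have hTK : T ∈ KG 2 3 F := hL1 T hTM hTst
  have hKne : FibA (b := 3) x ⊓ mvS g (FibA (b := 3) x) ≠ FibA (b := 3) x := by
    intro heq
    apply hne
    have hle : FibA (b := 3) x ≤ mvS g (FibA (b := 3) x) := by
      intro v hv
      have hv' : v ∈ FibA (b := 3) x ⊓ mvS g (FibA (b := 3) x) := by rw [heq]; exact hv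
      exact hv'.2
    symm
    apply Submodule.eq_of_le_of_finrank_eq hle
    rw [Cfsg.Agent.Lib.Helper17.U23Tri.finrank_mvS]
  have hmem : ∀ y : Fin 3 → F, pt x y ∈ FibA (b := 3) x ⊓ mvS g (FibA (b := 3) x) ↔
      pt x y ∈ mvS g (FibA (b := 3) x) := by
    intro y
    rw [Submodule.mem_inf]
    exact ⟨fun hh => hh.2, fun hh => ⟨mem_FibA.mpr ⟨y, rfl⟩, hh⟩⟩
  have hodd : ((-1 : F)) ^ 3 = -1 := by ring
  rcases Cfsg.Agent.Lib.Helper18.C4UN5.nonopp_shape hF hx0 hx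
      (FibA (b := 3) x ⊓ mvS g (FibA (b := 3) x)) inf_le_left hK0 hKne (-1 : F)
      (neg_ne_zero.mpr one_ne_zero) hodd (neg_one_ne_one_nine hF) T hTK (h.le_G hTM).1 hT1 hT2 with
    ⟨w, hw, hW⟩ | ⟨d, hd, hW⟩
  · left
    exact ⟨w, hw, fun y => (hmem y).symm.trans (hW y)⟩
  · right
    exact ⟨d, hd, fun y => (hmem y).symm.trans (hW y)⟩

/-- the statement of `block_of_meet_two` (for one `x`), as a proposition -/
def BlockProp (M : Subgroup (GL (Idx 2 3) F)) (x : Fin 2 → F) : Prop :=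
  ∀ g ∈ M, ∀ d : Fin 3 → F, hv 3 d d ≠ 0 →
    (∀ y : Fin 3 → F, pt x y ∈ mvS g (FibA (b := 3) x) ↔ hv 3 y d = 0) →
    ∃ x2 : Fin 2 → F, hv 3 x2 x2 = 0 ∧ hv 3 x x2 ≠ 0 ∧ ∃ u ∈ M,
      (∀ y, hv 3 y d = 0 → mv u (pt x y) = pt x y) ∧ mv u (pt x2 d) = pt x2 d ∧
      mv u (pt x d) ≠ pt x d ∧
      (∀ a a' y, hv 3 y d = 0 → hv 3 (mv u (pt a y)) (pt a' d) = 0) ∧
      (∀ a a' y, hv 3 y d = 0 → hv 3 (mv u (pt a d)) (pt a' y) = 0)

/-- the statement of the endgame lemma (E), as a proposition -/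
def EndProp (M : Subgroup (GL (Idx 2 3) F)) : Prop :=
  ∀ (c : GL (Fin 2) F), (∀ u v, hv 3 (mv c u) (mv c v) = hv 3 u v) → (∀ u, mv c (mv c u) = -u) →
    (c : Matrix (Fin 2) (Fin 2) F).det = 1 → ∀ d : Fin 3 → F, hv 3 d d ≠ 0 →
    ∀ m ∈ M, (∀ x y, mv m (pt x y) = pt x y + (hv 3 y d / hv 3 d d) • pt (mv c x - x) d) → T1U 3 M

/-- the statement of Step C for the images `g R_x`, `g ∈ M`, as a proposition -/
def StepCProp (M : Subgroup (GL (Idx 2 3) F)) (x : Fin 2 → F) : Prop :=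
  ∀ g ∈ M, ∀ w : Fin 3 → F, hv 3 w w ≠ 0 → pt x w ∈ mvS g (FibA (b := 3) x) →
    (∀ y : Fin 3 → F, pt x y ∈ mvS g (FibA (b := 3) x) → ∃ c : F, y = c • w) →
    ∃ h ∈ KG 2 3 F ⊓ GS 2 3 3 F, ∃ v₁ v₂ v₃ : Idx 2 3 → F,
      v₁ ∈ mvS g (FibA (b := 3) x) ∧ v₂ ∈ mvS g (FibA (b := 3) x) ∧ v₃ ∈ mvS g (FibA (b := 3) x) ∧
      LinearIndependent F ![v₁, v₂] ∧ mv h v₁ ∈ mvS g (FibA (b := 3) x) ∧
      mv h v₂ ∈ mvS g (FibA (b := 3) x) ∧ mv h v₃ ∉ mvS g (FibA (b := 3) x)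

/-- the twist at `-1` for all `g ∈ M`, as a proposition -/
def TwistProp (M : Subgroup (GL (Idx 2 3) F)) (x : Fin 2 → F) : Prop :=
  ∀ g ∈ M, ∃ T ∈ M, (∀ v ∈ FibA (b := 3) x ⊓ mvS g (FibA (b := 3) x), mv T v = v) ∧
    ∀ v ∈ FibA (b := 3) x, mv T v - (-1 : F)⁻¹ • v ∈ FibA (b := 3) x ⊓ mvS g (FibA (b := 3) x)

/-- **GB**: no pair `(R_x, g R_x)` meets in dimension exactly two -/
theorem no_meet_two (h : MC 3 M) {x : Fin 2 → F} (hx0 : x ≠ 0) (hx : hv 3 x x = 0)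
    (hL1 : ∀ m ∈ M, m ∈ StabA (b := 3) x → m ∈ KG 2 3 F) (hTW : TwistProp M x)
    (hB : BlockProp M x) (hE : EndProp M) {g : GL (Idx 2 3) F} (hg : g ∈ M)
    (h2 : finrank F ↥(FibA (b := 3) x ⊓ mvS g (FibA (b := 3) x)) = 2) : False := by
  have hF := h.hF
  have hK0 : FibA (b := 3) x ⊓ mvS g (FibA (b := 3) x) ≠ ⊥ := by
    intro h0
    rw [h0, finrank_bot] at h2
    omega
  have hne : mvS g (FibA (b := 3) x) ≠ FibA (b := 3) x := by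
    intro heq
    rw [heq, inf_idem, Cfsg.Agent.Lib.Helper17.U23Tri.finrank_FibA hx0] at h2
    omega
  rcases shape_of_nonopp h hx0 hx hL1 hg (hTW g hg) hK0 hne with ⟨w, hw, hW⟩ | ⟨d, hd, hW⟩
  · have hw0 : w ≠ 0 := by
      rintro rfl
      exact hw (hv_zero_left 3 _)
    have h1 := Cfsg.Agent.Lib.Helper24.U23GC.finrank_meet_of_line hx0 hw0 hW
    omega
  · obtain ⟨x2, hx2, h12, u, hu, hfixW, hfix2, hneu, hP, hD⟩ := hB g hg d hd hW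
    obtain ⟨c, hcU, hc2, hcdet, m, hm, hmd⟩ :=
      Cfsg.Agent.Lib.Helper14.U23Q2.slice_of_block hF h.le h.le_G x x2 hx hx2 h12 d hd u hu hfixW hfix2
        hneu hP hD
    have hT1 : T1U 3 M := hE c hcU hc2 hcdet d hd m hm hmd
    exact h.noT (Cfsg.Agent.Lib.Helper9.U23Bridge.T1U'_of_T1U_23 hF h.hq h.le h.le_G hT1)

/-- **GC**: a pair meeting in dimension one yields a pair meeting in dimension two -/
theorem meet_two_of_meet_one (h : MC 3 M) {x : Fin 2 → F} (hx0 : x ≠ 0) (hx : hv 3 x x = 0)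
    (hL1 : ∀ m ∈ M, m ∈ StabA (b := 3) x → m ∈ KG 2 3 F) (hTW : TwistProp M x)
    (hC : StepCProp M x) {g : GL (Idx 2 3) F} (hg : g ∈ M)
    (h1 : finrank F ↥(FibA (b := 3) x ⊓ mvS g (FibA (b := 3) x)) = 1) :
    ∃ g₁ ∈ M, finrank F ↥(FibA (b := 3) x ⊓ mvS g₁ (FibA (b := 3) x)) = 2 := by
  have hF := h.hF
  have hK0 : FibA (b := 3) x ⊓ mvS g (FibA (b := 3) x) ≠ ⊥ := by
    intro h0
    rw [h0, finrank_bot] at h1
    omega
  have hne : mvS g (FibA (b := 3) x) ≠ FibA (b := 3) x := by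
    intro heq
    rw [heq, inf_idem, Cfsg.Agent.Lib.Helper17.U23Tri.finrank_FibA hx0] at h1
    omega
  rcases shape_of_nonopp h hx0 hx hL1 hg (hTW g hg) hK0 hne with ⟨w, hw, hW⟩ | ⟨d, hd, hW⟩
  · have hxw : pt x w ∈ mvS g (FibA (b := 3) x) := (hW w).mpr ⟨1, (one_smul F w).symm⟩
    obtain ⟨k, hk, hk2⟩ := Cfsg.Agent.Lib.Helper24.U23GC.meet_two_of_meet_one' (q := 3) hx0 g
      (hC g hg w hw hxw (fun y hy => (hW y).mp hy))
    exact ⟨g⁻¹ * k * g, M.mul_mem (M.mul_mem (M.inv_mem hg) (h.le hk)) hg, hk2⟩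
  · have h2 := Cfsg.Agent.Lib.Helper24.U23GC.finrank_meet_of_perp hx0 hd hW
    omega

/-- **the `q = 3` interface**: every pair `(R_x, g R_x)`, `g ∈ M`, is opposite or equal -/
theorem no_nonopp_q3_of (h : MC 3 M) {x : Fin 2 → F} (hx0 : x ≠ 0) (hx : hv 3 x x = 0)
    (hL1 : ∀ m ∈ M, m ∈ StabA (b := 3) x → m ∈ KG 2 3 F) (hTW : TwistProp M x)
    (hB : BlockProp M x) (hE : EndProp M) (hC : StepCProp M x) :
    ∀ g ∈ M, FibA (b := 3) x ⊓ mvS g (FibA (b := 3) x) = ⊥ ∨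
      mvS g (FibA (b := 3) x) = FibA (b := 3) x :=
  Cfsg.Agent.Lib.Helper17.U23Tri.hNO_of_GB_GC hx0 rfl
    (fun g hg h2 => no_meet_two h hx0 hx hL1 hTW hB hE hg h2)
    (fun g hg h1 => meet_two_of_meet_one h hx0 hx hL1 hTW hC hg h1)

end Cfsg.Agent.Lib.Helper8.U23Q3
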