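import Mathlib
import Cfsg.Agent.Lib.Helper8.TWS2ADefs
import Cfsg.Agent.Lib.Helper12.TWSGrow
import Cfsg.Agent.Lib.Helper12.TWTS
import Cfsg.Agent.Lib.Helper20.TWS3Perm

/-!
# S5668 (C7 symplectic) — STAGE II, CASE A: pure-tensor operations P4 `pure_perm`, P5 `pure_comm` (helper8)
-/

set_option autoImplicit false
set_option linter.unusedSectionVars false
set_option linter.unusedVariables false

namespace Cfsg.Agent.Lib.Helper8.TWS2APure
open Matrix Cfsg.Geo Cfsg.Agent.Lib.Helper18.AschA89 Cfsg.Agent.Lib.Helper8.TW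
open Cfsg.Agent.Lib.Helper5.TWS Cfsg.Agent.Lib.Helper28.TWU2A
open Cfsg.Agent.Lib.Helper25.SpT (sf sfv)
open Cfsg.Agent.Lib.Helper29.TWSOne Cfsg.Agent.Lib.Helper8.TWS2A
open Cfsg.Agent.Lib.Helper12.TWSGrow (ptens_eq_zero')

variable {F : Type*} [Field F] {t k : ℕ}

/-- P4: conjugation by a factor permutation -/
theorem pure_perm (X : Subgroup (GL (Idx t k) F)) (hHX : HS t k F ≤ X)
    (W : Fin t → Matrix (Fin k) (Fin k) F) (c : F) (σ : Equiv.Perm (Fin t))
    (h : InM X (1 + c • ptens k t W)) : InM X (1 + c • ptens k t (fun j => W (σ⁻¹ j))) := by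
  have hσ : Cfsg.Agent.Lib.Helper20.AschLeaf.wrFpermGL (F := F) k t σ ∈ X :=
    hHX (Cfsg.Agent.Lib.Helper20.TWS3.wrFpermGL_mem_HS σ)
  have h1 := InM_conj8 X _ hσ (c • ptens k t W) h
  have e : ((Cfsg.Agent.Lib.Helper20.AschLeaf.wrFpermGL (F := F) k t σ : GL (Idx t k) F) : Matrix (Idx t k) (Idx t k) F) *
      (c • ptens k t W) * (((Cfsg.Agent.Lib.Helper20.AschLeaf.wrFpermGL (F := F) k t σ)⁻¹ : GL (Idx t k) F) :
        Matrix (Idx t k) (Idx t k) F) = c • ptens k t (fun j => W (σ⁻¹ j)) := by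
    have e1 : ((Cfsg.Agent.Lib.Helper20.AschLeaf.wrFpermGL (F := F) k t σ : GL (Idx t k) F) :
        Matrix (Idx t k) (Idx t k) F) = fperm k t σ := rfl
    have e2 : (((Cfsg.Agent.Lib.Helper20.AschLeaf.wrFpermGL (F := F) k t σ)⁻¹ : GL (Idx t k) F) :
        Matrix (Idx t k) (Idx t k) F) = fperm k t σ⁻¹ := rfl
    rw [e1, e2, Matrix.mul_smul, Matrix.smul_mul, Cfsg.Agent.Lib.Helper12.TWLeaf.fperm_conj_ptens]
  rw [e] at h1
  exact h1

/-- P5: the commutator of two pure unipotents -/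
theorem pure_comm (X : Subgroup (GL (Idx t k) F)) (W W' : Fin t → Matrix (Fin k) (Fin k) F) (c c' : F)
    (m : Fin t) (h1 : W m * W m = 0) (h2 : W' m * W' m = 0) (h3 : W m * W' m * W m = 0)
    (h4 : W' m * W m * W' m = 0) (h : InM X (1 + c • ptens k t W)) (h' : InM X (1 + c' • ptens k t W')) :
    InM X (1 + (c * c') • (ptens k t (fun l => W l * W' l) - ptens k t (fun l => W' l * W l))) := by
  have haa : (c • ptens k t W) * (c • ptens k t W) = 0 := by
    rw [Matrix.smul_mul, Matrix.mul_smul, Cfsg.Agent.Lib.Helper20.AschLeaf.ptens_mul,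
      ptens_eq_zero' (fun i => W i * W i) m h1, smul_zero, smul_zero]
  have hbb : (c' • ptens k t W') * (c' • ptens k t W') = 0 := by
    rw [Matrix.smul_mul, Matrix.mul_smul, Cfsg.Agent.Lib.Helper20.AschLeaf.ptens_mul,
      ptens_eq_zero' (fun i => W' i * W' i) m h2, smul_zero, smul_zero]
  have haba : (c • ptens k t W) * (c' • ptens k t W') * (c • ptens k t W) = 0 := by
    simp only [Matrix.smul_mul, Matrix.mul_smul]
    rw [Cfsg.Agent.Lib.Helper20.AschLeaf.ptens_mul, Cfsg.Agent.Lib.Helper20.AschLeaf.ptens_mul,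
      ptens_eq_zero' (fun i => W i * W' i * W i) m h3, smul_zero, smul_zero, smul_zero]
  have hbab : (c' • ptens k t W') * (c • ptens k t W) * (c' • ptens k t W') = 0 := by
    simp only [Matrix.smul_mul, Matrix.mul_smul]
    rw [Cfsg.Agent.Lib.Helper20.AschLeaf.ptens_mul, Cfsg.Agent.Lib.Helper20.AschLeaf.ptens_mul,
      ptens_eq_zero' (fun i => W' i * W i * W' i) m h4, smul_zero, smul_zero, smul_zero]
  have h5 := InM_comm8 X _ _ h h' haa hbb haba hbab
  have e : (c • ptens k t W) * (c' • ptens k t W') - (c' • ptens k t W') * (c • ptens k t W) =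
      (c * c') • (ptens k t (fun l => W l * W' l) - ptens k t (fun l => W' l * W l)) := by
    rw [Matrix.smul_mul, Matrix.mul_smul, Matrix.smul_mul, Matrix.mul_smul,
      Cfsg.Agent.Lib.Helper20.AschLeaf.ptens_mul, Cfsg.Agent.Lib.Helper20.AschLeaf.ptens_mul, smul_smul, smul_smul,
      smul_sub, mul_comm c' c]
  rw [e] at h5
  exact h5

end Cfsg.Agent.Lib.Helper8.TWS2APure
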