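import Mathlib
import Cfsg.Agent.Lib.Helper8.TWS2ALemA
import Cfsg.Agent.Lib.Helper29.TWSOneSlot2
import Cfsg.Agent.Lib.Helper12.TWSGrow
import Cfsg.Agent.Lib.Helper8.TWS2APure
import Cfsg.Agent.Lib.Helper4.TWS2APure

/-!
# S5668 (C7 symplectic) — STAGE II, CASE A: the CONVERSION (plan §5.3), helper8
-/

set_option autoImplicit false
set_option linter.unusedSectionVars false
set_option linter.unusedVariables false

namespace Cfsg.Agent.Lib.Helper8.TWS2AConv
open Matrix Cfsg.Geo Cfsg.Agent.Lib.Helper18.AschA89 Cfsg.Agent.Lib.Helper8.TW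
open Cfsg.Agent.Lib.Helper5.TWS Cfsg.Agent.Lib.Helper28.TWU2A
open Cfsg.Agent.Lib.Helper25.SpT (sf sfv)
open Cfsg.Agent.Lib.Helper29.TWSOne Cfsg.Agent.Lib.Helper8.TWS2A
open Cfsg.Agent.Lib.Helper8.TWS2APure (pure_perm pure_comm)
open Cfsg.Agent.Lib.Helper4.TWS2ALeaf (pure_bracket pure_compress pure_brackets)
open Cfsg.Agent.Lib.Helper12.TWSGrow (ptens_update_add' ptens_update_neg' ptens_update_smul')

variable {F : Type*} [Field F] {t k : ℕ}

/-- signs on a set of slots -/
lemma ptens_signs (A B : Fin t → Matrix (Fin k) (Fin k) F) (S : Finset (Fin t))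
    (h : ∀ l, A l = if l ∈ S then -(B l) else B l) :
    ptens k t A = (-1 : F) ^ S.card • ptens k t B := by
  classical
  have hA : A = fun l => (if l ∈ S then (-1 : F) else 1) • B l := by
    funext l
    rw [h l]
    by_cases hl : l ∈ S
    · rw [if_pos hl, if_pos hl, neg_one_smul]
    · rw [if_neg hl, if_neg hl, one_smul]
  rw [hA, Cfsg.Agent.Lib.Helper20.AschLeaf.ptens_smul]
  congr 1
  rw [Finset.prod_ite_mem, Finset.univ_inter, Finset.prod_const]

lemma sf_swap_eq {a b : Fin k → F} {c : F} (h : sf a b = c) : sf b a = -c := by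
  rw [Cfsg.Agent.Lib.Helper25.SpT.sf_skew, h]

/-- the one-slot `T`-trick: `S = z* z† + z z*†` anticommutes with `N_z` up to sign -/
lemma Nz_mul_S {z w : Fin k → F} (h : sf z w = 1) : Nz z * (dy w z + dy z w) = -Nz z := by
  rw [Matrix.mul_add, dy_mul_dy, dy_mul_dy, sf_swap_eq h, Cfsg.Agent.Lib.Helper25.SpT.sf_self, zero_smul,
    add_zero, neg_smul, one_smul]

lemma S_mul_Nz {z w : Fin k → F} (h : sf z w = 1) : (dy w z + dy z w) * Nz z = Nz z := by
  rw [Matrix.add_mul, dy_mul_dy, dy_mul_dy, h, Cfsg.Agent.Lib.Helper25.SpT.sf_self, zero_smul,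
    zero_add, one_smul]

/-- `[N_w, N_z] = w z† + z w†` for `sf z w = 1` -/
lemma bracket_Nz_Nz {z w : Fin k → F} (h : sf z w = 1) : Nz w * Nz z - Nz z * Nz w = dy w z + dy z w := by
  rw [Nz_mul_Nz_of_pair' h, Nz_mul_Nz_of_pair h, sub_neg_eq_add]

/-- `[N_{y₁}, x ∧ x'] = y₁ ∧ x` -/
lemma bracket_Nz_wedge {x x' y₁ : Fin k → F} (h1 : sf y₁ x = 0) (h2 : sf y₁ x' = 1) :
    Nz y₁ * wedge x x' - wedge x x' * Nz y₁ = wedge y₁ x := by
  rw [comm_Nz_wedge, sf_swap_eq h1, sf_swap_eq h2, neg_zero, zero_smul, zero_sub, neg_smul, one_smul, neg_neg]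

/-- `N_{z*} N_z N_{z*} = - N_{z*}` -/
lemma compress_partner {z w : Fin k → F} (h : sf z w = 1) : Nz w * Nz z * Nz w = -Nz w := by
  rw [Nz_mul_dy_mul_Nz, h, sf_swap_eq h, one_mul, neg_smul, one_smul]

/-- `N_u (z z*† + z* z†) N_u = 2 N_u` for `u = z + z*` -/
lemma compress_S {z w : Fin k → F} (h : sf z w = 1) :
    Nz (z + w) * (dy z w + dy w z) * Nz (z + w) = (2 : F) • Nz (z + w) := by
  rw [Matrix.mul_add, Matrix.add_mul, Nz_mul_dy_mul_Nz, Nz_mul_dy_mul_Nz, ← add_smul]
  congr 1
  simp only [Cfsg.Agent.Lib.Helper25.SpT.sf_add_left, Cfsg.Agent.Lib.Helper25.SpT.sf_add_right,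
    Cfsg.Agent.Lib.Helper25.SpT.sf_self, h, sf_swap_eq h]
  ring

theorem convS (h2 : (2 : F) ≠ 0) (hk : Even k) (ht : Odd t) (X : Subgroup (GL (Idx t k) F)) (hHX : HS t k F ≤ X)
    (J1 J2 : Finset (Fin t)) (hd : Disjoint J1 J2) (hJ1 : Odd J1.card) (hJ2 : J2.Nonempty)
    (z x x' : Fin t → Fin k → F) (hz : ∀ l ∈ J1, z l ≠ 0)
    (hx : ∀ l ∈ J2, x l ≠ 0 ∧ sf (x l) (x' l) = 0 ∧ ¬ ∃ c : F, x' l = c • x l) (c : F) (hc : c ≠ 0)
    (h : InM X (1 + c • ptens k t (famS J1 J2 z x x'))) :
    ∃ (J : Finset (Fin t)) (z' : Fin t → Fin k → F) (c' : F), Odd J.card ∧ 3 ≤ J.card ∧ (∀ l ∈ J, z' l ≠ 0) ∧ c' ≠ 0 ∧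
      InM X (1 + c' • ptens k t (famS J ∅ z' x x')) := by
  classical
  -- partners
  have hpart : ∀ l, ∃ w : Fin k → F, l ∈ J1 → sf (z l) w = 1 := by
    intro l
    by_cases hl : l ∈ J1
    · obtain ⟨w, hw⟩ := exists_partner hk (hz l hl)
      exact ⟨w, fun _ => hw⟩
    · exact ⟨0, fun h => absurd h hl⟩
  choose zs hzs using hpart
  have hy1 : ∀ l, ∃ y : Fin k → F, l ∈ J2 → sf y (x l) = 0 ∧ sf y (x' l) = 1 := by
    intro l
    by_cases hl : l ∈ J2
    · obtain ⟨y, hy⟩ := exists_y1 hk (hx l hl).1 (hx l hl).2.2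
      exact ⟨y, fun _ => hy⟩
    · exact ⟨0, fun h => absurd h hl⟩
  choose y1 hy1 using hy1
  obtain ⟨m, hmJ2⟩ := hJ2
  have hJ1ne : J1.Nonempty := by
    rw [← Finset.card_pos]
    obtain ⟨a, ha⟩ := hJ1
    omega
  obtain ⟨i₀, hi₀⟩ := hJ1ne
  have hmJ1 : m ∉ J1 := Finset.disjoint_right.1 hd hmJ2
  have hi₀J2 : i₀ ∉ J2 := Finset.disjoint_left.1 hd hi₀
  have hmi : m ≠ i₀ := fun h => hmJ1 (h ▸ hi₀)
  set W := famS J1 J2 z x x' with hWdef
  have hW1 : ∀ l, l ∈ J1 → W l = Nz (z l) := fun l hl => famS_mem1 _ _ _ hl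
  have hW2 : ∀ l, l ∉ J1 → l ∈ J2 → W l = wedge (x l) (x' l) := fun l h1 h2 => famS_mem2 _ _ _ h1 h2
  have hW0 : ∀ l, l ∉ J1 → l ∉ J2 → W l = 1 := fun l h1 h2 => famS_not_mem _ _ _ h1 h2
  have hWmsq : W m * W m = 0 := by
    rw [hW2 m hmJ1 hmJ2]; exact XX (hx m hmJ2).2.1
  set D := (J1.erase i₀) ∪ J2 with hD
  set uu : Fin t → Fin k → F := fun l => if l ∈ J1 then zs l else y1 l with huu
  have hDcard : D.card = (J1.card - 1) + J2.card := by
    rw [hD, Finset.card_union_of_disjoint (Finset.disjoint_of_subset_left (Finset.erase_subset _ _) hd),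
      Finset.card_erase_of_mem hi₀]
  have h2pow : ∀ n : ℕ, (2 : F) ^ n ≠ 0 := fun n => pow_ne_zero n h2
  have hev1 : Even (J1.erase i₀).card := by
    rw [Finset.card_erase_of_mem hi₀]
    obtain ⟨a, ha⟩ := hJ1
    exact ⟨a, by omega⟩
  -- the bracketed weights at the slots of `D`
  have hbrJ1 : ∀ l, l ∈ J1 → Nz (uu l) * Nz (z l) - Nz (z l) * Nz (uu l) = dy (zs l) (z l) + dy (z l) (zs l) := by
    intro l hl
    rw [huu]; simp only [if_pos hl]
    exact bracket_Nz_Nz (hzs l hl)
  have hbrJ2 : ∀ l, l ∉ J1 → l ∈ J2 →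
      Nz (uu l) * wedge (x l) (x' l) - wedge (x l) (x' l) * Nz (uu l) = wedge (y1 l) (x l) := by
    intro l hl1 hl2
    rw [huu]; simp only [if_neg hl1]
    exact bracket_Nz_wedge (hy1 l hl2).1 (hy1 l hl2).2
  by_cases hev : Even J2.card
  · ------------------------------------------------------------------ `|J2|` even
    -- step 1: `N_z ↦ N_{z*}` at `i₀`
    have s1 := pure_compress hk X hHX W c m i₀ hmi hWmsq (zs i₀) h
    rw [hW1 i₀ hi₀, compress_partner (hzs i₀ hi₀), ptens_update_neg', smul_neg, ← neg_smul, neg_neg] at s1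
    set W₁ := Function.update W i₀ (Nz (zs i₀)) with hW₁
    have hW₁i : W₁ i₀ * W₁ i₀ = 0 := by rw [hW₁, Function.update_self]; exact Nz_sq _
    have hi₀D : i₀ ∉ D := by
      rw [hD, Finset.mem_union]
      rintro (h' | h')
      · exact Finset.notMem_erase _ _ h'
      · exact hi₀J2 h'
    -- step 2: brackets at the slots of `D`
    have s2 := pure_brackets hk X hHX W₁ (c + c) i₀ hW₁i D hi₀D uu s1
    set T₂ : Fin t → Matrix (Fin k) (Fin k) F := fun l =>
      if l = i₀ then Nz (zs i₀) else if l ∈ J1 then dy (zs l) (z l) + dy (z l) (zs l)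
      else if l ∈ J2 then wedge (y1 l) (x l) else 1 with hT₂
    have hT₂eq : (fun l => if l ∈ D then Nz (uu l) * W₁ l - W₁ l * Nz (uu l) else W₁ l) = T₂ := by
      funext l
      rw [hT₂]
      by_cases hli : l = i₀
      · subst hli
        simp only [if_neg hi₀D, if_true]
        rw [hW₁, Function.update_self]
      · simp only [if_neg hli]
        rw [hW₁, Function.update_of_ne hli]
        by_cases hl1 : l ∈ J1
        · have hlD : l ∈ D := Finset.mem_union_left _ (Finset.mem_erase.2 ⟨hli, hl1⟩)
          simp only [if_pos hlD, if_pos hl1]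
          rw [hW1 l hl1]; exact hbrJ1 l hl1
        · by_cases hl2 : l ∈ J2
          · have hlD : l ∈ D := Finset.mem_union_right _ hl2
            simp only [if_pos hlD, if_neg hl1, if_pos hl2]
            rw [hW2 l hl1 hl2]; exact hbrJ2 l hl1 hl2
          · have hlD : l ∉ D := by
              rw [hD, Finset.mem_union]
              rintro (h' | h')
              · exact hl1 (Finset.mem_of_mem_erase h')
              · exact hl2 h'
            simp only [if_neg hlD, if_neg hl1, if_neg hl2]
            exact hW0 l hl1 hl2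
    rw [hT₂eq] at s2
    -- the commutator at the `Λ²`-slot `m`
    have hT₂m : T₂ m = wedge (y1 m) (x m) := by
      rw [hT₂]; simp only [if_neg hmi, if_neg hmJ1, if_pos hmJ2]
    have hxm := hx m hmJ2
    have hym := hy1 m hmJ2
    have s3 := pure_comm X W T₂ c ((2 : F) ^ D.card * (c + c)) m hWmsq
      (by rw [hT₂m]; exact wedge_sq_of_perp hym.1)
      (by rw [hW2 m hmJ1 hmJ2, hT₂m]; exact XYX hxm.2.1 hym.1 hym.2)
      (by rw [hW2 m hmJ1 hmJ2, hT₂m]; exact YXY hxm.2.1 hym.1 hym.2) h s2
    -- the common family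
    set C : Fin t → Matrix (Fin k) (Fin k) F := fun l =>
      if l ∈ J1 then Nz (z l) else if l ∈ J2 then Nz (x l) else 1 with hC
    have hP : ptens k t (fun l => W l * T₂ l) = - ptens k t (Function.update C i₀ (dy (z i₀) (zs i₀))) := by
      rw [← ptens_update_neg']
      rw [ptens_signs (fun l => W l * T₂ l) (Function.update C i₀ (-dy (z i₀) (zs i₀))) (J1.erase i₀)]
      · rw [Even.neg_one_pow hev1, one_smul]
      · intro l
        by_cases hli : l = i₀
        · subst hli
          rw [if_neg (Finset.notMem_erase _ _), Function.update_self, hW1 l hi₀, hT₂]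
          simp only [if_true]
          exact Nz_mul_Nz_of_pair (hzs l hi₀)
        · rw [Function.update_of_ne hli, hT₂, hC]
          simp only [if_neg hli]
          by_cases hl1 : l ∈ J1
          · simp only [if_pos hl1, if_pos (Finset.mem_erase.2 ⟨hli, hl1⟩)]
            rw [hW1 l hl1]; exact Nz_mul_S (hzs l hl1)
          · have hle : l ∉ J1.erase i₀ := fun h' => hl1 (Finset.mem_of_mem_erase h')
            simp only [if_neg hl1, if_neg hle]
            by_cases hl2 : l ∈ J2
            · simp only [if_pos hl2]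
              rw [hW2 l hl1 hl2]
              exact XY (hx l hl2).2.1 (hy1 l hl2).1 (hy1 l hl2).2
            · simp only [if_neg hl2]
              rw [hW0 l hl1 hl2, one_mul]
    have hQ : ptens k t (fun l => T₂ l * W l) = ptens k t (Function.update C i₀ (dy (zs i₀) (z i₀))) := by
      rw [ptens_signs (fun l => T₂ l * W l) (Function.update C i₀ (dy (zs i₀) (z i₀))) J2]
      · rw [Even.neg_one_pow hev, one_smul]
      · intro l
        by_cases hli : l = i₀
        · subst hli
          rw [if_neg hi₀J2, Function.update_self, hW1 l hi₀, hT₂]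
          simp only [if_true]
          exact Nz_mul_Nz_of_pair' (hzs l hi₀)
        · rw [Function.update_of_ne hli, hT₂, hC]
          simp only [if_neg hli]
          by_cases hl1 : l ∈ J1
          · have hl2 : l ∉ J2 := Finset.disjoint_left.1 hd hl1
            simp only [if_pos hl1, if_neg hl2]
            rw [hW1 l hl1]; exact S_mul_Nz (hzs l hl1)
          · simp only [if_neg hl1]
            by_cases hl2 : l ∈ J2
            · simp only [if_pos hl2]
              rw [hW2 l hl1 hl2]
              exact YX (hx l hl2).2.1 (hy1 l hl2).1 (hy1 l hl2).2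
            · simp only [if_neg hl2]
              rw [hW0 l hl1 hl2, mul_one]
    rw [hP, hQ, ← neg_add', ← ptens_update_add', smul_neg, ← neg_smul] at s3
    -- final compression at `i₀`
    set C₁ := Function.update C i₀ (dy (z i₀) (zs i₀) + dy (zs i₀) (z i₀)) with hC₁
    have hC₁m : C₁ m * C₁ m = 0 := by
      rw [hC₁, Function.update_of_ne hmi, hC]
      simp only [if_neg hmJ1, if_pos hmJ2]
      exact Nz_sq _
    have s4 := pure_compress hk X hHX C₁ _ m i₀ hmi hC₁m (z i₀ + zs i₀) s3
    rw [hC₁, Function.update_self, Function.update_idem, compress_S (hzs i₀ hi₀), ptens_update_smul',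
      smul_smul] at s4
    -- the result
    set z'' : Fin t → Fin k → F := fun l => if l = i₀ then z i₀ + zs i₀ else if l ∈ J1 then z l else x l with hz''
    have hfin : Function.update C i₀ (Nz (z i₀ + zs i₀)) = famS (J1 ∪ J2) ∅ z'' x x' := by
      funext l
      by_cases hli : l = i₀
      · subst hli
        rw [Function.update_self, famS_mem1 _ _ _ (Finset.mem_union_left _ hi₀), hz'']
        simp only [if_true]
      · rw [Function.update_of_ne hli, hC]
        by_cases hl1 : l ∈ J1
        · simp only [if_pos hl1]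
          rw [famS_mem1 _ _ _ (Finset.mem_union_left _ hl1), hz'']
          simp only [if_neg hli, if_pos hl1]
        · by_cases hl2 : l ∈ J2
          · simp only [if_neg hl1, if_pos hl2]
            rw [famS_mem1 _ _ _ (Finset.mem_union_right _ hl2), hz'']
            simp only [if_neg hli, if_neg hl1]
          · simp only [if_neg hl1, if_neg hl2]
            rw [famS_not_mem _ _ _ (by rw [Finset.mem_union]; exact fun h' => h'.elim hl1 hl2)
              (Finset.notMem_empty l)]
    rw [hfin] at s4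
    refine ⟨J1 ∪ J2, z'', _, ?_, ?_, ?_, ?_, s4⟩
    · rw [Finset.card_union_of_disjoint hd]
      exact Odd.add_even hJ1 hev
    · rw [Finset.card_union_of_disjoint hd]
      have h1 : 0 < J1.card := Finset.card_pos.2 ⟨i₀, hi₀⟩
      have h2' : 0 < J2.card := Finset.card_pos.2 ⟨m, hmJ2⟩
      obtain ⟨a, ha⟩ := hev
      omega
    · intro l hl
      rw [hz'']
      by_cases hli : l = i₀
      · simp only [if_pos hli]
        intro h0
        have h1 : sf (z i₀) (z i₀ + zs i₀) = 1 := by
          rw [Cfsg.Agent.Lib.Helper25.SpT.sf_add_right, Cfsg.Agent.Lib.Helper25.SpT.sf_self, zero_add,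
            hzs i₀ hi₀]
        rw [h0, Cfsg.Agent.Lib.Helper25.SpT.sf_zero_right] at h1
        exact zero_ne_one h1
      · simp only [if_neg hli]
        by_cases hl1 : l ∈ J1
        · simp only [if_pos hl1]; exact hz l hl1
        · simp only [if_neg hl1]
          rcases Finset.mem_union.1 hl with h' | h'
          · exact absurd h' hl1
          · exact (hx l h').1
    · have hcc : c + c ≠ 0 := by rw [← two_mul]; exact mul_ne_zero h2 hc
      have e1 : c * ((2 : F) ^ D.card * (c + c)) ≠ 0 := mul_ne_zero hc (mul_ne_zero (h2pow _) hcc)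
      have e2 : -(c * ((2 : F) ^ D.card * (c + c))) ≠ 0 := neg_ne_zero.2 e1
      refine mul_ne_zero (neg_ne_zero.2 ?_) h2
      rw [← two_mul]
      exact mul_ne_zero h2 e2
  · ------------------------------------------------------------------ `|J2|` odd
    have hodd2 : Odd J2.card := Nat.not_even_iff_odd.1 hev
    -- a fresh slot
    have hfresh : ∃ m₁ : Fin t, m₁ ∉ J1 ∪ J2 := by
      by_contra hcon
      push Not at hcon
      have huniv : J1 ∪ J2 = Finset.univ := Finset.eq_univ_iff_forall.2 hcon
      have hcard : (J1 ∪ J2).card = t := by rw [huniv, Finset.card_univ, Fintype.card_fin]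
      rw [Finset.card_union_of_disjoint hd] at hcard
      have : Even t := by rw [← hcard]; exact Odd.add_odd hJ1 hodd2
      exact (Nat.not_even_iff_odd.2 ht) this
    obtain ⟨m₁, hm₁⟩ := hfresh
    have hm₁J1 : m₁ ∉ J1 := fun h' => hm₁ (Finset.mem_union_left _ h')
    have hm₁J2 : m₁ ∉ J2 := fun h' => hm₁ (Finset.mem_union_right _ h')
    have hm₁i : m₁ ≠ i₀ := fun h' => hm₁J1 (h' ▸ hi₀)
    have hm₁m : m₁ ≠ m := fun h' => hm₁J2 (h' ▸ hmJ2)
    -- step 1: move the weight of `i₀` to `m₁`
    have s1 := pure_perm X hHX W c (Equiv.swap i₀ m₁) h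
    rw [Equiv.swap_inv] at s1
    set W₁ : Fin t → Matrix (Fin k) (Fin k) F := fun j => W (Equiv.swap i₀ m₁ j) with hW₁
    have hW₁m₁ : W₁ m₁ = Nz (z i₀) := by rw [hW₁]; simp only [Equiv.swap_apply_right]; exact hW1 i₀ hi₀
    have hW₁i₀ : W₁ i₀ = 1 := by rw [hW₁]; simp only [Equiv.swap_apply_left]; exact hW0 m₁ hm₁J1 hm₁J2
    have hW₁o : ∀ l, l ≠ i₀ → l ≠ m₁ → W₁ l = W l := by
      intro l h1 h2'
      rw [hW₁]; simp only [Equiv.swap_apply_of_ne_of_ne h1 h2']
    have hW₁sq : W₁ m₁ * W₁ m₁ = 0 := by rw [hW₁m₁]; exact Nz_sq _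
    have hm₁D : m₁ ∉ D := by
      rw [hD, Finset.mem_union]
      rintro (h' | h')
      · exact hm₁J1 (Finset.mem_of_mem_erase h')
      · exact hm₁J2 h'
    have hi₀D : i₀ ∉ D := by
      rw [hD, Finset.mem_union]
      rintro (h' | h')
      · exact Finset.notMem_erase _ _ h'
      · exact hi₀J2 h'
    have s2 := pure_brackets hk X hHX W₁ c m₁ hW₁sq D hm₁D uu s1
    set T₂ : Fin t → Matrix (Fin k) (Fin k) F := fun l =>
      if l = m₁ then Nz (z i₀) else if l = i₀ then 1 else if l ∈ J1 then dy (zs l) (z l) + dy (z l) (zs l)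
      else if l ∈ J2 then wedge (y1 l) (x l) else 1 with hT₂
    have hT₂eq : (fun l => if l ∈ D then Nz (uu l) * W₁ l - W₁ l * Nz (uu l) else W₁ l) = T₂ := by
      funext l
      rw [hT₂]
      by_cases hlm : l = m₁
      · subst hlm
        simp only [if_neg hm₁D, if_true]
        exact hW₁m₁
      · simp only [if_neg hlm]
        by_cases hli : l = i₀
        · subst hli
          simp only [if_neg hi₀D, if_true]
          exact hW₁i₀
        · simp only [if_neg hli]
          rw [hW₁o l hli hlm]
          by_cases hl1 : l ∈ J1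
          · have hlD : l ∈ D := Finset.mem_union_left _ (Finset.mem_erase.2 ⟨hli, hl1⟩)
            simp only [if_pos hlD, if_pos hl1]
            rw [hW1 l hl1]; exact hbrJ1 l hl1
          · by_cases hl2 : l ∈ J2
            · have hlD : l ∈ D := Finset.mem_union_right _ hl2
              simp only [if_pos hlD, if_neg hl1, if_pos hl2]
              rw [hW2 l hl1 hl2]; exact hbrJ2 l hl1 hl2
            · have hlD : l ∉ D := by
                rw [hD, Finset.mem_union]
                rintro (h' | h')
                · exact hl1 (Finset.mem_of_mem_erase h')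
                · exact hl2 h'
              simp only [if_neg hlD, if_neg hl1, if_neg hl2]
              exact hW0 l hl1 hl2
    rw [hT₂eq] at s2
    have hT₂m : T₂ m = wedge (y1 m) (x m) := by
      rw [hT₂]; simp only [if_neg (Ne.symm hm₁m), if_neg hmi, if_neg hmJ1, if_pos hmJ2]
    have hxm := hx m hmJ2
    have hym := hy1 m hmJ2
    have s3 := pure_comm X W T₂ c ((2 : F) ^ D.card * c) m hWmsq
      (by rw [hT₂m]; exact wedge_sq_of_perp hym.1)
      (by rw [hW2 m hmJ1 hmJ2, hT₂m]; exact XYX hxm.2.1 hym.1 hym.2)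
      (by rw [hW2 m hmJ1 hmJ2, hT₂m]; exact YXY hxm.2.1 hym.1 hym.2) h s2
    set C : Fin t → Matrix (Fin k) (Fin k) F := fun l =>
      if l = m₁ then Nz (z i₀) else if l ∈ J1 then Nz (z l) else if l ∈ J2 then Nz (x l) else 1 with hC
    have hP : ptens k t (fun l => W l * T₂ l) = ptens k t C := by
      rw [ptens_signs (fun l => W l * T₂ l) C (J1.erase i₀)]
      · rw [Even.neg_one_pow hev1, one_smul]
      · intro l
        rw [hT₂, hC]
        by_cases hlm : l = m₁
        · subst hlm
          have hle : l ∉ J1.erase i₀ := fun h' => hm₁J1 (Finset.mem_of_mem_erase h')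
          simp only [if_true, if_neg hle]
          rw [hW0 l hm₁J1 hm₁J2, one_mul]
        · simp only [if_neg hlm]
          by_cases hli : l = i₀
          · subst hli
            simp only [if_true, if_neg (Finset.notMem_erase _ _), if_pos hi₀]
            rw [hW1 l hi₀, mul_one]
          · simp only [if_neg hli]
            by_cases hl1 : l ∈ J1
            · simp only [if_pos hl1, if_pos (Finset.mem_erase.2 ⟨hli, hl1⟩)]
              rw [hW1 l hl1]; exact Nz_mul_S (hzs l hl1)
            · have hle : l ∉ J1.erase i₀ := fun h' => hl1 (Finset.mem_of_mem_erase h')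
              simp only [if_neg hl1, if_neg hle]
              by_cases hl2 : l ∈ J2
              · simp only [if_pos hl2]
                rw [hW2 l hl1 hl2]
                exact XY (hx l hl2).2.1 (hy1 l hl2).1 (hy1 l hl2).2
              · simp only [if_neg hl2]
                rw [hW0 l hl1 hl2, one_mul]
    have hQ : ptens k t (fun l => T₂ l * W l) = - ptens k t C := by
      rw [ptens_signs (fun l => T₂ l * W l) C J2]
      · rw [Odd.neg_one_pow hodd2, neg_one_smul]
      · intro l
        rw [hT₂, hC]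
        by_cases hlm : l = m₁
        · subst hlm
          simp only [if_true, if_neg hm₁J2]
          rw [hW0 l hm₁J1 hm₁J2, mul_one]
        · simp only [if_neg hlm]
          by_cases hli : l = i₀
          · subst hli
            simp only [if_true, if_neg hi₀J2, if_pos hi₀]
            rw [hW1 l hi₀, one_mul]
          · simp only [if_neg hli]
            by_cases hl1 : l ∈ J1
            · have hl2 : l ∉ J2 := Finset.disjoint_left.1 hd hl1
              simp only [if_pos hl1, if_neg hl2]
              rw [hW1 l hl1]; exact S_mul_Nz (hzs l hl1)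
            · simp only [if_neg hl1]
              by_cases hl2 : l ∈ J2
              · simp only [if_pos hl2]
                rw [hW2 l hl1 hl2]
                exact YX (hx l hl2).2.1 (hy1 l hl2).1 (hy1 l hl2).2
              · simp only [if_neg hl2]
                rw [hW0 l hl1 hl2, mul_one]
    rw [hP, hQ, sub_neg_eq_add, ← two_smul F (ptens k t C), smul_smul] at s3
    set z'' : Fin t → Fin k → F := fun l => if l = m₁ then z i₀ else if l ∈ J1 then z l else x l with hz''
    have hfin : C = famS (insert m₁ (J1 ∪ J2)) ∅ z'' x x' := by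
      funext l
      rw [hC]
      by_cases hlm : l = m₁
      · subst hlm
        simp only [if_true]
        rw [famS_mem1 _ _ _ (Finset.mem_insert_self _ _), hz'']
        simp only [if_true]
      · simp only [if_neg hlm]
        by_cases hl1 : l ∈ J1
        · simp only [if_pos hl1]
          rw [famS_mem1 _ _ _ (Finset.mem_insert_of_mem (Finset.mem_union_left _ hl1)), hz'']
          simp only [if_neg hlm, if_pos hl1]
        · by_cases hl2 : l ∈ J2
          · simp only [if_neg hl1, if_pos hl2]
            rw [famS_mem1 _ _ _ (Finset.mem_insert_of_mem (Finset.mem_union_right _ hl2)), hz'']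
            simp only [if_neg hlm, if_neg hl1]
          · simp only [if_neg hl1, if_neg hl2]
            rw [famS_not_mem _ _ _ (by
              rw [Finset.mem_insert, Finset.mem_union]
              exact fun h' => h'.elim hlm (fun h'' => h''.elim hl1 hl2)) (Finset.notMem_empty l)]
    rw [hfin] at s3
    refine ⟨insert m₁ (J1 ∪ J2), z'', _, ?_, ?_, ?_, ?_, s3⟩
    · rw [Finset.card_insert_of_notMem hm₁, Finset.card_union_of_disjoint hd]
      exact Even.add_one (Odd.add_odd hJ1 hodd2)
    · rw [Finset.card_insert_of_notMem hm₁, Finset.card_union_of_disjoint hd]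
      have h1 : 0 < J1.card := Finset.card_pos.2 ⟨i₀, hi₀⟩
      have h2' : 0 < J2.card := Finset.card_pos.2 ⟨m, hmJ2⟩
      omega
    · intro l hl
      rw [hz'']
      by_cases hlm : l = m₁
      · simp only [if_pos hlm]; exact hz i₀ hi₀
      · simp only [if_neg hlm]
        by_cases hl1 : l ∈ J1
        · simp only [if_pos hl1]; exact hz l hl1
        · simp only [if_neg hl1]
          rcases Finset.mem_insert.1 hl with h' | h'
          · exact absurd h' hlm
          · rcases Finset.mem_union.1 h' with h'' | h''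
            · exact absurd h'' hl1
            · exact (hx l h'').1
    · exact mul_ne_zero (mul_ne_zero hc (mul_ne_zero (h2pow _) hc)) h2

end Cfsg.Agent.Lib.Helper8.TWS2AConv
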