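import Mathlib
import Cfsg.Agent.Lib.Helper8.TWS2ALemA
import Cfsg.Agent.Lib.Helper29.TWSOneSlot2
import Cfsg.Agent.Lib.Helper13.TWU2AL2b
import Cfsg.Agent.Lib.Helper26.TWSIIT2

/-!
# S5668 (C7 symplectic) — STAGE II, CASE A: L2 `stable_TDS` (helper8)

`TDS X i y D w` is an additive group stable under conjugation by `slot l Sp(A)` (`l ≠ i`, `l ∉ D`).
`wform_mul_zeroS`: two matrices with weight `N_y` at `i` have product `0` (`Ψ = Ψ * slot i E`, `Ψ' = slot i E' * Ψ'`,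
`E = -y* y†`, `E' = y y*†`, `E E' = 0`).
-/

set_option autoImplicit false
set_option linter.unusedSectionVars false
set_option linter.unusedVariables false

namespace Cfsg.Agent.Lib.Helper8.TWS2A
open Matrix Cfsg.Geo Cfsg.Agent.Lib.Helper18.AschA89 Cfsg.Agent.Lib.Helper8.TW
open Cfsg.Agent.Lib.Helper5.TWS Cfsg.Agent.Lib.Helper28.TWU2A
open Cfsg.Agent.Lib.Helper25.SpT (sf sfv)
open Cfsg.Agent.Lib.Helper29.TWSOne

variable {F : Type*} [Field F] {t k : ℕ}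

/-- the blocks of a matrix with a non-zero weight `w` at `l` are multiples of `w` -/
lemma blk_eq_smul_of_wform (l : Fin t) (w : Matrix (Fin k) (Fin k) F) (hw : w ≠ 0)
    (Ψ : Matrix (Idx t k) (Idx t k) F) (h : WForm l w Ψ) (p p' : Idx t k) :
    ∃ c : F, blk l Ψ p p' = c • w := by
  obtain ⟨a₀, b₀, hab⟩ : ∃ a₀ b₀, w a₀ b₀ ≠ 0 := by
    by_contra hcon
    push Not at hcon
    apply hw
    ext a b
    exact hcon a b
  refine ⟨blk l Ψ p p' a₀ b₀ / w a₀ b₀, ?_⟩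
  ext a b
  have h1 := h (Function.update p l a₀) (Function.update p' l b₀) a b
  rw [Function.update_idem, Function.update_idem, Function.update_self, Function.update_self] at h1
  rw [Matrix.smul_apply, smul_eq_mul, blk_apply, blk_apply, div_mul_eq_mul_div, eq_div_iff hab]
  exact h1

lemma eq_of_blk (l : Fin t) (Ψ Ψ' : Matrix (Idx t k) (Idx t k) F) (h : ∀ p p', blk l Ψ p p' = blk l Ψ' p p') :
    Ψ = Ψ' := by
  ext p p'
  rw [← blk_self l Ψ p p', ← blk_self l Ψ' p p', h p p']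

/-- L2a: two matrices with weight `N_y` at `i` multiply to `0` -/
theorem wform_mul_zeroS (hk : Even k) (i : Fin t) (y : Fin k → F) (hy0 : y ≠ 0)
    (Ψ Ψ' : Matrix (Idx t k) (Idx t k) F) (h : WForm i (Nz y) Ψ) (h' : WForm i (Nz y) Ψ') : Ψ * Ψ' = 0 := by
  obtain ⟨ys, hys⟩ := exists_partner hk hy0
  have hys' : sf ys y = -1 := by rw [Cfsg.Agent.Lib.Helper25.SpT.sf_skew, hys]
  have hN0 : Nz y ≠ 0 := Nz_ne_zero hk hy0
  have e1 : Ψ * slot k t i (-dy ys y) = Ψ := by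
    apply eq_of_blk i
    intro p p'
    obtain ⟨c, hc⟩ := blk_eq_smul_of_wform i (Nz y) hN0 Ψ h p p'
    rw [blk_mul_slot, hc, Matrix.smul_mul, Matrix.mul_neg, dy_mul_dy, hys', neg_smul, one_smul, neg_neg]
  have e2 : slot k t i (dy y ys) * Ψ' = Ψ' := by
    apply eq_of_blk i
    intro p p'
    obtain ⟨c, hc⟩ := blk_eq_smul_of_wform i (Nz y) hN0 Ψ' h' p p'
    rw [blk_slot_mul, hc, Matrix.mul_smul, dy_mul_dy, hys, one_smul]
  have e3 : slot k t i (-dy ys y) * slot k t i (dy y ys) = 0 := by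
    rw [slot_mul, Matrix.neg_mul, dy_mul_dy, Cfsg.Agent.Lib.Helper25.SpT.sf_self, zero_smul, neg_zero, slot_zero]
  calc Ψ * Ψ' = (Ψ * slot k t i (-dy ys y)) * (slot k t i (dy y ys) * Ψ') := by rw [e1, e2]
    _ = Ψ * (slot k t i (-dy ys y) * slot k t i (dy y ys)) * Ψ' := by
        simp only [Matrix.mul_assoc]
    _ = 0 := by rw [e3, Matrix.mul_zero, Matrix.zero_mul]

lemma wform_add (l : Fin t) (w : Matrix (Fin k) (Fin k) F) (Ψ Ψ' : Matrix (Idx t k) (Idx t k) F)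
    (h : WForm l w Ψ) (h' : WForm l w Ψ') : WForm l w (Ψ + Ψ') := by
  intro p p' a b
  rw [Matrix.add_apply, Matrix.add_apply, add_mul, add_mul, h p p' a b, h' p p' a b]

lemma wform_neg (l : Fin t) (w : Matrix (Fin k) (Fin k) F) (Ψ : Matrix (Idx t k) (Idx t k) F)
    (h : WForm l w Ψ) : WForm l w (-Ψ) := by
  intro p p' a b
  rw [Matrix.neg_apply, Matrix.neg_apply, neg_mul, neg_mul, h p p' a b]

/-- L2: `TDS` is an additive group stable under `slot l Sp(A)` -/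
theorem stable_TDS [Fintype F] (hk : Even k) (X : Subgroup (GL (Idx t k) F)) (hHX : HS t k F ≤ X) (i : Fin t) (y : Fin k → F)
    (hy0 : y ≠ 0) (D : Finset (Fin t)) (w : Fin t → Matrix (Fin k) (Fin k) F) (l : Fin t) (hli : l ≠ i)
    (hlD : l ∉ D) : StableAtS l (TDS X i y D w) := by
  refine ⟨?_, ?_, ?_⟩
  · rintro Ψ Ψ' ⟨h1, h2, h3⟩ ⟨h1', h2', h3'⟩
    refine ⟨InM_mul8 X Ψ Ψ' h1 h1' (wform_mul_zeroS hk i y hy0 Ψ Ψ' h2 h2'), wform_add i _ Ψ Ψ' h2 h2', ?_⟩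
    intro l' hl'
    exact wform_add l' _ Ψ Ψ' (h3 l' hl') (h3' l' hl')
  · rintro Ψ ⟨h1, h2, h3⟩
    refine ⟨?_, wform_neg i _ Ψ h2, fun l' hl' => wform_neg l' _ Ψ (h3 l' hl')⟩
    obtain ⟨u, hu, hua⟩ := h1
    refine ⟨u⁻¹, X.inv_mem hu, ?_⟩
    rw [inv_val_sq0 u Ψ hua (wform_mul_zeroS hk i y hy0 Ψ Ψ h2 h2), sub_eq_add_neg]
  · rintro g hg Ψ ⟨h1, h2, h3⟩
    refine ⟨?_, ?_, ?_⟩
    · have hgX : slotGL l g ∈ X := hHX (Cfsg.Agent.Lib.Helper26.TWSIILeaf.slotGL_mem_HS l g hg)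
      exact InM_conj8 X (slotGL l g) hgX Ψ h1
    · exact Cfsg.Agent.Lib.Helper13.TWU2ALeaf.wform_slot_mul i l hli _ _ _ Ψ h2
    · intro l' hl'
      have hne : l ≠ l' := fun h' => hlD (h' ▸ hl')
      exact Cfsg.Agent.Lib.Helper13.TWU2ALeaf.wform_slot_mul l' l hne _ _ _ Ψ (h3 l' hl')

end Cfsg.Agent.Lib.Helper8.TWS2A
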