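import Mathlib
import Cfsg.Agent.Lib.Helper8.TWS2ALemA
import Cfsg.Agent.Lib.Helper8.TWS2AStable
import Cfsg.Agent.Lib.Helper8.TWS2AConv
import Cfsg.Agent.Lib.Helper4.TWS2AL1
import Cfsg.Agent.Lib.Helper1.TWS2AL6
import Cfsg.Agent.Lib.Helper22.TWS2AL7
import Cfsg.Agent.Lib.Helper24.TWU2AL5
import Cfsg.Agent.Lib.Helper16.TWRootB
import Cfsg.Agent.Lib.Helper6.TWQ1

/-!
# S5668 (C7 symplectic; owner helper5) — STAGE II, CASE A (owner helper8): the recursion `exists_fullS` and `caseAS`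

`caseAS`: `u ∈ X \ G`, `InZ i y u` (`y ≠ 0`), `HS ≤ X ≤ GSV`, `t` odd `≥ 3`  ⟹  `∃ J, |J| odd ≥ 3, XTS X J`.
Leaves: L1 `structureS` (helper4), L2 `stable_TDS` (helper8), Lemma A + A' `lemmaAS` (helper8), L5 `final_form` (helper24, form-free),
L6 `odd_of_mem_GSV` (helper1), L7 `XTS_of_oneS` (helper22), CV `convS` (helper8; pure-tensor operations helper4 + helper8).
-/

set_option autoImplicit false
set_option linter.unusedSectionVars false
set_option linter.unusedVariables false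

namespace Cfsg.Agent.Lib.Helper8.TWS2AMain
open Matrix Cfsg.Geo Cfsg.Agent.Lib.Helper18.AschA89 Cfsg.Agent.Lib.Helper8.TW
open Cfsg.Agent.Lib.Helper5.TWS Cfsg.Agent.Lib.Helper28.TWU2A
open Cfsg.Agent.Lib.Helper25.SpT (sf sfv)
open Cfsg.Agent.Lib.Helper29.TWSOne Cfsg.Agent.Lib.Helper8.TWS2A
open Cfsg.Agent.Lib.Helper14.TWII (InZ)

variable {F : Type*} [Field F] {t k : ℕ}

/-! ## ASSEMBLY (helper8) -/

lemma wform_zeroS (l : Fin t) (w : Matrix (Fin k) (Fin k) F) : WForm l w (0 : Matrix (Idx t k) (Idx t k) F) := by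
  intro p p' a b
  simp

/-- the recursion over the positions `≠ i` -/
theorem exists_fullS [Fintype F] (h2 : (2 : F) ≠ 0) (hk : Even k) (X : Subgroup (GL (Idx t k) F)) (hHX : HS t k F ≤ X)
    (i : Fin t) (y : Fin k → F) (hy0 : y ≠ 0) (Ψ₀ : Matrix (Idx t k) (Idx t k) F) (h0 : InM X (1 + Ψ₀))
    (hW0 : WForm i (Nz y) Ψ₀) (hne : Ψ₀ ≠ 0) :
    ∀ D : Finset (Fin t), i ∉ D → ∃ (J1 J2 : Finset (Fin t)) (zz xx xx' : Fin t → Fin k → F)
      (Ψ : Matrix (Idx t k) (Idx t k) F),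
      J1 ⊆ D ∧ J2 ⊆ D ∧ Disjoint J1 J2 ∧ (∀ l ∈ J1, zz l ≠ 0) ∧
      (∀ l ∈ J2, xx l ≠ 0 ∧ sf (xx l) (xx' l) = 0 ∧ ¬ ∃ c : F, xx' l = c • xx l) ∧ Ψ ≠ 0 ∧
      TDS X i y D (famS J1 J2 zz xx xx') Ψ ∧ (J1 = ∅ → J2 = ∅ → Ψ = Ψ₀) := by
  classical
  intro D
  induction D using Finset.induction_on with
  | empty =>
    intro _
    exact ⟨∅, ∅, fun _ => 0, fun _ => 0, fun _ => 0, Ψ₀, Finset.Subset.refl _, Finset.Subset.refl _,
      Finset.disjoint_empty_left _, fun l hl => absurd hl (Finset.notMem_empty l),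
      fun l hl => absurd hl (Finset.notMem_empty l), hne,
      ⟨h0, hW0, fun l hl => absurd hl (Finset.notMem_empty l)⟩, fun _ _ => rfl⟩
  | insert l D hlD ih =>
    intro hiD
    have hil : l ≠ i := fun h => hiD (by rw [h]; exact Finset.mem_insert_self _ _)
    have hiD' : i ∉ D := fun h => hiD (Finset.mem_insert_of_mem h)
    obtain ⟨J1, J2, zz, xx, xx', Ψ, hJ1D, hJ2D, hdis, hzz, hxx, hΨ0, hTD, hlast⟩ := ih hiD'
    have hlJ1 : l ∉ J1 := fun h => hlD (hJ1D h)
    have hlJ2 : l ∉ J2 := fun h => hlD (hJ2D h)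
    by_cases htr : Triv l Ψ
    · refine ⟨J1, J2, zz, xx, xx', Ψ, hJ1D.trans (Finset.subset_insert _ _), hJ2D.trans (Finset.subset_insert _ _),
        hdis, hzz, hxx, hΨ0, ⟨hTD.1, hTD.2.1, ?_⟩, hlast⟩
      intro l' hl'
      rcases Finset.mem_insert.mp hl' with rfl | hl'D
      · rw [famS_not_mem zz xx xx' hlJ1 hlJ2]; exact htr
      · exact hTD.2.2 l' hl'D
    · obtain ⟨w, Ψ₁, hw, hT1, hΨ10, hW1⟩ := lemmaAS h2 hk l (TDS X i y D (famS J1 J2 zz xx xx'))
        (stable_TDS hk X hHX i y hy0 D (famS J1 J2 zz xx xx') l hil hlD) Ψ hTD htr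
      rcases hw with ⟨z, hz0, rfl⟩ | ⟨x, x', hx0, hxx0, hind, rfl⟩
      · -- an `N`-type weight at `l`
        refine ⟨insert l J1, J2, Function.update zz l z, xx, xx', Ψ₁, Finset.insert_subset_insert _ hJ1D,
          hJ2D.trans (Finset.subset_insert _ _), ?_, ?_, hxx, hΨ10, ⟨hT1.1, hT1.2.1, ?_⟩, ?_⟩
        · rw [Finset.disjoint_insert_left]; exact ⟨hlJ2, hdis⟩
        · intro l' hl'
          rcases Finset.mem_insert.mp hl' with rfl | hl'J
          · rw [Function.update_self]; exact hz0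
          · have hne' : l' ≠ l := fun h => hlJ1 (h ▸ hl'J)
            rw [Function.update_of_ne hne']; exact hzz l' hl'J
        · intro l' hl'
          rcases Finset.mem_insert.mp hl' with rfl | hl'D
          · rw [famS_mem1 _ _ _ (Finset.mem_insert_self _ _), Function.update_self]; exact hW1
          · have hne' : l' ≠ l := fun h => hlD (h ▸ hl'D)
            rw [famS_insert1_ne zz xx xx' l z hne']; exact hT1.2.2 l' hl'D
        · intro h
          exact absurd h (Finset.insert_ne_empty _ _)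
      · -- a `Λ²`-type weight at `l`
        refine ⟨J1, insert l J2, zz, Function.update xx l x, Function.update xx' l x', Ψ₁,
          hJ1D.trans (Finset.subset_insert _ _), Finset.insert_subset_insert _ hJ2D, ?_, hzz, ?_, hΨ10,
          ⟨hT1.1, hT1.2.1, ?_⟩, ?_⟩
        · rw [Finset.disjoint_insert_right]; exact ⟨hlJ1, hdis⟩
        · intro l' hl'
          rcases Finset.mem_insert.mp hl' with rfl | hl'J
          · rw [Function.update_self, Function.update_self]; exact ⟨hx0, hxx0, hind⟩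
          · have hne' : l' ≠ l := fun h => hlJ2 (h ▸ hl'J)
            rw [Function.update_of_ne hne', Function.update_of_ne hne']; exact hxx l' hl'J
        · intro l' hl'
          rcases Finset.mem_insert.mp hl' with rfl | hl'D
          · rw [famS_mem2 _ _ _ hlJ1 (Finset.mem_insert_self _ _), Function.update_self, Function.update_self]
            exact hW1
          · have hne' : l' ≠ l := fun h => hlD (h ▸ hl'D)
            rw [famS_insert2_ne zz xx xx' l x x' hne']; exact hT1.2.2 l' hl'D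
        · intro _ h
          exact absurd h (Finset.insert_ne_empty _ _)

/-- **(IIA-S) Case A of Stage II, symplectic** -/
theorem caseAS [Fintype F] (hodd : Odd (Fintype.card F)) (hk : Even k) (hk2 : 2 ≤ k) (ht : Odd t) (ht3 : 3 ≤ t)
    (X : Subgroup (GL (Idx t k) F)) (hHX : HS t k F ≤ X) (hXG : X ≤ GSV t k F) (i : Fin t) (y : Fin k → F)
    (hy0 : y ≠ 0) (u : GL (Idx t k) F) (huX : u ∈ X) (huG : u ∉ Gstd t k F) (hu : InZ i y u) :
    ∃ J : Finset (Fin t), Odd J.card ∧ 3 ≤ J.card ∧ XTS X J := by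
  classical
  have h2 : (2 : F) ≠ 0 := by
    intro h
    have hc : ringChar F = 2 := by
      apply CharP.ringChar_of_prime_eq_zero Nat.prime_two
      exact_mod_cast h
    have h3 : Fintype.card F % 2 = 0 := FiniteField.even_card_iff_char_two.1 hc
    have h4 := Nat.odd_iff.1 hodd
    omega
  obtain ⟨hu1, hu2⟩ := hu
  set Ψ₀ : Matrix (Idx t k) (Idx t k) F := (u : Matrix (Idx t k) (Idx t k) F) - 1 with hΨ₀
  have h0 : InM X (1 + Ψ₀) := ⟨u, huX, by rw [hΨ₀]; abel⟩
  have hW0 : WForm i (Nz y) Ψ₀ := Cfsg.Agent.Lib.Helper4.TWS2A.structureS hk i y hy0 u (hXG huX) hu1 hu2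
  have h1ne : (1 : Matrix (Fin k) (Fin k) F) ≠ 0 := by
    intro h1
    have := congrFun (congrFun h1 ⟨0, by omega⟩) ⟨0, by omega⟩
    simp at this
  -- the end of the proof, for a matrix with weights everywhere
  have hend : ∀ (J1 J2 : Finset (Fin t)) (zz xx xx' : Fin t → Fin k → F) (Ψ : Matrix (Idx t k) (Idx t k) F),
      (∀ l ∈ J1, zz l ≠ 0) → (∀ l ∈ J2, xx l ≠ 0 ∧ sf (xx l) (xx' l) = 0 ∧ ¬ ∃ c : F, xx' l = c • xx l) →
      (∀ l, WForm l (famS J1 J2 zz xx xx' l) Ψ) → ∃ c : F, Ψ = c • ptens k t (famS J1 J2 zz xx xx') := by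
    intro J1 J2 zz xx xx' Ψ hzz hxx hW
    exact Cfsg.Agent.Lib.Helper24.TWU2ALeaf.final_form (famS J1 J2 zz xx xx') (fun l => by
      by_cases h : l ∈ J1
      · rw [famS_mem1 _ _ _ h]; exact Nz_ne_zero hk (hzz l h)
      · by_cases h' : l ∈ J2
        · rw [famS_mem2 _ _ _ h h']; exact wedge_ne_zero hk (hxx l h').1 (hxx l h').2.2
        · rw [famS_not_mem _ _ _ h h']; exact h1ne) Ψ hW
  -- `Ψ₀` is not trivial at all positions `≠ i`
  have hnt : ¬ ∀ l, l ≠ i → Triv l Ψ₀ := by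
    intro hall
    obtain ⟨c, hc⟩ := hend {i} ∅ (fun _ => y) (fun _ => 0) (fun _ => 0) Ψ₀ (fun l _ => hy0)
      (fun l hl => absurd hl (Finset.notMem_empty l)) (fun l => by
      by_cases h : l = i
      · subst h; rw [famS_mem1 _ _ _ (Finset.mem_singleton_self _)]; exact hW0
      · rw [famS_not_mem _ _ _ (by rw [Finset.mem_singleton]; exact h) (Finset.notMem_empty l)]; exact hall l h)
    apply huG
    have hfam : famS {i} ∅ (fun _ => y) (fun _ => (0 : Fin k → F)) (fun _ => (0 : Fin k → F)) =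
        Function.update (fun _ => (1 : Matrix (Fin k) (Fin k) F)) i (Nz y) := by
      funext l
      by_cases h : l = i
      · subst h; rw [famS_mem1 _ _ _ (Finset.mem_singleton_self _), Function.update_self]
      · rw [famS_not_mem _ _ _ (by rw [Finset.mem_singleton]; exact h) (Finset.notMem_empty l),
          Function.update_of_ne h]
    have hu : u = (srd hk i y hy0).elt c := by
      apply Units.ext
      rw [RD.elt_val]
      have h1 : (u : Matrix (Idx t k) (Idx t k) F) = 1 + Ψ₀ := by rw [hΨ₀]; abel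
      rw [h1, hc, hfam, ← Cfsg.Agent.Lib.Helper6.TWQ.slot_eq_ptens]
      rfl
    rw [hu]
    exact (Cfsg.Agent.Lib.Helper16.TWLeaf.RD_elt_mem_H _ c).1
  have hne : Ψ₀ ≠ 0 := by
    intro h
    apply hnt
    intro l _
    rw [h]; exact wform_zeroS l _
  obtain ⟨J1, J2, zz, xx, xx', Ψ, hJ1D, hJ2D, hdis, hzz, hxx, hΨ0, hTD, hlast⟩ :=
    exists_fullS h2 hk X hHX i y hy0 Ψ₀ h0 hW0 hne (Finset.univ.erase i) (Finset.notMem_erase i _)
  have hiJ1 : i ∉ J1 := fun h => Finset.notMem_erase i _ (hJ1D h)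
  have hiJ2 : i ∉ J2 := fun h => Finset.notMem_erase i _ (hJ2D h)
  -- all weights
  have hWall : ∀ l, WForm l (famS (insert i J1) J2 (Function.update zz i y) xx xx' l) Ψ := by
    intro l
    by_cases hli : l = i
    · subst hli
      rw [famS_mem1 _ _ _ (Finset.mem_insert_self _ _), Function.update_self]; exact hTD.2.1
    · rw [famS_insert1_ne zz xx xx' i y hli]
      exact hTD.2.2 l (Finset.mem_erase.mpr ⟨hli, Finset.mem_univ _⟩)
  have hzz' : ∀ l ∈ insert i J1, Function.update zz i y l ≠ 0 := by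
    intro l hl
    rcases Finset.mem_insert.mp hl with rfl | hlJ
    · rw [Function.update_self]; exact hy0
    · have hne' : l ≠ i := fun h => hiJ1 (h ▸ hlJ)
      rw [Function.update_of_ne hne']; exact hzz l hlJ
  have hdis' : Disjoint (insert i J1) J2 := by
    rw [Finset.disjoint_insert_left]; exact ⟨hiJ2, hdis⟩
  obtain ⟨c, hc⟩ := hend (insert i J1) J2 (Function.update zz i y) xx xx' Ψ hzz' hxx hWall
  have hc0 : c ≠ 0 := by
    intro h; apply hΨ0; rw [hc, h, zero_smul]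
  -- `J1 ∪ J2 ≠ ∅`
  have hJne : ¬ (J1 = ∅ ∧ J2 = ∅) := by
    rintro ⟨h1, h2'⟩
    apply hnt
    intro l hli
    have h3 := hTD.2.2 l (Finset.mem_erase.mpr ⟨hli, Finset.mem_univ _⟩)
    rw [famS_not_mem _ _ _ (by rw [h1]; exact Finset.notMem_empty l) (by rw [h2']; exact Finset.notMem_empty l),
      hlast h1 h2'] at h3
    exact h3
  obtain ⟨g, hgX, hgv⟩ := hTD.1
  rw [hc] at hgv
  have hoddJ : Odd (insert i J1).card :=
    Cfsg.Agent.Lib.Helper1.TWS2ALeaf.odd_of_mem_GSV h2 hk (insert i J1) J2 hdis' ⟨i, Finset.mem_union_left _ (Finset.mem_insert_self _ _)⟩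
      (Function.update zz i y) xx xx' hzz' hxx c hc0 g (hXG hgX) hgv
  by_cases hJ2 : J2 = ∅
  · -- pure `N`-type element
    have hJ1ne : J1 ≠ ∅ := fun h => hJne ⟨h, hJ2⟩
    refine ⟨insert i J1, hoddJ, ?_, Cfsg.Agent.Lib.Helper22.TWS2ALeaf.XTS_of_oneS hk X hHX (insert i J1) (Finset.insert_nonempty _ _)
      (Function.update zz i y) xx xx' hzz' c hc0 ⟨g, hgX, by rw [hgv, hJ2]⟩⟩
    rw [Finset.card_insert_of_notMem hiJ1] at hoddJ ⊢
    have : 0 < J1.card := Finset.card_pos.mpr (Finset.nonempty_iff_ne_empty.mpr hJ1ne)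
    obtain ⟨m, hm⟩ := hoddJ
    omega
  · obtain ⟨J, z', c', hJodd, hJ3, hz', hc', hin⟩ := Cfsg.Agent.Lib.Helper8.TWS2AConv.convS h2 hk ht X hHX (insert i J1) J2 hdis' hoddJ
      (Finset.nonempty_iff_ne_empty.mpr hJ2) (Function.update zz i y) xx xx' hzz' hxx c hc0 ⟨g, hgX, hgv⟩
    have hJne' : J.Nonempty := by
      rw [← Finset.card_pos]; omega
    exact ⟨J, hJodd, hJ3, Cfsg.Agent.Lib.Helper22.TWS2ALeaf.XTS_of_oneS hk X hHX J hJne' z' xx xx' hz' c' hc' hin⟩

end Cfsg.Agent.Lib.Helper8.TWS2AMain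

namespace Cfsg.Agent.Lib.Helper8.TWS2AMain
open Matrix Cfsg.Geo Cfsg.Agent.Lib.Helper18.AschA89 Cfsg.Agent.Lib.Helper8.TW
open Cfsg.Agent.Lib.Helper5.TWS
open Cfsg.Agent.Lib.Helper14.TWII (InZ)

/-- `caseAS` in the exact shape of the hypothesis `hA` of `Helper5.TWS.stageIIS_of` / `mainTS_of_II` -/
theorem caseAS_hA {F : Type*} [Field F] [Fintype F] {k : ℕ} (hodd : Odd (Fintype.card F)) (hk : Even k) (hk2 : 2 ≤ k) :
    ∀ t, Odd t → 3 ≤ t → ∀ X : Subgroup (GL (Idx t k) F), HS t k F ≤ X → X ≤ GSV t k F →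
      ∀ (j : Fin t) (z : Fin k → F), z ≠ 0 → ∀ u : GL (Idx t k) F, u ∈ X → u ∉ Gstd t k F → InZ j z u →
        ∃ J : Finset (Fin t), Odd J.card ∧ 3 ≤ J.card ∧ XTS X J :=
  fun t ht ht3 X hHX hXG j z hz u huX huG hu => caseAS hodd hk hk2 ht ht3 X hHX hXG j z hz u huX huG hu

end Cfsg.Agent.Lib.Helper8.TWS2AMain
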