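import Mathlib
import Cfsg.Agent.Lib.Helper5.TWU.Defs
import Cfsg.Agent.Lib.Helper5.TWU.StageIDefs
import Cfsg.Agent.Lib.Helper16.TWImg
import Cfsg.Agent.Lib.Helper16.TWRootA
import Cfsg.Agent.Lib.Helper16.TWRootC
import Cfsg.Agent.Lib.Helper26.TWFibA
import Cfsg.Agent.Lib.Helper26.TWFibB
import Cfsg.Agent.Lib.Helper23.TWUQMain
import Cfsg.Agent.Lib.Helper23.TWUQU
import Cfsg.Agent.Lib.Helper23.TWUT
import Cfsg.Agent.Lib.Helper23.TWUT2
import Cfsg.Agent.Lib.Helper1.TWUIUT8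

/-!
S5672 (C7 unitary; owner helper5) Stage I, leaf I6-k3 `step6_three` (helper8): `k = 3`, two isotropic points give two
different planes `P(y) = A₀(y)^⊥ ∋ y`; `W' ≤ fib i (P ⊓ P')` is then an isotropic fibre, so `g ∈ G` (NS).
(No case split on the isotropy of `a₀` is needed: `y ∈ P(y)` always, and the isotropic vectors span `A`.)
-/

set_option autoImplicit false
set_option linter.unusedSectionVars false
set_option linter.unusedVariables false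

namespace Cfsg.Agent.Lib.Helper8.TWULeaf
open Matrix Cfsg.Geo Cfsg.Agent.Lib.Helper18.AschA89 Cfsg.Agent.Lib.Helper8.TW Cfsg.Agent.Lib.Helper5.TWU
open Cfsg.Agent.Lib.Helper20.UT (hv)
open Cfsg.Agent.Lib.Helper23.TWUQ (NSp FCp)

variable {F : Type*} [Field F] [Fintype F] {t k q : ℕ}

/-- I6-k3 -/
theorem step6_three {X : Subgroup (GL (Idx t k) F)} (c : CtxU q X) (hk3 : k = 3) (g : GL (Idx t k) F) (r₂ : RD t k F)
    (w : FRWU q X g r₂)
    (hst : ∀ r₁ : RD t k F, RU q r₁ → ∃ A₀ : Submodule F (Fin k → F), Module.finrank F A₀ = k - 2 ∧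
      (∀ a ∈ A₀, hv q a r₁.y = 0) ∧ r₁.y ∉ A₀ ∧ img g r₂.W ≤ fib r₁.i (perpU q A₀)) : False := by
  classical
  have hF := c.hF
  have ht := c.ht
  have hk2 : 2 ≤ k := by omega
  obtain ⟨i⟩ : Nonempty (Fin t) := ⟨⟨0, by omega⟩⟩
  have hgD : g ∈ DUV t k q F := c.hXD w.hgX
  -- the planes
  have hP : ∀ y : Fin k → F, y ≠ 0 → hv q y y = 0 → ∃ P : Submodule F (Fin k → F), Module.finrank F P = 2 ∧ y ∈ P ∧
      img g r₂.W ≤ fib i P := by
    intro y hy0 hy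
    obtain ⟨A₀, hfr, hperp, -, hle⟩ := hst (urd q i y hy0 hy) (urd_RU q i y hy0 hy)
    refine ⟨perpU q A₀, ?_, ?_, hle⟩
    · have h1 := Cfsg.Agent.Lib.Helper23.TWUT.finrank_perpU hF A₀
      rw [Fintype.card_fin] at h1
      omega
    · intro a ha
      exact Cfsg.Agent.Lib.Helper20.UT.hv_symm_zero hF (hperp a ha)
  obtain ⟨y₁, hy₁0, hy₁⟩ := Cfsg.Agent.Lib.Helper1.TWULeaf.exists_iso (q := q) hF hk2
  obtain ⟨P₁, hfr₁, -, hle₁⟩ := hP y₁ hy₁0 hy₁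
  -- an isotropic vector outside `P₁`
  obtain ⟨y₂, hy₂0, hy₂, hy₂P⟩ : ∃ y₂ : Fin k → F, y₂ ≠ 0 ∧ hv q y₂ y₂ = 0 ∧ y₂ ∉ P₁ := by
    by_contra hcon
    push Not at hcon
    have hspan : Submodule.span F {y : Fin k → F | hv q y y = 0} ≤ P₁ := by
      rw [Submodule.span_le]
      intro y hy
      by_cases hy0 : y = 0
      · rw [hy0]; exact P₁.zero_mem
      · exact hcon y hy0 hy
    rw [Cfsg.Agent.Lib.Helper1.TWULeaf.span_iso hF hk2] at hspan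
    have h1 := Submodule.finrank_mono hspan
    rw [finrank_top, Module.finrank_fin_fun, hfr₁] at h1
    omega
  obtain ⟨P₂, hfr₂, hy₂P₂, hle₂⟩ := hP y₂ hy₂0 hy₂
  -- `finrank (P₁ ⊓ P₂) = 1`
  have hlt : P₁ ⊓ P₂ < P₂ := by
    refine lt_of_le_of_ne inf_le_right ?_
    intro h
    apply hy₂P
    have : y₂ ∈ P₁ ⊓ P₂ := by rw [h]; exact hy₂P₂
    exact this.1
  have hfr3 := Submodule.finrank_lt_finrank_of_lt hlt
  rw [hfr₂] at hfr3
  have hle3 : img g r₂.W ≤ fib i (P₁ ⊓ P₂) := by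
    rw [Cfsg.Agent.Lib.Helper26.TWLeaf.fib_inf]
    exact le_inf hle₁ hle₂
  have hfrW : Module.finrank F (img g r₂.W : Submodule F (Idx t k → F)) = k ^ (t - 1) := by
    rw [Cfsg.Agent.Lib.Helper16.TWLeaf.finrank_img, Cfsg.Agent.Lib.Helper16.TWLeaf.RD_finrank_W]
  have hκ : 0 < k ^ (t - 1) := Nat.pow_pos (by omega)
  have hfr4 := Submodule.finrank_mono hle3
  rw [hfrW, Cfsg.Agent.Lib.Helper26.TWLeaf.finrank_fib] at hfr4
  have hfr5 : Module.finrank F (P₁ ⊓ P₂ : Submodule F (Fin k → F)) = 1 := by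
    have : Module.finrank F (P₁ ⊓ P₂ : Submodule F (Fin k → F)) ≠ 0 := by
      intro h0
      rw [h0, Nat.mul_zero] at hfr4
      omega
    omega
  -- `P₁ ⊓ P₂ = F ∙ a₁`
  obtain ⟨⟨a₁, ha₁mem⟩, ha₁0, ha₁span⟩ := finrank_eq_one_iff'.1 hfr5
  have ha₁0' : a₁ ≠ 0 := by
    intro h
    apply ha₁0
    exact Subtype.ext h
  have hspan : P₁ ⊓ P₂ = F ∙ a₁ := by
    apply le_antisymm
    · intro v hv
      obtain ⟨d, hd⟩ := ha₁span ⟨v, hv⟩
      rw [Submodule.mem_span_singleton]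
      exact ⟨d, congrArg Subtype.val hd⟩
    · rw [Submodule.span_le, Set.singleton_subset_iff]
      exact ha₁mem
  -- `W' = Wf i a₁`
  have heq : img g r₂.W = Wf i a₁ := by
    apply Submodule.eq_of_le_of_finrank_le
    · rw [hspan] at hle3
      exact hle3
    · unfold Wf
      rw [hfrW, Cfsg.Agent.Lib.Helper26.TWLeaf.finrank_fib, finrank_span_singleton ha₁0', Nat.mul_one]
  -- `a₁` is isotropic
  have hW₂ : r₂.W = Wf r₂.i r₂.y := rfl
  have hinv : img g⁻¹ (Wf i a₁) = Wf r₂.i r₂.y := by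
    rw [← heq, ← Cfsg.Agent.Lib.Helper16.TWLeaf.img_mul, inv_mul_cancel, Cfsg.Agent.Lib.Helper16.TWLeaf.img_one, hW₂]
  have hiso : hv q a₁ a₁ = 0 :=
    Cfsg.Agent.Lib.Helper23.TWUQU.iso_of_img (Cfsg.Agent.Lib.Helper23.TWUQU.q_ne_zero hF)
      ((DUV t k q F).inv_mem hgD) r₂.i i r₂.y a₁ ha₁0' w.hr₂.1 hinv
  -- NS
  apply w.hgG
  refine c.ns g w.hgX ⟨r₂.i, i, r₂.y, a₁, r₂.hy, ha₁0', w.hr₂.1, hiso, ?_⟩
  rw [← heq]
  rfl

end Cfsg.Agent.Lib.Helper8.TWULeaf
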