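import Mathlib
import Cfsg.Agent.Lib.Helper5.TWU.Defs
import Cfsg.Agent.Lib.Helper5.TWU.StageIDefs
import Cfsg.Agent.Lib.Helper16.TWRootA
import Cfsg.Agent.Lib.Helper16.TWRootB
import Cfsg.Agent.Lib.Helper16.TWRootC
import Cfsg.Agent.Lib.Helper26.TWFibA
import Cfsg.Agent.Lib.Helper26.TWFibB
import Cfsg.Agent.Lib.Helper23.TWUQMain
import Cfsg.Agent.Lib.Helper28.TWUI5

/-!
S5672 (C7 unitary; owner helper5) Stage I, leaf I8-γ `I8_gamma` (helper8): in the extremal configuration the case (γ)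
(`W₃` at another position) is impossible, by the EXACT dimension formula
`W₃ ⊓ C₁ = (W₃ ⊓ W₁) ⊔ (W' ⊓ C₁)` and `W' ⊓ C₁ = L₀ ≤ W₁ ⊓ W₃`.
-/

set_option autoImplicit false
set_option linter.unusedSectionVars false
set_option linter.unusedVariables false

namespace Cfsg.Agent.Lib.Helper8.TWULeaf
open Matrix Cfsg.Geo Cfsg.Agent.Lib.Helper18.AschA89 Cfsg.Agent.Lib.Helper8.TW Cfsg.Agent.Lib.Helper5.TWU
open Cfsg.Agent.Lib.Helper20.UT (hv)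
open Cfsg.Agent.Lib.Helper23.TWUQ (NSp FCp)

variable {F : Type*} [Field F] [Fintype F] {t k q : ℕ}

/-- the exact form of the (γ)-count: `W₃ ⊓ C₁ ≤ (W₃ ⊓ W₁) ⊔ (W' ⊓ C₁)` -/
theorem gamma_le {hF : Fintype.card F = q ^ 2} {g x : GL (Idx t k) F} {r₁ r₂ r₃ : RD t k F}
    (K : KeyU hF g r₁ r₂ x r₃) : r₃.W ⊓ r₁.C ≤ (r₃.W ⊓ r₁.W) ⊔ (img g r₂.W ⊓ r₁.C) := by
  intro v hv
  obtain ⟨hv3, hvC⟩ := hv
  obtain ⟨w₁, hw₁, w', hw', hsum⟩ := Submodule.mem_sup.1 (K.h1 hv3)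
  have hw₁C : w₁ ∈ r₁.C := Cfsg.Agent.Lib.Helper16.TWLeaf.RD_W_le_C r₁ hw₁
  have hw'C : w' ∈ r₁.C := by
    have : w' = v - w₁ := by rw [← hsum]; abel
    rw [this]
    exact Submodule.sub_mem _ hvC hw₁C
  have hw'3 : w' ∈ r₃.W := K.h2 ⟨hw', hw'C⟩
  have hw₁3 : w₁ ∈ r₃.W := by
    have : w₁ = v - w' := by rw [← hsum]; abel
    rw [this]
    exact Submodule.sub_mem _ hv3 hw'3
  rw [← hsum]
  exact Submodule.add_mem _ (Submodule.mem_sup_left ⟨hw₁3, hw₁⟩) (Submodule.mem_sup_right ⟨hw', hw'C⟩)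

/-- I8-γ -/
theorem I8_gamma {X : Subgroup (GL (Idx t k) F)} (c : CtxU q X) (hk3 : k = 3) (g : GL (Idx t k) F) (r₂ : RD t k F) (j : Fin t)
    (z : Fin k → F) (M : MaxCfgU q X g r₂ j z) (x : GL (Idx t k) F) (r₃ : RD t k F)
    (K : KeyU c.hF g (urd q j z M.hz M.hzi) r₂ x r₃) (hne : r₃.i ≠ j) : False := by
  classical
  obtain ⟨hL, hL0⟩ := Cfsg.Agent.Lib.Helper28.TWULeaf.L_eq_L0 c g r₂ j z M (urd q j z M.hz M.hzi) r₃
    (urd_RU q j z M.hz M.hzi) x rfl M.hzi K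
  -- `W₃ ⊓ C₁ ≤ W₃ ⊓ W₁`
  have hW₁ : (urd q j z M.hz M.hzi : RD t k F).W = Wf j z := rfl
  have hle : r₃.W ⊓ (urd q j z M.hz M.hzi : RD t k F).C ≤ r₃.W ⊓ Wf j z := by
    refine le_trans (gamma_le K) ?_
    rw [hL, hW₁]
    exact sup_le le_rfl (le_inf hL0 inf_le_left)
  have h1 := Submodule.finrank_mono hle
  have h3W : r₃.W = Wf r₃.i r₃.y := rfl
  have hC : (urd q j z M.hz M.hzi : RD t k F).C = fib j (kerF (dag q z)) := rfl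
  have hη : dag q z ≠ 0 := dag_ne_zero M.hz
  rw [h3W, inf_comm (Wf r₃.i r₃.y) (Wf j z),
    Cfsg.Agent.Lib.Helper28.TWULeaf.finrank_Wf_inf_Wf j r₃.i (fun h => hne h.symm) z r₃.y M.hz r₃.hy, hC] at h1
  unfold Wf at h1
  rw [Cfsg.Agent.Lib.Helper26.TWLeaf.finrank_fib_inf_fib r₃.i j hne, finrank_span_singleton r₃.hy,
    Cfsg.Agent.Lib.Helper26.TWLeaf.finrank_kerF _ hη, hk3] at h1
  have hpos : 0 < 3 ^ (t - 2) := Nat.pow_pos (by norm_num)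
  omega

end Cfsg.Agent.Lib.Helper8.TWULeaf
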