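import Mathlib
import Cfsg.Prelude.Def_Blocks
import Cfsg.Agent.Lib.Helper6.DihBlkDefs
import Cfsg.Agent.Lib.Lead.BrLeo12
import Cfsg.Agent.S0514

/-!
# S4481 leaves ORTH0, REGC: the degree column and the 2-regular columns are orthogonal to the columns `σ^l`
-/

set_option autoImplicit false

namespace Cfsg.Agent.Lib.Helper8.DIHORTH0

open Cfsg Cfsg.Agent.CharLib
open Cfsg.Agent.Lib.Helper6.DihBlk
open scoped ComplexConjugate

variable {G : Type*} [Group G] [Finite G]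

omit [Finite G] in
/-- a power of an element of 2-power order is its own 2-part -/
theorem isPPart_pow_self {n : ℕ} (σ : G) (hσo : orderOf σ = 2 ^ (n - 1)) (l : ℕ) :
    IsPPart 2 (σ ^ l) (σ ^ l) := by
  refine ⟨1, mul_one _, Commute.one_right _, ?_, ?_⟩
  · have h1 : orderOf (σ ^ l) ∣ 2 ^ (n - 1) := by
      rw [← hσo]
      exact orderOf_pow_dvd l
    obtain ⟨j, -, hj⟩ := (Nat.dvd_prime_pow Nat.prime_two).mp h1
    exact ⟨j, hj⟩
  · rw [orderOf_one]
    norm_num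

omit [Finite G] in
theorem pow_ne_one_of_lt {n : ℕ} (σ : G) (hσo : orderOf σ = 2 ^ (n - 1)) (l : ℕ) (hl0 : 0 < l)
    (hl : l < 2 ^ (n - 1)) : σ ^ l ≠ 1 := by
  intro h
  have h1 := orderOf_dvd_of_pow_eq_one h
  rw [hσo] at h1
  exact absurd (Nat.le_of_dvd hl0 h1) (not_le.mpr hl)

section group_part

/-- **ORTH0** the degree column is orthogonal to the columns `σ^l`. -/
theorem orth_col_one (M : Ideal AlgInt) (hM : IsPModular 2 M) (n : ℕ) (σ : G)
    (hσo : orderOf σ = 2 ^ (n - 1)) (l : ℕ) (hl0 : 0 < l) (hl : l < 2 ^ (n - 1)) :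
    ∑ᶠ χ ∈ principalBlock M G, (χ : G → ℂ) 1 * conj ((χ : G → ℂ) (σ ^ l)) = 0 := by
  have : Fact (Nat.Prime 2) := ⟨Nat.prime_two⟩
  have hc : ¬ IsConj (1 : G) (σ ^ l) := by
    rw [isConj_comm, isConj_one_left]
    exact pow_ne_one_of_lt σ hσo l hl0 hl
  have h1 : IsPPart 2 (1 : G) 1 :=
    ⟨1, mul_one 1, Commute.one_right 1, ⟨0, by rw [orderOf_one, pow_zero]⟩, by
      rw [orderOf_one]; norm_num⟩
  have := block_orthogonality hM (1 : G) (σ ^ l) 1 (σ ^ l) h1 (isPPart_pow_self σ hσo l) hc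
    (principalBlock M G) (isPBlock_principalBlock M G)
  rw [← this]
  apply finsum_mem_congr rfl
  intro χ _
  rw [IsCharacter.apply_inv (IsIrrCharacter.isCharacter χ.2)]

/-- **REGC** the columns of the elements of odd order are orthogonal (no conjugation) to the columns `σ^k`. -/
theorem reg_cols (M : Ideal AlgInt) (hM : IsPModular 2 M) (n : ℕ) (σ : G)
    (hσo : orderOf σ = 2 ^ (n - 1)) (k : ℕ) (hk0 : 0 < k) (hk : k < 2 ^ (n - 1)) (ρ : G)
    (hρ : Odd (orderOf ρ)) :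
    ∑ᶠ χ ∈ principalBlock M G, (χ : G → ℂ) (σ ^ k) * (χ : G → ℂ) ρ = 0 := by
  have : Fact (Nat.Prime 2) := ⟨Nat.prime_two⟩
  have hc : ¬ IsConj (σ ^ k) (1 : G) := by
    rw [isConj_one_left]
    exact pow_ne_one_of_lt σ hσo k hk0 hk
  have h1 : IsPPart 2 ρ⁻¹ (1 : G) := by
    refine ⟨ρ⁻¹, one_mul _, Commute.one_left _, ⟨0, by rw [orderOf_one, pow_zero]⟩, ?_⟩
    rw [orderOf_inv]
    intro h
    exact (Nat.not_even_iff_odd.mpr hρ) (even_iff_two_dvd.mpr h)
  have := block_orthogonality hM (σ ^ k) ρ⁻¹ (σ ^ k) 1 (isPPart_pow_self σ hσo k) h1 hc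
    (principalBlock M G) (isPBlock_principalBlock M G)
  rw [inv_inv] at this
  exact this

end group_part

end Cfsg.Agent.Lib.Helper8.DIHORTH0
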