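import Mathlib
import Cfsg.Prelude.Def_Blocks
import Cfsg.Agent.Lib.Helper6.DihBlkDefs
import Cfsg.Agent.Lib.Lead.BrLeo12
import Cfsg.Agent.S0514
import Cfsg.Agent.Lib.Helper29.DIHDIH
import Cfsg.Agent.Lib.Helper8.DIHORTH0

/-!
# S4481 leaf ORTH in `_of` form: orthogonality of the columns `σ^k`, `σ^l` of the principal block

`orth_cols_of` takes the leaf statements CARD2, NPC, FUS (for the given `P`, `σ`) as hypotheses.
-/

set_option autoImplicit false

namespace Cfsg.Agent.Lib.Helper8.DIHORTHOf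

open Cfsg Cfsg.Agent.CharLib
open Cfsg.Agent.Lib.Helper6.DihBlk
open Cfsg.Agent.Lib.Helper8.DIHORTH0
open scoped ComplexConjugate

section group_part

variable {G : Type*} [Group G] [Finite G]

/-- `σ^l` is conjugate to `σ^k` when `l = k` or `l + k = 2^(n-1)` -/
theorem isConj_pow_of (n : ℕ) (hn : 3 ≤ n) (P : Subgroup G)
    (hP : Nonempty (↥P ≃* DihedralGroup (2 ^ (n - 1)))) (σ : G) (hσ : σ ∈ P)
    (hσo : orderOf σ = 2 ^ (n - 1)) (k l : ℕ) (h : l = k ∨ l + k = 2 ^ (n - 1)) :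
    IsConj (σ ^ k) (σ ^ l) := by
  rcases h with rfl | h
  · exact IsConj.refl _
  · obtain ⟨hcard, hdih, -⟩ := Cfsg.Agent.Lib.Helper29.DIHDIH.dih_struct n hn P hP σ hσ hσo
    -- an element of `P` outside `zpowers σ`
    have hex : ∃ x ∈ P, x ∉ Subgroup.zpowers σ := by
      by_contra hno
      push Not at hno
      have hle : P ≤ Subgroup.zpowers σ := fun x hx => hno x hx
      have h1 := Subgroup.card_le_of_le hle
      rw [hcard, Nat.card_zpowers, hσo] at h1
      have h2 : 2 ^ (n - 1) < 2 ^ n := Nat.pow_lt_pow_right (by norm_num) (by omega)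
      omega
    obtain ⟨x, hx, hxz⟩ := hex
    have h1 := hdih x hx hxz
    rw [isConj_iff]
    refine ⟨x, ?_⟩
    rw [← conj_pow, h1, inv_pow]
    apply inv_eq_of_mul_eq_one_left
    rw [← pow_add, h, ← hσo]
    exact pow_orderOf_eq_one σ

/-- **ORTH** (`_of` form) orthogonality of the columns `σ^k`, `σ^l` of the principal block. -/
theorem orth_cols_of (M : Ideal AlgInt) (hM : IsPModular 2 M) (n : ℕ) (hn : 3 ≤ n) (P : Sylow 2 G)
    (hP : Nonempty ((P : Subgroup G) ≃* DihedralGroup (2 ^ (n - 1)))) (σ : G) (hσ : σ ∈ (P : Subgroup G))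
    (hσo : orderOf σ = 2 ^ (n - 1))
    (hCARD2 : ∀ k : ℕ, 0 < k → k < 2 ^ (n - 1) →
      (Nat.card (Subgroup.centralizer ({σ ^ k} : Set G))).factorization 2 =
        if k = 2 ^ (n - 2) then n else n - 1)
    (hNPC : ∀ k : ℕ, 0 < k → k < 2 ^ (n - 1) →
      ∃ e : ℕ, (pPrimeCore 2 (Subgroup.centralizer ({σ ^ k} : Set G))).index = 2 ^ e)
    (hFUS : ∀ k l : ℕ, 0 < k → k < 2 ^ (n - 1) → 0 < l → l < 2 ^ (n - 1) →
      IsConj (σ ^ k) (σ ^ l) → l = k ∨ l + k = 2 ^ (n - 1))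
    (k l : ℕ) (hk0 : 0 < k) (hk : k < 2 ^ (n - 1)) (hl0 : 0 < l)
    (hl : l < 2 ^ (n - 1)) :
    ∑ᶠ χ ∈ principalBlock M G, (χ : G → ℂ) (σ ^ k) * conj ((χ : G → ℂ) (σ ^ l)) =
      if k = 2 ^ (n - 2) then (if l = 2 ^ (n - 2) then ((2 * (2 * 2 ^ (n - 2)) : ℕ) : ℂ) else 0)
      else (if l = k ∨ l + k = 2 * 2 ^ (n - 2) then ((2 * 2 ^ (n - 2) : ℕ) : ℂ) else 0) := by
  have : Fact (Nat.Prime 2) := ⟨Nat.prime_two⟩
  have hN : 2 * 2 ^ (n - 2) = 2 ^ (n - 1) := by
    have e : n - 1 = (n - 2) + 1 := by omega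
    rw [e, pow_succ]
    ring
  by_cases hkl : l = k ∨ l + k = 2 ^ (n - 1)
  · -- the conjugate case
    have hc := isConj_pow_of n hn (P : Subgroup G) hP σ hσ hσo k l hkl
    have hsq : ∑ᶠ χ ∈ principalBlock M G, (χ : G → ℂ) (σ ^ k) * conj ((χ : G → ℂ) (σ ^ l)) =
        ((2 ^ (Nat.card (Subgroup.centralizer ({σ ^ k} : Set G))).factorization 2 : ℕ) : ℂ) := by
      have hz : ∃ j : ℕ, orderOf (σ ^ k) = 2 ^ j := by
        obtain ⟨_, _, _, hj, _⟩ := isPPart_pow_self σ hσo k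
        exact hj
      have hy1 : ¬ 2 ∣ orderOf (1 : ↥(Subgroup.centralizer ({σ ^ k} : Set G))) := by
        rw [orderOf_one]
        norm_num
      have h1 := sum_principal_section_aux hM (σ ^ k) hz (Subgroup.centralizer ({σ ^ k} : Set G)) rfl
        (1 : ↥(Subgroup.centralizer ({σ ^ k} : Set G))) hy1
      have h2 := sum_principal_of_pcomplement hM (hNPC k hk0 hk)
        (1 : ↥(Subgroup.centralizer ({σ ^ k} : Set G))) hy1
      rw [h2] at h1
      rw [← h1]
      apply finsum_mem_congr rfl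
      intro χ _
      have hcl : IsClassFunction G (χ : G → ℂ) :=
        IsCharacter.isClassFunction (IsIrrCharacter.isCharacter χ.2)
      rw [← apply_eq_of_isConj hcl hc, Subgroup.coe_one, mul_one]
    rw [hsq, hCARD2 k hk0 hk]
    by_cases hk2 : k = 2 ^ (n - 2)
    · rw [if_pos hk2, if_pos hk2]
      have hl2 : l = 2 ^ (n - 2) := by
        rcases hkl with h | h
        · rw [h, hk2]
        · omega
      rw [if_pos hl2]
      congr 1
      rw [hN, ← pow_succ']
      congr 1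
      omega
    · rw [if_neg hk2, if_neg hk2, if_pos (by rw [hN]; exact hkl), hN]
  · -- the non-conjugate case
    have hnc : ¬ IsConj (σ ^ k) (σ ^ l) := fun h => hkl (hFUS k l hk0 hk hl0 hl h)
    have h0 : ∑ᶠ χ ∈ principalBlock M G, (χ : G → ℂ) (σ ^ k) * conj ((χ : G → ℂ) (σ ^ l)) = 0 := by
      have := block_orthogonality hM (σ ^ k) (σ ^ l) (σ ^ k) (σ ^ l) (isPPart_pow_self σ hσo k)
        (isPPart_pow_self σ hσo l) hnc (principalBlock M G) (isPBlock_principalBlock M G)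
      rw [← this]
      apply finsum_mem_congr rfl
      intro χ _
      rw [IsCharacter.apply_inv (IsIrrCharacter.isCharacter χ.2)]
    rw [h0]
    by_cases hk2 : k = 2 ^ (n - 2)
    · rw [if_pos hk2]
      have hl2 : ¬ l = 2 ^ (n - 2) := by
        intro h
        apply hkl
        left
        rw [h, hk2]
      rw [if_neg hl2]
    · rw [if_neg hk2, if_neg (by rw [hN]; exact hkl)]

end group_part

end Cfsg.Agent.Lib.Helper8.DIHORTHOf
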