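import Mathlib
import Cfsg.Prelude.Def_Blocks
import Cfsg.Agent.Lib.Helper6.DihBlkDefs
import Cfsg.Agent.Lib.Lead.BrLeo12
import Cfsg.Agent.S0514
import Cfsg.Agent.Lib.Helper8.DIHORTHOf
import Cfsg.Agent.Lib.Helper12.DIHCARD2
import Cfsg.Agent.Lib.Helper12.DIHFUS
import Cfsg.Agent.Lib.Helper14.DIHNPCX

/-!
# S4481 leaf ORTH: orthogonality of the columns `σ^k`, `σ^l` of the principal block (exact form)
-/

set_option autoImplicit false

namespace Cfsg.Agent.Lib.Helper8.DIHORTH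

open Cfsg Cfsg.Agent.CharLib
open Cfsg.Agent.Lib.Helper6.DihBlk
open scoped ComplexConjugate

section group_part

variable {G : Type*} [Group G] [Finite G]

/-- **ORTH** orthogonality of the columns `σ^k`, `σ^l` of the principal block. -/
theorem orth_cols (M : Ideal AlgInt) (hM : IsPModular 2 M) (n : ℕ) (hn : 3 ≤ n) (P : Sylow 2 G)
    (hP : Nonempty ((P : Subgroup G) ≃* DihedralGroup (2 ^ (n - 1)))) (σ : G) (hσ : σ ∈ (P : Subgroup G))
    (hσo : orderOf σ = 2 ^ (n - 1)) (k l : ℕ) (hk0 : 0 < k) (hk : k < 2 ^ (n - 1)) (hl0 : 0 < l)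
    (hl : l < 2 ^ (n - 1)) :
    ∑ᶠ χ ∈ principalBlock M G, (χ : G → ℂ) (σ ^ k) * conj ((χ : G → ℂ) (σ ^ l)) =
      if k = 2 ^ (n - 2) then (if l = 2 ^ (n - 2) then ((2 * (2 * 2 ^ (n - 2)) : ℕ) : ℂ) else 0)
      else (if l = k ∨ l + k = 2 * 2 ^ (n - 2) then ((2 * 2 ^ (n - 2) : ℕ) : ℂ) else 0) :=
  Cfsg.Agent.Lib.Helper8.DIHORTHOf.orth_cols_of M hM n hn P hP σ hσ hσo
    (fun k hk0 hk => Cfsg.Agent.Lib.Helper12.DIHCARD2.factorization_centralizer_pow n hn P hP σ hσ hσo k hk0 hk)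
    (fun k hk0 hk => Cfsg.Agent.Lib.Helper14.DIHNPCX.index_pPrimeCore_centralizer_pow n hn P hP σ hσ hσo k hk0 hk)
    (fun k l hk0 hk hl0 hl hc => Cfsg.Agent.Lib.Helper12.DIHFUS.fusion_pow n hn P hP σ hσ hσo k l hk0 hk hl0 hl hc)
    k l hk0 hk hl0 hl

end group_part

end Cfsg.Agent.Lib.Helper8.DIHORTH
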