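import Mathlib
import Cfsg.Prelude.Def_Blocks
import Cfsg.Agent.Lib.Helper6.DihBlkDefs
import Cfsg.Agent.Lib.Lead.BrLeo12
import Cfsg.Agent.S0514
import Cfsg.Agent.Lib.Helper8.DIHORTH0

/-!
# S4481 leaf REGC (proved in `DIHORTH0`)
-/

set_option autoImplicit false

namespace Cfsg.Agent.Lib.Helper8.DIHREGC

open Cfsg Cfsg.Agent.CharLib
open Cfsg.Agent.Lib.Helper6.DihBlk
open scoped ComplexConjugate

variable {G : Type*} [Group G] [Finite G]

/-- **REGC** the columns of the elements of odd order are orthogonal (no conjugation) to the columns `σ^k`. -/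
theorem reg_cols (M : Ideal AlgInt) (hM : IsPModular 2 M) (n : ℕ) (σ : G)
    (hσo : orderOf σ = 2 ^ (n - 1)) (k : ℕ) (hk0 : 0 < k) (hk : k < 2 ^ (n - 1)) (ρ : G)
    (hρ : Odd (orderOf ρ)) :
    ∑ᶠ χ ∈ principalBlock M G, (χ : G → ℂ) (σ ^ k) * (χ : G → ℂ) ρ = 0 :=
  Cfsg.Agent.Lib.Helper8.DIHORTH0.reg_cols M hM n σ hσo k hk0 hk ρ hρ

end Cfsg.Agent.Lib.Helper8.DIHREGC
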