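import Mathlib
import Cfsg.Agent.Lib.Helper8.HtBoundEX

/-! S4715 leaf FD (`isDefectGroup_majBlock`) (helper8). -/

set_option autoImplicit false
set_option linter.unusedSectionVars false
set_option linter.unusedVariables false

namespace Cfsg.Agent.Lib.Helper8.HtBoundFD

open Cfsg Cfsg.Agent.CharLib Cfsg.Agent.Lib.Helper24 Cfsg.Agent.Lib.Helper6 Cfsg.Agent.Lib.Helper23
open Cfsg.Agent.Lib.Helper6.HtBound
open scoped ComplexConjugate

universe u

variable {G : Type u} [Group G] [Fintype G] {M : Ideal AlgInt} {p : ℕ} [hpp : Fact p.Prime]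

/-- `majBlock z` is induced from `b` inside `C_G(z)` -/
theorem majBlock_isInducedBlockIn (hM : IsPModular p M) (B : Set (IrrCharacter G)) (D : Subgroup G)
    (hBD : IsDefectGroup p M B D) (H : Subgroup G)
    (hH : H = D ⊔ Subgroup.centralizer (D : Set G)) (b : Set (IrrCharacter H))
    (hind : IsInducedBlock M H b B) (z : G) (hzD : z ∈ D) (hzc : ∀ x ∈ D, x * z = z * x) :
    IsInducedBlockIn M (Cz z) H b (majBlock M H b z) :=
  majBlock_spec (Cfsg.Agent.Lib.Helper8.HtBoundEX.exists_inducedIn hM B D hBD H hH b hind z hzD hzc)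

/-- `majBlock z` induces `B` and has the defect of `B` -/
theorem majBlock_induced (hM : IsPModular p M) (B : Set (IrrCharacter G)) (D : Subgroup G)
    (hBD : IsDefectGroup p M B D) (H : Subgroup G)
    (hH : H = D ⊔ Subgroup.centralizer (D : Set G)) (b : Set (IrrCharacter H))
    (hind : IsInducedBlock M H b B) (z : G) (hzD : z ∈ D) (hzc : ∀ x ∈ D, x * z = z * x) :
    IsInducedBlock M (Cz z) (majBlock M H b z) B ∧
      blockDefect p (majBlock M H b z) = blockDefect p B := by
  obtain ⟨h1, h2, _⟩ := Cfsg.Agent.Lib.Helper8.HtBoundEX.maj_data hM B D hBD H hH b hind z hzD hzc _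
    (majBlock_isInducedBlockIn hM B D hBD H hH b hind z hzD hzc)
  exact ⟨h1, h2⟩

/-- (FD) `D` is a defect group of the block `majBlock z` of `C_G(z)`. -/
theorem isDefectGroup_majBlock (hM : IsPModular p M) (B : Set (IrrCharacter G))
    (hB : IsPBlock M B) (D : Subgroup G) (hBD : IsDefectGroup p M B D) (H : Subgroup G)
    (hH : H = D ⊔ Subgroup.centralizer (D : Set G)) (b : Set (IrrCharacter H))
    (hind : IsInducedBlock M H b B) (z : G) (hzD : z ∈ D) (hzc : ∀ x ∈ D, x * z = z * x) :
    IsDefectGroup p M (majBlock M H b z) (D.subgroupOf (Cz z)) :=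
  (Cfsg.Agent.Lib.Helper8.HtBoundEX.maj_data hM B D hBD H hH b hind z hzD hzc _
    (majBlock_isInducedBlockIn hM B D hBD H hH b hind z hzD hzc)).2.2

end Cfsg.Agent.Lib.Helper8.HtBoundFD
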