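/- helper8: generic group-theoretic lemmas for the endgame of "simple of order 2520 is A7":
normality of a Sylow subgroup from arithmetic, elements of coprime order in an extension,
normalizer membership from one inclusion. -/
import Mathlib

set_option autoImplicit false

namespace Cfsg.Agent.Lib.Helper8.A7End

variable {G : Type*} [Group G]

/-- For a finite subgroup, `g S g⁻¹ ⊆ S` already gives `g ∈ N(S)`. -/
theorem mem_normalizer_of_conj_mem (S : Subgroup G) [Finite ↥S] (g : G)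
    (h : ∀ s ∈ S, g * s * g⁻¹ ∈ S) : g ∈ Subgroup.normalizer (S : Set G) := by
  rw [Subgroup.mem_normalizer_iff]
  intro x
  constructor
  · exact h x
  · intro hx
    let φ : ↥S → ↥S := fun s => ⟨g * s.1 * g⁻¹, h s.1 s.2⟩
    have hinj : Function.Injective φ := by
      intro a b hab
      have h1 : g * a.1 * g⁻¹ = g * b.1 * g⁻¹ := congrArg Subtype.val hab
      apply Subtype.ext
      calc a.1 = g⁻¹ * (g * a.1 * g⁻¹) * g := by group
        _ = g⁻¹ * (g * b.1 * g⁻¹) * g := by rw [h1]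
        _ = b.1 := by group
    obtain ⟨s, hs⟩ := (Finite.injective_iff_surjective.mp hinj) ⟨g * x * g⁻¹, hx⟩
    have h1 : g * s.1 * g⁻¹ = g * x * g⁻¹ := congrArg Subtype.val hs
    have : x = s.1 := by
      calc x = g⁻¹ * (g * x * g⁻¹) * g := by group
        _ = g⁻¹ * (g * s.1 * g⁻¹) * g := by rw [h1]
        _ = s.1 := by group
    rw [this]
    exact s.2

/-- If `S ≤ K ≤ N(S)`, `|K| = |S| * a` and `gcd a b = 1`, then every `k ∈ K` with `k ^ b = 1`
lies in `S`. -/
theorem mem_of_pow_eq_one [Finite G] (S K : Subgroup G) (hSK : S ≤ K)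
    (hKN : K ≤ Subgroup.normalizer (S : Set G)) (a b : ℕ) (hcop : Nat.Coprime a b)
    (hidx : Nat.card K = Nat.card S * a) (k : G) (hk : k ∈ K) (hkb : k ^ b = 1) : k ∈ S := by
  have hn : (S.subgroupOf K).Normal := by
    rw [← Subgroup.normalizer_eq_top_iff]  
    rw [eq_top_iff]
    intro x _
    rw [Subgroup.mem_normalizer_iff]
    intro y
    have hx := Subgroup.mem_normalizer_iff.mp (hKN x.2) y.1
    simp only [Subgroup.mem_subgroupOf]
    simpa using hx
  have hcardS : Nat.card (S.subgroupOf K) = Nat.card S :=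
    Nat.card_congr (Subgroup.subgroupOfEquivOfLe hSK).toEquiv
  have hq : Nat.card (↥K ⧸ S.subgroupOf K) = a := by
    have h1 := Subgroup.card_eq_card_quotient_mul_card_subgroup (S.subgroupOf K)
    rw [hcardS, hidx] at h1
    have hpos : 0 < Nat.card S := Nat.card_pos
    have : Nat.card S * a = Nat.card S * Nat.card (↥K ⧸ S.subgroupOf K) := by
      rw [h1]; ring
    exact (Nat.eq_of_mul_eq_mul_left hpos this).symm
  let k' : ↥K := ⟨k, hk⟩
  have h1 : ((k' : ↥K) : ↥K ⧸ S.subgroupOf K) ^ a = 1 := by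
    rw [← hq]
    exact pow_card_eq_one'
  have h2 : ((k' : ↥K) : ↥K ⧸ S.subgroupOf K) ^ b = 1 := by
    rw [← QuotientGroup.mk_pow]
    have : k' ^ b = 1 := Subtype.ext (by simpa using hkb)
    rw [this]
    rfl
  have h3 : orderOf ((k' : ↥K) : ↥K ⧸ S.subgroupOf K) ∣ Nat.gcd a b :=
    Nat.dvd_gcd (orderOf_dvd_of_pow_eq_one h1) (orderOf_dvd_of_pow_eq_one h2)
  rw [hcop, Nat.dvd_one, orderOf_eq_one_iff] at h3
  have h4 : k' ∈ S.subgroupOf K := (QuotientGroup.eq_one_iff k').mp h3
  exact Subgroup.mem_subgroupOf.mp h4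

/-- **Normal Sylow subgroup from arithmetic.**  `P ≤ C` of order `p ^ k`, `|C| = p ^ k * m` with
`p ∤ m`, a subgroup `B ≤ C` normalizing `P`; if the only `n ∣ m`, `n ≡ 1 (mod p)` with
`|B| ∣ |C| / n` is `n = 1`, then `P` is normal in `C`. -/
theorem normal_of_sylow_arith [Finite G] (p : ℕ) [hp : Fact p.Prime] (C P B : Subgroup G)
    (hPC : P ≤ C) (hBC : B ≤ C) (hBP : ∀ b ∈ B, ∀ y ∈ P, b * y * b⁻¹ ∈ P) (k m : ℕ)
    (hC : Nat.card C = p ^ k * m) (hm : ¬ p ∣ m) (hP : Nat.card P = p ^ k)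
    (har : ∀ n, n ∣ m → n % p = 1 → Nat.card B ∣ p ^ k * m / n → n = 1) :
    ∀ c ∈ C, ∀ y ∈ P, c * y * c⁻¹ ∈ P := by
  have hpp := hp.out
  have hm0 : m ≠ 0 := by
    rintro rfl
    exact hm (dvd_zero p)
  have hcardP' : Nat.card (P.subgroupOf C) = p ^ k := by
    rw [Nat.card_congr (Subgroup.subgroupOfEquivOfLe hPC).toEquiv, hP]
  have hfac : (Nat.card ↥C).factorization p = k := by
    rw [hC, Nat.factorization_mul (pow_ne_zero k hpp.ne_zero) hm0, Nat.Prime.factorization_pow hpp]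
    simp [Nat.factorization_eq_zero_of_not_dvd hm]
  let S0 : Sylow p ↥C := Sylow.ofCard (P.subgroupOf C) (by rw [hcardP', hfac])
  have hS0 : (S0 : Subgroup ↥C) = P.subgroupOf C := rfl
  set n := Nat.card (Sylow p ↥C) with hn
  have h1 : n % p = 1 := by
    have := card_sylow_modEq_one p ↥C
    have h2 : n % p = 1 % p := this
    rw [Nat.mod_eq_of_lt hpp.one_lt] at h2
    exact h2
  have hidx : (S0 : Subgroup ↥C).index = m := by
    have h2 := Subgroup.card_mul_index (S0 : Subgroup ↥C)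
    rw [hS0, hcardP', hC] at h2
    exact Nat.eq_of_mul_eq_mul_left (pow_pos hpp.pos k) h2
  have h2 : n ∣ m := by
    rw [← hidx]
    exact Sylow.card_dvd_index S0
  have h3 : n = (Subgroup.normalizer ((S0 : Subgroup ↥C) : Set ↥C)).index :=
    Sylow.card_eq_index_normalizer S0
  have hBle : B.subgroupOf C ≤ Subgroup.normalizer ((S0 : Subgroup ↥C) : Set ↥C) := by
    intro b hb
    haveI : Finite ↥(S0 : Subgroup ↥C) := inferInstance
    apply mem_normalizer_of_conj_mem
    intro s hs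
    rw [hS0, Subgroup.mem_subgroupOf] at hs ⊢
    have := hBP b.1 (Subgroup.mem_subgroupOf.mp hb) s.1 hs
    simpa using this
  have hcardB' : Nat.card (B.subgroupOf C) = Nat.card B :=
    Nat.card_congr (Subgroup.subgroupOfEquivOfLe hBC).toEquiv
  have h4 : Nat.card B ∣ p ^ k * m / n := by
    have h5 := Subgroup.card_mul_index (Subgroup.normalizer ((S0 : Subgroup ↥C) : Set ↥C))
    rw [← h3, hC] at h5
    have hn0 : 0 < n := Nat.pos_of_ne_zero (by
      intro h0
      rw [h0] at h1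
      simp at h1)
    have h6 : Nat.card (Subgroup.normalizer ((S0 : Subgroup ↥C) : Set ↥C)) = p ^ k * m / n := by
      rw [← h5, Nat.mul_div_cancel _ hn0]
    rw [← h6, ← hcardB']
    exact Subgroup.card_dvd_of_le hBle
  have hn1 : n = 1 := har n h2 h1 h4
  have htop : Subgroup.normalizer ((S0 : Subgroup ↥C) : Set ↥C) = ⊤ := by
    rw [← Subgroup.index_eq_one, ← h3, hn1]
  intro c hc y hy
  have hc' : (⟨c, hc⟩ : ↥C) ∈ Subgroup.normalizer ((S0 : Subgroup ↥C) : Set ↥C) := by
    rw [htop]; trivial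
  have := (Subgroup.mem_normalizer_iff.mp hc' ⟨y, hPC hy⟩).mp (by
    rw [hS0, Subgroup.mem_subgroupOf]; exact hy)
  rw [hS0, Subgroup.mem_subgroupOf] at this
  simpa using this

end Cfsg.Agent.Lib.Helper8.A7End
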