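/- helper8: endgame of "simple of order 2520 is A7", pure group part.
`S` elementary abelian of order 9 with `C(S) = S`, `|N(S)| = 36`, all involutions with
centralizer of order 24, elements of order 3 with centralizer of order 9, 18 or 36.
Then every involution of `N(S)` inverts `S`, and `N(S) = S ⋊ ⟨u⟩` with `u` of order 4. -/
import Mathlib
import Cfsg.Agent.Lib.Helper8.A7EndA
import Cfsg.Agent.Lib.Helper24.M11VecC

set_option autoImplicit false

namespace Cfsg.Agent.Lib.Helper8.A7End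

open Cfsg.Agent.Lib.Helper24.M11Vec

variable {G : Type*} [Group G] [Finite G]

/-- In a subgroup of order 36, every element `τ` with `τ ^ 2 = 1` lies in an abelian subgroup
of order 4. -/
theorem exists_four_subgroup (K : Subgroup G) (hK : Nat.card K = 36) (τ : G) (hτK : τ ∈ K)
    (hτ : τ ^ 2 = 1) :
    ∃ B : Subgroup G, B ≤ K ∧ τ ∈ B ∧ Nat.card B = 4 ∧ ∀ a ∈ B, ∀ b ∈ B, a * b = b * a := by
  haveI : Fact (Nat.Prime 2) := ⟨Nat.prime_two⟩
  let τ' : ↥K := ⟨τ, hτK⟩
  have hτ' : τ' ^ 2 = 1 := Subtype.ext (by simpa using hτ)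
  have hp : IsPGroup 2 (Subgroup.zpowers τ') := by
    intro g
    refine ⟨1, ?_⟩
    obtain ⟨g, hg⟩ := g
    obtain ⟨j, rfl⟩ := Subgroup.mem_zpowers_iff.mp hg
    apply Subtype.ext
    show (τ' ^ j) ^ 2 ^ 1 = 1
    rw [pow_one, ← zpow_natCast, ← zpow_mul, mul_comm, zpow_mul, zpow_natCast, hτ', one_zpow]
  obtain ⟨Q, hQ⟩ := hp.exists_le_sylow
  have hfac : (36 : ℕ).factorization 2 = 2 := by
    have h36 : (36 : ℕ) = 2 ^ 2 * 9 := by norm_num
    rw [h36, Nat.factorization_mul (by norm_num) (by norm_num),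
      Nat.Prime.factorization_pow Nat.prime_two]
    simp [Nat.factorization_eq_zero_of_not_dvd]
  have hcardQ : Nat.card (Q : Subgroup ↥K) = 2 ^ 2 := by
    rw [Sylow.card_eq_multiplicity, hK, hfac]
  have hcomm := IsPGroup.commutative_of_card_eq_prime_sq hcardQ
  refine ⟨(Q : Subgroup ↥K).map K.subtype, ?_, ?_, ?_, ?_⟩
  · intro x hx
    obtain ⟨y, _, rfl⟩ := Subgroup.mem_map.mp hx
    exact y.2
  · exact Subgroup.mem_map.mpr ⟨τ', hQ (Subgroup.mem_zpowers τ'), rfl⟩
  · rw [Subgroup.card_map_of_injective K.subtype_injective, hcardQ]; norm_num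
  · intro a ha b hb
    obtain ⟨a', ha', rfl⟩ := Subgroup.mem_map.mp ha
    obtain ⟨b', hb', rfl⟩ := Subgroup.mem_map.mp hb
    have := hcomm ⟨a', ha'⟩ ⟨b', hb'⟩
    have h2 : a' * b' = b' * a' := congrArg Subtype.val this
    rw [← map_mul, ← map_mul, h2]

/-- **Lemma INV**: every involution of `N(S)` inverts `S`. -/
theorem involution_inverts (S : Subgroup G) (hS : Nat.card S = 9) (hexp : ∀ s ∈ S, s ^ 3 = 1)
    (hCS : Subgroup.centralizer (S : Set G) = S)
    (hK : Nat.card (Subgroup.normalizer (S : Set G)) = 36)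
    (h3c : ∀ s : G, orderOf s = 3 → Nat.card (Subgroup.centralizer ({s} : Set G)) = 9 ∨
      Nat.card (Subgroup.centralizer ({s} : Set G)) = 18 ∨
      Nat.card (Subgroup.centralizer ({s} : Set G)) = 36)
    (τ : G) (hτ : orderOf τ = 2) (hτK : τ ∈ Subgroup.normalizer (S : Set G))
    (hτc : Nat.card (Subgroup.centralizer ({τ} : Set G)) = 24) :
    ∀ s ∈ S, τ * s * τ⁻¹ = s⁻¹ := by
  haveI : Fact (Nat.Prime 3) := ⟨Nat.prime_three⟩
  set K := Subgroup.normalizer (S : Set G) with hKdef
  have hSK : S ≤ K := Subgroup.le_normalizer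
  have hτ2 : τ ^ 2 = 1 := by rw [← hτ]; exact pow_orderOf_eq_one τ
  have hτinv : τ⁻¹ = τ := by
    rw [inv_eq_iff_mul_eq_one, ← pow_two, hτ2]
  have hτ1 : τ ≠ 1 := by
    intro h
    rw [h, orderOf_one] at hτ
    norm_num at hτ
  -- S is abelian
  have hab : ∀ a ∈ S, ∀ b ∈ S, a * b = b * a := by
    intro a ha b hb
    have : a ∈ Subgroup.centralizer (S : Set G) := by rw [hCS]; exact ha
    exact (Subgroup.mem_centralizer_iff.mp this b hb).symm
  -- conjugation by elements of K preserves S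
  have hconj : ∀ k ∈ K, ∀ s ∈ S, k * s * k⁻¹ ∈ S := by
    intro k hk s hs
    exact (Subgroup.mem_normalizer_iff.mp hk s).mp hs
  by_contra hcon
  push Not at hcon
  obtain ⟨s, hs, hne⟩ := hcon
  set x := s * (τ * s * τ⁻¹) with hxdef
  have hτs : τ * s * τ⁻¹ ∈ S := hconj τ hτK s hs
  have hxS : x ∈ S := S.mul_mem hs hτs
  have hx1 : x ≠ 1 := by
    intro h
    apply hne
    rw [hxdef] at h
    exact (eq_inv_of_mul_eq_one_right h)
  have hx3 : x ^ 3 = 1 := hexp x hxS
  have hxo : orderOf x = 3 := orderOf_eq_prime hx3 hx1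
  -- τ commutes with x
  have hτx : τ * x = x * τ := by
    have h1 : τ * x * τ⁻¹ = x := by
      rw [hxdef]
      have h2 : τ * (s * (τ * s * τ⁻¹)) * τ⁻¹ = (τ * s * τ⁻¹) * (τ * τ * s * (τ * τ)⁻¹) := by group
      rw [h2, ← pow_two, hτ2]
      simp only [one_mul, inv_one, mul_one]
      exact hab _ hτs _ hs
    calc τ * x = τ * x * τ⁻¹ * τ := by group
      _ = x * τ := by rw [h1]
  -- S ∩ C(τ) = ⟨x⟩
  have hτnS : τ ∉ S := by
    intro h
    have h3 := hexp τ h
    have : τ = 1 := by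
      calc τ = τ ^ 3 * (τ ^ 2)⁻¹ := by group
        _ = 1 := by rw [h3, hτ2]; simp
    exact hτ1 this
  have hSC : ∀ y ∈ S, τ * y = y * τ → y ∈ Subgroup.zpowers x := by
    intro y hy hyτ
    let D : Subgroup G := S ⊓ Subgroup.centralizer ({τ} : Set G)
    have hDS : D ≤ S := inf_le_left
    have hxD : Subgroup.zpowers x ≤ D := by
      rw [Subgroup.zpowers_le]
      exact ⟨hxS, Subgroup.mem_centralizer_singleton_iff.mpr hτx.symm⟩
    have hDcard : Nat.card D ∣ 9 := by
      rw [← hS]; exact Subgroup.card_dvd_of_le hDS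
    have h3D : 3 ∣ Nat.card D := by
      have := Subgroup.card_dvd_of_le hxD
      rwa [Nat.card_zpowers, hxo] at this
    have hDne : Nat.card D ≠ 9 := by
      intro h9
      have hDeq : D = S := Subgroup.eq_of_le_of_card_ge hDS (by rw [h9, hS])
      -- then τ centralizes S
      have : τ ∈ Subgroup.centralizer (S : Set G) := by
        rw [Subgroup.mem_centralizer_iff]
        intro z hz
        have hzD : z ∈ D := by rw [hDeq]; exact hz
        exact Subgroup.mem_centralizer_singleton_iff.mp hzD.2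
      rw [hCS] at this
      exact hτnS this
    have hD3 : Nat.card D = 3 := by
      have hle : Nat.card D ≤ 9 := Nat.le_of_dvd (by norm_num) hDcard
      have hpos : 0 < Nat.card D := Nat.card_pos
      interval_cases h : Nat.card D <;> omega
    have hDeq : Subgroup.zpowers x = D :=
      Subgroup.eq_of_le_of_card_ge hxD (by rw [hD3, Nat.card_zpowers, hxo])
    rw [hDeq]
    exact ⟨hy, Subgroup.mem_centralizer_singleton_iff.mpr hyτ.symm⟩
  -- the four-group
  obtain ⟨B, hBK, hτB, hBcard, hBab⟩ := exists_four_subgroup K hK τ hτK hτ2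
  -- ⟨x⟩ is normal in C(τ)
  have hnx : ∀ c ∈ Subgroup.centralizer ({τ} : Set G), ∀ y ∈ Subgroup.zpowers x,
      c * y * c⁻¹ ∈ Subgroup.zpowers x := by
    apply normal_of_sylow_arith 3 (Subgroup.centralizer ({τ} : Set G)) (Subgroup.zpowers x) B
      ?_ ?_ ?_ 1 8 (by rw [hτc]; norm_num) (by norm_num) (by rw [Nat.card_zpowers, hxo, pow_one])
    · intro n hn hn3 h4
      rw [hBcard] at h4
      have hle : n ≤ 8 := Nat.le_of_dvd (by norm_num) hn
      have hpos : 0 < n := Nat.pos_of_dvd_of_pos hn (by norm_num)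
      interval_cases n <;> simp_all <;> omega
    · rw [Subgroup.zpowers_le]
      exact Subgroup.mem_centralizer_singleton_iff.mpr hτx.symm
    · intro b hb
      exact Subgroup.mem_centralizer_singleton_iff.mpr (hBab b hb τ hτB)
    · intro b hb y hy
      have hyS : y ∈ S := by
        have : Subgroup.zpowers x ≤ S := by
          rw [Subgroup.zpowers_le]; exact hxS
        exact this hy
      have hyτ : τ * y = y * τ := by
        obtain ⟨j, rfl⟩ := Subgroup.mem_zpowers_iff.mp hy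
        exact (Commute.zpow_right (show Commute τ x from hτx) j)
      apply hSC _ (hconj b (hBK hb) y hyS)
      have hbτ : τ * b = b * τ := hBab τ hτB b hb
      have hbτ' : τ * b⁻¹ = b⁻¹ * τ := by
        have : Commute τ b := hbτ
        exact this.inv_right
      calc τ * (b * y * b⁻¹) = (τ * b) * y * b⁻¹ := by group
        _ = b * (τ * y) * b⁻¹ := by rw [hbτ]; group
        _ = b * y * (τ * b⁻¹) := by rw [hyτ]; group
        _ = b * y * b⁻¹ * τ := by rw [hbτ']; group
  -- C(x) ≤ K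
  have hCxK : Subgroup.centralizer ({x} : Set G) ≤ K := by
    have hτCx : τ ∈ Subgroup.centralizer ({x} : Set G) :=
      Subgroup.mem_centralizer_singleton_iff.mpr hτx
    have h2dvd : 2 ∣ Nat.card (Subgroup.centralizer ({x} : Set G)) := by
      rw [← hτ]; exact Subgroup.orderOf_dvd_natCard _ hτCx
    have hcard : ∃ m, (m = 2 ∨ m = 4) ∧
        Nat.card (Subgroup.centralizer ({x} : Set G)) = 3 ^ 2 * m := by
      rcases h3c x hxo with h | h | h
      · rw [h] at h2dvd; omega
      · exact ⟨2, Or.inl rfl, by rw [h]; norm_num⟩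
      · exact ⟨4, Or.inr rfl, by rw [h]; norm_num⟩
    obtain ⟨m, hm, hcm⟩ := hcard
    have hn : ∀ c ∈ Subgroup.centralizer ({x} : Set G), ∀ y ∈ S, c * y * c⁻¹ ∈ S := by
      apply normal_of_sylow_arith 3 (Subgroup.centralizer ({x} : Set G)) S (Subgroup.zpowers τ)
        ?_ ?_ ?_ 2 m hcm (by rcases hm with rfl | rfl <;> norm_num) (by rw [hS]; norm_num)
      · intro n hn hn3 h2
        rw [Nat.card_zpowers, hτ] at h2
        rcases hm with rfl | rfl
        · have hle : n ≤ 2 := Nat.le_of_dvd (by norm_num) hn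
          have hpos : 0 < n := Nat.pos_of_dvd_of_pos hn (by norm_num)
          interval_cases n <;> simp_all
        · have hle : n ≤ 4 := Nat.le_of_dvd (by norm_num) hn
          have hpos : 0 < n := Nat.pos_of_dvd_of_pos hn (by norm_num)
          interval_cases n <;> simp_all <;> omega
      · intro y hy
        exact Subgroup.mem_centralizer_singleton_iff.mpr (hab y hy x hxS)
      · rw [Subgroup.zpowers_le]; exact hτCx
      · intro b hb y hy
        have : Subgroup.zpowers τ ≤ K := by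
          rw [Subgroup.zpowers_le]; exact hτK
        exact hconj b (this hb) y hy
    intro c hc
    exact mem_normalizer_of_conj_mem S c (hn c hc)
  -- C(τ) ≤ K
  have hCτK : Subgroup.centralizer ({τ} : Set G) ≤ K := by
    intro g hg
    apply mem_normalizer_of_conj_mem S g
    intro y hy
    have hginv : g⁻¹ ∈ Subgroup.centralizer ({τ} : Set G) := Subgroup.inv_mem _ hg
    have h1 := hnx g⁻¹ hginv x (Subgroup.mem_zpowers x)
    rw [inv_inv] at h1
    have h1S : g⁻¹ * x * g ∈ S := by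
      have : Subgroup.zpowers x ≤ S := by
        rw [Subgroup.zpowers_le]; exact hxS
      exact this h1
    -- g y g⁻¹ commutes with x
    have h2 : g * y * g⁻¹ ∈ Subgroup.centralizer ({x} : Set G) := by
      rw [Subgroup.mem_centralizer_singleton_iff]
      have h3 : y * (g⁻¹ * x * g) = (g⁻¹ * x * g) * y := hab y hy _ h1S
      calc g * y * g⁻¹ * x = g * (y * (g⁻¹ * x * g)) * g⁻¹ := by group
        _ = g * ((g⁻¹ * x * g) * y) * g⁻¹ := by rw [h3]
        _ = x * (g * y * g⁻¹) := by group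
    have h4 : g * y * g⁻¹ ∈ K := hCxK h2
    have h5 : (g * y * g⁻¹) ^ 3 = 1 := by
      rw [conj_pow, hexp y hy]; group
    exact mem_of_pow_eq_one S K hSK le_rfl 4 3 (by norm_num) (by rw [hK, hS]) _ h4 h5
  have := Subgroup.card_dvd_of_le hCτK
  rw [hτc, hK] at this
  omega

/-- **Structure of `N(S)`**: `N(S) = S ⋊ ⟨u⟩` with `u` of order 4, `u ^ 2` inverting `S`;
every element of `N(S)` outside `S` has order 2 or 4. -/
theorem normalizer_structure (S : Subgroup G) (hS : Nat.card S = 9) (hexp : ∀ s ∈ S, s ^ 3 = 1)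
    (hCS : Subgroup.centralizer (S : Set G) = S)
    (hK : Nat.card (Subgroup.normalizer (S : Set G)) = 36)
    (h2c : ∀ t : G, orderOf t = 2 → Nat.card (Subgroup.centralizer ({t} : Set G)) = 24)
    (h3c : ∀ s : G, orderOf s = 3 → Nat.card (Subgroup.centralizer ({s} : Set G)) = 9 ∨
      Nat.card (Subgroup.centralizer ({s} : Set G)) = 18 ∨
      Nat.card (Subgroup.centralizer ({s} : Set G)) = 36) :
    ∃ u ∈ Subgroup.normalizer (S : Set G), orderOf u = 4 ∧
      (∀ s ∈ S, u ^ 2 * s * (u ^ 2)⁻¹ = s⁻¹) ∧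
      (∀ k ∈ Subgroup.normalizer (S : Set G), k ∉ S → orderOf k = 2 ∨ orderOf k = 4) ∧
      (∀ k ∈ Subgroup.normalizer (S : Set G), ∃ s ∈ S, ∃ i : ℕ, i < 4 ∧ k = s * u ^ i) := by
  haveI : Fact (Nat.Prime 2) := ⟨Nat.prime_two⟩
  set K := Subgroup.normalizer (S : Set G) with hKdef
  have hSK : S ≤ K := Subgroup.le_normalizer
  have hconj : ∀ k ∈ K, ∀ s ∈ S, k * s * k⁻¹ ∈ S := by
    intro k hk s hs
    exact (Subgroup.mem_normalizer_iff.mp hk s).mp hs
  have hinvK : ∀ τ ∈ K, orderOf τ = 2 → ∀ s ∈ S, τ * s * τ⁻¹ = s⁻¹ := by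
    intro τ hτK hτ
    exact involution_inverts S hS hexp hCS hK h3c τ hτ hτK (h2c τ hτ)
  -- elements of S of 2-power order are trivial
  have hS2 : ∀ g ∈ S, g ^ 4 = 1 → g = 1 := by
    intro g hg h4
    have h3 := hexp g hg
    calc g = g ^ 4 * (g ^ 3)⁻¹ := by group
      _ = 1 := by rw [h3, h4]; simp
  obtain ⟨B, hBK, -, hBcard, hBab⟩ := exists_four_subgroup K hK 1 K.one_mem (one_pow 2)
  have hB4 : ∀ b ∈ B, b ^ 4 = 1 := by
    intro b hb
    have h1 := Subgroup.orderOf_dvd_natCard B hb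
    rw [hBcard] at h1
    exact orderOf_dvd_iff_pow_eq_one.mp h1
  -- an element of order 4
  have hu : ∃ u ∈ B, orderOf u = 4 := by
    by_contra hno
    push Not at hno
    have hinv : ∀ b ∈ B, b ≠ 1 → orderOf b = 2 := by
      intro b hb hb1
      have h4 := hB4 b hb
      by_contra h2
      have hb2 : ¬ b ^ 2 ^ 1 = 1 := by
        intro h
        rw [pow_one] at h
        exact h2 (orderOf_eq_prime h hb1)
      have := orderOf_eq_prime_pow hb2 (by rw [show (2 : ℕ) ^ (1 + 1) = 4 by norm_num]; exact h4)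
      exact hno b hb (by rw [this]; norm_num)
    -- pick a ≠ 1 and b ∉ ⟨a⟩
    have hBne : B ≠ ⊥ := by
      intro h
      rw [h, Subgroup.card_bot] at hBcard
      norm_num at hBcard
    obtain ⟨a, ha1⟩ := (Subgroup.ne_bot_iff_exists_ne_one.mp hBne)
    have ha1' : (a : G) ≠ 1 := by
      intro h; exact ha1 (Subtype.ext h)
    have hao : orderOf (a : G) = 2 := hinv a a.2 ha1'
    have hlt : Subgroup.zpowers (a : G) < B := by
      refine lt_of_le_of_ne (by rw [Subgroup.zpowers_le]; exact a.2) ?_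
      intro h
      have := Nat.card_zpowers (a : G)
      rw [h, hBcard, hao] at this
      norm_num at this
    obtain ⟨b, hbB, hbn⟩ := SetLike.exists_of_lt hlt
    have hb1 : b ≠ 1 := by
      intro h; rw [h] at hbn; exact hbn (Subgroup.one_mem _)
    have hbo : orderOf b = 2 := hinv b hbB hb1
    have hab1 : (a : G) * b ≠ 1 := by
      intro h
      have : b = (a : G)⁻¹ := (eq_inv_of_mul_eq_one_right h)
      rw [this] at hbn
      exact hbn (Subgroup.inv_mem _ (Subgroup.mem_zpowers _))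
    have habS : (a : G) * b ∈ S := by
      rw [← hCS, Subgroup.mem_centralizer_iff]
      intro y hy
      have h1 := hinvK a (hBK a.2) hao
      have h2 := hinvK b (hBK hbB) hbo
      have h3 : (a : G) * b * y * ((a : G) * b)⁻¹ = y := by
        calc (a : G) * b * y * ((a : G) * b)⁻¹ = (a : G) * (b * y * b⁻¹) * (a : G)⁻¹ := by group
          _ = (a : G) * y⁻¹ * (a : G)⁻¹ := by rw [h2 y hy]
          _ = y⁻¹⁻¹ := h1 y⁻¹ (S.inv_mem hy)
          _ = y := inv_inv y
      calc y * ((a : G) * b) = ((a : G) * b * y * ((a : G) * b)⁻¹) * ((a : G) * b) := by rw [h3]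
        _ = (a : G) * b * y := by group
    exact hab1 (hS2 _ habS (hB4 _ (B.mul_mem a.2 hbB)))
  obtain ⟨u, huB, huo⟩ := hu
  have huK : u ∈ K := hBK huB
  have hu4 : u ^ 4 = 1 := by rw [← huo]; exact pow_orderOf_eq_one u
  obtain ⟨t, htdef⟩ : ∃ t : G, t = u ^ 2 := ⟨_, rfl⟩
  have ht2 : t ^ 2 = 1 := by rw [htdef, ← pow_mul]; exact hu4
  have ht1 : t ≠ 1 := by
    intro h
    rw [htdef] at h
    have := orderOf_dvd_of_pow_eq_one h
    rw [huo] at this
    norm_num at this
  have hto : orderOf t = 2 := orderOf_eq_prime ht2 ht1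
  have htK : t ∈ K := by rw [htdef]; exact K.pow_mem huK 2
  have htinv : ∀ s ∈ S, t * s * t⁻¹ = s⁻¹ := hinvK t htK hto
  have htinv' : t⁻¹ = t := by
    rw [inv_eq_iff_mul_eq_one, ← pow_two, ht2]
  have htnS : t ∉ S := by
    intro h
    apply ht1
    apply hS2 t h
    rw [show (4 : ℕ) = 2 * 2 by norm_num, pow_mul, ht2, one_pow]
  -- (x t)^2 = 1
  have hinvol : ∀ x ∈ S, (x * t) ^ 2 = 1 := by
    intro x hx
    have h1 := htinv x hx
    calc (x * t) ^ 2 = x * (t * x * t⁻¹) * (t * t) := by rw [pow_two]; group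
      _ = 1 := by rw [h1, ← pow_two, ht2]; group
  have hfour : ∀ x ∈ S, ∀ w ∈ K, w ^ 2 = t → orderOf (x * w) = 4 := by
    intro x hx w hw hwt
    have h1 : (x * w) ^ 2 = (x * (w * x * w⁻¹)) * t := by
      rw [← hwt, pow_two, pow_two]; group
    have hx' : x * (w * x * w⁻¹) ∈ S := S.mul_mem hx (hconj w hw x hx)
    have h2 : ¬ (x * w) ^ 2 ^ 1 = 1 := by
      rw [pow_one, h1]
      intro h
      have : t = (x * (w * x * w⁻¹))⁻¹ := (eq_inv_of_mul_eq_one_right h)
      apply htnS
      rw [this]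
      exact S.inv_mem hx'
    have h3 : (x * w) ^ 2 ^ (1 + 1) = 1 := by
      rw [show (2 : ℕ) ^ (1 + 1) = 2 * 2 by norm_num, pow_mul, h1]
      exact hinvol _ hx'
    have := orderOf_eq_prime_pow h2 h3
    rw [this]; norm_num
  -- K = S ⟨u⟩
  have hzK : Subgroup.zpowers u ≤ K := by
    rw [Subgroup.zpowers_le]; exact huK
  have htriv : ∀ g, g ∈ S → g ∈ Subgroup.zpowers u → g = 1 := by
    intro g hgS hgu
    apply hS2 g hgS
    have h1 := Subgroup.orderOf_dvd_natCard _ hgu
    rw [Nat.card_zpowers, huo] at h1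
    exact orderOf_dvd_iff_pow_eq_one.mp h1
  have hPK : prodSub S (Subgroup.zpowers u) hzK = K := by
    apply Subgroup.eq_of_le_of_card_ge
    · intro g hg
      obtain ⟨x, hx, q, hq, rfl⟩ := (mem_prodSub S _ hzK g).mp hg
      exact K.mul_mem (hSK hx) (hzK hq)
    · rw [card_prodSub S _ hzK htriv, hS, Nat.card_zpowers, huo, hK]
  have hdecomp : ∀ k ∈ K, ∃ s ∈ S, ∃ i : ℕ, i < 4 ∧ k = s * u ^ i := by
    intro k hk
    rw [← hPK] at hk
    obtain ⟨x, hx, q, hq, rfl⟩ := (mem_prodSub S _ hzK k).mp hk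
    obtain ⟨j, rfl⟩ := Subgroup.mem_zpowers_iff.mp hq
    refine ⟨x, hx, (j % 4).toNat, ?_, ?_⟩
    · have h1 : 0 ≤ j % 4 := Int.emod_nonneg _ (by norm_num)
      have h2 : j % 4 < 4 := Int.emod_lt_of_pos _ (by norm_num)
      omega
    · have h1 : 0 ≤ j % 4 := Int.emod_nonneg _ (by norm_num)
      have h2 : u ^ (j % ((orderOf u : ℕ) : ℤ)) = u ^ j := zpow_mod_orderOf u j
      rw [huo] at h2
      rw [← h2, ← zpow_natCast, Int.toNat_of_nonneg h1]
      norm_num
  subst htdef
  refine ⟨u, huK, huo, htinv, ?_, hdecomp⟩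
  intro k hk hkS
  obtain ⟨x, hx, i, hi, rfl⟩ := hdecomp k hk
  interval_cases i
  · exfalso; apply hkS; simpa using hx
  · right
    exact hfour x hx (u ^ 1) (K.pow_mem huK 1) (by rw [pow_one])
  · left
    have h1 : x * u ^ 2 ≠ 1 := by
      intro h; apply hkS; rw [h]; exact S.one_mem
    exact orderOf_eq_prime (hinvol x hx) h1
  · right
    apply hfour x hx (u ^ 3) (K.pow_mem huK 3)
    rw [← pow_mul]
    calc u ^ (3 * 2) = u ^ 4 * u ^ 2 := by group
      _ = u ^ 2 := by rw [hu4, one_mul]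

/-- Form of the output used by the character-theoretic endgame: an element `u` of order 4
in `N(S)` whose square acts fixed-point-freely on `S`. -/
theorem exists_fpf_four (S : Subgroup G) (hS : Nat.card S = 9) (hexp : ∀ s ∈ S, s ^ 3 = 1)
    (hCS : Subgroup.centralizer (S : Set G) = S)
    (hK : Nat.card (Subgroup.normalizer (S : Set G)) = 36)
    (h2c : ∀ t : G, orderOf t = 2 → Nat.card (Subgroup.centralizer ({t} : Set G)) = 24)
    (h3c : ∀ s : G, orderOf s = 3 → Nat.card (Subgroup.centralizer ({s} : Set G)) = 9 ∨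
      Nat.card (Subgroup.centralizer ({s} : Set G)) = 18 ∨
      Nat.card (Subgroup.centralizer ({s} : Set G)) = 36) :
    ∃ u ∈ Subgroup.normalizer (S : Set G), orderOf u = 4 ∧
      (∀ x ∈ S, u ^ 2 * x * (u ^ 2)⁻¹ = x → x = 1) := by
  obtain ⟨u, huK, huo, hinv, -, -⟩ := normalizer_structure S hS hexp hCS hK h2c h3c
  refine ⟨u, huK, huo, ?_⟩
  intro x hx hfix
  rw [hinv x hx] at hfix
  have h3 := hexp x hx
  have h2 : x ^ 2 = 1 := by
    calc x ^ 2 = x * x := pow_two x
      _ = x⁻¹ * x := by rw [hfix]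
      _ = 1 := by group
  calc x = x ^ 3 * (x ^ 2)⁻¹ := by group
    _ = 1 := by rw [h3, h2]; simp

/-- With all involutions having centralizer of order 24 and every element of order 4 inverted
by an involution ("Sylow 2-subgroups are dihedral"), no element of order 4 has a centralizer
of order 24. -/
theorem card_centralizer_four_ne
    (h2c : ∀ t : G, orderOf t = 2 → Nat.card (Subgroup.centralizer ({t} : Set G)) = 24)
    (u a : G) (hu : orderOf u = 4) (hau : a * u * a⁻¹ = u⁻¹) :
    Nat.card (Subgroup.centralizer ({u} : Set G)) ≠ 24 := by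
  haveI : Fact (Nat.Prime 2) := ⟨Nat.prime_two⟩
  intro h24
  have hu4 : u ^ 4 = 1 := by rw [← hu]; exact pow_orderOf_eq_one u
  have ht2 : (u ^ 2) ^ 2 = 1 := by rw [← pow_mul]; exact hu4
  have ht1 : u ^ 2 ≠ 1 := by
    intro h
    have := orderOf_dvd_of_pow_eq_one h
    rw [hu] at this
    norm_num at this
  have hto : orderOf (u ^ 2) = 2 := orderOf_eq_prime ht2 ht1
  have hle : Subgroup.centralizer ({u} : Set G) ≤ Subgroup.centralizer ({u ^ 2} : Set G) := by
    intro g hg
    rw [Subgroup.mem_centralizer_singleton_iff] at hg ⊢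
    exact (Commute.pow_right (show Commute g u from hg) 2)
  have heq : Subgroup.centralizer ({u} : Set G) = Subgroup.centralizer ({u ^ 2} : Set G) :=
    Subgroup.eq_of_le_of_card_ge hle (by rw [h24, h2c _ hto])
  have ha : a ∈ Subgroup.centralizer ({u ^ 2} : Set G) := by
    rw [Subgroup.mem_centralizer_singleton_iff]
    have h1 : a * u ^ 2 * a⁻¹ = u ^ 2 := by
      calc a * u ^ 2 * a⁻¹ = (a * u * a⁻¹) ^ 2 := by rw [conj_pow]
        _ = (u⁻¹) ^ 2 := by rw [hau]
        _ = (u ^ 4)⁻¹ * u ^ 2 := by group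
        _ = u ^ 2 := by rw [hu4]; simp
    calc a * u ^ 2 = a * u ^ 2 * a⁻¹ * a := by group
      _ = u ^ 2 * a := by rw [h1]
  rw [← heq, Subgroup.mem_centralizer_singleton_iff] at ha
  have h1 : u = u⁻¹ := by
    calc u = a * u * a⁻¹ := by rw [ha]; group
      _ = u⁻¹ := hau
  apply ht1
  calc u ^ 2 = u * u := pow_two u
    _ = u⁻¹ * u := by rw [← h1]
    _ = 1 := by group

end Cfsg.Agent.Lib.Helper8.A7End
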