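/- helper8: glue for "simple of order 2520 is A7": from the character data (piece [C]) and the
Sylow 7 data (piece [A]) to the isomorphism with `alternatingGroup (Fin 7)`, through
helper1's local analysis, helper8's structure of `N(S)`, helper17's fixed vector argument and
helper20's recognition of `A_n` from a subgroup of index `n`. -/
import Mathlib
import Cfsg.Agent.Lib.Helper8.A7EndB
import Cfsg.Agent.Lib.Helper1.A7LocC
import Cfsg.Agent.Lib.Helper1.A7LocF
import Cfsg.Agent.Lib.Helper17.A7EndB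
import Cfsg.Agent.Lib.Helper20.AltIndexGlue

set_option autoImplicit false

namespace Cfsg.Agent.Lib.Helper8.A7End

open Cfsg

universe u

/-- From the values of the degree 6 character and the centralizer orders: a subgroup of
index 7. -/
theorem exists_index_seven_of_data {G : Type u} [Group G] [Finite G] [IsSimpleGroup G]
    (hG : Nat.card G = 2520)
    (h7 : ∀ y : G, orderOf y = 7 → Nat.card (Subgroup.centralizer ({y} : Set G)) = 7)
    (χ : IrrCharacter G) (hd : charDegree (χ : G → ℂ) = 6)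
    (h2 : ∀ t : G, orderOf t = 2 →
      (χ : G → ℂ) t = 2 ∧ Nat.card (Subgroup.centralizer ({t} : Set G)) = 24)
    (h3c : ∀ s : G, orderOf s = 3 → Nat.card (Subgroup.centralizer ({s} : Set G)) = 9 ∨
      Nat.card (Subgroup.centralizer ({s} : Set G)) = 18 ∨
      Nat.card (Subgroup.centralizer ({s} : Set G)) = 36)
    (h4 : ∀ w : G, orderOf w = 4 → (χ : G → ℂ) w = 0 ∨ (χ : G → ℂ) w = 2) :
    ∃ H : Subgroup G, H.index = 7 := by
  haveI : Fact (Nat.Prime 3) := ⟨Nat.prime_three⟩
  have h2c : ∀ t : G, orderOf t = 2 → Nat.card (Subgroup.centralizer ({t} : Set G)) = 24 :=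
    fun t ht => (h2 t ht).2
  let S : Sylow 3 G := default
  obtain ⟨hS, hexp, hCS, hN⟩ := Cfsg.Agent.Lib.Helper1.A7Loc.sylow_three_data hG h2c h7 S
  obtain ⟨v, hvN, hvo, hinv, -, -⟩ :=
    normalizer_structure (S : Subgroup G) hS hexp hCS hN h2c h3c
  have hD8 : ∀ w : G, orderOf w = 4 → ∃ a : G, orderOf a = 2 ∧ a * w * a⁻¹ = w⁻¹ := by
    intro w hw
    obtain ⟨a, ha, haw, -⟩ := Cfsg.Agent.Lib.Helper1.A7Loc.exists_inverting_involution hG w hw
    exact ⟨a, ha, haw⟩
  exact Cfsg.Agent.Lib.Helper17.A7End.exists_index_seven_of hG χ hd (fun t ht => (h2 t ht).1) h4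
    (S : Subgroup G) hS hN v hvo hvN hinv hD8

/-- The isomorphism with `A_7` from the same data. -/
theorem iso_alt7_of_data {G : Type u} [Group G] [Finite G] [IsSimpleGroup G]
    (hG : Nat.card G = 2520)
    (h7 : ∀ y : G, orderOf y = 7 → Nat.card (Subgroup.centralizer ({y} : Set G)) = 7)
    (χ : IrrCharacter G) (hd : charDegree (χ : G → ℂ) = 6)
    (h2 : ∀ t : G, orderOf t = 2 →
      (χ : G → ℂ) t = 2 ∧ Nat.card (Subgroup.centralizer ({t} : Set G)) = 24)
    (h3c : ∀ s : G, orderOf s = 3 → Nat.card (Subgroup.centralizer ({s} : Set G)) = 9 ∨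
      Nat.card (Subgroup.centralizer ({s} : Set G)) = 18 ∨
      Nat.card (Subgroup.centralizer ({s} : Set G)) = 36)
    (h4 : ∀ w : G, orderOf w = 4 → (χ : G → ℂ) w = 0 ∨ (χ : G → ℂ) w = 2) :
    Nonempty (G ≃* alternatingGroup (Fin 7)) := by
  obtain ⟨H, hH⟩ := exists_index_seven_of_data hG h7 χ hd h2 h3c h4
  exact Cfsg.Agent.Lib.Helper20.A8Sub.iso_alt7_of_index_seven hG H hH

end Cfsg.Agent.Lib.Helper8.A7End
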