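import Cfsg.Agent.Lib.Helper8.AbInvA
import Cfsg.Agent.S1224
import Cfsg.Agent.S1225

/-!
# Groups in which centralizers of involutions are abelian, part B (helper8)

No involution inverts a nontrivial element of odd order of the centralizer of a point; for an involution `u` outside
the normalizer `N` of a point `P`, the elements of `N` inverted by `u` form a transversal of the centralizer of `P`
in `N`.
-/

set_option autoImplicit false

namespace Cfsg.Agent.Lib.Helper8.AbInv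

open Cfsg.Agent.Lib.Helper2 Cfsg.Agent.Lib.Helper8

variable {G : Type*} [Group G]

theorem eq_one_of_odd_of_sq {a : G} (hodd : Odd (orderOf a)) (h2 : a * a = 1) : a = 1 := by
  have h1 : orderOf a ∣ 2 := orderOf_dvd_of_pow_eq_one (by rw [pow_two]; exact h2)
  have h3 : orderOf a = 1 ∨ orderOf a = 2 := (Nat.dvd_prime Nat.prime_two).mp h1
  rcases h3 with h3 | h3
  · exact orderOf_eq_one_iff.mp h3
  · rw [h3] at hodd
    exact absurd hodd (by decide)

theorem eq_one_of_odd_of_inv_eq {a : G} (hodd : Odd (orderOf a)) (h2 : a = a⁻¹) : a = 1 := by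
  apply eq_one_of_odd_of_sq hodd
  calc a * a = a * a⁻¹ := by rw [← h2]
    _ = 1 := mul_inv_cancel a

/-- the elements conjugating `a` to `a` or `a⁻¹` -/
def invNormalizer (a : G) : Subgroup G where
  carrier := {g | g * a * g⁻¹ = a ∨ g * a * g⁻¹ = a⁻¹}
  one_mem' := by left; group
  mul_mem' := by
    intro x y hx hy
    have e : x * y * a * (x * y)⁻¹ = x * (y * a * y⁻¹) * x⁻¹ := by group
    rcases hy with hy | hy
    · rcases hx with hx | hx
      · left; rw [e, hy, hx]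
      · right; rw [e, hy, hx]
    · have e2 : x * a⁻¹ * x⁻¹ = (x * a * x⁻¹)⁻¹ := by group
      rcases hx with hx | hx
      · right; rw [e, hy, e2, hx]
      · left; rw [e, hy, e2, hx, inv_inv]
  inv_mem' := by
    intro x hx
    rcases hx with hx | hx
    · left
      calc x⁻¹ * a * x⁻¹⁻¹ = x⁻¹ * (x * a * x⁻¹) * x := by rw [hx]; group
        _ = a := by group
    · right
      have : a = x * a⁻¹ * x⁻¹ := by
        have e2 : x * a⁻¹ * x⁻¹ = (x * a * x⁻¹)⁻¹ := by group
        rw [e2, hx, inv_inv]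
      calc x⁻¹ * a * x⁻¹⁻¹ = x⁻¹ * (x * a⁻¹ * x⁻¹) * x := by rw [← this]; group
        _ = a⁻¹ := by group

theorem mem_invNormalizer {a g : G} : g ∈ invNormalizer a ↔ g * a * g⁻¹ = a ∨ g * a * g⁻¹ = a⁻¹ :=
  Iff.rfl

/-- a conjugate, under an element conjugating `a` to `a^{±1}`, of an element commuting with `a` commutes with
`a` -/
theorem commute_conj_of_mem_invNormalizer {a t d : G} (ht : t * a = a * t) (hd : d ∈ invNormalizer a) :
    (d * t * d⁻¹) * a = a * (d * t * d⁻¹) := by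
  have hd' := (invNormalizer a).inv_mem hd
  rw [mem_invNormalizer, inv_inv] at hd'
  have hta : t * a⁻¹ = a⁻¹ * t := by
    calc t * a⁻¹ = a⁻¹ * (a * t) * a⁻¹ := by group
      _ = a⁻¹ * (t * a) * a⁻¹ := by rw [ht]
      _ = a⁻¹ * t := by group
  rcases hd' with h1 | h1
  · calc d * t * d⁻¹ * a = d * (t * (d⁻¹ * a * d)) * d⁻¹ := by group
      _ = d * (t * a) * d⁻¹ := by rw [h1]
      _ = d * (a * t) * d⁻¹ := by rw [ht]
      _ = d * ((d⁻¹ * a * d) * t) * d⁻¹ := by rw [h1]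
      _ = a * (d * t * d⁻¹) := by group
  · calc d * t * d⁻¹ * a = d * (t * (d⁻¹ * a * d)) * d⁻¹ := by group
      _ = d * (t * a⁻¹) * d⁻¹ := by rw [h1]
      _ = d * (a⁻¹ * t) * d⁻¹ := by rw [hta]
      _ = d * ((d⁻¹ * a * d) * t) * d⁻¹ := by rw [h1]
      _ = a * (d * t * d⁻¹) := by group

section Finite

variable [Finite G] (h : AbHyp G)

theorem exists_invol_pow_of_even {c : G} (he : Even (orderOf c)) :
    orderOf (c ^ (orderOf c / 2)) = 2 :=
  orderOf_pow_orderOf_div (orderOf_pos c).ne' (even_iff_two_dvd.mp he)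

include h in
/-- an element of `Cz P` normalizing a different point has odd order -/
theorem odd_of_mem_Cz_of_mem_Nz {P Q : Sylow 2 G} (hPQ : P ≠ Q) {c : G} (hc : c ∈ Cz P)
    (hcQ : c ∈ Nz Q) : Odd (orderOf c) := by
  by_contra hodd
  rw [Nat.not_odd_iff_even] at hodd
  have hs2 := exists_invol_pow_of_even hodd
  set s := c ^ (orderOf c / 2) with hs
  have hsC : s ∈ Cz P := Subgroup.pow_mem _ hc _
  have hsQ : s ∈ Nz Q := Subgroup.pow_mem _ hcQ _
  have hsP : s ∈ (P : Subgroup G) := invol_mem_of_mem_Nz P hs2 (Cz_le_Nz P hsC)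
  have hsQ' : s ∈ (Q : Subgroup G) := invol_mem_of_mem_Nz Q hs2 hsQ
  exact hPQ (sylow_eq_of_invol h hs2 hsP hsQ')

include h in
/-- **(F1)** no involution inverts a nontrivial element of odd order of `Cz P` -/
theorem no_invert {P : Sylow 2 G} (hP : (P : Subgroup G) ≠ ⊥) {a u : G} (ha : a ∈ Cz P)
    (hodd : Odd (orderOf a)) (hu2 : orderOf u = 2) (hinv : u * a * u⁻¹ = a⁻¹) : a = 1 := by
  obtain ⟨t0, ht0T, ht02, -⟩ := sylow_exists_central_invol P hP
  have hta : t0 * a = a * t0 := (mem_Cz_iff.mp ha) t0 ht0T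
  have hcomm : u * a = a * u → a = 1 := by
    intro hc
    apply eq_one_of_odd_of_inv_eq hodd
    rw [← hinv, hc]; group
  by_cases hpar : Odd (orderOf (t0 * u))
  · obtain ⟨d, hd, hdu⟩ := dih_conj_of_odd (invol_mul_self ht02) (invol_mul_self hu2) hpar
    have hle : Subgroup.closure ({t0, u} : Set G) ≤ invNormalizer a := by
      rw [Subgroup.closure_le]
      intro x hx
      rcases hx with hx | hx
      · rw [hx]
        left
        rw [hta]; group
      · rw [Set.mem_singleton_iff] at hx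
        rw [hx]
        right; exact hinv
    have := commute_conj_of_mem_invNormalizer hta (hle hd)
    rw [hdu] at this
    exact hcomm this
  · rw [Nat.not_odd_iff_even] at hpar
    obtain ⟨hz2, hzt, hzu⟩ := dih_central_invol (invol_mul_self ht02) (invol_mul_self hu2)
      (orderOf_pos _) hpar
    set z := (t0 * u) ^ (orderOf (t0 * u) / 2) with hz
    have hzC : z ∈ Cz P := mem_Cz_of_commute h P ht0T ht02 hzt.eq
    have hzP : z ∈ (P : Subgroup G) := invol_mem_of_mem_Nz P hz2 (Cz_le_Nz P hzC)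
    have huC : u ∈ Cz P := mem_Cz_of_commute h P hzP hz2 hzu.eq.symm
    exact hcomm (Cz_comm h P hP u huC a ha)

/-- number of involutions of a point -/
noncomputable def invCount (P : Sylow 2 G) : ℕ :=
  Nat.card {t : G // t ∈ (P : Subgroup G) ∧ orderOf t = 2}

omit [Finite G] in
theorem mk_one_ne_mk {H : Subgroup G} {u : G} (hu : u ∉ H) :
    (QuotientGroup.mk 1 : G ⧸ H) ≠ QuotientGroup.mk u := by
  intro hq
  rw [QuotientGroup.eq] at hq
  apply hu
  simpa using hq

include h in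
/-- the number of elements of `Nz P` inverted by an involution `u ∉ Nz P` -/
theorem card_inverted (P : Sylow 2 G) (hP : (P : Subgroup G) ≠ ⊥) (hnn : ¬ (P : Subgroup G).Normal)
    {u : G} (hu2 : orderOf u = 2) (huN : u ∉ Nz P) :
    Nat.card {d : G // d ∈ Nz P ∧ u * d * u⁻¹ = d⁻¹} = invCount P := by
  have hSE := stronglyEmbedded_Nz h P hP hnn
  have h1 := Cfsg.Agent.S1224.result (Nz P) hSE (QuotientGroup.mk 1) (QuotientGroup.mk u)
    (mk_one_ne_mk huN)
  have hui := invol_inv hu2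
  have huu := invol_mul_self hu2
  have hsq : ∀ d : G, u * d * u⁻¹ = d⁻¹ → u * d * (u * d) = 1 := by
    intro d hd
    calc u * d * (u * d) = (u * d * u⁻¹) * d := by rw [hui]; group
      _ = 1 := by rw [hd]; group
  have e1 : {d : G // d ∈ Nz P ∧ u * d * u⁻¹ = d⁻¹} ≃
      {i : G // orderOf i = 2 ∧ i • (QuotientGroup.mk 1 : G ⧸ Nz P) = QuotientGroup.mk u} := by
    refine ⟨fun d => ⟨u * d.1, ?_, ?_⟩, fun i => ⟨u * i.1, ?_, ?_⟩, ?_, ?_⟩
    · apply orderOf_two_of
      · intro h1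
        apply huN
        have : u = d.1⁻¹ := eq_inv_of_mul_eq_one_left h1
        rw [this]; exact (Nz P).inv_mem d.2.1
      · exact hsq d.1 d.2.2
    · rw [MulAction.Quotient.smul_mk, smul_eq_mul, mul_one, QuotientGroup.eq]
      have : (u * d.1)⁻¹ * u = d.1⁻¹ := by group
      rw [this]; exact (Nz P).inv_mem d.2.1
    · have h2 := i.2.2
      rw [MulAction.Quotient.smul_mk, smul_eq_mul, mul_one, QuotientGroup.eq] at h2
      have h3 := (Nz P).inv_mem h2
      have : (i.1⁻¹ * u)⁻¹ = u * i.1 := by rw [mul_inv_rev, inv_inv, hui]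
      rw [this] at h3; exact h3
    · have hii := invol_inv i.2.1
      rw [mul_inv_rev, hii, hui]
      calc u * (u * i.1) * u = (u * u) * i.1 * u := by group
        _ = i.1 * u := by rw [huu, one_mul]
    · intro d
      apply Subtype.ext
      show u * (u * d.1) = d.1
      rw [← mul_assoc, huu, one_mul]
    · intro i
      apply Subtype.ext
      show u * (u * i.1) = i.1
      rw [← mul_assoc, huu, one_mul]
  have e2 : {t : G // orderOf t = 2 ∧ t ∈ Nz P} ≃ {t : G // t ∈ (P : Subgroup G) ∧ orderOf t = 2} := by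
    refine ⟨fun t => ⟨t.1, invol_mem_of_mem_Nz P t.2.1 t.2.2, t.2.1⟩,
      fun t => ⟨t.1, t.2.2, le_Nz P t.2.1⟩, fun t => rfl, fun t => rfl⟩
  unfold invCount
  rw [Nat.card_congr e1, h1, Nat.card_congr e2]

include h in
/-- elements of `Nz P` inverted by `u` which agree modulo `Cz P` are equal -/
theorem inverted_inj (P : Sylow 2 G) (hP : (P : Subgroup G) ≠ ⊥) (hnn : ¬ (P : Subgroup G).Normal)
    {u : G} (hu2 : orderOf u = 2) (huN : u ∉ Nz P) {d₁ d₂ : G} (h1 : d₁ ∈ Nz P)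
    (h1u : u * d₁ * u⁻¹ = d₁⁻¹) (h2 : d₂ ∈ Nz P) (h2u : u * d₂ * u⁻¹ = d₂⁻¹)
    (hc : d₁⁻¹ * d₂ ∈ Cz P) : d₁ = d₂ := by
  have hSE := stronglyEmbedded_Nz h P hP hnn
  have hui := invol_inv hu2
  have huu := invol_mul_self hu2
  -- `d₁⁻¹ d₂` lies in `N ∩ uNu⁻¹`, of odd order
  have hmem : ∀ d : G, d ∈ Nz P → u * d * u⁻¹ = d⁻¹ →
      d ∈ Nz P ⊓ (Nz P).map (MulAut.conj u).toMonoidHom := by
    intro d hd hdu
    refine Subgroup.mem_inf.mpr ⟨hd, ?_⟩
    rw [mem_map_conj]
    have : u⁻¹ * d * u = d⁻¹ := by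
      rw [← hdu, hui]
    rw [this]; exact (Nz P).inv_mem hd
  have hD : d₁⁻¹ * d₂ ∈ Nz P ⊓ (Nz P).map (MulAut.conj u).toMonoidHom :=
    Subgroup.mul_mem _ (Subgroup.inv_mem _ (hmem d₁ h1 h1u)) (hmem d₂ h2 h2u)
  have hodd : Odd (orderOf (d₁⁻¹ * d₂)) := by
    have h3 := hSE.2.2 u huN
    have h4 : orderOf (⟨d₁⁻¹ * d₂, hD⟩ : ↥(Nz P ⊓ (Nz P).map (MulAut.conj u).toMonoidHom)) ∣
        Nat.card ↥(Nz P ⊓ (Nz P).map (MulAut.conj u).toMonoidHom) := orderOf_dvd_natCard _
    rw [← Subgroup.orderOf_coe] at h4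
    exact Odd.of_dvd_nat h3 h4
  -- it is inverted by the involution `u d₁`
  have hv2 : orderOf (u * d₁) = 2 := by
    apply orderOf_two_of
    · intro h1'
      apply huN
      have : u = d₁⁻¹ := eq_inv_of_mul_eq_one_left h1'
      rw [this]; exact (Nz P).inv_mem h1
    · calc u * d₁ * (u * d₁) = (u * d₁ * u⁻¹) * d₁ := by rw [hui]; group
        _ = 1 := by rw [h1u]; group
  have hinv : (u * d₁) * (d₁⁻¹ * d₂) * (u * d₁)⁻¹ = (d₁⁻¹ * d₂)⁻¹ := by
    calc (u * d₁) * (d₁⁻¹ * d₂) * (u * d₁)⁻¹ = (u * d₂ * u⁻¹) * (u * d₁ * u⁻¹)⁻¹ := by group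
      _ = (d₁⁻¹ * d₂)⁻¹ := by rw [h2u, h1u]; group
  have := no_invert h hP hc hodd hv2 hinv
  exact (inv_mul_eq_one.mp this)

end Finite

end Cfsg.Agent.Lib.Helper8.AbInv
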