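import Cfsg.Agent.Lib.Helper8.AbInvB

/-!
# Groups in which centralizers of involutions are abelian, part C (helper8)

The decomposition `N = I_u · C` of the normalizer of a point, its order, and involutions interchanging two points.
-/

set_option autoImplicit false

namespace Cfsg.Agent.Lib.Helper8.AbInv

open Cfsg.Agent.Lib.Helper2 Cfsg.Agent.Lib.Helper8

variable {G : Type*} [Group G]

theorem conj_mem_of_mem_Nz {P : Sylow 2 G} {d s : G} (hd : d ∈ Nz P) (hs : s ∈ (P : Subgroup G)) :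
    d * s * d⁻¹ ∈ (P : Subgroup G) :=
  (Subgroup.mem_normalizer_iff.mp hd s).mp hs

theorem conj_mem_Cz_of_mem_Nz {P : Sylow 2 G} {d c : G} (hd : d ∈ Nz P) (hc : c ∈ Cz P) :
    d * c * d⁻¹ ∈ Cz P := by
  rw [mem_Cz_iff] at hc ⊢
  intro s hs
  have hd' : d⁻¹ ∈ Nz P := (Nz P).inv_mem hd
  have hs' : d⁻¹ * s * d ∈ (P : Subgroup G) := by
    have := conj_mem_of_mem_Nz hd' hs
    rwa [inv_inv] at this
  have h1 := hc _ hs'
  calc s * (d * c * d⁻¹) = d * (d⁻¹ * s * d * c) * d⁻¹ := by group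
    _ = d * (c * (d⁻¹ * s * d)) * d⁻¹ := by rw [h1]
    _ = d * c * d⁻¹ * s := by group

section Finite

variable [Finite G] (h : AbHyp G)

include h in
/-- involutions of different points have a product of odd order -/
theorem odd_mul_of_ne {P Q : Sylow 2 G} (hPQ : P ≠ Q) {s t : G} (hs : s ∈ (P : Subgroup G))
    (hs2 : orderOf s = 2) (ht : t ∈ (Q : Subgroup G)) (ht2 : orderOf t = 2) :
    Odd (orderOf (s * t)) := by
  by_contra hodd
  rw [Nat.not_odd_iff_even] at hodd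
  obtain ⟨hz2, hzs, hzt⟩ := dih_central_invol (invol_mul_self hs2) (invol_mul_self ht2)
    (orderOf_pos _) hodd
  set z := (s * t) ^ (orderOf (s * t) / 2) with hz
  have hzP : z ∈ (P : Subgroup G) :=
    invol_mem_of_mem_Nz P hz2 (Cz_le_Nz P (mem_Cz_of_commute h P hs hs2 hzs.eq))
  have hzQ : z ∈ (Q : Subgroup G) :=
    invol_mem_of_mem_Nz Q hz2 (Cz_le_Nz Q (mem_Cz_of_commute h Q ht ht2 hzt.eq))
  exact hPQ (sylow_eq_of_invol h hz2 hzP hzQ)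

include h in
/-- two different points are interchanged by an involution -/
theorem exists_swap {P Q : Sylow 2 G} (hP : (P : Subgroup G) ≠ ⊥) (hQ : (Q : Subgroup G) ≠ ⊥)
    (hPQ : P ≠ Q) : ∃ w : G, orderOf w = 2 ∧ w • P = Q ∧ w • Q = P := by
  obtain ⟨s, hsP, hs2, -⟩ := sylow_exists_central_invol P hP
  obtain ⟨t, htQ, ht2, -⟩ := sylow_exists_central_invol Q hQ
  have hodd := odd_mul_of_ne h hPQ hsP hs2 htQ ht2
  obtain ⟨w, hww, hw⟩ := invol_midpoint (invol_mul_self hs2) (invol_mul_self ht2) hodd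
  have hwP : w • P = Q := by
    apply sylow_eq_of_invol h ht2 _ htQ
    rw [← hw]
    exact conj_mem_smul_sylow hsP
  have hw1 : w ≠ 1 := by
    intro h1
    rw [h1, one_smul] at hwP
    exact hPQ hwP
  refine ⟨w, orderOf_two_of hw1 hww, hwP, ?_⟩
  rw [← hwP, ← mul_smul, hww, one_smul]

include h in
/-- there is an involution outside the normalizer of a non-normal point -/
theorem exists_invol_not_mem_Nz (P : Sylow 2 G) (hP : (P : Subgroup G) ≠ ⊥)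
    (hnn : ¬ (P : Subgroup G).Normal) : ∃ u : G, orderOf u = 2 ∧ u ∉ Nz P := by
  have hSE := stronglyEmbedded_Nz h P hP hnn
  obtain ⟨t0, ht0T, ht02, -⟩ := sylow_exists_central_invol P hP
  have hne : Nz P ≠ ⊤ := hSE.1
  obtain ⟨g, hg⟩ : ∃ g : G, g ∉ Nz P := by
    by_contra hcon
    push_neg at hcon
    exact hne (eq_top_iff.mpr fun x _ => hcon x)
  refine ⟨g * t0 * g⁻¹, orderOf_conj_two g ht02, ?_⟩
  intro hmem
  exact hg (((stronglyEmbedded_iff (Nz P)).mp hSE).2.2 g t0 (le_Nz P ht0T) ht02 hmem)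

variable (P : Sylow 2 G) (hP : (P : Subgroup G) ≠ ⊥) (hnn : ¬ (P : Subgroup G).Normal)
  {u : G} (hu2 : orderOf u = 2) (huN : u ∉ Nz P)

include h hP hnn hu2 huN in
/-- the elements of `Nz P` inverted by `u` act regularly on the involutions of `P` -/
theorem exists_inverted_conj {t0 t : G} (ht0 : t0 ∈ (P : Subgroup G)) (ht02 : orderOf t0 = 2)
    (ht : t ∈ (P : Subgroup G)) (ht2 : orderOf t = 2) :
    ∃ d : G, d ∈ Nz P ∧ u * d * u⁻¹ = d⁻¹ ∧ d * t0 * d⁻¹ = t := by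
  let φ : {d : G // d ∈ Nz P ∧ u * d * u⁻¹ = d⁻¹} → {t : G // t ∈ (P : Subgroup G) ∧ orderOf t = 2} :=
    fun d => ⟨d.1 * t0 * d.1⁻¹, conj_mem_of_mem_Nz d.2.1 ht0, orderOf_conj_two d.1 ht02⟩
  have hinj : Function.Injective φ := by
    intro d₁ d₂ h12
    have h1 : d₁.1 * t0 * d₁.1⁻¹ = d₂.1 * t0 * d₂.1⁻¹ := congrArg Subtype.val h12
    apply Subtype.ext
    apply inverted_inj h P hP hnn hu2 huN d₁.2.1 d₁.2.2 d₂.2.1 d₂.2.2
    apply mem_Cz_of_commute h P ht0 ht02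
    calc d₁.1⁻¹ * d₂.1 * t0 = d₁.1⁻¹ * (d₂.1 * t0 * d₂.1⁻¹) * d₂.1 := by group
      _ = d₁.1⁻¹ * (d₁.1 * t0 * d₁.1⁻¹) * d₂.1 := by rw [h1]
      _ = t0 * (d₁.1⁻¹ * d₂.1) := by group
  have hcard : Nat.card {t : G // t ∈ (P : Subgroup G) ∧ orderOf t = 2} ≤
      Nat.card {d : G // d ∈ Nz P ∧ u * d * u⁻¹ = d⁻¹} := by
    rw [card_inverted h P hP hnn hu2 huN]
    rfl
  have hbij := hinj.bijective_of_nat_card_le hcard
  obtain ⟨d, hd⟩ := hbij.2 ⟨t, ht, ht2⟩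
  exact ⟨d.1, d.2.1, d.2.2, congrArg Subtype.val hd⟩

include h hP hnn hu2 huN in
/-- `Nz P = I_u · Cz P` -/
theorem Nz_decomp {m : G} (hm : m ∈ Nz P) :
    ∃ d : G, d ∈ Nz P ∧ u * d * u⁻¹ = d⁻¹ ∧ d⁻¹ * m ∈ Cz P := by
  obtain ⟨t0, ht0T, ht02, -⟩ := sylow_exists_central_invol P hP
  obtain ⟨d, hd, hdu, hdt⟩ := exists_inverted_conj h P hP hnn hu2 huN ht0T ht02
    (conj_mem_of_mem_Nz hm ht0T) (orderOf_conj_two m ht02)
  refine ⟨d, hd, hdu, ?_⟩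
  apply mem_Cz_of_commute h P ht0T ht02
  calc d⁻¹ * m * t0 = d⁻¹ * (m * t0 * m⁻¹) * m := by group
    _ = d⁻¹ * (d * t0 * d⁻¹) * m := by rw [hdt]
    _ = t0 * (d⁻¹ * m) := by group

include h hP hnn hu2 huN in
/-- the order of the normalizer of a point -/
theorem card_Nz : Nat.card (Nz P) = invCount P * Nat.card (Cz P) := by
  rw [← card_inverted h P hP hnn hu2 huN, ← Nat.card_prod]
  symm
  let ψ : {d : G // d ∈ Nz P ∧ u * d * u⁻¹ = d⁻¹} × (Cz P) → Nz P :=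
    fun x => ⟨x.1.1 * x.2.1, (Nz P).mul_mem x.1.2.1 (Cz_le_Nz P x.2.2)⟩
  apply Nat.card_eq_of_bijective ψ
  constructor
  · rintro ⟨d₁, c₁⟩ ⟨d₂, c₂⟩ h12
    have h1 : d₁.1 * c₁.1 = d₂.1 * c₂.1 := congrArg Subtype.val h12
    have hd : d₁ = d₂ := by
      apply Subtype.ext
      apply inverted_inj h P hP hnn hu2 huN d₁.2.1 d₁.2.2 d₂.2.1 d₂.2.2
      have : d₁.1⁻¹ * d₂.1 = c₁.1 * c₂.1⁻¹ := by
        calc d₁.1⁻¹ * d₂.1 = d₁.1⁻¹ * (d₂.1 * c₂.1) * c₂.1⁻¹ := by group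
          _ = d₁.1⁻¹ * (d₁.1 * c₁.1) * c₂.1⁻¹ := by rw [h1]
          _ = c₁.1 * c₂.1⁻¹ := by group
      rw [this]
      exact (Cz P).mul_mem c₁.2 ((Cz P).inv_mem c₂.2)
    subst hd
    have hc : c₁ = c₂ := Subtype.ext (mul_left_cancel h1)
    rw [hc]
  · rintro ⟨m, hm⟩
    obtain ⟨d, hd, hdu, hdc⟩ := Nz_decomp h P hP hnn hu2 huN hm
    refine ⟨⟨⟨d, hd, hdu⟩, ⟨d⁻¹ * m, hdc⟩⟩, ?_⟩
    apply Subtype.ext
    show d * (d⁻¹ * m) = m
    group

end Finite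

end Cfsg.Agent.Lib.Helper8.AbInv
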