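import Cfsg.Agent.Lib.Helper8.AbInvC

/-!
# Groups in which centralizers of involutions are abelian, part D (helper8)

Case I: the centralizer of every nontrivial element of odd order of the centralizer of a point `P` lies in the
normalizer of `P`.  Then the odd parts of the centralizers of the points are disjoint, act semiregularly on the
other points, and the stabilizer of two points is inverted by the involutions interchanging them.
-/

set_option autoImplicit false

namespace Cfsg.Agent.Lib.Helper8.AbInv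

open Cfsg.Agent.Lib.Helper2 Cfsg.Agent.Lib.Helper8

variable {G : Type*} [Group G]

/-- Case I -/
def CaseI (G : Type*) [Group G] : Prop :=
  ∀ (P : Sylow 2 G) (a : G), a ∈ Cz P → Odd (orderOf a) → a ≠ 1 →
    Subgroup.centralizer ({a} : Set G) ≤ Nz P

theorem eq_one_of_mem_sylow_of_odd (P : Sylow 2 G) {x : G} (hx : x ∈ (P : Subgroup G))
    (hodd : Odd (orderOf x)) : x = 1 := by
  obtain ⟨k, hk⟩ := P.2 ⟨x, hx⟩
  have h1 : x ^ 2 ^ k = 1 := by
    have := congrArg Subtype.val hk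
    simpa using this
  have h2 : orderOf x ∣ 2 ^ k := orderOf_dvd_of_pow_eq_one h1
  have h3 : Nat.Coprime (orderOf x) (2 ^ k) := (Nat.Coprime.pow_right k hodd.coprime_two_right)
  have h4 : orderOf x = 1 := Nat.Coprime.eq_one_of_dvd h3 h2
  exact orderOf_eq_one_iff.mp h4

section Finite

variable [Finite G] (h : AbHyp G)

include h in
/-- an element normalizing two different points has odd order -/
theorem odd_of_mem_inter {P Q : Sylow 2 G} (hPQ : P ≠ Q) {x : G} (hxP : x ∈ Nz P) (hxQ : x ∈ Nz Q) :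
    Odd (orderOf x) := by
  by_contra hodd
  rw [Nat.not_odd_iff_even] at hodd
  have hs2 := exists_invol_pow_of_even hodd
  set s := x ^ (orderOf x / 2) with hs
  have hsP : s ∈ (P : Subgroup G) := invol_mem_of_mem_Nz P hs2 (Subgroup.pow_mem _ hxP _)
  have hsQ : s ∈ (Q : Subgroup G) := invol_mem_of_mem_Nz Q hs2 (Subgroup.pow_mem _ hxQ _)
  exact hPQ (sylow_eq_of_invol h hs2 hsP hsQ)

variable (hI : CaseI G)

omit [Finite G] in
include hI in
/-- the odd parts of the centralizers of different points meet trivially -/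
theorem caseI_TI {P Q : Sylow 2 G} {a : G} (haP : a ∈ Cz P) (haQ : a ∈ Cz Q) (hodd : Odd (orderOf a))
    (ha1 : a ≠ 1) : P = Q := by
  have hle : (P : Subgroup G) ≤ (Q : Subgroup G) := by
    apply le_of_le_Nz Q P.2
    intro s hs
    apply hI Q a haQ hodd ha1
    rw [Subgroup.mem_centralizer_singleton_iff]
    exact (mem_Cz_iff.mp haP) s hs
  exact Sylow.ext (P.is_maximal' Q.2 hle).symm

variable (hne : ∀ P : Sylow 2 G, (P : Subgroup G) ≠ ⊥)

include h hI hne in
/-- the odd part of the centralizer of a point acts semiregularly on the other points -/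
theorem caseI_semireg {P Q : Sylow 2 G} {a : G} (haP : a ∈ Cz P) (hodd : Odd (orderOf a))
    (ha1 : a ≠ 1) (haQ : a ∈ Nz Q) : Q = P := by
  by_contra hQP
  have hPQ : P ≠ Q := fun e => hQP e.symm
  obtain ⟨u, hu2, huP, huQ⟩ := exists_swap h (hne P) (hne Q) hPQ
  have hui := invol_inv hu2
  have huu := invol_mul_self hu2
  set b := u * a * u⁻¹ with hb
  have hbQ : b ∈ Cz Q := by
    rw [← huP, mem_Cz_smul]
    have : u⁻¹ * b * u = a := by rw [hb]; group
    rw [this]; exact haP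
  have hbP : b ∈ Nz P := by
    rw [← huQ, mem_Nz_smul]
    have : u⁻¹ * b * u = a := by rw [hb]; group
    rw [this]; exact haQ
  have haNP : a ∈ Nz P := Cz_le_Nz P haP
  have hbNQ : b ∈ Nz Q := Cz_le_Nz Q hbQ
  have hbodd : Odd (orderOf b) := by
    have : orderOf b = orderOf a := by
      rw [hb, ← MulAut.conj_apply]
      exact (MulAut.conj u).orderOf_eq a
    rw [this]; exact hodd
  -- `a` and `b` commute
  have hab : a * b = b * a := by
    by_contra hcon
    have hc1 : a * b * a⁻¹ * b⁻¹ ≠ 1 := by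
      intro h1
      apply hcon
      calc a * b = (a * b * a⁻¹ * b⁻¹) * (b * a) := by group
        _ = b * a := by rw [h1, one_mul]
    have hcP : a * b * a⁻¹ * b⁻¹ ∈ Cz P := by
      have h1 : b * a⁻¹ * b⁻¹ ∈ Cz P := conj_mem_Cz_of_mem_Nz hbP ((Cz P).inv_mem haP)
      have : a * b * a⁻¹ * b⁻¹ = a * (b * a⁻¹ * b⁻¹) := by group
      rw [this]; exact (Cz P).mul_mem haP h1
    have hcQ : a * b * a⁻¹ * b⁻¹ ∈ Cz Q := by
      have h1 : a * b * a⁻¹ ∈ Cz Q := conj_mem_Cz_of_mem_Nz haQ hbQ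
      exact (Cz Q).mul_mem h1 ((Cz Q).inv_mem hbQ)
    have hco : Odd (orderOf (a * b * a⁻¹ * b⁻¹)) :=
      odd_of_mem_inter h hPQ (Cz_le_Nz P hcP) (Cz_le_Nz Q hcQ)
    exact hPQ (caseI_TI hI hcP hcQ hco hc1)
  have hub : u * b * u⁻¹ = a := by
    rw [hb, hui]
    calc u * (u * a * u) * u = (u * u) * a * (u * u) := by group
      _ = a := by rw [huu]; group
  obtain ⟨c, hc⟩ : ∃ c : G, c = a * b := ⟨_, rfl⟩
  have hcu : c * u = u * c := by
    have h1 : u * c * u⁻¹ = c := by
      calc u * c * u⁻¹ = (u * a * u⁻¹) * (u * b * u⁻¹) := by rw [hc]; group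
        _ = b * a := by rw [hub]
        _ = c := by rw [hc, hab]
    calc c * u = (u * c * u⁻¹) * u := by rw [h1]
      _ = u * c := by group
  have hcP : c ∈ Nz P := by rw [hc]; exact (Nz P).mul_mem haNP hbP
  have hcQ : c ∈ Nz Q := by rw [hc]; exact (Nz Q).mul_mem haQ hbNQ
  have hcodd : Odd (orderOf c) := odd_of_mem_inter h hPQ hcP hcQ
  have hc1 : c ≠ 1 := by
    intro h1
    have hba : b = a⁻¹ := by
      rw [hc] at h1
      exact (inv_eq_of_mul_eq_one_right h1).symm
    have hbCP : b ∈ Cz P := by rw [hba]; exact (Cz P).inv_mem haP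
    have hb1 : b ≠ 1 := by
      intro hb1
      apply ha1
      rw [hb1] at hba
      have := inv_eq_one.mp hba.symm
      exact this
    exact hPQ (caseI_TI hI hbCP hbQ hbodd hb1)
  obtain ⟨R, huR⟩ := exists_sylow_of_invol hu2
  have hcR : c ∈ Cz R := mem_Cz_of_commute h R huR hu2 hcu
  have haR : a ∈ Nz R := by
    apply hI R c hcR hcodd hc1
    rw [Subgroup.mem_centralizer_singleton_iff]
    rw [hc]
    calc a * (a * b) = a * (b * a) := by rw [hab]
      _ = a * b * a := by group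
  have h1 : a * u * a⁻¹ ∈ (R : Subgroup G) := conj_mem_of_mem_Nz haR huR
  have h2 : b * a⁻¹ ∈ (R : Subgroup G) := by
    have : b * a⁻¹ = u * (a * u * a⁻¹)⁻¹ := by rw [hb]; group
    rw [this]
    exact (R : Subgroup G).mul_mem huR ((R : Subgroup G).inv_mem h1)
  have h3 : Odd (orderOf (b * a⁻¹)) :=
    odd_of_mem_inter h hPQ ((Nz P).mul_mem hbP ((Nz P).inv_mem haNP))
      ((Nz Q).mul_mem hbNQ ((Nz Q).inv_mem haQ))
  have h4 : b * a⁻¹ = 1 := eq_one_of_mem_sylow_of_odd R h2 h3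
  have hba : b = a := mul_inv_eq_one.mp h4
  rw [hba] at hbQ
  exact hPQ (caseI_TI hI haP hbQ hodd ha1)

variable (hnn : ∀ P : Sylow 2 G, ¬ (P : Subgroup G).Normal)

omit [Finite G] in
theorem smul_ne_of_not_mem_Nz {P : Sylow 2 G} {u : G} (huN : u ∉ Nz P) : P ≠ u • P := by
  intro e
  exact huN (smul_eq_iff_mem_Nz.mp e.symm)

omit [Finite G] in
/-- an element of `Nz P` inverted by `u` normalizes `u • P` -/
theorem mem_Nz_smul_of_inverted {P : Sylow 2 G} {u d : G} (hu2 : orderOf u = 2) (hd : d ∈ Nz P)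
    (hdu : u * d * u⁻¹ = d⁻¹) : d ∈ Nz (u • P) := by
  rw [mem_Nz_smul]
  have : u⁻¹ * d * u = d⁻¹ := by
    rw [← hdu, invol_inv hu2]
  rw [this]; exact (Nz P).inv_mem hd

include h hI hne hnn in
/-- the stabilizer of the two points `P`, `u • P` is inverted by `u` -/
theorem caseI_inter_inverted {P : Sylow 2 G} {u : G} (hu2 : orderOf u = 2) (huN : u ∉ Nz P) {d : G}
    (hdP : d ∈ Nz P) (hdQ : d ∈ Nz (u • P)) : u * d * u⁻¹ = d⁻¹ := by
  obtain ⟨d', hd', hd'u, hc⟩ := Nz_decomp h P (hne P) (hnn P) hu2 huN hdP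
  have hd'Q : d' ∈ Nz (u • P) := mem_Nz_smul_of_inverted hu2 hd' hd'u
  have hcQ : d'⁻¹ * d ∈ Nz (u • P) := (Nz (u • P)).mul_mem ((Nz (u • P)).inv_mem hd'Q) hdQ
  have hPQ := smul_ne_of_not_mem_Nz huN
  have hodd := odd_of_mem_Cz_of_mem_Nz h hPQ hc hcQ
  have h1 : d'⁻¹ * d = 1 := by
    by_contra hne1
    exact hPQ (caseI_semireg h hI hne hc hodd hne1 hcQ).symm
  have : d = d' := (inv_mul_eq_one.mp h1).symm
  rw [this]; exact hd'u

include h hI hne hnn in
/-- the order of the stabilizer of two points -/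
theorem caseI_inter_card {P : Sylow 2 G} {u : G} (hu2 : orderOf u = 2) (huN : u ∉ Nz P) :
    Nat.card ↥(Nz P ⊓ Nz (u • P)) = invCount P := by
  rw [← card_inverted h P (hne P) (hnn P) hu2 huN]
  apply Nat.card_congr
  refine ⟨fun d => ⟨d.1, (Subgroup.mem_inf.mp d.2).1,
      caseI_inter_inverted h hI hne hnn hu2 huN (Subgroup.mem_inf.mp d.2).1 (Subgroup.mem_inf.mp d.2).2⟩,
    fun d => ⟨d.1, Subgroup.mem_inf.mpr ⟨d.2.1, mem_Nz_smul_of_inverted hu2 d.2.1 d.2.2⟩⟩,
    fun d => rfl, fun d => rfl⟩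

include h hI hne hnn in
/-- the stabilizer of two points is abelian -/
theorem caseI_inter_comm {P : Sylow 2 G} {u : G} (hu2 : orderOf u = 2) (huN : u ∉ Nz P) {d e : G}
    (hd : d ∈ Nz P ⊓ Nz (u • P)) (he : e ∈ Nz P ⊓ Nz (u • P)) : d * e = e * d := by
  have h1 := caseI_inter_inverted h hI hne hnn hu2 huN (Subgroup.mem_inf.mp hd).1 (Subgroup.mem_inf.mp hd).2
  have h2 := caseI_inter_inverted h hI hne hnn hu2 huN (Subgroup.mem_inf.mp he).1 (Subgroup.mem_inf.mp he).2
  have hde := Subgroup.mul_mem _ hd he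
  have h3 := caseI_inter_inverted h hI hne hnn hu2 huN (Subgroup.mem_inf.mp hde).1
    (Subgroup.mem_inf.mp hde).2
  have h4 : (d * e)⁻¹ = d⁻¹ * e⁻¹ := by
    rw [← h3, ← h1, ← h2]; group
  have h5 : d * e = (d⁻¹ * e⁻¹)⁻¹ := by rw [← h4, inv_inv]
  rw [h5]; group

end Finite

end Cfsg.Agent.Lib.Helper8.AbInv
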