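import Cfsg.Agent.Lib.Helper8.AbInvE
import Cfsg.Agent.Lib.Helper1.Noncyclic

/-!
# Groups in which centralizers of involutions are abelian, part F (helper8)

Case I: a two point stabilizer is self-normalizing in the point stabilizer and fixes exactly two points; the
centralizer of a point acts regularly on the remaining points, and only the identity fixes three points.
-/

set_option autoImplicit false

namespace Cfsg.Agent.Lib.Helper8.AbInv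

open Cfsg.Agent.Lib.Helper2 Cfsg.Agent.Lib.Helper8

variable {G : Type*} [Group G]

theorem invCount_smul (g : G) (P : Sylow 2 G) : invCount (g • P) = invCount P := by
  unfold invCount
  apply Nat.card_congr
  refine ⟨fun t => ⟨g⁻¹ * t.1 * g, mem_smul_sylow.mp t.2.1, ?_⟩,
    fun t => ⟨g * t.1 * g⁻¹, conj_mem_smul_sylow t.2.1, orderOf_conj_two g t.2.2⟩, ?_, ?_⟩
  · have := orderOf_conj_two g⁻¹ t.2.2
    rwa [inv_inv] at this
  · intro t
    apply Subtype.ext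
    show g * (g⁻¹ * t.1 * g) * g⁻¹ = t.1
    group
  · intro t
    apply Subtype.ext
    show g⁻¹ * (g * t.1 * g⁻¹) * g = t.1
    group

theorem invCount_eq [Finite G] (P Q : Sylow 2 G) : invCount P = invCount Q := by
  have : Fact (Nat.Prime 2) := ⟨Nat.prime_two⟩
  obtain ⟨g, hg⟩ := MulAction.exists_smul_eq G P Q
  rw [← hg, invCount_smul]

/-- a noncyclic abelian point contains two different involutions -/
theorem exists_two_invol [Finite G] (P : Sylow 2 G)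
    (hab : ∀ a ∈ (P : Subgroup G), ∀ b ∈ (P : Subgroup G), a * b = b * a)
    (hnc : ¬ IsCyclic (P : Subgroup G)) :
    ∃ s t : G, s ∈ (P : Subgroup G) ∧ t ∈ (P : Subgroup G) ∧ orderOf s = 2 ∧ orderOf t = 2 ∧ s ≠ t := by
  letI : CommGroup (P : Subgroup G) :=
    { (inferInstance : Group (P : Subgroup G)) with
      mul_comm := fun x y => Subtype.ext (hab x.1 x.2 y.1 y.2) }
  obtain ⟨q, hq, a, b, haq, hbq, hb1, hab'⟩ := Cfsg.Agent.Lib.Helper1.exists_noncyclic_pair hnc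
  haveI : Fact q.Prime := ⟨hq⟩
  have hbord : orderOf b = q := orderOf_eq_prime hbq hb1
  have hq2 : q = 2 := by
    obtain ⟨k, hk⟩ := (IsPGroup.iff_orderOf.mp P.2) b
    rw [hbord] at hk
    have : q ∣ 2 ^ k := by rw [← hk]
    exact (Nat.prime_dvd_prime_iff_eq hq Nat.prime_two).mp (hq.dvd_of_dvd_pow this)
  subst hq2
  have ha1 : a ≠ 1 := by
    intro h1
    have := hab' 0
    rw [h1] at this
    simp at this
  have haord : orderOf a = 2 := orderOf_eq_prime haq ha1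
  refine ⟨a.1, b.1, a.2, b.2, ?_, ?_, ?_⟩
  · rw [Subgroup.orderOf_coe]; exact haord
  · rw [Subgroup.orderOf_coe]; exact hbord
  · intro hne
    have h1 : a = b := Subtype.ext hne
    have := hab' 1
    rw [pow_one, h1, ← pow_two, hbq] at this
    exact this rfl

theorem one_lt_invCount [Finite G] (P : Sylow 2 G)
    (hab : ∀ a ∈ (P : Subgroup G), ∀ b ∈ (P : Subgroup G), a * b = b * a)
    (hnc : ¬ IsCyclic (P : Subgroup G)) : 1 < invCount P := by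
  obtain ⟨s, t, hs, ht, hs2, ht2, hst⟩ := exists_two_invol P hab hnc
  unfold invCount
  rw [Finite.one_lt_card_iff_nontrivial]
  exact ⟨⟨⟨s, hs, hs2⟩, ⟨t, ht, ht2⟩, fun e => hst (congrArg Subtype.val e)⟩⟩

section Finite

variable [Finite G] (h : AbHyp G) (hI : CaseI G) (hne : ∀ P : Sylow 2 G, (P : Subgroup G) ≠ ⊥)
  (hnn : ∀ P : Sylow 2 G, ¬ (P : Subgroup G).Normal) (hnc : ∀ P : Sylow 2 G, ¬ IsCyclic (P : Subgroup G))

include h hI hne hnn hnc in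
/-- a two point stabilizer is nontrivial -/
theorem caseI_inter_ne_one {P : Sylow 2 G} {u : G} (hu2 : orderOf u = 2) (huN : u ∉ Nz P) :
    ∃ d : G, d ∈ Nz P ⊓ Nz (u • P) ∧ d ≠ 1 := by
  have h1 := caseI_inter_card h hI hne hnn hu2 huN
  have h2 := one_lt_invCount P (sylow_comm h P (hne P)) (hnc P)
  rw [← h1] at h2
  have h3 : Nz P ⊓ Nz (u • P) ≠ ⊥ := (Subgroup.one_lt_card_iff_ne_bot _).mp h2
  obtain ⟨d, hd⟩ := (Subgroup.ne_bot_iff_exists_ne_one).mp h3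
  exact ⟨d.1, d.2, fun e => hd (Subtype.ext e)⟩

include h hI hne hnn hnc in
/-- a two point stabilizer is self-normalizing in the point stabilizer -/
theorem caseI_normalizer_inter {P : Sylow 2 G} {u : G} (hu2 : orderOf u = 2) (huN : u ∉ Nz P) {m : G}
    (hm : m ∈ Nz P) (hmD : ∀ d ∈ Nz P ⊓ Nz (u • P), m * d * m⁻¹ ∈ Nz P ⊓ Nz (u • P)) :
    m ∈ Nz P ⊓ Nz (u • P) := by
  have hPQ := smul_ne_of_not_mem_Nz huN
  obtain ⟨d', hd', hd'u, hc⟩ := Nz_decomp h P (hne P) (hnn P) hu2 huN hm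
  have hd'D : d' ∈ Nz P ⊓ Nz (u • P) :=
    Subgroup.mem_inf.mpr ⟨hd', mem_Nz_smul_of_inverted hu2 hd' hd'u⟩
  obtain ⟨d, hd, hd1⟩ := caseI_inter_ne_one h hI hne hnn hnc hu2 huN
  set c := d'⁻¹ * m with hcdef
  have hcD : c * d * c⁻¹ ∈ Nz P ⊓ Nz (u • P) := by
    have h1 := hmD d hd
    have h2 : c * d * c⁻¹ = d'⁻¹ * (m * d * m⁻¹) * d' := by rw [hcdef]; group
    rw [h2]
    exact Subgroup.mul_mem _ (Subgroup.mul_mem _ (Subgroup.inv_mem _ hd'D) h1) hd'D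
  have hdP := (Subgroup.mem_inf.mp hd).1
  have hdQ := (Subgroup.mem_inf.mp hd).2
  have he : c * d * c⁻¹ * d⁻¹ = 1 := by
    by_contra he1
    have heD : c * d * c⁻¹ * d⁻¹ ∈ Nz P ⊓ Nz (u • P) := Subgroup.mul_mem _ hcD (Subgroup.inv_mem _ hd)
    have heC : c * d * c⁻¹ * d⁻¹ ∈ Cz P := by
      have h1 : d * c⁻¹ * d⁻¹ ∈ Cz P := conj_mem_Cz_of_mem_Nz hdP ((Cz P).inv_mem hc)
      have : c * d * c⁻¹ * d⁻¹ = c * (d * c⁻¹ * d⁻¹) := by group
      rw [this]; exact (Cz P).mul_mem hc h1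
    have hodd := odd_of_mem_Cz_of_mem_Nz h hPQ heC (Subgroup.mem_inf.mp heD).2
    exact hPQ (caseI_semireg h hI hne heC hodd he1 (Subgroup.mem_inf.mp heD).2).symm
  have hcd : c * d = d * c := by
    calc c * d = (c * d * c⁻¹ * d⁻¹) * (d * c) := by group
      _ = d * c := by rw [he, one_mul]
  have hc1 : c = 1 := caseI_frob h hI hne hnn hu2 huN hdP hdQ hd1 hc hcd
  have : m = d' := by
    have : d'⁻¹ * m = 1 := hc1
    exact (inv_mul_eq_one.mp this).symm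
  rw [this]; exact hd'D

include h hI hne hnn hnc in
/-- a two point stabilizer fixes no third point -/
theorem caseI_fix_inter {P : Sylow 2 G} {u : G} (hu2 : orderOf u = 2) (huN : u ∉ Nz P) {R : Sylow 2 G}
    (hR : Nz P ⊓ Nz (u • P) ≤ Nz R) : R = P ∨ R = u • P := by
  by_contra hcon
  push Not at hcon
  obtain ⟨hRP, hRQ⟩ := hcon
  have hPQ := smul_ne_of_not_mem_Nz huN
  -- the involutions `u₂ : Q ↔ R`, `u₃ : R ↔ P`
  obtain ⟨u₃, hu₃2, hu₃P, hu₃R⟩ := exists_swap h (hne P) (hne R) (fun e => hRP e.symm)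
  obtain ⟨u₂, hu₂2, hu₂Q, hu₂R⟩ := exists_swap h (hne (u • P)) (hne R) (fun e => hRQ e.symm)
  have hu₃N : u₃ ∉ Nz P := by
    intro hmem
    rw [← smul_eq_iff_mem_Nz, hu₃P] at hmem
    exact hRP hmem
  have hu₂N : u₂ ∉ Nz (u • P) := by
    intro hmem
    rw [← smul_eq_iff_mem_Nz, hu₂Q] at hmem
    exact hRQ hmem
  -- the three stabilizers coincide
  have hD3 : Nz P ⊓ Nz (u • P) = Nz P ⊓ Nz (u₃ • P) := by
    apply Subgroup.eq_of_le_of_card_ge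
    · rw [hu₃P]; exact le_inf inf_le_left hR
    · rw [caseI_inter_card h hI hne hnn hu2 huN, caseI_inter_card h hI hne hnn hu₃2 hu₃N]
  have hD2 : Nz P ⊓ Nz (u • P) = Nz (u • P) ⊓ Nz (u₂ • (u • P)) := by
    apply Subgroup.eq_of_le_of_card_ge
    · rw [hu₂Q]; exact le_inf inf_le_right hR
    · rw [caseI_inter_card h hI hne hnn hu2 huN, caseI_inter_card h hI hne hnn hu₂2 hu₂N,
        invCount_smul]
  have hinv1 : ∀ d ∈ Nz P ⊓ Nz (u • P), u * d * u⁻¹ = d⁻¹ := fun d hd =>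
    caseI_inter_inverted h hI hne hnn hu2 huN (Subgroup.mem_inf.mp hd).1 (Subgroup.mem_inf.mp hd).2
  have hinv3 : ∀ d ∈ Nz P ⊓ Nz (u • P), u₃ * d * u₃⁻¹ = d⁻¹ := by
    intro d hd
    rw [hD3] at hd
    exact caseI_inter_inverted h hI hne hnn hu₃2 hu₃N (Subgroup.mem_inf.mp hd).1
      (Subgroup.mem_inf.mp hd).2
  have hinv2 : ∀ d ∈ Nz P ⊓ Nz (u • P), u₂ * d * u₂⁻¹ = d⁻¹ := by
    intro d hd
    rw [hD2] at hd
    exact caseI_inter_inverted h hI hne hnn hu₂2 hu₂N (Subgroup.mem_inf.mp hd).1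
      (Subgroup.mem_inf.mp hd).2
  set m := u₃ * u₂ * u with hm
  have hmP : m ∈ Nz P := by
    rw [← smul_eq_iff_mem_Nz, hm, mul_smul, mul_smul, hu₂Q, hu₃R]
  have hmd : ∀ d ∈ Nz P ⊓ Nz (u • P), m * d * m⁻¹ = d⁻¹ := by
    intro d hd
    have hd' := Subgroup.inv_mem _ hd
    calc m * d * m⁻¹ = u₃ * (u₂ * (u * d * u⁻¹) * u₂⁻¹) * u₃⁻¹ := by rw [hm]; group
      _ = u₃ * (u₂ * d⁻¹ * u₂⁻¹) * u₃⁻¹ := by rw [hinv1 d hd]
      _ = u₃ * d⁻¹⁻¹ * u₃⁻¹ := by rw [hinv2 d⁻¹ hd']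
      _ = d⁻¹ := by rw [inv_inv, hinv3 d hd]
  have hmD : m ∈ Nz P ⊓ Nz (u • P) := by
    apply caseI_normalizer_inter h hI hne hnn hnc hu2 huN hmP
    intro d hd
    rw [hmd d hd]
    exact Subgroup.inv_mem _ hd
  obtain ⟨d, hd, hd1⟩ := caseI_inter_ne_one h hI hne hnn hnc hu2 huN
  have hcomm := caseI_inter_comm h hI hne hnn hu2 huN hmD hd
  have h1 : d = d⁻¹ := by
    rw [← hmd d hd, hcomm]; group
  have hdodd : Odd (orderOf d) :=
    odd_of_mem_inter h hPQ (Subgroup.mem_inf.mp hd).1 (Subgroup.mem_inf.mp hd).2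
  exact hd1 (eq_one_of_odd_of_inv_eq hdodd h1)

include h hI hne in
/-- the centralizer of a point acts semiregularly on the other points -/
theorem caseI_Cz_semireg {P Q : Sylow 2 G} (hPQ : P ≠ Q) {c : G} (hc : c ∈ Cz P) (hcQ : c ∈ Nz Q) :
    c = 1 := by
  by_contra hc1
  have hodd := odd_of_mem_Cz_of_mem_Nz h hPQ hc hcQ
  exact hPQ (caseI_semireg h hI hne hc hodd hc1 hcQ).symm

include h hI hne hnn hnc in
/-- the centralizer of a point acts transitively on the other points -/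
theorem caseI_Cz_transitive {P : Sylow 2 G} {u : G} (hu2 : orderOf u = 2) (huN : u ∉ Nz P)
    {R : Sylow 2 G} (hRP : R ≠ P) : ∃ c ∈ Cz P, c • (u • P) = R := by
  have hPQ := smul_ne_of_not_mem_Nz huN
  obtain ⟨u₂, hu₂2, hu₂P, hu₂R⟩ := exists_swap h (hne P) (hne R) (fun e => hRP e.symm)
  have hu₂N : u₂ ∉ Nz P := by
    intro hmem
    rw [← smul_eq_iff_mem_Nz, hu₂P] at hmem
    exact hRP hmem
  obtain ⟨d, hd, hd1⟩ := caseI_inter_ne_one h hI hne hnn hnc hu2 huN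
  have hdP := (Subgroup.mem_inf.mp hd).1
  have hdQ := (Subgroup.mem_inf.mp hd).2
  obtain ⟨e, he, heu, hc₀⟩ := Nz_decomp h P (hne P) (hnn P) hu₂2 hu₂N hdP
  have heR : e ∈ Nz (u₂ • P) := mem_Nz_smul_of_inverted hu₂2 he heu
  have he1 : e ≠ 1 := by
    intro h1
    rw [h1, inv_one, one_mul] at hc₀
    exact hd1 (caseI_Cz_semireg h hI hne hPQ hc₀ hdQ)
  have hCab := Cz_comm h P (hne P)
  -- the map `ψ`
  have hψmem : ∀ c : Cz P, e⁻¹ * c.1 * e * c.1⁻¹ ∈ Cz P := by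
    intro c
    have h1 : e⁻¹ * c.1 * e⁻¹⁻¹ ∈ Cz P := conj_mem_Cz_of_mem_Nz ((Nz P).inv_mem he) c.2
    rw [inv_inv] at h1
    exact (Cz P).mul_mem h1 ((Cz P).inv_mem c.2)
  let ψ : Cz P → Cz P := fun c => ⟨e⁻¹ * c.1 * e * c.1⁻¹, hψmem c⟩
  have hinj : Function.Injective ψ := by
    intro t s hts
    have h1 : e⁻¹ * t.1 * e * t.1⁻¹ = e⁻¹ * s.1 * e * s.1⁻¹ := congrArg Subtype.val hts
    have h2 : e⁻¹ * (s.1⁻¹ * t.1) * e = s.1⁻¹ * t.1 := by
      have e1 : e⁻¹ * t.1 * e = (e⁻¹ * s.1 * e * s.1⁻¹) * t.1 := by rw [← h1]; group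
      calc e⁻¹ * (s.1⁻¹ * t.1) * e = (e⁻¹ * s.1 * e)⁻¹ * (e⁻¹ * t.1 * e) := by group
        _ = (e⁻¹ * s.1 * e)⁻¹ * ((e⁻¹ * s.1 * e * s.1⁻¹) * t.1) := by rw [e1]
        _ = s.1⁻¹ * t.1 := by group
    have h3 : (s.1⁻¹ * t.1) * e = e * (s.1⁻¹ * t.1) := by
      calc (s.1⁻¹ * t.1) * e = e * (e⁻¹ * (s.1⁻¹ * t.1) * e) := by group
        _ = e * (s.1⁻¹ * t.1) := by rw [h2]
    have hr : s.1⁻¹ * t.1 ∈ Cz P := (Cz P).mul_mem ((Cz P).inv_mem s.2) t.2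
    have h4 := caseI_frob h hI hne hnn hu₂2 hu₂N he heR he1 hr h3
    apply Subtype.ext
    exact (inv_mul_eq_one.mp h4).symm
  have hsurj : Function.Surjective ψ := Finite.injective_iff_surjective.mp hinj
  obtain ⟨c, hcψ⟩ := hsurj ⟨(e⁻¹ * d)⁻¹, (Cz P).inv_mem hc₀⟩
  have hc' : e⁻¹ * c.1 * e * c.1⁻¹ = (e⁻¹ * d)⁻¹ := congrArg Subtype.val hcψ
  -- `c d c⁻¹ = e`
  have hconj : c.1 * d * c.1⁻¹ = e := by
    have hcomm : (e⁻¹ * d) * c.1⁻¹ = c.1⁻¹ * (e⁻¹ * d) :=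
      hCab _ hc₀ _ ((Cz P).inv_mem c.2)
    calc c.1 * d * c.1⁻¹ = e * (e⁻¹ * c.1 * e) * ((e⁻¹ * d) * c.1⁻¹) := by group
      _ = e * (e⁻¹ * c.1 * e) * (c.1⁻¹ * (e⁻¹ * d)) := by rw [hcomm]
      _ = e * (e⁻¹ * c.1 * e * c.1⁻¹) * (e⁻¹ * d) := by group
      _ = e := by rw [hc']; group
  -- `c D c⁻¹` fixes `R`
  have hall : Nz P ⊓ Nz (u • P) ≤ Nz (c.1⁻¹ • R) := by
    intro d' hd'
    rw [mem_Nz_smul, inv_inv]
    have hd'P := (Subgroup.mem_inf.mp hd').1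
    have hcN : c.1 ∈ Nz P := Cz_le_Nz P c.2
    have hfP : c.1 * d' * c.1⁻¹ ∈ Nz P :=
      (Nz P).mul_mem ((Nz P).mul_mem hcN hd'P) ((Nz P).inv_mem hcN)
    have hcomm := caseI_inter_comm h hI hne hnn hu2 huN hd' hd
    have hfe : (c.1 * d' * c.1⁻¹) * e = e * (c.1 * d' * c.1⁻¹) := by
      rw [← hconj]
      calc c.1 * d' * c.1⁻¹ * (c.1 * d * c.1⁻¹) = c.1 * (d' * d) * c.1⁻¹ := by group
        _ = c.1 * (d * d') * c.1⁻¹ := by rw [hcomm]
        _ = c.1 * d * c.1⁻¹ * (c.1 * d' * c.1⁻¹) := by group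
    -- an element of `Nz P` commuting with `e` lies in the stabilizer of `R`
    obtain ⟨e', he', he'u, hc''⟩ := Nz_decomp h P (hne P) (hnn P) hu₂2 hu₂N hfP
    have he'R : e' ∈ Nz (u₂ • P) := mem_Nz_smul_of_inverted hu₂2 he' he'u
    have hee' := caseI_inter_comm h hI hne hnn hu₂2 hu₂N
      (Subgroup.mem_inf.mpr ⟨he', he'R⟩) (Subgroup.mem_inf.mpr ⟨he, heR⟩)
    have hce : (e'⁻¹ * (c.1 * d' * c.1⁻¹)) * e = e * (e'⁻¹ * (c.1 * d' * c.1⁻¹)) := by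
      have hee'' : e'⁻¹ * e = e * e'⁻¹ := by
        calc e'⁻¹ * e = e'⁻¹ * (e * e') * e'⁻¹ := by group
          _ = e'⁻¹ * (e' * e) * e'⁻¹ := by rw [hee']
          _ = e * e'⁻¹ := by group
      calc (e'⁻¹ * (c.1 * d' * c.1⁻¹)) * e = e'⁻¹ * ((c.1 * d' * c.1⁻¹) * e) := by group
        _ = e'⁻¹ * (e * (c.1 * d' * c.1⁻¹)) := by rw [hfe]
        _ = (e'⁻¹ * e) * (c.1 * d' * c.1⁻¹) := by group
        _ = (e * e'⁻¹) * (c.1 * d' * c.1⁻¹) := by rw [hee'']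
        _ = e * (e'⁻¹ * (c.1 * d' * c.1⁻¹)) := by group
    have h5 := caseI_frob h hI hne hnn hu₂2 hu₂N he heR he1 hc'' hce
    have h6 : c.1 * d' * c.1⁻¹ = e' := (inv_mul_eq_one.mp h5).symm
    rw [h6, ← hu₂P]
    exact he'R
  rcases caseI_fix_inter h hI hne hnn hnc hu2 huN hall with h1 | h1
  · exfalso
    apply hRP
    have h2 : R = c.1 • P := inv_smul_eq_iff.mp h1
    rw [h2]
    exact smul_eq_iff_mem_Nz.mpr (Cz_le_Nz P c.2)
  · exact ⟨c.1, c.2, (inv_smul_eq_iff.mp h1).symm⟩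

end Finite

end Cfsg.Agent.Lib.Helper8.AbInv
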