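import Cfsg.Agent.Lib.Helper8.AbInvF
import Cfsg.Prelude.Def_LieExceptional

/-!
# Groups in which centralizers of involutions are abelian, part G (helper8)

Case I: the group is a Zassenhaus group on the set of its Sylow 2-subgroups.
-/

set_option autoImplicit false

namespace Cfsg.Agent.Lib.Helper8.AbInv

open Cfsg.Agent.Lib.Helper2 Cfsg.Agent.Lib.Helper8

variable {G : Type*} [Group G]

section Finite

variable [Finite G] (h : AbHyp G) (hI : CaseI G) (hne : ∀ P : Sylow 2 G, (P : Subgroup G) ≠ ⊥)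
  (hnn : ∀ P : Sylow 2 G, ¬ (P : Subgroup G).Normal) (hnc : ∀ P : Sylow 2 G, ¬ IsCyclic (P : Subgroup G))

include h hne hnn in
/-- every point is moved by some involution -/
theorem exists_swap_of_point (P : Sylow 2 G) : ∃ u : G, orderOf u = 2 ∧ u ∉ Nz P :=
  exists_invol_not_mem_Nz h P (hne P) (hnn P)

include h hI hne hnn hnc in
/-- only the identity fixes three points -/
theorem caseI_three_fix {P Q R : Sylow 2 G} (hPQ : P ≠ Q) (hPR : P ≠ R) (hQR : Q ≠ R) {g : G}
    (hgP : g ∈ Nz P) (hgQ : g ∈ Nz Q) (hgR : g ∈ Nz R) : g = 1 := by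
  by_contra hg1
  obtain ⟨u, hu2, huP, huQ⟩ := exists_swap h (hne P) (hne Q) hPQ
  subst huP
  have huN : u ∉ Nz P := by
    intro hmem
    exact hPQ (smul_eq_iff_mem_Nz.mpr hmem).symm
  obtain ⟨c, hc, hcR⟩ := caseI_Cz_transitive h hI hne hnn hnc hu2 huN (fun e => hPR e.symm)
  have hc1 : c ≠ 1 := by
    intro h1
    rw [h1, one_smul] at hcR
    exact hQR hcR
  have hcN : c ∈ Nz P := Cz_le_Nz P hc
  have hg' : c⁻¹ * g * c ∈ Nz (u • P) := by
    rw [← hcR] at hgR
    exact mem_Nz_smul.mp hgR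
  have heC : (c⁻¹ * g * c)⁻¹ * g ∈ Cz P := by
    have h1 : g⁻¹ * c * g⁻¹⁻¹ ∈ Cz P := conj_mem_Cz_of_mem_Nz ((Nz P).inv_mem hgP) hc
    rw [inv_inv] at h1
    have : (c⁻¹ * g * c)⁻¹ * g = c⁻¹ * (g⁻¹ * c * g) := by group
    rw [this]
    exact (Cz P).mul_mem ((Cz P).inv_mem hc) h1
  have heQ : (c⁻¹ * g * c)⁻¹ * g ∈ Nz (u • P) :=
    (Nz (u • P)).mul_mem ((Nz (u • P)).inv_mem hg') hgQ
  have he := caseI_Cz_semireg h hI hne hPQ heC heQ
  have hcg : c * g = g * c := by
    have h1 : c⁻¹ * g * c = g := (inv_mul_eq_one.mp he)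
    calc c * g = c * (c⁻¹ * g * c) := by rw [h1]
      _ = g * c := by group
  exact hc1 (caseI_frob h hI hne hnn hu2 huN hgP hgQ hg1 hc hcg)

include h hI hne hnn hnc in
/-- the action on the points is doubly transitive -/
theorem caseI_two_transitive {A B C D : Sylow 2 G} (hAB : A ≠ B) (hCD : C ≠ D) :
    ∃ g : G, g • A = C ∧ g • B = D := by
  have : Fact (Nat.Prime 2) := ⟨Nat.prime_two⟩
  obtain ⟨g₁, hg₁⟩ := MulAction.exists_smul_eq G A C
  have hB' : C ≠ g₁ • B := by
    intro e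
    rw [← hg₁] at e
    exact hAB (smul_left_cancel g₁ e)
  obtain ⟨u, hu2, huC, huB⟩ := exists_swap h (hne C) (hne (g₁ • B)) hB'
  have huN : u ∉ Nz C := by
    intro hmem
    rw [← smul_eq_iff_mem_Nz, huC] at hmem
    exact hB' hmem.symm
  obtain ⟨c, hc, hcD⟩ := caseI_Cz_transitive h hI hne hnn hnc hu2 huN (fun e => hCD e.symm)
  refine ⟨c * g₁, ?_, ?_⟩
  · rw [mul_smul, hg₁]
    exact smul_eq_iff_mem_Nz.mpr (Cz_le_Nz C hc)
  · rw [mul_smul, ← huC]
    exact hcD

include h hne hnn hnc in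
/-- there are at least three points -/
theorem exists_three_points (P : Sylow 2 G) :
    ∃ Q R : Sylow 2 G, P ≠ Q ∧ P ≠ R ∧ Q ≠ R := by
  obtain ⟨u, hu2, huN⟩ := exists_swap_of_point h hne hnn P
  obtain ⟨t, htP, ht2, -⟩ := sylow_exists_central_invol P (hne P)
  have hPQ := smul_ne_of_not_mem_Nz huN
  refine ⟨u • P, t • (u • P), hPQ, ?_, ?_⟩
  · intro e
    have h1 : t • P = P := smul_eq_iff_mem_Nz.mpr (le_Nz P htP)
    exact hPQ (smul_left_cancel t (h1.trans e))
  · intro e
    have h1 : t ∈ ((u • P : Sylow 2 G) : Subgroup G) := (invol_fix_iff (u • P) ht2).mp e.symm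
    exact hPQ (sylow_eq_of_invol h ht2 htP h1)

include h hI hne hnn hnc in
/-- in Case I the group is a Zassenhaus group on its Sylow 2-subgroups -/
theorem caseI_zassenhaus : Cfsg.IsZassenhausGroup G (Sylow 2 G) := by
  obtain ⟨P⟩ : Nonempty (Sylow 2 G) := inferInstance
  obtain ⟨Q, R, hPQ, hPR, hQR⟩ := exists_three_points h hne hnn hnc P
  refine ⟨⟨?_⟩, ?_, ?_, ?_, ?_⟩
  · intro g₁ g₂ hg
    have hfix : ∀ S : Sylow 2 G, g₂⁻¹ * g₁ ∈ Nz S := by
      intro S
      rw [← smul_eq_iff_mem_Nz, mul_smul, hg S, inv_smul_smul]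
    have := caseI_three_fix h hI hne hnn hnc hPQ hPR hQR (hfix P) (hfix Q) (hfix R)
    exact (inv_mul_eq_one.mp this).symm
  · rw [MulAction.is_two_pretransitive_iff]
    intro A B C D hAB hCD
    exact caseI_two_transitive h hI hne hnn hnc hAB hCD
  · intro g A B C hAB hBC hAC hA hB hC
    exact caseI_three_fix h hI hne hnn hnc hAB hAC hBC (smul_eq_iff_mem_Nz.mp hA)
      (smul_eq_iff_mem_Nz.mp hB) (smul_eq_iff_mem_Nz.mp hC)
  · obtain ⟨u, hu2, huN⟩ := exists_swap_of_point h hne hnn P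
    obtain ⟨d, hd, hd1⟩ := caseI_inter_ne_one h hI hne hnn hnc hu2 huN
    exact ⟨d, hd1, P, u • P, smul_ne_of_not_mem_Nz huN,
      smul_eq_iff_mem_Nz.mpr (Subgroup.mem_inf.mp hd).1, smul_eq_iff_mem_Nz.mpr (Subgroup.mem_inf.mp hd).2⟩
  · intro N hN htr
    by_contra hcon
    push Not at hcon
    -- `N` has no involutions
    have hNinv : ∀ n ∈ N, orderOf n ≠ 2 := by
      intro n hn hn2
      obtain ⟨S, hnS⟩ := exists_sylow_of_invol hn2
      have h1 : (⟨n, hn⟩ : N) ∈ MulAction.stabilizer N S := by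
        rw [MulAction.mem_stabilizer_iff, Subgroup.smul_def]
        exact smul_eq_iff_mem_Nz.mpr (le_Nz S hnS)
      rw [hcon S, Subgroup.mem_bot] at h1
      have h2 : n = 1 := congrArg Subtype.val h1
      rw [h2, orderOf_one] at hn2
      omega
    -- involutions of `P` fix no nontrivial element of `N`
    have hfpf : ∀ t ∈ (P : Subgroup G), orderOf t = 2 → ∀ n ∈ N, t * n * t⁻¹ = n → n = 1 := by
      intro t ht ht2 n hn hnt
      have h1 : t • (n • P) = n • P := by
        rw [← mul_smul]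
        have : t * n = n * t := by
          calc t * n = (t * n * t⁻¹) * t := by group
            _ = n * t := by rw [hnt]
        rw [this, mul_smul, smul_eq_iff_mem_Nz.mpr (le_Nz P ht)]
      have h2 : t ∈ ((n • P : Sylow 2 G) : Subgroup G) := (invol_fix_iff (n • P) ht2).mp h1
      have h3 : P = n • P := sylow_eq_of_invol h ht2 ht h2
      have h4 : (⟨n, hn⟩ : N) ∈ MulAction.stabilizer N P := by
        rw [MulAction.mem_stabilizer_iff, Subgroup.smul_def]
        exact h3.symm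
      rw [hcon P, Subgroup.mem_bot] at h4
      exact congrArg Subtype.val h4
    have hinv : ∀ t ∈ (P : Subgroup G), orderOf t = 2 → ∀ n ∈ N, t * n * t⁻¹ = n⁻¹ := by
      intro t ht ht2
      exact inverts_of_fpf N ht2 (fun x hx => hN.conj_mem x hx t) (hfpf t ht ht2)
    obtain ⟨s, t, hs, ht, hs2, ht2, hst⟩ := exists_two_invol P (sylow_comm h P (hne P)) (hnc P)
    have hst2 : orderOf (s * t) = 2 := by
      apply orderOf_two_of
      · intro h1
        apply hst
        have : s = t⁻¹ := eq_inv_of_mul_eq_one_left h1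
        rw [this, invol_inv ht2]
      · have hcomm := sylow_comm h P (hne P) s hs t ht
        calc s * t * (s * t) = s * (t * s) * t := by group
          _ = s * (s * t) * t := by rw [hcomm]
          _ = (s * s) * (t * t) := by group
          _ = 1 := by rw [invol_mul_self hs2, invol_mul_self ht2, one_mul]
    have hN1 : ∀ n ∈ N, n = 1 := by
      intro n hn
      have h1 := hinv s hs hs2 n hn
      have h2 := hinv t ht ht2 n⁻¹ (N.inv_mem hn)
      have h3 := hinv (s * t) ((P : Subgroup G).mul_mem hs ht) hst2 n hn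
      have h4 : s * t * n * (s * t)⁻¹ = n := by
        calc s * t * n * (s * t)⁻¹ = s * (t * n * t⁻¹) * s⁻¹ := by group
          _ = s * (t * n⁻¹⁻¹ * t⁻¹) * s⁻¹ := by rw [inv_inv]
          _ = s * ((t * n⁻¹ * t⁻¹)⁻¹) * s⁻¹ := by group
          _ = s * (n⁻¹⁻¹)⁻¹ * s⁻¹ := by rw [h2]
          _ = (s * n * s⁻¹)⁻¹ := by group
          _ = n := by rw [h1, inv_inv]
      rw [h4] at h3
      by_contra hn1
      have hnn' : n * n = 1 := by
        calc n * n = n * n⁻¹ := by rw [← h3]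
          _ = 1 := mul_inv_cancel n
      exact hNinv n hn (orderOf_two_of hn1 hnn')
    -- but `N` is transitive
    obtain ⟨n, hn⟩ := htr.exists_smul_eq P Q
    rw [Subgroup.smul_def, hN1 n.1 n.2, one_smul] at hn
    exact hPQ hn

end Finite

end Cfsg.Agent.Lib.Helper8.AbInv
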