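import Cfsg.Agent.Lib.Helper8.AbInvG
import Cfsg.Agent.S0885

/-!
# Groups in which centralizers of involutions are abelian, part H (helper8)

Case I: Feit's bound for Zassenhaus groups shows that the centralizer of a point is the point itself and that the
points are elementary abelian.
-/

set_option autoImplicit false

namespace Cfsg.Agent.Lib.Helper8.AbInv

open Cfsg.Agent.Lib.Helper2 Cfsg.Agent.Lib.Helper8

variable {G : Type*} [Group G]

/-- the elements of square one of an abelian point -/
def omegaOne (P : Sylow 2 G) (hab : ∀ a ∈ (P : Subgroup G), ∀ b ∈ (P : Subgroup G), a * b = b * a) :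
    Subgroup G where
  carrier := {x | x ∈ (P : Subgroup G) ∧ x * x = 1}
  one_mem' := ⟨Subgroup.one_mem _, by group⟩
  mul_mem' := by
    rintro x y ⟨hx, hx2⟩ ⟨hy, hy2⟩
    refine ⟨Subgroup.mul_mem _ hx hy, ?_⟩
    calc x * y * (x * y) = x * (y * x) * y := by group
      _ = x * (x * y) * y := by rw [hab y hy x hx]
      _ = (x * x) * (y * y) := by group
      _ = 1 := by rw [hx2, hy2, one_mul]
  inv_mem' := by
    rintro x ⟨hx, hx2⟩
    refine ⟨Subgroup.inv_mem _ hx, ?_⟩
    have : x⁻¹ = x := inv_eq_of_mul_eq_one_left hx2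
    rw [this]; exact hx2

theorem mem_omegaOne {P : Sylow 2 G}
    {hab : ∀ a ∈ (P : Subgroup G), ∀ b ∈ (P : Subgroup G), a * b = b * a} {x : G} :
    x ∈ omegaOne P hab ↔ x ∈ (P : Subgroup G) ∧ x * x = 1 := Iff.rfl

theorem card_omegaOne [Finite G] (P : Sylow 2 G)
    (hab : ∀ a ∈ (P : Subgroup G), ∀ b ∈ (P : Subgroup G), a * b = b * a) :
    Nat.card (omegaOne P hab) = invCount P + 1 := by
  classical
  unfold invCount
  rw [← Finite.card_option]
  apply Nat.card_congr
  refine ⟨fun x => if hx : x.1 = 1 then none else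
      some ⟨x.1, (mem_omegaOne.mp x.2).1, orderOf_two_of hx (mem_omegaOne.mp x.2).2⟩,
    fun o => match o with
      | none => 1
      | some t => ⟨t.1, mem_omegaOne.mpr ⟨t.2.1, invol_mul_self t.2.2⟩⟩, ?_, ?_⟩
  · intro x
    by_cases hx : x.1 = 1
    · simp only [hx, dite_true]
      exact Subtype.ext hx.symm
    · simp only [hx, dite_false]
  · intro o
    cases o with
    | none => simp
    | some t =>
      have : t.1 ≠ 1 := invol_ne_one t.2.2
      simp [this]

section Finite

variable [Finite G] (h : AbHyp G) (hI : CaseI G) (hne : ∀ P : Sylow 2 G, (P : Subgroup G) ≠ ⊥)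
  (hnn : ∀ P : Sylow 2 G, ¬ (P : Subgroup G).Normal) (hnc : ∀ P : Sylow 2 G, ¬ IsCyclic (P : Subgroup G))

include h hI hne hnn hnc in
/-- the number of points -/
theorem caseI_card_points (P : Sylow 2 G) : Nat.card (Sylow 2 G) = Nat.card (Cz P) + 1 := by
  obtain ⟨u, hu2, huN⟩ := exists_swap_of_point h hne hnn P
  have hPQ := smul_ne_of_not_mem_Nz huN
  rw [← Finite.card_option]
  symm
  let f : Option (Cz P) → Sylow 2 G := fun o => match o with
    | none => P
    | some c => c.1 • (u • P)
  have hsome : ∀ c : Cz P, f (some c) ≠ P := by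
    intro c e
    have e' : c.1 • (u • P) = P := e
    have h1 : c.1 • P = P := smul_eq_iff_mem_Nz.mpr (Cz_le_Nz P c.2)
    exact hPQ (smul_left_cancel c.1 (e'.trans h1.symm)).symm
  apply Nat.card_eq_of_bijective f
  constructor
  · intro o₁ o₂ ho
    cases o₁ with
    | none =>
      cases o₂ with
      | none => rfl
      | some c => exact absurd ho.symm (hsome c)
    | some c₁ =>
      cases o₂ with
      | none => exact absurd ho (hsome c₁)
      | some c₂ =>
        have e : c₁.1 • (u • P) = c₂.1 • (u • P) := ho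
        have h1 : (c₂.1⁻¹ * c₁.1) • (u • P) = u • P := by
          rw [mul_smul, e, inv_smul_smul]
        have h2 := caseI_Cz_semireg h hI hne hPQ ((Cz P).mul_mem ((Cz P).inv_mem c₂.2) c₁.2)
          (smul_eq_iff_mem_Nz.mp h1)
        have h3 : c₁ = c₂ := Subtype.ext (inv_mul_eq_one.mp h2).symm
        rw [h3]
  · intro R
    by_cases hR : R = P
    · exact ⟨none, hR.symm⟩
    · obtain ⟨c, hc, hcR⟩ := caseI_Cz_transitive h hI hne hnn hnc hu2 huN hR
      exact ⟨some ⟨c, hc⟩, hcR⟩

include h in
/-- a two point stabilizer has odd order -/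
theorem odd_card_inter {P Q : Sylow 2 G} (hPQ : P ≠ Q) : Odd (Nat.card ↥(Nz P ⊓ Nz Q)) := by
  rw [← Nat.not_even_iff_odd]
  intro he
  obtain ⟨t, ht, ht2⟩ := (even_card_iff_exists_invol _).mp he
  have h1 := invol_mem_of_mem_Nz P ht2 (Subgroup.mem_inf.mp ht).1
  have h2 := invol_mem_of_mem_Nz Q ht2 (Subgroup.mem_inf.mp ht).2
  exact hPQ (sylow_eq_of_invol h ht2 h1 h2)

include h hI hne hnn hnc in
/-- Feit's bound -/
theorem caseI_feit (P : Sylow 2 G) : Nat.card (Cz P) - 1 ≤ 2 * invCount P := by
  classical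
  obtain ⟨u, hu2, huN⟩ := exists_swap_of_point h hne hnn P
  have hPQ := smul_ne_of_not_mem_Nz huN
  have hZ := caseI_zassenhaus h hI hne hnn hnc
  letI : Fintype (Sylow 2 G) := Fintype.ofFinite _
  have hcard := caseI_card_points h hI hne hnn hnc P
  have hstab : ∀ S : Sylow 2 G, MulAction.stabilizer G S = Nz S := fun S =>
    Sylow.stabilizer_eq_normalizer S
  have hh : Fintype.card (Sylow 2 G) = Nat.card (Cz P) + 1 := by
    rw [← Nat.card_eq_fintype_card]; exact hcard
  have he : Nat.card ↥(MulAction.stabilizer G P ⊓ MulAction.stabilizer G (u • P) : Subgroup G) =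
      invCount P := by
    rw [hstab, hstab]
    exact caseI_inter_card h hI hne hnn hu2 huN
  have hodd : Odd (invCount P) := by
    rw [← caseI_inter_card h hI hne hnn hu2 huN]
    exact odd_card_inter h hPQ
  have hHa : Cz P ≤ MulAction.stabilizer G P := by
    rw [hstab]; exact Cz_le_Nz P
  have hHfix : ∀ x ∈ Cz P, x ≠ 1 → ∀ S : Sylow 2 G, x • S = S → S = P := by
    intro x hx hx1 S hS
    by_contra hSP
    exact hx1 (caseI_Cz_semireg h hI hne (fun e => hSP e.symm) hx (smul_eq_iff_mem_Nz.mp hS))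
  rcases Cfsg.Agent.S0885.result hZ hPQ (Nat.card (Cz P)) (invCount P) hh he hodd (Cz P) hHa hh.symm
    hHfix with h1 | ⟨-, ⟨x, y, hxy⟩, -⟩
  · exact h1
  · exfalso
    apply hxy
    apply Subtype.ext
    exact Cz_comm h P (hne P) x.1 x.2 y.1 y.2

include h hI hne hnn hnc in
/-- in Case I the points are elementary abelian and self-centralizing -/
theorem caseI_elementary (P : Sylow 2 G) :
    (∀ x ∈ (P : Subgroup G), x * x = 1) ∧ (∀ c ∈ Cz P, c ∈ (P : Subgroup G)) := by
  have hab := sylow_comm h P (hne P)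
  have hfeit := caseI_feit h hI hne hnn hnc P
  have hW := card_omegaOne P hab
  have hWP : omegaOne P hab ≤ (P : Subgroup G) := fun x hx => (mem_omegaOne.mp hx).1
  have hPC : (P : Subgroup G) ≤ Cz P := by
    intro x hx
    rw [mem_Cz_iff]
    intro s hs
    exact hab s hs x hx
  have hWC : omegaOne P hab ≤ Cz P := hWP.trans hPC
  have hdvd : Nat.card (omegaOne P hab) ∣ Nat.card (Cz P) := Subgroup.card_dvd_of_le hWC
  obtain ⟨k, hk⟩ := hdvd
  have hpos : 0 < Nat.card (Cz P) := Nat.card_pos
  have hk1 : k = 1 := by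
    rw [hW] at hk
    have hk0 : k ≠ 0 := by
      intro h0
      rw [h0, mul_zero] at hk
      omega
    by_contra hne1
    have hk2 : 2 ≤ k := by omega
    have : 2 * (invCount P + 1) ≤ Nat.card (Cz P) := by
      rw [hk]
      calc 2 * (invCount P + 1) = (invCount P + 1) * 2 := by ring
        _ ≤ (invCount P + 1) * k := Nat.mul_le_mul_left _ hk2
    omega
  rw [hk1, mul_one] at hk
  have hWeq : omegaOne P hab = Cz P := Subgroup.eq_of_le_of_card_ge hWC hk.le
  constructor
  · intro x hx
    have : x ∈ omegaOne P hab := by rw [hWeq]; exact hPC hx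
    exact (mem_omegaOne.mp this).2
  · intro c hc
    rw [← hWeq] at hc
    exact hWP hc

end Finite

end Cfsg.Agent.Lib.Helper8.AbInv
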