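import Cfsg.Agent.Lib.Helper8.AbInvH
import Cfsg.Agent.S1230

/-!
# Groups in which centralizers of involutions are abelian, part I (helper8)

The structure of the groups `SL₂(2ⁿ) × A`, and the conclusion of Case I.
-/

set_option autoImplicit false

namespace Cfsg.Agent.Lib.Helper8.AbInv

open Cfsg.Agent.Lib.Helper2 Cfsg.Agent.Lib.Helper8

/-- the structure of the groups `SL₂(2ⁿ) × A`, in intrinsic terms -/
def SLStruct (G : Type*) [Group G] : Prop :=
  (∀ P : Sylow 2 G, (∀ x ∈ (P : Subgroup G), x * x = 1) ∧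
    (Nz P).index = Nat.card (P : Subgroup G) + 1) ∧
  ∃ (F : Type) (_ : Field F) (_ : Fintype F), CharP F 2 ∧ 4 ≤ Fintype.card F ∧
    ∃ L A : Subgroup G, A ≤ Subgroup.center G ∧ L ⊓ A = ⊥ ∧ L ⊔ A = ⊤ ∧ Odd (Nat.card A) ∧
      (∀ (P : Sylow 2 G) (a : G), a ∈ Cz P → Odd (orderOf a) → a ∈ A) ∧
      Nonempty (L ≃* Matrix.SpecialLinearGroup (Fin 2) F)

/-- in characteristic two `SL₂` has trivial centre -/
theorem center_SL2_eq_bot (F : Type*) [Field F] [CharP F 2] :
    Subgroup.center (Matrix.SpecialLinearGroup (Fin 2) F) = ⊥ := by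
  rw [eq_bot_iff]
  intro A hA
  rw [Matrix.SpecialLinearGroup.mem_center_iff] at hA
  obtain ⟨r, hr, hrA⟩ := hA
  rw [Fintype.card_fin] at hr
  have h2 : (2 : F) = 0 := CharTwo.two_eq_zero
  have h1 : (r - 1) ^ 2 = 0 := by
    linear_combination hr + (1 - r) * h2
  have hr1 : r = 1 := by
    have := pow_eq_zero_iff (two_ne_zero) |>.mp h1
    exact sub_eq_zero.mp this
  rw [Subgroup.mem_bot]
  apply Subtype.ext
  rw [← hrA, hr1]
  simp

/-- in characteristic two `PSL₂ ≅ SL₂` -/
noncomputable def pslEquivSL (F : Type*) [Field F] [CharP F 2] :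
    Matrix.ProjectiveSpecialLinearGroup (Fin 2) F ≃* Matrix.SpecialLinearGroup (Fin 2) F :=
  (QuotientGroup.quotientMulEquivOfEq (center_SL2_eq_bot F)).trans QuotientGroup.quotientBot

variable {G : Type*} [Group G]

section Finite

variable [Finite G] (h : AbHyp G) (hI : CaseI G) (hne : ∀ P : Sylow 2 G, (P : Subgroup G) ≠ ⊥)
  (hnn : ∀ P : Sylow 2 G, ¬ (P : Subgroup G).Normal) (hnc : ∀ P : Sylow 2 G, ¬ IsCyclic (P : Subgroup G))

include h hI hne hnn hnc in
/-- the conclusion in Case I -/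
theorem caseI_struct : SLStruct G := by
  classical
  have : Fact (Nat.Prime 2) := ⟨Nat.prime_two⟩
  obtain ⟨T⟩ : Nonempty (Sylow 2 G) := inferInstance
  have hel := caseI_elementary h hI hne hnn hnc
  -- the hypothesis of the CIT theorem
  have hC : ∀ t : G, orderOf t = 2 →
      IsMulCommutative (Subgroup.centralizer ({t} : Set G)) ∧
        ∀ c ∈ Subgroup.centralizer ({t} : Set G), c ^ 2 = 1 := by
    intro t ht2
    obtain ⟨R, htR⟩ := exists_sylow_of_invol ht2
    have hcent := centralizer_invol h R htR ht2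
    constructor
    · refine ⟨⟨fun x y => ?_⟩⟩
      apply Subtype.ext
      have hx : x.1 ∈ Cz R := by rw [← hcent]; exact x.2
      have hy : y.1 ∈ Cz R := by rw [← hcent]; exact y.2
      exact Cz_comm h R (hne R) x.1 hx y.1 hy
    · intro c hc
      rw [hcent] at hc
      rw [pow_two]
      exact (hel R).1 c ((hel R).2 c hc)
  obtain ⟨F, hF1, hF2, hFcard, ⟨e⟩⟩ := Cfsg.Agent.S1230.result T (hnc T) (hnn T) hC
  -- the characteristic
  have hchar : CharP F 2 := by
    obtain ⟨p, hp, n, hpp, hpn⟩ := FiniteField.card' F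
    obtain ⟨k, hk⟩ := (T.2).exists_card_eq
    rw [hFcard, hk] at hpn
    have hk0 : k ≠ 0 := by
      intro h0
      rw [h0, pow_zero] at hpn
      have : 1 < p ^ (n : ℕ) := Nat.one_lt_pow n.pos.ne' hpp.one_lt
      omega
    have hdvd : p ∣ 2 ^ k := by
      rw [hpn]; exact dvd_pow_self p n.pos.ne'
    have hp2 : p = 2 :=
      (Nat.prime_dvd_prime_iff_eq hpp Nat.prime_two).mp (hpp.dvd_of_dvd_pow hdvd)
    rw [hp2] at hp
    exact hp
  have hF4 : 4 ≤ Fintype.card F := by
    rw [hFcard]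
    obtain ⟨n, hn⟩ := T.2.exists_card_eq
    have hn2 : 2 ≤ n := by
      by_contra hlt
      have hn' : n = 0 ∨ n = 1 := by omega
      apply hnc T
      rcases hn' with h0 | h1
      · rw [h0, pow_zero] at hn
        have : Subsingleton (T : Subgroup G) := (Nat.card_eq_one_iff_unique.mp hn).1
        exact isCyclic_of_subsingleton
      · rw [h1, pow_one] at hn
        exact isCyclic_of_prime_card hn
    rw [hn]
    calc 4 = 2 ^ 2 := by norm_num
      _ ≤ 2 ^ n := Nat.pow_le_pow_right (by norm_num) hn2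
  refine ⟨?_, F, hF1, hF2, hchar, hF4, ⊤, ⊥, bot_le, inf_bot_eq _, sup_bot_eq _, ?_, ?_, ?_⟩
  · intro P
    refine ⟨(hel P).1, ?_⟩
    have h1 : (Nz P).index = Nat.card (Sylow 2 G) := (Sylow.card_eq_index_normalizer P).symm
    rw [h1, caseI_card_points h hI hne hnn hnc P]
    congr 1
    have : Cz P = (P : Subgroup G) := by
      apply le_antisymm
      · exact (hel P).2
      · intro x hx
        rw [mem_Cz_iff]
        intro s hs
        exact sylow_comm h P (hne P) s hs x hx
    rw [this]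
  · rw [Subgroup.card_bot]; exact odd_one
  · intro P a haC hodd
    rw [Subgroup.mem_bot]
    exact eq_one_of_mem_sylow_of_odd P ((hel P).2 a haC) hodd
  · exact ⟨(Subgroup.topEquiv.trans e).trans (pslEquivSL F)⟩

end Finite

end Cfsg.Agent.Lib.Helper8.AbInv
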