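import Cfsg.Agent.Lib.Helper8.AbInvF
import Cfsg.Agent.Lib.Helper1.Coprime

/-!
# Groups in which centralizers of involutions are abelian, part J (helper8)

A group of `SL₂(2ⁿ)`-type (elementary abelian points, one point more than the order of a point) has no subgroup of
odd order which is transitive on the involutions.
-/

set_option autoImplicit false

namespace Cfsg.Agent.Lib.Helper8.AbInv

open Cfsg.Agent.Lib.Helper2 Cfsg.Agent.Lib.Helper8

variable {G : Type*} [Group G]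

theorem card_ne_add_one {α : Type*} [Finite α] (a : α) : Nat.card {x : α // x ≠ a} + 1 = Nat.card α := by
  classical
  rw [← Finite.card_option]
  exact Nat.card_congr (Equiv.optionSubtypeNe a)

section Finite

variable [Finite G] (h : AbHyp G) (hne : ∀ P : Sylow 2 G, (P : Subgroup G) ≠ ⊥)
  (hnc : ∀ P : Sylow 2 G, ¬ IsCyclic (P : Subgroup G))
  (hel : ∀ P : Sylow 2 G, ∀ x ∈ (P : Subgroup G), x * x = 1)
  (hcard : ∀ P : Sylow 2 G, Nat.card (Sylow 2 G) = Nat.card (P : Subgroup G) + 1)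

include h hel in
/-- a point acts semiregularly on the other points -/
theorem sl_semireg {P Q : Sylow 2 G} (hPQ : P ≠ Q) {k : G} (hk : k ∈ (P : Subgroup G))
    (hkQ : k • Q = Q) : k = 1 := by
  by_contra hk1
  have hk2 : orderOf k = 2 := orderOf_two_of hk1 (hel P k hk)
  have hkQ' : k ∈ (Q : Subgroup G) := (invol_fix_iff Q hk2).mp hkQ
  exact hPQ (sylow_eq_of_invol h hk2 hk hkQ')

include h hel hcard in
/-- a point acts transitively on the other points -/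
theorem sl_transitive {P Q₀ Q₁ : Sylow 2 G} (h0 : Q₀ ≠ P) (h1 : Q₁ ≠ P) :
    ∃ k ∈ (P : Subgroup G), k • Q₀ = Q₁ := by
  have hmem : ∀ k : (P : Subgroup G), k.1 • Q₀ ≠ P := by
    intro k e
    have h2 : k.1 • P = P := smul_eq_iff_mem_Nz.mpr (le_Nz P k.2)
    exact h0 (smul_left_cancel k.1 (e.trans h2.symm))
  let φ : ↥(P : Subgroup G) → {Q : Sylow 2 G // Q ≠ P} := fun k => ⟨k.1 • Q₀, hmem k⟩
  have hinj : Function.Injective φ := by
    intro k₁ k₂ h12
    have e : k₁.1 • Q₀ = k₂.1 • Q₀ := congrArg Subtype.val h12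
    have h2 : (k₂.1⁻¹ * k₁.1) • Q₀ = Q₀ := by rw [mul_smul, e, inv_smul_smul]
    have h3 := sl_semireg h hel (fun e => h0 e.symm)
      ((P : Subgroup G).mul_mem ((P : Subgroup G).inv_mem k₂.2) k₁.2) h2
    exact Subtype.ext (inv_mul_eq_one.mp h3).symm
  have hc : Nat.card {Q : Sylow 2 G // Q ≠ P} ≤ Nat.card (P : Subgroup G) := by
    have := card_ne_add_one P
    rw [hcard P] at this
    omega
  obtain ⟨k, hk⟩ := (hinj.bijective_of_nat_card_le hc).2 ⟨Q₁, h1⟩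
  exact ⟨k.1, k.2, congrArg Subtype.val hk⟩

variable (E : Subgroup G) (hEodd : Odd (Nat.card E))
  (htr : ∀ s t : G, orderOf s = 2 → orderOf t = 2 → ∃ d ∈ E, d * s * d⁻¹ = t)

include h htr in
/-- `E ∩ N(P)` is transitive on the involutions of `P` -/
theorem sl_stab_transitive (P : Sylow 2 G) {s t : G} (hs : s ∈ (P : Subgroup G)) (hs2 : orderOf s = 2)
    (ht : t ∈ (P : Subgroup G)) (ht2 : orderOf t = 2) : ∃ d ∈ E ⊓ Nz P, d * s * d⁻¹ = t := by
  obtain ⟨d, hdE, hd⟩ := htr s t hs2 ht2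
  refine ⟨d, Subgroup.mem_inf.mpr ⟨hdE, ?_⟩, hd⟩
  rw [← smul_eq_iff_mem_Nz]
  apply sylow_eq_of_invol h ht2 _ ht
  rw [← hd]
  exact conj_mem_smul_sylow hs

include h hne htr in
/-- `E` is transitive on the points -/
theorem sl_E_transitive (P Q : Sylow 2 G) : ∃ d ∈ E, d • P = Q := by
  obtain ⟨s, hs, hs2, -⟩ := sylow_exists_central_invol P (hne P)
  obtain ⟨t, ht, ht2, -⟩ := sylow_exists_central_invol Q (hne Q)
  obtain ⟨d, hdE, hd⟩ := htr s t hs2 ht2
  refine ⟨d, hdE, ?_⟩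
  apply sylow_eq_of_invol h ht2 _ ht
  rw [← hd]
  exact conj_mem_smul_sylow hs

include h hel hcard hEodd in
/-- `E ∩ N(P)` fixes a second point -/
theorem sl_exists_fixed (P : Sylow 2 G) (hP : ∃ Q : Sylow 2 G, Q ≠ P) :
    ∃ Q : Sylow 2 G, Q ≠ P ∧ E ⊓ Nz P ≤ Nz Q := by
  have : Fact (Nat.Prime 2) := ⟨Nat.prime_two⟩
  obtain ⟨Q₀, hQ₀⟩ := hP
  have hAK : E ⊓ Nz P ≤ Subgroup.normalizer ((P : Subgroup G) : Set G) := inf_le_right
  have hAodd : Odd (Nat.card ↥(E ⊓ Nz P)) :=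
    Odd.of_dvd_nat hEodd (Subgroup.card_dvd_of_le inf_le_left)
  have hcop : Nat.Coprime (Nat.card ↥(E ⊓ Nz P)) (Nat.card (P : Subgroup G)) := by
    obtain ⟨n, hn⟩ := (P.2).exists_card_eq
    rw [hn]
    exact Nat.Coprime.pow_right n hAodd.coprime_two_right
  have hsolv : Group.IsSolvable ↥(E ⊓ Nz P) ∨ Group.IsSolvable (P : Subgroup G) := by
    right
    have : Group.IsNilpotent (P : Subgroup G) := P.2.isNilpotent
    infer_instance
  have hsupN : (P : Subgroup G) ⊔ (E ⊓ Nz P) ≤ Nz P := sup_le (le_Nz P) inf_le_right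
  have hKU : ∀ γ ∈ (P : Subgroup G) ⊔ (E ⊓ Nz P), ∃ k ∈ (P : Subgroup G),
      ∃ u ∈ ((P : Subgroup G) ⊔ (E ⊓ Nz P)) ⊓ Nz Q₀, γ = k * u := by
    intro γ hγ
    have hγN : γ • P = P := smul_eq_iff_mem_Nz.mpr (hsupN hγ)
    have h1 : γ • Q₀ ≠ P := by
      intro e
      exact hQ₀ (smul_left_cancel γ (e.trans hγN.symm))
    obtain ⟨k, hk, hkQ⟩ := sl_transitive h hel hcard hQ₀ h1
    refine ⟨k, hk, k⁻¹ * γ, Subgroup.mem_inf.mpr ⟨?_, ?_⟩, by group⟩
    · exact Subgroup.mul_mem _ (Subgroup.inv_mem _ (le_sup_left (a := (P : Subgroup G)) hk)) hγ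
    · rw [← smul_eq_iff_mem_Nz, mul_smul, ← hkQ, inv_smul_smul]
  obtain ⟨k, hk, hkA⟩ := Cfsg.Agent.Lib.Helper1.exists_le_conj_smul_of_coprime hAK hcop hsolv
    (inf_le_left) hKU
  refine ⟨k • Q₀, ?_, ?_⟩
  · intro e
    have h2 : k • P = P := smul_eq_iff_mem_Nz.mpr (le_Nz P hk)
    exact hQ₀ (smul_left_cancel k (e.trans h2.symm))
  · intro a ha
    have h1 := hkA ha
    rw [Cfsg.Agent.Lib.Helper1.mem_conj_smul_iff] at h1
    rw [mem_Nz_smul]
    exact (Subgroup.mem_inf.mp h1).2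

include h hne hnc hel hcard htr in
/-- the second fixed point is unique -/
theorem sl_fixed_unique {P Q Q' : Sylow 2 G} (hQ : Q ≠ P) (hQ' : Q' ≠ P) (hfix : E ⊓ Nz P ≤ Nz Q)
    (hfix' : E ⊓ Nz P ≤ Nz Q') : Q = Q' := by
  obtain ⟨k, hk, hkQ⟩ := sl_transitive h hel hcard hQ hQ'
  by_cases hk1 : k = 1
  · rw [hk1, one_smul] at hkQ
    exact hkQ
  exfalso
  have hk2 : orderOf k = 2 := orderOf_two_of hk1 (hel P k hk)
  -- `E ∩ N(P)` centralizes `k`
  have hcent : ∀ e ∈ E ⊓ Nz P, e * k * e⁻¹ = k := by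
    intro e he
    have heP : e ∈ Nz P := (Subgroup.mem_inf.mp he).2
    have h1 : e * k * e⁻¹ ∈ (P : Subgroup G) := conj_mem_of_mem_Nz heP hk
    have h2 : (e * k * e⁻¹) • Q = Q' := by
      have heQ : e⁻¹ • Q = Q := smul_eq_iff_mem_Nz.mpr ((Nz Q).inv_mem (hfix he))
      have heQ' : e • Q' = Q' := smul_eq_iff_mem_Nz.mpr (hfix' he)
      rw [mul_smul, mul_smul, heQ, hkQ, heQ']
    have h3 : ((e * k * e⁻¹)⁻¹ * k) • Q = Q := by
      rw [mul_smul, hkQ, ← h2, inv_smul_smul]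
    have h4 := sl_semireg h hel (fun e => hQ e.symm)
      ((P : Subgroup G).mul_mem ((P : Subgroup G).inv_mem h1) hk) h3
    exact (inv_mul_eq_one.mp h4)
  obtain ⟨s, t, hs, ht, hs2, ht2, hst⟩ := exists_two_invol P (sylow_comm h P (hne P)) (hnc P)
  -- move `k` to an involution different from `k`
  obtain ⟨k', hk', hk'2, hkk'⟩ : ∃ k' ∈ (P : Subgroup G), orderOf k' = 2 ∧ k' ≠ k := by
    by_cases hsk : s = k
    · exact ⟨t, ht, ht2, fun e => hst (hsk.trans e.symm)⟩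
    · exact ⟨s, hs, hs2, hsk⟩
  obtain ⟨d, hd, hdk⟩ := sl_stab_transitive h E htr P hk hk2 hk' hk'2
  rw [hcent d hd] at hdk
  exact hkk' hdk.symm

include h hne hnc hel hcard hEodd htr in
/-- **no subgroup of odd order is transitive on the involutions** -/
theorem sl_no_odd_transitive : False := by
  have : Fact (Nat.Prime 2) := ⟨Nat.prime_two⟩
  obtain ⟨P⟩ : Nonempty (Sylow 2 G) := inferInstance
  -- a second point
  have hex : ∀ P : Sylow 2 G, ∃ Q : Sylow 2 G, Q ≠ P := by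
    intro P
    by_contra hcon
    push Not at hcon
    have h1 : Nat.card (Sylow 2 G) = 1 := by
      rw [Nat.card_eq_one_iff_unique]
      exact ⟨⟨fun a b => (hcon a).trans (hcon b).symm⟩, ⟨P⟩⟩
    have h2 := hcard P
    have h3 : 0 < Nat.card (P : Subgroup G) := Nat.card_pos
    omega
  obtain ⟨Q, hQP, hfix⟩ := sl_exists_fixed h hel hcard E hEodd P (hex P)
  obtain ⟨e, heE, heP⟩ := sl_E_transitive h hne E htr P Q
  have hle : E ⊓ Nz P ≤ E ⊓ Nz Q := le_inf inf_le_left hfix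
  have hcardle : Nat.card ↥(E ⊓ Nz Q) ≤ Nat.card ↥(E ⊓ Nz P) := by
    apply Nat.card_le_card_of_injective
      (fun x : ↥(E ⊓ Nz Q) => (⟨e⁻¹ * x.1 * e, by
        have hx := x.2
        have hxQ : x.1 ∈ Nz (e • P) := by rw [heP]; exact (Subgroup.mem_inf.mp hx).2
        have h1 : e⁻¹ * x.1 * e ∈ Nz P := mem_Nz_smul.mp hxQ
        exact Subgroup.mem_inf.mpr
          ⟨E.mul_mem (E.mul_mem (E.inv_mem heE) (Subgroup.mem_inf.mp hx).1) heE, h1⟩⟩ : ↥(E ⊓ Nz P)))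
    intro x y hxy
    have h1 : e⁻¹ * x.1 * e = e⁻¹ * y.1 * e := congrArg Subtype.val hxy
    exact Subtype.ext (mul_left_cancel (mul_right_cancel h1))
  have heq : E ⊓ Nz P = E ⊓ Nz Q := Subgroup.eq_of_le_of_card_ge hle hcardle
  -- `E ∩ N(Q)` fixes `P` and `e • Q`
  have hfixP : E ⊓ Nz Q ≤ Nz P := by rw [← heq]; exact inf_le_right
  have hfixeQ : E ⊓ Nz Q ≤ Nz (e • Q) := by
    intro x hx
    have hxQ : x ∈ Nz Q := (Subgroup.mem_inf.mp hx).2
    rw [← heP] at hxQ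
    have hy : e⁻¹ * x * e ∈ E ⊓ Nz P :=
      Subgroup.mem_inf.mpr ⟨E.mul_mem (E.mul_mem (E.inv_mem heE) (Subgroup.mem_inf.mp hx).1) heE,
        mem_Nz_smul.mp hxQ⟩
    rw [mem_Nz_smul]
    exact hfix hy
  have heQ : e • Q ≠ Q := by
    intro e1
    rw [← heP] at e1
    have := smul_left_cancel e e1
    rw [heP] at this
    exact hQP this
  have hPQ : P ≠ Q := fun e => hQP e.symm
  have huniq : P = e • Q := sl_fixed_unique h hne hnc hel hcard E htr hPQ heQ hfixP hfixeQ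
  -- `e²` fixes `P`, hence so does `e`
  have he2 : (e * e) • P = P := by rw [mul_smul, heP, ← huniq]
  have heodd : Odd (orderOf e) := by
    have h4 : orderOf (⟨e, heE⟩ : E) ∣ Nat.card E := orderOf_dvd_natCard _
    rw [← Subgroup.orderOf_coe] at h4
    exact Odd.of_dvd_nat hEodd h4
  obtain ⟨m, hm⟩ := heodd
  have hepow : e = (e * e) ^ (m + 1) := by
    rw [← pow_two, ← pow_mul]
    have : 2 * (m + 1) = orderOf e + 1 := by omega
    rw [this, pow_succ, pow_orderOf_eq_one, one_mul]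
  have heN : e ∈ Nz P := by
    rw [hepow]
    exact Subgroup.pow_mem _ (smul_eq_iff_mem_Nz.mp he2) _
  exact hPQ ((smul_eq_iff_mem_Nz.mpr heN).symm.trans heP)

end Finite

end Cfsg.Agent.Lib.Helper8.AbInv
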