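import Cfsg.Agent.Lib.Helper8.AbInvI
import Cfsg.Agent.Lib.Helper8.AbInvJ

/-!
# Groups in which centralizers of involutions are abelian, part K (helper8)

Case II: a proper subgroup `Y` of `SL₂(2ⁿ) × A`-type containing the centralizer of a point, but not contained in
its normalizer, leads to a contradiction.
-/

set_option autoImplicit false

namespace Cfsg.Agent.Lib.Helper8.AbInv

open Cfsg.Agent.Lib.Helper2 Cfsg.Agent.Lib.Helper8

variable {G : Type*} [Group G]

/-! ### Sylow subgroups of a subgroup -/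

theorem mem_subtype_sylow {Y : Subgroup G} {P : Sylow 2 G} (hPY : (P : Subgroup G) ≤ Y) {x : Y} :
    x ∈ ((P.subtype hPY : Sylow 2 Y) : Subgroup Y) ↔ x.1 ∈ (P : Subgroup G) := by
  rw [Sylow.coe_subtype, Subgroup.mem_subgroupOf]

theorem mem_Nz_subtype {Y : Subgroup G} {P : Sylow 2 G} (hPY : (P : Subgroup G) ≤ Y) {x : Y} :
    x ∈ Nz (P.subtype hPY) ↔ x.1 ∈ Nz P := by
  constructor
  · intro hx
    rw [Subgroup.mem_normalizer_iff]
    intro g
    have hx' := Subgroup.mem_normalizer_iff.mp hx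
    constructor
    · intro hg
      have := (hx' ⟨g, hPY hg⟩).mp ((mem_subtype_sylow hPY).mpr hg)
      exact (mem_subtype_sylow hPY).mp this
    · intro hg
      have hgY : g ∈ Y := by
        have h1 : x.1 * g * x.1⁻¹ ∈ Y := hPY hg
        have h2 : g = x.1⁻¹ * (x.1 * g * x.1⁻¹) * x.1 := by group
        rw [h2]
        exact Y.mul_mem (Y.mul_mem (Y.inv_mem x.2) h1) x.2
      have := (hx' ⟨g, hgY⟩).mpr ((mem_subtype_sylow hPY).mpr hg)
      exact (mem_subtype_sylow hPY).mp this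
  · intro hx
    rw [Subgroup.mem_normalizer_iff]
    intro g
    have hx' := Subgroup.mem_normalizer_iff.mp hx g.1
    constructor
    · intro hg
      exact (mem_subtype_sylow hPY).mpr (hx'.mp ((mem_subtype_sylow hPY).mp hg))
    · intro hg
      exact (mem_subtype_sylow hPY).mpr (hx'.mpr ((mem_subtype_sylow hPY).mp hg))

theorem invCount_subtype {Y : Subgroup G} {P : Sylow 2 G} (hPY : (P : Subgroup G) ≤ Y) :
    invCount (P.subtype hPY) = invCount P := by
  unfold invCount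
  apply Nat.card_congr
  refine ⟨fun t => ⟨t.1.1, (mem_subtype_sylow hPY).mp t.2.1, ?_⟩,
    fun t => ⟨⟨t.1, hPY t.2.1⟩, (mem_subtype_sylow hPY).mpr t.2.1, ?_⟩, fun t => rfl, fun t => rfl⟩
  · rw [Subgroup.orderOf_coe]; exact t.2.2
  · rw [← Subgroup.orderOf_coe]; exact t.2.2

theorem subtype_ne_bot {Y : Subgroup G} {P : Sylow 2 G} (hPY : (P : Subgroup G) ≤ Y)
    (hP : (P : Subgroup G) ≠ ⊥) : ((P.subtype hPY : Sylow 2 Y) : Subgroup Y) ≠ ⊥ := by
  intro hb
  apply hP
  rw [eq_bot_iff]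
  intro x hx
  have h1 : (⟨x, hPY hx⟩ : Y) ∈ ((P.subtype hPY : Sylow 2 Y) : Subgroup Y) :=
    (mem_subtype_sylow hPY).mpr hx
  rw [hb, Subgroup.mem_bot] at h1
  rw [Subgroup.mem_bot]
  exact congrArg Subtype.val h1

theorem subtype_not_normal {Y : Subgroup G} {P : Sylow 2 G} (hPY : (P : Subgroup G) ≤ Y)
    (hYN : ¬ Y ≤ Nz P) : ¬ ((P.subtype hPY : Sylow 2 Y) : Subgroup Y).Normal := by
  intro hn
  apply hYN
  intro y hy
  have h1 : (⟨y, hy⟩ : Y) ∈ Nz (P.subtype hPY) := by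
    have : Nz (P.subtype hPY) = ⊤ := Subgroup.normalizer_eq_top_iff.mpr hn
    rw [this]; exact Subgroup.mem_top _
  exact (mem_Nz_subtype hPY).mp h1

/-- all Sylow 2-subgroups are noncyclic if one is -/
theorem forall_not_isCyclic [Finite G] (P : Sylow 2 G) (hnc : ¬ IsCyclic (P : Subgroup G)) :
    ∀ Q : Sylow 2 G, ¬ IsCyclic (Q : Subgroup G) := by
  have : Fact (Nat.Prime 2) := ⟨Nat.prime_two⟩
  intro Q hQ
  obtain ⟨g, hg⟩ := MulAction.exists_smul_eq G Q P
  apply hnc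
  have e := Sylow.equivSMul Q g
  rw [hg] at e
  exact isCyclic_of_surjective e e.surjective

/-- all Sylow 2-subgroups are non-normal if one is -/
theorem forall_not_normal [Finite G] (P : Sylow 2 G) (hnn : ¬ (P : Subgroup G).Normal) :
    ∀ Q : Sylow 2 G, ¬ (Q : Subgroup G).Normal := by
  have : Fact (Nat.Prime 2) := ⟨Nat.prime_two⟩
  intro Q hQ
  apply hnn
  obtain ⟨g, hg⟩ := MulAction.exists_smul_eq G Q P
  have h1 : g • Q = Q := Sylow.smul_eq_of_normal (h := hQ)
  have h2 : P = Q := hg.symm.trans h1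
  rw [h2]
  exact hQ

section Finite

variable [Finite G] (h : AbHyp G)

include h in
/-- a subgroup containing the centralizer of a point and not contained in its normalizer contains the
normalizer -/
theorem Nz_le_of_Cz_le (P : Sylow 2 G) (hP : (P : Subgroup G) ≠ ⊥) (hnn : ¬ (P : Subgroup G).Normal)
    (Y : Subgroup G) (hCY : Cz P ≤ Y) (hYN : ¬ Y ≤ Nz P) : Nz P ≤ Y := by
  have hab := sylow_comm h P hP
  have hPC : (P : Subgroup G) ≤ Cz P := by
    intro x hx
    rw [mem_Cz_iff]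
    intro s hs
    exact hab s hs x hx
  have hPY : (P : Subgroup G) ≤ Y := hPC.trans hCY
  have hY := h.subgroup Y
  have hP' := subtype_ne_bot hPY hP
  have hnn' := subtype_not_normal hPY hYN
  obtain ⟨u', hu'2, hu'N⟩ := exists_invol_not_mem_Nz hY (P.subtype hPY) hP' hnn'
  have hu2 : orderOf (u'.1) = 2 := by rw [Subgroup.orderOf_coe]; exact hu'2
  have huN : u'.1 ∉ Nz P := fun hmem => hu'N ((mem_Nz_subtype hPY).mpr hmem)
  have hc1 := card_inverted hY (P.subtype hPY) hP' hnn' hu'2 hu'N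
  have hc2 := card_inverted h P hP hnn hu2 huN
  rw [invCount_subtype hPY] at hc1
  let ι : {d : Y // d ∈ Nz (P.subtype hPY) ∧ u' * d * u'⁻¹ = d⁻¹} →
      {d : G // d ∈ Nz P ∧ u'.1 * d * u'.1⁻¹ = d⁻¹} :=
    fun d => ⟨d.1.1, (mem_Nz_subtype hPY).mp d.2.1, by
      have := congrArg Subtype.val d.2.2
      simpa using this⟩
  have hinj : Function.Injective ι := by
    intro d₁ d₂ h12
    have : (ι d₁).1 = (ι d₂).1 := congrArg Subtype.val h12
    exact Subtype.ext (Subtype.ext this)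
  have hbij := hinj.bijective_of_nat_card_le (by rw [hc1, hc2])
  intro m hm
  obtain ⟨d, hd, hdu, hc⟩ := Nz_decomp h P hP hnn hu2 huN hm
  obtain ⟨d', hd'⟩ := hbij.2 ⟨d, hd, hdu⟩
  have hdY : d ∈ Y := by
    have : d'.1.1 = d := congrArg Subtype.val hd'
    rw [← this]; exact d'.1.2
  have : m = d * (d⁻¹ * m) := by group
  rw [this]
  exact Y.mul_mem hdY (hCY hc)

include h in
/-- a proper subgroup containing the normalizer of a point is strongly embedded -/
theorem stronglyEmbedded_of_Nz_le (P : Sylow 2 G) (hP : (P : Subgroup G) ≠ ⊥)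
    (hnn : ¬ (P : Subgroup G).Normal) (Y : Subgroup G) (hNY : Nz P ≤ Y) (hY : Y ≠ ⊤) :
    Cfsg.IsStronglyEmbedded Y := by
  obtain ⟨s, hsP, hs2, -⟩ := sylow_exists_central_invol P hP
  have hsY : s ∈ Y := hNY (le_Nz P hsP)
  -- every involution of `Y` is conjugate to `s` in `Y`
  have hconj : ∀ t ∈ Y, orderOf t = 2 → ∃ y ∈ Y, y * s * y⁻¹ = t := by
    intro t htY ht2
    by_cases htP : t ∈ (P : Subgroup G)
    · obtain ⟨u, hu2, huN⟩ := exists_invol_not_mem_Nz h P hP hnn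
      obtain ⟨d, hd, -, hdt⟩ := exists_inverted_conj h P hP hnn hu2 huN hsP hs2 htP ht2
      exact ⟨d, hNY hd, hdt⟩
    · obtain ⟨R, htR⟩ := exists_sylow_of_invol ht2
      have hPR : P ≠ R := by
        intro e
        rw [← e] at htR
        exact htP htR
      have hodd := odd_mul_of_ne h hPR hsP hs2 htR ht2
      obtain ⟨d, hd, hdt⟩ := dih_conj_of_odd (invol_mul_self hs2) (invol_mul_self ht2) hodd
      refine ⟨d, ?_, hdt⟩
      have hle : Subgroup.closure ({s, t} : Set G) ≤ Y := by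
        rw [Subgroup.closure_le]
        intro x hx
        rcases hx with hx | hx
        · rw [hx]; exact hsY
        · rw [Set.mem_singleton_iff] at hx
          rw [hx]; exact htY
      exact hle hd
  rw [stronglyEmbedded_iff]
  refine ⟨hY, ?_, ?_⟩
  · rw [even_card_iff_exists_invol]
    exact ⟨s, hsY, hs2⟩
  · intro g t htY ht2 hgt
    obtain ⟨y, hy, hyt⟩ := hconj t htY ht2
    obtain ⟨y', hy', hy't⟩ := hconj (g * t * g⁻¹) hgt (orderOf_conj_two g ht2)
    have hcomm : (y'⁻¹ * g * y) * s = s * (y'⁻¹ * g * y) := by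
      have : (y'⁻¹ * g * y) * s * (y'⁻¹ * g * y)⁻¹ = s := by
        calc (y'⁻¹ * g * y) * s * (y'⁻¹ * g * y)⁻¹ = y'⁻¹ * (g * (y * s * y⁻¹) * g⁻¹) * y' := by group
          _ = y'⁻¹ * (y' * s * y'⁻¹) * y' := by rw [hyt, hy't]
          _ = s := by group
      calc (y'⁻¹ * g * y) * s = ((y'⁻¹ * g * y) * s * (y'⁻¹ * g * y)⁻¹) * (y'⁻¹ * g * y) := by group
        _ = s * (y'⁻¹ * g * y) := by rw [this]
    have h1 : y'⁻¹ * g * y ∈ Y := hNY (Cz_le_Nz P (mem_Cz_of_commute h P hsP hs2 hcomm))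
    have h2 : g = y' * (y'⁻¹ * g * y) * y⁻¹ := by group
    rw [h2]
    exact Y.mul_mem (Y.mul_mem hy' h1) (Y.inv_mem hy)

include h in
/-- **Case II is impossible** -/
theorem caseII_false (P : Sylow 2 G) (hP : (P : Subgroup G) ≠ ⊥) (hnn : ¬ (P : Subgroup G).Normal)
    (hnc : ¬ IsCyclic (P : Subgroup G)) (Y : Subgroup G) (hCY : Cz P ≤ Y) (hYN : ¬ Y ≤ Nz P)
    (hY : Y ≠ ⊤) (hS : SLStruct Y) : False := by
  have : Fact (Nat.Prime 2) := ⟨Nat.prime_two⟩
  have hNY := Nz_le_of_Cz_le h P hP hnn Y hCY hYN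
  have hSE := stronglyEmbedded_of_Nz_le h P hP hnn Y hNY hY
  have hPY : (P : Subgroup G) ≤ Y := (le_Nz P).trans hNY
  -- an involution outside `Y`
  obtain ⟨s, hsP, hs2, -⟩ := sylow_exists_central_invol P hP
  obtain ⟨g, hg⟩ : ∃ g : G, g ∉ Y := by
    by_contra hcon
    push Not at hcon
    exact hY (eq_top_iff.mpr fun x _ => hcon x)
  have hv2 : orderOf (g * s * g⁻¹) = 2 := orderOf_conj_two g hs2
  have hvY : g * s * g⁻¹ ∉ Y := by
    intro hmem
    exact hg (((stronglyEmbedded_iff Y).mp hSE).2.2 g s (hPY hsP) hs2 hmem)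
  set v := g * s * g⁻¹ with hv
  -- the data in the group `Y`
  have hYab := h.subgroup Y
  have hP' := subtype_ne_bot hPY hP
  have hnc' : ¬ IsCyclic ((P.subtype hPY : Sylow 2 Y) : Subgroup Y) := by
    intro hc
    apply hnc
    have e : ((P.subtype hPY : Sylow 2 Y) : Subgroup Y) ≃* (P : Subgroup G) := by
      rw [Sylow.coe_subtype]
      exact Subgroup.subgroupOfEquivOfLe hPY
    exact isCyclic_of_surjective e e.surjective
  have hevenY : Even (Nat.card Y) := by
    rw [even_card_iff_exists_invol]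
    exact ⟨s, hPY hsP, hs2⟩
  have hneY : ∀ Q : Sylow 2 Y, (Q : Subgroup Y) ≠ ⊥ := sylow_ne_bot hevenY
  have hncY := forall_not_isCyclic (P.subtype hPY) hnc'
  have helY : ∀ Q : Sylow 2 Y, ∀ x ∈ (Q : Subgroup Y), x * x = 1 := fun Q => (hS.1 Q).1
  have hcardY : ∀ Q : Sylow 2 Y, Nat.card (Sylow 2 Y) = Nat.card (Q : Subgroup Y) + 1 := by
    intro Q
    rw [← (hS.1 Q).2]
    exact Sylow.card_eq_index_normalizer Q
  let E : Subgroup Y := (Y ⊓ Y.map (MulAut.conj v).toMonoidHom).subgroupOf Y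
  have hEodd : Odd (Nat.card E) := by
    have h1 := hSE.2.2 v hvY
    have h2 : Nat.card E = Nat.card ↥(Y ⊓ Y.map (MulAut.conj v).toMonoidHom) :=
      Nat.card_congr (Subgroup.subgroupOfEquivOfLe inf_le_left).toEquiv
    rw [h2]; exact h1
  have htr : ∀ s t : Y, orderOf s = 2 → orderOf t = 2 → ∃ d ∈ E, d * s * d⁻¹ = t := by
    intro s t hs ht
    have hs' : orderOf (s.1) = 2 := by rw [Subgroup.orderOf_coe]; exact hs
    have ht' : orderOf (t.1) = 2 := by rw [Subgroup.orderOf_coe]; exact ht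
    obtain ⟨d, hd, hdst⟩ := (Cfsg.Agent.S1225.result Y hSE v hv2 hvY s.1 t.1 hs' s.2 ht' t.2).1
    have hdY : d ∈ Y := (Subgroup.mem_inf.mp hd).1
    refine ⟨⟨d, hdY⟩, Subgroup.mem_subgroupOf.mpr hd, ?_⟩
    apply Subtype.ext
    simpa using hdst
  exact sl_no_odd_transitive hYab hneY hncY helY hcardY E hEodd htr

end Finite

end Cfsg.Agent.Lib.Helper8.AbInv
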