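import Cfsg.Agent.Lib.Helper8.AbInvK

/-!
# Groups in which centralizers of involutions are abelian, part L (helper8)

Quotients by central subgroups of odd order: the hypothesis passes to the quotient, the points of the quotient are
the images of the points, and normalizers of points correspond.
-/

set_option autoImplicit false

namespace Cfsg.Agent.Lib.Helper8.AbInv

open Cfsg.Agent.Lib.Helper2 Cfsg.Agent.Lib.Helper8

variable {G H : Type*} [Group G] [Group H]

section Quot

variable [Finite G] (π : G →* H) (hπ : Function.Surjective π)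
  (hc : π.ker ≤ Subgroup.center G) (hodd : Odd (Nat.card π.ker))

include hodd in
/-- an element of the kernel killed by a power of two is trivial -/
theorem ker_eq_one_of_pow_two {k : G} (hk : k ∈ π.ker) (n : ℕ) (hkn : k ^ (2 ^ n) = 1) : k = 1 := by
  have h1 : orderOf k ∣ 2 ^ n := orderOf_dvd_of_pow_eq_one hkn
  have h2 : orderOf k ∣ Nat.card π.ker := by
    have h3 : orderOf (⟨k, hk⟩ : π.ker) ∣ Nat.card π.ker := orderOf_dvd_natCard _
    rwa [← Subgroup.orderOf_coe] at h3
  have hcop : Nat.Coprime (2 ^ n) (Nat.card π.ker) :=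
    Nat.Coprime.pow_left n (Nat.coprime_two_left.mpr hodd)
  have h3 := Nat.eq_one_of_dvd_coprimes hcop h1 h2
  exact orderOf_eq_one_iff.mp h3

include hc hodd in
/-- 2-elements with the same image are equal -/
theorem eq_of_map_eq {x y : G} (n m : ℕ) (hx : x ^ (2 ^ n) = 1) (hy : y ^ (2 ^ m) = 1)
    (hxy : π x = π y) : x = y := by
  have hk : y⁻¹ * x ∈ π.ker := by
    rw [MonoidHom.mem_ker, map_mul, map_inv, hxy, inv_mul_cancel]
  have hcomm : Commute y (y⁻¹ * x) := Subgroup.mem_center_iff.mp (hc hk) y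
  have hx' : x ^ (2 ^ (n + m)) = 1 := by rw [pow_add, pow_mul, hx, one_pow]
  have hy' : y ^ (2 ^ (n + m)) = 1 := by rw [pow_add, mul_comm, pow_mul, hy, one_pow]
  have h1 : x = y * (y⁻¹ * x) := by group
  have h2 : (y⁻¹ * x) ^ (2 ^ (n + m)) = 1 := by
    have h3 : x ^ (2 ^ (n + m)) = y ^ (2 ^ (n + m)) * (y⁻¹ * x) ^ (2 ^ (n + m)) := by
      rw [← hcomm.mul_pow, ← h1]
    rw [hx', hy', one_mul] at h3
    exact h3.symm
  have h3 := ker_eq_one_of_pow_two π hodd hk (n + m) h2
  rw [h1, h3, mul_one]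

omit [Finite G] in
/-- elements of a point are killed by a fixed power of two -/
theorem exists_pow_sylow [Finite G] (P : Sylow 2 G) :
    ∃ n : ℕ, ∀ x ∈ (P : Subgroup G), x ^ (2 ^ n) = 1 := by
  obtain ⟨n, hn⟩ := P.2.exists_card_eq
  refine ⟨n, fun x hx => ?_⟩
  have h1 := pow_card_eq_one' (G := (P : Subgroup G)) (x := ⟨x, hx⟩)
  rw [hn] at h1
  exact congrArg Subtype.val h1

include hπ hodd in
/-- involutions lift -/
theorem exists_invol_lift {t' : H} (ht' : orderOf t' = 2) : ∃ t : G, orderOf t = 2 ∧ π t = t' := by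
  obtain ⟨g, hg⟩ := hπ t'
  obtain ⟨m, hm⟩ := hodd
  have ht'2 : t' ^ 2 = 1 := by rw [← ht']; exact pow_orderOf_eq_one t'
  have hg2 : g ^ 2 ∈ π.ker := by rw [MonoidHom.mem_ker, map_pow, hg, ht'2]
  have h1 : (g ^ 2) ^ (Nat.card π.ker) = 1 := by
    have h2 := pow_card_eq_one' (G := π.ker) (x := ⟨g ^ 2, hg2⟩)
    exact congrArg Subtype.val h2
  have hπt : π (g ^ (Nat.card π.ker)) = t' := by
    rw [map_pow, hg, hm, pow_succ, pow_mul, ht'2, one_pow, one_mul]
  refine ⟨g ^ (Nat.card π.ker), ?_, hπt⟩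
  apply orderOf_two_of
  · intro h1'
    rw [h1', map_one] at hπt
    exact invol_ne_one ht' hπt.symm
  · rw [← pow_add, ← two_mul, pow_mul]; exact h1

include hπ hc hodd in
/-- the hypothesis passes to the quotient -/
theorem abHyp_quot (h : AbHyp G) : AbHyp H := by
  intro t' ht' x' y' hx' hy'
  obtain ⟨t, ht2, htt'⟩ := exists_invol_lift π hπ hodd ht'
  obtain ⟨x, rfl⟩ := hπ x'
  obtain ⟨y, rfl⟩ := hπ y'
  have key : ∀ z : G, π z * t' = t' * π z → z * t = t * z := by
    intro z hz
    have h1 : π (z * t * z⁻¹) = π t := by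
      rw [map_mul, map_mul, map_inv, htt', hz, mul_inv_cancel_right]
    have h2 : z * t * z⁻¹ = t := by
      apply eq_of_map_eq π hc hodd 1 1 _ _ h1
      · rw [pow_one, pow_two]; exact invol_mul_self (orderOf_conj_two z ht2)
      · rw [pow_one, pow_two]; exact invol_mul_self ht2
    calc z * t = z * t * z⁻¹ * z := by group
      _ = t * z := by rw [h2]
  have h3 := h t ht2 x y (key x hx') (key y hy')
  rw [← map_mul, ← map_mul, h3]

/-- the image of a point -/
noncomputable def imgS (P : Sylow 2 G) : Sylow 2 H := P.mapSurjective hπ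

theorem mem_imgS {P : Sylow 2 G} {y : H} :
    y ∈ ((imgS π hπ P : Sylow 2 H) : Subgroup H) ↔ ∃ x ∈ (P : Subgroup G), π x = y := by
  rw [imgS, Sylow.coe_mapSurjective]; exact Subgroup.mem_map

theorem map_mem_imgS {P : Sylow 2 G} {x : G} (hx : x ∈ (P : Subgroup G)) :
    π x ∈ ((imgS π hπ P : Sylow 2 H) : Subgroup H) :=
  (mem_imgS π hπ).mpr ⟨x, hx, rfl⟩

/-- every point of the quotient is the image of a point -/
theorem exists_eq_imgS (Q : Sylow 2 H) : ∃ P : Sylow 2 G, imgS π hπ P = Q :=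
  Sylow.mapSurjective_surjective hπ 2 Q

include hc hodd in
theorem mem_sylow_of_map_mem {P : Sylow 2 G} {x : G} (n : ℕ) (hx : x ^ (2 ^ n) = 1)
    (hxP : π x ∈ ((imgS π hπ P : Sylow 2 H) : Subgroup H)) : x ∈ (P : Subgroup G) := by
  obtain ⟨y, hy, hyx⟩ := (mem_imgS π hπ).mp hxP
  obtain ⟨m, hm⟩ := exists_pow_sylow P
  have h1 := eq_of_map_eq π hc hodd n m hx (hm y hy) hyx.symm
  rw [h1]; exact hy

include hc hodd in
/-- normalizers of points correspond -/
theorem mem_Nz_imgS {P : Sylow 2 G} {g : G} : π g ∈ Nz (imgS π hπ P) ↔ g ∈ Nz P := by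
  constructor
  · intro hg
    rw [← smul_eq_iff_mem_Nz]
    have hle : ((g • P : Sylow 2 G) : Subgroup G) ≤ (P : Subgroup G) := by
      intro x hx
      rw [mem_smul_sylow] at hx
      have h1 : π x ∈ ((imgS π hπ P : Sylow 2 H) : Subgroup H) := by
        have h2 := (Subgroup.mem_normalizer_iff.mp hg (π (g⁻¹ * x * g))).mp (map_mem_imgS π hπ hx)
        have h3 : π g * π (g⁻¹ * x * g) * (π g)⁻¹ = π x := by
          rw [← map_inv, ← map_mul, ← map_mul]; congr 1; group
        rwa [h3] at h2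
      obtain ⟨n, hn⟩ := exists_pow_sylow P
      have hxn : x ^ (2 ^ n) = 1 := by
        have h5 := hn _ hx
        have h4 : x = g * (g⁻¹ * x * g) * g⁻¹ := by group
        rw [h4, conj_pow, h5]; group
      exact mem_sylow_of_map_mem π hπ hc hodd n hxn h1
    exact (Sylow.ext ((g • P).is_maximal' P.2 hle)).symm
  · intro hg
    rw [Subgroup.mem_normalizer_iff]
    intro y
    constructor
    · intro hy
      obtain ⟨x, hx, rfl⟩ := (mem_imgS π hπ).mp hy
      have h1 : π g * π x * (π g)⁻¹ = π (g * x * g⁻¹) := by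
        rw [map_mul, map_mul, map_inv]
      rw [h1]
      exact map_mem_imgS π hπ (conj_mem_of_mem_Nz hg hx)
    · intro hy
      obtain ⟨x, hx, hxy⟩ := (mem_imgS π hπ).mp hy
      have h2 : g⁻¹ * x * g ∈ (P : Subgroup G) := by
        have h3 := conj_mem_of_mem_Nz ((Nz P).inv_mem hg) hx
        rwa [inv_inv] at h3
      have h1 : y = π (g⁻¹ * x * g) := by
        rw [map_mul, map_mul, map_inv, hxy]; group
      rw [h1]
      exact map_mem_imgS π hπ h2

/-- centralizers of points map to centralizers of points -/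
theorem map_mem_Cz_imgS {P : Sylow 2 G} {a : G} (ha : a ∈ Cz P) : π a ∈ Cz (imgS π hπ P) := by
  rw [mem_Cz_iff] at ha ⊢
  intro s' hs'
  obtain ⟨s, hs, rfl⟩ := (mem_imgS π hπ).mp hs'
  rw [← map_mul, ← map_mul, ha s hs]

include hc hodd in
/-- a point is isomorphic to its image -/
theorem nonempty_sylow_equiv_imgS (P : Sylow 2 G) :
    Nonempty (↥(P : Subgroup G) ≃* ↥((imgS π hπ P : Sylow 2 H) : Subgroup H)) := by
  rw [imgS, Sylow.coe_mapSurjective]
  refine ⟨MulEquiv.ofBijective (π.subgroupMap (P : Subgroup G))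
    ⟨?_, π.subgroupMap_surjective (P : Subgroup G)⟩⟩
  intro x y hxy
  have h1 : π x.1 = π y.1 := congrArg Subtype.val hxy
  obtain ⟨n, hn⟩ := exists_pow_sylow P
  exact Subtype.ext (eq_of_map_eq π hc hodd n n (hn x.1 x.2) (hn y.1 y.2) h1)

include hc hodd in
theorem card_imgS (P : Sylow 2 G) :
    Nat.card ↥((imgS π hπ P : Sylow 2 H) : Subgroup H) = Nat.card ↥(P : Subgroup G) := by
  obtain ⟨e⟩ := nonempty_sylow_equiv_imgS π hπ hc hodd P
  exact (Nat.card_congr e.toEquiv).symm

include hc hodd in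
theorem imgS_not_isCyclic (P : Sylow 2 G) (hnc : ¬ IsCyclic ↥(P : Subgroup G)) :
    ¬ IsCyclic ↥((imgS π hπ P : Sylow 2 H) : Subgroup H) := by
  obtain ⟨e⟩ := nonempty_sylow_equiv_imgS π hπ hc hodd P
  intro hcyc
  exact hnc (isCyclic_of_surjective e.symm e.symm.surjective)

include hc hodd in
theorem imgS_not_normal (P : Sylow 2 G) (hnn : ¬ (P : Subgroup G).Normal) :
    ¬ ((imgS π hπ P : Sylow 2 H) : Subgroup H).Normal := by
  intro hn
  apply hnn
  apply Subgroup.normalizer_eq_top_iff.mp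
  rw [eq_top_iff]
  intro g _
  apply (mem_Nz_imgS π hπ hc hodd).mp
  have h1 : Nz (imgS π hπ P) = ⊤ := Subgroup.normalizer_eq_top_iff.mpr hn
  rw [h1]; exact Subgroup.mem_top _

include hπ hodd in
theorem even_card_quot (heven : Even (Nat.card G)) : Even (Nat.card H) := by
  have : Finite H := Finite.of_surjective π hπ
  obtain ⟨P⟩ : Nonempty (Sylow 2 G) := inferInstance
  obtain ⟨t, -, ht2, -⟩ := sylow_exists_central_invol P (sylow_ne_bot heven P)
  have h1 : π t ≠ 1 := by
    intro h1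
    have h2 : t ∈ π.ker := h1
    have h3 := ker_eq_one_of_pow_two π hodd h2 1 (by rw [pow_one, pow_two]; exact invol_mul_self ht2)
    exact invol_ne_one ht2 h3
  have h2 : orderOf (π t) = 2 := by
    apply orderOf_two_of h1
    rw [← map_mul, invol_mul_self ht2, map_one]
  rw [even_iff_two_dvd, ← h2]
  exact orderOf_dvd_natCard _

end Quot

end Cfsg.Agent.Lib.Helper8.AbInv
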