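import Cfsg.Agent.Lib.Helper8.AbInvL
import Cfsg.Agent.Lib.Helper3.Schur.Basic

/-!
# Groups in which centralizers of involutions are abelian, part M (helper8)

A splitting lemma by transfer: a central-by-central extension `G` of odd abelian kernel over a perfect group `S`
all of whose odd Sylow subgroups are cyclic is the direct product of its commutator subgroup and the kernel.
-/

set_option autoImplicit false

namespace Cfsg.Agent.Lib.Helper8.AbInv

open Cfsg.Agent.Lib.Helper2 Cfsg.Agent.Lib.Helper8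

section Split

variable {G S : Type*} [Group G] [Group S] [Finite G]
  (ρ : G →* S) (hρ : Function.Surjective ρ)
  (hperf : commutator S = ⊤)
  (hcyc : ∀ (r : ℕ) [Fact r.Prime], r ≠ 2 → ∀ R : Sylow r S, IsCyclic ↥(R : Subgroup S))
  (hAodd : Odd (Nat.card ρ.ker))
  (hAab : ∀ a ∈ ρ.ker, ∀ b ∈ ρ.ker, a * b = b * a)
  (hAK : ∀ a ∈ ρ.ker, ∀ g : G, a * g * a⁻¹ * g⁻¹ ∈ Subgroup.center G)

omit [Finite G] in
/-- an element whose commutators are all central commutes with the commutator subgroup -/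
theorem comm_commutator_of_central {a : G} (ha : ∀ g : G, a * g * a⁻¹ * g⁻¹ ∈ Subgroup.center G)
    {c : G} (hc : c ∈ commutator G) : a * c = c * a := by
  let φ : G →* Subgroup.center G := MonoidHom.mk' (fun g => ⟨a * g * a⁻¹ * g⁻¹, ha g⟩) (by
    intro g h
    apply Subtype.ext
    have hk : ∀ x : G, x * (a * h * a⁻¹ * h⁻¹) = (a * h * a⁻¹ * h⁻¹) * x :=
      Subgroup.mem_center_iff.mp (ha h)
    show a * (g * h) * a⁻¹ * (g * h)⁻¹ = (a * g * a⁻¹ * g⁻¹) * (a * h * a⁻¹ * h⁻¹)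
    calc a * (g * h) * a⁻¹ * (g * h)⁻¹ = a * g * a⁻¹ * ((a * h * a⁻¹ * h⁻¹) * g⁻¹) := by group
      _ = a * g * a⁻¹ * (g⁻¹ * (a * h * a⁻¹ * h⁻¹)) := by rw [hk g⁻¹]
      _ = (a * g * a⁻¹ * g⁻¹) * (a * h * a⁻¹ * h⁻¹) := by group)
  have hle : commutator G ≤ φ.ker := by
    rw [commutator_def, Subgroup.commutator_le]
    intro p _ q _
    rw [MonoidHom.mem_ker, commutatorElement_def, map_mul, map_mul, map_mul, map_inv, map_inv]
    have hpq : φ p * φ q = φ q * φ p := by
      apply Subtype.ext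
      show (φ p).1 * (φ q).1 = (φ q).1 * (φ p).1
      exact Subgroup.mem_center_iff.mp (φ q).2 (φ p).1
    rw [hpq]; group
  have h1 : c ∈ φ.ker := hle hc
  have h2 : a * c * a⁻¹ * c⁻¹ = 1 := congrArg Subtype.val (MonoidHom.mem_ker.mp h1)
  calc a * c = (a * c * a⁻¹ * c⁻¹) * c * a := by group
    _ = c * a := by rw [h2, one_mul]

include hρ hperf in
omit [Finite G] in
/-- the commutator subgroup covers `S` -/
theorem exists_commutator_lift (g : G) : ∃ c ∈ commutator G, ρ c = ρ g := by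
  have h1 := Subgroup.map_commutator (⊤ : Subgroup G) ⊤ ρ
  rw [← MonoidHom.range_eq_map, MonoidHom.range_eq_top.mpr hρ, ← commutator_def, ← commutator_def,
    hperf] at h1
  have h2 : ρ g ∈ Subgroup.map ρ (commutator G) := by rw [h1]; exact Subgroup.mem_top _
  obtain ⟨c, hc, hcg⟩ := Subgroup.mem_map.mp h2
  exact ⟨c, hc, hcg⟩

include hρ hperf hAab hAK in
omit [Finite G] in
/-- the kernel is central -/
theorem ker_le_center : ρ.ker ≤ Subgroup.center G := by
  intro a ha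
  rw [Subgroup.mem_center_iff]
  intro g
  obtain ⟨c, hc, hcg⟩ := exists_commutator_lift ρ hρ hperf g
  have hk : c⁻¹ * g ∈ ρ.ker := by
    rw [MonoidHom.mem_ker, map_mul, map_inv, hcg, inv_mul_cancel]
  have h1 := comm_commutator_of_central (hAK a ha) hc
  have h2 := hAab a ha _ hk
  calc g * a = c * ((c⁻¹ * g) * a) := by group
    _ = c * (a * (c⁻¹ * g)) := by rw [h2]
    _ = (c * a) * (c⁻¹ * g) := by group
    _ = (a * c) * (c⁻¹ * g) := by rw [h1]
    _ = a * g := by group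

include hρ hperf hcyc hAodd hAab hAK in
/-- the commutator subgroup meets the kernel trivially (transfer) -/
theorem commutator_inf_ker : commutator G ⊓ ρ.ker = ⊥ := by
  have hSfin : Finite S := Finite.of_surjective ρ hρ
  have hcen := ker_le_center ρ hρ hperf hAab hAK
  rw [eq_bot_iff]
  intro x hx
  rw [Subgroup.mem_bot]
  obtain ⟨hx', hxk⟩ := Subgroup.mem_inf.mp hx
  by_contra hx1
  have hn1 : orderOf x ≠ 1 := fun h => hx1 (orderOf_eq_one_iff.mp h)
  obtain ⟨r, hr⟩ : ∃ r, r = (orderOf x).minFac := ⟨_, rfl⟩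
  have hrp : r.Prime := by rw [hr]; exact Nat.minFac_prime hn1
  have hrx : r ∣ orderOf x := by rw [hr]; exact Nat.minFac_dvd _
  have hxcard : orderOf x ∣ Nat.card ρ.ker := by
    have h3 : orderOf (⟨x, hxk⟩ : ρ.ker) ∣ Nat.card ρ.ker := orderOf_dvd_natCard _
    rwa [← Subgroup.orderOf_coe] at h3
  have hr2 : r ≠ 2 := by
    intro h2
    rw [h2] at hrx
    have h4 : 2 ∣ Nat.card ρ.ker := hrx.trans hxcard
    exact (Nat.not_even_iff_odd.mpr hAodd) (even_iff_two_dvd.mpr h4)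
  have : Fact r.Prime := ⟨hrp⟩
  obtain ⟨R⟩ : Nonempty (Sylow r S) := inferInstance
  obtain ⟨y, hy⟩ := (hcyc r hr2 R).exists_generator
  obtain ⟨x₀, hx₀⟩ := hρ y.1
  -- the structure of the preimage of `R`
  have hV : ∀ v ∈ (R : Subgroup S).comap ρ, ∃ i : ℤ, ∃ a ∈ Subgroup.center G, v = x₀ ^ i * a := by
    intro v hv
    have hv' : ρ v ∈ (R : Subgroup S) := hv
    obtain ⟨i, hi⟩ := Subgroup.mem_zpowers_iff.mp (hy ⟨ρ v, hv'⟩)
    have hi' : y.1 ^ i = ρ v := by
      have := congrArg Subtype.val hi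
      simpa using this
    refine ⟨i, (x₀ ^ i)⁻¹ * v, hcen ?_, by group⟩
    rw [MonoidHom.mem_ker, map_mul, map_inv, map_zpow, hx₀, hi', inv_mul_cancel]
  have hVab : ⁅(R : Subgroup S).comap ρ, (R : Subgroup S).comap ρ⁆ = ⊥ := by
    rw [Subgroup.commutator_eq_bot_iff_le_centralizer]
    intro v hv
    rw [Subgroup.mem_centralizer_iff]
    intro w hw
    obtain ⟨i, a, ha, rfl⟩ := hV v hv
    obtain ⟨j, b, hb, rfl⟩ := hV w hw
    have ha' := Subgroup.mem_center_iff.mp ha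
    have hb' := Subgroup.mem_center_iff.mp hb
    have hij : x₀ ^ j * x₀ ^ i = x₀ ^ i * x₀ ^ j := by
      rw [← zpow_add, ← zpow_add, add_comm]
    calc x₀ ^ j * b * (x₀ ^ i * a) = x₀ ^ j * (b * x₀ ^ i) * a := by group
      _ = x₀ ^ j * (x₀ ^ i * b) * a := by rw [hb' (x₀ ^ i)]
      _ = (x₀ ^ j * x₀ ^ i) * (b * a) := by group
      _ = (x₀ ^ i * x₀ ^ j) * (a * b) := by rw [hij, ha' b]
      _ = x₀ ^ i * (x₀ ^ j * a) * b := by group
      _ = x₀ ^ i * (a * x₀ ^ j) * b := by rw [ha' (x₀ ^ j)]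
      _ = x₀ ^ i * a * (x₀ ^ j * b) := by group
  have h5 := Cfsg.Agent.Lib.Helper3.SchurM.pow_index_mem_comm ((R : Subgroup S).comap ρ) x
    (hcen hxk) hx'
  rw [hVab, Subgroup.mem_bot, Subgroup.index_comap_of_surjective _ hρ] at h5
  have h6 : orderOf x ∣ (R : Subgroup S).index := orderOf_dvd_of_pow_eq_one h5
  exact R.not_dvd_index (hrx.trans h6)

include hρ hperf in
omit [Finite G] in
theorem commutator_sup_ker : commutator G ⊔ ρ.ker = ⊤ := by
  rw [eq_top_iff]
  intro g _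
  obtain ⟨c, hc, hcg⟩ := exists_commutator_lift ρ hρ hperf g
  have hk : c⁻¹ * g ∈ ρ.ker := by
    rw [MonoidHom.mem_ker, map_mul, map_inv, hcg, inv_mul_cancel]
  have h1 : g = c * (c⁻¹ * g) := by group
  rw [h1]
  exact Subgroup.mul_mem_sup hc hk

include hρ hperf hcyc hAodd hAab hAK in
/-- the commutator subgroup is isomorphic to `S` -/
theorem nonempty_commutator_equiv : Nonempty (↥(commutator G) ≃* S) := by
  have hinf := commutator_inf_ker ρ hρ hperf hcyc hAodd hAab hAK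
  refine ⟨MulEquiv.ofBijective (ρ.comp (commutator G).subtype) ⟨?_, ?_⟩⟩
  · rw [injective_iff_map_eq_one]
    intro c hc
    have h1 : c.1 ∈ commutator G ⊓ ρ.ker := Subgroup.mem_inf.mpr ⟨c.2, hc⟩
    rw [hinf, Subgroup.mem_bot] at h1
    exact Subtype.ext h1
  · intro s
    obtain ⟨g, rfl⟩ := hρ s
    obtain ⟨c, hc, hcg⟩ := exists_commutator_lift ρ hρ hperf g
    exact ⟨⟨c, hc⟩, hcg⟩

end Split

end Cfsg.Agent.Lib.Helper8.AbInv
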