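import Cfsg.Agent.Lib.Helper14.AltFP.Defs

/-!
# S2276 leaf CEB0 (ce_B0), core version with the C9d/C9e/C9f statements as hypotheses   (helper8)
-/

set_option autoImplicit false

namespace Cfsg.Agent.Lib.Helper8.AltFPLeaf

open Equiv Equiv.Perm Cfsg.Agent.Lib.Helper14.AltFP
open scoped commutatorElement

/-- a permutation all of whose cycles have length 3: cycle type is `replicate i 3`. -/
theorem cycleType_eq_replicate_three {n : ℕ} (u : Perm (Fin n)) (hu : ∀ a ∈ u.cycleType, a = 3) :
    u.cycleType = Multiset.replicate (Multiset.card u.cycleType) 3 :=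
  Multiset.eq_replicate_card.mpr hu

/-- parity disjunct: a nontrivial product of 3-cycles on `n ≥ 5` points has an odd centralizing element. -/
theorem not_centralizer_le_of_three {n : ℕ} (hn : 5 ≤ n) (u : Perm (Fin n)) (hu1 : u ≠ 1)
    (hu : ∀ a ∈ u.cycleType, a = 3) :
    ¬ Subgroup.centralizer {u} ≤ alternatingGroup (Fin n) := by
  intro hle
  rw [centralizer_le_alternating_iff] at hle
  obtain ⟨_, hcard, hcount⟩ := hle
  have hrep := cycleType_eq_replicate_three u hu
  set i := Multiset.card u.cycleType with hi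
  have hc3 : u.cycleType.count 3 = i := by
    rw [hrep, Multiset.count_replicate_self]
  have hi1 : i ≤ 1 := by rw [← hc3]; exact hcount 3
  have hsum : u.cycleType.sum = 3 * i := by
    rw [hrep, Multiset.sum_replicate, smul_eq_mul, mul_comm]
  rw [hsum, Fintype.card_fin] at hcard
  omega

theorem ce_B0_core
    (coreA5 : ∃ v c : Perm (Fin 5), v.cycleType = {3} ∧ c.cycleType = {3} ∧ Good 3 v c)
    (coreB6 : ∃ v c : Perm (Fin 6), v.cycleType = {3, 3} ∧ c.cycleType = {3, 3} ∧ Good 3 v c)
    (coreC6 : ∃ v c : Perm (Fin 6), v.cycleType = {3, 3} ∧ c.cycleType = {3} ∧ Good 3 v c)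
    (n : ℕ) (hn : 5 ≤ n) (u w : Perm (Fin n)) (hu1 : u ≠ 1) (hw1 : w ≠ 1)
    (hu : ∀ a ∈ u.cycleType, a = 3) (hw : ∀ a ∈ w.cycleType, a = 3) :
    HasCore 3 n u w ∨ HasCore 3 n w u := by
  have hurep := cycleType_eq_replicate_three u hu
  have hwrep := cycleType_eq_replicate_three w hw
  set i := Multiset.card u.cycleType with hi
  set j := Multiset.card w.cycleType with hj
  have hi1 : 1 ≤ i := by
    rcases Nat.eq_zero_or_pos i with h0 | h0
    · exfalso
      apply hu1
      rw [← cycleType_eq_zero, hurep, h0]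
      rfl
    · exact h0
  have hj1 : 1 ≤ j := by
    rcases Nat.eq_zero_or_pos j with h0 | h0
    · exfalso
      apply hw1
      rw [← cycleType_eq_zero, hwrep, h0]
      rfl
    · exact h0
  have husum : u.cycleType.sum = 3 * i := by
    rw [hurep, Multiset.sum_replicate, smul_eq_mul, mul_comm]
  have hwsum : w.cycleType.sum = 3 * j := by
    rw [hwrep, Multiset.sum_replicate, smul_eq_mul, mul_comm]
  have hin : 3 * i ≤ n := by
    have := u.sum_cycleType_le
    rw [husum, Fintype.card_fin] at this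
    exact this
  have hjn : 3 * j ≤ n := by
    have := w.sum_cycleType_le
    rw [hwsum, Fintype.card_fin] at this
    exact this
  have hparu := not_centralizer_le_of_three hn u hu1 hu
  have hparw := not_centralizer_le_of_three hn w hw1 hw
  -- sub-multiset and difference computations
  have hsub1 : ∀ k : ℕ, 1 ≤ k → ({3} : Multiset ℕ) ≤ Multiset.replicate k 3 := by
    intro k hk
    rw [Multiset.singleton_le]
    exact Multiset.mem_replicate.mpr ⟨by omega, rfl⟩
  have hsub2 : ∀ k : ℕ, 2 ≤ k → ({3, 3} : Multiset ℕ) ≤ Multiset.replicate k 3 := by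
    intro k hk
    have : ({3, 3} : Multiset ℕ) = Multiset.replicate 2 3 := rfl
    rw [this]
    exact (Multiset.replicate_le_replicate 3).mpr hk
  have hdiff : ∀ k l : ℕ, l ≤ k →
      (Multiset.replicate k 3 - Multiset.replicate l 3).sum = 3 * (k - l) := by
    intro k l hlk
    obtain ⟨m, rfl⟩ := Nat.exists_eq_add_of_le hlk
    rw [Multiset.replicate_add, add_tsub_cancel_left, Multiset.sum_replicate, smul_eq_mul]
    have : l + m - l = m := by omega
    rw [this, mul_comm]
  have h1rep : ({3} : Multiset ℕ) = Multiset.replicate 1 3 := rfl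
  have h2rep : ({3, 3} : Multiset ℕ) = Multiset.replicate 2 3 := rfl
  by_cases hA : 3 * i + 2 ≤ n ∧ 3 * j + 2 ≤ n
  · -- (C9d), d = 5
    obtain ⟨v, c, hv, hc, hg⟩ := coreA5
    left
    refine ⟨5, hn, v, c, ?_, ?_, ?_, ?_, hg, Or.inl hparu⟩
    · rw [hv, hurep]; exact hsub1 i hi1
    · rw [hc, hwrep]; exact hsub1 j hj1
    · rw [hv, hurep, h1rep, hdiff i 1 hi1]; omega
    · rw [hc, hwrep, h1rep, hdiff j 1 hj1]; omega
  · by_cases hB : 2 ≤ i ∧ 2 ≤ j
    · obtain ⟨v, c, hv, hc, hg⟩ := coreB6
      left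
      refine ⟨6, by omega, v, c, ?_, ?_, ?_, ?_, hg, Or.inl hparu⟩
      · rw [hv, hurep]; exact hsub2 i hB.1
      · rw [hc, hwrep]; exact hsub2 j hB.2
      · rw [hv, hurep, h2rep, hdiff i 2 hB.1]; omega
      · rw [hc, hwrep, h2rep, hdiff j 2 hB.2]; omega
    · obtain ⟨v, c, hv, hc, hg⟩ := coreC6
      by_cases hC : n ≤ 3 * i + 1
      · -- i ≥ 2, j = 1
        have hi2 : 2 ≤ i := by omega
        have hj' : j = 1 := by
          by_contra hne
          exact hB ⟨hi2, by omega⟩
        left
        refine ⟨6, by omega, v, c, ?_, ?_, ?_, ?_, hg, Or.inl hparu⟩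
        · rw [hv, hurep]; exact hsub2 i hi2
        · rw [hc, hwrep]; exact hsub1 j hj1
        · rw [hv, hurep, h2rep, hdiff i 2 hi2]; omega
        · rw [hc, hwrep, h1rep, hdiff j 1 hj1]; omega
      · have hC' : n ≤ 3 * j + 1 := by
          by_contra hne
          exact hA ⟨by omega, by omega⟩
        have hj2 : 2 ≤ j := by omega
        have hi' : i = 1 := by
          by_contra hne
          exact hB ⟨by omega, hj2⟩
        right
        refine ⟨6, by omega, v, c, ?_, ?_, ?_, ?_, hg, Or.inl hparw⟩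
        · rw [hv, hwrep]; exact hsub2 j hj2
        · rw [hc, hurep]; exact hsub1 i hi1
        · rw [hv, hwrep, h2rep, hdiff j 2 hj2]; omega
        · rw [hc, hurep, h1rep, hdiff i 1 hi1]; omega

end Cfsg.Agent.Lib.Helper8.AltFPLeaf
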