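import Mathlib

/-!
# Counting the conjugates of a TI-set (helper8)

`card_mul_ncard_conjSet`: if a set `T` is normalized by a subgroup `N` and every `g` carrying some
element of `T` into `T` lies in `N`, then `|N| * |⋃ T^g| = |G| * |T|`.
-/

set_option autoImplicit false

namespace Cfsg.Agent.Lib.Helper8.BGCount

variable {G : Type*} [Group G]

/-- the union of the conjugates of a set -/
def conjSet (T : Set G) : Set G := {a | ∃ g : G, ∃ t ∈ T, a = g * t * g⁻¹}

theorem mem_conjSet {T : Set G} {a : G} :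
    a ∈ conjSet T ↔ ∃ g : G, ∃ t ∈ T, a = g * t * g⁻¹ := Iff.rfl

theorem card_mul_ncard_conjSet [Finite G] (T : Set G) (N : Subgroup G)
    (hNT : ∀ n ∈ N, ∀ t ∈ T, n * t * n⁻¹ ∈ T)
    (hTI : ∀ g : G, ∀ t ∈ T, g * t * g⁻¹ ∈ T → g ∈ N) :
    Nat.card N * (conjSet T).ncard = Nat.card G * T.ncard := by
  classical
  have hrep : ∀ a : conjSet T, ∃ p : G × T, (a : G) = p.1 * (p.2 : G) * p.1⁻¹ := by
    rintro ⟨a, g, t, ht, rfl⟩
    exact ⟨(g, ⟨t, ht⟩), rfl⟩
  choose rep hrep' using hrep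
  have hmemN : ∀ (g : G) (t : T),
      (rep ⟨g * (t : G) * g⁻¹, g, t, t.2, rfl⟩).1⁻¹ * g ∈ N := by
    intro g t
    set a : conjSet T := ⟨g * (t : G) * g⁻¹, g, t, t.2, rfl⟩ with ha
    have h1 : (a : G) = (rep a).1 * ((rep a).2 : G) * (rep a).1⁻¹ := hrep' a
    have h2 : (a : G) = g * (t : G) * g⁻¹ := rfl
    apply hTI _ (t : G) t.2
    have : ((rep a).1⁻¹ * g) * (t : G) * ((rep a).1⁻¹ * g)⁻¹ = ((rep a).2 : G) := by
      have h3 : g * (t : G) * g⁻¹ = (rep a).1 * ((rep a).2 : G) * (rep a).1⁻¹ := by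
        rw [← h2, h1]
      calc ((rep a).1⁻¹ * g) * (t : G) * ((rep a).1⁻¹ * g)⁻¹
          = (rep a).1⁻¹ * (g * (t : G) * g⁻¹) * (rep a).1 := by group
        _ = (rep a).1⁻¹ * ((rep a).1 * ((rep a).2 : G) * (rep a).1⁻¹) * (rep a).1 := by rw [h3]
        _ = ((rep a).2 : G) := by group
    rw [this]
    exact (rep a).2.2
  let e : (conjSet T) × N → G × T := fun p =>
    ((rep p.1).1 * (p.2 : G), ⟨(p.2 : G)⁻¹ * ((rep p.1).2 : G) * (p.2 : G), by
      have := hNT _ (N.inv_mem p.2.2) _ (rep p.1).2.2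
      simpa using this⟩)
  have hbij : Function.Bijective e := by
    constructor
    · rintro ⟨a, n⟩ ⟨b, m⟩ hab
      simp only [e, Prod.mk.injEq, Subtype.mk.injEq] at hab
      obtain ⟨h1, h2⟩ := hab
      have hab' : (a : G) = (b : G) := by
        rw [hrep' a, hrep' b]
        have h3 : ((rep a).2 : G) = (n : G) * ((m : G)⁻¹ * ((rep b).2 : G) * (m : G)) * (n : G)⁻¹ := by
          rw [← h2]; group
        have h4 : (rep a).1 = (rep b).1 * (m : G) * (n : G)⁻¹ := by
          rw [← h1]; group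
        rw [h3, h4]; group
      have hab'' : a = b := Subtype.ext hab'
      subst hab''
      have : (n : G) = (m : G) := mul_left_cancel h1
      rw [Prod.mk.injEq]
      exact ⟨rfl, Subtype.ext this⟩
    · rintro ⟨g, t⟩
      refine ⟨(⟨g * (t : G) * g⁻¹, g, t, t.2, rfl⟩, ⟨_, hmemN g t⟩), ?_⟩
      set a : conjSet T := ⟨g * (t : G) * g⁻¹, g, t, t.2, rfl⟩ with ha
      have h1 : (a : G) = (rep a).1 * ((rep a).2 : G) * (rep a).1⁻¹ := hrep' a
      have h2 : (a : G) = g * (t : G) * g⁻¹ := rfl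
      have h3 : ((rep a).2 : G) = (rep a).1⁻¹ * (g * (t : G) * g⁻¹) * (rep a).1 := by
        rw [← h2, h1]; group
      have k1 : (rep a).1 * ((rep a).1⁻¹ * g) = g := by group
      have k2 : ((rep a).1⁻¹ * g)⁻¹ * ((rep a).2 : G) * ((rep a).1⁻¹ * g) = (t : G) := by
        rw [h3]
        generalize (rep a).1 = u
        group
      exact Prod.ext k1 (Subtype.ext k2)
  have hcard := Nat.card_eq_of_bijective e hbij
  rw [Nat.card_prod, Nat.card_prod] at hcard
  have h1 : Nat.card (conjSet T) = (conjSet T).ncard := Nat.card_coe_set_eq _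
  have h2 : Nat.card T = T.ncard := Nat.card_coe_set_eq _
  rw [h1, h2] at hcard
  rw [mul_comm, hcard]

end Cfsg.Agent.Lib.Helper8.BGCount
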