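/-
helper8: structure part of the (P)-kill (msg 1496/1505).  Part A: the partners of a maximal
subgroup `M` of Case II type (P).  For `X ≤ E` of prime order `p` and a maximal subgroup
`H ⊇ N_G(X)`: `Z = E ⊔ T ≤ H` (`T = C_{M_σ}(E)`), `X ≤ H_σ`, `H` not conjugate to `M`,
`σ(M) ∩ σ(H) = ∅`, `M_σ ∩ H = T`, `M ∩ H = Z`, and `H` is the only maximal subgroup containing
`N_G(X')` for any `X' ≤ E` of prime order in `σ(H)`.
-/
import Mathlib
import Cfsg.Agent.Lib.Helper24.BGC2TC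
import Cfsg.Agent.Lib.Helper9.BGSigPartC
import Cfsg.Agent.S1404

set_option autoImplicit false
set_option linter.unusedSectionVars false
set_option linter.unusedVariables false
set_option linter.style.haveILetI false

namespace Cfsg.Agent.Lib.Helper8.BGPS

open Cfsg.Agent.Lib.Helper17.BGC2 (CaseII FaithfulPair)
open Cfsg.Agent.Lib.Helper24.BGC2T (TypeP)
open Cfsg.Agent.Lib.Helper8 (mem_map_conj conj_mem_map_conj map_conj_map_conj map_conj_one
  map_conj_le_iff map_conj_eq_iff card_map_conj mem_normalizer_iff_map_conj IsSylIn)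

universe u

variable {G : Type u} [Group G]

/-- type (F) is impossible: no Case II configuration has a faithful pair. -/
def NoF (G : Type u) [Group G] : Prop :=
  ∀ M E E1 E3 : Subgroup G, CaseII M E E1 E3 → FaithfulPair E1 E3 → False

variable [Finite G] {M E E1 E3 : Subgroup G}

/-- the sets `σ` of two non-conjugate maximal subgroups are disjoint (S1378). -/
theorem sigma_disjoint_of_nonconj (hG : Cfsg.IsMinSimpleOddOrder G)
    (h28 : Cfsg.Agent.Lib.Helper17.BGR2.H1428 G) {M N : Subgroup G} (hM : IsCoatom M)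
    (hN : IsCoatom N) (hnc : ∀ g : G, N ≠ M.map (MulAut.conj g).toMonoidHom) {p : ℕ}
    (hpM : p ∈ Cfsg.sigma M) : p ∉ Cfsg.sigma N := by
  intro hpN
  obtain ⟨g, hg⟩ := (Cfsg.Agent.Lib.Helper9.BGSigPart.s1378_of_h1428 hG h28).2 M N hM hN
    ⟨p, hpM, hpN⟩
  exact hnc g hg

/-- the `σ`-cores of two maximal subgroups with disjoint `σ` meet trivially. -/
theorem sigmaCore_inf_sigmaCore_eq_bot {M N : Subgroup G}
    (hd : ∀ p : ℕ, p ∈ Cfsg.sigma M → p ∉ Cfsg.sigma N) :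
    Cfsg.sigmaCore M ⊓ Cfsg.sigmaCore N = ⊥ := by
  rw [← Subgroup.card_eq_one]
  by_contra hne
  obtain ⟨p, hp, hpd⟩ := Nat.exists_prime_and_dvd hne
  have h1 : p ∈ Cfsg.sigma M := Cfsg.Agent.Lib.Helper2.BGCor.primes_card_sigmaCore M p hp
    (hpd.trans (Subgroup.card_dvd_of_le inf_le_left))
  have h2 : p ∈ Cfsg.sigma N := Cfsg.Agent.Lib.Helper2.BGCor.primes_card_sigmaCore N p hp
    (hpd.trans (Subgroup.card_dvd_of_le inf_le_right))
  exact hd p h1 h2

section partner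

variable {X H : Subgroup G}

namespace TypeP'

/-- `E ≤ H`. -/
theorem E_le (t : TypeP M E E1 E3) (hXE : X ≤ E) (hXp : (Nat.card X).Prime)
    (hNH : Subgroup.normalizer (X : Set G) ≤ H) : E ≤ H :=
  (t.le_normalizer_prime hXE hXp).trans hNH

/-- `T = C_{M_σ}(E) ≤ H`. -/
theorem T_le (t : TypeP M E E1 E3) (hXE : X ≤ E)
    (hNH : Subgroup.normalizer (X : Set G) ≤ H) :
    Cfsg.sigmaCore M ⊓ Subgroup.centralizer (E : Set G) ≤ H :=
  (inf_le_right.trans (Subgroup.centralizer_le hXE)).trans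
    ((Subgroup.centralizer_le_normalizer _).trans hNH)

/-- the primes dividing `|E|` are not in `σ(M)`. -/
theorem not_sigma_of_dvd (t : TypeP M E E1 E3) {p : ℕ} (hp : p.Prime) (hd : p ∣ Nat.card E) :
    p ∉ Cfsg.sigma M := (t.kappa_of_dvd hp hd).2.2.1

/-- **G1**: `X ≤ H_σ`. -/
theorem X_le_sigmaCore (t : TypeP M E E1 E3) (hXE : X ≤ E) (hXp : (Nat.card X).Prime)
    (hH : IsCoatom H) (hNH : Subgroup.normalizer (X : Set G) ≤ H) : X ≤ Cfsg.sigmaCore H := by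
  apply Cfsg.Agent.Lib.Helper17.BGC2.corG1 t.c.hG t.c.h28 t.c.hM X (hXE.trans t.c.hEM) _ H hH hNH
  exact t.kappa_of_dvd hXp (Subgroup.card_dvd_of_le hXE)

/-- `|X| ∈ σ(H)`. -/
theorem card_mem_sigma (t : TypeP M E E1 E3) (hXE : X ≤ E) (hXp : (Nat.card X).Prime)
    (hH : IsCoatom H) (hNH : Subgroup.normalizer (X : Set G) ≤ H) :
    Nat.card X ∈ Cfsg.sigma H :=
  Cfsg.Agent.Lib.Helper2.BGCor.primes_card_sigmaCore H _ hXp
    (Subgroup.card_dvd_of_le (X_le_sigmaCore t hXE hXp hH hNH))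

/-- `H` is not conjugate to `M`. -/
theorem nonconj (t : TypeP M E E1 E3) (hXE : X ≤ E) (hXp : (Nat.card X).Prime)
    (hH : IsCoatom H) (hNH : Subgroup.normalizer (X : Set G) ≤ H) :
    ∀ g : G, H ≠ M.map (MulAut.conj g).toMonoidHom := by
  haveI : Fact (Nat.card X).Prime := ⟨hXp⟩
  have hκ := t.kappa_of_dvd hXp (Subgroup.card_dvd_of_le hXE)
  have hX1 : X ≠ ⊥ := by
    intro h0
    rw [h0, Subgroup.card_bot] at hXp
    exact Nat.not_prime_one hXp
  exact (Cfsg.Agent.Lib.Helper16.BGPrim.thm13_2_zero t.c.hG hH hκ.2.2.1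
    (Cfsg.Agent.Lib.Helper2.BGCor.pRankLE_one_of_kappa hκ)
    (IsPGroup.of_card (n := 1) (by rw [pow_one])) hX1 hNH).1

/-- `σ(M) ∩ σ(H) = ∅`. -/
theorem sigma_disjoint (t : TypeP M E E1 E3) (hXE : X ≤ E) (hXp : (Nat.card X).Prime)
    (hH : IsCoatom H) (hNH : Subgroup.normalizer (X : Set G) ≤ H) {q : ℕ}
    (hq : q ∈ Cfsg.sigma M) : q ∉ Cfsg.sigma H :=
  sigma_disjoint_of_nonconj t.c.hG t.c.h28 t.c.hM hH (nonconj t hXE hXp hH hNH) hq

/-- `M_σ ∩ H = T`. -/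
theorem sigmaCore_inf (t : TypeP M E E1 E3) (hXE : X ≤ E) (hXp : (Nat.card X).Prime)
    (hH : IsCoatom H) (hNH : Subgroup.normalizer (X : Set G) ≤ H) :
    Cfsg.sigmaCore M ⊓ H = Cfsg.sigmaCore M ⊓ Subgroup.centralizer (E : Set G) := by
  haveI : Fact (Nat.card X).Prime := ⟨hXp⟩
  have hκ := t.kappa_of_dvd hXp (Subgroup.card_dvd_of_le hXE)
  have hX1 : X ≠ ⊥ := by
    intro h0
    rw [h0, Subgroup.card_bot] at hXp
    exact Nat.not_prime_one hXp
  have hG := t.c.hG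
  rw [Cfsg.Agent.Lib.Helper16.BGPrim.thm13_2_c hG (Cfsg.Agent.Lib.Helper17.BGR2.h17 hG)
    (Cfsg.Agent.Lib.Helper17.BGR2.h18 hG) (Cfsg.Agent.Lib.Helper17.BGR2.h23 hG)
    (Cfsg.Agent.Lib.Helper17.BGR2.h24 hG) t.c.hM hH hκ.2.2.1
    (Cfsg.Agent.Lib.Helper2.BGCor.pRankLE_one_of_kappa hκ)
    (IsPGroup.of_card (n := 1) (by rw [pow_one])) hX1 (hXE.trans t.c.hEM) hNH]
  obtain ⟨x, hx, hx1⟩ := (Subgroup.bot_or_exists_ne_one _).resolve_left hX1
  apply le_antisymm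
  · rw [t.cent_E, ← t.cent_elem (hXE hx) hx1]
    refine inf_le_inf_left _ (Subgroup.centralizer_le ?_)
    rintro _ rfl
    exact hx
  · exact inf_le_inf_left _ (Subgroup.centralizer_le hXE)

/-- `M ∩ H = E T`. -/
theorem inf_eq (t : TypeP M E E1 E3) (hXE : X ≤ E) (hXp : (Nat.card X).Prime)
    (hH : IsCoatom H) (hNH : Subgroup.normalizer (X : Set G) ≤ H) :
    M ⊓ H = E ⊔ (Cfsg.sigmaCore M ⊓ Subgroup.centralizer (E : Set G)) := by
  apply le_antisymm
  · intro m hm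
    obtain ⟨a, ha, b, hb, rfl⟩ := t.c.hE.2.2.2 m hm.1
    have haH : a ∈ H := E_le t hXE hXp hNH ha
    have hbH : b ∈ H := by
      have : b = a⁻¹ * (a * b) := by group
      rw [this]
      exact H.mul_mem (H.inv_mem haH) hm.2
    have hbT : b ∈ Cfsg.sigmaCore M ⊓ Subgroup.centralizer (E : Set G) := by
      rw [← sigmaCore_inf t hXE hXp hH hNH]
      exact Subgroup.mem_inf.mpr ⟨hb, hbH⟩
    exact Subgroup.mul_mem _ (Subgroup.mem_sup_left ha) (Subgroup.mem_sup_right hbT)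
  · refine sup_le (le_inf t.c.hEM (E_le t hXE hXp hNH)) (le_inf ?_ (T_le t hXE hNH))
    exact inf_le_left.trans (Cfsg.Agent.Lib.Helper2.BGCor.sigmaCore_le M)

/-- **uniqueness of the partner**: if `|X'| ∈ σ(H)` for `X' ≤ E` of prime order, then `H` is the
only maximal subgroup containing `N_G(X')`. -/
theorem unique (t : TypeP M E E1 E3) (hXE : X ≤ E) (hXp : (Nat.card X).Prime)
    (hH : IsCoatom H) (hNH : Subgroup.normalizer (X : Set G) ≤ H) {X' H' : Subgroup G}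
    (hX'E : X' ≤ E) (hX'p : (Nat.card X').Prime) (hH' : IsCoatom H')
    (hNH' : Subgroup.normalizer (X' : Set G) ≤ H') (hσ : Nat.card X' ∈ Cfsg.sigma H) :
    H' = H := by
  have hG := t.c.hG
  haveI : Fact (Nat.card X').Prime := ⟨hX'p⟩
  have hσ' := card_mem_sigma t hX'E hX'p hH' hNH'
  obtain ⟨g, hg⟩ := (Cfsg.Agent.Lib.Helper9.BGSigPart.s1378_of_h1428 hG t.c.h28).2 H H' hH hH'
    ⟨_, hσ, hσ'⟩
  have hX'H : X' ≤ H := hX'E.trans (E_le t hXE hXp hNH)
  have hX'H' : X' ≤ H' := Subgroup.le_normalizer.trans hNH'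
  have hX'1 : X' ≠ ⊥ := by
    intro h0
    rw [h0, Subgroup.card_bot] at hX'p
    exact Nat.not_prime_one hX'p
  have hconj : X'.map (MulAut.conj g⁻¹).toMonoidHom ≤ H := by
    rw [map_conj_le_iff, inv_inv, ← hg]
    exact hX'H'
  obtain ⟨m, hm, c, hc, hgmc⟩ := (Cfsg.Agent.S1404.result hG H hH (Nat.card X') hσ X'
    (IsPGroup.of_card (n := 1) (by rw [pow_one])) hX'1 hX'H).1 g⁻¹ hconj
  have hcH' : c ∈ H' := hNH' (Subgroup.centralizer_le_normalizer _ hc)
  have hg' : g = c⁻¹ * m⁻¹ := by rw [← mul_inv_rev, ← hgmc, inv_inv]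
  have h1 : H.map (MulAut.conj m⁻¹).toMonoidHom = H :=
    mem_normalizer_iff_map_conj.mp (Subgroup.le_normalizer (H.inv_mem hm))
  have h2 : H' = H.map (MulAut.conj c⁻¹).toMonoidHom := by
    rw [hg, hg', ← map_conj_map_conj, h1]
  have h3 : H'.map (MulAut.conj c).toMonoidHom = H' :=
    mem_normalizer_iff_map_conj.mp (Subgroup.le_normalizer hcH')
  rw [h2, map_conj_map_conj, mul_inv_cancel, map_conj_one] at h3
  exact h2.trans h3.symm

/-- two partners are equal or have disjoint `σ`. -/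
theorem partner_sigma_disjoint (t : TypeP M E E1 E3) (hXE : X ≤ E) (hXp : (Nat.card X).Prime)
    (hH : IsCoatom H) (hNH : Subgroup.normalizer (X : Set G) ≤ H) {X' H' : Subgroup G}
    (hX'E : X' ≤ E) (hX'p : (Nat.card X').Prime) (hH' : IsCoatom H')
    (hNH' : Subgroup.normalizer (X' : Set G) ≤ H') (hne : H' ≠ H) {q : ℕ}
    (hq : q ∈ Cfsg.sigma H) : q ∉ Cfsg.sigma H' := by
  intro hq'
  obtain ⟨g, hg⟩ := (Cfsg.Agent.Lib.Helper9.BGSigPart.s1378_of_h1428 t.c.hG t.c.h28).2 H H' hH hH'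
    ⟨_, hq, hq'⟩
  apply hne
  apply unique t hXE hXp hH hNH hX'E hX'p hH' hNH'
  have h1 := card_mem_sigma t hX'E hX'p hH' hNH'
  rw [hg] at h1
  have h2 := Cfsg.Agent.Lib.Helper16.BGPrim.sigma_map_conj h1 g⁻¹
  rwa [map_conj_map_conj, inv_mul_cancel, map_conj_one] at h2

end TypeP'

end partner

end Cfsg.Agent.Lib.Helper8.BGPS
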