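/-
helper8: "Theorem T2" of notes/bg14/NOTES_h20.md sec.13: in Case II of type (P) (no faithful pair)
all conclusions of S1430 hold.  Part A: basics of type (P).
-/
import Mathlib
import Cfsg.Agent.Lib.Helper17.BGC2C
import Cfsg.Agent.Lib.Helper27.BGConjA
import Cfsg.Agent.Lib.Helper2.BGCorN

set_option autoImplicit false
set_option linter.unusedSectionVars false
set_option linter.unusedVariables false
set_option linter.style.haveILetI false

namespace Cfsg.Agent.Lib.Helper8.BGT2

open Cfsg.Agent.Lib.Helper17.BGC2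
open Cfsg.Agent.Lib.Helper8 (mem_map_conj conj_mem_map_conj map_conj_map_conj map_conj_one
  map_conj_le_iff map_conj_eq_iff card_map_conj mem_normalizer_iff_map_conj IsSylIn)

universe u

variable {G : Type u} [Group G]

/-- Type (P): no faithful pair, i.e. every element of prime order of `E₁` centralizes every
subgroup of prime order of `E₃`. -/
def NoFaithful (E1 E3 : Subgroup G) : Prop :=
  ∀ X : Subgroup G, X ≤ E3 → (Nat.card X).Prime → ∀ x ∈ E1, (orderOf x).Prime →
    ∀ a ∈ X, x * a = a * x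

variable [Finite G] {M E E1 E3 : Subgroup G}

/-- In type (P): `C_{M_σ}(E₁) = C_{M_σ}(E₃)`. -/
theorem T1_eq_T3 (h : CaseII M E E1 E3) (hnf : NoFaithful E1 E3) :
    Cfsg.sigmaCore M ⊓ Subgroup.centralizer (E1 : Set G) =
      Cfsg.sigmaCore M ⊓ Subgroup.centralizer (E3 : Set G) := by
  obtain ⟨k, hk3, hko, -⟩ := h.exists_prime_order_E3
  set p := orderOf k with hp
  haveI : Fact p.Prime := ⟨hko⟩
  set X : Subgroup G := Subgroup.zpowers k with hX
  have hXE3 : X ≤ E3 := Subgroup.zpowers_le.mpr hk3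
  have hXp : Nat.card X = p := by rw [hX, Nat.card_zpowers]
  obtain ⟨r, R, hr, hR, y, hyR, a, haX, hne⟩ := h.exists_nontrivial_pair hXE3 hXp
  haveI : Fact r.Prime := ⟨hr⟩
  have hRp : IsPGroup r R := hR.isPGroup
  have hR1 : R ≠ ⊥ := by
    intro hb
    rw [hb, Subgroup.mem_bot] at hyR
    apply hne
    rw [hyR, one_mul, mul_one]
  obtain ⟨x, hxR, hxr⟩ := exists_orderOf_eq_of_isPGroup hRp hR1
  have hxE1 : x ∈ E1 := hR.1 hxR
  have hxX : ∀ a ∈ X, x * a = a * x :=
    hnf X hXE3 (by rw [hXp]; exact hko) x hxE1 (by rw [hxr]; exact hr)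
  exact h.T1_eq_T3_of_typeN hXE3 hXp hR.1 hRp hxR hxr hxX ⟨y, hyR, a, haX, hne⟩


omit [Finite G] in
/-- An element `x` normalizing an abelian subgroup `A`, of order coprime to `|A|`, which commutes
with all elements of prime order of `A`, centralizes `A`. -/
theorem comm_of_comm_prime_order [Finite G] {A : Subgroup G}
    (hA : ∀ a ∈ A, ∀ b ∈ A, a * b = b * a) {x : G}
    (hxA : x ∈ Subgroup.normalizer (A : Set G)) (hcop : (orderOf x).Coprime (Nat.card A))
    (hprime : ∀ c ∈ A, (orderOf c).Prime → x * c = c * x) : ∀ a ∈ A, x * a = a * x := by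
  have key : ∀ n : ℕ, ∀ a ∈ A, orderOf a = n → x * a = a * x := by
    intro n
    induction n using Nat.strong_induction_on with
    | _ n ih =>
      intro a ha hn
      by_cases ha1 : a = 1
      · subst ha1; simp
      have ho1 : orderOf a ≠ 1 := fun h => ha1 (orderOf_eq_one_iff.mp h)
      obtain ⟨s, hs, hsd⟩ := Nat.exists_prime_and_dvd ho1
      have hlt : orderOf (a ^ s) < n := by
        rw [orderOf_pow_of_dvd hs.ne_zero hsd, ← hn]
        exact Nat.div_lt_self (orderOf_pos a) hs.one_lt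
      have has : x * a ^ s = a ^ s * x := ih _ hlt (a ^ s) (A.pow_mem ha s) rfl
      have hxax : x * a * x⁻¹ ∈ A := (Subgroup.mem_normalizer_iff.mp hxA a).mp ha
      set c : G := x * a * x⁻¹ * a⁻¹ with hc
      have hcA : c ∈ A := A.mul_mem hxax (A.inv_mem ha)
      have hcs : c ^ s = 1 := by
        rw [hc, (show Commute (x * a * x⁻¹) a⁻¹ from hA _ hxax _ (A.inv_mem ha)).mul_pow,
          conj_pow, inv_pow]
        have : x * a ^ s * x⁻¹ = a ^ s := by rw [has, mul_inv_cancel_right]
        rw [this, mul_inv_cancel]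
      by_cases hc1 : c = 1
      · have : x * a * x⁻¹ = a := by
          have := hc1
          rw [hc, mul_inv_eq_one] at this
          exact this
        calc x * a = x * a * x⁻¹ * x := by group
          _ = a * x := by rw [this]
      · exfalso
        have hco : orderOf c = s := by
          have hd := orderOf_dvd_of_pow_eq_one hcs
          rcases (Nat.dvd_prime hs).mp hd with h | h
          · exact absurd (orderOf_eq_one_iff.mp h) hc1
          · exact h
        have hxc : x * c = c * x := hprime c hcA (by rw [hco]; exact hs)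
        have hconj : ∀ j : ℕ, x ^ j * a * (x ^ j)⁻¹ = c ^ j * a := by
          intro j
          induction j with
          | zero => simp
          | succ j ihj =>
            have hxcj : x * c ^ j = c ^ j * x := by
              have : Commute x (c ^ j) := (show Commute x c from hxc).pow_right j
              exact this
            calc x ^ (j + 1) * a * (x ^ (j + 1))⁻¹
                = x * (x ^ j * a * (x ^ j)⁻¹) * x⁻¹ := by rw [pow_succ']; group
              _ = x * (c ^ j * a) * x⁻¹ := by rw [ihj]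
              _ = (x * c ^ j) * a * x⁻¹ := by group
              _ = c ^ j * (x * a * x⁻¹) := by rw [hxcj]; group
              _ = c ^ j * (c * a) := by
                    have : x * a * x⁻¹ = c * a := by rw [hc]; group
                    rw [this]
              _ = c ^ (j + 1) * a := by rw [pow_succ]; group
        have h1 := hconj (orderOf x)
        rw [pow_orderOf_eq_one, one_mul, inv_one, mul_one] at h1
        have h2 : c ^ orderOf x = 1 := by
          have : c ^ orderOf x * a = 1 * a := by rw [one_mul]; exact h1.symm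
          exact mul_right_cancel this
        have h3 : s ∣ orderOf x := hco ▸ orderOf_dvd_of_pow_eq_one h2
        have h4 : s ∣ Nat.card A := by
          rw [← hco]
          have := orderOf_dvd_natCard (⟨c, hcA⟩ : ↥A)
          rwa [Subgroup.orderOf_mk] at this
        have h5 : s ∣ 1 := by
          have := Nat.dvd_gcd h3 h4
          rwa [hcop] at this
        exact hs.one_lt.ne' (Nat.dvd_one.mp h5)
  intro a ha
  exact key _ a ha rfl


/-- `T₃ = C_{M_σ}(E)` in type (P). -/
theorem T3_eq_centE (h : CaseII M E E1 E3) (hnf : NoFaithful E1 E3) :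
    Cfsg.sigmaCore M ⊓ Subgroup.centralizer (E3 : Set G) =
      Cfsg.sigmaCore M ⊓ Subgroup.centralizer (E : Set G) := by
  apply le_antisymm
  · intro y hy
    have hy1 : y ∈ Cfsg.sigmaCore M ⊓ Subgroup.centralizer (E1 : Set G) := by
      rw [T1_eq_T3 h hnf]; exact hy
    refine ⟨hy.1, ?_⟩
    show y ∈ Subgroup.centralizer (E : Set G)
    rw [Subgroup.mem_centralizer_iff]
    intro e he
    obtain ⟨a, ha, b, hb, rfl⟩ := h.mem_E he
    have h3 := Subgroup.mem_centralizer_iff.mp hy.2 a ha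
    have h1 := Subgroup.mem_centralizer_iff.mp hy1.2 b hb
    calc a * b * y = a * (b * y) := by group
      _ = a * (y * b) := by rw [h1]
      _ = (a * y) * b := by group
      _ = (y * a) * b := by rw [h3]
      _ = y * (a * b) := by group
  · exact inf_le_inf_left _ (Subgroup.centralizer_le (by exact_mod_cast h.hE3E))

/-- an element of `E` of prime order in `τ₃(M)` lies in `E₃`. -/
theorem mem_E3_of_tau3 (h : CaseII M E E1 E3) {e : G} (he : e ∈ E) (heo : (orderOf e).Prime)
    (h3 : orderOf e ∈ Cfsg.tau3 M) : e ∈ E3 := by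
  have hz : Subgroup.zpowers e ≤ E := Subgroup.zpowers_le.mpr he
  obtain ⟨g, hg, hconj⟩ := Cfsg.Agent.Lib.Helper27.BGConj.exists_conj_le_of_pi (Cfsg.tau3 M)
    h.solvable_E h.hE3E hz (fun t ht htd => by
      rw [Nat.card_zpowers] at htd
      rw [(Nat.prime_dvd_prime_iff_eq ht heo).mp htd]; exact h3) h.hE3.2.2
  have h1 : g * e * g⁻¹ ∈ E3 := hconj (conj_mem_map_conj (Subgroup.mem_zpowers e))
  have h2 : g⁻¹ ∈ Subgroup.normalizer (E3 : Set G) := h.E_le_normE3 (E.inv_mem hg)
  have h3' := (Subgroup.mem_normalizer_iff.mp h2 (g * e * g⁻¹)).mp h1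
  have : g⁻¹ * (g * e * g⁻¹) * g⁻¹⁻¹ = e := by group
  rwa [this] at h3'

/-- an element of `E` of prime order in `τ₁(M)` is `E`-conjugate into `E₁`. -/
theorem exists_conj_mem_E1 (h : CaseII M E E1 E3) {e : G} (he : e ∈ E) (heo : (orderOf e).Prime)
    (h1 : orderOf e ∈ Cfsg.tau1 M) : ∃ g ∈ E, g * e * g⁻¹ ∈ E1 := by
  have hz : Subgroup.zpowers e ≤ E := Subgroup.zpowers_le.mpr he
  obtain ⟨g, hg, hconj⟩ := Cfsg.Agent.Lib.Helper27.BGConj.exists_conj_le_of_pi (Cfsg.tau1 M)
    h.solvable_E h.hE1E hz (fun t ht htd => by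
      rw [Nat.card_zpowers] at htd
      rw [(Nat.prime_dvd_prime_iff_eq ht heo).mp htd]; exact h1) h.hE1.2.2
  exact ⟨g, hg, hconj (conj_mem_map_conj (Subgroup.mem_zpowers e))⟩

/-- in type (P) every element of prime order of `E₁` is central in `E`. -/
theorem central_of_prime_E1 (h : CaseII M E E1 E3) (hnf : NoFaithful E1 E3) {x : G}
    (hx : x ∈ E1) (hxo : (orderOf x).Prime) : ∀ e ∈ E, x * e = e * x := by
  have hxE3 : ∀ a ∈ E3, x * a = a * x := by
    apply comm_of_comm_prime_order h.E3_comm (h.E_le_normE3 (h.hE1E hx))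
    · have hd : orderOf x ∣ Nat.card E1 := by
        have := orderOf_dvd_natCard (⟨x, hx⟩ : ↥E1)
        rwa [Subgroup.orderOf_mk] at this
      exact (Nat.Coprime.coprime_dvd_left hd h.coprime_E3_E1.symm)
    · intro c hc hco
      exact hnf (Subgroup.zpowers c) (Subgroup.zpowers_le.mpr hc)
        (by rw [Nat.card_zpowers]; exact hco) x hx hxo c (Subgroup.mem_zpowers c)
  intro e he
  obtain ⟨a, ha, b, hb, rfl⟩ := h.mem_E he
  have h3 := hxE3 a ha
  have h1 := h.E1_comm x hx b hb
  calc x * (a * b) = (x * a) * b := by group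
    _ = (a * x) * b := by rw [h3]
    _ = a * (x * b) := by group
    _ = a * (b * x) := by rw [h1]
    _ = a * b * x := by group

/-- in type (P) an element of `E` of prime order in `τ₁(M)` lies in `E₁` and is central in `E`. -/
theorem mem_E1_of_tau1 (h : CaseII M E E1 E3) (hnf : NoFaithful E1 E3) {e : G} (he : e ∈ E)
    (heo : (orderOf e).Prime) (h1 : orderOf e ∈ Cfsg.tau1 M) :
    e ∈ E1 ∧ ∀ e' ∈ E, e * e' = e' * e := by
  obtain ⟨g, hg, hge⟩ := exists_conj_mem_E1 h he heo h1
  have ho : orderOf (g * e * g⁻¹) = orderOf e := by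
    have := orderOf_injective (MulAut.conj g).toMonoidHom (MulAut.conj g).injective e
    simpa using this
  have hc := central_of_prime_E1 h hnf hge (by rw [ho]; exact heo)
  have heq : g * e * g⁻¹ = e := by
    have hz : g * e * g⁻¹ * g = g * (g * e * g⁻¹) := hc g hg
    have h2 : g * e = g * (g * e * g⁻¹) := by rw [← hz]; group
    exact (mul_left_cancel h2).symm
  rw [heq] at hge hc
  exact ⟨hge, hc⟩


/-- the order of an element of `E` divides `|E|`. -/
theorem orderOf_dvd_card_of_mem {E : Subgroup G} {e : G} (he : e ∈ E) :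
    orderOf e ∣ Nat.card E := by
  have := orderOf_dvd_natCard (⟨e, he⟩ : ↥E)
  rwa [Subgroup.orderOf_mk] at this

/-- type (P), prime action of `E`, elements of prime order. -/
theorem cent_prime_E (h : CaseII M E E1 E3) (hnf : NoFaithful E1 E3) {e : G} (he : e ∈ E)
    (heo : (orderOf e).Prime) :
    Cfsg.sigmaCore M ⊓ Subgroup.centralizer ({e} : Set G) =
      Cfsg.sigmaCore M ⊓ Subgroup.centralizer (E : Set G) := by
  have he1 : e ≠ 1 := by
    rintro rfl
    rw [orderOf_one] at heo
    exact Nat.not_prime_one heo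
  rcases h.tau1_or_tau3 heo (orderOf_dvd_card_of_mem he) with h1 | h3
  · obtain ⟨heE1, -⟩ := mem_E1_of_tau1 h hnf he heo h1
    rw [h.cent_E1 heE1 he1, T1_eq_T3 h hnf, T3_eq_centE h hnf]
  · rw [h.cent_E3 (mem_E3_of_tau3 h he heo h3) he1, T3_eq_centE h hnf]

/-- type (P), prime action of `E`: `C_{M_σ}(e) = C_{M_σ}(E)` for all `e ∈ E^#`. -/
theorem cent_E (h : CaseII M E E1 E3) (hnf : NoFaithful E1 E3) {e : G} (he : e ∈ E)
    (he1 : e ≠ 1) :
    Cfsg.sigmaCore M ⊓ Subgroup.centralizer ({e} : Set G) =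
      Cfsg.sigmaCore M ⊓ Subgroup.centralizer (E : Set G) := by
  apply le_antisymm
  · obtain ⟨j, p, hp, hjo, -⟩ := Cfsg.Agent.Lib.Helper2.BGCor.exists_pow_prime_order' he1
    rw [← cent_prime_E h hnf (E.pow_mem he j) (by rw [hjo]; exact hp)]
    apply inf_le_inf_left
    intro y hy
    rw [Subgroup.mem_centralizer_singleton_iff] at hy ⊢
    exact (Commute.pow_right (show Commute y e from hy) j)
  · apply inf_le_inf_left
    apply Subgroup.centralizer_le
    intro z hz
    rw [Set.mem_singleton_iff] at hz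
    rw [hz]; exact he

/-- type (P): every subgroup of prime order of `E` is normal in `E`. -/
theorem le_normalizer_of_prime (h : CaseII M E E1 E3) (hnf : NoFaithful E1 E3) {X : Subgroup G}
    (hXE : X ≤ E) (hXp : (Nat.card X).Prime) : E ≤ Subgroup.normalizer (X : Set G) := by
  have hX1 : X ≠ ⊥ := by
    intro hb
    rw [hb, Subgroup.card_bot] at hXp
    exact Nat.not_prime_one hXp
  obtain ⟨u, hu1⟩ := (Subgroup.ne_bot_iff_exists_ne_one).mp hX1
  have hu1' : (u : G) ≠ 1 := fun hh => hu1 (Subtype.ext hh)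
  have hXz : X = Subgroup.zpowers (u : G) := eq_zpowers_of_card_prime hXp rfl u.2 hu1'
  have huo : orderOf (u : G) = Nat.card X := by
    conv_rhs => rw [hXz]
    rw [Nat.card_zpowers]
  have huo' : (orderOf (u : G)).Prime := by rw [huo]; exact hXp
  rcases h.tau1_or_tau3 huo' (orderOf_dvd_card_of_mem (hXE u.2)) with h1 | h3
  · obtain ⟨-, hc⟩ := mem_E1_of_tau1 h hnf (hXE u.2) huo' h1
    intro e he
    rw [hXz]
    apply Subgroup.centralizer_le_normalizer
    rw [Subgroup.mem_centralizer_iff]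
    intro z hz
    have hz' : z ∈ Subgroup.zpowers (u : G) := hz
    obtain ⟨k, rfl⟩ := Subgroup.mem_zpowers_iff.mp hz'
    exact ((show Commute (u : G) e from hc e he).zpow_left k).eq
  · have hXE3 : X ≤ E3 := by
      rw [hXz]
      exact Subgroup.zpowers_le.mpr (mem_E3_of_tau3 h (hXE u.2) huo' h3)
    exact h.E_le_normalizer hXE3

/-- In Case II every prime divisor of `|M|` outside `σ(M)` is in `κ(M)` (`M` is of type `P₁`). -/
theorem mem_kappa_of_dvd (h : CaseII M E E1 E3) {q : ℕ} (hq : q.Prime) (hqM : q ∣ Nat.card M)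
    (hqσ : q ∉ Cfsg.sigma M) : q ∈ Cfsg.kappa M := by
  have hqE := Cfsg.Agent.Lib.Helper2.BGCor.dvd_card_compl h.hE hq hqM hqσ
  rcases h.tau1_or_tau3 hq hqE with h1 | h3
  · exact h.tau1_subset_kappa h1
  · exact h.tau3_subset_kappa h3

open Cfsg.Agent.Lib.Helper17.BGR2 in
/-- Case II for a prescribed complement. -/
theorem exists_caseII_of_compl (hG : Cfsg.IsMinSimpleOddOrder G)
    (h28 : Cfsg.Agent.Lib.Helper17.BGR2.H1428 G)
    {M : Subgroup G} (hM : IsCoatom M) {E : Subgroup G}
    (hE : Cfsg.IsComplIn E (Cfsg.sigmaCore M) M) {s : ℕ} (hsκ : s ∈ Cfsg.kappa M)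
    (hs3 : s ∈ Cfsg.tau3 M) : ∃ E1 E3 : Subgroup G, CaseII M E E1 E3 := by
  haveI : Group.IsSolvable ↥M := hG.2.2.2 M hM.1
  haveI : Group.IsSolvable ↥E :=
    Group.isSolvable_of_isSolvable_injective (Subgroup.inclusion_injective hE.1)
  have hbot : ∀ π : Set ℕ, ∀ p : ℕ, p.Prime → p ∣ Nat.card (⊥ : Subgroup G) → p ∈ π := by
    intro π p hp hd
    rw [Subgroup.card_bot] at hd
    exact absurd (Nat.dvd_one.mp hd) hp.one_lt.ne'
  obtain ⟨E1, hE1, -⟩ := Cfsg.Agent.Lib.Helper16.BGPrim.exists_hall_ge' (Cfsg.tau1 M)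
    (bot_le : (⊥ : Subgroup G) ≤ E) (hbot _)
  obtain ⟨E3, hE3, -⟩ := Cfsg.Agent.Lib.Helper16.BGPrim.exists_hall_ge' (Cfsg.tau3 M)
    (bot_le : (⊥ : Subgroup G) ≤ E) (hbot _)
  have hsp : s.Prime := hsκ.1
  haveI : Fact s.Prime := ⟨hsp⟩
  have hsE : s ∣ Nat.card E :=
    Cfsg.Agent.Lib.Helper2.BGCor.dvd_card_compl hE hsp hsκ.2.1 hsκ.2.2.1
  have hsE3 : s ∣ Nat.card E3 := by
    have h2 : Nat.card E3 * E3.relIndex E = Nat.card E := by
      have := (E3.subgroupOf E).card_mul_index
      rwa [Cfsg.Agent.Lib.Helper1.card_subgroupOf_of_le hE3.1] at this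
    rw [← h2] at hsE
    exact ((Nat.Prime.dvd_mul hsp).mp hsE).resolve_right (hE3.2.2 s hsp hs3)
  obtain ⟨z, hz⟩ := exists_prime_orderOf_dvd_card' s hsE3
  have hzo : orderOf (z : G) = s := by rw [Subgroup.orderOf_coe, hz]
  have hz1 : (z : G) ≠ 1 := by
    intro h1
    rw [h1, orderOf_one] at hzo
    exact hsp.one_lt.ne hzo
  have hE3ne : E3 ≠ ⊥ := by
    intro h0
    have h1 : (z : G) ∈ (⊥ : Subgroup G) := h0 ▸ z.2
    exact hz1 (Subgroup.mem_bot.mp h1)
  obtain ⟨y, hy, hy1, hzy⟩ :=
    Cfsg.Agent.Lib.Helper2.BGCor.kappa_cent hsκ (hE.1 (hE3.1 z.2)) hzo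
  have h3b := Cfsg.Agent.Lib.Helper16.BGPrim.thm13_3_b hG (h17 hG) (h18 hG) (h23 hG) (h24 hG)
    hM hE hE3 (z : G) z.2 hz1
  refine ⟨E1, E3, hG, h28, hM, hE, hE1, hE3, hE3ne, ?_⟩
  intro h0
  apply hy1
  have : y ∈ Cfsg.sigmaCore M ⊓ Subgroup.centralizer ({(z : G)} : Set G) := by
    refine Subgroup.mem_inf.mpr ⟨hy, ?_⟩
    rw [Subgroup.mem_centralizer_singleton_iff]
    exact hzy.symm
  rw [h3b, h0, Subgroup.mem_bot] at this
  exact this

end Cfsg.Agent.Lib.Helper8.BGT2
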