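/-
helper8: "Theorem T2" of notes/bg14/NOTES_h20.md sec.13, part B: the conclusion of S1430 in Case II
of type (P) (no faithful pair).
-/
import Mathlib
import Cfsg.Agent.Lib.Helper8.BGT2A

set_option autoImplicit false
set_option linter.unusedSectionVars false
set_option linter.unusedVariables false
set_option linter.style.haveILetI false

namespace Cfsg.Agent.Lib.Helper8.BGT2

open Cfsg.Agent.Lib.Helper17.BGC2
open Cfsg.Agent.Lib.Helper2.BGCor (T142 le_normalizer_sigmaCore)

universe u

variable {G : Type u} [Group G] [Finite G] {M E E1 E3 : Subgroup G}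

/-- In Case II a Hall `κ(M)`-subgroup contained in the complement `E` is `E`. -/
theorem eq_of_hall_kappa_le (h : CaseII M E E1 E3) {K : Subgroup G}
    (hK : Cfsg.IsPiHallOf (Cfsg.kappa M) K M) (hKE : K ≤ E) : K = E := by
  by_contra hne
  have h1 : K.relIndex E ≠ 1 := by
    intro h1
    apply hne
    apply le_antisymm hKE
    exact Subgroup.relIndex_eq_one.mp h1
  obtain ⟨q, hq, hqd⟩ := Nat.exists_prime_and_dvd h1
  have hqE : q ∣ Nat.card E := by
    have h2 : Nat.card K * K.relIndex E = Nat.card E := by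
      have := (K.subgroupOf E).card_mul_index
      rwa [Cfsg.Agent.Lib.Helper1.card_subgroupOf_of_le hKE] at this
    rw [← h2]
    exact Dvd.dvd.mul_left hqd _
  have hqM : q ∣ Nat.card M := hqE.trans (Subgroup.card_dvd_of_le h.hEM)
  have hqσ : q ∉ Cfsg.sigma M :=
    Cfsg.Agent.Lib.Helper23.BGY.not_mem_sigma_of_dvd_compl h.hG h.hM h.hE hq hqE
  have hqκ := mem_kappa_of_dvd h hq hqM hqσ
  apply hK.2.2 q hq hqκ
  rw [← Subgroup.relIndex_mul_relIndex K E M hKE h.hEM]
  exact Dvd.dvd.mul_right hqd _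

/-- elements of `M_σ` normalizing a subgroup `X` of the complement `E` centralize it. -/
theorem comm_of_mem_normalizer_of_le_compl {M E X : Subgroup G}
    (hE : Cfsg.IsComplIn E (Cfsg.sigmaCore M) M) (hXE : X ≤ E) {b : G}
    (hb : b ∈ Cfsg.sigmaCore M) (hbX : b ∈ Subgroup.normalizer (X : Set G)) :
    ∀ u ∈ X, b * u = u * b := by
  intro u hu
  have h1 : b * u * b⁻¹ ∈ X := (Subgroup.mem_normalizer_iff.mp hbX u).mp hu
  have h2 : b * u * b⁻¹ * u⁻¹ ∈ E := hXE (X.mul_mem h1 (X.inv_mem hu))
  have huM : u ∈ M := hE.1 (hXE hu)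
  have h3 : u * b⁻¹ * u⁻¹ ∈ Cfsg.sigmaCore M :=
    (Subgroup.mem_normalizer_iff.mp (le_normalizer_sigmaCore M huM) b⁻¹).mp
      ((Cfsg.sigmaCore M).inv_mem hb)
  have h4 : b * u * b⁻¹ * u⁻¹ ∈ Cfsg.sigmaCore M := by
    have : b * u * b⁻¹ * u⁻¹ = b * (u * b⁻¹ * u⁻¹) := by group
    rw [this]
    exact (Cfsg.sigmaCore M).mul_mem hb h3
  have h5 : b * u * b⁻¹ * u⁻¹ ∈ E ⊓ Cfsg.sigmaCore M := ⟨h2, h4⟩
  rw [hE.2.2.1, Subgroup.mem_bot] at h5
  calc b * u = (b * u * b⁻¹ * u⁻¹) * (u * b) := by group
    _ = u * b := by rw [h5, one_mul]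

/-- **Theorem T2**, the conclusion of S1430 for `K = E` in type (P). -/
theorem typeP_t142_E (h : CaseII M E E1 E3) (hnf : NoFaithful E1 E3) : T142 M E := by
  have hG := h.hG
  have hM := h.hM
  have hE := h.hE
  set T : Subgroup G := Cfsg.sigmaCore M ⊓ Subgroup.centralizer (E : Set G) with hT
  have hTM : T ≤ M := inf_le_left.trans hE.2.1
  refine ⟨fun k hk hk1 => cent_E h hnf hk hk1, ?_, ?_⟩
  · refine ⟨⊥, ⟨⟨fun a b => Subsingleton.elim _ _⟩⟩, ⟨bot_le, ?_, ?_⟩, ?_, ?_⟩
    · intro p hp hd
      rw [Subgroup.card_bot] at hd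
      exact absurd (Nat.dvd_one.mp hd) hp.one_lt.ne'
    · intro p hp hpπ hd
      rw [Subgroup.relIndex_bot_left] at hd
      exact hpπ.2.1 (mem_kappa_of_dvd h hp hd hpπ.2.2)
    · intro k _
      rw [Subgroup.mem_normalizer_iff]
      intro x
      simp only [Subgroup.mem_bot]
      constructor
      · rintro rfl; group
      · intro hx
        have : x = k⁻¹ * (k * x * k⁻¹) * k := by group
        rw [this, hx]; group
    · intro k _ _
      exact bot_inf_eq _
  · intro X hXE hXp
    have hEX : E ≤ Subgroup.normalizer (X : Set G) := le_normalizer_of_prime h hnf hXE hXp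
    have hX1 : X ≠ ⊥ := by
      intro hb
      rw [hb, Subgroup.card_bot] at hXp
      exact Nat.not_prime_one hXp
    obtain ⟨u, hu1⟩ := (Subgroup.ne_bot_iff_exists_ne_one).mp hX1
    have hu1' : (u : G) ≠ 1 := fun hh => hu1 (Subtype.ext hh)
    have hTC : T ≤ Subgroup.centralizer (E : Set G) := inf_le_right
    refine ⟨?_, ?_, ?_⟩
    · apply le_antisymm
      · intro m hm
        obtain ⟨a, ha, b, hb, rfl⟩ := hE.2.2.2 m hm.1
        have hbN : b ∈ Subgroup.normalizer (X : Set G) := by
          have : b = a⁻¹ * (a * b) := by group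
          rw [this]
          exact Subgroup.mul_mem _ (Subgroup.inv_mem _ (hEX ha)) hm.2
        have hbc := comm_of_mem_normalizer_of_le_compl hE hXE hb hbN
        have hbT : b ∈ T := by
          rw [hT, ← cent_E h hnf (hXE u.2) hu1']
          refine ⟨hb, ?_⟩
          show b ∈ Subgroup.centralizer ({(u : G)} : Set G)
          rw [Subgroup.mem_centralizer_singleton_iff]
          exact hbc u u.2
        exact Subgroup.mul_mem _ (Subgroup.mem_sup_left ha) (Subgroup.mem_sup_right hbT)
      · apply sup_le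
        · exact le_inf h.hEM hEX
        · apply le_inf hTM
          refine le_trans ?_ (Subgroup.centralizer_le_normalizer _)
          exact hTC.trans (Subgroup.centralizer_le (by exact_mod_cast hXE))
    · apply le_antisymm
      · intro m hm
        obtain ⟨a, ha, b, hb, rfl⟩ := hE.2.2.2 m hm.1
        have hbN : b ∈ Subgroup.normalizer (E : Set G) := by
          have : b = a⁻¹ * (a * b) := by group
          rw [this]
          exact Subgroup.mul_mem _ (Subgroup.inv_mem _ (Subgroup.le_normalizer ha)) hm.2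
        have hbc := comm_of_mem_normalizer_of_le_compl hE le_rfl hb hbN
        have hbT : b ∈ T := by
          refine ⟨hb, ?_⟩
          show b ∈ Subgroup.centralizer (E : Set G)
          rw [Subgroup.mem_centralizer_iff]
          intro e he
          exact (hbc e he).symm
        exact Subgroup.mul_mem _ (Subgroup.mem_sup_left ha) (Subgroup.mem_sup_right hbT)
      · apply sup_le
        · exact le_inf h.hEM Subgroup.le_normalizer
        · exact le_inf hTM (hTC.trans (Subgroup.centralizer_le_normalizer _))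
    · intro Mstar hMstar hN
      have hq : (Nat.card X).Prime := hXp
      have hqE : Nat.card X ∣ Nat.card E := Subgroup.card_dvd_of_le hXE
      have hqM : Nat.card X ∣ Nat.card M := hqE.trans (Subgroup.card_dvd_of_le h.hEM)
      have hqσ : Nat.card X ∉ Cfsg.sigma M :=
        Cfsg.Agent.Lib.Helper23.BGY.not_mem_sigma_of_dvd_compl hG hM hE hq hqE
      exact corG1 hG h.h28 hM X (hXE.trans h.hEM) (mem_kappa_of_dvd h hq hqM hqσ) Mstar hMstar hN

/-- **Theorem T2**: the conclusion of S1430 for a Hall `κ(M)`-subgroup `K ≤ E` in type (P). -/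
theorem typeP_t142 (h : CaseII M E E1 E3) (hnf : NoFaithful E1 E3) {K : Subgroup G}
    (hK : Cfsg.IsPiHallOf (Cfsg.kappa M) K M) (hKE : K ≤ E) : T142 M K := by
  rw [eq_of_hall_kappa_le h hK hKE]
  exact typeP_t142_E h hnf

end Cfsg.Agent.Lib.Helper8.BGT2
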