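import Mathlib
import Cfsg.Agent.Lib.Helper13.DkMax

/-!
helper8: BQ-ORD997 (S4501 market, planner helper4): the conclusions of S0997 are incompatible with
`|G| = 4 p 3^b`, `p ≥ 7`.
-/

set_option autoImplicit false

namespace Cfsg.Agent.Lib.Helper8.BQORD997

universe u

variable {G : Type u} [Group G] [Finite G]

theorem two_pow_dvd_eight (m b : ℕ) (h : 2 ^ m ∣ 8 * 3 ^ b) : m ≤ 3 := by
  have hcop : Nat.Coprime (2 ^ m) (3 ^ b) := Nat.Coprime.pow _ _ (by norm_num)
  have h8 : 2 ^ m ∣ 2 ^ 3 := hcop.dvd_of_dvd_mul_right h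
  exact (Nat.pow_dvd_pow_iff_le_right (by norm_num : 1 < 2)).mp h8

theorem three_pow_odd (b : ℕ) : 3 ^ b % 2 = 1 := by
  induction b with
  | zero => rfl
  | succ n ih => rw [pow_succ]; omega

/-- BQ-ORD997. -/
theorem false_of_s0997 (p b : ℕ) (hp : p.Prime) (hp7 : 7 ≤ p) (hG : Nat.card G = 4 * p * 3 ^ b)
    (h : (∃ (m : ℕ) (F : Type) (_ : Field F) (_ : Fintype F), Fintype.card F = p ∧ (p = 2 ^ m + 1 ∨ p = 2 ^ m - 1) ∧
        Nonempty (G ≃* Matrix.ProjectiveSpecialLinearGroup (Fin 2) F)) ∨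
      (∃ (m : ℕ) (F : Type) (_ : Field F) (_ : Fintype F), Fintype.card F = 2 ^ m ∧ p = 2 ^ m + 1 ∧ 3 < p ∧
        Nonempty (G ≃* Matrix.ProjectiveSpecialLinearGroup (Fin 2) F))) : False := by
  have h3odd := three_pow_odd b
  rcases h with ⟨m, F, _, _, hF, hpm, ⟨e⟩⟩ | ⟨m, F, _, _, hF, hpm, _, ⟨e⟩⟩
  · have hc := Cfsg.Agent.Lib.Helper13.Dk.card_PSL2_mul_gcd (K := F)
    rw [hF, ← Nat.card_congr e.toEquiv, hG] at hc
    have hodd : p % 2 = 1 := (hp.eq_two_or_odd).resolve_left (by omega)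
    have hg : Nat.gcd 2 (p - 1) = 2 := Nat.gcd_eq_left (by omega)
    rw [hg] at hc
    have hc2 : 8 * 3 ^ b = p ^ 2 - 1 := by
      have : p * (8 * 3 ^ b) = p * (p ^ 2 - 1) := by rw [← hc]; ring
      exact Nat.eq_of_mul_eq_mul_left hp.pos this
    have hp2 : p ^ 2 = (p - 1) * (p + 1) + 1 := by
      obtain ⟨k, rfl⟩ : ∃ k, p = k + 1 := ⟨p - 1, by omega⟩
      simp only [Nat.add_sub_cancel]
      ring
    have hc3 : 8 * 3 ^ b = (p - 1) * (p + 1) := by omega
    rcases hpm with h1 | h1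
    · have h2m : 2 ^ m ∣ 8 * 3 ^ b := by
        rw [hc3]
        exact Dvd.dvd.mul_right ⟨1, by omega⟩ _
      have hm3 := two_pow_dvd_eight m b h2m
      interval_cases m
      · omega
      · omega
      · omega
      · norm_num at h1
        subst h1
        revert hp
        decide
    · have h2m : 2 ^ m ∣ 8 * 3 ^ b := by
        rw [hc3]
        exact Dvd.dvd.mul_left ⟨1, by omega⟩ _
      have hm3 := two_pow_dvd_eight m b h2m
      interval_cases m
      · omega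
      · omega
      · omega
      · norm_num at h1
        subst h1
        norm_num at hc3
        omega
  · have hc := Cfsg.Agent.Lib.Helper13.Dk.card_PSL2_mul_gcd (K := F)
    rw [hF, ← Nat.card_congr e.toEquiv, hG] at hc
    have hm1 : 1 ≤ m := by
      rcases Nat.eq_zero_or_pos m with h0 | h0
      · subst h0; norm_num at hpm; omega
      · exact h0
    have h2m2 : 2 ∣ 2 ^ m := dvd_pow_self 2 (by omega)
    have hg : Nat.gcd 2 (2 ^ m - 1) = 1 :=
      (Nat.prime_two.coprime_iff_not_dvd).mpr (by omega)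
    rw [hg, mul_one] at hc
    have hsq : (2 ^ m) ^ 2 = (2 ^ m - 1) * (2 ^ m + 1) + 1 := by
      obtain ⟨k, hk⟩ : ∃ k, 2 ^ m = k + 1 := ⟨2 ^ m - 1, by omega⟩
      rw [hk]
      simp only [Nat.add_sub_cancel]
      ring
    have hc2 : p * (4 * 3 ^ b) = p * (2 ^ m * (2 ^ m - 1)) := by
      have h1 : (2 ^ m) ^ 2 - 1 = (2 ^ m - 1) * (2 ^ m + 1) := by omega
      rw [h1, ← hpm] at hc
      rw [show p * (4 * 3 ^ b) = 4 * p * 3 ^ b by ring, hc]
      ring
    have hc3 : 4 * 3 ^ b = 2 ^ m * (2 ^ m - 1) := Nat.eq_of_mul_eq_mul_left hp.pos hc2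
    have h2m : 2 ^ m ∣ 8 * 3 ^ b := by
      have : 8 * 3 ^ b = 2 * (4 * 3 ^ b) := by ring
      rw [this, hc3]
      exact Dvd.dvd.mul_left (Dvd.intro _ rfl) 2
    have hm3 := two_pow_dvd_eight m b h2m
    interval_cases m
    · omega
    · omega
    · norm_num at hpm
      subst hpm
      revert hp
      decide

end Cfsg.Agent.Lib.Helper8.BQORD997
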