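import Mathlib
import Cfsg.Prelude.Def_BlockRank
import Cfsg.Agent.Lib.Helper27.DODefs
import Cfsg.Agent.Lib.Helper27.BlkAlgDefs2
import Cfsg.Agent.Lib.Helper9.DOBase
import Cfsg.Agent.Lib.Helper9.DODEG
import Cfsg.Agent.Lib.Helper9.DODEGY

/-!
# S4503 part E market, leaf BRE-PSIREG (helper8)

The values of an exceptional character without `P`-fixed vectors on the `p`-regular elements of `C_G(P)`.
-/

set_option autoImplicit false

namespace Cfsg.Agent.Lib.Helper8.BREPSIREG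

open Cfsg Cfsg.Agent.Lib.Helper8.DOM Cfsg.Agent.Lib.Helper27.DO Cfsg.Agent.Lib.Helper27.BlkAlg
open Cfsg.Agent.Lib.Helper9.DOBase Cfsg.Agent.Lib.Helper9.DODEG Cfsg.Agent.Lib.Helper9.DODEGY
open scoped ComplexConjugate

universe u

section data

variable {G : Type u} [Group G] [Finite G] {p : ℕ} [Fact p.Prime] {M : Ideal AlgInt}
  {P : Subgroup G} {B : Set (IrrCharacter G)} {θ : IrrCharacter (Cz P)} {T : Subgroup G} {x0 : G}
  {E : Subgroup (ZMod p)ˣ} {μ : IrrCharacter G → ZMod p → ℤ} {D : IrrCharacter G → G → ℂ}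

open Classical in
/-- conjugation by `n ∈ N_G(P)` permutes `P \ 1` -/
theorem sum_conj_erase (n : Nz P) (g : G → ℂ) :
    ∑ x ∈ (Pf P).erase 1, g ((n : G) * x * (n : G)⁻¹) = ∑ x ∈ (Pf P).erase 1, g x := by
  apply Finset.sum_equiv (MulAut.conj (n : G)).toEquiv
  · intro x
    simp only [Finset.mem_erase, mem_Pf, MulEquiv.toEquiv_eq_coe, EquivLike.coe_coe,
      MulAut.conj_apply]
    constructor
    · rintro ⟨h1, h2⟩
      obtain ⟨h3, h4⟩ := conj_mem (n : G) n.2 x h2 h1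
      exact ⟨h4, h3⟩
    · rintro ⟨h1, h2⟩
      have h5 := conj_mem ((n : G)⁻¹) ((Nz P).inv_mem n.2) _ h2 h1
      have e : (n : G)⁻¹ * ((n : G) * x * (n : G)⁻¹) * ((n : G)⁻¹)⁻¹ = x := by group
      rw [e] at h5
      exact ⟨h5.2, h5.1⟩
  · intro x _
    simp [MulAut.conj_apply]

/-- PSIREG : the values of an exceptional character without `P`-fixed vectors on the `p`-regular elements of `C`. -/
theorem apply_reg_of_row (d : GSData p P B θ T x0 E μ D) (hP : Nat.card P = p)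
    (hT : IsInertia P (θ : Cz P → ℂ) T)
    (χ : IrrCharacter G) (hχ : χ ∈ B) (i : (ZMod p)ˣ) (ε : ℤ)
    (hrow : ∀ k : (ZMod p)ˣ, (k * i⁻¹ ∈ E → μ χ k - μ χ 0 = ε) ∧ (k * i⁻¹ ∉ E → μ χ k - μ χ 0 = 0))
    (y : G) (hy : y ∈ Cz P) (hyreg : ¬ p ∣ orderOf y)
    (hfix : ∑ᶠ x ∈ (P : Set G), (χ : G → ℂ) (x * y) = 0) :
    (χ : G → ℂ) y = (ε : ℂ) * (Nat.card E : ℂ) * thetaSum P (θ : Cz P → ℂ) T y := by
  classical
  have : Fintype (Nz P) := Fintype.ofFinite _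
  have hfix' : ∑ x ∈ Pf P, (χ : G → ℂ) (x * y) = 0 := by
    rw [← hfix, finsum_mem_eq_finite_toFinset_sum _ (Set.toFinite (P : Set G))]
    rfl
  have h1P : (1 : G) ∈ Pf P := mem_Pf.mpr P.one_mem
  rw [← Finset.add_sum_erase _ _ h1P, one_mul] at hfix'
  have hsum : ∑ x ∈ (Pf P).erase 1, (χ : G → ℂ) (x * y) =
      - ((ε : ℂ) * (Nat.card E : ℂ) * thetaSum P (θ : Cz P → ℂ) T y) := by
    have h1 : ∀ x ∈ (Pf P).erase 1, (χ : G → ℂ) (x * y) = (Nat.card T : ℂ)⁻¹ *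
        ∑ n : Nz P, D χ ((n : G) * x * (n : G)⁻¹) *
          extendByZero (Cz P) (θ : Cz P → ℂ) ((n : G) * y * (n : G)⁻¹) := by
      intro x hx
      rw [Finset.mem_erase] at hx
      rw [d.val χ hχ x (mem_Pf.mp hx.2) hx.1 y hy hyreg, finsum_eq_sum_of_fintype]
    rw [Finset.sum_congr rfl h1, ← Finset.mul_sum, Finset.sum_comm]
    have h2 : ∀ n : Nz P, ∑ x ∈ (Pf P).erase 1, D χ ((n : G) * x * (n : G)⁻¹) *
          extendByZero (Cz P) (θ : Cz P → ℂ) ((n : G) * y * (n : G)⁻¹) =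
        (- (ε : ℂ) * (Nat.card E : ℂ)) *
          extendByZero (Cz P) (θ : Cz P → ℂ) ((n : G) * y * (n : G)⁻¹) := by
      intro n
      rw [← Finset.sum_mul, sum_conj_erase n (D χ), sum_D_erase d hP χ i ε hrow]
    rw [Finset.sum_congr rfl (fun n _ => h2 n), ← Finset.mul_sum]
    unfold thetaSum
    rw [finsum_eq_sum_of_fintype]
    ring
  rw [hsum] at hfix'
  linear_combination hfix'

end data

end Cfsg.Agent.Lib.Helper8.BREPSIREG
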