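/-
helper8: S4705 market "BS", leaf BS-INEQL (`ineq_left`, twin): the twisted sector is small.
-/
import Mathlib

set_option autoImplicit false

namespace Cfsg.Agent.Lib.Helper8.BSINEQL

/-- polynomial core : `kb = c + 1`, `b1 = p c + 1`, `a1 = p (c+1) - 1`, `t ≤ (2c+1)(p-1)`, `c ≥ 1`. -/
theorem core (P C t : ℝ) (hP : 7 ≤ P) (hC : 1 ≤ C) (ht0 : 0 ≤ t) (ht : t ≤ (2 * C + 1) * (P - 1)) :
    t ^ 2 * P ^ 2 ≤ (P - 1) ^ 2 * ((P * (C + 1) - 1) * (P * C + 1) * (P - 2)) := by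
  have ht2 : t ^ 2 ≤ ((2 * C + 1) * (P - 1)) ^ 2 := pow_le_pow_left₀ ht0 ht 2
  have hP2 : 0 ≤ P ^ 2 := by positivity
  have hQ : 0 ≤ (P - 1) ^ 2 := by positivity
  have hm : 2 ≤ C * (C + 1) := by nlinarith
  have key : (2 * C + 1) ^ 2 * P ^ 2 ≤ (P * (C + 1) - 1) * (P * C + 1) * (P - 2) := by
    have e1 : (P * (C + 1) - 1) * (P * C + 1) = P ^ 2 * (C * (C + 1)) + P - 1 := by ring
    have e2 : (2 * C + 1) ^ 2 = 4 * (C * (C + 1)) + 1 := by ring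
    rw [e1, e2]
    have h5 : 5 ≤ P - 2 := by linarith
    have hmp : 0 ≤ P ^ 2 * (C * (C + 1)) := by positivity
    have hA : (P ^ 2 * (C * (C + 1))) * 5 ≤ (P ^ 2 * (C * (C + 1))) * (P - 2) :=
      mul_le_mul_of_nonneg_left h5 hmp
    have hB : 0 ≤ (P - 1) * (P - 2) := by nlinarith
    have hC' : P ^ 2 ≤ P ^ 2 * (C * (C + 1)) := by nlinarith
    nlinarith
  calc t ^ 2 * P ^ 2 ≤ ((2 * C + 1) * (P - 1)) ^ 2 * P ^ 2 := mul_le_mul_of_nonneg_right ht2 hP2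
    _ = (P - 1) ^ 2 * ((2 * C + 1) ^ 2 * P ^ 2) := by ring
    _ ≤ (P - 1) ^ 2 * ((P * (C + 1) - 1) * (P * C + 1) * (P - 2)) :=
        mul_le_mul_of_nonneg_left key hQ

/-- BS-INEQL : the twisted sector is small. -/
theorem ineq_left (p : ℕ) (hp : 7 ≤ p) (b1 a1 kb : ℕ) (hb2 : 2 ≤ b1) (hb : b1 + (p - 1) = p * kb)
    (ha1 : a1 = b1 + (p - 2)) (A B : ℂ) (hB : ‖B‖ ≤ (kb : ℝ)) (hAB : ‖A - B‖ ≤ 1) :
    ‖B * (a1 : ℂ) - A * (b1 : ℂ)‖ ^ 2 * (p : ℝ) ^ 2 ≤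
      ((p : ℝ) - 1) ^ 2 * ((a1 : ℝ) * (b1 : ℝ) * ((p : ℝ) - 2)) := by
  have hpR : (7 : ℝ) ≤ (p : ℝ) := by exact_mod_cast hp
  -- kb ≥ 2
  have hkb : 2 ≤ kb := by
    by_contra hcon
    push Not at hcon
    have : p * kb ≤ p * 1 := Nat.mul_le_mul_left p (by omega)
    omega
  obtain ⟨c, rfl⟩ : ∃ c, kb = c + 1 := ⟨kb - 1, by omega⟩
  have hc1 : 1 ≤ c := by omega
  have hb1 : b1 = p * c + 1 := by
    have : p * (c + 1) = p * c + p := by ring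
    omega
  have ha1' : a1 + 1 = p * (c + 1) := by
    have : p * (c + 1) = p * c + p := by ring
    omega
  have hb1R : (b1 : ℝ) = (p : ℝ) * (c : ℝ) + 1 := by
    rw [hb1]; push_cast; ring
  have ha1R : (a1 : ℝ) = (p : ℝ) * ((c : ℝ) + 1) - 1 := by
    have : ((a1 + 1 : ℕ) : ℝ) = ((p * (c + 1) : ℕ) : ℝ) := by rw [ha1']
    push_cast at this
    linarith
  have hcR : (1 : ℝ) ≤ (c : ℝ) := by exact_mod_cast hc1
  -- the norm bound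
  have hsplit : B * (a1 : ℂ) - A * (b1 : ℂ) = B * (((p : ℝ) - 2 : ℝ) : ℂ) - (A - B) * ((b1 : ℝ) : ℂ) := by
    have : (a1 : ℂ) = ((b1 : ℝ) : ℂ) + (((p : ℝ) - 2 : ℝ) : ℂ) := by
      have h2 : (a1 : ℝ) = (b1 : ℝ) + ((p : ℝ) - 2) := by rw [ha1R, hb1R]; ring
      have h3 : ((a1 : ℝ) : ℂ) = (((b1 : ℝ) + ((p : ℝ) - 2) : ℝ) : ℂ) := by rw [h2]
      push_cast at h3 ⊢
      exact h3
    rw [this]
    push_cast
    ring
  have hnorm : ‖B * (a1 : ℂ) - A * (b1 : ℂ)‖ ≤ (2 * (c : ℝ) + 1) * ((p : ℝ) - 1) := by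
    rw [hsplit]
    have h1 : ‖B * (((p : ℝ) - 2 : ℝ) : ℂ) - (A - B) * ((b1 : ℝ) : ℂ)‖ ≤
        ‖B * (((p : ℝ) - 2 : ℝ) : ℂ)‖ + ‖(A - B) * ((b1 : ℝ) : ℂ)‖ := norm_sub_le _ _
    have h2 : ‖B * (((p : ℝ) - 2 : ℝ) : ℂ)‖ = ‖B‖ * ((p : ℝ) - 2) := by
      rw [norm_mul, Complex.norm_real, Real.norm_of_nonneg (by linarith)]
    have h3 : ‖(A - B) * ((b1 : ℝ) : ℂ)‖ = ‖A - B‖ * (b1 : ℝ) := by
      rw [norm_mul, Complex.norm_real, Real.norm_of_nonneg (by positivity)]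
    rw [h2, h3] at h1
    have hBc : ‖B‖ ≤ (c : ℝ) + 1 := by
      have : ((c + 1 : ℕ) : ℝ) = (c : ℝ) + 1 := by push_cast; ring
      rw [this] at hB; exact hB
    have h4 : ‖B‖ * ((p : ℝ) - 2) ≤ ((c : ℝ) + 1) * ((p : ℝ) - 2) :=
      mul_le_mul_of_nonneg_right hBc (by linarith)
    have h5 : ‖A - B‖ * (b1 : ℝ) ≤ 1 * (b1 : ℝ) :=
      mul_le_mul_of_nonneg_right hAB (by positivity)
    rw [hb1R] at h5
    nlinarith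
  have h := core (p : ℝ) (c : ℝ) _ hpR hcR (norm_nonneg _) hnorm
  rw [ha1R, hb1R]
  exact h

end Cfsg.Agent.Lib.Helper8.BSINEQL
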