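/-
helper8: S4705 market "BS", leaf BS-INEQR (`ineq_right`, twin): the principal sector is large.
-/
import Mathlib

set_option autoImplicit false

namespace Cfsg.Agent.Lib.Helper8.BSINEQR

/-- polynomial core, case `v = ε₀ = 1` : `h = X + 1`, `d = X + 2`, `X = p c`, `t ≥ X + 2 - c`. -/
theorem core_pos (P C t : ℝ) (hP : 7 ≤ P) (hC : 0 ≤ C) (ht : P * C + 2 - C ≤ t) :
    (P - 1) ^ 2 * ((P * C + 1) * (P * C + 2)) < t ^ 2 * P ^ 2 := by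
  have hL : 0 ≤ P * C + 2 - C := by nlinarith
  have ht2 : (P * C + 2 - C) ^ 2 ≤ t ^ 2 := by
    exact pow_le_pow_left₀ hL ht 2
  have hP2 : 0 < P ^ 2 := by positivity
  have key : (P - 1) ^ 2 * ((P * C + 1) * (P * C + 2)) < (P * C + 2 - C) ^ 2 * P ^ 2 := by
    have hX : 0 ≤ P * C := by nlinarith
    nlinarith [mul_nonneg hX (by linarith : (0:ℝ) ≤ P - 1), mul_nonneg (mul_nonneg hX (by linarith : (0:ℝ) ≤ P - 1)) (by linarith : (0:ℝ) ≤ P + 3), sq_nonneg P]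
  calc (P - 1) ^ 2 * ((P * C + 1) * (P * C + 2)) < (P * C + 2 - C) ^ 2 * P ^ 2 := key
    _ ≤ t ^ 2 * P ^ 2 := by nlinarith

/-- polynomial core, case `v = ε₀ = -1` : `h = X - 1`, `d = X - 2`, `X = p c`, `c ≥ 1`, `t ≥ c (p - 1)`. -/
theorem core_neg (P C t : ℝ) (hP : 7 ≤ P) (hC : 1 ≤ C) (ht : C * (P - 1) ≤ t) :
    (P - 1) ^ 2 * ((P * C - 1) * (P * C - 2)) < t ^ 2 * P ^ 2 := by
  have hL : 0 ≤ C * (P - 1) := by nlinarith
  have ht2 : (C * (P - 1)) ^ 2 ≤ t ^ 2 := pow_le_pow_left₀ hL ht 2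
  have hP2 : 0 < P ^ 2 := by positivity
  have hX : 7 ≤ P * C := by nlinarith
  have hQ : 0 < (P - 1) ^ 2 := by
    have : 0 < P - 1 := by linarith
    positivity
  have key : (P - 1) ^ 2 * ((P * C - 1) * (P * C - 2)) < (C * (P - 1)) ^ 2 * P ^ 2 := by
    have h1 : (P * C - 1) * (P * C - 2) < (P * C) ^ 2 := by nlinarith
    have h2 : (C * (P - 1)) ^ 2 * P ^ 2 = (P - 1) ^ 2 * (P * C) ^ 2 := by ring
    rw [h2]
    exact mul_lt_mul_of_pos_left h1 hQ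
  calc (P - 1) ^ 2 * ((P * C - 1) * (P * C - 2)) < (C * (P - 1)) ^ 2 * P ^ 2 := key
    _ ≤ t ^ 2 * P ^ 2 := by nlinarith

/-- BS-INEQR : the principal sector is large. -/
theorem ineq_right (p : ℕ) (hp : 7 ≤ p) (h d k₁ kY : ℕ) (v ε₀ : ℤ) (hv : v = 1 ∨ v = -1)
    (hε : ε₀ = 1 ∨ ε₀ = -1) (hh0 : 0 < h) (hd0 : 0 < d) (hdeg : ε₀ * (d : ℤ) = 1 + v * (h : ℤ))
    (hh : (h : ℤ) + v * ((p : ℤ) - 1) = (p : ℤ) * (k₁ : ℤ))
    (hd : (d : ℤ) - 2 * ε₀ = (p : ℤ) * (kY : ℤ))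
    (a : ℂ) (ha : ‖a‖ ≤ (k₁ : ℝ)) (hψ : ‖1 + (v : ℂ) * a‖ ≤ (kY : ℝ)) :
    ((p : ℝ) - 1) ^ 2 * ((h : ℝ) * (d : ℝ)) < ‖(h : ℂ) - a‖ ^ 2 * (p : ℝ) ^ 2 := by
  have hpR : (7 : ℝ) ≤ (p : ℝ) := by exact_mod_cast hp
  have hhZ : (0 : ℤ) < (h : ℤ) := by exact_mod_cast hh0
  have hdZ : (0 : ℤ) < (d : ℤ) := by exact_mod_cast hd0
  have hpZ : (7 : ℤ) ≤ (p : ℤ) := by exact_mod_cast hp
  rcases hv with rfl | rfl <;> rcases hε with rfl | rfl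
  · -- v = 1, ε₀ = 1
    have hd' : (d : ℤ) = (h : ℤ) + 1 := by linarith
    -- kY = k₁ - 1
    have hk : (p : ℤ) * ((k₁ : ℤ) - 1 - (kY : ℤ)) = 0 := by
      have : (p : ℤ) * (kY : ℤ) = (h : ℤ) - 1 := by linarith
      nlinarith
    have hk' : (k₁ : ℤ) - 1 - (kY : ℤ) = 0 := by
      rcases mul_eq_zero.mp hk with h0 | h0
      · omega
      · exact h0
    have hhR : (h : ℝ) = (p : ℝ) * (kY : ℝ) + 1 := by
      have : (h : ℤ) = (p : ℤ) * (kY : ℤ) + 1 := by linarith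
      exact_mod_cast this
    have hdR : (d : ℝ) = (p : ℝ) * (kY : ℝ) + 2 := by
      have : (d : ℤ) = (p : ℤ) * (kY : ℤ) + 2 := by linarith
      exact_mod_cast this
    have hC : (0 : ℝ) ≤ (kY : ℝ) := Nat.cast_nonneg _
    -- triangle inequality
    have hψ' : ‖1 + a‖ ≤ (kY : ℝ) := by simpa using hψ
    have htri : (p : ℝ) * (kY : ℝ) + 2 - (kY : ℝ) ≤ ‖(h : ℂ) - a‖ := by
      have e : (h : ℂ) - a = ((h : ℂ) + 1) - (1 + a) := by ring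
      have h1 : ‖((h : ℂ) + 1)‖ - ‖1 + a‖ ≤ ‖((h : ℂ) + 1) - (1 + a)‖ := norm_sub_norm_le _ _
      have h2 : ‖((h : ℂ) + 1)‖ = (h : ℝ) + 1 := by
        have : ((h : ℂ) + 1) = (((h : ℝ) + 1 : ℝ) : ℂ) := by push_cast; ring
        rw [this, Complex.norm_real, Real.norm_of_nonneg (by positivity)]
      rw [e]
      rw [h2] at h1
      linarith
    rw [hhR, hdR]
    exact core_pos (p : ℝ) (kY : ℝ) _ hpR hC htri
  · -- v = 1, ε₀ = -1 : impossible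
    exfalso
    linarith
  · -- v = -1, ε₀ = 1 : impossible
    exfalso
    linarith
  · -- v = -1, ε₀ = -1
    have hd' : (d : ℤ) = (h : ℤ) - 1 := by linarith
    have hk : (p : ℤ) * ((k₁ : ℤ) + 1 - (kY : ℤ)) = 0 := by
      have h1 : (p : ℤ) * (kY : ℤ) = (h : ℤ) + 1 := by linarith
      have h2 : (p : ℤ) * (k₁ : ℤ) = (h : ℤ) - ((p : ℤ) - 1) := by linarith
      nlinarith
    have hk' : (k₁ : ℤ) + 1 - (kY : ℤ) = 0 := by
      rcases mul_eq_zero.mp hk with h0 | h0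
      · omega
      · exact h0
    have hkY1 : (1 : ℤ) ≤ (kY : ℤ) := by
      have : (0 : ℤ) ≤ (k₁ : ℤ) := Int.natCast_nonneg _
      linarith
    have hhR : (h : ℝ) = (p : ℝ) * (kY : ℝ) - 1 := by
      have : (h : ℤ) = (p : ℤ) * (kY : ℤ) - 1 := by linarith
      exact_mod_cast this
    have hdR : (d : ℝ) = (p : ℝ) * (kY : ℝ) - 2 := by
      have : (d : ℤ) = (p : ℤ) * (kY : ℤ) - 2 := by linarith
      exact_mod_cast this
    have hC : (1 : ℝ) ≤ (kY : ℝ) := by exact_mod_cast hkY1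
    have hk1R : (k₁ : ℝ) = (kY : ℝ) - 1 := by
      have : (k₁ : ℤ) = (kY : ℤ) - 1 := by linarith
      exact_mod_cast this
    have htri : (kY : ℝ) * ((p : ℝ) - 1) ≤ ‖(h : ℂ) - a‖ := by
      have h1 : ‖(h : ℂ)‖ - ‖a‖ ≤ ‖(h : ℂ) - a‖ := norm_sub_norm_le _ _
      have h2 : ‖(h : ℂ)‖ = (h : ℝ) := by
        rw [Complex.norm_natCast]
      rw [h2, hhR] at h1
      rw [hk1R] at ha
      nlinarith
    rw [hhR, hdR]
    exact core_neg (p : ℝ) (kY : ℝ) _ hpR hC htri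

end Cfsg.Agent.Lib.Helper8.BSINEQR
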