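import Cfsg.Agent.Lib.Helper11.CTDefs2
import Cfsg.Agent.Lib.Helper7.ChevCommTabA
import Cfsg.Agent.Lib.Helper7.ChevCommTabF4
import Cfsg.Agent.Lib.Helper7.ChevCommTabE6
import Cfsg.Agent.Lib.Helper7.ChevCommTabE7
import Cfsg.Agent.Lib.Helper7.ChevCommTabE8x0

/-! S1164 / S3712 (Curtis–Tits), sub-leaf PAIR-T (helper8): a fundamental reflection maps the terms of the
commutator formula of `(r, s)` to terms of the commutator formula of `(w_k r, w_k s)`.  Direct corollary of
helper7's list equality `Helper7.commTerms_reflect` (data without chains of length three). -/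

set_option autoImplicit false

namespace Cfsg.Agent.Lib.Helper8.CTPAIRT

open Cfsg Cfsg.Lie Matrix
open Cfsg.Agent.Lib.Helper7
open Cfsg.Agent.Lib.Helper11.CT
open Cfsg.Agent.Lib.Helper11.StPres

theorem shortB_of_mem5 {D : ChevalleyDatum} (hD : D ∈ [chevD4, chevF4, chevE6, chevE7, chevE8]) :
    shortB D = true :=
  mem_five_cases (P := fun D => shortB D = true) short_D4 short_F4 short_E6 short_E7 short_E8 D hD

section
variable {D : ChevalleyDatum} (hD : D ∈ [chevD4, chevF4, chevE6, chevE7, chevE8])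

include hD in
/-- the list form: `commTerms (w_k r) (w_k s)` is the sign-twisted image of `commTerms r s` -/
theorem commTerms_reflect_eq (k : ℕ) (hk : k < D.rank) (r s : ℕ) (hr : r < D.nroots) (hs : s < D.nroots)
    (hsr : s ≠ r) (hsn : s ≠ D.neg r) :
    D.commTerms (D.reflectRoot k r) (D.reflectRoot k s) =
      (D.commTerms r s).map (termMap D k (etaFn D k) r s) :=
  Cfsg.Agent.Lib.Helper7.commTerms_reflect D k (etaFn D k) (conjFacts_of_mem D (mem7 hD) k hk)
    (keys_nodup D (mem7 hD)) (chainEntry_length_le D (shortB_of_mem5 hD))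
    (fun r hr => (negInvOK_of_mem D (mem7 hD) r hr).1) r s hr hs hsr hsn

include hD in
/-- PAIR-T -/
theorem commTerms_reflect (k : ℕ) (hk : k < D.rank) (r s : ℕ) (hr : r < D.nroots) (hs : s < D.nroots)
    (hsr : s ≠ r) (hsn : s ≠ D.neg r) :
    ∀ c ∈ D.commTerms r s, ∃ c' ∈ D.commTerms (D.reflectRoot k r) (D.reflectRoot k s),
      c'.1 = D.reflectRoot k c.1 := by
  intro c hc
  rw [commTerms_reflect_eq hD k hk r s hr hs hsr hsn]
  exact ⟨termMap D k (etaFn D k) r s c, List.mem_map_of_mem hc, rfl⟩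

end

end Cfsg.Agent.Lib.Helper8.CTPAIRT
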