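import Cfsg.Agent.Lib.Helper11.CTDefs2

/-! Curtis–Tits, leaf R2A (helper8 twin), table checks: the fundamental rank-two subsystems are stable under the
two fundamental reflections, rank-one certificates inside a fundamental rank-two subsystem, and every root of
such a subsystem is the image of a fundamental root under a short word in the two reflections. -/

set_option autoImplicit false
set_option maxRecDepth 100000

namespace Cfsg.Agent.Lib.Helper8.CTR2Tab

open Cfsg Cfsg.Lie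
open Cfsg.Agent.Lib.Helper7
open Cfsg.Agent.Lib.Helper11.StPres
open Cfsg.Agent.Lib.Helper11.CT

/-- reflection check -/
def r2ReflB (D : ChevalleyDatum) : Bool :=
  (List.range D.rank).all fun i => (List.range D.rank).all fun j =>
    (r2List D i j).all fun r => decide (D.InRankTwoSub i j (D.reflectRoot i r)) &&
      decide (D.InRankTwoSub i j (D.reflectRoot j r))

theorem r2Refl_of_B (D : ChevalleyDatum) (h : r2ReflB D = true) (i j k r : ℕ) (hk : k = i ∨ k = j)
    (hr : D.InRankTwoSub i j r) : D.InRankTwoSub i j (D.reflectRoot k r) := by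
  unfold r2ReflB at h
  simp only [List.all_eq_true, List.mem_range, Bool.and_eq_true, decide_eq_true_eq, mem_r2List] at h
  have := h i hr.2.1 j hr.2.2.1 r hr
  rcases hk with rfl | rfl
  · exact this.1
  · exact this.2

theorem r2ReflB_D4 : r2ReflB chevD4 = true := by decide +kernel
theorem r2ReflB_F4 : r2ReflB chevF4 = true := by decide +kernel
theorem r2ReflB_E6 : r2ReflB chevE6 = true := by decide +kernel
theorem r2ReflB_E7 : r2ReflB chevE7 = true := by decide +kernel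
theorem r2ReflB_E8 : r2ReflB chevE8 = true := by decide +kernel

theorem r2ReflB_of_mem (D : ChevalleyDatum) (hD : D ∈ [chevD4, chevF4, chevE6, chevE7, chevE8]) :
    r2ReflB D = true :=
  mem_five_cases (P := fun D => r2ReflB D = true) r2ReflB_D4 r2ReflB_F4 r2ReflB_E6 r2ReflB_E7 r2ReflB_E8 D hD

/-- rank-one certificate `(j, a, b, pos, w)` with `a, b` in the subsystem of the `k`-th and `j`-th fundamental
roots -/
def r1QOKB (D : ChevalleyDatum) (k : ℕ) (c : ℕ × ℕ × ℕ × ℕ × List ℤ) : Bool :=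
  decide (D.InRankTwoSub k c.1 c.2.1) && decide (D.InRankTwoSub k c.1 c.2.2.1) &&
    r1OKB D k (c.2.1, c.2.2.1, c.2.2.2.1, c.2.2.2.2)

def r1QAllB (D : ChevalleyDatum) (C : List (ℕ × ℕ × ℕ × ℕ × List ℤ)) : Bool :=
  (List.range D.rank).all fun k => r1QOKB D k (C.getD k (0, 0, 0, 0, []))

def r1Q_D4 : List (ℕ × ℕ × ℕ × ℕ × List ℤ) := [(1, 9, 19, 0, [-3, -1, 0, 0]),
  (0, 5, 19, 0, [-1, -3, 0, 0]),
  (1, 9, 16, 0, [0, -1, -3, 0]),
  (1, 9, 15, 0, [0, -1, 0, -3])]
def r1Q_F4 : List (ℕ × ℕ × ℕ × ℕ × List ℤ) := [(1, 20, 34, 0, [-3, -1, 0, 0]),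
  (0, 14, 34, 0, [-1, -3, 0, 0]),
  (1, 17, 28, 1, [0, -1, -3, 0]),
  (2, 22, 26, 0, [0, 0, -1, -3])]
def r1Q_E6 : List (ℕ × ℕ × ℕ × ℕ × List ℤ) := [(2, 29, 57, 0, [-3, 0, -1, 0, 0, 0]),
  (3, 32, 47, 0, [0, -3, 0, -1, 0, 0]),
  (0, 15, 57, 0, [-1, 0, -3, 0, 0, 0]),
  (1, 25, 47, 0, [0, -1, 0, -3, 0, 0]),
  (3, 32, 40, 0, [0, 0, 0, -1, -3, 0]),
  (4, 34, 38, 0, [0, 0, 0, 0, -1, -3])]
def r1Q_E7 : List (ℕ × ℕ × ℕ × ℕ × List ℤ) := [(2, 52, 94, 0, [-3, 0, -1, 0, 0, 0, 0]),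
  (3, 56, 79, 0, [0, -3, 0, -1, 0, 0, 0]),
  (0, 32, 94, 0, [-1, 0, -3, 0, 0, 0, 0]),
  (1, 47, 79, 0, [0, -1, 0, -3, 0, 0, 0]),
  (3, 56, 70, 0, [0, 0, 0, -1, -3, 0, 0]),
  (4, 59, 67, 0, [0, 0, 0, 0, -1, -3, 0]),
  (5, 61, 65, 0, [0, 0, 0, 0, 0, -1, -3])]
def r1Q_E8 : List (ℕ × ℕ × ℕ × ℕ × List ℤ) := [(2, 104, 163, 0, [-3, 0, -1, 0, 0, 0, 0, 0]),
  (3, 109, 142, 0, [0, -3, 0, -1, 0, 0, 0, 0]),
  (0, 77, 163, 0, [-1, 0, -3, 0, 0, 0, 0, 0]),
  (1, 98, 142, 0, [0, -1, 0, -3, 0, 0, 0, 0]),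
  (3, 109, 131, 0, [0, 0, 0, -1, -3, 0, 0, 0]),
  (4, 113, 127, 0, [0, 0, 0, 0, -1, -3, 0, 0]),
  (5, 116, 124, 0, [0, 0, 0, 0, 0, -1, -3, 0]),
  (6, 118, 122, 0, [0, 0, 0, 0, 0, 0, -1, -3])]

theorem r1QAllB_D4 : r1QAllB chevD4 r1Q_D4 = true := by decide +kernel
theorem r1QAllB_F4 : r1QAllB chevF4 r1Q_F4 = true := by decide +kernel
theorem r1QAllB_E6 : r1QAllB chevE6 r1Q_E6 = true := by decide +kernel
theorem r1QAllB_E7 : r1QAllB chevE7 r1Q_E7 = true := by decide +kernel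
theorem r1QAllB_E8 : r1QAllB chevE8 r1Q_E8 = true := by decide +kernel

/-- for every fundamental root `p_k` there are a second fundamental root `p_j` and a rank-one certificate for
`p_k` inside the subsystem spanned by `p_k` and `p_j` -/
theorem exists_r1Q (D : ChevalleyDatum) (hD : D ∈ [chevD4, chevF4, chevE6, chevE7, chevE8]) (k : ℕ)
    (hk : k < D.rank) :
    ∃ (j a b pos : ℕ) (w : List ℤ), D.InRankTwoSub k j a ∧ D.InRankTwoSub k j b ∧ R1Facts D k a b pos w := by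
  have h : ∃ C, r1QAllB D C = true :=
    mem_five_cases (P := fun D => ∃ C, r1QAllB D C = true)
      ⟨_, r1QAllB_D4⟩ ⟨_, r1QAllB_F4⟩ ⟨_, r1QAllB_E6⟩ ⟨_, r1QAllB_E7⟩ ⟨_, r1QAllB_E8⟩ D hD
  obtain ⟨C, hC⟩ := h
  unfold r1QAllB at hC
  rw [List.all_eq_true] at hC
  have h1 := hC k (List.mem_range.mpr hk)
  unfold r1QOKB at h1
  simp only [Bool.and_eq_true, decide_eq_true_eq] at h1
  exact ⟨_, _, _, _, _, h1.1.1, h1.1.2, r1Facts_of_OKB D k _ h1.2⟩

/-- the candidate words -/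
def conjCands (i j : ℕ) : List (List ℕ × ℕ) :=
  [([], i), ([], j), ([i], i), ([j], j), ([j], i), ([i], j), ([j, i], i), ([i, j], j)]

/-- every root of the subsystem is the image of a fundamental root under a candidate word -/
def conjB (D : ChevalleyDatum) : Bool :=
  (List.range D.rank).all fun i => (List.range D.rank).all fun j =>
    (r2List D i j).all fun r => (conjCands i j).any fun c => reflWord D c.1 (D.simple c.2) == r

theorem conjB_D4 : conjB chevD4 = true := by decide +kernel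
theorem conjB_F4 : conjB chevF4 = true := by decide +kernel
theorem conjB_E6 : conjB chevE6 = true := by decide +kernel
theorem conjB_E7 : conjB chevE7 = true := by decide +kernel
theorem conjB_E8 : conjB chevE8 = true := by decide +kernel

theorem exists_conj_word (D : ChevalleyDatum) (hD : D ∈ [chevD4, chevF4, chevE6, chevE7, chevE8])
    (i j r : ℕ) (hr : D.InRankTwoSub i j r) :
    ∃ (L : List ℕ) (l : ℕ), (∀ x ∈ L, x = i ∨ x = j) ∧ (l = i ∨ l = j) ∧ reflWord D L (D.simple l) = r := by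
  have h : conjB D = true :=
    mem_five_cases (P := fun D => conjB D = true) conjB_D4 conjB_F4 conjB_E6 conjB_E7 conjB_E8 D hD
  unfold conjB at h
  simp only [List.all_eq_true, List.mem_range, mem_r2List, List.any_eq_true, beq_iff_eq] at h
  obtain ⟨c, hc, hcr⟩ := h i hr.2.1 j hr.2.2.1 r hr
  refine ⟨c.1, c.2, ?_, ?_, hcr⟩
  · unfold conjCands at hc
    simp only [List.mem_cons, List.not_mem_nil, or_false] at hc
    rcases hc with rfl | rfl | rfl | rfl | rfl | rfl | rfl | rfl <;> simp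
  · unfold conjCands at hc
    simp only [List.mem_cons, List.not_mem_nil, or_false] at hc
    rcases hc with rfl | rfl | rfl | rfl | rfl | rfl | rfl | rfl <;> simp

end Cfsg.Agent.Lib.Helper8.CTR2Tab
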