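import Cfsg.Agent.Lib.Helper8.CTR2Self
import Cfsg.Agent.Lib.Helper8.CTR2Tab

/-! Curtis–Tits, leaf R2A (helper8 twin): `r2_reflect`, `nn_conj`, `X_eq_conj` with the exact names and
statements of the interface `notes/S1164_leaves.lean`. -/

set_option autoImplicit false

namespace Cfsg.Agent.Lib.Helper8.CTR2A

open Cfsg Cfsg.Lie Matrix
open Cfsg.Agent.Lib.Helper7
open Cfsg.Agent.Lib.Helper11.StPres
open Cfsg.Agent.Lib.Helper11.CT
open Cfsg.Agent.Lib.Helper8.CTR2Core Cfsg.Agent.Lib.Helper8.CTR2Ne Cfsg.Agent.Lib.Helper8.CTR2Self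
open Cfsg.Agent.Lib.Helper8.CTR2Tab

section
variable {D : ChevalleyDatum} (hD : D ∈ [chevD4, chevF4, chevE6, chevE7, chevE8])
variable {K : Type*} [Field K]

include hD in
theorem r2_reflect (i j k r : ℕ) (hk : k = i ∨ k = j) (hr : D.InRankTwoSub i j r) :
    D.InRankTwoSub i j (D.reflectRoot k r) :=
  r2Refl_of_B D (r2ReflB_of_mem D hD) i j k r hk hr

theorem nn_conj (i j k : ℕ) (hk : k = i ∨ k = j) (r : ℕ) (hr : D.InRankTwoSub i j r) (t : K) (ht : t ≠ 0)
    (u v : K)
    (h : wordGL D (mem7 hD) K (D.nWord (D.simple k) t) * xGL D (mem7 hD) K r u *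
      (wordGL D (mem7 hD) K (D.nWord (D.simple k) t))⁻¹ = xGL D (mem7 hD) K (D.reflectRoot k r) v) :
    nn D K k t * X D K r u * (nn D K k t)⁻¹ = X D K (D.reflectRoot k r) v := by
  have hkr : k < D.rank := by
    rcases hk with rfl | rfl
    · exact hr.2.1
    · exact hr.2.2.1
  have hF := fundFacts_of_mem D (mem7 hD) k hkr
  have hN := negOK_of_mem D (mem7 hD) _ hF.hp
  by_cases hsp : r = D.simple k
  · subst hsp
    obtain ⟨j', a, b, pos, w, ha, hb, hR⟩ := exists_r1Q D hD k hkr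
    rw [reflectRoot_simple] at h ⊢
    exact nn_conj_self hD k hkr j' a b pos w ha hb hR
      (fun q hq => r2_reflect hD k j' k q (Or.inl rfl) hq) t ht u v h
  · by_cases hsn : r = D.neg (D.simple k)
    · subst hsn
      obtain ⟨j', a, b, pos, w, ha, hb, hR⟩ := exists_r1Q D hD k hkr
      rw [reflectRoot_neg_simple D k (Ne.symm hN.2)] at h ⊢
      exact nn_conj_neg_self hD k hkr j' a b pos w ha hb hR
        (fun q hq => r2_reflect hD k j' k q (Or.inl rfl) hq) t ht u v h
    · exact nn_conj_ne hD i j k hkr (simple_mem hD i j k hr.2.1 hr.2.2.1 hk)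
        (fun q hq => r2_reflect hD i j k q hk hq) t r hr hsp hsn u v h

include hD in
/-- the words in `n_i`, `n_j` conjugate the fundamental root elements to the root elements of the images -/
theorem X_reflWord (i j : ℕ) (hi : i < D.rank) (hj : j < D.rank) (l : ℕ) (hl : l = i ∨ l = j) :
    ∀ L : List ℕ, (∀ x ∈ L, x = i ∨ x = j) →
      D.InRankTwoSub i j (reflWord D L (D.simple l)) ∧ ∃ c : K, c ≠ 0 ∧
        ∀ t : K, X D K (reflWord D L (D.simple l)) t =
          nW D K L * X D K (D.simple l) (c * t) * (nW D K L)⁻¹ := by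
  intro L
  induction L with
  | nil =>
    intro _
    refine ⟨simple_mem hD i j l hi hj hl, 1, one_ne_zero, fun t => ?_⟩
    rw [nW_nil, one_mul, inv_one, mul_one, one_mul]
    rfl
  | cons k L ih =>
    intro hL
    obtain ⟨hmem, c, hc, hX⟩ := ih (fun x hx => hL x (List.mem_cons_of_mem _ hx))
    have hk : k = i ∨ k = j := hL k List.mem_cons_self
    have hkr : k < D.rank := by rcases hk with rfl | rfl <;> assumption
    set r'' := reflWord D L (D.simple l) with hr''
    have hr' : reflWord D (k :: L) (D.simple l) = D.reflectRoot k r'' := rfl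
    rw [hr']
    refine ⟨r2_reflect hD i j k r'' hk hmem, ?_⟩
    obtain ⟨-, c', hc', h1⟩ := actsAs_nGL (mem7 hD) K k hkr 1 one_ne_zero r'' hmem.1
    refine ⟨c * c'⁻¹, mul_ne_zero hc (inv_ne_zero hc'), fun t => ?_⟩
    have h2 := nn_conj hD i j k hk r'' hmem 1 one_ne_zero (c'⁻¹ * t) (c' * (c'⁻¹ * t)) (h1 _)
    have h3 : c' * (c'⁻¹ * t) = t := by rw [← mul_assoc, mul_inv_cancel₀ hc', one_mul]
    rw [h3] at h2
    rw [← h2, hX, nW_cons, mul_assoc c]
    group

include hD in
/-- every root element of a fundamental rank-two subsystem is a conjugate of a fundamental one by a word in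
`n_i`, `n_j` -/
theorem X_eq_conj (i j r : ℕ) (hr : D.InRankTwoSub i j r) :
    ∃ L : List ℕ, (∀ l ∈ L, l = i ∨ l = j) ∧ ∃ l, (l = i ∨ l = j) ∧ ∃ c : K, c ≠ 0 ∧
      ∀ t : K, X D K r t = nW D K L * X D K (D.simple l) (c * t) * (nW D K L)⁻¹ := by
  obtain ⟨L, l, hL, hl, hLr⟩ := exists_conj_word D hD i j r hr
  obtain ⟨-, c, hc, hX⟩ := X_reflWord hD (K := K) i j hr.2.1 hr.2.2.1 l hl L hL
  rw [hLr] at hX
  exact ⟨L, hL, l, hl, c, hc, hX⟩

end

end Cfsg.Agent.Lib.Helper8.CTR2A
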