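import Cfsg.Agent.Lib.Helper11.CTDefs2

/-! Curtis–Tits, leaf R2A (helper8 twin), part 1: the partial Steinberg datum of a fundamental rank-two subsystem
on the positive side of a functional, and the transfer of conjugation formulas from the Chevalley group. -/

set_option autoImplicit false

namespace Cfsg.Agent.Lib.Helper8.CTR2Core

open Cfsg Cfsg.Lie Matrix
open Cfsg.Agent.Lib.Helper7
open Cfsg.Agent.Lib.Helper11.StPres
open Cfsg.Agent.Lib.Helper11.CT

section
variable {D : ChevalleyDatum} (hD : D ∈ [chevD4, chevF4, chevE6, chevE7, chevE8])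
variable {K : Type*} [Field K]

/-- `θ` on words in the generators of the roots of `Φ₂` -/
theorem θ_wordX (w : List (ℕ × K)) (hw : ∀ p ∈ w, Phi2 D p.1) :
    θ D hD K (wordG (X D K) w) = wordGL D (mem7 hD) K w := by
  induction w with
  | nil => simp [wordG, wordGL]
  | cons p w ih =>
    rw [wordG_cons, map_mul, ih (fun q hq => hw q (List.mem_cons_of_mem _ hq)),
      θ_X D hD K p.1 (hw p List.mem_cons_self)]
    unfold wordGL
    rw [List.map_cons, List.prod_cons]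

/-- the roots of `Φ_ij` on the positive side of `f` -/
def PosQ (D : ChevalleyDatum) (i j : ℕ) (f : ℕ → ℤ) (q : ℕ) : Prop := D.InRankTwoSub i j q ∧ 0 < f q

/-- the partial Steinberg datum of `Φ_ij ∩ {f > 0}` in the Curtis–Tits group -/
noncomputable def pdataQ (i j : ℕ) {f : ℕ → ℤ} (hf : ChainAdd D f) :
    PData D (mem7 hD) K (D.CurtisTitsGroup K) (PosQ D i j f) where
  y := X D K
  lt := fun r hr => hr.1.1
  y_add := fun r hr t u => X_add hr.1 t u
  y_comm := fun r s hr hs hsr hsn t u => X_comm hr.1 hs.1 hsr hsn t u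
  closed := by
    intro r s hr hs hsr hsn c hc
    refine ⟨(r2Closed_of_mem D hD).comm i j r s hr.1 hs.1 c hc, ?_⟩
    obtain ⟨-, hi', hj', hlin⟩ := hf.commTerms D (mem7 hD) r s hr.1.1 hs.1.1 c hc
    rw [hlin]
    have h1 : (1 : ℤ) ≤ c.2.2.1 := by exact_mod_cast hi'
    have h2 : (1 : ℤ) ≤ c.2.2.2 := by exact_mod_cast hj'
    have := hr.2
    have := hs.2
    nlinarith
  θ := θ D hD K
  θ_y := fun r hr t => θ_X D hD K r ⟨i, j, hr.1⟩ t

theorem pdataQ_y (i j : ℕ) {f : ℕ → ℤ} (hf : ChainAdd D f) (r : ℕ) (t : K) :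
    (pdataQ hD (K := K) i j hf).y r t = X D K r t := rfl

theorem pdataQ_θ (i j : ℕ) {f : ℕ → ℤ} (hf : ChainAdd D f) :
    (pdataQ hD (K := K) i j hf).θ = θ D hD K := rfl

/-- the subgroup generated by the root elements of `Φ_ij ∩ {f > 0}` -/
def YQ (D : ChevalleyDatum) (K : Type*) [Field K] (i j : ℕ) (f : ℕ → ℤ) : Subgroup (D.CurtisTitsGroup K) :=
  Subgroup.closure {g | ∃ r, PosQ D i j f r ∧ ∃ t : K, g = X D K r t}

theorem X_mem_YQ (i j : ℕ) (f : ℕ → ℤ) (r : ℕ) (hr : D.InRankTwoSub i j r) (h : 0 < f r) (t : K) :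
    X D K r t ∈ YQ D K i j f :=
  Subgroup.subset_closure ⟨r, ⟨hr, h⟩, t, rfl⟩

/-- `θ` is injective on `YQ` -/
theorem inj_YQ (i j : ℕ) {f : ℕ → ℤ} (hf : ChainAdd D f) (g g' : D.CurtisTitsGroup K)
    (hg : g ∈ YQ D K i j f) (hg' : g' ∈ YQ D K i j f) (h : θ D hD K g = θ D hD K g') : g = g' := by
  have key := (pdataQ hD (K := K) i j hf).inj_YP hf (fun r hr => hr.2) (g * g'⁻¹)
    (Subgroup.mul_mem _ hg (Subgroup.inv_mem _ hg')) (by
      show θ D hD K (g * g'⁻¹) = 1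
      rw [map_mul, map_inv, h, mul_inv_cancel])
  exact mul_inv_eq_one.mp key

theorem X_zero {i j r : ℕ} (h : D.InRankTwoSub i j r) : X D K r (0 : K) = 1 := by
  have := X_add (K := K) h 0 0
  rw [add_zero] at this
  exact mul_eq_left.mp this

theorem X_inv {i j r : ℕ} (h : D.InRankTwoSub i j r) (t : K) : (X D K r t)⁻¹ = X D K r (-t) := by
  rw [inv_eq_iff_mul_eq_one, X_add h, add_neg_cancel, X_zero h]

include hD in
/-- conjugation of a generator of `YQ` by a root element of a root of `Φ_ij` in the kernel of `f` -/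
theorem conj_gen_mem_YQ (i j : ℕ) {f : ℕ → ℤ} (hf : ChainAdd D f) (q : ℕ) (hq : D.InRankTwoSub i j q)
    (h0 : f q = 0) (t : K) (r : ℕ) (hr : D.InRankTwoSub i j r) (hfr : 0 < f r) (u : K) :
    (X D K q t)⁻¹ * X D K r u * X D K q t ∈ YQ D K i j f := by
  have hN := negOK_of_mem D (mem7 hD) q hq.1
  have hnegA : f (D.neg q) = - f q := hf.negA q hq.1 hN.1
  have hsq : r ≠ q := by rintro rfl; omega
  have hsn : r ≠ D.neg q := by rintro rfl; omega
  have hc := X_comm (K := K) hq hr hsq hsn t u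
  have e : (X D K q t)⁻¹ * X D K r u * X D K q t =
      X D K r u * wordG (X D K) (D.commWord K q r t u) := by
    rw [mul_assoc, hc]; group
  rw [e]
  apply Subgroup.mul_mem _ (X_mem_YQ i j f r hr hfr u)
  apply wordG_mem
  intro p hp
  unfold ChevalleyDatum.commWord at hp
  rw [List.mem_map] at hp
  obtain ⟨c, hc', rfl⟩ := hp
  obtain ⟨-, hi', hj', hlin⟩ := hf.commTerms D (mem7 hD) q r hq.1 hr.1 c hc'
  apply X_mem_YQ i j f c.1 ((r2Closed_of_mem D hD).comm i j q r hq hr c hc')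
  have h2 : f r ≤ c.2.2.2 * f r := by
    have : (1 : ℤ) ≤ c.2.2.2 := by exact_mod_cast hj'
    nlinarith
  rw [hlin, h0, mul_zero, zero_add]
  omega

/-- the subgroup generated by the root elements of the roots of `Φ_ij` in the kernel of `f` -/
def ZQ (D : ChevalleyDatum) (K : Type*) [Field K] (i j : ℕ) (f : ℕ → ℤ) : Subgroup (D.CurtisTitsGroup K) :=
  Subgroup.closure {g | ∃ q, D.InRankTwoSub i j q ∧ f q = 0 ∧ ∃ t : K, g = X D K q t}

theorem X_mem_ZQ (i j : ℕ) (f : ℕ → ℤ) (q : ℕ) (hq : D.InRankTwoSub i j q) (h : f q = 0) (t : K) :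
    X D K q t ∈ ZQ D K i j f :=
  Subgroup.subset_closure ⟨q, hq, h, t, rfl⟩

include hD in
theorem ZQ_le_normalizer (i j : ℕ) {f : ℕ → ℤ} (hf : ChainAdd D f) :
    ZQ D K i j f ≤ Subgroup.normalizer (YQ D K i j f : Set (D.CurtisTitsGroup K)) := by
  unfold ZQ
  rw [Subgroup.closure_le]
  rintro n ⟨q, hq, h0, t, rfl⟩
  unfold YQ
  apply mem_normalizer_closure
  · rintro y ⟨r, hr, u, rfl⟩
    have := conj_gen_mem_YQ hD i j hf q hq h0 (-t) r hr.1 hr.2 u
    rwa [← X_inv hq, inv_inv] at this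
  · rintro y ⟨r, hr, u, rfl⟩
    have := conj_gen_mem_YQ hD i j hf q hq h0 t r hr.1 hr.2 u
    rwa [inv_inv]

include hD in
theorem ZQ_conj_mem (i j : ℕ) {f : ℕ → ℤ} (hf : ChainAdd D f) (n : D.CurtisTitsGroup K)
    (hn : n ∈ ZQ D K i j f) (g : D.CurtisTitsGroup K) (hg : g ∈ YQ D K i j f) :
    n * g * n⁻¹ ∈ YQ D K i j f :=
  (Subgroup.mem_set_normalizer_iff.mp (ZQ_le_normalizer hD i j hf hn) g).mp hg

/-- transfer of a conjugation formula from the Chevalley group -/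
theorem conj_transferQ (i j : ℕ) {f : ℕ → ℤ} (hf : ChainAdd D f) (n : D.CurtisTitsGroup K)
    (hn : n ∈ ZQ D K i j f) (s s' : ℕ) (hs : D.InRankTwoSub i j s) (hs' : D.InRankTwoSub i j s')
    (hfs : 0 < f s) (hfs' : 0 < f s') (u v : K)
    (h : θ D hD K n * xGL D (mem7 hD) K s u * (θ D hD K n)⁻¹ = xGL D (mem7 hD) K s' v) :
    n * X D K s u * n⁻¹ = X D K s' v := by
  apply inj_YQ hD i j hf _ _ (ZQ_conj_mem hD i j hf n hn _ (X_mem_YQ i j f s hs hfs u))
    (X_mem_YQ i j f s' hs' hfs' v)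
  rw [map_mul, map_mul, map_inv, θ_X D hD K s ⟨i, j, hs⟩, θ_X D hD K s' ⟨i, j, hs'⟩, h]

/-- `n_k(t)` as a product of three generators -/
theorem nn_eq (k : ℕ) (t : K) :
    nn D K k t = X D K (D.simple k) t * X D K (D.neg (D.simple k)) (-t⁻¹) * X D K (D.simple k) t := by
  unfold nn wordG ChevalleyDatum.nWord
  simp [mul_assoc]

include hD in
theorem nn_mem_ZQ (i j k : ℕ) {f : ℕ → ℤ} (hf : ChainAdd D f) (hp : D.InRankTwoSub i j (D.simple k))
    (h0 : f (D.simple k) = 0) (t : K) : nn D K k t ∈ ZQ D K i j f := by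
  have hN := negOK_of_mem D (mem7 hD) _ hp.1
  have hpn := (r2Closed_of_mem D hD).neg i j _ hp
  have h1 : f (D.neg (D.simple k)) = 0 := by rw [hf.negA _ hp.1 hN.1, h0, neg_zero]
  rw [nn_eq]
  exact Subgroup.mul_mem _ (Subgroup.mul_mem _ (X_mem_ZQ i j f _ hp h0 t) (X_mem_ZQ i j f _ hpn h1 _))
    (X_mem_ZQ i j f _ hp h0 t)

theorem θ_nn (i j k : ℕ) (hp : D.InRankTwoSub i j (D.simple k)) (t : K) :
    θ D hD K (nn D K k t) = wordGL D (mem7 hD) K (D.nWord (D.simple k) t) := by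
  have hpn := (r2Closed_of_mem D hD).neg i j _ hp
  unfold nn
  apply θ_wordX
  intro p hp'
  unfold ChevalleyDatum.nWord at hp'
  simp only [List.mem_cons, List.not_mem_nil, or_false] at hp'
  rcases hp' with rfl | rfl | rfl
  · exact ⟨i, j, hp⟩
  · exact ⟨i, j, hpn⟩
  · exact ⟨i, j, hp⟩

end

end Cfsg.Agent.Lib.Helper8.CTR2Core
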