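import Cfsg.Agent.Lib.Helper8.CTR2Core

/-! Curtis–Tits, leaf R2A (helper8 twin), part 2: conjugation by `n_k(t)` of the root elements of the roots
`r ≠ ±p_k` of a fundamental rank-two subsystem containing `p_k`. -/

set_option autoImplicit false

namespace Cfsg.Agent.Lib.Helper8.CTR2Ne

open Cfsg Cfsg.Lie Matrix
open Cfsg.Agent.Lib.Helper7
open Cfsg.Agent.Lib.Helper11.StPres
open Cfsg.Agent.Lib.Helper11.CT
open Cfsg.Agent.Lib.Helper8.CTR2Core

section
variable {D : ChevalleyDatum} (hD : D ∈ [chevD4, chevF4, chevE6, chevE7, chevE8])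
variable {K : Type*} [Field K]

include hD in
/-- the fundamental roots `p_i`, `p_j` lie in `Φ_ij` -/
theorem simple_mem (i j k : ℕ) (hi : i < D.rank) (hj : j < D.rank) (hk : k = i ∨ k = j) :
    D.InRankTwoSub i j (D.simple k) := by
  have hkr : k < D.rank := by rcases hk with rfl | rfl <;> assumption
  have hF := fundFacts_of_mem D (mem7 hD) k hkr
  refine ⟨hF.hp, hi, hj, fun l hl hli hlj => ?_⟩
  rw [hF.corUnit l hl, if_neg]
  rcases hk with rfl | rfl
  · exact hli
  · exact hlj

/-- conjugation by `n_k(t)` of the root elements of the roots `s ≠ ±p_k` of `Φ_ij` -/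
theorem nn_conj_ne (i j k : ℕ) (hkr : k < D.rank) (hp : D.InRankTwoSub i j (D.simple k))
    (hrefl : ∀ r, D.InRankTwoSub i j r → D.InRankTwoSub i j (D.reflectRoot k r))
    (t : K) (s : ℕ) (hs : D.InRankTwoSub i j s)
    (hsp : s ≠ D.simple k) (hsn : s ≠ D.neg (D.simple k)) (u v : K)
    (h : wordGL D (mem7 hD) K (D.nWord (D.simple k) t) * xGL D (mem7 hD) K s u *
      (wordGL D (mem7 hD) K (D.nWord (D.simple k) t))⁻¹ = xGL D (mem7 hD) K (D.reflectRoot k s) v) :
    nn D K k t * X D K s u * (nn D K k t)⁻¹ = X D K (D.reflectRoot k s) v := by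
  have hD7 := mem7 hD
  obtain ⟨w, hw⟩ := exists_fundW D hD7 k hkr
  have hf := chainAdd_linF D hD7 w
  have hrefl' : linF D w (D.reflectRoot k s) = linF D w s := by
    rw [linF_reflect hD7 w k hkr s hs.1, hw.zero, mul_zero, sub_zero]
  rw [← θ_nn hD i j k hp t] at h
  rcases posOrNeg_of_mem D hD7 s hs.1 with hpos | hneg
  · have hfs : 0 < linF D w s := hw.pos s hpos hsp
    exact conj_transferQ hD i j hf _ (nn_mem_ZQ hD i j k hf hp hw.zero t) s _ hs (hrefl s hs) hfs
      (by rw [hrefl']; exact hfs) u v h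
  · have hNI := negInvOK_of_mem D hD7 s hs.1
    have hns : D.neg s ≠ D.simple k := by
      intro hh
      apply hsn
      rw [← hh]
      exact hNI.1.symm
    have hfs : 0 < linF D w (D.neg s) := hw.pos _ (hNI.2.2 hneg) hns
    rw [hf.negA s hs.1 hNI.2.1] at hfs
    have hf' := hf.smul (-1)
    have h0' : (fun r => -1 * linF D w r) (D.simple k) = 0 := by
      show -1 * linF D w (D.simple k) = 0
      rw [hw.zero, mul_zero]
    exact conj_transferQ hD i j hf' _ (nn_mem_ZQ hD i j k hf' hp h0' t) s _ hs (hrefl s hs)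
      (by show 0 < -1 * linF D w s; omega)
      (by show 0 < -1 * linF D w (D.reflectRoot k s); rw [hrefl']; omega) u v h

end

end Cfsg.Agent.Lib.Helper8.CTR2Ne
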