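import Cfsg.Agent.Lib.Helper8.CTR2Ne

/-! Curtis–Tits, leaf R2A (helper8 twin), part 3: conjugation by `n_k(t)` of the root elements of `±p_k`, from
a rank-one certificate inside a fundamental rank-two subsystem. -/

set_option autoImplicit false

namespace Cfsg.Agent.Lib.Helper8.CTR2Self

open Cfsg Cfsg.Lie Matrix
open Cfsg.Agent.Lib.Helper7
open Cfsg.Agent.Lib.Helper11.StPres
open Cfsg.Agent.Lib.Helper11.CT
open Cfsg.Agent.Lib.Helper8.CTR2Core Cfsg.Agent.Lib.Helper8.CTR2Ne

section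
variable {D : ChevalleyDatum} (hD : D ∈ [chevD4, chevF4, chevE6, chevE7, chevE8])
variable {K : Type*} [Field K]

include hD in
theorem nn_inv' (k : ℕ) (hk : k < D.rank) (t : K) : (nn D K k t)⁻¹ = nn D K k (-t) := by
  have hp := simple_mem hD k k k hk hk (Or.inl rfl)
  have hpn := (r2Closed_of_mem D hD).neg k k _ hp
  rw [nn_eq, nn_eq, _root_.mul_inv_rev, _root_.mul_inv_rev, X_inv hp, X_inv hpn, inv_neg, mul_assoc]

/-- conjugation by `n_k(t)` of the root elements of `p_k` -/
theorem nn_conj_self (k : ℕ) (hk : k < D.rank) (j a b pos : ℕ) (w : List ℤ)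
    (ha : D.InRankTwoSub k j a) (hb : D.InRankTwoSub k j b) (hR : R1Facts D k a b pos w)
    (hreflQ : ∀ r, D.InRankTwoSub k j r → D.InRankTwoSub k j (D.reflectRoot k r))
    (t : K) (ht : t ≠ 0) (z v : K)
    (h : wordGL D (mem7 hD) K (D.nWord (D.simple k) t) * xGL D (mem7 hD) K (D.simple k) z *
      (wordGL D (mem7 hD) K (D.nWord (D.simple k) t))⁻¹ = xGL D (mem7 hD) K (D.neg (D.simple k)) v) :
    nn D K k t * X D K (D.simple k) z * (nn D K k t)⁻¹ = X D K (D.neg (D.simple k)) v := by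
  have hD7 := mem7 hD
  have hF := fundFacts_of_mem D hD7 k hk
  have hf := chainAdd_linF D hD7 w
  have hg := chainAdd_gF hD7 w k hk
  have hfg : ∀ s, s < D.nroots → linF D w (D.reflectRoot k s) = gF D k w s :=
    fun s hs => linF_reflect hD7 w k hk s hs
  have hact := actsAs_nGL hD7 K k hk t ht
  have hj : j < D.rank := ha.2.2.1
  have hp : D.InRankTwoSub k j (D.simple k) := simple_mem hD k j k hk hj (Or.inl rfl)
  have hpn : D.InRankTwoSub k j (D.neg (D.simple k)) := (r2Closed_of_mem D hD).neg k j _ hp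
  -- the subgroup of the elements conjugated into `YQ f`
  have hgood : ∀ c, D.InRankTwoSub k j c → c ≠ D.simple k → c ≠ D.neg (D.simple k) → 0 < gF D k w c →
      ∀ v : K, X D K c v ∈ (YQ D K k j (linF D w)).comap (MulAut.conj (nn D K k t)).toMonoidHom := by
    intro c hc hcp hcn hgc v
    obtain ⟨hlt, c', hc', h1⟩ := hact c hc.1
    rw [Subgroup.mem_comap]
    show nn D K k t * X D K c v * (nn D K k t)⁻¹ ∈ _
    rw [nn_conj_ne hD k j k hk hp hreflQ t c hc hcp hcn v (c' * v) (h1 v)]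
    exact X_mem_YQ k j _ _ (hreflQ c hc) (by rw [hfg c hc.1]; exact hgc) _
  obtain ⟨e, hek, he1, heC, heij⟩ := hR.term
  have hklt : pos < (D.commTerms a b).length := by
    by_contra hcon
    rw [List.getElem?_eq_none (by omega)] at hek
    exact absurd hek (by simp)
  have hekk : (D.commTerms a b)[pos] = e := by
    rw [List.getElem?_eq_getElem hklt] at hek
    exact Option.some.inj hek
  have hsplit : D.commTerms a b = (D.commTerms a b).take pos ++ e :: (D.commTerms a b).drop (pos + 1) := by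
    rw [← hekk, ← List.drop_eq_getElem_cons hklt, List.take_append_drop]
  have hemem : e ∈ D.commTerms a b := by rw [← hekk]; exact List.getElem_mem hklt
  have hterms := hg.commTerms D hD7 a b hR.ha hR.hb
  have hQterms : ∀ c ∈ D.commTerms a b, D.InRankTwoSub k j c.1 :=
    fun c hc => (r2Closed_of_mem D hD).comm k j a b ha hb c hc
  have hgpos : ∀ c ∈ D.commTerms a b, 0 < gF D k w c.1 := by
    intro c hc
    obtain ⟨-, hi', hj', hlin⟩ := hterms c hc
    rw [hlin]
    have h1 : (1 : ℤ) ≤ c.2.2.1 := by exact_mod_cast hi'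
    have h2 : (1 : ℤ) ≤ c.2.2.2 := by exact_mod_cast hj'
    have := hR.ga
    have := hR.gb
    nlinarith
  have hgp : 0 < gF D k w (D.simple k) := by rw [← he1]; exact hgpos e hemem
  -- choice of the parameters
  obtain ⟨ta, ub, hz⟩ : ∃ ta ub : K, ((e.2.1 : ℤ) : K) * (-ta) ^ e.2.2.1 * ub ^ e.2.2.2 = z := by
    have hCC : ((e.2.1 : ℤ) : K) * ((e.2.1 : ℤ) : K) = 1 := by
      rcases heC with h' | h' <;> rw [h'] <;> norm_num
    rcases heij with h' | h'
    · refine ⟨-(((e.2.1 : ℤ) : K) * z), 1, ?_⟩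
      rw [h', neg_neg, pow_one, one_pow, mul_one, ← mul_assoc, hCC, one_mul]
    · refine ⟨-1, ((e.2.1 : ℤ) : K) * z, ?_⟩
      rw [h', neg_neg, one_pow, mul_one, pow_one, ← mul_assoc, hCC, one_mul]
  set φ : ℕ × ℤ × ℕ × ℕ → ℕ × K := fun c => (c.1, ((c.2.1 : ℤ) : K) * (-ta) ^ c.2.2.1 * ub ^ c.2.2.2) with hφ
  have hword : D.commWord K a b ta ub = ((D.commTerms a b).take pos).map φ ++
      (D.simple k, z) :: ((D.commTerms a b).drop (pos + 1)).map φ := by
    have : D.commWord K a b ta ub = (D.commTerms a b).map φ := rfl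
    rw [this]
    conv_lhs => rw [hsplit]
    rw [List.map_append, List.map_cons]
    have : φ e = (D.simple k, z) := by
      show (e.1, _) = _
      rw [he1, hz]
    rw [this]
  set G := (YQ D K k j (linF D w)).comap (MulAut.conj (nn D K k t)).toMonoidHom with hG
  have hW : ∀ T : List (ℕ × ℤ × ℕ × ℕ), (∀ c ∈ T, c ∈ D.commTerms a b ∧ c.1 ≠ D.simple k ∧
      c.1 ≠ D.neg (D.simple k)) → wordG (X D K) (T.map φ) ∈ G := by
    intro T hT
    apply wordG_mem
    intro q hq
    rw [List.mem_map] at hq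
    obtain ⟨c, hc, rfl⟩ := hq
    obtain ⟨hc1, hc2, hc3⟩ := hT c hc
    exact hgood c.1 (hQterms c hc1) hc2 hc3 (hgpos c hc1) _
  have hW1 := hW ((D.commTerms a b).take pos) (fun c hc =>
    ⟨List.mem_of_mem_take hc, hR.others c (List.mem_append_left _ hc)⟩)
  have hW2 := hW ((D.commTerms a b).drop (pos + 1)) (fun c hc =>
    ⟨List.mem_of_mem_drop hc, hR.others c (List.mem_append_right _ hc)⟩)
  have hxa : X D K a ta ∈ G := hgood a ha hR.hap hR.hanp hR.ga _
  have hxb : X D K b ub ∈ G := hgood b hb hR.hbp hR.hbnp hR.gb _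
  have hrel := X_comm (K := K) ha hb hR.hba hR.hbna ta ub
  rw [hword, wordG_append, wordG_cons] at hrel
  have hxp : X D K (D.simple k) z ∈ G := by
    have e1 : X D K (D.simple k) z = (wordG (X D K) (((D.commTerms a b).take pos).map φ))⁻¹ *
        (X D K a ta * X D K b ub)⁻¹ * (X D K b ub * X D K a ta) *
        (wordG (X D K) (((D.commTerms a b).drop (pos + 1)).map φ))⁻¹ := by
      rw [hrel]; group
    rw [e1]
    exact Subgroup.mul_mem _ (Subgroup.mul_mem _ (Subgroup.mul_mem _ (Subgroup.inv_mem _ hW1)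
      (Subgroup.inv_mem _ (Subgroup.mul_mem _ hxa hxb))) (Subgroup.mul_mem _ hxb hxa))
      (Subgroup.inv_mem _ hW2)
  have hxp' : nn D K k t * X D K (D.simple k) z * (nn D K k t)⁻¹ ∈ YQ D K k j (linF D w) := hxp
  have hfnp : 0 < linF D w (D.neg (D.simple k)) := by
    rw [← reflectRoot_simple, hfg _ hF.hp]; exact hgp
  apply inj_YQ hD k j hf _ _ hxp' (X_mem_YQ k j _ _ hpn hfnp v)
  rw [map_mul, map_mul, map_inv, θ_nn hD k j k hp t, θ_X D hD K _ ⟨k, j, hp⟩, θ_X D hD K _ ⟨k, j, hpn⟩, h]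

/-- `n_k(-t)` in the Chevalley group -/
theorem wordGL_nWord_neg (k : ℕ) (hk : k < D.rank) (t : K) :
    wordGL D (mem7 hD) K (D.nWord (D.simple k) (-t)) = (wordGL D (mem7 hD) K (D.nWord (D.simple k) t))⁻¹ := by
  have hp := simple_mem hD k k k hk hk (Or.inl rfl)
  rw [← θ_nn hD k k k hp, ← θ_nn hD k k k hp, ← nn_inv' hD k hk, map_inv]

/-- conjugation by `n_k(t)` of the root elements of `-p_k` -/
theorem nn_conj_neg_self (k : ℕ) (hk : k < D.rank) (j a b pos : ℕ) (w : List ℤ)
    (ha : D.InRankTwoSub k j a) (hb : D.InRankTwoSub k j b) (hR : R1Facts D k a b pos w)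
    (hreflQ : ∀ r, D.InRankTwoSub k j r → D.InRankTwoSub k j (D.reflectRoot k r))
    (t : K) (ht : t ≠ 0) (z v : K)
    (h : wordGL D (mem7 hD) K (D.nWord (D.simple k) t) * xGL D (mem7 hD) K (D.neg (D.simple k)) z *
      (wordGL D (mem7 hD) K (D.nWord (D.simple k) t))⁻¹ = xGL D (mem7 hD) K (D.simple k) v) :
    nn D K k t * X D K (D.neg (D.simple k)) z * (nn D K k t)⁻¹ = X D K (D.simple k) v := by
  have h' : wordGL D (mem7 hD) K (D.nWord (D.simple k) (-t)) * xGL D (mem7 hD) K (D.simple k) v *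
      (wordGL D (mem7 hD) K (D.nWord (D.simple k) (-t)))⁻¹ = xGL D (mem7 hD) K (D.neg (D.simple k)) z := by
    rw [wordGL_nWord_neg hD k hk, ← h]; group
  have key := nn_conj_self hD k hk j a b pos w ha hb hR hreflQ (-t) (neg_ne_zero.mpr ht) v z h'
  rw [← nn_inv' hD k hk] at key
  rw [← key]; group

end

end Cfsg.Agent.Lib.Helper8.CTR2Self
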