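import Cfsg.Agent.Lib.Helper8.StSLA
import Cfsg.Agent.Lib.Lead.CentClA

/-!
# Central extensions of groups with the Steinberg relations of type `A`, part 1 (helper8)

For a surjective homomorphism `π : E → G` with central kernel onto a group with the Steinberg relations of type `A`:
the commutators `br` of lifts of root elements; lifts of commuting root elements commute when there is a further index
(Milnor's argument) or a suitable torus element; a Hall–Witt type symmetry.
-/

set_option autoImplicit false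

namespace Cfsg.Agent.Lib.Helper8.StSL

open scoped commutatorElement

open Cfsg.Agent.Lib.Lead.CentCl

namespace StRel

variable {I : Type*} {K : Type*} [Field K] {G : Type*} [Group G] (S : StRel I K G)

theorem comm_chain {i j l : I} (hij : i ≠ j) (hjl : j ≠ l) (hil : i ≠ l) (t u : K) :
    ⁅S.x i j t, S.x j l u⁆ = S.x i l (t * u) := by
  rw [commutatorElement_def]
  exact S.rel i j l hij hjl hil t u

theorem comm_one {i j k l : I} (hij : i ≠ j) (hkl : k ≠ l) (hil : i ≠ l) (hjk : j ≠ k) (t u : K) :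
    ⁅S.x i j t, S.x k l u⁆ = 1 :=
  commutatorElement_eq_one_iff_commute.mpr (S.comm i j k l hij hkl hil hjk t u)

end StRel

section

variable {I : Type*} {K : Type*} [Field K] {G E : Type*} [Group G] [Group E]
  (S : StRel I K G) (π : E →* G) (hπ : Function.Surjective π) (hc : π.ker ≤ Subgroup.center E)

/-- a chosen preimage -/
noncomputable def lft (g : G) : E := Classical.choose (hπ g)

theorem lft_spec (g : G) : π (lft π hπ g) = g := Classical.choose_spec (hπ g)

/-- the commutator of lifts of two root elements -/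
noncomputable def br (i j k l : I) (t u : K) : E := ⁅lft π hπ (S.x i j t), lft π hπ (S.x k l u)⁆

include hc in
theorem br_eq {i j k l : I} {t u : K} {e₁ e₂ : E} (h1 : π e₁ = S.x i j t) (h2 : π e₂ = S.x k l u) :
    ⁅e₁, e₂⁆ = br S π hπ i j k l t u := by
  unfold br
  exact commutator_congr π hc (by rw [h1, lft_spec]) (by rw [h2, lft_spec])

theorem π_br_chain {i j l : I} (hij : i ≠ j) (hjl : j ≠ l) (hil : i ≠ l) (t u : K) :
    π (br S π hπ i j j l t u) = S.x i l (t * u) := by
  unfold br
  rw [map_commutatorElement, lft_spec, lft_spec, S.comm_chain hij hjl hil]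

theorem br_mem_ker {i j k l : I} (hij : i ≠ j) (hkl : k ≠ l) (hil : i ≠ l) (hjk : j ≠ k) (t u : K) :
    br S π hπ i j k l t u ∈ π.ker := by
  unfold br
  rw [MonoidHom.mem_ker, map_commutatorElement, lft_spec, lft_spec, S.comm_one hij hkl hil hjk]

include hc in
theorem br_comm {i j k l : I} (hij : i ≠ j) (hkl : k ≠ l) (hil : i ≠ l) (hjk : j ≠ k) (t u : K) (e : E) :
    e * br S π hπ i j k l t u = br S π hπ i j k l t u * e :=
  (comm_of_mem_ker π hc (br_mem_ker S π hπ hij hkl hil hjk t u) e).symm

include hc in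
theorem br_conj {i j k l : I} (hij : i ≠ j) (hkl : k ≠ l) (hil : i ≠ l) (hjk : j ≠ k) (t u : K) (e : E) :
    e * br S π hπ i j k l t u * e⁻¹ = br S π hπ i j k l t u := by
  rw [br_comm S π hπ hc hij hkl hil hjk t u e, mul_inv_cancel_right]

/-- lifts of `x_ij(t)` and `x_kl(u)` commute, for all `t`, `u` -/
def CommAt (i j k l : I) : Prop := ∀ t u : K, br S π hπ i j k l t u = 1

variable {S π hπ}

include hc in
theorem CommAt.commute {i j k l : I} (h : CommAt S π hπ i j k l) {t u : K} {e₁ e₂ : E}
    (h1 : π e₁ = S.x i j t) (h2 : π e₂ = S.x k l u) : Commute e₁ e₂ := by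
  rw [← commutatorElement_eq_one_iff_commute, br_eq S π hπ hc h1 h2]
  exact h t u

include hc in
theorem CommAt.symm {i j k l : I} (h : CommAt S π hπ i j k l) : CommAt S π hπ k l i j := by
  intro t u
  have := h.commute hc (lft_spec π hπ (S.x i j u)) (lft_spec π hπ (S.x k l t))
  unfold br
  exact commutatorElement_eq_one_iff_commute.mpr this.symm

variable (S π hπ)

include hc in
/-- Milnor's argument: lifts of commuting root elements commute when there is a further index -/
theorem commAt_milnor {i j k l h : I} (hij : i ≠ j) (hkl : k ≠ l) (hil : i ≠ l) (hjk : j ≠ k)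
    (hhi : h ≠ i) (hhj : h ≠ j) (hhk : h ≠ k) (hhl : h ≠ l) : CommAt S π hπ i j k l := by
  intro t u
  have h1 : π ⁅lft π hπ (S.x i h t), lft π hπ (S.x h j 1)⁆ = S.x i j t := by
    rw [map_commutatorElement, lft_spec, lft_spec, S.comm_chain hhi.symm hhj hij, mul_one]
  have h2 : Commute (lft π hπ (S.x k l u)) ⁅lft π hπ (S.x i h t), lft π hπ (S.x h j 1)⁆ := by
    apply commute_commutator π hc
    · rw [lft_spec, lft_spec]
      exact S.comm k l i h hkl hhi.symm hhk.symm hil.symm _ _
    · rw [lft_spec, lft_spec]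
      exact S.comm k l h j hkl hhj hjk.symm hhl.symm _ _
  rw [← br_eq S π hπ hc h1 (lft_spec π hπ _)]
  exact commutatorElement_eq_one_iff_commute.mpr h2.symm

include hc in
theorem br_add_left {i j k l : I} (hij : i ≠ j) (hkl : k ≠ l) (hil : i ≠ l) (hjk : j ≠ k) (t t' u : K) :
    br S π hπ i j k l (t + t') u = br S π hπ i j k l t u * br S π hπ i j k l t' u := by
  have h1 : π (lft π hπ (S.x i j t) * lft π hπ (S.x i j t')) = S.x i j (t + t') := by
    rw [map_mul, lft_spec, lft_spec, S.add i j hij]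
  rw [← br_eq S π hπ hc h1 (lft_spec π hπ (S.x k l u)), commutator_mul_left,
    br_eq S π hπ hc (lft_spec π hπ (S.x i j t')) (lft_spec π hπ (S.x k l u)),
    br_eq S π hπ hc (lft_spec π hπ (S.x i j t)) (lft_spec π hπ (S.x k l u)),
    br_conj S π hπ hc hij hkl hil hjk, br_comm S π hπ hc hij hkl hil hjk t u]

include hc in
theorem br_zero_left {i j : I} (hij : i ≠ j) (k l : I) (u : K) : br S π hπ i j k l 0 u = 1 := by
  have h1 : π (1 : E) = S.x i j 0 := by rw [map_one, S.x_zero hij]
  rw [← br_eq S π hπ hc h1 (lft_spec π hπ (S.x k l u))]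
  exact commutatorElement_one_left _

include hc in
/-- transport of `br` by conjugation -/
theorem br_transport {i j k l i' j' k' l' : I} (hij : i ≠ j) (hkl : k ≠ l) (hil : i ≠ l) (hjk : j ≠ k)
    (g : G) {t u t' u' : K} (h1 : g * S.x i j t * g⁻¹ = S.x i' j' t')
    (h2 : g * S.x k l u * g⁻¹ = S.x k' l' u') :
    br S π hπ i j k l t u = br S π hπ i' j' k' l' t' u' := by
  have e1 : π (lft π hπ g * lft π hπ (S.x i j t) * (lft π hπ g)⁻¹) = S.x i' j' t' := by
    rw [map_mul, map_mul, map_inv, lft_spec, lft_spec, h1]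
  have e2 : π (lft π hπ g * lft π hπ (S.x k l u) * (lft π hπ g)⁻¹) = S.x k' l' u' := by
    rw [map_mul, map_mul, map_inv, lft_spec, lft_spec, h2]
  rw [← br_eq S π hπ hc e1 e2, ← conjugate_commutatorElement]
  exact (br_conj S π hπ hc hij hkl hil hjk t u _).symm

include hc in
/-- the torus argument: lifts of commuting root elements commute when some element centralises one root subgroup and
acts on the other by a scalar different from `1` -/
theorem commAt_torus {i j k l : I} (hij : i ≠ j) (hkl : k ≠ l) (hil : i ≠ l) (hjk : j ≠ k)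
    (g : G) (lam : K) (hlam : lam ≠ 1) (h1 : ∀ t, g * S.x i j t * g⁻¹ = S.x i j (lam * t))
    (h2 : ∀ u, g * S.x k l u * g⁻¹ = S.x k l u) : CommAt S π hπ i j k l := by
  have key : ∀ t u, br S π hπ i j k l (lam * t) u = br S π hπ i j k l t u := fun t u =>
    (br_transport S π hπ hc hij hkl hil hjk g (h1 t) (h2 u)).symm
  have hl : lam - 1 ≠ 0 := sub_ne_zero.mpr hlam
  intro t u
  have e : t = lam * (t / (lam - 1)) + -(t / (lam - 1)) := by
    field_simp
    ring
  rw [e, br_add_left S π hπ hc hij hkl hil hjk, key, ← br_add_left S π hπ hc hij hkl hil hjk, add_neg_cancel,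
    br_zero_left S π hπ hc hij]

include hc in
/-- a Hall–Witt type symmetry for four distinct indices -/
theorem br_swap {i j k l : I} (hij : i ≠ j) (hkl : k ≠ l) (hil : i ≠ l) (hjk : j ≠ k) (hik : i ≠ k)
    (hjl : j ≠ l) (hcol1 : CommAt S π hπ i j k j) (hcol2 : CommAt S π hπ i l k l) (t u : K) :
    br S π hπ i j k l t u = br S π hπ k j i l u t := by
  set a := lft π hπ (S.x i j t) with ha
  set b := lft π hπ (S.x k j u) with hb
  set c := lft π hπ (S.x j l 1) with hc'
  have πa : π a = S.x i j t := lft_spec π hπ _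
  have πb : π b = S.x k j u := lft_spec π hπ _
  have πc : π c = S.x j l 1 := lft_spec π hπ _
  have πbc : π ⁅b, c⁆ = S.x k l u := by
    rw [map_commutatorElement, πb, πc, S.comm_chain hjk.symm hjl hkl, mul_one]
  have πac : π ⁅a, c⁆ = S.x i l t := by
    rw [map_commutatorElement, πa, πc, S.comm_chain hij hjl hil, mul_one]
  have hab : Commute a b := hcol1.commute hc πa πb
  have hd : Commute ⁅a, c⁆ ⁅b, c⁆ := hcol2.commute hc πac πbc
  have e1 : a * b * a⁻¹ = b := by rw [hab.eq, mul_inv_cancel_right]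
  have e2 : a * c * a⁻¹ = ⁅a, c⁆ * c := by rw [commutatorElement_def]; group
  have e3 : a * ⁅b, c⁆ * a⁻¹ = ⁅b, ⁅a, c⁆⁆ * ⁅b, c⁆ := by
    rw [conjugate_commutatorElement, e1, e2, commutator_mul_right, hd.eq, mul_inv_cancel_right]
  rw [← br_eq S π hπ hc πa πbc, ← br_eq S π hπ hc πb πac]
  calc ⁅a, ⁅b, c⁆⁆ = a * ⁅b, c⁆ * a⁻¹ * ⁅b, c⁆⁻¹ := commutatorElement_def _ _
    _ = ⁅b, ⁅a, c⁆⁆ := by rw [e3, mul_inv_cancel_right]

end

end Cfsg.Agent.Lib.Helper8.StSL
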