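import Cfsg.Agent.Lib.Helper8.CcSLA

/-!
# Central extensions of groups with the Steinberg relations of type `A`, part 2 (helper8)

Additivity of the commutators of lifts, the identity relating the decompositions of a root through two different
middle indices, the torus argument for the dependence on the product only, the special argument for the field with
three elements, and the construction of lifted generators satisfying the Steinberg relations.
-/

set_option autoImplicit false

namespace Cfsg.Agent.Lib.Helper8.StSL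

open scoped commutatorElement

open Cfsg.Agent.Lib.Lead.CentCl

section

variable {I : Type*} {K : Type*} [Field K] {G E : Type*} [Group G] [Group E]
  (S : StRel I K G) (π : E →* G) (hπ : Function.Surjective π) (hc : π.ker ≤ Subgroup.center E)

include hc in
/-- additivity in the first variable of the commutator of lifts of `x_ik(t)` and `x_kj(u)` -/
theorem br_chain_add {i k j : I} (hik : i ≠ k) (hkj : k ≠ j) (hij : i ≠ j)
    (hrow : CommAt S π hπ i k i j) (t t' u : K) :
    br S π hπ i k k j (t + t') u = br S π hπ i k k j t u * br S π hπ i k k j t' u := by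
  have key : ∀ t t' : K, br S π hπ i k k j (t + t') u = br S π hπ i k k j t' u * br S π hπ i k k j t u := by
    intro t t'
    have πa : π (lft π hπ (S.x i k t)) = S.x i k t := lft_spec π hπ _
    have πa' : π (lft π hπ (S.x i k t')) = S.x i k t' := lft_spec π hπ _
    have πb : π (lft π hπ (S.x k j u)) = S.x k j u := lft_spec π hπ _
    have h1 : π (lft π hπ (S.x i k t) * lft π hπ (S.x i k t')) = S.x i k (t + t') := by
      rw [map_mul, πa, πa', S.add i k hik]
    have h2 : π ⁅lft π hπ (S.x i k t'), lft π hπ (S.x k j u)⁆ = S.x i j (t' * u) := by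
      rw [map_commutatorElement, πa', πb, S.comm_chain hik hkj hij]
    have hcm : Commute (lft π hπ (S.x i k t)) ⁅lft π hπ (S.x i k t'), lft π hπ (S.x k j u)⁆ :=
      hrow.commute hc πa h2
    rw [← br_eq S π hπ hc h1 πb, commutator_mul_left, hcm.eq, mul_inv_cancel_right,
      br_eq S π hπ hc πa' πb, br_eq S π hπ hc πa πb]
  rw [add_comm, key]

include hc in
/-- the two decompositions of `x_ij(abc)` through the middle indices `h` and `k` -/
theorem br_three_fold {i h k j : I} (hih : i ≠ h) (hhk : h ≠ k) (hkj : k ≠ j) (hik : i ≠ k) (hhj : h ≠ j)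
    (hij : i ≠ j) (hd1 : CommAt S π hπ i h k j) (hd2 : CommAt S π hπ i k h j)
    (hcol : CommAt S π hπ i j h j) (a b c : K) :
    br S π hπ i h h j a (b * c) = br S π hπ i k k j (a * b) c := by
  set u := lft π hπ (S.x i h a) with hu
  set v := lft π hπ (S.x h k b) with hv
  set w := lft π hπ (S.x k j c) with hw
  have πu : π u = S.x i h a := lft_spec π hπ _
  have πv : π v = S.x h k b := lft_spec π hπ _
  have πw : π w = S.x k j c := lft_spec π hπ _
  have πuv : π ⁅u, v⁆ = S.x i k (a * b) := by
    rw [map_commutatorElement, πu, πv, S.comm_chain hih hhk hik]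
  have πvw : π ⁅v, w⁆ = S.x h j (b * c) := by
    rw [map_commutatorElement, πv, πw, S.comm_chain hhk hkj hhj]
  have πZ : π ⁅⁅u, v⁆, w⁆ = S.x i j (a * b * c) := by
    rw [map_commutatorElement, πuv, πw, S.comm_chain hik hkj hij]
  have huw : Commute u w := hd1.commute hc πu πw
  have hz : Commute ⁅u, v⁆ ⁅v, w⁆ := hd2.commute hc πuv πvw
  have h3 : Commute ⁅⁅u, v⁆, w⁆ ⁅v, w⁆ := hcol.commute hc πZ πvw
  have e1 : u * v * u⁻¹ = ⁅u, v⁆ * v := by rw [commutatorElement_def]; group
  have e2 : u * w * u⁻¹ = w := by rw [huw.eq, mul_inv_cancel_right]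
  have e3 : u * ⁅v, w⁆ * u⁻¹ = ⁅v, w⁆ * ⁅⁅u, v⁆, w⁆ := by
    rw [conjugate_commutatorElement, e1, e2, commutator_mul_left, hz.eq, mul_inv_cancel_right]
  rw [← br_eq S π hπ hc πu πvw, ← br_eq S π hπ hc πuv πw]
  calc ⁅u, ⁅v, w⁆⁆ = u * ⁅v, w⁆ * u⁻¹ * ⁅v, w⁆⁻¹ := commutatorElement_def _ _
    _ = ⁅⁅u, v⁆, w⁆ := by rw [e3, h3.symm.eq, mul_inv_cancel_right]

include hc in
/-- the torus argument for the dependence on the product only -/
theorem br_prod_torus {i k j : I} (hik : i ≠ k) (hkj : k ≠ j) (hij : i ≠ j)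
    (hrow : CommAt S π hπ i k i j) (g : G) (lam : K) (hlam : lam ≠ 1)
    (h1 : ∀ t, g * S.x i k t * g⁻¹ = S.x i k (lam * t)) (h2 : ∀ u, g * S.x k j u * g⁻¹ = S.x k j u) (t u : K) :
    br S π hπ i k k j t u = br S π hπ i k k j (t * u) 1 := by
  have hl : lam - 1 ≠ 0 := sub_ne_zero.mpr hlam
  -- the commutator of a lift of `g` with a lift of `x_ij(s)`
  have key : ∀ t u : K, br S π hπ i k k j ((lam - 1) * t) u =
      ⁅lft π hπ g, lft π hπ (S.x i j (t * u))⁆ := by
    intro t u
    have πa : π (lft π hπ (S.x i k t)) = S.x i k t := lft_spec π hπ _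
    have πb : π (lft π hπ (S.x k j u)) = S.x k j u := lft_spec π hπ _
    have πy : π ⁅lft π hπ (S.x i k t), lft π hπ (S.x k j u)⁆ = S.x i j (t * u) := by
      rw [map_commutatorElement, πa, πb, S.comm_chain hik hkj hij]
    have e1 : π (lft π hπ g * lft π hπ (S.x i k t) * (lft π hπ g)⁻¹) = S.x i k (lam * t) := by
      rw [map_mul, map_mul, map_inv, lft_spec, πa, h1]
    have e2 : π (lft π hπ g * lft π hπ (S.x k j u) * (lft π hπ g)⁻¹) = S.x k j u := by
      rw [map_mul, map_mul, map_inv, lft_spec, πb, h2]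
    have e3 : ⁅lft π hπ g, lft π hπ (S.x i j (t * u))⁆ =
        ⁅lft π hπ g, ⁅lft π hπ (S.x i k t), lft π hπ (S.x k j u)⁆⁆ :=
      commutator_congr π hc rfl (by rw [lft_spec, πy])
    have e4 : (lam - 1) * t = lam * t + -t := by ring
    rw [e3, commutatorElement_def (lft π hπ g), conjugate_commutatorElement, br_eq S π hπ hc e1 e2,
      br_eq S π hπ hc πa πb, e4, br_chain_add S π hπ hc hik hkj hij hrow]
    have e5 : br S π hπ i k k j (-t) u * br S π hπ i k k j t u = 1 := by
      rw [← br_chain_add S π hπ hc hik hkj hij hrow, neg_add_cancel]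
      have h0 : π (1 : E) = S.x i k 0 := by rw [map_one, S.x_zero hik]
      rw [← br_eq S π hπ hc h0 (lft_spec π hπ (S.x k j u))]
      exact commutatorElement_one_left _
    rw [eq_inv_of_mul_eq_one_left e5]
  have e1 : t = (lam - 1) * (t / (lam - 1)) := by field_simp
  have e2 : t * u = (lam - 1) * (t * u / (lam - 1)) := by field_simp
  conv_lhs => rw [e1]
  conv_rhs => rw [e2]
  rw [key, key]
  congr 2
  field_simp

include hc in
/-- the special argument for four distinct indices over the field with three elements -/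
theorem commAt_card_three {i j k l : I} (hij : i ≠ j) (hkl : k ≠ l) (hil : i ≠ l) (hjk : j ≠ k) (hik : i ≠ k)
    (hjl : j ≠ l) (hcol1 : CommAt S π hπ i j k j) (hcol2 : CommAt S π hπ i l k l)
    (hK : ∀ t : K, t = 0 ∨ t = 1 ∨ t = -1) (h3 : (1 : K) + 1 + 1 = 0) : CommAt S π hπ i j k l := by
  -- `γ (u, t) = br k j i l u t`
  have hsw : ∀ t u : K, br S π hπ i j k l t u = br S π hπ k j i l u t :=
    br_swap S π hπ hc hij hkl hil hjk hik hjl hcol1 hcol2
  have hw : ∀ t u : K, br S π hπ i j k l t u = br S π hπ k j i l (-t) u := by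
    intro t u
    have e1 : S.w i k 1 * S.x i j t * (S.w i k 1)⁻¹ = S.x k j (-t) := by
      have := S.w_conj_ik hik hjk.symm hij 1 t one_ne_zero
      rw [MulAut.conj_apply] at this
      rw [this]
      congr 1
      rw [inv_one, neg_one_mul]
    have e2 : S.w i k 1 * S.x k l u * (S.w i k 1)⁻¹ = S.x i l u := by
      have := S.w_conj_jk hik hkl hil 1 u one_ne_zero
      rw [MulAut.conj_apply] at this
      rw [this, one_mul]
    exact br_transport S π hπ hc hij hkl hil hjk (S.w i k 1) e1 e2
  -- the relation `γ (u, t) = γ (-t, u)`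
  have R : ∀ u t : K, br S π hπ k j i l u t = br S π hπ k j i l (-t) u := by
    intro u t
    rw [← hsw, hw]
  have hadd : ∀ t t' u : K, br S π hπ k j i l (t + t') u = br S π hπ k j i l t u * br S π hπ k j i l t' u :=
    br_add_left S π hπ hc hjk.symm hil hkl hij.symm
  have h0 : ∀ u : K, br S π hπ k j i l 0 u = 1 := br_zero_left S π hπ hc hjk.symm i l
  have h0' : ∀ u : K, br S π hπ k j i l u 0 = 1 := by
    intro u
    rw [R, neg_zero, h0]
  have h11 : br S π hπ k j i l 1 1 = 1 := by
    have e1 : br S π hπ k j i l (-1) 1 = br S π hπ k j i l 1 1 := (R 1 1).symm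
    have e2 : br S π hπ k j i l (-1) 1 * br S π hπ k j i l 1 1 = 1 := by
      rw [← hadd, neg_add_cancel, h0]
    rw [e1] at e2
    have e3 : br S π hπ k j i l 1 1 * br S π hπ k j i l 1 1 * br S π hπ k j i l 1 1 = 1 := by
      rw [← hadd, ← hadd, h3, h0]
    rw [e2, one_mul] at e3
    exact e3
  have hm11 : br S π hπ k j i l (-1) 1 = 1 := by rw [← R, h11]
  have h1m1 : br S π hπ k j i l 1 (-1) = 1 := by rw [R, neg_neg, h11]
  have hm1m1 : br S π hπ k j i l (-1) (-1) = 1 := by rw [R, neg_neg, h1m1]
  intro t u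
  rw [hsw]
  rcases hK u with rfl | rfl | rfl
  · exact h0 t
  · rcases hK t with rfl | rfl | rfl
    · exact h0' _
    · exact h11
    · exact h1m1
  · rcases hK t with rfl | rfl | rfl
    · exact h0' _
    · exact hm11
    · exact hm1m1

include hc in
/-- lifted generators satisfying the Steinberg relations -/
theorem exists_stRel_lift_of (third : ∀ i j : I, ∃ k, k ≠ i ∧ k ≠ j)
    (hcomm : ∀ i j k l : I, i ≠ j → k ≠ l → i ≠ l → j ≠ k → CommAt S π hπ i j k l)
    (hprod : ∀ i k j : I, i ≠ k → k ≠ j → i ≠ j → ∀ t u : K,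
      br S π hπ i k k j t u = br S π hπ i k k j (t * u) 1)
    (hmid : ∀ i h k j : I, i ≠ h → h ≠ j → i ≠ k → k ≠ j → i ≠ j → h ≠ k → ∀ t : K,
      br S π hπ i h h j t 1 = br S π hπ i k k j t 1) :
    ∃ S' : StRel I K E, ∀ i j : I, i ≠ j → ∀ t : K, π (S'.x i j t) = S.x i j t := by
  classical
  choose m hm using third
  -- the lifted generators
  set Y : I → I → K → E := fun i j t => br S π hπ i (m i j) (m i j) j t 1 with hY
  have P1 : ∀ i k j : I, i ≠ k → k ≠ j → i ≠ j → ∀ t u : K, br S π hπ i k k j t u = Y i j (t * u) := by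
    intro i k j hik hkj hij t u
    rw [hprod i k j hik hkj hij]
    by_cases hk : k = m i j
    · rw [hk]
    · exact hmid i k (m i j) j hik hkj (hm i j).1.symm (hm i j).2 hij hk _
  have πY : ∀ i j : I, i ≠ j → ∀ t : K, π (Y i j t) = S.x i j t := by
    intro i j hij t
    rw [hY]
    show π (br S π hπ i (m i j) (m i j) j t 1) = _
    rw [π_br_chain S π hπ (hm i j).1.symm (hm i j).2 hij, mul_one]
  refine ⟨⟨Y, ?_, ?_, ?_⟩, πY⟩
  · intro i j hij t u
    show br S π hπ i (m i j) (m i j) j t 1 * br S π hπ i (m i j) (m i j) j u 1 =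
      br S π hπ i (m i j) (m i j) j (t + u) 1
    rw [br_chain_add S π hπ hc (hm i j).1.symm (hm i j).2 hij
      (hcomm i (m i j) i j (hm i j).1.symm hij hij (hm i j).1)]
  · intro i j k l hij hkl hil hjk t u
    exact (hcomm i j k l hij hkl hil hjk).commute hc (πY i j hij t) (πY k l hkl u)
  · intro i j l hij hjl hil t u
    rw [← commutatorElement_def, br_eq S π hπ hc (πY i j hij t) (πY j l hjl u)]
    exact P1 i j l hij hjl hil t u

end

end Cfsg.Agent.Lib.Helper8.StSL
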