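import Cfsg.Agent.Lib.Helper8.CcSLB
import Cfsg.Agent.Lib.Helper8.StSLL

/-!
# Central extensions of groups with the Steinberg relations of type `A`, part 3 (helper8)

Torus elements, the case analysis on the number of indices, and the lifting theorem: the generators of a group with the
Steinberg relations of type `A` lift to every central extension (under the usual conditions on small fields when there
are three or four indices).
-/

set_option autoImplicit false

namespace Cfsg.Agent.Lib.Helper8.StSL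

open scoped commutatorElement

open Cfsg.Agent.Lib.Lead.CentCl Cfsg.Agent.Lib.Helper11.Steinberg2

namespace StRel

variable {I : Type*} {K : Type*} [Field K] {G : Type*} [Group G] (S : StRel I K G)

/-- the torus element with entries `c⁻²` at `a` and `c` at `b`, `b'` -/
def tor (a b b' : I) (c : K) : G := S.h b a c * S.h b' a c

theorem tor_conj (a b b' : I) (c : K) (g : G) :
    S.tor a b b' c * g * (S.tor a b b' c)⁻¹ = MulAut.conj (S.h b a c) (MulAut.conj (S.h b' a c) g) := by
  unfold tor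
  rw [← MulAut.conj_apply, map_mul, MulAut.mul_apply]

theorem tor_fix {a b b' : I} (hab : a ≠ b) (hab' : a ≠ b') (hbb' : b ≠ b') (c u : K) (hc0 : c ≠ 0) :
    S.tor a b b' c * S.x b b' u * (S.tor a b b' c)⁻¹ = S.x b b' u := by
  rw [tor_conj, S.h_conj_ki hab'.symm hab hbb'.symm c u hc0, S.h_conj_ik hab.symm hab' hbb' c _ hc0]
  congr 1
  field_simp

theorem tor_fix' {a b b' : I} (hab : a ≠ b) (hab' : a ≠ b') (hbb' : b ≠ b') (c u : K) (hc0 : c ≠ 0) :
    S.tor a b b' c * S.x b' b u * (S.tor a b b' c)⁻¹ = S.x b' b u := by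
  rw [tor_conj, S.h_conj_ik hab'.symm hab hbb'.symm c u hc0, S.h_conj_ki hab.symm hab' hbb' c _ hc0]
  congr 1
  field_simp

theorem tor_ab {a b b' : I} (hab : a ≠ b) (hab' : a ≠ b') (hbb' : b ≠ b') (c t : K) (hc0 : c ≠ 0) :
    S.tor a b b' c * S.x a b t * (S.tor a b b' c)⁻¹ = S.x a b ((c ^ 3)⁻¹ * t) := by
  have h2 : MulAut.conj (S.h b a c) (S.x a b (c⁻¹ * t)) = S.x a b ((c ^ 2)⁻¹ * (c⁻¹ * t)) :=
    (S.pair hab.symm hab' hbb').h_y c (c⁻¹ * t) hc0
  rw [tor_conj, S.h_conj_jk hab'.symm hab hbb'.symm c t hc0, h2]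
  congr 1
  field_simp

theorem tor_ba {a b b' : I} (hab : a ≠ b) (hab' : a ≠ b') (hbb' : b ≠ b') (c t : K) (hc0 : c ≠ 0) :
    S.tor a b b' c * S.x b a t * (S.tor a b b' c)⁻¹ = S.x b a (c ^ 3 * t) := by
  have h2 : MulAut.conj (S.h b a c) (S.x b a (c * t)) = S.x b a (c ^ 2 * (c * t)) :=
    (S.pair hab.symm hab' hbb').h_x c (c * t) hc0
  rw [tor_conj, S.h_conj_kj hab'.symm hab hbb'.symm c t hc0, h2]
  congr 1
  ring

theorem tor_am {a b b' m : I} (hab : a ≠ b) (hab' : a ≠ b') (ham : a ≠ m) (hbm : b ≠ m)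
    (hbm' : b' ≠ m) (c t : K) (hc0 : c ≠ 0) :
    S.tor a b b' c * S.x a m t * (S.tor a b b' c)⁻¹ = S.x a m ((c ^ 2)⁻¹ * t) := by
  rw [tor_conj, S.h_conj_jk hab'.symm ham hbm' c t hc0, S.h_conj_jk hab.symm ham hbm c _ hc0]
  congr 1
  field_simp

end StRel

section

variable {I : Type*} {K : Type*} [Field K] {G E : Type*} [Group G] [Group E]
  (S : StRel I K G) (π : E →* G) (hπ : Function.Surjective π) (hc : π.ker ≤ Subgroup.center E)

include hc in
theorem commAt_row3 {i j l : I} (hij : i ≠ j) (hil : i ≠ l) (hjl : j ≠ l) (c : K) (hc0 : c ≠ 0)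
    (hc3 : c ^ 3 ≠ 1) : CommAt S π hπ i j i l :=
  commAt_torus S π hπ hc hij hil hil hij.symm (S.tor j i l c) (c ^ 3) hc3
    (fun t => S.tor_ba hij.symm hjl hil c t hc0) (fun u => S.tor_fix hij.symm hjl hil c u hc0)

include hc in
theorem commAt_col3 {i j l : I} (hij : i ≠ j) (hil : i ≠ l) (hjl : j ≠ l) (c : K) (hc0 : c ≠ 0)
    (hc3 : c ^ 3 ≠ 1) : CommAt S π hπ i j l j :=
  commAt_torus S π hπ hc hij hjl.symm hij hjl (S.tor i j l c) (c ^ 3)⁻¹
    (fun h => hc3 (inv_eq_one.mp h))
    (fun t => S.tor_ab hij hil hjl c t hc0) (fun u => S.tor_fix' hij hil hjl c u hc0)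

include hc in
theorem br_prod3 {i k j : I} (hik : i ≠ k) (hkj : k ≠ j) (hij : i ≠ j) (hrow : CommAt S π hπ i k i j)
    (c : K) (hc0 : c ≠ 0) (hc3 : c ^ 3 ≠ 1) (t u : K) :
    br S π hπ i k k j t u = br S π hπ i k k j (t * u) 1 :=
  br_prod_torus S π hπ hc hik hkj hij hrow (S.tor i k j c) (c ^ 3)⁻¹ (fun h => hc3 (inv_eq_one.mp h))
    (fun t => S.tor_ab hik hij hkj c t hc0) (fun u => S.tor_fix hik hij hkj c u hc0) t u

include hc in
theorem commAt_disj4 {i j k l : I} (hij : i ≠ j) (hkl : k ≠ l) (hil : i ≠ l) (hjk : j ≠ k) (hik : i ≠ k)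
    (hjl : j ≠ l) (c : K) (hc0 : c ≠ 0) (hc2 : c ^ 2 ≠ 1) : CommAt S π hπ i j k l :=
  commAt_torus S π hπ hc hij hkl hil hjk (S.tor i k l c) (c ^ 2)⁻¹ (fun h => hc2 (inv_eq_one.mp h))
    (fun t => S.tor_am hik hil hij hjk.symm hjl.symm c t hc0) (fun u => S.tor_fix hik hil hkl c u hc0)

end

section card

variable {I : Type*} [Fintype I] [DecidableEq I]

theorem exists_fourth (h4 : 4 ≤ Fintype.card I) (a b c : I) : ∃ h, h ≠ a ∧ h ≠ b ∧ h ≠ c := by
  by_contra hcon
  push Not at hcon
  have hsub : (Finset.univ : Finset I) ⊆ {a, b, c} := by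
    intro k _
    by_cases hk : k = a
    · simp [hk]
    · by_cases hk' : k = b
      · simp [hk']
      · simp [hcon k hk hk']
  have := Finset.card_le_card hsub
  rw [Finset.card_univ] at this
  have h2 : ({a, b, c} : Finset I).card ≤ 3 := Finset.card_le_three
  omega

theorem exists_fifth (h5 : 5 ≤ Fintype.card I) (a b c d : I) : ∃ h, h ≠ a ∧ h ≠ b ∧ h ≠ c ∧ h ≠ d := by
  by_contra hcon
  push Not at hcon
  have hsub : (Finset.univ : Finset I) ⊆ {a, b, c, d} := by
    intro k _
    by_cases hk : k = a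
    · simp [hk]
    · by_cases hk' : k = b
      · simp [hk']
      · by_cases hk'' : k = c
        · simp [hk'']
        · simp [hcon k hk hk' hk'']
  have := Finset.card_le_card hsub
  rw [Finset.card_univ] at this
  have h2 : ({a, b, c, d} : Finset I).card ≤ 4 := Finset.card_le_four
  omega

theorem four_le_card_of_distinct {i j k l : I} (hij : i ≠ j) (hik : i ≠ k) (hil : i ≠ l) (hjk : j ≠ k)
    (hjl : j ≠ l) (hkl : k ≠ l) : 4 ≤ Fintype.card I := by
  have h : ({i, j, k, l} : Finset I).card = 4 := by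
    rw [Finset.card_insert_of_notMem, Finset.card_insert_of_notMem, Finset.card_insert_of_notMem,
      Finset.card_singleton]
    · simpa using hkl
    · simp [hjk, hjl]
    · simp [hij, hik, hil]
  rw [← h]
  exact Finset.card_le_univ _

end card

section main

variable {I : Type*} [Fintype I] [DecidableEq I] {K : Type*} [Field K] {G E : Type*} [Group G] [Group E]
  (S : StRel I K G) (π : E →* G) (hπ : Function.Surjective π) (hc : π.ker ≤ Subgroup.center E)

include hπ hc in
/-- **The generators of a group with the Steinberg relations of type `A` lift to every central extension.** -/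
theorem exists_stRel_lift (h3 : 3 ≤ Fintype.card I)
    (hK3 : Fintype.card I = 3 → ∃ c : K, c ≠ 0 ∧ c ^ 3 ≠ 1)
    (hK4 : Fintype.card I = 4 → (∃ c : K, c ≠ 0 ∧ c ^ 2 ≠ 1) ∨
      ((∀ t : K, t = 0 ∨ t = 1 ∨ t = -1) ∧ (1 : K) + 1 + 1 = 0)) :
    ∃ S' : StRel I K E, ∀ i j : I, i ≠ j → ∀ t : K, π (S'.x i j t) = S.x i j t := by
  have third := exists_third h3
  -- lifts of commuting root elements commute
  have hcomm : ∀ i j k l : I, i ≠ j → k ≠ l → i ≠ l → j ≠ k → CommAt S π hπ i j k l := by
    intro i j k l hij hkl hil hjk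
    by_cases hik : i = k
    · subst hik
      by_cases hjl : j = l
      · subst hjl
        obtain ⟨h, hhi, hhj⟩ := third i j
        exact commAt_milnor S π hπ hc hij hij hij hij.symm hhi hhj hhi hhj
      · -- same row
        by_cases h4 : 4 ≤ Fintype.card I
        · obtain ⟨h, hhi, hhj, hhl⟩ := exists_fourth h4 i j l
          exact commAt_milnor S π hπ hc hij hkl hil hjk hhi hhj hhi hhl
        · obtain ⟨c, hc0, hc3⟩ := hK3 (by omega)
          exact commAt_row3 S π hπ hc hij hil hjl c hc0 hc3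
    · by_cases hjl : j = l
      · subst hjl
        -- same column
        by_cases h4 : 4 ≤ Fintype.card I
        · obtain ⟨h, hhi, hhj, hhk⟩ := exists_fourth h4 i j k
          exact commAt_milnor S π hπ hc hij hkl hil hjk hhi hhj hhk hhj
        · obtain ⟨c, hc0, hc3⟩ := hK3 (by omega)
          exact commAt_col3 S π hπ hc hij hik hjk c hc0 hc3
      · -- four distinct indices
        have h4 := four_le_card_of_distinct hij hik hil hjk hjl hkl
        by_cases h5 : 5 ≤ Fintype.card I
        · obtain ⟨h, hhi, hhj, hhk, hhl⟩ := exists_fifth h5 i j k l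
          exact commAt_milnor S π hπ hc hij hkl hil hjk hhi hhj hhk hhl
        · rcases hK4 (by omega) with ⟨c, hc0, hc2⟩ | ⟨hK, h30⟩
          · exact commAt_disj4 S π hπ hc hij hkl hil hjk hik hjl c hc0 hc2
          · have hcol1 : CommAt S π hπ i j k j :=
              commAt_milnor S π hπ hc hij hjk.symm hij hjk (Ne.symm hil) (Ne.symm hjl) (Ne.symm hkl)
                (Ne.symm hjl)
            have hcol2 : CommAt S π hπ i l k l :=
              commAt_milnor S π hπ hc hil hkl hil (Ne.symm hkl) (Ne.symm hij) hjl hjk hjl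
            exact commAt_card_three S π hπ hc hij hkl hil hjk hik hjl hcol1 hcol2 hK h30
  -- independence of the middle index
  have hmid : ∀ i h k j : I, i ≠ h → h ≠ j → i ≠ k → k ≠ j → i ≠ j → h ≠ k → ∀ t : K,
      br S π hπ i h h j t 1 = br S π hπ i k k j t 1 := by
    intro i h k j hih hhj hik hkj hij hhk t
    have := br_three_fold S π hπ hc hih hhk hkj hik hhj hij (hcomm i h k j hih hkj hij hhk)
      (hcomm i k h j hik hhj hij hhk.symm) (hcomm i j h j hij hhj hij hhj.symm) t 1 1
    rwa [mul_one, mul_one] at this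
  -- dependence on the product only
  have hprod : ∀ i k j : I, i ≠ k → k ≠ j → i ≠ j → ∀ t u : K,
      br S π hπ i k k j t u = br S π hπ i k k j (t * u) 1 := by
    intro i k j hik hkj hij t u
    by_cases h4 : 4 ≤ Fintype.card I
    · obtain ⟨h, hhi, hhk, hhj⟩ := exists_fourth h4 i k j
      have := br_three_fold S π hπ hc hik hhk.symm hhj hhi.symm hkj hij
        (hcomm i k h j hik hhj hij hhk.symm) (hcomm i h k j hhi.symm hkj hij hhk)
        (hcomm i j k j hij hkj hij hkj.symm) t u 1
      rw [mul_one] at this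
      rw [this]
      exact hmid i h k j hhi.symm hhj hik hkj hij hhk (t * u)
    · obtain ⟨c, hc0, hc3⟩ := hK3 (by omega)
      exact br_prod3 S π hπ hc hik hkj hij (hcomm i k i j hik hij hij hik.symm) c hc0 hc3 t u
  exact exists_stRel_lift_of S π hπ hc third hcomm hprod hmid

end main

end Cfsg.Agent.Lib.Helper8.StSL
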