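import Mathlib
import Cfsg.Agent.S4539
import Cfsg.Agent.Lib.Helper23.RankQuotApp
import Cfsg.Agent.Lib.Helper27.BlkGlueC4

/-! S4645 leaf R1 (helper8): a block with a cyclic defect group and inertial index one has `l = 1`, `k = |D|`. -/

set_option autoImplicit false

namespace Cfsg.Agent.Lib.Helper8.CycR1

open Cfsg Cfsg.Agent.CharLib Cfsg.Agent.Lib.Helper24 Cfsg.Agent.Lib.Helper6
open scoped ComplexConjugate

universe u

/-- blocks are nonempty -/
theorem isPBlock_nonempty {G : Type u} [Group G] {M : Ideal AlgInt} [M.IsPrime]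
    (B : Set (IrrCharacter G)) (hB : IsPBlock M B) : B.Nonempty := by
  obtain ⟨χ, rfl⟩ := hB
  exact ⟨χ, mem_blockOf_self χ⟩

/-- (R1) a block with a cyclic defect group and inertial index one has `l = 1`, `k = |D|`.
`hSC` = helper24's `card_block_eq_sum_orbits` (S4637 leaf SC) for this block. -/
theorem blockRank_eq_one_of_cyclic_inertial_one {H : Type u} [Group H] [Fintype H] [DecidableEq H]
    {M : Ideal AlgInt} {p : ℕ} [hpp : Fact p.Prime] (hM : IsPModular p M)
    (f : Set (IrrCharacter H)) (hf : IsPBlock M f) (D : Subgroup H)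
    (hD : IsDefectGroup p M f D) (hcyc : IsCyclic D)
    (c : Set (IrrCharacter (Subgroup.centralizer (D : Set H))))
    (hc : IsInducedBlock M (Subgroup.centralizer (D : Set H)) c f) (TH : Subgroup H)
    (hTH : ∀ g : H, g ∈ TH ↔ (g ∈ Subgroup.normalizer (D : Set H) ∧
      StabilizesBlock (Subgroup.centralizer (D : Set H)) c g))
    (hcent : ∀ t ∈ TH, ∀ u ∈ D, t * u * t⁻¹ = u)
    (hSC : ∀ R : Finset H, (∀ u ∈ R, u ∈ D) →
      (∀ v ∈ D, ∃! u, u ∈ R ∧ ∃ t ∈ TH, t * u * t⁻¹ = v) →
      ∃ fu : ∀ u : H, Set (IrrCharacter (Subgroup.centralizer ({u} : Set H))),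
        (∀ u ∈ R, IsInducedBlock M (Subgroup.centralizer ({u} : Set H)) (fu u) f ∧
          IsDefectGroup p M (fu u) (D.subgroupOf (Subgroup.centralizer ({u} : Set H)))) ∧
        Nat.card f = blockRank p f + ∑ u ∈ R.erase 1, blockRank p (fu u)) :
    blockRank p f = 1 ∧ Nat.card f = Nat.card D := by
  classical
  haveI hprime : M.IsPrime := isPrime_of_isPModular hM
  -- the transversal `R` = all of `D`
  have hRmem : ∀ u, u ∈ (Finset.univ.filter (fun u : H => u ∈ D)) ↔ u ∈ D := by
    intro u; simp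
  obtain ⟨fu, hfu, hcard⟩ := hSC (Finset.univ.filter (fun u : H => u ∈ D))
    (fun u hu => (hRmem u).mp hu) (by
      intro v hv
      refine ⟨v, ⟨(hRmem v).mpr hv, 1, TH.one_mem, by simp⟩, ?_⟩
      rintro u ⟨huR, t, ht, htu⟩
      rw [← htu, hcent t ht u ((hRmem u).mp huR)])
  -- positivity
  have hposf : 1 ≤ blockRank p f :=
    Cfsg.Agent.Lib.Helper27.BlkGlueC4.blockRank_pos p f (isPBlock_nonempty f hf)
  have hpos : ∀ u ∈ (Finset.univ.filter (fun u : H => u ∈ D)).erase 1, 1 ≤ blockRank p (fu u) := by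
    intro u hu
    have huR := Finset.mem_of_mem_erase hu
    letI : Fintype ↥(Subgroup.centralizer ({u} : Set H)) := Fintype.ofFinite _
    exact Cfsg.Agent.Lib.Helper27.BlkGlueC4.blockRank_pos p (fu u)
      (isPBlock_nonempty _ (hfu u huR).1.1)
  have hsum : ((Finset.univ.filter (fun u : H => u ∈ D)).erase 1).card ≤
      ∑ u ∈ (Finset.univ.filter (fun u : H => u ∈ D)).erase 1, blockRank p (fu u) := by
    calc ((Finset.univ.filter (fun u : H => u ∈ D)).erase 1).card
        = ∑ u ∈ (Finset.univ.filter (fun u : H => u ∈ D)).erase 1, 1 := by simp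
      _ ≤ _ := Finset.sum_le_sum hpos
  have hRcard : (Finset.univ.filter (fun u : H => u ∈ D)).card = Nat.card D := by
    rw [Nat.card_eq_fintype_card]
    exact (Fintype.card_subtype _).symm
  have h1R : (1 : H) ∈ Finset.univ.filter (fun u : H => u ∈ D) := (hRmem 1).mpr D.one_mem
  have hRe : ((Finset.univ.filter (fun u : H => u ∈ D)).erase 1).card = Nat.card D - 1 := by
    rw [Finset.card_erase_of_mem h1R, hRcard]
  -- a generator of `D`
  obtain ⟨⟨z, hzD⟩, hz⟩ := hcyc.exists_generator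
  have hgen : ∀ d ∈ D, ∃ k : ℤ, z ^ k = d := by
    intro d hd
    obtain ⟨k, hk⟩ := Subgroup.mem_zpowers_iff.mp (hz ⟨d, hd⟩)
    exact ⟨k, by simpa using congrArg Subtype.val hk⟩
  have hzc : ∀ d ∈ D, d * z = z * d := by
    intro d hd
    obtain ⟨k, rfl⟩ := hgen d hd
    exact (Commute.zpow_self z k)
  have hzR : z ∈ Finset.univ.filter (fun u : H => u ∈ D) := (hRmem z).mpr hzD
  obtain ⟨hind, hdef⟩ := hfu z hzR
  letI : Fintype ↥(Subgroup.centralizer ({z} : Set H)) := Fintype.ofFinite _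
  have hZ : D.subgroupOf (Subgroup.centralizer ({z} : Set H)) ≤
      Subgroup.center (Subgroup.centralizer ({z} : Set H)) := by
    intro x hx
    rw [Subgroup.mem_center_iff]
    intro g
    obtain ⟨k, hk⟩ := hgen (x : H) (Subgroup.mem_subgroupOf.mp hx)
    apply Subtype.ext
    have hgz : (g : H) * z = z * g :=
      (Subgroup.mem_centralizer_iff.mp g.2 z (Set.mem_singleton z)).symm
    have hcomm : Commute (g : H) z := hgz
    show (g : H) * (x : H) = (x : H) * (g : H)
    rw [← hk]
    exact hcomm.zpow_right k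
  have hl1 : blockRank p (fu z) = 1 :=
    Cfsg.Agent.Lib.Helper23.blockRank_eq_one_of_central p hM (fu z) hind.1 _ hdef hZ
  have hup : Nat.card f ≤ p ^ blockDefect p f :=
    Cfsg.Agent.S4539.result p M hM f hf D hD z hzD hzc (fu z) hind hdef (by rw [hl1]; norm_num)
  have hcd : Nat.card D = p ^ blockDefect p f := card_defectGroup_eq hM f hf D hD
  have hDpos : 1 ≤ Nat.card D := Nat.card_pos
  omega

end Cfsg.Agent.Lib.Helper8.CycR1
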