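import Mathlib
import Cfsg.Prelude.Def_Blocks
import Cfsg.Agent.Lib.Helper6.DihBlkDefs
import Cfsg.Agent.Lib.Lead.BrLeo12
import Cfsg.Agent.S0514
import Cfsg.Agent.Lib.Helper29.DIHDIH

/-!
# S4481 leaf NZ: principal block characters do not vanish at the central involution of a dihedral Sylow
2-subgroup
-/

set_option autoImplicit false

namespace Cfsg.Agent.Lib.Helper8.DIHNZ

open Cfsg Cfsg.Agent.CharLib
open Cfsg.Agent.Lib.Helper6.DihBlk
open scoped ComplexConjugate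

section group_part

variable {G : Type*} [Group G] [Finite G]

omit [Finite G] in
/-- the square of `σ^(2^(n-2))` is one -/
theorem half_mul_self (n : ℕ) (hn : 3 ≤ n) (σ : G) (hσo : orderOf σ = 2 ^ (n - 1)) :
    σ ^ (2 ^ (n - 2)) * σ ^ (2 ^ (n - 2)) = 1 := by
  rw [← pow_add]
  have h : 2 ^ (n - 2) + 2 ^ (n - 2) = 2 ^ (n - 1) := by
    have e : n - 1 = (n - 2) + 1 := by omega
    rw [e, pow_succ]
    ring
  rw [h, ← hσo]
  exact pow_orderOf_eq_one σ

omit [Finite G] in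
/-- the dihedral group centralizes `σ^(2^(n-2))` -/
theorem le_centralizer_half (n : ℕ) (hn : 3 ≤ n) (P : Subgroup G) (σ : G)
    (hσo : orderOf σ = 2 ^ (n - 1))
    (hdih : ∀ x ∈ P, x ∉ Subgroup.zpowers σ → x * σ * x⁻¹ = σ⁻¹) :
    P ≤ Subgroup.centralizer ({σ ^ (2 ^ (n - 2))} : Set G) := by
  intro x hx
  rw [Subgroup.mem_centralizer_iff]
  intro w hw
  rw [Set.mem_singleton_iff] at hw
  rw [hw]
  by_cases hxz : x ∈ Subgroup.zpowers σ
  · obtain ⟨i, rfl⟩ := Subgroup.mem_zpowers_iff.mp hxz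
    rw [← zpow_natCast, ← zpow_add, ← zpow_add, add_comm]
  · have h1 := hdih x hx hxz
    have h2 : x * σ ^ (2 ^ (n - 2)) * x⁻¹ = (σ ^ (2 ^ (n - 2)))⁻¹ := by
      rw [← conj_pow, h1, inv_pow]
    have h3 : (σ ^ (2 ^ (n - 2)))⁻¹ = σ ^ (2 ^ (n - 2)) :=
      inv_eq_of_mul_eq_one_left (half_mul_self n hn σ hσo)
    rw [h3] at h2
    calc σ ^ (2 ^ (n - 2)) * x = x * σ ^ (2 ^ (n - 2)) * x⁻¹ * x := by rw [h2]
      _ = x * σ ^ (2 ^ (n - 2)) := by group

/-- **NZ** principal block characters do not vanish at the central involution of the Sylow subgroup. -/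
theorem apply_central_involution_ne_zero (M : Ideal AlgInt) (hM : IsPModular 2 M) (n : ℕ) (hn : 3 ≤ n)
    (P : Sylow 2 G) (hP : Nonempty ((P : Subgroup G) ≃* DihedralGroup (2 ^ (n - 1)))) (σ : G)
    (hσ : σ ∈ (P : Subgroup G)) (hσo : orderOf σ = 2 ^ (n - 1)) (χ : IrrCharacter G)
    (hχ : χ ∈ principalBlock M G) : (χ : G → ℂ) (σ ^ (2 ^ (n - 2))) ≠ 0 := by
  have : Fact (Nat.Prime 2) := ⟨Nat.prime_two⟩
  obtain ⟨-, hdih, -⟩ := Cfsg.Agent.Lib.Helper29.DIHDIH.dih_struct n hn (P : Subgroup G) hP σ hσ hσo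
  intro h0
  have h1 := hχ (σ ^ (2 ^ (n - 2)))
  unfold centralChar at h1
  rw [h0, mul_zero, zero_div, sub_zero, mul_one, div_one] at h1
  have hPC := le_centralizer_half n hn (P : Subgroup G) σ hσo hdih
  have h2 : (Subgroup.centralizer ({σ ^ (2 ^ (n - 2))} : Set G)).index ∣ (P : Subgroup G).index :=
    Subgroup.index_dvd_of_le hPC
  have h3 : ¬ 2 ∣ (Subgroup.centralizer ({σ ^ (2 ^ (n - 2))} : Set G)).index :=
    fun h => P.not_dvd_index (dvd_trans h h2)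
  exact Cfsg.Agent.Lib.Helper6.SepClasses.not_memLocalIdeal_natCast_of_not_dvd hM h3 h1

end group_part

end Cfsg.Agent.Lib.Helper8.DIHNZ
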