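import Mathlib
import Cfsg.Agent.Lib.Helper19.SchurCyclic

/-!
# General-rank wrapper for B-group statements (market for S3572)

`exists_star`: a primitive group `G` on `Ω` containing a regular subgroup `D ≃* H` gives an action
`star` of the point stabiliser `G_{ω₀}` on `H` satisfying helper19's axioms `SchurCyclic.Ax`, with no
`star`-invariant subgroups other than `⊥`, `⊤`; and transitivity of `star` on `H ∖ 1` gives
double transitivity of `G`.  (Extracted from helper19's `schur_two_transitive`, transported along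
an isomorphism.)
-/

set_option autoImplicit false

namespace Cfsg.Agent.Lib.Helper8.RegStar

open Cfsg.Agent.Lib.Helper19.SchurCyclic
open scoped Pointwise

theorem exists_star {G Ω H : Type*} [Group G] [MulAction G Ω] [Finite Ω] [Group H] [Fintype H]
    (hprim : MulAction.IsPreprimitive G Ω) (D : Subgroup G)
    (hDt : MulAction.IsPretransitive D Ω) (hDs : ∀ a : Ω, MulAction.stabilizer D a = ⊥)
    (e : D ≃* H) (ω₀ : Ω) :
    ∃ star : MulAction.stabilizer G ω₀ → H → H, Ax star ∧
      (∀ K : Subgroup H, (∀ u, ∀ x ∈ K, star u x ∈ K) → K = ⊥ ∨ K = ⊤) ∧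
      ((∀ a b : H, a ≠ 1 → b ≠ 1 → ∃ u, star u a = b) →
        MulAction.IsMultiplyPretransitive G Ω 2) := by
  classical
  have hbij : Function.Bijective (fun h : H => ((e.symm h : D) : G) • ω₀) := by
    constructor
    · intro c c' hcc
      simp only at hcc
      have : (e.symm c')⁻¹ * e.symm c ∈ MulAction.stabilizer D ω₀ := by
        rw [MulAction.mem_stabilizer_iff, mul_smul, Subgroup.smul_def (e.symm c), hcc,
          Subgroup.smul_def, Subgroup.coe_inv, inv_smul_smul]
      rw [hDs, Subgroup.mem_bot] at this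
      have h2 : e.symm c = e.symm c' := (inv_mul_eq_one.1 this).symm
      exact e.symm.injective h2
    · intro ω
      obtain ⟨c, hc⟩ := MulAction.exists_smul_eq D ω₀ ω
      refine ⟨e c, ?_⟩
      simp only [MulEquiv.symm_apply_apply]
      exact hc
  obtain ⟨f, hf⟩ : ∃ f : H ≃ Ω, ∀ h : H, f h = ((e.symm h : D) : G) • ω₀ :=
    ⟨Equiv.ofBijective _ hbij, fun h => rfl⟩
  obtain ⟨star, hstar⟩ : ∃ star : MulAction.stabilizer G ω₀ → H → H,
      ∀ u c, f (star u c) = (u : G) • f c :=
    ⟨fun u c => f.symm ((u : G) • f c), fun u c => f.apply_symm_apply _⟩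
  have hu0 : ∀ u : MulAction.stabilizer G ω₀, (u : G) • ω₀ = ω₀ := fun u => u.2
  have hf1 : f 1 = ω₀ := by rw [hf, map_one, Subgroup.coe_one, one_smul]
  have hfmul : ∀ a b : H, f (a * b) = ((e.symm a : D) : G) • f b := by
    intro a b
    rw [hf, hf, map_mul, Subgroup.coe_mul, mul_smul]
  have hax : Ax star := by
    refine ⟨?_, ?_, ?_, ?_⟩
    · intro u
      apply f.injective
      rw [hstar, hf1, hu0]
    · intro c
      apply f.injective
      rw [hstar, Subgroup.coe_one, one_smul]
    · intro u v c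
      apply f.injective
      rw [hstar, hstar, hstar, Subgroup.coe_mul, mul_smul]
    · intro u z
      have hmem : ((e.symm (star u z) : D) : G)⁻¹ * (u : G) * ((e.symm z : D) : G) ∈
          MulAction.stabilizer G ω₀ := by
        rw [MulAction.mem_stabilizer_iff, mul_smul, mul_smul]
        have := hstar u z
        rw [hf, hf] at this
        rw [← this, inv_smul_smul]
      refine ⟨⟨_, hmem⟩, ?_⟩
      intro w
      apply f.injective
      rw [hstar, hfmul, hfmul, hstar]
      simp only [mul_smul, smul_inv_smul]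
  refine ⟨star, hax, ?_, ?_⟩
  · intro K hK
    obtain ⟨B, hB⟩ : ∃ B : Set Ω, B = f '' (K : Set H) := ⟨_, rfl⟩
    have hmemB : ∀ b, b ∈ B ↔ ∃ k ∈ K, f k = b := by
      intro b; rw [hB]; rfl
    have hω₀B : ω₀ ∈ B := (hmemB _).2 ⟨1, K.one_mem, hf1⟩
    have hKB : ∀ k ∈ K, ∀ b ∈ B, ((e.symm k : D) : G) • b ∈ B := by
      intro k hk b hb
      obtain ⟨k', hk', rfl⟩ := (hmemB _).1 hb
      exact (hmemB _).2 ⟨k * k', K.mul_mem hk hk', hfmul k k'⟩
    have hUB : ∀ u : MulAction.stabilizer G ω₀, ∀ b ∈ B, (u : G) • b ∈ B := by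
      intro u b hb
      obtain ⟨k', hk', rfl⟩ := (hmemB _).1 hb
      exact (hmemB _).2 ⟨star u k', hK u k' hk', hstar u k'⟩
    have hKBeq : ∀ k ∈ K, ((e.symm k : D) : G) • B = B := by
      intro k hk
      apply Set.Subset.antisymm
      · rintro _ ⟨b, hb, rfl⟩
        exact hKB k hk b hb
      · intro b hb
        refine ⟨((e.symm k : D) : G)⁻¹ • b, ?_, smul_inv_smul _ _⟩
        have := hKB k⁻¹ (K.inv_mem hk) b hb
        simpa using this
    have hUBeq : ∀ u : MulAction.stabilizer G ω₀, (u : G) • B = B := by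
      intro u
      apply Set.Subset.antisymm
      · rintro _ ⟨b, hb, rfl⟩
        exact hUB u b hb
      · intro b hb
        refine ⟨(u : G)⁻¹ • b, ?_, smul_inv_smul _ _⟩
        have := hUB u⁻¹ b hb
        simpa using this
    have hblock : MulAction.IsBlock G B := by
      rw [MulAction.isBlock_iff_smul_eq_of_mem]
      intro g a ha hga
      obtain ⟨k₁, hk₁, rfl⟩ := (hmemB _).1 ha
      obtain ⟨k₂, hk₂, hk₂g⟩ := (hmemB _).1 hga
      have hu : ((e.symm k₂ : D) : G)⁻¹ * g * ((e.symm k₁ : D) : G) ∈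
          MulAction.stabilizer G ω₀ := by
        rw [MulAction.mem_stabilizer_iff, mul_smul, mul_smul, ← hf, ← hk₂g, hf, inv_smul_smul]
      have hg : g = ((e.symm k₂ : D) : G) *
          (((e.symm k₂ : D) : G)⁻¹ * g * ((e.symm k₁ : D) : G)) *
          ((e.symm k₁⁻¹ : D) : G) := by
        rw [map_inv, Subgroup.coe_inv]; group
      rw [hg, mul_smul, mul_smul, hKBeq _ (K.inv_mem hk₁), hUBeq ⟨_, hu⟩, hKBeq k₂ hk₂]
    rcases hprim.isTrivialBlock_of_isBlock hblock with hB' | hB'
    · left
      rw [Subgroup.eq_bot_iff_forall]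
      intro k hk
      have h1 : f k ∈ B := (hmemB _).2 ⟨k, hk, rfl⟩
      have := hB' h1 hω₀B
      apply f.injective
      rw [this, hf1]
    · right
      rw [Subgroup.eq_top_iff']
      intro c
      have : f c ∈ B := by rw [hB']; trivial
      obtain ⟨k, hk, hkc⟩ := (hmemB _).1 this
      rwa [← f.injective hkc]
  · intro hmain
    have := hprim.toIsPretransitive
    rw [MulAction.is_two_pretransitive_iff]
    intro a b c d hab hcd
    obtain ⟨g₁, hg₁⟩ := MulAction.exists_smul_eq G a ω₀
    obtain ⟨g₂, hg₂⟩ := MulAction.exists_smul_eq G c ω₀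
    have h1 : f.symm (g₁ • b) ≠ 1 := by
      intro hh
      rw [Equiv.symm_apply_eq, hf1, ← hg₁] at hh
      exact hab (smul_left_cancel g₁ hh).symm
    have h2 : f.symm (g₂ • d) ≠ 1 := by
      intro hh
      rw [Equiv.symm_apply_eq, hf1, ← hg₂] at hh
      exact hcd (smul_left_cancel g₂ hh).symm
    obtain ⟨u, hu⟩ := hmain _ _ h1 h2
    have hu' : (u : G) • (g₁ • b) = g₂ • d := by
      have := congrArg f hu
      rwa [hstar, Equiv.apply_symm_apply, Equiv.apply_symm_apply] at this
    refine ⟨g₂⁻¹ * (u : G) * g₁, ?_, ?_⟩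
    · rw [mul_smul, mul_smul, hg₁, hu0, ← hg₂, inv_smul_smul]
    · rw [mul_smul, mul_smul, hu', inv_smul_smul]

end Cfsg.Agent.Lib.Helper8.RegStar
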