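import Mathlib
import Cfsg.Agent.Lib.Helper8.RegStar

/-!
# S3572 (Wielandt: dihedral groups are B-groups) from the abstract S-ring statement

`S3572_of_abs`: the frozen statement of S3572 follows from the abstract statement
"for `n ≥ 3`, an action `star` on `DihedralGroup n` with helper19's axioms `SchurCyclic.Ax` and no
invariant subgroups other than `⊥`, `⊤` is transitive on the non-identity elements".
The cases `m = 0` (infinite group), `m = 1` (two points), `m = 2` (Klein four group) are done here.
-/

set_option autoImplicit false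

namespace Cfsg.Agent.Lib.Helper8.DihedralB

open Cfsg.Agent.Lib.Helper19.SchurCyclic Cfsg.Agent.Lib.Helper8.RegStar

/-- Transitivity on the non-identity elements for a group with two elements. -/
theorem trans_of_card_two {H U : Type*} [Group H] [Fintype H] [Group U] {star : U → H → H}
    (h : Ax star) (hcard : Fintype.card H = 2) (a b : H) (ha : a ≠ 1) (hb : b ≠ 1) :
    ∃ u, star u a = b := by
  classical
  refine ⟨1, ?_⟩
  rw [h.one_left]
  by_contra hab
  have hsub : ({1, a, b} : Finset H) ⊆ Finset.univ := Finset.subset_univ _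
  have hc : ({1, a, b} : Finset H).card = 3 := by
    rw [Finset.card_insert_of_notMem, Finset.card_insert_of_notMem, Finset.card_singleton]
    · simpa using hab
    · simp only [Finset.mem_insert, Finset.mem_singleton, not_or]
      exact ⟨fun h1 => ha h1.symm, fun h1 => hb h1.symm⟩
  have := Finset.card_le_card hsub
  rw [hc, Finset.card_univ, hcard] at this
  omega

/-- Transitivity on the non-identity elements for a group of order four of exponent two. -/
theorem trans_of_card_four {H U : Type*} [Group H] [Fintype H] [Group U] {star : U → H → H}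
    (h : Ax star) (hcard : Fintype.card H = 4) (hexp : ∀ x : H, x * x = 1)
    (hprim : ∀ K : Subgroup H, (∀ u, ∀ x ∈ K, star u x ∈ K) → K = ⊥ ∨ K = ⊤)
    (a b : H) (ha : a ≠ 1) (hb : b ≠ 1) : ∃ u, star u a = b := by
  classical
  by_contra hcon
  push Not at hcon
  -- a singleton orbit is impossible
  have hsing : ∀ x : H, x ≠ 1 → ¬ ∀ u, star u x = x := by
    intro x hx hfix
    have hK : ∀ u, ∀ y ∈ Subgroup.zpowers x, star u y ∈ Subgroup.zpowers x := by
      intro u y hy
      have hy' : y = 1 ∨ y = x := by
        rw [Subgroup.mem_zpowers_iff] at hy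
        obtain ⟨k, rfl⟩ := hy
        rcases Int.even_or_odd k with ⟨j, rfl⟩ | ⟨j, rfl⟩
        · left
          rw [zpow_add, hexp]
        · right
          rw [zpow_add, zpow_one, two_mul, zpow_add, hexp, one_mul]
      rcases hy' with rfl | rfl
      · rw [h.one_right]; exact one_mem _
      · rw [hfix]; exact Subgroup.mem_zpowers _
    rcases hprim _ hK with hbot | htop
    · have : x ∈ Subgroup.zpowers x := Subgroup.mem_zpowers x
      rw [hbot, Subgroup.mem_bot] at this
      exact hx this
    · have hle : ∀ y : H, y = 1 ∨ y = x := by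
        intro y
        have hy : y ∈ Subgroup.zpowers x := by rw [htop]; trivial
        rw [Subgroup.mem_zpowers_iff] at hy
        obtain ⟨k, rfl⟩ := hy
        rcases Int.even_or_odd k with ⟨j, rfl⟩ | ⟨j, rfl⟩
        · left
          rw [zpow_add, hexp]
        · right
          rw [zpow_add, zpow_one, two_mul, zpow_add, hexp, one_mul]
      have hsub : (Finset.univ : Finset H) ⊆ {1, x} := by
        intro y _
        rcases hle y with rfl | rfl <;> simp
      have := Finset.card_le_card hsub
      rw [Finset.card_univ, hcard] at this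
      have h2 : ({1, x} : Finset H).card ≤ 2 := Finset.card_insert_le _ _ |>.trans (by simp)
      omega
  have hab : a ≠ b := fun hab => hcon 1 (by rw [h.one_left, hab])
  obtain ⟨u₁, hu₁⟩ := not_forall.1 (hsing a ha)
  obtain ⟨u₂, hu₂⟩ := not_forall.1 (hsing b hb)
  -- both images are the fourth element
  have hx1 : star u₁ a ≠ 1 := fun hh => ha ((h.eq_one_iff u₁ a).1 hh)
  have hx2 : star u₂ b ≠ 1 := fun hh => hb ((h.eq_one_iff u₂ b).1 hh)
  have hx1b : star u₁ a ≠ b := hcon u₁
  have hx2a : star u₂ b ≠ a := by
    intro hh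
    apply hcon u₂⁻¹
    rw [← hh, h.inv_left]
  have heq : star u₁ a = star u₂ b := by
    by_contra hne
    have hsub : ({1, a, b, star u₁ a, star u₂ b} : Finset H) ⊆ Finset.univ := Finset.subset_univ _
    have hc : ({1, a, b, star u₁ a, star u₂ b} : Finset H).card = 5 := by
      rw [Finset.card_insert_of_notMem, Finset.card_insert_of_notMem, Finset.card_insert_of_notMem,
        Finset.card_insert_of_notMem, Finset.card_singleton]
      · simpa using hne
      · simp only [Finset.mem_insert, Finset.mem_singleton, not_or]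
        exact ⟨fun h1 => hx1b h1.symm, fun h1 => hu₂ h1.symm⟩
      · simp only [Finset.mem_insert, Finset.mem_singleton, not_or]
        exact ⟨hab, fun h1 => hu₁ h1.symm, fun h1 => hx2a h1.symm⟩
      · simp only [Finset.mem_insert, Finset.mem_singleton, not_or]
        exact ⟨fun h1 => ha h1.symm, fun h1 => hb h1.symm, fun h1 => hx1 h1.symm,
          fun h1 => hx2 h1.symm⟩
    have := Finset.card_le_card hsub
    rw [hc, Finset.card_univ, hcard] at this
    omega
  apply hcon (u₂⁻¹ * u₁)
  rw [h.mul, heq, h.inv_left]

/-- **S3572 from the abstract statement** (`n ≥ 3`). -/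
theorem S3572_of_abs.{u, v} {G : Type u} {Ω : Type v} [Group G] [Finite G] [MulAction G Ω]
    [FaithfulSMul G Ω] [Finite Ω]
    (habs : ∀ (n : ℕ) [NeZero n], 3 ≤ n → ∀ (U : Type u) [Group U]
      (star : U → DihedralGroup n → DihedralGroup n), Ax star →
      (∀ K : Subgroup (DihedralGroup n), (∀ u, ∀ x ∈ K, star u x ∈ K) → K = ⊥ ∨ K = ⊤) →
      ∀ a b : DihedralGroup n, a ≠ 1 → b ≠ 1 → ∃ u, star u a = b)
    (hprim : MulAction.IsPreprimitive G Ω) (D : Subgroup G) (m : ℕ)
    (hD : Nonempty (↥D ≃* DihedralGroup m))
    (hDreg : MulAction.IsPretransitive ↥D Ω ∧ ∀ a : Ω, MulAction.stabilizer ↥D a = ⊥) :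
    MulAction.IsMultiplyPretransitive G Ω 2 := by
  obtain ⟨e⟩ := hD
  rcases isEmpty_or_nonempty Ω with hΩ | ⟨⟨ω₀⟩⟩
  · have := hprim.toIsPretransitive
    rw [MulAction.is_two_pretransitive_iff]
    intro a
    exact (hΩ.false a).elim
  rcases Nat.eq_zero_or_pos m with rfl | hm
  · exfalso
    have hfin : Finite (DihedralGroup 0) := Finite.of_equiv D e.toEquiv
    have hc : Nat.card (DihedralGroup 0) = 0 := by rw [DihedralGroup.nat_card]
    have hpos : 0 < Nat.card (DihedralGroup 0) := Nat.card_pos
    omega
  haveI : NeZero m := ⟨by omega⟩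
  obtain ⟨star, hax, hK, hfin⟩ := exists_star hprim D hDreg.1 hDreg.2 e ω₀
  apply hfin
  have hcard : Fintype.card (DihedralGroup m) = 2 * m := DihedralGroup.card
  by_cases h3 : 3 ≤ m
  · exact habs m h3 _ star hax hK
  · have h12 : m = 1 ∨ m = 2 := by omega
    rcases h12 with rfl | rfl
    · exact trans_of_card_two hax (by rw [hcard])
    · refine trans_of_card_four hax (by rw [hcard]) ?_ hK
      decide

end Cfsg.Agent.Lib.Helper8.DihedralB
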