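import Mathlib
import Cfsg.Agent.Lib.Helper8.FFCoprimeG
import Cfsg.Agent.S0600
import Cfsg.Agent.S0601
import Cfsg.Agent.S0608
import Cfsg.Agent.Lib.Helper12.HallHigman
import Cfsg.Agent.Lib.Helper4.ElemAb

/-!
helper8: KS 9.3.9/9.3.10: transport from `K`, `X ≤ N_G(K)` to the ambient group `K ⊔ X`.
-/

set_option autoImplicit false
set_option linter.unusedSectionVars false

namespace Cfsg.Agent.Lib.Helper8.Bridge

open Subgroup Cfsg.Agent.Lib.Helper8.FFOff
open scoped Pointwise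

/-- `⟨Ω₁(Z(S)) | S ∈ Syl_p⟩` is invariant under automorphisms -/
theorem iSup_omega_map_le {K₀ : Type*} [Group K₀] {p : ℕ} [Fact p.Prime] (φ : MulAut K₀) :
    (⨆ S : Sylow p K₀, Cfsg.omegaOne p ((S : Subgroup K₀) ⊓
        centralizer ((S : Subgroup K₀) : Set K₀))).map φ.toMonoidHom ≤
      ⨆ S : Sylow p K₀, Cfsg.omegaOne p ((S : Subgroup K₀) ⊓ centralizer ((S : Subgroup K₀) : Set K₀)) := by
  rw [Subgroup.map_iSup]
  apply iSup_le
  intro S
  refine le_trans ?_ (le_iSup (fun S : Sylow p K₀ => Cfsg.omegaOne p ((S : Subgroup K₀) ⊓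
    centralizer ((S : Subgroup K₀) : Set K₀))) (φ • S))
  unfold Cfsg.omegaOne
  rw [MonoidHom.map_closure]
  apply Subgroup.closure_mono
  rintro _ ⟨x, ⟨hx, hxp⟩, rfl⟩
  refine ⟨?_, ?_⟩
  · rw [Sylow.pointwise_smul_def]
    refine Subgroup.mem_inf.mpr ⟨?_, ?_⟩
    · exact Subgroup.smul_mem_pointwise_smul x φ _ hx.1
    · rw [mem_centralizer_iff]
      intro y hy
      rw [SetLike.mem_coe, Subgroup.mem_pointwise_smul_iff_inv_smul_mem] at hy
      have h1 := (mem_centralizer_iff.mp hx.2) (φ⁻¹ • y) hy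
      have h2 := congrArg φ h1
      simp only [map_mul, MulAut.smul_def, MulAut.apply_inv_self] at h2
      exact h2
  · show (φ x) ^ p = 1
    rw [← map_pow, hxp, map_one]

theorem mem_of_pow_eq_one_of_coprime_index {G : Type*} [Group G] (N : Subgroup G) [N.Normal] {g : G} {m : ℕ}
    (hg : g ^ m = 1) (hcop : Nat.Coprime m N.index) : g ∈ N := by
  have h1 : (QuotientGroup.mk g : G ⧸ N) ^ m = 1 := by
    rw [← QuotientGroup.mk_pow, hg]
    rfl
  have h2 : (QuotientGroup.mk g : G ⧸ N) ^ N.index = 1 := by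
    rw [Subgroup.index_eq_card]
    exact pow_card_eq_one'
  have h3 := pow_gcd_eq_one.mpr ⟨h1, h2⟩
  rw [hcop.gcd_eq_one, pow_one] at h3
  exact (QuotientGroup.eq_one_iff g).mp h3

theorem quotient_centralizer_map_equiv {G₁ G₂ : Type*} [Group G₁] [Group G₂] (f : G₁ →* G₂)
    (hf : Function.Injective f) (D W : Subgroup G₁)
    [hn : ((centralizer (W : Set G₁)).subgroupOf D).Normal] :
    ∃ _hn' : ((centralizer ((W.map f : Subgroup G₂) : Set G₂)).subgroupOf (D.map f)).Normal,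
      Nonempty ((↥(D.map f) ⧸ (centralizer ((W.map f : Subgroup G₂) : Set G₂)).subgroupOf (D.map f)) ≃*
        (↥D ⧸ (centralizer (W : Set G₁)).subgroupOf D)) := by
  let e₀ : ↥D ≃* ↥(D.map f) := D.equivMapOfInjective f hf
  have key : ∀ x : G₁, f x ∈ centralizer ((W.map f : Subgroup G₂) : Set G₂) ↔ x ∈ centralizer (W : Set G₁) := by
    intro x
    constructor
    · intro h
      rw [mem_centralizer_iff]
      intro w hw
      apply hf
      rw [map_mul, map_mul]
      exact (mem_centralizer_iff.mp h) (f w) (Subgroup.mem_map_of_mem _ hw)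
    · intro h
      rw [mem_centralizer_iff]
      rintro _ ⟨w, hw, rfl⟩
      rw [← map_mul, ← map_mul, (mem_centralizer_iff.mp h) w hw]
  have hmap : ((centralizer (W : Set G₁)).subgroupOf D).map e₀.toMonoidHom =
      (centralizer ((W.map f : Subgroup G₂) : Set G₂)).subgroupOf (D.map f) := by
    ext y
    constructor
    · rintro ⟨x, hx, rfl⟩
      rw [mem_subgroupOf]
      show f x ∈ _
      rw [key]
      exact hx
    · intro hy
      refine ⟨e₀.symm y, ?_, by simp⟩
      rw [SetLike.mem_coe, mem_subgroupOf, ← key]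
      have : f ((e₀.symm y : ↥D) : G₁) = (y : G₂) := by
        have h1 : e₀ (e₀.symm y) = y := e₀.apply_symm_apply y
        exact congrArg Subtype.val h1
      rw [this]
      exact hy
  have hn' : ((centralizer ((W.map f : Subgroup G₂) : Set G₂)).subgroupOf (D.map f)).Normal := by
    rw [← hmap]
    exact Subgroup.Normal.map hn _ e₀.surjective
  exact ⟨hn', ⟨(QuotientGroup.congr _ _ e₀ hmap).symm⟩⟩

/-- **KS 9.3.9 and 9.3.10** for `K`, `X ≤ N_G(K)` -/
theorem coprime_operator_main {G : Type*} [Group G] [Finite G] {p : ℕ} [hp : Fact p.Prime] {q : ℕ}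
    [hq : Fact q.Prime] (K X : Subgroup G) (hXK : X ≤ normalizer (K : Set G))
    (hX : Cfsg.IsElementaryAbelian q X) (hqK : ¬ q ∣ Nat.card K) (hsep : Cfsg.IsPSolvable p ↥K)
    (hO : Cfsg.pPrimeCore p ↥K = ⊥) (hnf : ¬ Cfsg.IsThompsonFactorizable p ↥K) :
    (∀ (T : Subgroup ↥K) (S : Sylow p ↥K),
      centralizer (((⨆ S : Sylow p ↥K, Cfsg.omegaOne p ((S : Subgroup ↥K) ⊓
        centralizer ((S : Subgroup ↥K) : Set ↥K))) : Subgroup ↥K) : Set ↥K) ≤ T →
      (centralizer (X : Set G)).subgroupOf K ≤ T → (S : Subgroup ↥K) ≤ T →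
      Cfsg.thompsonSubgroup p ↥K ≤ T) ∧
    ((p = 2 ∨ p = 3) ∧ ∃ W D : Subgroup G, W ≤ K ⊓ centralizer (X : Set G) ∧
      D ≤ K ⊓ centralizer (X : Set G) ∧ Cfsg.IsElementaryAbelian p W ∧ Nat.card W = p ^ 2 ∧
      D ≤ normalizer (W : Set G) ∧ ∃ hn : ((centralizer (W : Set G)).subgroupOf D).Normal,
        Nonempty ((↥D ⧸ (centralizer (W : Set G)).subgroupOf D) ≃*
          Matrix.SpecialLinearGroup (Fin 2) (ZMod p))) := by
  classical
  have hp' : p.Prime := hp.out
  have hq' : q.Prime := hq.out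
  have hc : centralizer (Cfsg.pCore p ↥K : Set ↥K) ≤ Cfsg.pCore p ↥K :=
    Cfsg.Agent.Lib.Helper12.centralizer_pCore_le_pCore p hsep hO
  obtain ⟨hVn, hVe, -⟩ := Cfsg.Agent.S0601.result (G := ↥K) (p := p) hc
  have hJ0 := (Cfsg.Agent.S0608.result (G := ↥K) (p := p) hO).not.mp hnf
  have hchar := fun φ : MulAut ↥K => iSup_omega_map_le (p := p) φ
  have hΩle : ∀ S : Sylow p ↥K, Cfsg.omegaOne p ((S : Subgroup ↥K) ⊓
      centralizer ((S : Subgroup ↥K) : Set ↥K)) ≤ (⨆ S : Sylow p ↥K, Cfsg.omegaOne p ((S : Subgroup ↥K) ⊓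
        centralizer ((S : Subgroup ↥K) : Set ↥K))) := fun S =>
    le_iSup (fun S : Sylow p ↥K => Cfsg.omegaOne p ((S : Subgroup ↥K) ⊓
      centralizer ((S : Subgroup ↥K) : Set ↥K))) S
  have hVsup : (⨆ S : Sylow p ↥K, Cfsg.omegaOne p ((S : Subgroup ↥K) ⊓
      centralizer ((S : Subgroup ↥K) : Set ↥K))) ≤ ⨆ S : Sylow p ↥K, Cfsg.omegaOne p ((S : Subgroup ↥K) ⊓
        centralizer ((S : Subgroup ↥K) : Set ↥K)) := le_rfl
  generalize hVdef : (⨆ S : Sylow p ↥K, Cfsg.omegaOne p ((S : Subgroup ↥K) ⊓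
    centralizer ((S : Subgroup ↥K) : Set ↥K))) = VK at hVn hVe hJ0 hchar hΩle ⊢
  clear hVsup
  have hΩcent : ∀ S : Sylow p ↥K, Cfsg.omegaOne p ((S : Subgroup ↥K) ⊓
      centralizer ((S : Subgroup ↥K) : Set ↥K)) ≤ centralizer ((S : Subgroup ↥K) : Set ↥K) := by
    intro S
    unfold Cfsg.omegaOne
    rw [Subgroup.closure_le]
    rintro x ⟨hx, -⟩
    exact hx.2
  -- `p ≠ q`
  have hpq : p ≠ q := by
    intro hpq
    apply hJ0
    unfold Cfsg.thompsonSubgroup
    apply sSup_le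
    intro B hB b hb
    have h1 : b ^ p = 1 := hB.1.2 b hb
    have h2 : b ^ Nat.card ↥K = 1 := pow_card_eq_one'
    have hcop : Nat.Coprime p (Nat.card ↥K) := (Nat.Prime.coprime_iff_not_dvd hp').mpr (hpq ▸ hqK)
    have h3 := pow_gcd_eq_one.mpr ⟨h1, h2⟩
    rw [hcop.gcd_eq_one, pow_one] at h3
    rw [h3]
    exact one_mem _
  -- the ambient group
  set A : Subgroup G := K ⊔ X with hA
  have hKA : K ≤ A := le_sup_left
  have hXA : X ≤ A := le_sup_right
  have hAN : A ≤ normalizer (K : Set G) := sup_le le_normalizer hXK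
  let j : ↥K →* ↥A := Subgroup.inclusion hKA
  have hj : Function.Injective j := Subgroup.inclusion_injective hKA
  have hjval : ∀ k : ↥K, ((j k : ↥A) : G) = (k : G) := fun k => rfl
  set Kh : Subgroup ↥A := K.subgroupOf A with hKh
  set Xh : Subgroup ↥A := X.subgroupOf A with hXh
  haveI hKhn : Kh.Normal := Subgroup.normal_subgroupOf_of_le_normalizer hAN
  have hrange : j.range = Kh := Subgroup.inclusion_range hKA
  have hXp : IsPGroup q X := by
    intro g
    refine ⟨1, ?_⟩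
    rw [pow_one]
    exact Subtype.ext (by simpa using hX.2 g g.2)
  have hXhp : IsPGroup q Xh := by
    intro g
    refine ⟨1, ?_⟩
    rw [pow_one]
    apply Subtype.ext
    apply Subtype.ext
    have := hX.2 (g : ↥A) (mem_subgroupOf.mp g.2)
    simpa using this
  have hXhq : ∀ x ∈ Xh, x ^ q = 1 := by
    intro x hx
    apply Subtype.ext
    have := hX.2 (x : G) (mem_subgroupOf.mp hx)
    simpa using this
  have hidx : Kh.index ∣ Nat.card X := by
    have h1 : Kh.index = K.relIndex A := rfl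
    rw [h1, hA, sup_comm, Cfsg.Agent.Lib.Helper4.relIndex_sup_of_le_normalizer X K hXK]
    exact Subgroup.relIndex_dvd_card K X
  obtain ⟨n, hn⟩ := IsPGroup.iff_card.mp hXp
  have hcopidx : Nat.Coprime p Kh.index := by
    apply Nat.Coprime.coprime_dvd_right hidx
    rw [hn]
    exact Nat.Coprime.pow_right n ((Nat.coprime_primes hp' hq').mpr hpq)
  have hpelem : ∀ g : ↥A, g ^ p = 1 → g ∈ Kh := fun g hg =>
    mem_of_pow_eq_one_of_coprime_index Kh hg hcopidx
  have hcardKh : Nat.card Kh = Nat.card K :=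
    Nat.card_congr (Subgroup.subgroupOfEquivOfLe hKA).toEquiv
  have hKhs : Cfsg.IsPSolvable p ↥Kh :=
    Cfsg.Agent.Lib.Helper24.isPSolvable_of_surjective p (Subgroup.subgroupOfEquivOfLe hKA).symm.toMonoidHom
      (Subgroup.subgroupOfEquivOfLe hKA).symm.surjective hsep
  have hqKh : ¬ q ∣ Nat.card Kh := by rw [hcardKh]; exact hqK
  -- Thompson subgroups
  have hJK : Cfsg.thompsonSubgroup p ↥A ≤ Kh := by
    unfold Cfsg.thompsonSubgroup
    apply sSup_le
    intro B hB b hb
    exact hpelem b (hB.1.2 b hb)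
  have hmax : ∀ B ∈ Cfsg.maxElementaryAbelianSubgroups p ↥K,
      B.map j ∈ Cfsg.maxElementaryAbelianSubgroups p ↥A := by
    intro B hB
    refine ⟨Cfsg.Agent.Lib.Helper4.elemAb_map j hB.1, ?_⟩
    intro B' hB'
    have hB'K : B' ≤ j.range := by
      rw [hrange]
      intro b hb
      exact hpelem b (hB'.2 b hb)
    have h1 : Nat.card ((B'.comap j).map j) = Nat.card (B'.comap j) := Subgroup.card_map_of_injective hj
    rw [Subgroup.map_comap_eq_self hB'K] at h1
    rw [h1, Subgroup.card_map_of_injective hj]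
    exact hB.2 _ (Cfsg.Agent.Lib.Helper4.elemAb_comap_injective j hj hB')
  have hJmap : (Cfsg.thompsonSubgroup p ↥K).map j ≤ Cfsg.thompsonSubgroup p ↥A := by
    unfold Cfsg.thompsonSubgroup
    rw [(Subgroup.gc_map_comap j).l_sSup]
    apply iSup₂_le
    intro B hB
    exact le_sSup (hmax B hB)
  -- the module
  set Vh : Subgroup ↥A := VK.map j with hVh
  have hVhe : Cfsg.IsElementaryAbelian p Vh := Cfsg.Agent.Lib.Helper4.elemAb_map j hVe
  have hVhK : Vh ≤ Kh := by
    rw [← hrange]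
    exact Subgroup.map_le_range _ _
  haveI hVhn : Vh.Normal := by
    constructor
    rintro _ ⟨v, hv, rfl⟩ g
    let φ : MulAut ↥K := K.normalizerMonoidHom ⟨(g : G), hAN g.2⟩
    have h1 : φ v ∈ VK := hchar φ ⟨v, hv, rfl⟩
    refine ⟨φ v, h1, ?_⟩
    apply Subtype.ext
    rfl
  -- `O_p(A/C_A(Vh)) = 1`
  have hOp : Cfsg.pCore p (↥A ⧸ centralizer (Vh : Set ↥A)) = ⊥ := by
    apply Cfsg.Agent.S0600.result Vh hVhe
    apply le_antisymm
    · have hVh' : Vh = ⨆ S : Sylow p ↥K, (Cfsg.omegaOne p ((S : Subgroup ↥K) ⊓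
          centralizer ((S : Subgroup ↥K) : Set ↥K))).map j := by
        rw [hVh, ← hVdef, Subgroup.map_iSup]
      refine le_trans (le_of_eq hVh') ?_
      apply iSup_le
      intro S
      have hSp : IsPGroup p ((S : Subgroup ↥K).map j) := S.isPGroup'.map j
      have hSidx : ¬ p ∣ ((S : Subgroup ↥K).map j).index := by
        rw [Subgroup.index_map_of_injective _ hj, hrange]
        intro hdvd
        rcases (Nat.Prime.dvd_mul hp').mp hdvd with h | h
        · exact S.not_dvd_index h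
        · exact (Nat.Prime.coprime_iff_not_dvd hp').mp hcopidx h
      refine le_trans ?_ (le_iSup (fun S : Sylow p ↥A => Vh ⊓ centralizer ((S : Subgroup ↥A) : Set ↥A))
        (hSp.toSylow hSidx))
      refine le_inf ?_ ?_
      · exact Subgroup.map_mono (hΩle S)
      · rintro _ ⟨x, hx, rfl⟩
        rw [mem_centralizer_iff]
        intro y hy
        have hy' : y ∈ (S : Subgroup ↥K).map j := hy
        obtain ⟨s, hs, rfl⟩ := hy'
        rw [← map_mul, ← map_mul, (mem_centralizer_iff.mp (hΩcent S hx)) s hs]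
    · exact iSup_le (fun S => inf_le_left)
  -- `J(A) ≰ C_A(Vh)`
  have hJ : ¬ Cfsg.thompsonSubgroup p ↥A ≤ centralizer (Vh : Set ↥A) := by
    intro h
    apply hJ0
    intro x hx
    have h1 := h (hJmap (Subgroup.mem_map_of_mem j hx))
    rw [mem_centralizer_iff]
    intro v hv
    apply hj
    rw [map_mul, map_mul]
    exact (mem_centralizer_iff.mp h1) (j v) (Subgroup.mem_map_of_mem j hv)
  constructor
  · -- 9.3.9
    intro T S hT1 hT2 hST
    have hmain := thompson_le_of_coprime_operator Vh hVhe hOp Kh Xh hJK hKhs hXhq hXhp hqKh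
      (T.map j) ((S : Subgroup ↥K).map j) ?_ ?_ ?_ (Subgroup.map_mono hST) ?_
    · intro x hx
      have h1 := hmain (hJmap (Subgroup.mem_map_of_mem j hx))
      obtain ⟨t, ht, htx⟩ := h1
      rw [← hj htx]
      exact ht
    · rw [← hrange]
      exact Subgroup.map_le_range _ _
    · rintro x ⟨hxK, hxV⟩
      rw [SetLike.mem_coe, ← hrange] at hxK
      obtain ⟨k, rfl⟩ := hxK
      refine Subgroup.mem_map_of_mem j (hT1 ?_)
      rw [mem_centralizer_iff]
      intro v hv
      apply hj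
      rw [map_mul, map_mul]
      exact (mem_centralizer_iff.mp hxV) (j v) (Subgroup.mem_map_of_mem j hv)
    · rintro x ⟨hxK, hxX⟩
      rw [SetLike.mem_coe, ← hrange] at hxK
      obtain ⟨k, rfl⟩ := hxK
      refine Subgroup.mem_map_of_mem j (hT2 ?_)
      rw [mem_subgroupOf, mem_centralizer_iff]
      intro x hx
      have h1 := (mem_centralizer_iff.mp hxX) ⟨x, hXA hx⟩ (mem_subgroupOf.mpr hx)
      exact congrArg Subtype.val h1
    · rw [← hrange, MonoidHom.range_eq_map, Subgroup.relIndex_map_map_of_injective _ _ hj,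
        Subgroup.relIndex_top_right]
      exact S.not_dvd_index
  · -- 9.3.10
    obtain ⟨hp23, W, D, hW, hD, hWe, hWc, hDW, hn, ⟨e⟩⟩ :=
      exists_plane_of_coprime_operator Vh hVhe hOp hJ Kh Xh hVhK hJK hKhs hXhq hXhp hqKh
    refine ⟨hp23, W.map A.subtype, D.map A.subtype, ?_, ?_,
      Cfsg.Agent.Lib.Helper4.elemAb_map _ hWe, ?_, ?_, ?_⟩
    · rintro _ ⟨w, hw, rfl⟩
      obtain ⟨h1, h2⟩ := hW hw
      refine Subgroup.mem_inf.mpr ⟨mem_subgroupOf.mp h1, ?_⟩
      rw [mem_centralizer_iff]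
      intro x hx
      have h3 := (mem_centralizer_iff.mp h2) ⟨x, hXA hx⟩ (mem_subgroupOf.mpr hx)
      exact congrArg Subtype.val h3
    · rintro _ ⟨w, hw, rfl⟩
      obtain ⟨h1, h2⟩ := hD hw
      refine Subgroup.mem_inf.mpr ⟨mem_subgroupOf.mp h1, ?_⟩
      rw [mem_centralizer_iff]
      intro x hx
      have h3 := (mem_centralizer_iff.mp h2) ⟨x, hXA hx⟩ (mem_subgroupOf.mpr hx)
      exact congrArg Subtype.val h3
    · rw [Subgroup.card_map_of_injective A.subtype_injective]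
      exact hWc
    · apply le_normalizer_of_conj_mem
      rintro _ ⟨d, hd, rfl⟩ _ ⟨w, hw, rfl⟩
      refine ⟨d * w * d⁻¹, (mem_normalizer_iff.mp (hDW hd) w).mp hw, ?_⟩
      simp
    · haveI := hn
      obtain ⟨hn', ⟨e'⟩⟩ := quotient_centralizer_map_equiv A.subtype A.subtype_injective D W
      exact ⟨hn', ⟨e'.trans e⟩⟩

end Cfsg.Agent.Lib.Helper8.Bridge
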