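import Mathlib
import Cfsg.Prelude.Def_Blocks
import Cfsg.Agent.Lib.Helper24.LocalRing

/-!
helper8: leaf FRB-INTER of market "FRB" (S4427, planner helper9): `⋂ p^k O_M = 0`.
-/

set_option autoImplicit false

namespace Cfsg.Agent.Lib.Helper8.FRBINTER

open Cfsg Cfsg.Agent.Lib.Helper24

/-- a nonzero algebraic integer divides a nonzero natural number in the ring of algebraic integers -/
theorem exists_nat_mul (a : AlgInt) (ha : (a : ℂ) ≠ 0) :
    ∃ (n : ℕ) (a' : AlgInt), n ≠ 0 ∧ (n : ℂ) = (a : ℂ) * (a' : ℂ) := by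
  have hint : IsIntegral ℤ (a : ℂ) := a.2
  set P := minpoly ℤ (a : ℂ) with hP
  have h0 : P.coeff 0 ≠ 0 := by
    have h1 := minpoly.isIntegrallyClosed_eq_field_fractions' ℚ hint
    have h2 : (minpoly ℚ (a : ℂ)).coeff 0 ≠ 0 := minpoly.coeff_zero_ne_zero hint.tower_top ha
    rw [h1, Polynomial.coeff_map] at h2
    intro h
    rw [h] at h2
    simp at h2
  obtain ⟨R, hR⟩ := Polynomial.X_dvd_sub_C (p := P)
  have hev : Polynomial.aeval (a : ℂ) P = 0 := minpoly.aeval ℤ _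
  have h1 : Polynomial.aeval (a : ℂ) (P - Polynomial.C (P.coeff 0)) =
      (a : ℂ) * Polynomial.aeval (a : ℂ) R := by
    rw [hR]; simp
  rw [map_sub, hev, Polynomial.aeval_C, zero_sub] at h1
  have h2 : ((Polynomial.aeval a R : AlgInt) : ℂ) = Polynomial.aeval (a : ℂ) R :=
    Polynomial.aeval_subalgebra_coe R AlgInt a
  have h1' : -((P.coeff 0 : ℤ) : ℂ) = (a : ℂ) * Polynomial.aeval (a : ℂ) R := by
    rw [← h1]; simp
  obtain ⟨m, hm⟩ : ∃ m : ℕ, P.coeff 0 = (m : ℤ) ∨ P.coeff 0 = -(m : ℤ) := ⟨_, Int.natAbs_eq _⟩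
  have hm0 : m ≠ 0 := by
    rintro rfl
    simp at hm
    exact h0 hm
  rcases hm with hc | hc
  · refine ⟨m, -Polynomial.aeval a R, hm0, ?_⟩
    rw [hc] at h1'
    push_cast at h1' ⊢
    linear_combination -h1'
  · refine ⟨m, Polynomial.aeval a R, hm0, ?_⟩
    rw [hc] at h1'
    push_cast at h1'
    rw [h2]
    linear_combination h1'

/-- **FRB-INTER**. -/
theorem inter_pow {p : ℕ} {M : Ideal AlgInt} (hM : IsPModular p M) (z : ℂ)
    (h : ∀ k : ℕ, ∃ w : ℂ, MemLocalRing M w ∧ z = (p : ℂ) ^ k * w) : z = 0 := by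
  by_contra hz
  have hp : p.Prime := hM.1
  have : M.IsPrime := isPrime_of_isPModular hM
  obtain ⟨w0, ⟨a, b, hb, hab⟩, hz0⟩ := h 0
  rw [pow_zero, one_mul] at hz0
  have hb0 : (b : ℂ) ≠ 0 := coe_ne_zero_of_not_mem hb
  have ha : (a : ℂ) ≠ 0 := by
    intro ha0
    apply hz
    rw [hz0, ← hab, ha0, zero_div]
  obtain ⟨n, a', hn, hna⟩ := exists_nat_mul a ha
  obtain ⟨e, n', hn', hne⟩ := Nat.exists_eq_pow_mul_and_not_dvd hn p hp.ne_one
  obtain ⟨w, ⟨ak, bk, hbk, hw⟩, hzk⟩ := h (e + 1)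
  have hbk0 : (bk : ℂ) ≠ 0 := coe_ne_zero_of_not_mem hbk
  have hpC : (p : ℂ) ≠ 0 := by exact_mod_cast hp.ne_zero
  -- `a * bk = p^(e+1) * ak * b`
  have key : (a : ℂ) * (bk : ℂ) = (p : ℂ) ^ (e + 1) * (ak : ℂ) * (b : ℂ) := by
    have h1 : (a : ℂ) / (b : ℂ) = (p : ℂ) ^ (e + 1) * ((ak : ℂ) / (bk : ℂ)) := by
      rw [hab, hw, ← hz0, hzk]
    field_simp at h1
    linear_combination h1
  have key2 : ((n' : ℕ) : ℂ) * (bk : ℂ) = (p : ℂ) * ((a' : ℂ) * (ak : ℂ) * (b : ℂ)) := by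
    have h1 : ((n : ℕ) : ℂ) * (bk : ℂ) = (p : ℂ) ^ (e + 1) * ((a' : ℂ) * (ak : ℂ) * (b : ℂ)) := by
      rw [hna]
      linear_combination (a' : ℂ) * key
    rw [hne] at h1
    push_cast at h1
    have hpe : (p : ℂ) ^ e ≠ 0 := pow_ne_zero _ hpC
    apply mul_left_cancel₀ hpe
    linear_combination h1
  have key3 : ((n' : ℕ) : AlgInt) * bk = ((p : ℕ) : AlgInt) * (a' * ak * b) := by
    apply Subtype.ext
    push_cast
    exact key2
  have hmem : ((n' : ℕ) : AlgInt) * bk ∈ M := by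
    rw [key3]
    exact M.mul_mem_right _ hM.2.2
  rcases (isPrime_of_isPModular hM).mem_or_mem hmem with h1 | h1
  · exact natCast_not_mem_of_not_dvd hM hn' h1
  · exact hbk h1

end Cfsg.Agent.Lib.Helper8.FRBINTER
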