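import Mathlib
import Cfsg.Prelude.Def_Blocks
import Cfsg.Agent.Lib.Helper24.LocalRing
import Cfsg.Agent.Lib.Helper6.Osima

/-!
helper8: leaf FRB-POLY of market "FRB" (S4427, planner helper9): the separating polynomial with
local-integer coefficients.
-/

set_option autoImplicit false

namespace Cfsg.Agent.Lib.Helper8.FRBPOLY

open Cfsg Cfsg.Agent.Lib.Helper24 Cfsg.Agent.Lib.Helper6

/-- the real numbers which are local integers at `M`, as a subring of `ℝ` -/
def localReal {p : ℕ} {M : Ideal AlgInt} (hM : IsPModular p M) : Subring ℝ where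
  carrier := {c | MemLocalRing M ((c : ℝ) : ℂ)}
  mul_mem' := by
    intro a b ha hb
    have : M.IsPrime := isPrime_of_isPModular hM
    show MemLocalRing M ((a * b : ℝ) : ℂ)
    rw [Complex.ofReal_mul]
    exact memLocalRing_mul ha hb
  one_mem' := by
    show MemLocalRing M ((1 : ℝ) : ℂ)
    have := memLocalRing_of_algInt (1 : AlgInt) (one_not_mem_of_isPModular hM)
    simpa using this
  add_mem' := by
    intro a b ha hb
    have : M.IsPrime := isPrime_of_isPModular hM
    show MemLocalRing M ((a + b : ℝ) : ℂ)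
    rw [Complex.ofReal_add]
    exact memLocalRing_add ha hb
  zero_mem' := by
    show MemLocalRing M ((0 : ℝ) : ℂ)
    rw [Complex.ofReal_zero]
    exact memLocalRing_of_memLocalIdeal (memLocalIdeal_zero (one_not_mem_of_isPModular hM))
  neg_mem' := by
    intro a ha
    show MemLocalRing M ((-a : ℝ) : ℂ)
    rw [Complex.ofReal_neg]
    exact memLocalRing_neg ha

theorem mem_localReal {p : ℕ} {M : Ideal AlgInt} (hM : IsPModular p M) (c : ℝ) :
    c ∈ localReal hM ↔ MemLocalRing M ((c : ℝ) : ℂ) := Iff.rfl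

/-- the real polynomials with coefficients in a subring, as a subring of `ℝ[X]` -/
def polyOver (O : Subring ℝ) : Subring (Polynomial ℝ) where
  carrier := {h | ∀ i, h.coeff i ∈ O}
  mul_mem' := by
    intro a b ha hb i
    rw [Polynomial.coeff_mul]
    exact Subring.sum_mem _ (fun x _ => O.mul_mem (ha _) (hb _))
  one_mem' := by
    intro i
    rw [Polynomial.coeff_one]
    split_ifs
    · exact O.one_mem
    · exact O.zero_mem
  add_mem' := by
    intro a b ha hb i
    rw [Polynomial.coeff_add]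
    exact O.add_mem (ha _) (hb _)
  zero_mem' := by
    intro i
    rw [Polynomial.coeff_zero]
    exact O.zero_mem
  neg_mem' := by
    intro a ha i
    rw [Polynomial.coeff_neg]
    exact O.neg_mem (ha _)

theorem C_mem_polyOver (O : Subring ℝ) {c : ℝ} (hc : c ∈ O) : Polynomial.C c ∈ polyOver O := by
  intro i
  rw [Polynomial.coeff_C]
  split_ifs
  · exact hc
  · exact O.zero_mem

theorem X_mem_polyOver (O : Subring ℝ) : (Polynomial.X : Polynomial ℝ) ∈ polyOver O := by
  intro i
  rw [Polynomial.coeff_X]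
  split_ifs
  · exact O.one_mem
  · exact O.zero_mem

theorem memLocalIdeal_pow {p : ℕ} {M : Ideal AlgInt} (hM : IsPModular p M) {z : ℂ}
    (hz : MemLocalRing M z) (hz' : MemLocalIdeal M z) (N : ℕ) (hN : 0 < N) :
    MemLocalIdeal M (z ^ N) := by
  have : M.IsPrime := isPrime_of_isPModular hM
  obtain ⟨k, rfl⟩ : ∃ k, N = k + 1 := ⟨N - 1, by omega⟩
  rw [pow_succ]
  have hk : MemLocalRing M (z ^ k) := by
    induction k with
    | zero =>
      rw [pow_zero]
      have := memLocalRing_of_algInt (1 : AlgInt) (one_not_mem_of_isPModular hM)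
      simpa using this
    | succ n ih =>
      rw [pow_succ]
      exact memLocalRing_mul (ih (by omega)) hz
  exact memLocalIdeal_mul_left hk hz'

theorem not_memLocalIdeal_pow {p : ℕ} {M : Ideal AlgInt} (hM : IsPModular p M) {z : ℂ}
    (hz : MemLocalRing M z) (hz' : ¬ MemLocalIdeal M z) (N : ℕ) :
    MemLocalRing M (z ^ N) ∧ ¬ MemLocalIdeal M (z ^ N) := by
  have : M.IsPrime := isPrime_of_isPModular hM
  induction N with
  | zero =>
    rw [pow_zero]
    refine ⟨?_, not_memLocalIdeal_one⟩
    have := memLocalRing_of_algInt (1 : AlgInt) (one_not_mem_of_isPModular hM)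
    simpa using this
  | succ n ih =>
    rw [pow_succ]
    exact ⟨memLocalRing_mul ih.1 hz, not_memLocalIdeal_mul ih.1 hz ih.2 hz'⟩

open Classical in
/-- **FRB-POLY**. -/
theorem unit_poly {p : ℕ} {M : Ideal AlgInt} (hM : IsPModular p M) (S : Finset ℝ)
    (hS : ∀ l ∈ S, MemLocalRing M ((l : ℝ) : ℂ)) (N : ℕ) (hN : 0 < N) :
    ∃ h : Polynomial ℝ, (∀ i, MemLocalRing M ((h.coeff i : ℝ) : ℂ)) ∧
      ∀ l ∈ S, h.eval (l ^ N) = if MemLocalIdeal M ((l : ℝ) : ℂ) then 0 else 1 := by
  have hprime : M.IsPrime := isPrime_of_isPModular hM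
  set O := localReal hM with hO
  set T : Finset ℝ := S.image (fun l => l ^ N) with hT
  set U : Finset ℝ := T.filter (fun t => ¬ MemLocalIdeal M ((t : ℝ) : ℂ)) with hU
  set Z : Finset ℝ := T.filter (fun t => MemLocalIdeal M ((t : ℝ) : ℂ)) with hZ
  have hTO : ∀ t ∈ T, t ∈ O := by
    intro t ht
    obtain ⟨l, hl, rfl⟩ := Finset.mem_image.mp ht
    exact O.pow_mem (hS l hl) N
  set h : Polynomial ℝ := ∏ β ∈ Z, (1 - ∏ α ∈ U,
    (1 - Polynomial.C (α - β)⁻¹ * (Polynomial.X - Polynomial.C β))) with hh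
  have hinv : ∀ α ∈ U, ∀ β ∈ Z, (α - β)⁻¹ ∈ O := by
    intro α hα β hβ
    obtain ⟨hαT, hα'⟩ := Finset.mem_filter.mp hα
    obtain ⟨hβT, hβ'⟩ := Finset.mem_filter.mp hβ
    have h1 : MemLocalRing M (((α - β : ℝ)) : ℂ) := O.sub_mem (hTO α hαT) (hTO β hβT)
    have h2 : ¬ MemLocalIdeal M (((α - β : ℝ)) : ℂ) := by
      intro h3
      apply hα'
      have : ((α : ℝ) : ℂ) = ((α - β : ℝ) : ℂ) + ((β : ℝ) : ℂ) := by push_cast; ring
      rw [this]
      exact memLocalIdeal_add h3 hβ'
    show MemLocalRing M (((α - β)⁻¹ : ℝ) : ℂ)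
    rw [Complex.ofReal_inv]
    exact memLocalRing_inv h1 h2
  refine ⟨h, ?_, ?_⟩
  · have hmem : h ∈ polyOver O := by
      rw [hh]
      apply Subring.prod_mem
      intro β hβ
      apply Subring.sub_mem _ (Subring.one_mem _)
      apply Subring.prod_mem
      intro α hα
      apply Subring.sub_mem _ (Subring.one_mem _)
      apply Subring.mul_mem _ (C_mem_polyOver O (hinv α hα β hβ))
      apply Subring.sub_mem _ (X_mem_polyOver O)
      exact C_mem_polyOver O (hTO β (Finset.mem_filter.mp hβ).1)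
    exact hmem
  · intro l hl
    have htT : l ^ N ∈ T := Finset.mem_image.mpr ⟨l, hl, rfl⟩
    have heval : h.eval (l ^ N) = ∏ β ∈ Z, (1 - ∏ α ∈ U, (1 - (α - β)⁻¹ * (l ^ N - β))) := by
      rw [hh, Polynomial.eval_prod]
      apply Finset.prod_congr rfl
      intro β _
      rw [Polynomial.eval_sub, Polynomial.eval_one, Polynomial.eval_prod]
      congr 1
      apply Finset.prod_congr rfl
      intro α _
      simp
    rw [heval]
    by_cases hlI : MemLocalIdeal M ((l : ℝ) : ℂ)
    · rw [if_pos hlI]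
      have htI : MemLocalIdeal M (((l ^ N : ℝ)) : ℂ) := by
        rw [Complex.ofReal_pow]
        exact memLocalIdeal_pow hM (hS l hl) hlI N hN
      have htZ : l ^ N ∈ Z := Finset.mem_filter.mpr ⟨htT, htI⟩
      apply Finset.prod_eq_zero htZ
      rw [sub_eq_zero]
      symm
      apply Finset.prod_eq_one
      intro α _
      rw [sub_self, mul_zero, sub_zero]
    · rw [if_neg hlI]
      have htI : ¬ MemLocalIdeal M (((l ^ N : ℝ)) : ℂ) := by
        rw [Complex.ofReal_pow]
        exact (not_memLocalIdeal_pow hM (hS l hl) hlI N).2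
      have htU : l ^ N ∈ U := Finset.mem_filter.mpr ⟨htT, htI⟩
      apply Finset.prod_eq_one
      intro β hβ
      have hne : l ^ N - β ≠ 0 := by
        intro h0
        apply htI
        rw [sub_eq_zero.mp h0]
        exact (Finset.mem_filter.mp hβ).2
      have : ∏ α ∈ U, (1 - (α - β)⁻¹ * (l ^ N - β)) = 0 := by
        apply Finset.prod_eq_zero htU
        rw [inv_mul_cancel₀ hne, sub_self]
      rw [this, sub_zero]

end Cfsg.Agent.Lib.Helper8.FRBPOLY
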