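import Mathlib
import Cfsg.Agent.Lib.Helper8.Conj

set_option autoImplicit false

namespace Cfsg.Agent.Lib.Helper8

variable {G : Type*} [Group G]

/-- Any `p`-subgroup is conjugate into a given Sylow `p`-subgroup. -/
theorem exists_conj_le_sylow [Finite G] {p : ℕ} [Fact p.Prime] (P : Sylow p G) {A : Subgroup G}
    (hA : IsPGroup p A) : ∃ g : G, A.map (MulAut.conj g).toMonoidHom ≤ P := by
  obtain ⟨Q, hQ⟩ := hA.exists_le_sylow
  obtain ⟨h, hh⟩ := MulAction.exists_smul_eq G P Q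
  refine ⟨h⁻¹, ?_⟩
  rw [map_conj_le_iff, inv_inv, ← sylow_smul_coe, hh]
  exact hQ

/-- Two `p`-subgroups of a subgroup `C`: after conjugating the second by an element of `C`
they generate a `p`-group. -/
theorem exists_conj_sup_isPGroup [Finite G] {p : ℕ} [Fact p.Prime] (C : Subgroup G)
    {A B : Subgroup G} (hA : IsPGroup p A) (hB : IsPGroup p B) (hAC : A ≤ C) (hBC : B ≤ C) :
    ∃ c ∈ C, IsPGroup p (A ⊔ B.map (MulAut.conj c).toMonoidHom : Subgroup G) := by
  have hA' : IsPGroup p (A.subgroupOf C) := hA.comap_subtype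
  have hB' : IsPGroup p (B.subgroupOf C) := hB.comap_subtype
  obtain ⟨R, hR⟩ := hA'.exists_le_sylow
  obtain ⟨R', hR'⟩ := hB'.exists_le_sylow
  obtain ⟨c, hc⟩ := MulAction.exists_smul_eq C R' R
  refine ⟨c, c.2, ?_⟩
  have hRG : IsPGroup p ((R : Subgroup C).map C.subtype) := R.2.map _
  apply hRG.to_le
  apply sup_le
  · intro a ha
    exact ⟨⟨a, hAC ha⟩, hR (by simpa [Subgroup.mem_subgroupOf] using ha), rfl⟩
  · intro x hx
    rw [mem_map_conj] at hx
    have hxC : x ∈ C := by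
      have h1 := hBC hx
      have : x = (c : G) * ((c : G)⁻¹ * x * c) * (c : G)⁻¹ := by group
      rw [this]
      exact C.mul_mem (C.mul_mem c.2 h1) (C.inv_mem c.2)
    refine ⟨⟨x, hxC⟩, ?_, rfl⟩
    rw [← hc, sylow_smul_coe]
    show (⟨x, hxC⟩ : C) ∈ Subgroup.map (MulAut.conj c).toMonoidHom (R' : Subgroup C)
    rw [mem_map_conj]
    apply hR'
    simpa [Subgroup.mem_subgroupOf] using hx

end Cfsg.Agent.Lib.Helper8
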