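import Mathlib
import Cfsg.Agent.Lib.Helper18.Glaub2Defs

/-!
# S4385 (GLAUB2 market) leaf B1 (helper8): `x * y` normalizes no non-identity normal subgroup of `P`
-/

set_option autoImplicit false

namespace Cfsg.Agent.Lib.Helper8.GLAUB2B1

open Cfsg Cfsg.Agent.Lib.Helper18.Sims3 Cfsg.Agent.Lib.Helper18.Glaub

variable {G : Type*} [Group G]

theorem cj_mul (a b : G) (S : Subgroup G) : cj (a * b) S = cj a (cj b S) := by
  show S.map _ = (S.map _).map _
  rw [Subgroup.map_map]
  congr 1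
  ext z
  simp [MulAut.conj_apply, mul_assoc]

theorem cj_eq_of_mem_normalizer {g : G} {S : Subgroup G}
    (hg : g ∈ Subgroup.normalizer (S : Set G)) : cj g S = S := by
  ext z
  rw [Subgroup.mem_map]
  constructor
  · rintro ⟨s, hs, rfl⟩
    exact (Subgroup.mem_normalizer_iff.mp hg s).mp hs
  · intro hz
    refine ⟨g⁻¹ * z * g, ?_, ?_⟩
    · apply (Subgroup.mem_normalizer_iff.mp hg (g⁻¹ * z * g)).mpr
      have : g * (g⁻¹ * z * g) * g⁻¹ = z := by group
      rw [this]
      exact hz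
    · show g * (g⁻¹ * z * g) * g⁻¹ = z
      group

theorem cj_le_normalizer_cj {N S : Subgroup G} (h : N ≤ Subgroup.normalizer (S : Set G)) (g : G) :
    cj g N ≤ Subgroup.normalizer ((cj g S : Subgroup G) : Set G) :=
  le_trans (Subgroup.map_mono h) (Subgroup.le_normalizer_map _)

/-- LEAF B1 (`x * y` normalizes no non-identity normal subgroup of `P`). -/
theorem h1_of_gen (H P : Subgroup G) (x y : G) (hx : x ∈ H) (hgen : P ⊔ cj x P = H)
    (hyN : cj y P = P)
    (hyQ : ∀ Q : Subgroup G, Q ≤ P → (Q.subgroupOf H).Normal → cj y Q = Q → Q = ⊥) :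
    ∀ Q : Subgroup G, Q ≤ P → (Q.subgroupOf P).Normal → cj (x * y) Q = Q → Q = ⊥ := by
  intro Q hQP hQn hQxy
  have hPN : P ≤ Subgroup.normalizer (Q : Set G) :=
    (Subgroup.normal_subgroupOf_iff_le_normalizer hQP).mp hQn
  have h1 : cj (x * y) P = cj x P := by rw [cj_mul, hyN]
  have h2 : cj x P ≤ Subgroup.normalizer (Q : Set G) := by
    have h3 := cj_le_normalizer_cj hPN (x * y)
    rw [hQxy, h1] at h3
    exact h3
  have hHN : H ≤ Subgroup.normalizer (Q : Set G) := by
    rw [← hgen]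
    exact sup_le hPN h2
  have hxQ : cj x Q = Q := cj_eq_of_mem_normalizer (hHN hx)
  have hyQ' : cj y Q = Q := by
    have h4 : cj x (cj y Q) = cj x Q := by rw [← cj_mul, hQxy, hxQ]
    exact Subgroup.map_injective (MulAut.conj x).injective h4
  have hQH : Q ≤ H := hQP.trans (by rw [← hgen]; exact le_sup_left)
  exact hyQ Q hQP ((Subgroup.normal_subgroupOf_iff_le_normalizer hQH).mpr hHN) hyQ'

end Cfsg.Agent.Lib.Helper8.GLAUB2B1
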