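import Mathlib
import Cfsg.Agent.Lib.Helper21.GagDefs

/-! S4561 (Gagola), leaves Q1 `kerLam_normal` and Q2 `mk_mem_center_iff` (helper8). -/

set_option autoImplicit false

namespace Cfsg.Agent.Lib.Helper8.GagQ12

open RegularWreathProduct Cfsg.Agent.Lib.Helper21.Gag

universe u

section quot

variable {G : Type u} [Group G] {n : ℕ} {H : Type u} [Group H] {Z : Subgroup H}
  {lam : H → ℂˣ} {s : G → H} {m : ℕ}

/-- (Q1) `kerLam D` is normal. -/
theorem kerLam_normal (D : GDatum G n H Z lam s m) : (kerLam D).Normal := by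
  constructor
  intro k hk h
  rw [mem_kerLam] at hk ⊢
  have := D.normal
  exact ⟨D.normal.conj_mem k hk.1 h, by rw [D.lam_conj h k hk.1, hk.2]⟩

theorem lam_inv (D : GDatum G n H Z lam s m) (z : H) (hz : z ∈ Z) : lam z⁻¹ = (lam z)⁻¹ := by
  have h := D.lam_mul z hz z⁻¹ (Z.inv_mem hz)
  rw [mul_inv_cancel, D.lam_one] at h
  exact eq_inv_of_mul_eq_one_right h.symm

/-- the commutator of an element of `Z` with anything lies in `kerLam D` -/
theorem comm_mem_kerLam (D : GDatum G n H Z lam s m) (h : H) (hh : h ∈ Z) (g : H) :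
    h * g * h⁻¹ * g⁻¹ ∈ kerLam D := by
  have h1 : g * h⁻¹ * g⁻¹ ∈ Z := D.normal.conj_mem h⁻¹ (Z.inv_mem hh) g
  have e : h * g * h⁻¹ * g⁻¹ = h * (g * h⁻¹ * g⁻¹) := by group
  rw [mem_kerLam, e]
  refine ⟨Z.mul_mem hh h1, ?_⟩
  rw [D.lam_mul h hh _ h1, D.lam_conj g h⁻¹ (Z.inv_mem hh), lam_inv D h hh, mul_inv_cancel]

/-- (Q2) the centre of the quotient is the image of `Z`. -/
theorem mk_mem_center_iff (D : GDatum G n H Z lam s m) [hK : (kerLam D).Normal] (h : H) :
    (QuotientGroup.mk h : H ⧸ kerLam D) ∈ Subgroup.center (H ⧸ kerLam D) ↔ h ∈ Z := by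
  constructor
  · intro hc
    by_contra hZ
    obtain ⟨y, hy1, hy2⟩ := D.star h hZ
    rw [Subgroup.mem_center_iff] at hc
    have h1 : (QuotientGroup.mk (h * y * h⁻¹ * y⁻¹) : H ⧸ kerLam D) = 1 := by
      have h2 := hc (QuotientGroup.mk y)
      rw [QuotientGroup.mk_mul, QuotientGroup.mk_mul, QuotientGroup.mk_mul, QuotientGroup.mk_inv,
        QuotientGroup.mk_inv, ← h2]
      group
    rw [QuotientGroup.eq_one_iff, mem_kerLam] at h1
    exact hy2 h1.2
  · intro hZ
    rw [Subgroup.mem_center_iff]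
    intro x
    obtain ⟨g, rfl⟩ := QuotientGroup.mk_surjective x
    have h1 : (QuotientGroup.mk (h * g * h⁻¹ * g⁻¹) : H ⧸ kerLam D) = 1 :=
      (QuotientGroup.eq_one_iff _).mpr (comm_mem_kerLam D h hZ g)
    rw [QuotientGroup.mk_mul, QuotientGroup.mk_mul, QuotientGroup.mk_mul, QuotientGroup.mk_inv,
      QuotientGroup.mk_inv] at h1
    have h2 : (QuotientGroup.mk h : H ⧸ kerLam D) * QuotientGroup.mk g =
        QuotientGroup.mk g * QuotientGroup.mk h := by
      have := congrArg (fun z : H ⧸ kerLam D => z * QuotientGroup.mk g * QuotientGroup.mk h) h1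
      simp only [one_mul] at this
      rw [← this]
      group
    exact h2.symm

end quot

end Cfsg.Agent.Lib.Helper8.GagQ12
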