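import Mathlib
import Cfsg.Agent.Lib.Helper8.GagQ12

/-! S4561 (Gagola), leaf Q3 `exists_injective_center_hom` (helper8). -/

set_option autoImplicit false

namespace Cfsg.Agent.Lib.Helper8.GagQ3

open RegularWreathProduct Cfsg.Agent.Lib.Helper21.Gag Cfsg.Agent.Lib.Helper8.GagQ12

universe u

section quot

variable {G : Type u} [Group G] {n : ℕ} {H : Type u} [Group H] {Z : Subgroup H}
  {lam : H → ℂˣ} {s : G → H} {m : ℕ}

/-- `lam` is constant on the cosets of `kerLam D` in `Z` -/
theorem lam_eq_of_mk_eq (D : GDatum G n H Z lam s m) [hK : (kerLam D).Normal] (a b : H) (ha : a ∈ Z)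
    (h : (QuotientGroup.mk a : H ⧸ kerLam D) = QuotientGroup.mk b) : lam a = lam b := by
  rw [QuotientGroup.eq, mem_kerLam] at h
  have hb : b = a * (a⁻¹ * b) := by group
  rw [hb, D.lam_mul a ha _ h.1, h.2, mul_one]

/-- (Q3) the centre of the quotient embeds in `ℂˣ`. -/
theorem exists_injective_center_hom (D : GDatum G n H Z lam s m) [hK : (kerLam D).Normal] :
    ∃ mu : Subgroup.center (H ⧸ kerLam D) →* ℂˣ, Function.Injective mu := by
  have hout : ∀ c : Subgroup.center (H ⧸ kerLam D), Quotient.out (c : H ⧸ kerLam D) ∈ Z := by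
    intro c
    rw [← mk_mem_center_iff D]
    have : (QuotientGroup.mk (Quotient.out (c : H ⧸ kerLam D)) : H ⧸ kerLam D) = c :=
      QuotientGroup.out_eq' _
    rw [this]
    exact c.2
  have hmk : ∀ c : Subgroup.center (H ⧸ kerLam D),
      (QuotientGroup.mk (Quotient.out (c : H ⧸ kerLam D)) : H ⧸ kerLam D) = c :=
    fun c => QuotientGroup.out_eq' _
  refine ⟨MonoidHom.mk' (fun c => lam (Quotient.out (c : H ⧸ kerLam D))) ?_, ?_⟩
  · intro a b
    show lam (Quotient.out ((a * b : Subgroup.center (H ⧸ kerLam D)) : H ⧸ kerLam D)) =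
      lam (Quotient.out (a : H ⧸ kerLam D)) * lam (Quotient.out (b : H ⧸ kerLam D))
    rw [← D.lam_mul _ (hout a) _ (hout b)]
    apply lam_eq_of_mk_eq D _ _ (hout (a * b))
    rw [hmk, QuotientGroup.mk_mul, hmk, hmk]
    rfl
  · rw [injective_iff_map_eq_one]
    intro c hc
    have h1 : lam (Quotient.out (c : H ⧸ kerLam D)) = 1 := hc
    have h2 : Quotient.out (c : H ⧸ kerLam D) ∈ kerLam D := (mem_kerLam D _).mpr ⟨hout c, h1⟩
    have h3 : (c : H ⧸ kerLam D) = 1 := by
      rw [← hmk c]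
      exact (QuotientGroup.eq_one_iff _).mpr h2
    exact Subtype.ext h3

end quot

end Cfsg.Agent.Lib.Helper8.GagQ3
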