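import Mathlib
import Cfsg.Agent.Lib.Helper8.GagQ12

/-! S4561 (Gagola), leaf Q4 `star_quot` (helper8). -/

set_option autoImplicit false

namespace Cfsg.Agent.Lib.Helper8.GagQ4

open RegularWreathProduct Cfsg.Agent.Lib.Helper21.Gag Cfsg.Agent.Lib.Helper8.GagQ12

universe u

section quot

variable {G : Type u} [Group G] {n : ℕ} {H : Type u} [Group H] {Z : Subgroup H}
  {lam : H → ℂˣ} {s : G → H} {m : ℕ}

/-- (Q4) the star property of the quotient. -/
theorem star_quot (D : GDatum G n H Z lam s m) [hK : (kerLam D).Normal] :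
    ∀ x : H ⧸ kerLam D, x ∉ Subgroup.center (H ⧸ kerLam D) →
      ∃ y : H ⧸ kerLam D, x * y * x⁻¹ * y⁻¹ ∈ Subgroup.center (H ⧸ kerLam D) ∧
        x * y * x⁻¹ * y⁻¹ ≠ 1 := by
  intro x hx
  obtain ⟨h, rfl⟩ := QuotientGroup.mk_surjective x
  rw [mk_mem_center_iff D] at hx
  obtain ⟨y, hy1, hy2⟩ := D.star h hx
  refine ⟨QuotientGroup.mk y, ?_, ?_⟩
  · rw [← QuotientGroup.mk_inv, ← QuotientGroup.mk_inv, ← QuotientGroup.mk_mul, ← QuotientGroup.mk_mul,
      ← QuotientGroup.mk_mul, mk_mem_center_iff D]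
    exact hy1
  · rw [← QuotientGroup.mk_inv, ← QuotientGroup.mk_inv, ← QuotientGroup.mk_mul, ← QuotientGroup.mk_mul,
      ← QuotientGroup.mk_mul]
    intro h1
    rw [QuotientGroup.eq_one_iff, mem_kerLam] at h1
    exact hy2 h1.2

end quot

end Cfsg.Agent.Lib.Helper8.GagQ4
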