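import Mathlib
import Cfsg.Prelude.Def_OddOrderLocal
import Cfsg.Agent.Lib.Helper8.HallSCN1
import Cfsg.Agent.Lib.Helper24.SylowNormalize
import Cfsg.Agent.Lib.Helper25.PSolvableOfSolvable
import Cfsg.Agent.Lib.Helper27.OddStable
import Cfsg.Agent.Lib.Helper29.QuadPairPSolvStable

/-!
# Centralizer of an `SCN`-subgroup of the Fitting subgroup of a Hall subgroup (helper8)

`S` finite solvable, `π` a set of primes without `2, 3`, `H` a Hall `π`-subgroup, `A ∈ SCN(F(H))`.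
Then every `p`-element (`p ∈ π`) of `C_S(A)` lies in `A`; hence `C_S(A) = A × D`, `D` a `π'`-group.
-/

set_option autoImplicit false
set_option linter.unusedSectionVars false
set_option linter.unusedVariables false
set_option linter.style.haveILetI false

namespace Cfsg.Agent.Lib.Helper8.HallSCN

open Subgroup
open scoped commutatorElement

variable {S : Type*} [Group S] [Finite S]

/-- A maximal normal `π'`-subgroup. -/
theorem exists_max_normal_piPrime (π : Set ℕ) :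
    ∃ K : Subgroup S, K.Normal ∧ (∀ q : ℕ, q.Prime → q ∣ Nat.card K → q ∉ π) ∧
      ∀ M : Subgroup S, M.Normal → K ≤ M → (∀ q : ℕ, q.Prime → q ∣ Nat.card M → q ∉ π) →
        M = K := by
  classical
  let T := {K : Subgroup S // K.Normal ∧ ∀ q : ℕ, q.Prime → q ∣ Nat.card K → q ∉ π}
  haveI : Nonempty T := ⟨⟨⊥, inferInstance, fun q hq hd => by
    rw [Subgroup.card_bot] at hd
    exact absurd (Nat.dvd_one.mp hd) hq.one_lt.ne'⟩⟩
  haveI : Finite T := Subtype.finite
  obtain ⟨K, hK⟩ := Finite.exists_max (fun K : T => Nat.card (K : Subgroup S))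
  refine ⟨K.1, K.2.1, K.2.2, ?_⟩
  intro M hMn hKM hMπ
  exact (Subgroup.eq_of_le_of_card_ge hKM (hK ⟨M, hMn, hMπ⟩)).symm

theorem coprime_card_of_pi {π : Set ℕ} {H K : Subgroup S}
    (hH : ∀ q : ℕ, q.Prime → q ∣ Nat.card H → q ∈ π)
    (hK : ∀ q : ℕ, q.Prime → q ∣ Nat.card K → q ∉ π) :
    (Nat.card H).Coprime (Nat.card K) := by
  rw [Nat.Coprime, Nat.eq_one_iff_not_exists_prime_dvd]
  intro r hr hd
  exact hK r hr (hd.trans (Nat.gcd_dvd_right _ _)) (hH r hr (hd.trans (Nat.gcd_dvd_left _ _)))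

/-- Lifting elements of `O_q(S/K)` (for `q ∈ π`, `K` a normal `π'`-subgroup) to `F(H)`. -/
theorem exists_mem_fitting_of_mem_pCore_quotient (π : Set ℕ) (H : Subgroup S)
    (hH : Cfsg.IsPiHall π H) (K : Subgroup S) [K.Normal]
    (hKπ : ∀ q : ℕ, q.Prime → q ∣ Nat.card K → q ∉ π)
    (q : ℕ) [hq : Fact q.Prime] (hqπ : q ∈ π) (y : S ⧸ K) (hy : y ∈ Cfsg.pCore q (S ⧸ K)) :
    ∃ l ∈ (Cfsg.fittingSubgroup H).map H.subtype, QuotientGroup.mk' K l = y := by
  classical
  have hHK : H ⊓ K = ⊥ :=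
    disjoint_iff.mp (Subgroup.disjoint_of_coprime_natCard (coprime_card_of_pi hH.1 hKπ))
  set mk := QuotientGroup.mk' K with hmk
  have hsurj : Function.Surjective mk := QuotientGroup.mk'_surjective K
  -- `O_q(S/K) ≤ image of H`
  have hidx : ¬ q ∣ (H.map mk).index := fun hd =>
    hH.2 q hq.out hqπ (hd.trans (Subgroup.index_map_dvd H hsurj))
  obtain ⟨P, hP⟩ := Cfsg.Agent.Lib.Helper24.exists_sylow_le_of_not_dvd_index (H.map mk) hidx
  have hyH : y ∈ H.map mk := hP (Cfsg.Agent.Lib.Helper1.pCore_le_sylow P hy)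
  obtain ⟨l, hlH, hly⟩ := hyH
  refine ⟨l, ?_, hly⟩
  -- the normal `q`-subgroup `M.subgroupOf H` of `H`
  set M : Subgroup S := (Cfsg.pCore q (S ⧸ K)).comap mk with hM
  have hMn : M.Normal := inferInstance
  have hLn : (M.subgroupOf H).Normal := inferInstance
  have hLp : IsPGroup q ↥(M.subgroupOf H) := by
    rintro ⟨⟨h, hhH⟩, hhM⟩
    have hhM' : mk h ∈ Cfsg.pCore q (S ⧸ K) := hhM
    obtain ⟨k, hk⟩ := (Cfsg.Agent.Lib.Helper1.pCore_isPGroup q (S ⧸ K)) ⟨mk h, hhM'⟩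
    have hk' : (mk h) ^ (q ^ k) = 1 := by
      have := congrArg Subtype.val hk
      simpa using this
    refine ⟨k, ?_⟩
    apply Subtype.ext
    apply Subtype.ext
    show h ^ (q ^ k) = 1
    have h1 : h ^ (q ^ k) ∈ K := by
      rw [← map_pow] at hk'
      exact (QuotientGroup.eq_one_iff _).mp hk'
    have h2 : h ^ (q ^ k) ∈ H ⊓ K := mem_inf.mpr ⟨pow_mem hhH _, h1⟩
    rw [hHK, mem_bot] at h2
    exact h2
  have hle : M.subgroupOf H ≤ Cfsg.fittingSubgroup ↥H :=
    Cfsg.Agent.Lib.Helper1.le_fittingSubgroup hLn hLp.isNilpotent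
  have hlM : l ∈ M := by
    show mk l ∈ Cfsg.pCore q (S ⧸ K)
    rw [hly]; exact hy
  exact ⟨⟨l, hlH⟩, hle (show (⟨l, hlH⟩ : ↥H) ∈ M.subgroupOf H from hlM), rfl⟩

/-- `O_q(S/K) = 1` for `q ∉ π`, `K` a maximal normal `π'`-subgroup. -/
theorem pCore_quotient_eq_bot (π : Set ℕ) (K : Subgroup S) [K.Normal]
    (hKπ : ∀ q : ℕ, q.Prime → q ∣ Nat.card K → q ∉ π)
    (hKmax : ∀ M : Subgroup S, M.Normal → K ≤ M →
      (∀ q : ℕ, q.Prime → q ∣ Nat.card M → q ∉ π) → M = K)
    (q : ℕ) [hq : Fact q.Prime] (hqπ : q ∉ π) : Cfsg.pCore q (S ⧸ K) = ⊥ := by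
  classical
  set mk := QuotientGroup.mk' K with hmk
  set M : Subgroup S := (Cfsg.pCore q (S ⧸ K)).comap mk with hM
  have hMn : M.Normal := inferInstance
  have hKM : K ≤ M := by
    intro k hk
    show mk k ∈ Cfsg.pCore q (S ⧸ K)
    have h1 : mk k = 1 := (QuotientGroup.eq_one_iff k).mpr hk
    rw [h1]
    exact one_mem _
  have hMπ : ∀ r : ℕ, r.Prime → r ∣ Nat.card M → r ∉ π := by
    intro r hr hd
    haveI : Fact r.Prime := ⟨hr⟩
    obtain ⟨y, hy⟩ := exists_prime_orderOf_dvd_card' r hd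
    by_cases hrq : r = q
    · rw [hrq]; exact hqπ
    · have hyM : mk (y : S) ∈ Cfsg.pCore q (S ⧸ K) := y.2
      obtain ⟨k, hk⟩ := (Cfsg.Agent.Lib.Helper1.pCore_isPGroup q (S ⧸ K)) ⟨mk y, hyM⟩
      have hk' : (mk (y : S)) ^ (q ^ k) = 1 := by
        have := congrArg Subtype.val hk
        simpa using this
      have hr' : (mk (y : S)) ^ r = 1 := by
        rw [← map_pow, ← hy, ← Subgroup.orderOf_coe, pow_orderOf_eq_one, map_one]
      have h1 : mk (y : S) = 1 := by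
        have hcop : (q ^ k).Coprime r :=
          Nat.Coprime.pow_left _ ((Nat.coprime_primes hq.out hr).mpr (Ne.symm hrq))
        have hd1 : orderOf (mk (y : S)) ∣ 1 := by
          rw [← hcop]
          exact Nat.dvd_gcd (orderOf_dvd_of_pow_eq_one hk') (orderOf_dvd_of_pow_eq_one hr')
        exact orderOf_eq_one_iff.mp (Nat.dvd_one.mp hd1)
      have hyK : (y : S) ∈ K := (QuotientGroup.eq_one_iff _).mp h1
      apply hKπ r hr
      have h2 : orderOf (⟨(y : S), hyK⟩ : ↥K) = r := by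
        rw [← Subgroup.orderOf_coe]
        show orderOf (y : S) = r
        rw [Subgroup.orderOf_coe, hy]
      rw [← h2]
      exact orderOf_dvd_natCard _
  have hMK : M = K := hKmax M hMn hKM hMπ
  rw [eq_bot_iff]
  intro y hy
  obtain ⟨s, rfl⟩ := QuotientGroup.mk'_surjective K y
  have hs : s ∈ M := hy
  rw [hMK] at hs
  rw [mem_bot]
  exact (QuotientGroup.eq_one_iff s).mpr hs

end Cfsg.Agent.Lib.Helper8.HallSCN
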