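import Mathlib
import Cfsg.Prelude.Def_OddOrderLocal
import Cfsg.Agent.Lib.Helper8.HallSCN2

/-!
# Centralizer of an `SCN`-subgroup of the Fitting subgroup of a Hall subgroup, part 3 (helper8)
-/

set_option autoImplicit false
set_option linter.unusedSectionVars false
set_option linter.unusedVariables false
set_option linter.style.haveILetI false

namespace Cfsg.Agent.Lib.Helper8.HallSCN

open Subgroup
open scoped commutatorElement

variable {S : Type*} [Group S] [Finite S]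

theorem commutator_mem_of_normal {G : Type*} [Group G] (N : Subgroup G) [hn : N.Normal] {a : G}
    (ha : a ∈ N) (g : G) : ⁅a, g⁆ ∈ N := by
  rw [commutatorElement_def]
  have h1 : g * a⁻¹ * g⁻¹ ∈ N := hn.conj_mem _ (inv_mem ha) _
  have : a * g * a⁻¹ * g⁻¹ = a * (g * a⁻¹ * g⁻¹) := by group
  rw [this]
  exact mul_mem ha h1

/-- the `p`-elements (`p ∈ π`) of `C_S(A)` lie in `A`. -/
theorem mem_of_pElement_centralizer [Group.IsSolvable S] (π : Set ℕ) (h2 : 2 ∉ π) (h3 : 3 ∉ π)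
    (H : Subgroup S) (hH : Cfsg.IsPiHall π H) (A : Subgroup S)
    (hA : Cfsg.IsSCN ((Cfsg.fittingSubgroup H).map H.subtype) A)
    (p : ℕ) (hp : p.Prime) (hpπ : p ∈ π) (x : S) (hx : x ∈ centralizer (A : Set S))
    (hxp : ∃ n : ℕ, x ^ (p ^ n) = 1) : x ∈ A := by
  classical
  haveI hpF : Fact p.Prime := ⟨hp⟩
  have hp5 : 5 ≤ p := by
    by_contra hlt
    push Not at hlt
    have := hp.two_le
    interval_cases p
    · exact h2 hpπ
    · exact h3 hpπ
    · exact absurd hp (by decide)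
  obtain ⟨K, hKn, hKπ, hKmax⟩ := exists_max_normal_piPrime (S := S) π
  haveI := hKn
  set N := (Cfsg.fittingSubgroup H).map H.subtype with hN
  obtain ⟨hAN, hNA, hNC⟩ := hA
  have hNH : N ≤ H := map_subtype_le _
  have hHK : H ⊓ K = ⊥ :=
    disjoint_iff.mp (Subgroup.disjoint_of_coprime_natCard (coprime_card_of_pi hH.1 hKπ))
  set mk := QuotientGroup.mk' K with hmk
  -- elements of `N` whose image centralizes the image of `A` lie in `A`
  have hliftA : ∀ l ∈ N, (∀ a ∈ A, mk l * mk a = mk a * mk l) → l ∈ A := by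
    intro l hl hcomm
    rw [← hNC]
    refine mem_inf.mpr ⟨hl, ?_⟩
    rw [mem_centralizer_iff]
    intro a ha
    have h1 : mk (l * a * l⁻¹ * a⁻¹) = 1 := by
      rw [map_mul, map_mul, map_mul, hcomm a ha, map_inv, map_inv]
      group
    have h2' : l * a * l⁻¹ * a⁻¹ ∈ K := (QuotientGroup.eq_one_iff _).mp h1
    have h3' : l * a * l⁻¹ * a⁻¹ ∈ H :=
      hNH (N.mul_mem (N.mul_mem (N.mul_mem hl (hAN ha)) (N.inv_mem hl)) (N.inv_mem (hAN ha)))
    have h4 : l * a * l⁻¹ * a⁻¹ ∈ H ⊓ K := mem_inf.mpr ⟨h3', h2'⟩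
    rw [hHK, mem_bot] at h4
    calc a * l = (l * a * l⁻¹ * a⁻¹)⁻¹ * (l * a) := by group
      _ = l * a := by rw [h4, inv_one, one_mul]
  -- quadratic action on `O_q(S/K)` for `q ∈ π`
  have hquad : ∀ (q : ℕ) [Fact q.Prime], q ∈ π → ∀ y ∈ centralizer (A : Set S),
      ∀ lb ∈ Cfsg.pCore q (S ⧸ K), ∃ a ∈ A, ⁅lb, mk y⁆ = mk a := by
    intro q hqF hqπ y hy lb hlb
    -- lift lb
    obtain ⟨l, hlN, hl⟩ := exists_mem_fitting_of_mem_pCore_quotient π H hH K hKπ q hqπ lb hlb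
    -- the commutator lies in O_q
    have hcO : ⁅lb, mk y⁆ ∈ Cfsg.pCore q (S ⧸ K) := by
      rw [commutatorElement_def]
      have hn : (Cfsg.pCore q (S ⧸ K)).Normal := inferInstance
      have h1 : mk y * lb⁻¹ * (mk y)⁻¹ ∈ Cfsg.pCore q (S ⧸ K) :=
        hn.conj_mem _ (inv_mem hlb) _
      have : lb * mk y * lb⁻¹ * (mk y)⁻¹ = lb * (mk y * lb⁻¹ * (mk y)⁻¹) := by group
      rw [this]
      exact mul_mem hlb h1
    obtain ⟨l', hl'N, hl'⟩ :=
      exists_mem_fitting_of_mem_pCore_quotient π H hH K hKπ q hqπ _ hcO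
    refine ⟨l', ?_, hl'.symm⟩
    apply hliftA l' hl'N
    intro a ha
    rw [hl', ← hl]
    -- `mk y` commutes with images of `A`; `mk l` normalizes the image of `A`
    have hya : ∀ b ∈ A, mk y * mk b = mk b * mk y := by
      intro b hb
      rw [← map_mul, ← map_mul, (mem_centralizer_iff.mp hy) b hb]
    have hlA : l⁻¹ * a * l ∈ A := by
      have hln : l⁻¹ ∈ normalizer (A : Set S) := hNA (N.inv_mem hlN)
      have := (mem_normalizer_iff.mp hln a).mp ha
      simpa using this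
    have h1 := hya a ha
    have h2' := hya _ hlA
    rw [map_mul, map_mul, map_inv] at h2'
    rw [commutatorElement_def]
    -- c * a = a * c  where c = l y l⁻¹ y⁻¹
    have e1 : mk y * mk a * (mk y)⁻¹ = mk a := by rw [h1]; group
    have e2 : mk y * ((mk l)⁻¹ * mk a * mk l) * (mk y)⁻¹ = (mk l)⁻¹ * mk a * mk l := by
      rw [h2']; group
    have e1' : (mk y)⁻¹ * mk a * mk y = mk a := by
      calc (mk y)⁻¹ * mk a * mk y = (mk y)⁻¹ * (mk y * mk a * (mk y)⁻¹) * mk y := by rw [e1]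
        _ = mk a := by group
    have hconj : (mk l * mk y * (mk l)⁻¹ * (mk y)⁻¹) * mk a * (mk l * mk y * (mk l)⁻¹ * (mk y)⁻¹)⁻¹
        = mk a := by
      calc (mk l * mk y * (mk l)⁻¹ * (mk y)⁻¹) * mk a * (mk l * mk y * (mk l)⁻¹ * (mk y)⁻¹)⁻¹
          = mk l * mk y * ((mk l)⁻¹ * ((mk y)⁻¹ * mk a * mk y) * mk l) * (mk y)⁻¹ * (mk l)⁻¹ := by
            group
        _ = mk l * (mk y * ((mk l)⁻¹ * mk a * mk l) * (mk y)⁻¹) * (mk l)⁻¹ := by
            rw [e1']; group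
        _ = mk l * ((mk l)⁻¹ * mk a * mk l) * (mk l)⁻¹ := by rw [e2]
        _ = mk a := by group
    calc mk l * mk y * (mk l)⁻¹ * (mk y)⁻¹ * mk a
        = ((mk l * mk y * (mk l)⁻¹ * (mk y)⁻¹) * mk a * (mk l * mk y * (mk l)⁻¹ * (mk y)⁻¹)⁻¹) *
            (mk l * mk y * (mk l)⁻¹ * (mk y)⁻¹) := by group
      _ = mk a * (mk l * mk y * (mk l)⁻¹ * (mk y)⁻¹) := by rw [hconj]
  obtain ⟨n, hn⟩ := hxp
  set xb := mk x with hxb
  have hxbn : xb ^ (p ^ n) = 1 := by rw [hxb, ← map_pow, hn, map_one]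
  -- images of A commute with powers of xb
  have hAx : ∀ a ∈ A, ∀ j : ℤ, mk a * xb ^ j = xb ^ j * mk a := by
    intro a ha j
    have hj : x ^ j ∈ centralizer (A : Set S) := zpow_mem hx j
    rw [hxb, ← map_zpow, ← map_mul, ← map_mul, (mem_centralizer_iff.mp hj) a ha]
  have hAx1 : ∀ a ∈ A, mk a * xb = xb * mk a := by
    intro a ha
    have := hAx a ha 1
    rwa [zpow_one] at this
  -- (h1) xb centralizes O_q for q ≠ p
  have hcent : ∀ q : ℕ, q.Prime → q ≠ p →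
      xb ∈ centralizer (Cfsg.pCore q (S ⧸ K) : Set (S ⧸ K)) := by
    intro q hq hqp
    haveI : Fact q.Prime := ⟨hq⟩
    by_cases hqπ : q ∈ π
    · rw [mem_centralizer_iff]
      intro lb hlb
      obtain ⟨a, ha, hca⟩ := hquad q hqπ x hx lb hlb
      have hcx : ⁅lb, xb⁆ * xb = xb * ⁅lb, xb⁆ := by rw [hca]; exact hAx1 a ha
      have h1 : lb * xb * lb⁻¹ = ⁅lb, xb⁆ * xb := by rw [commutatorElement_def]; group
      have h2' : (⁅lb, xb⁆ * xb) ^ (p ^ n) = 1 := by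
        rw [← h1, conj_pow, hxbn]; group
      have h3' : ⁅lb, xb⁆ ^ (p ^ n) = 1 := by
        have := (show Commute ⁅lb, xb⁆ xb from hcx).mul_pow (p ^ n)
        rw [h2', hxbn, mul_one] at this
        exact this.symm
      have hcO : ⁅lb, xb⁆ ∈ Cfsg.pCore q (S ⧸ K) := commutator_mem_of_normal _ hlb _
      obtain ⟨k, hk⟩ := (Cfsg.Agent.Lib.Helper1.pCore_isPGroup q (S ⧸ K)) ⟨_, hcO⟩
      have hk' : ⁅lb, xb⁆ ^ (q ^ k) = 1 := by
        have := congrArg Subtype.val hk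
        simpa using this
      have hc1 : ⁅lb, xb⁆ = 1 := by
        have hcop : (p ^ n).Coprime (q ^ k) :=
          Nat.Coprime.pow _ _ ((Nat.coprime_primes hp hq).mpr (Ne.symm hqp))
        have hd1 : orderOf ⁅lb, xb⁆ ∣ 1 := by
          rw [← hcop]
          exact Nat.dvd_gcd (orderOf_dvd_of_pow_eq_one h3') (orderOf_dvd_of_pow_eq_one hk')
        exact orderOf_eq_one_iff.mp (Nat.dvd_one.mp hd1)
      calc lb * xb = (lb * xb * lb⁻¹) * lb := by group
        _ = ⁅lb, xb⁆ * xb * lb := by rw [h1]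
        _ = xb * lb := by rw [hc1, one_mul]
    · rw [pCore_quotient_eq_bot π K hKπ hKmax q hqπ, mem_centralizer_iff]
      intro h hh
      have : h = 1 := Subgroup.mem_bot.mp hh
      rw [this, one_mul, mul_one]
  -- (h2) stability
  have hQ : Cfsg.Agent.Lib.Helper29.QuadPair.QuadCore p (S ⧸ K) :=
    Cfsg.Agent.Lib.Helper29.QuadPair.quadCore_of_isPSolvable hp5 (S ⧸ K)
      (Cfsg.Agent.Lib.Helper25.isPSolvable_of_isSolvable' p hp inferInstance)
  have hst : Cfsg.IsPStableOn p (Cfsg.pCore p (S ⧸ K)) :=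
    Cfsg.Agent.Lib.Helper27.OddStable.isPStableOn_of_quadCore_pGroup hQ _
      (Cfsg.Agent.Lib.Helper1.pCore_isPGroup p _)
  have hq2 : ⁅⁅Cfsg.pCore p (S ⧸ K), zpowers xb⁆, zpowers xb⁆ = ⊥ := by
    rw [Subgroup.commutator_eq_bot_iff_le_centralizer, Subgroup.commutator_le]
    intro lb hlb g hg
    obtain ⟨j, rfl⟩ := mem_zpowers_iff.mp hg
    have hxj : x ^ j ∈ centralizer (A : Set S) := zpow_mem hx j
    obtain ⟨a, ha, hca⟩ := hquad p hpπ (x ^ j) hxj lb hlb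
    rw [hxb, ← map_zpow, hca, mem_centralizer_iff]
    intro g' hg'
    obtain ⟨i, rfl⟩ := mem_zpowers_iff.mp hg'
    exact (hAx a ha i).symm
  have h2mem := hst xb hq2
  have hxO : xb ∈ Cfsg.pCore p (S ⧸ K) :=
    mem_pCore_of_mem_pCore_quotient p xb hcent h2mem ⟨n, hxbn⟩
  obtain ⟨l, hlN, hl⟩ := exists_mem_fitting_of_mem_pCore_quotient π H hH K hKπ p hpπ xb hxO
  have hlA : l ∈ A := by
    apply hliftA l hlN
    intro a ha
    rw [hl]
    exact (hAx1 a ha).symm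
  have hk : l⁻¹ * x ∈ K := by
    have : mk (l⁻¹ * x) = 1 := by
      rw [map_mul, map_inv, hl, hxb, inv_mul_cancel]
    exact (QuotientGroup.eq_one_iff _).mp this
  have hlx : l * x = x * l := (mem_centralizer_iff.mp hx) l hlA
  have hkp : (l⁻¹ * x) ^ (p ^ n) = (l ^ (p ^ n))⁻¹ := by
    have hc : Commute l⁻¹ x := Commute.inv_left (show Commute l x from hlx)
    rw [hc.mul_pow, hn, mul_one, inv_pow]
  have hk1 : (l⁻¹ * x) ^ (p ^ n) = 1 := by
    have h1 : (l⁻¹ * x) ^ (p ^ n) ∈ H ⊓ K := by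
      refine mem_inf.mpr ⟨?_, pow_mem hk _⟩
      rw [hkp]; exact inv_mem (pow_mem (hNH hlN) _)
    rw [hHK, mem_bot] at h1; exact h1
  have hk0 : l⁻¹ * x = 1 := by
    have hd1 : orderOf (l⁻¹ * x) ∣ p ^ n := orderOf_dvd_of_pow_eq_one hk1
    have hd2 : orderOf (l⁻¹ * x) ∣ Nat.card K := by
      have := orderOf_dvd_natCard (⟨l⁻¹ * x, hk⟩ : ↥K)
      rwa [← Subgroup.orderOf_coe] at this
    have hcop : (p ^ n).Coprime (Nat.card K) := by
      apply Nat.Coprime.pow_left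
      rw [Nat.Prime.coprime_iff_not_dvd hp]
      intro hd; exact hKπ p hp hd hpπ
    have : orderOf (l⁻¹ * x) ∣ 1 := by rw [← hcop]; exact Nat.dvd_gcd hd1 hd2
    exact orderOf_eq_one_iff.mp (Nat.dvd_one.mp this)
  have hxl : x = l := by
    calc x = l * (l⁻¹ * x) := by group
      _ = l := by rw [hk0, mul_one]
  rw [hxl]; exact hlA

/-- **`C_S(A) = A × D` with `D` a `π'`-group**, for `A ∈ SCN(F(H))`, `H` a Hall `π`-subgroup of the
finite solvable group `S`, `2, 3 ∉ π`. -/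
theorem centralizer_scn_fitting_hall [Group.IsSolvable S] (π : Set ℕ) (h2 : 2 ∉ π) (h3 : 3 ∉ π)
    (H : Subgroup S) (hH : Cfsg.IsPiHall π H) (A : Subgroup S)
    (hA : Cfsg.IsSCN ((Cfsg.fittingSubgroup H).map H.subtype) A) :
    ∃ D : Subgroup S, D ≤ centralizer (A : Set S) ∧
      (∀ c ∈ centralizer (A : Set S), ∀ d ∈ D, c * d * c⁻¹ ∈ D) ∧
      A ⊓ D = ⊥ ∧ A ⊔ D = centralizer (A : Set S) ∧
      ∀ q : ℕ, q.Prime → q ∣ Nat.card D → q ∉ π := by
  classical
  set C := centralizer (A : Set S) with hC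
  have hAC : A ≤ C := by rw [← hA.2.2]; exact inf_le_right
  have hAH : A ≤ H := hA.1.trans (map_subtype_le _)
  set A' : Subgroup ↥C := A.subgroupOf C with hA'
  have hcentral : ∀ a ∈ A, ∀ c ∈ C, c * a = a * c := by
    intro a ha c hc
    exact ((mem_centralizer_iff.mp hc) a ha).symm
  have hconjA : ∀ (a c : ↥C), a ∈ A' → c * a * c⁻¹ = a := by
    intro a c ha
    apply Subtype.ext
    have h := hcentral (a : S) (mem_subgroupOf.mp ha) (c : S) c.2
    simp only [Subgroup.coe_mul, Subgroup.coe_inv]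
    rw [h]; group
  haveI hA'n : A'.Normal := by
    constructor
    intro a ha c
    rw [hconjA a c ha]; exact ha
  have hidx : ∀ r : ℕ, r.Prime → r ∣ A'.index → r ∉ π := by
    intro r hr hd hrπ
    haveI : Fact r.Prime := ⟨hr⟩
    obtain ⟨P⟩ : Nonempty (Sylow r ↥C) := inferInstance
    have hPA : (P : Subgroup ↥C) ≤ A' := by
      intro c hc
      obtain ⟨k, hk⟩ := P.isPGroup' ⟨c, hc⟩
      have hk' : (c : S) ^ (r ^ k) = 1 := by
        have := congrArg (fun z : ↥(P : Subgroup ↥C) => ((z : ↥C) : S)) hk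
        simpa using this
      exact mem_subgroupOf.mpr
        (mem_of_pElement_centralizer π h2 h3 H hH A hA r hr hrπ (c : S) c.2 ⟨k, hk'⟩)
    exact P.not_dvd_index (hd.trans (Subgroup.index_dvd_of_le hPA))
  have hcop : (Nat.card A').Coprime A'.index := by
    rw [Nat.Coprime, Nat.eq_one_iff_not_exists_prime_dvd]
    intro r hr hd
    have h1 : r ∣ Nat.card A' := hd.trans (Nat.gcd_dvd_left _ _)
    have h2' : r ∣ A'.index := hd.trans (Nat.gcd_dvd_right _ _)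
    apply hidx r hr h2'
    apply hH.1 r hr
    have hcard : Nat.card A' = Nat.card A :=
      Nat.card_congr (Subgroup.subgroupOfEquivOfLe hAC).toEquiv
    rw [hcard] at h1
    exact h1.trans (Subgroup.card_dvd_of_le hAH)
  obtain ⟨D', hD'⟩ := Subgroup.exists_right_complement'_of_coprime hcop
  have hdecomp : ∀ c : ↥C, ∃ a ∈ A', ∃ d ∈ D', c = a * d := by
    intro c
    obtain ⟨⟨a, d⟩, hx, -⟩ := Subgroup.IsComplement.existsUnique hD' c
    exact ⟨a.1, a.2, d.1, d.2, hx.symm⟩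
  refine ⟨D'.map C.subtype, map_subtype_le _, ?_, ?_, ?_, ?_⟩
  · intro c hc d hd
    obtain ⟨d', hd', rfl⟩ := hd
    obtain ⟨a, ha, d₀, hd₀, hcad⟩ := hdecomp ⟨c, hc⟩
    refine ⟨d₀ * d' * d₀⁻¹, D'.mul_mem (D'.mul_mem hd₀ hd') (D'.inv_mem hd₀), ?_⟩
    have h1 : (⟨c, hc⟩ : ↥C) * d' * (⟨c, hc⟩ : ↥C)⁻¹ = d₀ * d' * d₀⁻¹ := by
      rw [hcad]
      have h2' := hconjA a⁻¹ (d₀ * d' * d₀⁻¹) (A'.inv_mem ha)
      -- (d₀ d' d₀⁻¹) a⁻¹ (d₀ d' d₀⁻¹)⁻¹ = a⁻¹
      calc a * d₀ * d' * (a * d₀)⁻¹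
          = a * ((d₀ * d' * d₀⁻¹) * a⁻¹ * (d₀ * d' * d₀⁻¹)⁻¹) * (d₀ * d' * d₀⁻¹) := by group
        _ = d₀ * d' * d₀⁻¹ := by rw [h2']; group
    have := congrArg (fun z : ↥C => (z : S)) h1
    simpa using this.symm
  · rw [eq_bot_iff]
    rintro x ⟨hxA, d', hd', rfl⟩
    have hmem : d' ∈ A' ⊓ D' := mem_inf.mpr ⟨mem_subgroupOf.mpr hxA, hd'⟩
    rw [disjoint_iff.mp hD'.disjoint, mem_bot] at hmem
    rw [mem_bot, hmem]; rfl
  · apply le_antisymm
    · exact sup_le hAC (map_subtype_le _)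
    · intro c hc
      obtain ⟨a, ha, d₀, hd₀, hcad⟩ := hdecomp ⟨c, hc⟩
      have h1 : c = (a : S) * (d₀ : S) := by
        have := congrArg (fun z : ↥C => (z : S)) hcad
        simpa using this
      rw [h1]
      exact Subgroup.mul_mem_sup (mem_subgroupOf.mp ha) ⟨d₀, hd₀, rfl⟩
  · intro q hq hd
    apply hidx q hq
    rw [hD'.symm.index_eq_card]
    rwa [Subgroup.card_map_of_injective C.subtype_injective] at hd

end Cfsg.Agent.Lib.Helper8.HallSCN
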