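import Mathlib
import Cfsg.Agent.Lib.Helper22.FFAbF
import Cfsg.Agent.Lib.Helper27.Thompson
import Cfsg.Agent.Lib.Helper18.JSubDefs

/-!
helper8: S2942 market "JSUB", leaf A (`isBestOffenderOn_map_pi_of_maxEA`): elementary abelian subgroups of largest
order in `T` map to best offenders on `V'` (elementary abelian variant of helper22's `isBestOffenderOn_map_pi_of_max`).
-/

set_option autoImplicit false
set_option linter.unusedSectionVars false
set_option linter.style.haveILetI false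

namespace Cfsg.Agent.Lib.Helper8.JSubLeaf

open Subgroup
open scoped commutatorElement
open Cfsg.Agent.Lib.Helper8.Bridge Cfsg.Agent.Lib.Helper8.FFOff Cfsg.Agent.Lib.Helper22.FFAb
open Cfsg.Agent.Lib.Helper18.JSub

section L7
variable {X : Type*} [Group X] [Finite X]

/-- an elementary abelian subgroup of largest order in `T'` has largest measure on any elementary abelian
`W ≤ T'` among its subgroups -/
theorem msr_le_of_max_EA {W T' A : Subgroup X} (hW : Cfsg.IsElementaryAbelian 2 W)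
    (hWT : W ≤ T') (hA : A ∈ Cfsg.Agent.Lib.Helper27.maxEAIn 2 T') {D : Subgroup X} (hD : D ≤ A) :
    Cfsg.Agent.Lib.Helper22.FFAb.msr W D ≤ Cfsg.Agent.Lib.Helper22.FFAb.msr W A := by
  obtain ⟨hAT, ⟨hAcomm, hAexp⟩, hmax⟩ := hA
  obtain ⟨hWcomm, hWexp⟩ := hW
  have hWc : ∀ x ∈ W, ∀ y ∈ W, x * y = y * x := fun x hx y hy =>
    congrArg Subtype.val (hWcomm.is_comm.comm ⟨x, hx⟩ ⟨y, hy⟩)
  have hAc : ∀ a ∈ A, ∀ b ∈ A, a * b = b * a := fun x hx y hy =>
    congrArg Subtype.val (hAcomm.is_comm.comm ⟨x, hx⟩ ⟨y, hy⟩)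
  set CD : Subgroup X := W ⊓ centralizer (D : Set X) with hCD
  have h1 : CD ≤ normalizer (D : Set X) := inf_le_right.trans (centralizer_le_normalizer (D : Set X))
  have h2 := Cfsg.Agent.Lib.Helper4.card_sup_mul_card_inf CD D h1
  have hDCD : D ≤ centralizer (CD : Set X) := le_centralizer_iff.mp inf_le_right
  have hcen : CD ⊔ D ≤ centralizer ((CD ⊔ D : Subgroup X) : Set X) := by
    refine sup_le ?_ ?_
    · intro x hx
      rw [mem_centralizer_sup_iff]
      refine ⟨?_, hx.2⟩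
      rw [mem_centralizer_iff]
      intro y hy
      exact hWc y hy.1 x hx.1
    · intro d hd
      rw [mem_centralizer_sup_iff]
      refine ⟨hDCD hd, ?_⟩
      rw [mem_centralizer_iff]
      intro y hy
      exact hAc y (hD hy) d (hD hd)
  have hab : ∀ a ∈ CD ⊔ D, ∀ b ∈ CD ⊔ D, a * b = b * a := by
    intro a ha b hb
    exact (mem_centralizer_iff.mp (hcen hb)) a ha
  -- exponent two
  let E : Subgroup X :=
    { carrier := {x | x ∈ CD ⊔ D ∧ x ^ 2 = 1}
      mul_mem' := by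
        rintro x y ⟨hx, hx2⟩ ⟨hy, hy2⟩
        refine ⟨mul_mem hx hy, ?_⟩
        rw [(show Commute x y from hab x hx y hy).mul_pow, hx2, hy2, one_mul]
      one_mem' := ⟨one_mem _, one_pow _⟩
      inv_mem' := by
        rintro x ⟨hx, hx2⟩
        exact ⟨inv_mem hx, by rw [inv_pow, hx2, inv_one]⟩ }
  have hE : CD ⊔ D ≤ E := by
    refine sup_le ?_ ?_
    · intro x hx
      exact ⟨(le_sup_left : CD ≤ CD ⊔ D) hx, hWexp x hx.1⟩
    · intro x hx
      exact ⟨(le_sup_right : D ≤ CD ⊔ D) hx, hAexp x (hD hx)⟩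
  have hEA : Cfsg.IsElementaryAbelian 2 (CD ⊔ D) := by
    refine ⟨⟨⟨?_⟩⟩, fun a ha => (hE ha).2⟩
    rintro ⟨a, ha⟩ ⟨b, hb⟩
    exact Subtype.ext (hab a ha b hb)
  have hle : CD ⊔ D ≤ T' := sup_le (inf_le_left.trans hWT) (hD.trans hAT)
  have h3 := hmax _ hle hEA
  have h4 : CD ⊓ D ≤ W ⊓ centralizer (A : Set X) := by
    intro x hx
    refine ⟨hx.1.1, ?_⟩
    show x ∈ centralizer (A : Set X)
    rw [mem_centralizer_iff]
    intro y hy
    exact hAc y hy x (hD hx.2)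
  have h5 : Nat.card ↥(CD ⊓ D) ≤ Nat.card ↥(W ⊓ centralizer (A : Set X)) := card_le_of_le h4
  unfold Cfsg.Agent.Lib.Helper22.FFAb.msr
  calc Nat.card D * Nat.card ↥(W ⊓ centralizer (D : Set X))
      = Nat.card ↥(CD ⊔ D) * Nat.card ↥(CD ⊓ D) := by rw [h2, mul_comm]
    _ ≤ Nat.card A * Nat.card ↥(W ⊓ centralizer (A : Set X)) := Nat.mul_le_mul h3 h5

end L7

section X
universe u
variable {X : Type u} [Group X] [Finite X] [Group.IsSolvable X]
  (hF : Cfsg.fittingSubgroup X = Cfsg.pCore 2 X) (T : Sylow 2 X)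

/-- LEAF A -/
theorem isBestOffenderOn_map_pi_of_maxEA {A : Subgroup X}
    (hA : A ∈ Cfsg.Agent.Lib.Helper27.maxEAIn 2 (T : Subgroup X)) :
    Cfsg.IsBestOffenderOn 2 (V' (Wm hF T)) (A.map (pi (Wm hF T))) := by
  have hAT : A ≤ (T : Subgroup X) := hA.1
  have hAc : ∀ a ∈ A, ∀ b ∈ A, a * b = b * a := fun x hx y hy =>
    congrArg Subtype.val (hA.2.1.1.is_comm.comm ⟨x, hx⟩ ⟨y, hy⟩)
  have hAb : AbBest (Wm hF T) A :=
    ⟨hAc, fun D hD => msr_le_of_max_EA (Wm_isElementaryAbelian hF T) (Wm_le_sylow hF T) hA hD⟩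
  have hAb' := abBest_map_pi (Wm hF T) hAb
  refine ⟨fun B hB => hAb'.2 B hB, ?_, ?_⟩
  · have h0 : ⁅A.map (pi (Wm hF T)), A.map (pi (Wm hF T))⁆ = ⊥ := by
      rw [commutator_eq_bot_iff_le_centralizer]
      intro a ha
      rw [mem_centralizer_iff]
      intro b hb
      exact hAb'.1 b hb a ha
    rw [h0]
    exact bot_le
  · rintro _ ⟨a, ha, rfl⟩
    rw [← map_pow, hA.2.1.2 a ha, map_one]
    exact one_mem _

end X

end Cfsg.Agent.Lib.Helper8.JSubLeaf
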