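import Mathlib
import Cfsg.Agent.Lib.Helper22.FFAbF
import Cfsg.Agent.Lib.Helper27.Thompson
import Cfsg.Agent.Lib.Helper18.JSubDefs

/-!
helper8: S2942 market "JSUB", leaf C (`exists_three_subgroup`): if `pi(Y)` is generated by its best offenders, its
odd-order elements form a 3-subgroup (it is a product of copies of `S₃`).  General tool: `exists_three_of_pi_perm`.
-/

set_option autoImplicit false
set_option linter.unusedSectionVars false
set_option linter.style.haveILetI false

namespace Cfsg.Agent.Lib.Helper8.JSubLeaf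

open Subgroup
open scoped commutatorElement
open Cfsg.Agent.Lib.Helper8.Bridge Cfsg.Agent.Lib.Helper8.FFOff Cfsg.Agent.Lib.Helper22.FFAb
open Cfsg.Agent.Lib.Helper18.JSub

/-- in `S₃`, even permutations have exponent three -/
theorem perm_three_pow (σ : Equiv.Perm (Fin 3)) (h : Equiv.Perm.sign σ = 1) : σ ^ 3 = 1 := by
  revert σ; decide

/-- the odd-order elements of a power of `S₃` form a 3-subgroup -/
theorem exists_three_of_pi_perm (n : ℕ) :
    ∃ N : Subgroup (Fin n → Equiv.Perm (Fin 3)), IsPGroup 3 N ∧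
      ∀ f : Fin n → Equiv.Perm (Fin 3), (f ∈ N ↔ Odd (orderOf f)) := by
  refine ⟨Subgroup.pi Set.univ (fun _ => alternatingGroup (Fin 3)), ?_, ?_⟩
  · rintro ⟨f, hf⟩
    refine ⟨1, ?_⟩
    apply Subtype.ext
    rw [pow_one]
    show f ^ 3 = 1
    funext i
    rw [Pi.pow_apply, Pi.one_apply]
    exact perm_three_pow (f i) (Equiv.Perm.mem_alternatingGroup.1 (hf i (Set.mem_univ i)))
  · intro f
    constructor
    · intro hf
      have h3 : f ^ 3 = 1 := by
        funext i
        rw [Pi.pow_apply, Pi.one_apply]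
        exact perm_three_pow (f i) (Equiv.Perm.mem_alternatingGroup.1 (hf i (Set.mem_univ i)))
      have hd := orderOf_dvd_of_pow_eq_one h3
      rcases (Nat.dvd_prime Nat.prime_three).1 hd with h | h <;> rw [h] <;> decide
    · intro hodd i _
      show f i ∈ alternatingGroup (Fin 3)
      rw [Equiv.Perm.mem_alternatingGroup]
      have h1 : (f i) ^ orderOf f = 1 := by
        have := congrFun (pow_orderOf_eq_one f) i
        simpa using this
      have h2 : (Equiv.Perm.sign (f i)) ^ orderOf f = 1 := by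
        rw [← map_pow, h1, map_one]
      rcases Int.units_eq_one_or (Equiv.Perm.sign (f i)) with h | h
      · exact h
      · exfalso
        rw [h, Odd.neg_one_pow hodd] at h2
        exact absurd h2 (by decide)

section X
universe u
variable {X : Type u} [Group X] [Finite X] [Group.IsSolvable X]
  (hF : Cfsg.fittingSubgroup X = Cfsg.pCore 2 X) (T : Sylow 2 X)

/-- LEAF C -/
theorem exists_three_subgroup
    (hS3 : (YT T).map (pi (Wm hF T)) = offGen (V' (Wm hF T)) ((YT T).map (pi (Wm hF T)))) :
    ∃ R : Subgroup (Gam (Wm hF T)), R ≤ (YT T).map (pi (Wm hF T)) ∧ IsPGroup 3 R ∧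
      ∀ h ∈ (YT T).map (pi (Wm hF T)), (h ∈ R ↔ Odd (orderOf h)) := by
  set H1 := (YT T).map (pi (Wm hF T)) with hH1
  by_cases hne : H1 = ⊥
  · refine ⟨⊥, bot_le, IsPGroup.of_bot, ?_⟩
    intro h hh
    rw [hne, mem_bot] at hh
    subst hh
    simp
  · have hYn : (YT T).Normal := normalClosure_normal
    have hS := ffSetting_map_pi hF T (YT T)
    obtain ⟨-, hE, hind, hsup, -, -⟩ := ff_structure hS hS3 hne
    have hiso : ∀ E : {E : Subgroup (Gam (Wm hF T)) // IsE 2 (V' (Wm hF T)) H1 E},
        Nonempty (↥(E : Subgroup (Gam (Wm hF T))) ≃* Equiv.Perm (Fin 3)) := fun E =>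
      ⟨(hE E).2.1.some.trans nonempty_SL2_two_equiv_perm.some⟩
    have hprod := nonempty_mulEquiv_pi_of_iSupIndep
      (fun E : {E : Subgroup (Gam (Wm hF T)) // IsE 2 (V' (Wm hF T)) H1 E} =>
        (E : Subgroup (Gam (Wm hF T))))
      H1 (fun E => (hE E).1) hind hsup hiso
    obtain ⟨e⟩ := hprod
    obtain ⟨N, hN3, hNodd⟩ := exists_three_of_pi_perm
      (Nat.card {E : Subgroup (Gam (Wm hF T)) // IsE 2 (V' (Wm hF T)) H1 E})
    refine ⟨(N.comap e.toMonoidHom).map H1.subtype, map_subtype_le _, ?_, ?_⟩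
    · exact (hN3.comap_of_injective e.toMonoidHom e.injective).map _
    · intro h hh
      constructor
      · rintro ⟨x, hx, rfl⟩
        have h1 : e x ∈ N := hx
        have h2 := (hNodd (e x)).1 h1
        rw [MulEquiv.orderOf_eq] at h2
        rw [Subgroup.coe_subtype, Subgroup.orderOf_coe]
        exact h2
      · intro hodd
        refine ⟨⟨h, hh⟩, ?_, rfl⟩
        show e ⟨h, hh⟩ ∈ N
        rw [hNodd, MulEquiv.orderOf_eq, ← Subgroup.orderOf_coe]
        exact hodd

end X

end Cfsg.Agent.Lib.Helper8.JSubLeaf
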