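import Mathlib
import Cfsg.Agent.Lib.Helper24.KleinSC

/-! S4638 leaf FUS (`exists_subsection_family`), helper8: the subsections `(u, f u)`, `u ∈ P`, below a
maximal pair `(P, c)` with `P` abelian, and control of their fusion by `T = N_G(P, c)`. -/

set_option autoImplicit false

namespace Cfsg.Agent.Lib.Helper8.KleinPIFUS

open Cfsg Cfsg.Agent.CharLib Cfsg.Agent.Lib.Helper24 Cfsg.Agent.Lib.Helper6
open Cfsg.Agent.Lib.Helper24.KleinSC
open scoped ComplexConjugate

universe u

/-- a member of a cast block comes from a member of the block with the same values -/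
theorem exists_of_mem_castBlock {G : Type u} [Group G] {H H' : Subgroup G} (h : H = H')
    (b : Set (IrrCharacter H)) (ζ : IrrCharacter H') (hζ : ζ ∈ castBlock h b) :
    ∃ ζ₀ ∈ b, ∀ (k : H) (k' : H'), (k : G) = (k' : G) → (ζ₀ : H → ℂ) k = (ζ : H' → ℂ) k' := by
  subst h
  refine ⟨ζ, hζ, ?_⟩
  intro k k' hk
  rw [Subtype.ext hk]

/-- (FUS) the subsections `(u, f u)`, `u ∈ P`, below a maximal pair `(P, c)` with `P` abelian: each `f u`
induces `B` and has defect group `P`; two of them that are conjugate in `G` are conjugate under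
`T = N_G(P, c)`. -/
theorem exists_subsection_family {G : Type u} [Group G] [Fintype G] {M : Ideal AlgInt}
    {p : ℕ} [hpp : Fact p.Prime] (hM : IsPModular p M)
    (B : Set (IrrCharacter G)) (hB : IsPBlock M B)
    (P : Subgroup G) (hPD : IsDefectGroup p M B P) (hab : ∀ x ∈ P, ∀ y ∈ P, x * y = y * x)
    (c : Set (IrrCharacter (Subgroup.centralizer (P : Set G))))
    (hc : IsInducedBlock M (Subgroup.centralizer (P : Set G)) c B) (T : Subgroup G)
    (hT : ∀ g : G, g ∈ T ↔ (g ∈ Subgroup.normalizer (P : Set G) ∧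
      StabilizesBlock (Subgroup.centralizer (P : Set G)) c g)) :
    ∃ f : ∀ u : G, Set (IrrCharacter (Subgroup.centralizer ({u} : Set G))),
      (∀ u ∈ P, IsInducedBlock M (Subgroup.centralizer ({u} : Set G)) (f u) B ∧
        IsDefectGroup p M (f u) (P.subgroupOf (Subgroup.centralizer ({u} : Set G)))) ∧
      ∀ u ∈ P, ∀ u' ∈ P, ∀ g : G, g * u * g⁻¹ = u' →
        (∃ ζ ∈ f u, ∃ ζ' ∈ f u',
          ∀ (k : Subgroup.centralizer ({u} : Set G)) (k' : Subgroup.centralizer ({u'} : Set G)),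
            (k' : G) = g * (k : G) * g⁻¹ →
              (ζ' : Subgroup.centralizer ({u'} : Set G) → ℂ) k' =
                (ζ : Subgroup.centralizer ({u} : Set G) → ℂ) k) →
        ∃ t ∈ T, t * u * t⁻¹ = u' := by
  classical
  have hprime : M.IsPrime := isPrime_of_isPModular hM
  have hmax : IsMaximalBrauerPair p M B P c := isMaximalBrauerPair_of_defect hM B hB P hPD c hc
  -- the family below `(P, c)`
  have hex : ∀ u : G, ∃ f : Set (IrrCharacter
      (Subgroup.centralizer ((Subgroup.zpowers u : Subgroup G) : Set G))),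
      u ∈ P → (SubpairLE p M (Subgroup.zpowers u) f P c ∧
        IsBrauerPairOf p M B (Subgroup.zpowers u) f ∧
        IsInducedBlock M (Subgroup.centralizer ((Subgroup.zpowers u : Subgroup G) : Set G)) f B ∧
        IsDefectGroup p M f (P.subgroupOf
          (Subgroup.centralizer ((Subgroup.zpowers u : Subgroup G) : Set G)))) := by
    intro u
    by_cases hu : u ∈ P
    · obtain ⟨f, hf⟩ := exists_block_below hM B P c hmax hab u hu
      exact ⟨f, fun _ => hf⟩
    · exact ⟨∅, fun h => absurd h hu⟩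
  choose f' hf' using hex
  refine ⟨fun u => castBlock (centralizer_zpowers_eq u) (f' u), ?_, ?_⟩
  · intro u hu
    obtain ⟨-, -, h3, h4⟩ := hf' u hu
    exact ⟨(isInducedBlock_castBlock (centralizer_zpowers_eq u) (f' u) B).mpr h3,
      (isDefectGroup_castBlock p (centralizer_zpowers_eq u) (f' u) P).mpr h4⟩
  · intro u hu u' hu' g hg hconj
    obtain ⟨ζ, hζ, ζ', hζ', hagree⟩ := hconj
    obtain ⟨hle, hpair, -, -⟩ := hf' u hu
    obtain ⟨hle', hpair', -, -⟩ := hf' u' hu'
    obtain ⟨ζ₀, hζ₀, hval⟩ := exists_of_mem_castBlock (centralizer_zpowers_eq u) (f' u) ζ hζ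
    obtain ⟨ζ₀', hζ₀', hval'⟩ := exists_of_mem_castBlock (centralizer_zpowers_eq u') (f' u') ζ' hζ'
    -- the conjugate pair
    obtain ⟨f'', hf''⟩ := PConj.exists' g u u' hg (f' u)
    have hblk'' : IsPBlock M f'' := PConj.isPBlock hpair.1.2 hf''
    have hmem'' : ζ₀' ∈ f'' := by
      refine (of_cjPair_eq g _ _ (f' u) f'' hf''.2).2 ζ₀ hζ₀ ζ₀' ?_
      intro k k' hk
      have hk1 : (k : G) ∈ Subgroup.centralizer ({u} : Set G) := by
        rw [← centralizer_zpowers_eq u]; exact k.2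
      have hk1' : (k' : G) ∈ Subgroup.centralizer ({u'} : Set G) := by
        rw [← centralizer_zpowers_eq u']; exact k'.2
      rw [hval k ⟨(k : G), hk1⟩ rfl, hval' k' ⟨(k' : G), hk1'⟩ rfl]
      exact hagree ⟨(k : G), hk1⟩ ⟨(k' : G), hk1'⟩ hk
    have heq : f'' = f' u' := isPBlock_eq_of_mem hblk'' hpair'.1.2 hmem'' hζ₀'
    have hx : cjPair g (⟨Subgroup.zpowers u, f' u⟩ : BrauerPairIdx G) =
        ⟨Subgroup.zpowers u', f' u'⟩ := by
      rw [← heq]; exact hf''.2
    obtain ⟨c0, hc0, hN, hS⟩ := exists_centralizer_mul_mem₂ hM B P c hmax hab _ _ (f' u) (f' u')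
      hle hle' g hx
    refine ⟨c0 * g, (hT _).mpr ⟨hN, hS⟩, ?_⟩
    have h1 : (c0 * g) * u * (c0 * g)⁻¹ = c0 * (g * u * g⁻¹) * c0⁻¹ := by group
    rw [h1, hg]
    have h2 := Subgroup.mem_centralizer_iff.mp hc0 u' (Subgroup.mem_zpowers u')
    rw [← h2]; group

end Cfsg.Agent.Lib.Helper8.KleinPIFUS
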