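import Mathlib
import Cfsg.Agent.Lib.Helper6.ExtFirstMain

/-! S4638 leaf ROOT (`exists_root`), helper8: a block with an abelian defect group `P` has a root in `C_G(P)`. -/

set_option autoImplicit false

namespace Cfsg.Agent.Lib.Helper8.KleinPIROOT

open Cfsg Cfsg.Agent.CharLib Cfsg.Agent.Lib.Helper24 Cfsg.Agent.Lib.Helper6
open scoped ComplexConjugate

universe u

/-- transport of an inducing block along an equality of subgroups -/
theorem exists_induced_of_eq {G : Type u} [Group G] {M : Ideal AlgInt} (B : Set (IrrCharacter G))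
    (H K : Subgroup G) (h : H = K) (b : Set (IrrCharacter H)) (hb : IsInducedBlock M H b B) :
    ∃ c : Set (IrrCharacter K), IsInducedBlock M K c B := by
  subst h
  exact ⟨b, hb⟩

/-- (ROOT) a block with an abelian defect group `P` has a root in `C_G(P)`.
(helper6 `ExtFirstMain.exists_block_PC` + transport along `P ⊔ C_G(P) = C_G(P)`.) -/
theorem exists_root {G : Type u} [Group G] [Fintype G] {M : Ideal AlgInt}
    {p : ℕ} [hpp : Fact p.Prime] (hM : IsPModular p M)
    (B : Set (IrrCharacter G)) (hB : IsPBlock M B)
    (P : Subgroup G) (hPD : IsDefectGroup p M B P) (hab : ∀ x ∈ P, ∀ y ∈ P, x * y = y * x) :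
    ∃ c : Set (IrrCharacter (Subgroup.centralizer (P : Set G))),
      IsInducedBlock M (Subgroup.centralizer (P : Set G)) c B := by
  obtain ⟨b, -, hb⟩ := ExtFirstMain.exists_block_PC hM B hB P hPD
  have hPC : P ≤ Subgroup.centralizer (P : Set G) := by
    intro a ha
    rw [Subgroup.mem_centralizer_iff]
    intro y hy
    exact hab y hy a ha
  exact exists_induced_of_eq B _ _ (sup_eq_right.mpr hPC) b hb

end Cfsg.Agent.Lib.Helper8.KleinPIROOT
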