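/-
helper8: Landau's theorem (1903): the order of a finite group is bounded in terms of its number of
conjugacy classes.  Pure Mathlib.  Egyptian-fraction finiteness by induction on the number of
terms + the class equation.
-/
import Mathlib

set_option autoImplicit false

namespace Cfsg.Agent.Lib.Helper8.Landau

universe u

/-- Egyptian fractions: for fixed `k` and `A > 0`, all solutions of `∑ 1/c_i = A` in positive
integers are bounded. -/
theorem egypt : ∀ (k : ℕ) (A : ℚ), 0 < A → ∃ N : ℕ, ∀ c : Fin k → ℕ, (∀ i, 0 < c i) →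
    ∑ i, (1 : ℚ) / (c i : ℚ) = A → ∀ i, c i ≤ N := by
  intro k
  induction k with
  | zero =>
    intro A _
    exact ⟨0, fun c _ _ i => i.elim0⟩
  | succ k ih =>
    intro A hA
    classical
    set B : ℕ := ⌊((k : ℚ) + 1) / A⌋₊ with hB
    let N' : ℕ → ℕ := fun m =>
      if h : 0 < A - 1 / (m : ℚ) then Classical.choose (ih (A - 1 / (m : ℚ)) h) else 0
    refine ⟨max B ((Finset.Icc 1 B).sup N'), ?_⟩
    intro c hc hsum
    -- an index with the least value
    obtain ⟨j, -, hj⟩ := Finset.exists_min_image (Finset.univ : Finset (Fin (k + 1))) c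
      ⟨0, Finset.mem_univ _⟩
    have hcj : (0 : ℚ) < (c j : ℚ) := by exact_mod_cast hc j
    -- `c j ≤ B`
    have h1 : A ≤ ((k : ℚ) + 1) * (1 / (c j : ℚ)) := by
      rw [← hsum]
      calc ∑ i, (1 : ℚ) / (c i : ℚ) ≤ ∑ _i : Fin (k + 1), (1 : ℚ) / (c j : ℚ) := by
            apply Finset.sum_le_sum
            intro i _
            have hci : (0 : ℚ) < (c i : ℚ) := by exact_mod_cast hc i
            have hle : (c j : ℚ) ≤ (c i : ℚ) := by exact_mod_cast hj i (Finset.mem_univ _)
            exact one_div_le_one_div_of_le hcj hle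
        _ = ((k : ℚ) + 1) * (1 / (c j : ℚ)) := by
            rw [Finset.sum_const, Finset.card_univ, Fintype.card_fin, nsmul_eq_mul]
            push_cast
            ring
    have h2 : (c j : ℚ) ≤ ((k : ℚ) + 1) / A := by
      rw [le_div_iff₀ hA]
      have : A * (c j : ℚ) ≤ ((k : ℚ) + 1) * (1 / (c j : ℚ)) * (c j : ℚ) :=
        mul_le_mul_of_nonneg_right h1 hcj.le
      rw [mul_assoc, one_div, inv_mul_cancel₀ hcj.ne', mul_one] at this
      linarith
    have hjB : c j ≤ B := Nat.le_floor h2
    intro i
    by_cases hij : i = j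
    · subst hij
      exact le_trans hjB (le_max_left _ _)
    · obtain ⟨i', rfl⟩ := Fin.exists_succAbove_eq hij
      -- the remaining sum
      have hdec := Fin.sum_univ_succAbove (fun i => (1 : ℚ) / (c i : ℚ)) j
      rw [hsum] at hdec
      have hrest : ∑ i, (1 : ℚ) / ((fun i => c (j.succAbove i)) i : ℚ) = A - 1 / (c j : ℚ) := by
        simp only
        linarith
      have hpos : 0 < A - 1 / (c j : ℚ) := by
        rw [← hrest]
        apply Finset.sum_pos'
        · intro i _
          have hci : (0 : ℚ) < (c (j.succAbove i) : ℚ) := by exact_mod_cast hc _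
          positivity
        · refine ⟨i', Finset.mem_univ _, ?_⟩
          have hci : (0 : ℚ) < (c (j.succAbove i') : ℚ) := by exact_mod_cast hc _
          positivity
      have hspec := Classical.choose_spec (ih (A - 1 / (c j : ℚ)) hpos)
        (fun i => c (j.succAbove i)) (fun i => hc _) hrest i'
      have hN' : N' (c j) = Classical.choose (ih (A - 1 / (c j : ℚ)) hpos) := by
        simp only [N']
        rw [dif_pos hpos]
      have hmem : c j ∈ Finset.Icc 1 B := Finset.mem_Icc.mpr ⟨hc j, hjB⟩
      calc c (j.succAbove i') ≤ N' (c j) := by rw [hN']; exact hspec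
        _ ≤ (Finset.Icc 1 B).sup N' := Finset.le_sup (f := N') hmem
        _ ≤ _ := le_max_right _ _

/-- the size of a conjugacy class divides the group order -/
theorem ncard_carrier_dvd {G : Type u} [Group G] [Finite G] (x : ConjClasses G) :
    x.carrier.ncard ∣ Nat.card G := by
  obtain ⟨g, rfl⟩ := ConjClasses.exists_rep x
  rw [← ConjAct.orbit_eq_carrier_conjClasses, ← MulAction.index_stabilizer]
  have h := Subgroup.index_dvd_card (MulAction.stabilizer (ConjAct G) g)
  have hcard : Nat.card (ConjAct G) = Nat.card G := Nat.card_congr ConjAct.ofConjAct.toEquiv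
  rwa [hcard] at h

theorem ncard_carrier_pos {G : Type u} [Group G] [Finite G] (x : ConjClasses G) :
    0 < x.carrier.ncard := by
  obtain ⟨g, rfl⟩ := ConjClasses.exists_rep x
  rw [Set.ncard_pos (Set.toFinite _)]
  exact ⟨g, ConjClasses.mem_carrier_mk⟩

/-- **Landau's theorem**: a finite group with at most `K` conjugacy classes has order at most
`N(K)`. -/
theorem card_le_of_card_conjClasses_le (K : ℕ) : ∃ N : ℕ, ∀ (G : Type u) [Group G] [Finite G],
    Nat.card (ConjClasses G) ≤ K → Nat.card G ≤ N := by
  classical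
  let N' : ℕ → ℕ := fun k => Classical.choose (egypt k 1 one_pos)
  refine ⟨(Finset.range (K + 1)).sup N', ?_⟩
  intro G _ _ hK
  have : Finite (ConjClasses G) := inferInstance
  set k := Nat.card (ConjClasses G) with hk
  have e : Fin k ≃ ConjClasses G := (Finite.equivFin (ConjClasses G)).symm
  have hGpos : 0 < Nat.card G := Nat.card_pos
  let c : Fin k → ℕ := fun i => Nat.card G / (e i).carrier.ncard
  have hc : ∀ i, 0 < c i := by
    intro i
    exact Nat.div_pos (Nat.le_of_dvd hGpos (ncard_carrier_dvd _)) (ncard_carrier_pos _)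
  have hterm : ∀ i, (1 : ℚ) / (c i : ℚ) = ((e i).carrier.ncard : ℚ) / (Nat.card G : ℚ) := by
    intro i
    obtain ⟨m, hm⟩ := ncard_carrier_dvd (e i)
    have hs : 0 < (e i).carrier.ncard := ncard_carrier_pos _
    have hci : c i = m := by
      simp only [c]
      rw [hm, Nat.mul_div_cancel_left _ hs]
    rw [hci, hm]
    have hs' : ((e i).carrier.ncard : ℚ) ≠ 0 := by exact_mod_cast hs.ne'
    have hm0 : (m : ℚ) ≠ 0 := by
      intro h0
      have : m = 0 := by exact_mod_cast h0
      rw [this, mul_zero] at hm
      omega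
    push_cast
    field_simp
  have hsum : ∑ i, (1 : ℚ) / (c i : ℚ) = 1 := by
    simp_rw [hterm]
    rw [← Finset.sum_div]
    have h1 : ∑ i : Fin k, ((e i).carrier.ncard : ℚ) = (Nat.card G : ℚ) := by
      have h2 := Group.sum_card_conj_classes_eq_card G
      letI : Fintype (ConjClasses G) := Fintype.ofFinite _
      rw [finsum_eq_sum_of_fintype] at h2
      rw [← h2]
      push_cast
      exact Equiv.sum_comp e (fun x : ConjClasses G => (x.carrier.ncard : ℚ))
    rw [h1]
    exact div_self (by exact_mod_cast hGpos.ne')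
  have hspec := Classical.choose_spec (egypt k 1 one_pos) c hc hsum
  -- the class of the identity
  have h1c : (ConjClasses.mk (1 : G)).carrier.ncard = 1 := by
    have : (ConjClasses.mk (1 : G)).carrier = {1} := by
      ext y
      rw [ConjClasses.mem_carrier_iff_mk_eq, Set.mem_singleton_iff, ConjClasses.mk_eq_mk_iff_isConj,
        isConj_one_left]
    rw [this, Set.ncard_singleton]
  have hi := hspec (e.symm (ConjClasses.mk 1))
  have hci : c (e.symm (ConjClasses.mk 1)) = Nat.card G := by
    simp only [c]
    rw [Equiv.apply_symm_apply, h1c, Nat.div_one]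
  rw [hci] at hi
  have hkmem : k ∈ Finset.range (K + 1) := Finset.mem_range.mpr (Nat.lt_succ_of_le hK)
  exact le_trans hi (Finset.le_sup (f := N') hkmem)

end Cfsg.Agent.Lib.Helper8.Landau
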