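/-
helper8: S4923 leaf (SMALL) `result_three`: the case `|P| = 8`.
`|P : P'| = 4` iff `P` is nonabelian iff some `g ∈ P` has even class size; for a nonabelian `P` an
element of order `4` is inverted in `P`, so its character values are rational, and
`ζ + ζ⁻¹ = 0` for a primitive 4th root of unity.
-/
import Mathlib
import Cfsg.Prelude.Def_Characters
import Cfsg.Agent.Lib.Lead.CharOrtho
import Cfsg.Agent.Lib.Helper24.GaloisNorm
import Cfsg.Agent.Lib.Helper11.MCFSyl
import Cfsg.Agent.Lib.Helper8.MCFSmallGrp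

set_option autoImplicit false

namespace Cfsg.Agent.Lib.Helper8.MCF

open Cfsg

universe u

/-- for a 4th root of unity `μ`, `μ + μ³` is an integer -/
theorem add_cube_int (μ : ℂ) (h : μ ^ 4 = 1) : ∃ m : ℤ, μ + μ ^ 3 = m := by
  have h1 : (μ ^ 2 - 1) * (μ ^ 2 + 1) = 0 := by linear_combination h
  rcases mul_eq_zero.mp h1 with h2 | h2
  · have h3 : (μ - 1) * (μ + 1) = 0 := by linear_combination h2
    rcases mul_eq_zero.mp h3 with h4 | h4
    · refine ⟨2, ?_⟩
      have : μ = 1 := by linear_combination h4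
      rw [this]; norm_num
    · refine ⟨-2, ?_⟩
      have : μ = -1 := by linear_combination h4
      rw [this]; norm_num
  · refine ⟨0, ?_⟩
    push_cast
    linear_combination μ * h2

variable {G : Type u} [Group G] [Finite G]

/-- the values of the irreducible characters at an element of order `4` conjugate to its inverse
are rational -/
theorem irr_apply_rat (χ : IrrCharacter G) (g x : G) (hg : orderOf g = 4)
    (hx : x * g * x⁻¹ = g⁻¹) : ∃ q : ℚ, (χ : G → ℂ) g = q := by
  obtain ⟨n, ρ, hirr, hχ⟩ := χ.2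
  obtain ⟨ι, hι, μ, h1, h2, h3, h4⟩ := Cfsg.Agent.Lib.Helper24.exists_roots_char_pow ρ g
  have hcls := Cfsg.Agent.CharLib.IsCharacter.isClassFunction
    (Cfsg.Agent.CharLib.IsIrrCharacter.isCharacter χ.2)
  have hinv : (χ : G → ℂ) g⁻¹ = (χ : G → ℂ) g := by rw [← hx]; exact hcls g x
  have hg4 : g ^ 4 = 1 := by rw [← hg]; exact pow_orderOf_eq_one g
  have hg3 : g ^ 3 = g⁻¹ := eq_inv_of_mul_eq_one_left (by rw [← pow_succ]; exact hg4)
  have e1 : (χ : G → ℂ) g = ∑ i, μ i := by
    have := h4 1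
    rw [pow_one, hχ] at this
    simpa using this
  have e3 : (χ : G → ℂ) g = ∑ i, μ i ^ 3 := by
    have := h4 3
    rw [hg3, hχ, hinv] at this
    exact this
  choose m hm using fun i => add_cube_int (μ i) (by rw [← hg]; exact h1 i)
  refine ⟨((∑ i, m i : ℤ) : ℚ) / 2, ?_⟩
  have h5 : 2 * (χ : G → ℂ) g = ∑ i, (m i : ℂ) := by
    rw [two_mul]
    nth_rewrite 1 [e1]
    rw [e3, ← Finset.sum_add_distrib]
    apply Finset.sum_congr rfl
    intro i _
    exact hm i
  push_cast
  linear_combination h5 / 2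

/-- (SMALL) the case `n = 3`. -/
theorem result_three (P : Sylow 2 G) (hP : Nat.card P = 2 ^ 3) (ζ : ℂ)
    (hζ : IsPrimitiveRoot ζ (2 ^ (3 - 1))) :
    (commutator ↥P).index = 4 ↔
      ∃ g : G, g ∈ (P : Subgroup G) ∧ 2 ∣ (Subgroup.centralizer ({g} : Set G)).index ∧
        (IntermediateField.adjoin ℚ {z : ℂ | ∃ χ : Cfsg.IrrCharacter G, (χ : G → ℂ) g = z} =
            IntermediateField.adjoin ℚ ({ζ + ζ⁻¹} : Set ℂ) ∨
          IntermediateField.adjoin ℚ {z : ℂ | ∃ χ : Cfsg.IrrCharacter G, (χ : G → ℂ) g = z} =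
            IntermediateField.adjoin ℚ ({ζ - ζ⁻¹} : Set ℂ)) := by
  have h8 : Nat.card (P : Subgroup G) = 8 := by rw [hP]; norm_num
  constructor
  · intro h4
    have h4' : (commutator ↥(P : Subgroup G)).index = 4 := h4
    have hnab : ¬ ∀ a b : (P : Subgroup G), a * b = b * a := by
      intro hab
      have := index_commutator_of_comm hab
      rw [h4', h8] at this
      omega
    obtain ⟨g, x, hg, hx⟩ := exists_order_four_inverted h8 hnab
    refine ⟨(g : G), g.2, ?_, Or.inl ?_⟩
    · exact Cfsg.Agent.Lib.Helper11.MCF.two_dvd_index_centralizer P 3 hP g g.2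
        (by rw [Subgroup.orderOf_coe, hg]; norm_num) hnab
    · have hζ4 : IsPrimitiveRoot ζ 4 := by
        have e : (2 : ℕ) ^ (3 - 1) = 4 := by norm_num
        rw [e] at hζ
        exact hζ
      have hζ0 : ζ ≠ 0 := hζ4.ne_zero (by norm_num)
      have hζ2 : ζ ^ 2 ≠ 1 := hζ4.pow_ne_one_of_pos_of_lt (by norm_num) (by norm_num)
      have hζ44 : ζ ^ 4 = 1 := hζ4.pow_eq_one
      have h1 : (ζ ^ 2 - 1) * (ζ ^ 2 + 1) = 0 := by linear_combination hζ44
      have h2 : ζ ^ 2 + 1 = 0 := by
        rcases mul_eq_zero.mp h1 with h | h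
        · exact absurd (by linear_combination h) hζ2
        · exact h
      have hz : ζ + ζ⁻¹ = 0 := by
        field_simp
        linear_combination h2
      rw [hz, IntermediateField.adjoin_zero, eq_bot_iff, IntermediateField.adjoin_le_iff]
      rintro z ⟨χ, rfl⟩
      obtain ⟨q, hq⟩ := irr_apply_rat χ (g : G) (x : G)
        (by rw [Subgroup.orderOf_coe]; exact hg)
        (by exact_mod_cast congrArg Subtype.val hx)
      rw [SetLike.mem_coe, IntermediateField.mem_bot]
      exact ⟨q, by rw [hq]; rfl⟩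
  · rintro ⟨g, hgP, heven, -⟩
    show (commutator ↥(P : Subgroup G)).index = 4
    apply index_commutator_of_card_eight h8
    intro hab
    apply Cfsg.Agent.Lib.Helper11.MCF.not_two_dvd_index_centralizer P g ?_ heven
    intro y hy
    rw [Subgroup.mem_centralizer_iff]
    intro h hh
    rw [Set.mem_singleton_iff] at hh
    subst hh
    have := hab ⟨h, hgP⟩ ⟨y, hy⟩
    exact congrArg Subtype.val this

end Cfsg.Agent.Lib.Helper8.MCF
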