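/-
helper8: S4923 leaf (SMALL), group theory of the groups of order 8 (Mathlib only).
-/
import Mathlib

set_option autoImplicit false

namespace Cfsg.Agent.Lib.Helper8.MCF

universe u

variable {X : Type u} [Group X]

/-- the commutator subgroup of an abelian group has index the order of the group -/
theorem index_commutator_of_comm (h : ∀ a b : X, a * b = b * a) :
    (commutator X).index = Nat.card X := by
  have h1 : commutator X = ⊥ := by
    rw [commutator_eq_bot_iff_center_eq_top, Subgroup.eq_top_iff']
    intro z
    rw [Subgroup.mem_center_iff]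
    intro g
    exact h g z
  rw [h1, Subgroup.index_bot]

/-- a group with cyclic central quotient of order dividing `2` is abelian -/
theorem comm_of_index_center_dvd_two (h : (Subgroup.center X).index ∣ 2) :
    ∀ a b : X, a * b = b * a := by
  have hcyc : IsCyclic (X ⧸ Subgroup.center X) :=
    isCyclic_of_card_dvd_prime (p := 2) (by rw [← Subgroup.index_eq_card]; exact h)
  have hc : IsMulCommutative X :=
    MonoidHom.isMulCommutative_of_isCyclic_of_ker_le_center (QuotientGroup.mk' (Subgroup.center X))
      (by rw [QuotientGroup.ker_mk'])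
  exact hc.is_comm.comm

variable [Finite X]

/-- the centre of a nonabelian group of order `8` has order `2` -/
theorem card_center_of_card_eight (h8 : Nat.card X = 8) (hnab : ¬ ∀ a b : X, a * b = b * a) :
    Nat.card (Subgroup.center X) = 2 := by
  have hp : IsPGroup 2 X := IsPGroup.of_card (n := 3) (by rw [h8]; norm_num)
  have hZdvd : Nat.card (Subgroup.center X) ∣ 2 ^ 3 := by
    have := Subgroup.card_subgroup_dvd_card (Subgroup.center X)
    rw [h8] at this
    exact this
  have hnt : Nontrivial X := by
    apply Finite.one_lt_card_iff_nontrivial.mp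
    rw [h8]; norm_num
  have hZnt : Nontrivial (Subgroup.center X) := hp.center_nontrivial
  have hZ1 : 1 < Nat.card (Subgroup.center X) := Finite.one_lt_card_iff_nontrivial.mpr hZnt
  have hmul := Subgroup.card_mul_index (Subgroup.center X)
  rw [h8] at hmul
  obtain ⟨m, hm, hmeq⟩ := (Nat.dvd_prime_pow Nat.prime_two).mp hZdvd
  interval_cases m
  · rw [hmeq] at hZ1; omega
  · simpa using hmeq
  · exfalso
    apply hnab
    apply comm_of_index_center_dvd_two
    rw [hmeq] at hmul
    exact ⟨1, by omega⟩
  · exfalso
    apply hnab
    apply comm_of_index_center_dvd_two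
    rw [hmeq] at hmul
    have : (Subgroup.center X).index = 1 := by omega
    rw [this]
    exact one_dvd 2

/-- a nonabelian group of order `8` has commutator subgroup of index `4` -/
theorem index_commutator_of_card_eight (h8 : Nat.card X = 8)
    (hnab : ¬ ∀ a b : X, a * b = b * a) : (commutator X).index = 4 := by
  have hZ2 := card_center_of_card_eight h8 hnab
  have hmul := Subgroup.card_mul_index (Subgroup.center X)
  rw [h8, hZ2] at hmul
  have hq : Nat.card (X ⧸ Subgroup.center X) = 2 ^ 2 := by
    rw [← Subgroup.index_eq_card]; omega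
  have hcomm : IsMulCommutative (X ⧸ Subgroup.center X) :=
    IsPGroup.isMulCommutative_of_card_eq_prime_sq hq
  have hle : commutator X ≤ Subgroup.center X :=
    Subgroup.Normal.quotient_commutative_iff_commutator_le.mp hcomm
  have hne : commutator X ≠ ⊥ := by
    intro h
    rw [commutator_eq_bot_iff_center_eq_top] at h
    apply hnab
    intro a b
    have hb : b ∈ Subgroup.center X := h ▸ Subgroup.mem_top b
    exact Subgroup.mem_center_iff.mp hb a
  have hcdvd : Nat.card (commutator X) ∣ 2 := hZ2 ▸ Subgroup.card_dvd_of_le hle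
  have hc2 : Nat.card (commutator X) = 2 := by
    rcases (Nat.dvd_prime Nat.prime_two).mp hcdvd with h | h
    · exact absurd (Subgroup.card_eq_one.mp h) hne
    · exact h
  have hmul2 := Subgroup.card_mul_index (commutator X)
  rw [hc2, h8] at hmul2
  omega

/-- a nonabelian group of order `8` has an element of order `4` inverted by some element -/
theorem exists_order_four_inverted (h8 : Nat.card X = 8) (hnab : ¬ ∀ a b : X, a * b = b * a) :
    ∃ g x : X, orderOf g = 4 ∧ x * g * x⁻¹ = g⁻¹ := by
  classical
  have hord : ∀ y : X, orderOf y ∣ 2 ^ 3 := by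
    intro y
    have := orderOf_dvd_natCard y
    rw [h8] at this
    exact this
  have hno8 : ∀ y : X, orderOf y ≠ 8 := by
    intro y hy
    apply hnab
    have hcyc : IsCyclic X := isCyclic_of_orderOf_eq_card y (by rw [hy, h8])
    intro a b
    obtain ⟨c, hc⟩ := hcyc
    obtain ⟨i, rfl⟩ := Subgroup.mem_zpowers_iff.mp (hc a)
    obtain ⟨j, rfl⟩ := Subgroup.mem_zpowers_iff.mp (hc b)
    rw [← zpow_add, ← zpow_add, add_comm]
  have h4 : ∃ g : X, orderOf g = 4 := by
    by_contra hno
    push Not at hno
    apply hnab
    have h2 : ∀ y : X, y * y = 1 := by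
      intro y
      obtain ⟨m, hm, hmeq⟩ := (Nat.dvd_prime_pow Nat.prime_two).mp (hord y)
      interval_cases m
      · have : y = 1 := orderOf_eq_one_iff.mp (by simpa using hmeq)
        rw [this, one_mul]
      · have := pow_orderOf_eq_one y
        rw [hmeq] at this
        simpa [pow_two] using this
      · exact absurd (by simpa using hmeq) (hno y)
      · exact absurd (by simpa using hmeq) (hno8 y)
    intro a b
    have hab := h2 (a * b)
    have ha := h2 a
    have hb := h2 b
    calc a * b = a * (a * b * (a * b)) * b := by rw [hab, mul_one]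
      _ = a * a * (b * a) * (b * b) := by group
      _ = b * a := by rw [ha, hb, one_mul, mul_one]
  obtain ⟨g, hg⟩ := h4
  have hC : Nat.card (Subgroup.zpowers g) = 4 := by rw [Nat.card_zpowers, hg]
  have hidx : (Subgroup.zpowers g).index = 2 := by
    have := Subgroup.card_mul_index (Subgroup.zpowers g)
    rw [hC, h8] at this
    omega
  have hnorm : (Subgroup.zpowers g).Normal := Subgroup.normal_of_index_eq_two hidx
  have hx : ∃ x : X, x * g ≠ g * x := by
    by_contra hall
    push Not at hall
    apply hnab
    apply comm_of_index_center_dvd_two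
    have hgZ : Subgroup.zpowers g ≤ Subgroup.center X := by
      rw [Subgroup.zpowers_le]
      exact Subgroup.mem_center_iff.mpr (fun y => hall y)
    have h4Z : 4 ∣ Nat.card (Subgroup.center X) := hC ▸ Subgroup.card_dvd_of_le hgZ
    have hmul := Subgroup.card_mul_index (Subgroup.center X)
    rw [h8] at hmul
    obtain ⟨c, hc⟩ := h4Z
    rw [hc] at hmul
    exact ⟨c, by nlinarith⟩
  obtain ⟨x, hx⟩ := hx
  refine ⟨g, x, hg, ?_⟩
  have hmem : x * g * x⁻¹ ∈ Subgroup.zpowers g := hnorm.conj_mem g (Subgroup.mem_zpowers g) x
  have hmem2 : x * g * x⁻¹ ∈ Submonoid.powers g := mem_powers_iff_mem_zpowers.mpr hmem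
  rw [mem_powers_iff_mem_range_orderOf, hg] at hmem2
  obtain ⟨k, hk, hkeq⟩ := Finset.mem_image.mp hmem2
  have hk4 : k < 4 := Finset.mem_range.mp hk
  have hordc : orderOf (x * g * x⁻¹) = 4 := by
    have : x * g * x⁻¹ = MulAut.conj x g := by simp
    rw [this, MulEquiv.orderOf_eq, hg]
  have hg4 : g ^ 4 = 1 := by rw [← hg]; exact pow_orderOf_eq_one g
  interval_cases k
  · exfalso
    rw [pow_zero] at hkeq
    rw [← hkeq, orderOf_one] at hordc
    omega
  · exfalso
    rw [pow_one] at hkeq
    apply hx
    calc x * g = x * g * x⁻¹ * x := by group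
      _ = g * x := by rw [← hkeq]
  · exfalso
    have h2 : (x * g * x⁻¹) ^ 2 = 1 := by
      rw [← hkeq, ← pow_mul]; exact hg4
    have := orderOf_dvd_of_pow_eq_one h2
    rw [hordc] at this
    omega
  · rw [← hkeq]
    apply eq_inv_of_mul_eq_one_left
    rw [← pow_succ]; exact hg4

end Cfsg.Agent.Lib.Helper8.MCF
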