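import Mathlib

set_option autoImplicit false

/-!
# Distinguishing sets in primitive permutation groups (Babai-type bound)

For a group `G` acting on a finite set `Ω`, a point `z` *separates* `x` and `y` if no element of `G`
maps `x` to `y` and fixes `z`.  For a primitive, not doubly transitive action we prove that every
pair `x ≠ y` is separated by at least `√n / 2` points: `card Ω ≤ 4 * (dd x y)^2`.
-/

namespace Cfsg.Agent.Lib.Helper8.MinDeg

open MulAction

section Basic

variable (G : Type*) [Group G] {Ω : Type*} [MulAction G Ω]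

/-- `z` separates `x` and `y`: no group element maps `x` to `y` while fixing `z`. -/
def Sep (x y z : Ω) : Prop := ¬ ∃ h : G, h • x = y ∧ h • z = z

variable {G}

lemma not_sep_refl (x z : Ω) : ¬ Sep G x x z := by
  intro h; exact h ⟨1, one_smul _ _, one_smul _ _⟩

lemma not_sep_of_smul {x z : Ω} (k : G) (hz : k • z = z) : ¬ Sep G x (k • x) z := by
  intro h; exact h ⟨k, rfl, hz⟩

lemma sep_self_left {x y : Ω} (hxy : x ≠ y) : Sep G x y x := by
  rintro ⟨h, h1, h2⟩; exact hxy (h2.symm.trans h1)

lemma sep_symm {x y z : Ω} : Sep G x y z ↔ Sep G y x z := by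
  unfold Sep
  constructor
  · rintro h ⟨k, h1, h2⟩
    exact h ⟨k⁻¹, by rw [← h1, inv_smul_smul], by rw [inv_smul_eq_iff, h2]⟩
  · rintro h ⟨k, h1, h2⟩
    exact h ⟨k⁻¹, by rw [← h1, inv_smul_smul], by rw [inv_smul_eq_iff, h2]⟩

lemma not_sep_trans {x y w z : Ω} (h1 : ¬ Sep G x y z) (h2 : ¬ Sep G y w z) : ¬ Sep G x w z := by
  unfold Sep at *
  push Not at *
  obtain ⟨k1, a1, b1⟩ := h1
  obtain ⟨k2, a2, b2⟩ := h2
  exact ⟨k2 * k1, by rw [mul_smul, a1, a2], by rw [mul_smul, b1, b2]⟩

lemma sep_smul_iff (k : G) {x y z : Ω} : Sep G (k • x) (k • y) (k • z) ↔ Sep G x y z := by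
  unfold Sep
  constructor
  · rintro h ⟨j, h1, h2⟩
    refine h ⟨k * j * k⁻¹, ?_, ?_⟩
    · rw [mul_smul, mul_smul, inv_smul_smul, h1]
    · rw [mul_smul, mul_smul, inv_smul_smul, h2]
  · rintro h ⟨j, h1, h2⟩
    refine h ⟨k⁻¹ * j * k, ?_, ?_⟩
    · rw [mul_smul, mul_smul, h1, inv_smul_smul]
    · rw [mul_smul, mul_smul, h2, inv_smul_smul]

/-- Invariance of `Sep x · a` under the stabilizer of `a`. -/
lemma sep_smul_of_stab {x w a : Ω} (j : G) (hj : j • a = a) : Sep G x (j • w) a ↔ Sep G x w a := by
  unfold Sep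
  constructor
  · rintro h ⟨k, h1, h2⟩
    exact h ⟨j * k, by rw [mul_smul, h1], by rw [mul_smul, h2, hj]⟩
  · rintro h ⟨k, h1, h2⟩
    refine h ⟨j⁻¹ * k, by rw [mul_smul, h1, inv_smul_smul], ?_⟩
    rw [mul_smul, h2, inv_smul_eq_iff, hj]

end Basic

section Coatom

variable {G : Type*} [Group G] {Ω : Type*} [MulAction G Ω]

/-- A multiplicatively closed predicate on a finite group containing a point stabilizer of a
primitive action and something outside it holds everywhere. -/
lemma forall_of_mul_closed [Finite G] [IsPreprimitive G Ω] [Nontrivial Ω] (x : Ω) (P : G → Prop)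
    (hstab : ∀ k : G, k • x = x → P k) (hmul : ∀ k1 k2, P k1 → P k2 → P (k1 * k2))
    (k0 : G) (hk0 : P k0) (hk0x : k0 • x ≠ x) : ∀ k, P k := by
  let H : Subgroup G :=
    { carrier := {k | P k}
      one_mem' := hstab 1 (one_smul _ _)
      mul_mem' := fun {a b} ha hb => hmul a b ha hb
      inv_mem' := by
        intro k hk
        have hpow : ∀ n : ℕ, P (k ^ n) := by
          intro n
          induction n with
          | zero => simpa using hstab 1 (one_smul _ _)
          | succ n ih => rw [pow_succ]; exact hmul _ _ ih hk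
        have hpos : 0 < orderOf k := orderOf_pos k
        have : k⁻¹ = k ^ (orderOf k - 1) := by
          apply inv_eq_of_mul_eq_one_right
          rw [← pow_succ', Nat.sub_add_cancel hpos, pow_orderOf_eq_one]
        show P k⁻¹
        rw [this]; exact hpow _ }
  have hco : IsCoatom (stabilizer G x) := IsPreprimitive.isCoatom_stabilizer_of_isPreprimitive G x
  have hle : stabilizer G x ≤ H := fun k hk => hstab k (mem_stabilizer_iff.mp hk)
  have hlt : stabilizer G x < H := by
    refine lt_of_le_of_ne hle ?_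
    intro heq
    have : k0 ∈ stabilizer G x := by rw [heq]; exact hk0
    exact hk0x (mem_stabilizer_iff.mp this)
  have htop : H = ⊤ := hco.2 H hlt
  intro k
  have : k ∈ H := by rw [htop]; exact Subgroup.mem_top k
  exact this

end Coatom

end Cfsg.Agent.Lib.Helper8.MinDeg
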