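import Cfsg.Agent.Lib.Helper8.MinDegA

set_option autoImplicit false

namespace Cfsg.Agent.Lib.Helper8.MinDeg

open MulAction Classical

variable (G : Type*) [Group G] {Ω : Type*} [MulAction G Ω] [Fintype Ω]

/-- The set of points separating `x` and `y`. -/
noncomputable def dset (x y : Ω) : Finset Ω := Finset.univ.filter (fun z => Sep G x y z)

/-- The number of points separating `x` and `y`. -/
noncomputable def dd (x y : Ω) : ℕ := (dset G x y).card

/-- Out-neighbours of `u` in the orbital graph of `(x, y)`. -/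
noncomputable def nb (x y u : Ω) : Finset Ω :=
  Finset.univ.filter (fun z => ∃ h : G, h • x = u ∧ h • y = z)

variable {G}

lemma mem_dset {x y z : Ω} : z ∈ dset G x y ↔ Sep G x y z := by simp [dset]

lemma mem_nb {x y u z : Ω} : z ∈ nb G x y u ↔ ∃ h : G, h • x = u ∧ h • y = z := by simp [nb]

lemma dset_smul (k : G) (x y : Ω) :
    dset G (k • x) (k • y) = (dset G x y).image (fun z => k • z) := by
  ext z
  simp only [mem_dset, Finset.mem_image]
  constructor
  · intro h
    refine ⟨k⁻¹ • z, ?_, smul_inv_smul k z⟩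
    rw [← sep_smul_iff k, smul_inv_smul]; exact h
  · rintro ⟨w, hw, rfl⟩
    exact (sep_smul_iff k).mpr hw

lemma dd_smul (k : G) (x y : Ω) : dd G (k • x) (k • y) = dd G x y := by
  unfold dd
  rw [dset_smul, Finset.card_image_of_injective _ (MulAction.injective k)]

lemma dd_symm (x y : Ω) : dd G x y = dd G y x := by
  unfold dd
  congr 1
  ext z
  simp only [mem_dset]
  exact sep_symm

lemma dd_self (x : Ω) : dd G x x = 0 := by
  unfold dd
  rw [Finset.card_eq_zero]
  ext z
  simp only [mem_dset, Finset.notMem_empty, iff_false]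
  exact not_sep_refl x z

lemma dd_triangle (x y w : Ω) : dd G x w ≤ dd G x y + dd G y w := by
  unfold dd
  refine le_trans (Finset.card_le_card ?_) (Finset.card_union_le _ _)
  intro z hz
  rw [Finset.mem_union, mem_dset, mem_dset]
  rw [mem_dset] at hz
  by_contra hcon
  push Not at hcon
  exact not_sep_trans hcon.1 hcon.2 hz

lemma dd_pos {x y : Ω} (hxy : x ≠ y) : 0 < dd G x y := by
  unfold dd
  rw [Finset.card_pos]
  exact ⟨x, mem_dset.mpr (sep_self_left hxy)⟩

/-- The support of `k` contains the separating set of `x` and `k • x`. -/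
lemma dd_le_card_support (k : G) (x : Ω) :
    dd G x (k • x) ≤ (Finset.univ.filter (fun z : Ω => k • z ≠ z)).card := by
  unfold dd
  apply Finset.card_le_card
  intro z hz
  rw [mem_dset] at hz
  rw [Finset.mem_filter]
  refine ⟨Finset.mem_univ _, ?_⟩
  intro hfix
  exact not_sep_of_smul k hfix hz

lemma nb_smul (k : G) (x y u : Ω) :
    nb G x y (k • u) = (nb G x y u).image (fun z => k • z) := by
  ext z
  simp only [mem_nb, Finset.mem_image]
  constructor
  · rintro ⟨h, h1, h2⟩
    refine ⟨k⁻¹ • z, ⟨k⁻¹ * h, ?_, ?_⟩, smul_inv_smul k z⟩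
    · rw [mul_smul, h1, inv_smul_smul]
    · rw [mul_smul, h2]
  · rintro ⟨w, ⟨h, h1, h2⟩, rfl⟩
    exact ⟨k * h, by rw [mul_smul, h1], by rw [mul_smul, h2]⟩

lemma card_nb_smul (k : G) (x y u : Ω) : (nb G x y (k • u)).card = (nb G x y u).card := by
  rw [nb_smul, Finset.card_image_of_injective _ (MulAction.injective k)]

lemma card_nb [IsPretransitive G Ω] (x y u : Ω) : (nb G x y u).card = (nb G x y x).card := by
  obtain ⟨k, rfl⟩ := exists_smul_eq G x u
  exact card_nb_smul k x y x

lemma mem_nb_self (x y : Ω) : y ∈ nb G x y x := mem_nb.mpr ⟨1, one_smul _ _, one_smul _ _⟩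

lemma dd_of_mem_nb {x y u z : Ω} (hz : z ∈ nb G x y u) : dd G u z = dd G x y := by
  obtain ⟨h, rfl, rfl⟩ := mem_nb.mp hz
  exact dd_smul h x y

lemma nb_sdiff_subset (x y u w : Ω) : nb G x y u \ nb G x y w ⊆ dset G u w := by
  intro z hz
  rw [Finset.mem_sdiff, mem_nb, mem_nb] at hz
  obtain ⟨⟨h1, a1, b1⟩, hn⟩ := hz
  rw [mem_dset]
  rintro ⟨k, c1, c2⟩
  exact hn ⟨k * h1, by rw [mul_smul, a1, c1], by rw [mul_smul, b1, c2]⟩

lemma card_nb_sdiff_le (x y u w : Ω) : (nb G x y u \ nb G x y w).card ≤ dd G u w :=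
  Finset.card_le_card (nb_sdiff_subset x y u w)

/-! ### Step 1: every point separates `x` from some out-neighbour -/

lemma exists_sep_of_prim [Finite G] [IsPreprimitive G Ω] [Nontrivial Ω] {x y : Ω} (hxy : x ≠ y)
    (z : Ω) : ∃ y' ∈ nb G x y x, Sep G x y' z := by
  by_contra hcon
  push Not at hcon
  -- `hcon : ∀ y' ∈ nb x y x, ¬ Sep x y' z`
  let step : Ω → Ω → Prop := fun u w => ∃ h : G, h • x = u ∧ h • y = w
  have hstep_smul : ∀ (k : G) (u w : Ω), step u w → step (k • u) (k • w) := by
    rintro k u w ⟨h, h1, h2⟩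
    exact ⟨k * h, by rw [mul_smul, h1], by rw [mul_smul, h2]⟩
  have hall : ∀ k : G, Relation.ReflTransGen step x (k • x) := by
    obtain ⟨k0, hk0⟩ := exists_smul_eq G x y
    refine forall_of_mul_closed x (fun k => Relation.ReflTransGen step x (k • x)) ?_ ?_ k0 ?_ ?_
    · intro k hk; rw [hk]
    · intro k1 k2 h1 h2
      have hgen : ∀ v, Relation.ReflTransGen step x v →
          Relation.ReflTransGen step (k1 • x) (k1 • v) := by
        intro v hv
        induction hv with
        | refl => exact Relation.ReflTransGen.refl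
        | tail _ hbc ih => exact ih.tail (hstep_smul k1 _ _ hbc)
      have h3 : Relation.ReflTransGen step (k1 • x) (k1 • k2 • x) := hgen _ h2
      rw [mul_smul]
      exact h1.trans h3
    · rw [hk0]
      exact Relation.ReflTransGen.single ⟨1, one_smul _ _, one_smul _ _⟩
    · rw [hk0]; exact fun h => hxy h.symm
  -- the set `O = {u | ¬ Sep x u z}` is closed under steps
  have hO : ∀ u, Relation.ReflTransGen step x u → ¬ Sep G x u z := by
    intro u hu
    induction hu with
    | refl => exact not_sep_refl x z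
    | tail _ hbc ih =>
      rename_i b c
      -- `ih : ¬ Sep x b z`, `hbc : step b c`
      unfold Sep at ih
      push Not at ih
      obtain ⟨k, hk1, hk2⟩ := ih
      obtain ⟨h, hh1, hh2⟩ := hbc
      -- y' = k⁻¹ h y
      have hy' : (k⁻¹ * h) • y ∈ nb G x y x := by
        rw [mem_nb]
        exact ⟨k⁻¹ * h, by rw [mul_smul, hh1, ← hk1, inv_smul_smul], rfl⟩
      have := hcon _ hy'
      unfold Sep at this
      push Not at this
      obtain ⟨j, hj1, hj2⟩ := this
      unfold Sep
      push Not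
      refine ⟨k * j, ?_, ?_⟩
      · rw [mul_smul, hj1, mul_smul, smul_inv_smul, hh2]
      · rw [mul_smul, hj2, hk2]
  obtain ⟨k, hk⟩ := exists_smul_eq G x z
  have h1 := hO z (hk ▸ hall k)
  unfold Sep at h1
  push Not at h1
  obtain ⟨j, hj1, hj2⟩ := h1
  have hxz : x = z := MulAction.injective j (hj1.trans hj2.symm)
  subst hxz
  exact hcon y (mem_nb_self x y) (sep_self_left hxy)

lemma card_le_mul [Finite G] [IsPreprimitive G Ω] [Nontrivial Ω] {x y : Ω} (hxy : x ≠ y) :
    Fintype.card Ω ≤ (nb G x y x).card * dd G x y := by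
  have hsub : (Finset.univ : Finset Ω) ⊆ (nb G x y x).biUnion (fun y' => dset G x y') := by
    intro z _
    obtain ⟨y', hy', hs⟩ := exists_sep_of_prim (G := G) hxy z
    exact Finset.mem_biUnion.mpr ⟨y', hy', mem_dset.mpr hs⟩
  calc Fintype.card Ω = (Finset.univ : Finset Ω).card := Finset.card_univ.symm
    _ ≤ ((nb G x y x).biUnion (fun y' => dset G x y')).card := Finset.card_le_card hsub
    _ ≤ ∑ y' ∈ nb G x y x, (dset G x y').card := Finset.card_biUnion_le
    _ = ∑ _y' ∈ nb G x y x, dd G x y := by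
        apply Finset.sum_congr rfl
        intro y' hy'
        exact dd_of_mem_nb hy'
    _ = (nb G x y x).card * dd G x y := by rw [Finset.sum_const, smul_eq_mul]

/-! ### Step 3: all pairs are separated by at most `2m` points -/

lemma dd_le_two_mul [Finite G] [IsPreprimitive G Ω] [Nontrivial Ω] {x y : Ω} (hxy : x ≠ y)
    (h4 : 4 * (dd G x y) ^ 2 < Fintype.card Ω) : ∀ u w : Ω, dd G u w ≤ 2 * dd G x y := by
  set m := dd G x y with hm
  set N := (nb G x y x).card with hN
  have hmpos : 0 < m := dd_pos hxy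
  have hNm : Fintype.card Ω ≤ N * m := card_le_mul hxy
  have h4m : 4 * m < N := by
    by_contra hcon
    push Not at hcon
    have : N * m ≤ 4 * m * m := Nat.mul_le_mul_right m hcon
    nlinarith
  let rel : Ω → Ω → Prop := fun u w => (nb G x y u ∩ nb G x y w).Nonempty
  have hrel_dd : ∀ u w, rel u w → dd G u w ≤ 2 * m := by
    rintro u w ⟨z, hz⟩
    rw [Finset.mem_inter] at hz
    have h1 : dd G u z = m := dd_of_mem_nb hz.1
    have h2 : dd G w z = m := dd_of_mem_nb hz.2
    have := dd_triangle (G := G) u z w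
    rw [dd_symm z w] at this
    omega
  have hrel_smul : ∀ (k : G) u w, rel u w → rel (k • u) (k • w) := by
    rintro k u w ⟨z, hz⟩
    rw [Finset.mem_inter] at hz
    refine ⟨k • z, ?_⟩
    rw [Finset.mem_inter, nb_smul, nb_smul]
    exact ⟨Finset.mem_image_of_mem _ hz.1, Finset.mem_image_of_mem _ hz.2⟩
  have hrel_symm : ∀ u w, rel u w → rel w u := by
    rintro u w ⟨z, hz⟩
    exact ⟨z, by rw [Finset.inter_comm]; exact hz⟩
  have hrel_of_small : ∀ u w, dd G u w ≤ 4 * m → rel u w := by
    intro u w hd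
    by_contra hcon
    rw [Finset.not_nonempty_iff_eq_empty] at hcon
    have h1 : (nb G x y u \ nb G x y w).card ≤ dd G u w := card_nb_sdiff_le x y u w
    have h2 : nb G x y u \ nb G x y w = nb G x y u := by
      rw [Finset.sdiff_eq_self_iff_disjoint, Finset.disjoint_iff_inter_eq_empty]; exact hcon
    rw [h2, card_nb x y u] at h1
    omega
  have hrel_trans : ∀ u w v, rel u w → rel w v → rel u v := by
    intro u w v h1 h2
    apply hrel_of_small
    have := dd_triangle (G := G) u w v
    have a1 := hrel_dd u w h1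
    have a2 := hrel_dd w v h2
    omega
  have hall : ∀ k : G, rel x (k • x) := by
    obtain ⟨k0, hk0⟩ := exists_smul_eq G x y
    refine forall_of_mul_closed x (fun k => rel x (k • x)) ?_ ?_ k0 ?_ ?_
    · intro k hk; rw [hk]; exact ⟨y, by rw [Finset.inter_self]; exact mem_nb_self x y⟩
    · intro k1 k2 h1 h2
      rw [mul_smul]
      exact hrel_trans _ _ _ h1 (hrel_smul k1 _ _ h2)
    · rw [hk0]; apply hrel_of_small; omega
    · rw [hk0]; exact fun h => hxy h.symm
  intro u w
  obtain ⟨k, rfl⟩ := exists_smul_eq G x u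
  have : dd G (k • x) w = dd G x (k⁻¹ • w) := by
    rw [← dd_smul k x (k⁻¹ • w), smul_inv_smul]
  rw [this]
  obtain ⟨j, hj⟩ := exists_smul_eq G x (k⁻¹ • w)
  rw [← hj]
  exact hrel_dd _ _ (hall j)

end Cfsg.Agent.Lib.Helper8.MinDeg
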