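import Cfsg.Agent.Lib.Helper8.MinDegB

set_option autoImplicit false

namespace Cfsg.Agent.Lib.Helper8.MinDeg

open MulAction Classical

variable {G : Type*} [Group G] {Ω : Type*} [MulAction G Ω] [Fintype Ω]

/-! ### Step 4: a large suborbit -/

lemma exists_big_suborbit [Nontrivial Ω] (x : Ω) (m : ℕ)
    (hall : ∀ w : Ω, dd G x w ≤ 2 * m) :
    ∃ a : Ω, a ≠ x ∧ (Finset.univ.filter (fun w : Ω => Sep G x w a)).card ≤ 2 * m - 1 := by
  by_contra hcon
  push Not at hcon
  -- double counting
  have hswap : ∑ w : Ω, dd G x w = ∑ z : Ω, (Finset.univ.filter (fun w : Ω => Sep G x w z)).card := by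
    unfold dd dset
    simp_rw [Finset.card_filter]
    exact Finset.sum_comm
  have hx : (Finset.univ.filter (fun w : Ω => Sep G x w x)).card = Fintype.card Ω - 1 := by
    have : Finset.univ.filter (fun w : Ω => Sep G x w x) = Finset.univ.erase x := by
      ext w
      simp only [Finset.mem_filter, Finset.mem_univ, true_and, Finset.mem_erase, and_true]
      constructor
      · intro h hwx
        subst hwx
        exact not_sep_refl w w h
      · intro h
        exact sep_self_left (Ne.symm h)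
    rw [this, Finset.card_erase_of_mem (Finset.mem_univ x), Finset.card_univ]
  have hn : 2 ≤ Fintype.card Ω := Fintype.one_lt_card
  -- lower bound of RHS
  have hR : (Fintype.card Ω - 1) + (Fintype.card Ω - 1) * (2 * m) ≤
      ∑ z : Ω, (Finset.univ.filter (fun w : Ω => Sep G x w z)).card := by
    rw [← Finset.add_sum_erase Finset.univ _ (Finset.mem_univ x), hx]
    apply Nat.add_le_add_left
    have : (Fintype.card Ω - 1) * (2 * m) = ∑ _z ∈ Finset.univ.erase x, 2 * m := by
      rw [Finset.sum_const, smul_eq_mul, Finset.card_erase_of_mem (Finset.mem_univ x),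
        Finset.card_univ]
    rw [this]
    apply Finset.sum_le_sum
    intro z hz
    have hzx : z ≠ x := Finset.ne_of_mem_erase hz
    have := hcon z hzx
    omega
  -- upper bound of LHS
  have hL : ∑ w : Ω, dd G x w ≤ (Fintype.card Ω - 1) * (2 * m) := by
    rw [← Finset.add_sum_erase Finset.univ _ (Finset.mem_univ x), dd_self, zero_add]
    have : (Fintype.card Ω - 1) * (2 * m) = ∑ _z ∈ Finset.univ.erase x, 2 * m := by
      rw [Finset.sum_const, smul_eq_mul, Finset.card_erase_of_mem (Finset.mem_univ x),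
        Finset.card_univ]
    rw [this]
    apply Finset.sum_le_sum
    intro w _
    exact hall w
  rw [hswap] at hL
  omega

/-! ### Step 5: the complement of a suborbit generates everything in two steps -/

lemma card_le_sq_of_suborbit [Finite G] [IsPreprimitive G Ω] [Nontrivial Ω] {x a : Ω} (hax : a ≠ x)
    (hw : ∃ w : Ω, w ≠ a ∧ Sep G x w a) :
    Fintype.card Ω ≤ (Finset.univ.filter (fun w : Ω => Sep G x w a)).card ^ 2 := by
  set Z : Finset Ω := Finset.univ.filter (fun w : Ω => Sep G x w a) with hZ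
  have memZ : ∀ w, w ∈ Z ↔ Sep G x w a := by intro w; simp [hZ]
  have haZ : a ∈ Z := by
    rw [memZ]
    rintro ⟨h, h1, h2⟩
    exact hax (MulAction.injective h (h2.trans h1.symm))
  let ZZ : G → Finset Ω := fun k => Z.image (fun w => k • w)
  have hZZcard : ∀ k, (ZZ k).card = Z.card := fun k =>
    Finset.card_image_of_injective _ (MulAction.injective k)
  have hstabZ : ∀ j : G, j • a = a → ∀ w, j • w ∈ Z ↔ w ∈ Z := by
    intro j hj w
    rw [memZ, memZ]
    exact sep_smul_of_stab j hj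
  have hZZstab : ∀ j : G, j • a = a → ZZ j = Z := by
    intro j hj
    ext w
    simp only [ZZ, Finset.mem_image]
    constructor
    · rintro ⟨v, hv, rfl⟩
      exact (hstabZ j hj v).mpr hv
    · intro hw
      refine ⟨j⁻¹ • w, ?_, smul_inv_smul j w⟩
      have hj' : j⁻¹ • a = a := by rw [inv_smul_eq_iff, hj]
      exact (hstabZ j⁻¹ hj' w).mpr hw
  have hZZmul : ∀ k j : G, ZZ (k * j) = (ZZ j).image (fun w => k • w) := by
    intro k j
    simp only [ZZ, Finset.image_image]
    apply Finset.image_congr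
    intro w _
    simp [mul_smul]
  have hZZeq : ∀ k k' : G, k • a = k' • a → ZZ k = ZZ k' := by
    intro k k' h
    have hj : (k⁻¹ * k') • a = a := by rw [mul_smul, ← h, inv_smul_smul]
    have : k' = k * (k⁻¹ * k') := by group
    rw [this, hZZmul, hZZstab _ hj]
  -- there is `k1` with `k1 • a ∈ Z` and `ZZ k1 ≠ Z`
  have hex : ∃ k1 : G, k1 • a ∈ Z ∧ ZZ k1 ≠ Z := by
    by_contra hcon
    push Not at hcon
    obtain ⟨w, hwa, hwS⟩ := hw
    obtain ⟨k0, hk0⟩ := exists_smul_eq G a w
    have hall : ∀ k : G, k • a ∈ Z := by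
      refine forall_of_mul_closed a (fun k => k • a ∈ Z) ?_ ?_ k0 ?_ ?_
      · intro k hk; rw [hk]; exact haZ
      · intro k1 k2 h1 h2
        have : (k1 * k2) • a ∈ ZZ k1 := by
          rw [mul_smul]
          exact Finset.mem_image_of_mem _ h2
        rw [hcon k1 h1] at this
        exact this
      · rw [hk0, memZ]; exact hwS
      · rw [hk0]; exact hwa
    obtain ⟨k, hk⟩ := exists_smul_eq G a x
    have := hall k
    rw [hk, memZ] at this
    exact not_sep_refl x a this
  obtain ⟨k1, hk1Z, hk1ne⟩ := hex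
  -- a point `w1 ∈ ZZ k1` outside `Z`
  have hw1 : ∃ w1 ∈ ZZ k1, w1 ∉ Z := by
    by_contra hcon
    push Not at hcon
    exact hk1ne (Finset.eq_of_subset_of_card_le hcon (by rw [hZZcard]))
  obtain ⟨w1, hw1ZZ, hw1Z⟩ := hw1
  -- covering
  have hcover : ∀ w : Ω, ∃ k : G, k • a ∈ Z ∧ w ∈ ZZ k := by
    intro w
    by_cases hwZ : w ∈ Z
    · refine ⟨1, by rw [one_smul]; exact haZ, ?_⟩
      rw [hZZstab 1 (one_smul _ _)]; exact hwZ
    · rw [memZ] at hwZ hw1Z
      unfold Sep at hwZ hw1Z
      push Not at hwZ hw1Z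
      obtain ⟨h, hh1, hh2⟩ := hwZ
      obtain ⟨h1, h11, h12⟩ := hw1Z
      have hj : (h * h1⁻¹) • a = a := by
        rw [mul_smul, inv_smul_eq_iff.mpr h12.symm, hh2]
      have hjw : (h * h1⁻¹) • w1 = w := by
        rw [mul_smul, ← h11, inv_smul_smul, hh1]
      refine ⟨h * h1⁻¹ * k1, ?_, ?_⟩
      · rw [mul_smul]
        exact (hstabZ _ hj _).mpr hk1Z
      · rw [hZZmul, ← hjw]
        exact Finset.mem_image_of_mem _ hw1ZZ
  -- choose representatives
  have hrep : ∀ t : Ω, ∃ k : G, k • a = t := fun t => exists_smul_eq G a t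
  choose kk hkk using hrep
  have hsub : (Finset.univ : Finset Ω) ⊆ Z.biUnion (fun t => ZZ (kk t)) := by
    intro w _
    obtain ⟨k, hkZ, hwk⟩ := hcover w
    refine Finset.mem_biUnion.mpr ⟨k • a, hkZ, ?_⟩
    rw [hZZeq (kk (k • a)) k (hkk _)]
    exact hwk
  calc Fintype.card Ω = (Finset.univ : Finset Ω).card := Finset.card_univ.symm
    _ ≤ (Z.biUnion (fun t => ZZ (kk t))).card := Finset.card_le_card hsub
    _ ≤ ∑ t ∈ Z, (ZZ (kk t)).card := Finset.card_biUnion_le
    _ = ∑ _t ∈ Z, Z.card := Finset.sum_congr rfl (fun t _ => hZZcard _)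
    _ = Z.card ^ 2 := by rw [Finset.sum_const, smul_eq_mul, sq]

/-! ### Assembly: the uniprimitive bound -/

/-- In a primitive action which is not doubly transitive, any two distinct points are separated by
at least `√n / 2` points. -/
theorem card_le_four_mul_sq [Finite G] [IsPreprimitive G Ω] [Nontrivial Ω]
    (hnot2 : ¬ ∀ a x w : Ω, x ≠ a → w ≠ a → ∃ k : G, k • a = a ∧ k • x = w)
    {x y : Ω} (hxy : x ≠ y) : Fintype.card Ω ≤ 4 * (dd G x y) ^ 2 := by
  by_contra hcon
  push Not at hcon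
  set m := dd G x y with hm
  have hmpos : 0 < m := dd_pos hxy
  have hall := dd_le_two_mul hxy hcon
  obtain ⟨a, hax, hcard⟩ := exists_big_suborbit (G := G) x m (fun w => hall x w)
  have hw : ∃ w : Ω, w ≠ a ∧ Sep G x w a := by
    by_contra hno
    push Not at hno
    apply hnot2
    intro a0 x0 w0 hx0 hw0
    obtain ⟨k, hk⟩ := exists_smul_eq G a a0
    have h1 : k⁻¹ • x0 ≠ a := by
      intro h; apply hx0; rw [← hk, ← h, smul_inv_smul]
    have h2 : k⁻¹ • w0 ≠ a := by
      intro h; apply hw0; rw [← hk, ← h, smul_inv_smul]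
    have s1 := hno _ h1
    have s2 := hno _ h2
    unfold Sep at s1 s2
    push Not at s1 s2
    obtain ⟨j1, a1, b1⟩ := s1
    obtain ⟨j2, a2, b2⟩ := s2
    refine ⟨k * j2 * j1⁻¹ * k⁻¹, ?_, ?_⟩
    · rw [mul_smul, mul_smul, mul_smul, ← hk, inv_smul_smul, inv_smul_eq_iff.mpr b1.symm, b2]
    · rw [mul_smul, mul_smul, mul_smul, ← a1, inv_smul_smul, a2, smul_inv_smul]
  have h5 := card_le_sq_of_suborbit (G := G) hax hw
  have : (Finset.univ.filter (fun w : Ω => Sep G x w a)).card ^ 2 ≤ (2 * m - 1) ^ 2 :=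
    Nat.pow_le_pow_left hcard 2
  have h6 : (2 * m - 1) ^ 2 < 4 * m ^ 2 := by
    have key : ∀ m' : ℕ, (2 * (m' + 1) - 1) ^ 2 < 4 * (m' + 1) ^ 2 := by
      intro m'
      have : 2 * (m' + 1) - 1 = 2 * m' + 1 := by omega
      rw [this]; ring_nf; omega
    obtain ⟨m', hm'⟩ : ∃ m', m = m' + 1 := ⟨m - 1, by omega⟩
    rw [hm']; exact key m'
  omega

end Cfsg.Agent.Lib.Helper8.MinDeg
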