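import Mathlib

set_option autoImplicit false

namespace Cfsg.Agent.Lib.Helper8.MinDeg

open MulAction Classical Equiv

/-! ### The commutator of two permutations whose supports meet in one point is a 3-cycle -/

lemma papply_inv_self {α : Type*} (σ : Perm α) (z : α) : σ (σ⁻¹ z) = z := by simp

lemma pinv_apply_self {α : Type*} (σ : Perm α) (z : α) : σ⁻¹ (σ z) = z := by simp

lemma isThreeCycle_of_support_inter {α : Type*} [Fintype α] [DecidableEq α] (σ τ : Perm α) (p : α)
    (hp : ∀ z, (σ z ≠ z ∧ τ z ≠ z) ↔ z = p) :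
    (σ⁻¹ * τ⁻¹ * σ * τ).IsThreeCycle := by
  have hσp : σ p ≠ p := ((hp p).mpr rfl).1
  have hτp : τ p ≠ p := ((hp p).mpr rfl).2
  -- basic facts: a point moved by σ other than p is fixed by τ, and vice versa
  have hστ : ∀ z, σ z ≠ z → z ≠ p → τ z = z := by
    intro z hz hzp
    by_contra h
    exact hzp ((hp z).mp ⟨hz, h⟩)
  have hτσ : ∀ z, τ z ≠ z → z ≠ p → σ z = z := by
    intro z hz hzp
    by_contra h
    exact hzp ((hp z).mp ⟨h, hz⟩)
  have hσmove : ∀ z, σ z ≠ z → σ (σ z) ≠ σ z := fun z hz h => hz (σ.injective h)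
  have hτmove : ∀ z, τ z ≠ z → τ (τ z) ≠ τ z := fun z hz h => hz (τ.injective h)
  have hσinv : ∀ z, σ z ≠ z → σ⁻¹ z ≠ z := by
    intro z hz h
    apply hz
    have := congrArg σ h
    rw [papply_inv_self] at this
    exact this.symm
  have hτinv : ∀ z, τ z ≠ z → τ⁻¹ z ≠ z := by
    intro z hz h
    apply hz
    have := congrArg τ h
    rw [papply_inv_self] at this
    exact this.symm
  have hσinv_fix : ∀ z, σ z = z → σ⁻¹ z = z := by
    intro z hz; rw [Perm.inv_eq_iff_eq]; exact hz.symm
  have hτinv_fix : ∀ z, τ z = z → τ⁻¹ z = z := by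
    intro z hz; rw [Perm.inv_eq_iff_eq]; exact hz.symm
  set c : Perm α := σ⁻¹ * τ⁻¹ * σ * τ with hc
  have capply : ∀ z, c z = σ⁻¹ (τ⁻¹ (σ (τ z))) := by intro z; simp [hc, Perm.mul_apply]
  -- the three points
  set a := σ⁻¹ p with ha
  set b := τ⁻¹ p with hb
  have hap : a ≠ p := hσinv p hσp
  have hbp : b ≠ p := hτinv p hτp
  have hσa : σ a = p := by rw [ha, papply_inv_self]
  have hτb : τ b = p := by rw [hb, papply_inv_self]
  have hσa' : σ a ≠ a := by rw [hσa]; exact fun h => hap h.symm
  have hτb' : τ b ≠ b := by rw [hτb]; exact fun h => hbp h.symm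
  have hτa : τ a = a := hστ a hσa' hap
  have hσb : σ b = b := hτσ b hτb' hbp
  have hab : a ≠ b := by
    intro h
    rw [h] at hσa'
    exact hσa' hσb
  -- values of c
  have hcp : c p = a := by
    rw [capply]
    have h1 : σ (τ p) = τ p := hτσ (τ p) (hτmove p hτp) hτp
    rw [h1, pinv_apply_self]
  have hcb : c b = p := by
    rw [capply, hτb]
    have h1 : τ (σ p) = σ p := hστ (σ p) (hσmove p hσp) hσp
    have h2 : τ⁻¹ (σ p) = σ p := hτinv_fix _ h1
    rw [h2, pinv_apply_self]
  have hca : c a = b := by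
    rw [capply, hτa, hσa]
    exact hσinv_fix b hσb
  have hcfix : ∀ z, z ≠ p → z ≠ a → z ≠ b → c z = z := by
    intro z hzp hza hzb
    rw [capply]
    by_cases hτz : τ z = z
    · rw [hτz]
      by_cases hσz : σ z = z
      · rw [hσz, hτinv_fix z hτz, hσinv_fix z hσz]
      · have hσzp : σ z ≠ p := by
          intro h
          apply hza
          rw [ha, ← h, pinv_apply_self]
        have h1 : τ (σ z) = σ z := hστ (σ z) (hσmove z hσz) hσzp
        rw [hτinv_fix _ h1, pinv_apply_self]
    · have hτzp : τ z ≠ p := by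
        intro h
        apply hzb
        rw [hb, ← h, pinv_apply_self]
      have h1 : σ (τ z) = τ z := hτσ (τ z) (hτmove z hτz) hτzp
      rw [h1, pinv_apply_self]
      exact hσinv_fix z (hτσ z hτz hzp)
  have hsupp : c.support = {p, a, b} := by
    ext z
    simp only [Perm.mem_support, Finset.mem_insert, Finset.mem_singleton]
    constructor
    · intro hz
      by_contra hcon
      push Not at hcon
      exact hz (hcfix z hcon.1 hcon.2.1 hcon.2.2)
    · rintro (rfl | rfl | rfl)
      · rw [hcp]; exact hap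
      · rw [hca]; exact fun h => hab h.symm
      · rw [hcb]; exact fun h => hbp h.symm
  rw [← card_support_eq_three_iff, hsupp]
  rw [Finset.card_insert_of_notMem, Finset.card_insert_of_notMem, Finset.card_singleton]
  · simpa using hab
  · simp only [Finset.mem_insert, Finset.mem_singleton, not_or]
    exact ⟨fun h => hap h.symm, fun h => hbp h.symm⟩

end Cfsg.Agent.Lib.Helper8.MinDeg
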