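import Cfsg.Agent.Lib.Helper8.MinDegC
import Cfsg.Agent.Lib.Helper8.MinDegD

set_option autoImplicit false

namespace Cfsg.Agent.Lib.Helper8.MinDeg

open MulAction Classical Equiv

variable {G : Type*} [Group G] {Ω : Type*} [MulAction G Ω] [Fintype Ω]

/-! ### A separation lemma for doubly transitive groups -/

lemma exists_disjoint_translate [Finite G]
    (h2 : ∀ a x w : Ω, x ≠ a → w ≠ a → ∃ k : G, k • a = a ∧ k • x = w)
    (α : Ω) (A : Finset Ω) (hα : α ∉ A) (hcard : A.card ^ 2 < Fintype.card Ω - 1) :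
    ∃ k : G, k • α = α ∧ ∀ a ∈ A, k • a ∉ A := by
  by_contra hcon
  push Not at hcon
  haveI : Fintype G := Fintype.ofFinite G
  set S : Finset G := Finset.univ.filter (fun k : G => k • α = α) with hS
  have memS : ∀ k, k ∈ S ↔ k • α = α := by intro k; simp [hS]
  have hSpos : 0 < S.card := Finset.card_pos.mpr ⟨1, (memS 1).mpr (one_smul _ _)⟩
  let T : Ω → Ω → Finset G := fun a b => S.filter (fun k => k • a = b)
  have hT : ∀ a ∈ A, ∀ b ∈ A, (T a b).card * (Fintype.card Ω - 1) ≤ S.card := by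
    intro a _ b hb
    have hbα : b ≠ α := fun h => hα (h ▸ hb)
    have hex : ∀ c : Ω, ∃ j : G, c ≠ α → (j • α = α ∧ j • b = c) := by
      intro c
      by_cases hc : c = α
      · exact ⟨1, fun h => absurd hc h⟩
      · obtain ⟨j, hj⟩ := h2 α b c hbα hc
        exact ⟨j, fun _ => hj⟩
    choose j hj using hex
    have hcardprod : ((T a b) ×ˢ (Finset.univ.erase α)).card =
        (T a b).card * (Fintype.card Ω - 1) := by
      rw [Finset.card_product, Finset.card_erase_of_mem (Finset.mem_univ α), Finset.card_univ]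
    rw [← hcardprod]
    apply Finset.card_le_card_of_injOn (fun p : G × Ω => j p.2 * p.1)
    · intro p hp
      rw [Finset.mem_coe, Finset.mem_product, Finset.mem_filter, Finset.mem_erase] at hp
      obtain ⟨⟨hp1, _⟩, hp2, _⟩ := hp
      rw [Finset.mem_coe, memS, mul_smul, (memS _).mp hp1]
      exact (hj p.2 hp2).1
    · intro p hp q hq hpq
      rw [Finset.mem_coe, Finset.mem_product, Finset.mem_filter, Finset.mem_erase] at hp hq
      obtain ⟨⟨_, hp1⟩, hp2, _⟩ := hp
      obtain ⟨⟨_, hq1⟩, hq2, _⟩ := hq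
      have hpq' : j p.2 * p.1 = j q.2 * q.1 := hpq
      have h1 : (j p.2 * p.1) • a = p.2 := by rw [mul_smul, hp1]; exact (hj p.2 hp2).2
      have h2' : (j q.2 * q.1) • a = q.2 := by rw [mul_smul, hq1]; exact (hj q.2 hq2).2
      have hc : p.2 = q.2 := by rw [← h1, ← h2', hpq']
      have hk : p.1 = q.1 := by
        rw [hc] at hpq'
        exact mul_left_cancel hpq'
      exact Prod.ext hk hc
  have hsub : S ⊆ (A ×ˢ A).biUnion (fun p => T p.1 p.2) := by
    intro k hk
    obtain ⟨a, ha, hka⟩ := hcon k ((memS k).mp hk)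
    rw [Finset.mem_biUnion]
    exact ⟨(a, k • a), Finset.mem_product.mpr ⟨ha, hka⟩, Finset.mem_filter.mpr ⟨hk, rfl⟩⟩
  have h1 : S.card ≤ ∑ p ∈ A ×ˢ A, (T p.1 p.2).card :=
    le_trans (Finset.card_le_card hsub) Finset.card_biUnion_le
  have h3 : S.card * (Fintype.card Ω - 1) ≤ A.card ^ 2 * S.card := by
    calc S.card * (Fintype.card Ω - 1)
        ≤ (∑ p ∈ A ×ˢ A, (T p.1 p.2).card) * (Fintype.card Ω - 1) :=
          Nat.mul_le_mul_right _ h1
      _ = ∑ p ∈ A ×ˢ A, (T p.1 p.2).card * (Fintype.card Ω - 1) := Finset.sum_mul _ _ _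
      _ ≤ ∑ _p ∈ A ×ˢ A, S.card := by
          apply Finset.sum_le_sum
          intro p hp
          rw [Finset.mem_product] at hp
          exact hT p.1 hp.1 p.2 hp.2
      _ = A.card ^ 2 * S.card := by
          rw [Finset.sum_const, smul_eq_mul, Finset.card_product, sq]
  have h4 : Fintype.card Ω - 1 ≤ A.card ^ 2 := by
    have : S.card * (Fintype.card Ω - 1) ≤ S.card * A.card ^ 2 := by
      rw [mul_comm S.card (A.card ^ 2)]; exact h3
    exact Nat.le_of_mul_le_mul_left this hSpos
  omega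

/-! ### The doubly transitive case -/

lemma two_trans_bound [Finite G] [IsPreprimitive G Ω]
    (h2 : ∀ a x w : Ω, x ≠ a → w ≠ a → ∃ k : G, k • a = a ∧ k • x = w)
    (hA : ¬ alternatingGroup Ω ≤ (MulAction.toPermHom G Ω).range)
    (g : G) (α : Ω) (hα : g • α ≠ α) :
    Fintype.card Ω - 1 ≤ ((Finset.univ.filter (fun z : Ω => g • z ≠ z)).card - 1) ^ 2 := by
  by_contra hcon
  push Not at hcon
  set Sg : Finset Ω := Finset.univ.filter (fun z : Ω => g • z ≠ z) with hSg
  have memSg : ∀ z, z ∈ Sg ↔ g • z ≠ z := by intro z; simp [hSg]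
  have hαS : α ∈ Sg := (memSg α).mpr hα
  set A := Sg.erase α with hAdef
  have hAcard : A.card = Sg.card - 1 := Finset.card_erase_of_mem hαS
  have hαA : α ∉ A := Finset.notMem_erase α Sg
  obtain ⟨k, hkα, hkA⟩ := exists_disjoint_translate (G := G) h2 α A hαA (by rw [hAcard]; exact hcon)
  have hkα' : k⁻¹ • α = α := by rw [inv_smul_eq_iff, hkα]
  set σ : Perm Ω := MulAction.toPermHom G Ω g with hσ
  set τ : Perm Ω := MulAction.toPermHom G Ω (k * g * k⁻¹) with hτ
  have σapply : ∀ z, σ z = g • z := fun z => rfl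
  have τapply : ∀ z, τ z = k • g • k⁻¹ • z := by
    intro z
    show (k * g * k⁻¹) • z = _
    rw [mul_smul, mul_smul]
  have hp : ∀ z, (σ z ≠ z ∧ τ z ≠ z) ↔ z = α := by
    intro z
    constructor
    · rintro ⟨h1, h2'⟩
      by_contra hzα
      rw [σapply] at h1
      rw [τapply] at h2'
      have hzA : z ∈ A := Finset.mem_erase.mpr ⟨hzα, (memSg z).mpr h1⟩
      have h3 : g • k⁻¹ • z ≠ k⁻¹ • z := by
        intro h
        apply h2'
        rw [h, smul_inv_smul]
      have h4 : k⁻¹ • z ≠ α := by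
        intro h
        apply hzα
        rw [← hkα, ← h, smul_inv_smul]
      have h5 : k⁻¹ • z ∈ A := Finset.mem_erase.mpr ⟨h4, (memSg _).mpr h3⟩
      have := hkA _ h5
      rw [smul_inv_smul] at this
      exact this hzA
    · rintro rfl
      refine ⟨hα, ?_⟩
      rw [τapply, hkα']
      intro h
      apply hα
      have : k • g • z = k • z := by rw [h, hkα]
      exact MulAction.injective k this
  have h3c := isThreeCycle_of_support_inter σ τ α hp
  have hmem : σ⁻¹ * τ⁻¹ * σ * τ ∈ (MulAction.toPermHom G Ω).range := by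
    refine ⟨g⁻¹ * (k * g * k⁻¹)⁻¹ * g * (k * g * k⁻¹), ?_⟩
    simp only [map_mul, map_inv, hσ, hτ]
  have hprimR : IsPreprimitive (MulAction.toPermHom G Ω).range Ω := by
    let φ : G → (MulAction.toPermHom G Ω).range := (MulAction.toPermHom G Ω).rangeRestrict
    let f : Ω →ₑ[φ] Ω := { toFun := id, map_smul' := fun _ _ => rfl }
    exact IsPreprimitive.of_surjective (f := f) Function.surjective_id
  exact hA (Equiv.Perm.alternatingGroup_le_of_isPreprimitive_of_isThreeCycle_mem hprimR h3c hmem)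

/-! ### Minimal degree bound -/

/-- **Babai–Bochert**: a nonidentity element of a primitive group not containing the alternating
group moves at least `√n / 2` points: `n ≤ 4 s²` where `s` is the size of the support. -/
theorem card_le_four_mul_support_sq [Finite G] [FaithfulSMul G Ω] [IsPreprimitive G Ω]
    (hA : ¬ alternatingGroup Ω ≤ (MulAction.toPermHom G Ω).range)
    (g : G) (hg : g ≠ 1) :
    Fintype.card Ω ≤ 4 * ((Finset.univ.filter (fun z : Ω => g • z ≠ z)).card) ^ 2 := by
  obtain ⟨α, hα⟩ : ∃ α : Ω, g • α ≠ α := by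
    by_contra h
    push Not at h
    apply hg
    apply FaithfulSMul.eq_of_smul_eq_smul (α := Ω)
    intro z
    rw [h z, one_smul]
  haveI : Nontrivial Ω := ⟨⟨g • α, α, hα⟩⟩
  set s := (Finset.univ.filter (fun z : Ω => g • z ≠ z)).card with hs
  have hspos : 0 < s := Finset.card_pos.mpr ⟨α, by simp [hα]⟩
  by_cases h2 : ∀ a x w : Ω, x ≠ a → w ≠ a → ∃ k : G, k • a = a ∧ k • x = w
  · have := two_trans_bound (G := G) h2 hA g α hα
    rw [← hs] at this
    have h1 : (s - 1) ^ 2 + 1 ≤ s ^ 2 := by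
      have key : ∀ t : ℕ, (t + 1 - 1) ^ 2 + 1 ≤ (t + 1) ^ 2 := by
        intro t
        simp only [Nat.add_sub_cancel]
        ring_nf; omega
      obtain ⟨t, ht⟩ : ∃ t, s = t + 1 := ⟨s - 1, by omega⟩
      rw [ht]; exact key t
    have : Fintype.card Ω ≤ s ^ 2 := by omega
    nlinarith
  · have h1 := card_le_four_mul_sq (G := G) h2 (x := α) (y := g • α) (Ne.symm hα)
    have h3 : dd G α (g • α) ≤ s := dd_le_card_support g α
    have : (dd G α (g • α)) ^ 2 ≤ s ^ 2 := Nat.pow_le_pow_left h3 2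
    omega

end Cfsg.Agent.Lib.Helper8.MinDeg
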