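import Mathlib
import Cfsg.Prelude.Def_Classical
import Cfsg.Agent.Lib.Helper27.OPMinDefs
import Cfsg.Agent.Lib.Helper26.OOMinDefs

/-!
# S2344, leaf CONB1 (matrix part): identities between the matrices `shoMat`, `nsMat`, `radMatO`,
`leviMatO`, `wMatO` on `IO n = Unit ⊕ (Fin n ⊕ Fin n)`.

Matrices are compared through their action on the column vectors `mkv v0 x y`.
-/

set_option autoImplicit false
set_option linter.unusedSectionVars false

namespace Cfsg.Agent.Lib.Helper8.OOMin

open Matrix Cfsg.Agent.Lib.Helper27.OPMin Cfsg.Agent.Lib.Helper26.OOMin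

variable {F : Type*} [Field F] {n : ℕ}

/-- the column vector `(v0 | x | y)` -/
def mkv (v0 : F) (x y : Fin n → F) : IO n → F := Sum.elim (fun _ => v0) (Sum.elim x y)

@[simp] theorem mkv_inl (v0 : F) (x y : Fin n → F) (u : Unit) : mkv v0 x y (Sum.inl u) = v0 := rfl

@[simp] theorem mkv_inr_inl (v0 : F) (x y : Fin n → F) (i : Fin n) :
    mkv v0 x y (Sum.inr (Sum.inl i)) = x i := rfl

@[simp] theorem mkv_inr_inr (v0 : F) (x y : Fin n → F) (i : Fin n) :
    mkv v0 x y (Sum.inr (Sum.inr i)) = y i := rfl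

theorem mkv_eta (v : IO n → F) :
    mkv (v (Sum.inl ())) (fun i => v (Sum.inr (Sum.inl i))) (fun i => v (Sum.inr (Sum.inr i))) =
      v := by
  funext k
  rcases k with ⟨⟩ | k | k <;> rfl

theorem mkv_ext {v0 v0' : F} {x x' y y' : Fin n → F} (h0 : v0 = v0') (hx : x = x') (hy : y = y') :
    mkv v0 x y = mkv v0' x' y' := by
  rw [h0, hx, hy]

/-- two matrices on `IO n` which agree on all the vectors `mkv v0 x y` are equal -/
theorem mat_ext_mkv {A B : Matrix (IO n) (IO n) F}
    (h : ∀ (v0 : F) (x y : Fin n → F), A *ᵥ mkv v0 x y = B *ᵥ mkv v0 x y) : A = B := by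
  apply Matrix.toLin'.injective
  apply LinearMap.ext
  intro v
  rw [Matrix.toLin'_apply, Matrix.toLin'_apply, ← mkv_eta v]
  exact h _ _ _

theorem quadFormOdd_mkv (v0 : F) (x y : Fin n → F) :
    Cfsg.quadFormOdd n F (mkv v0 x y) = v0 ^ 2 + x ⬝ᵥ y := rfl

/-! ### the action of the matrices on `mkv v0 x y` -/

theorem shoMat_mulVec (c : Fin n → F) (v0 : F) (x y : Fin n → F) :
    shoMat c *ᵥ mkv v0 x y =
      mkv (v0 - c ⬝ᵥ y) ((2 * v0) • c + x - (c ⬝ᵥ y) • c) y := by
  funext k
  rcases k with ⟨⟩ | k | k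
  · simp [shoMat, mkv, mulVec, dotProduct, Fintype.sum_sum_type, sub_eq_add_neg]
  · simp [shoMat, mkv, mulVec, dotProduct, Fintype.sum_sum_type, vecMulVec_apply,
      Matrix.one_apply, sub_eq_add_neg]
    have h1 : ∑ i, c k * c i * y i = (∑ i, c i * y i) * c k := by
      rw [Finset.sum_mul]
      exact Finset.sum_congr rfl (fun i _ => by ring)
    rw [h1]
    ring
  · simp [shoMat, mkv, mulVec, dotProduct, Fintype.sum_sum_type, Matrix.one_apply]

theorem embO_mulVec (A : Matrix (Fin n ⊕ Fin n) (Fin n ⊕ Fin n) F) (v0 : F) (x y : Fin n → F) :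
    embO A *ᵥ mkv v0 x y = Sum.elim (fun _ => v0) (A *ᵥ Sum.elim x y) := by
  funext k
  rcases k with ⟨⟩ | k
  · simp [embO, mkv, mulVec, dotProduct, Fintype.sum_sum_type]
  · simp [embO, mkv, mulVec, dotProduct, Fintype.sum_sum_type]

theorem radMat_mulVec (R : Matrix (Fin n) (Fin n) F) (x y : Fin n → F) :
    radMat R *ᵥ Sum.elim x y = Sum.elim (x + (R - Rᵀ) *ᵥ y) y := by
  unfold radMat
  rw [fromBlocks_mulVec]
  simp

theorem leviMat_mulVec (g : Matrix (Fin n) (Fin n) F) (x y : Fin n → F) :
    leviMat g *ᵥ Sum.elim x y = Sum.elim (g *ᵥ x) ((g⁻¹)ᵀ *ᵥ y) := by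
  unfold leviMat
  rw [fromBlocks_mulVec]
  simp

theorem radMatO_mulVec (R : Matrix (Fin n) (Fin n) F) (v0 : F) (x y : Fin n → F) :
    radMatO R *ᵥ mkv v0 x y = mkv v0 (x + (R - Rᵀ) *ᵥ y) y := by
  unfold radMatO
  rw [embO_mulVec, radMat_mulVec]
  rfl

theorem leviMatO_mulVec (g : Matrix (Fin n) (Fin n) F) (v0 : F) (x y : Fin n → F) :
    leviMatO g *ᵥ mkv v0 x y = mkv v0 (g *ᵥ x) ((g⁻¹)ᵀ *ᵥ y) := by
  unfold leviMatO
  rw [embO_mulVec, leviMat_mulVec]
  rfl

theorem single_self_mulVec (a : Fin n) (x : Fin n → F) :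
    (Matrix.single a a (1 : F)) *ᵥ x = Pi.single a (x a) := by
  funext i
  by_cases hi : i = a
  · subst hi
    simp [mulVec, dotProduct, Matrix.single_apply]
  · simp [mulVec, dotProduct, Matrix.single_apply, hi, Ne.symm hi]

theorem swapMat_mulVec (a : Fin n) (x y : Fin n → F) :
    swapMat a *ᵥ Sum.elim x y = Sum.elim (Function.update x a (y a)) (Function.update y a (x a)) := by
  unfold swapMat
  rw [fromBlocks_mulVec]
  simp only [Sum.elim_comp_inl, Sum.elim_comp_inr, sub_mulVec, one_mulVec, single_self_mulVec]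
  congr 1
  · funext i
    by_cases hi : i = a
    · subst hi
      simp
    · simp [hi]
  · funext i
    by_cases hi : i = a
    · subst hi
      simp
    · simp [hi]

theorem nsMat_mulVec (a : Fin n) (v0 : F) (x y : Fin n → F) :
    nsMat a *ᵥ mkv v0 x y =
      mkv (-v0) (Function.update x a (-(y a))) (Function.update y a (-(x a))) := by
  unfold nsMat mkv
  rw [fromBlocks_mulVec, fromBlocks_mulVec]
  simp only [Sum.elim_comp_inl, Sum.elim_comp_inr, sub_mulVec, one_mulVec, single_self_mulVec,
    neg_mulVec, zero_mulVec, add_zero, zero_add]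
  congr 1
  congr 1
  · funext i
    by_cases hi : i = a
    · subst hi
      simp
    · simp [hi]
  · funext i
    by_cases hi : i = a
    · subst hi
      simp
    · simp [hi]

/-! ### the identities -/

theorem mulVec_mul (A B : Matrix (IO n) (IO n) F) (v : IO n → F) :
    (A * B) *ᵥ v = A *ᵥ (B *ᵥ v) := (mulVec_mulVec v A B).symm

theorem vecMulVec_mulVec' (u v w : Fin n → F) : vecMulVec u v *ᵥ w = (v ⬝ᵥ w) • u := by
  funext i
  simp only [mulVec, dotProduct, vecMulVec_apply, Pi.smul_apply, smul_eq_mul, Finset.sum_mul]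
  exact Finset.sum_congr rfl (fun j _ => by ring)

/-- (1) the Heisenberg relation -/
theorem shoMat_mul (c c' : Fin n → F) :
    shoMat c * shoMat c' = shoMat (c + c') * radMatO (vecMulVec c' c) := by
  apply mat_ext_mkv
  intro v0 x y
  rw [mulVec_mul, mulVec_mul, shoMat_mulVec, shoMat_mulVec, radMatO_mulVec, shoMat_mulVec]
  apply mkv_ext
  · rw [add_dotProduct]
    ring
  · rw [transpose_vecMulVec, sub_mulVec, vecMulVec_mulVec', vecMulVec_mulVec', add_dotProduct]
    funext i
    simp only [Pi.add_apply, Pi.sub_apply, Pi.smul_apply, smul_eq_mul]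
    ring
  · rfl

theorem radMatO_of_symm (R : Matrix (Fin n) (Fin n) F) (h : Rᵀ = R) : radMatO R = 1 := by
  unfold radMatO embO radMat
  rw [h, sub_self, fromBlocks_one, fromBlocks_one]

theorem shoMat_zero : shoMat (0 : Fin n → F) = 1 := by
  apply mat_ext_mkv
  intro v0 x y
  rw [shoMat_mulVec, one_mulVec]
  apply mkv_ext
  · simp
  · simp
  · rfl

theorem shoMat_mul_neg (c : Fin n → F) : shoMat c * shoMat (-c) = 1 := by
  rw [shoMat_mul, add_neg_cancel, shoMat_zero, one_mul]
  apply radMatO_of_symm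
  rw [transpose_vecMulVec]
  ext i j
  simp [vecMulVec_apply, mul_comm]

theorem shoMat_neg_mul (c : Fin n → F) : shoMat (-c) * shoMat c = 1 := by
  have := shoMat_mul_neg (-c)
  rwa [neg_neg] at this

/-- (2) -/
theorem radMatO_mul_shoMat (R : Matrix (Fin n) (Fin n) F) (c : Fin n → F) :
    radMatO R * shoMat c = shoMat c * radMatO R := by
  apply mat_ext_mkv
  intro v0 x y
  rw [mulVec_mul, mulVec_mul, shoMat_mulVec, radMatO_mulVec, radMatO_mulVec, shoMat_mulVec]
  apply mkv_ext rfl _ rfl
  abel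

theorem dot_levi {g : Matrix (Fin n) (Fin n) F} (hg : IsUnit g.det) (c y : Fin n → F) :
    (g *ᵥ c) ⬝ᵥ ((g⁻¹)ᵀ *ᵥ y) = c ⬝ᵥ y := by
  rw [dotProduct_mulVec, vecMul_transpose, mulVec_mulVec, nonsing_inv_mul _ hg, one_mulVec]

/-- (3) the Levi factor normalises the short root part -/
theorem leviMatO_mul_shoMat {g : Matrix (Fin n) (Fin n) F} (hg : IsUnit g.det) (c : Fin n → F) :
    leviMatO g * shoMat c = shoMat (g *ᵥ c) * leviMatO g := by
  apply mat_ext_mkv
  intro v0 x y
  rw [mulVec_mul, mulVec_mul, shoMat_mulVec, leviMatO_mulVec, leviMatO_mulVec, shoMat_mulVec,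
    dot_levi hg]
  apply mkv_ext rfl _ rfl
  rw [mulVec_sub, mulVec_add, mulVec_smul, mulVec_smul]

theorem dot_update_update (c y : Fin n → F) (a b : Fin n) (s t : F) (ha : c a = 0) (hb : c b = 0) :
    c ⬝ᵥ Function.update (Function.update y b s) a t = c ⬝ᵥ y := by
  unfold dotProduct
  apply Finset.sum_congr rfl
  intro i _
  by_cases hia : i = a
  · subst hia
    rw [ha, zero_mul, zero_mul]
  · rw [Function.update_of_ne hia]
    by_cases hib : i = b
    · subst hib
      rw [hb, zero_mul, zero_mul]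
    · rw [Function.update_of_ne hib]

theorem dot_update (c y : Fin n → F) (a : Fin n) (t : F) (ha : c a = 0) :
    c ⬝ᵥ Function.update y a t = c ⬝ᵥ y := by
  have := dot_update_update c y a a (y a) t ha ha
  rwa [Function.update_eq_self] at this

theorem wMatO_mulVec (a b : Fin n) (v0 : F) (x y : Fin n → F) :
    (wMatO a b : Matrix (IO n) (IO n) F) *ᵥ mkv v0 x y =
      mkv v0 (Function.update (Function.update x b (y b)) a (Function.update y b (x b) a))
        (Function.update (Function.update y b (x b)) a (Function.update x b (y b) a)) := by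
  unfold wMatO
  rw [embO_mulVec, ← mulVec_mulVec, swapMat_mulVec, swapMat_mulVec]
  rfl

/-- (4) -/
theorem wMatO_mul_shoMat (a b : Fin n) (c : Fin n → F) (ha : c a = 0) (hb : c b = 0) :
    (wMatO a b : Matrix (IO n) (IO n) F) * shoMat c = shoMat c * wMatO a b := by
  apply mat_ext_mkv
  intro v0 x y
  rw [mulVec_mul, mulVec_mul, shoMat_mulVec, wMatO_mulVec, wMatO_mulVec, shoMat_mulVec,
    dot_update_update c y a b _ _ ha hb]
  apply mkv_ext rfl
  · funext i
    simp only [Function.update_apply, Pi.add_apply, Pi.sub_apply, Pi.smul_apply, smul_eq_mul]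
    split_ifs <;> simp_all
  · funext i
    simp only [Function.update_apply, Pi.add_apply, Pi.sub_apply, Pi.smul_apply, smul_eq_mul]
    split_ifs <;> simp_all

/-- (5) -/
theorem nsMat_mul_self (a : Fin n) : (nsMat a : Matrix (IO n) (IO n) F) * nsMat a = 1 := by
  apply mat_ext_mkv
  intro v0 x y
  rw [mulVec_mul, nsMat_mulVec, nsMat_mulVec, one_mulVec]
  apply mkv_ext
  · simp
  · simp
  · simp

/-- (9) -/
theorem nsMat_mul_shoMat (a : Fin n) (c : Fin n → F) (ha : c a = 0) :
    (nsMat a : Matrix (IO n) (IO n) F) * shoMat c = shoMat (-c) * nsMat a := by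
  apply mat_ext_mkv
  intro v0 x y
  rw [mulVec_mul, mulVec_mul, shoMat_mulVec, nsMat_mulVec, nsMat_mulVec, shoMat_mulVec,
    neg_dotProduct, dot_update c y a _ ha]
  apply mkv_ext
  · ring
  · funext i
    by_cases hia : i = a
    · subst hia
      simp [ha]
    · simp [Function.update_of_ne hia]
  · congr 1
    simp [ha]

theorem mulVec_update_of_col_zero (S : Matrix (Fin n) (Fin n) F) (a : Fin n)
    (hS : ∀ i, S i a = 0) (y : Fin n → F) (t : F) : S *ᵥ Function.update y a t = S *ᵥ y := by
  funext i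
  simp only [mulVec, dotProduct]
  apply Finset.sum_congr rfl
  intro j _
  by_cases hja : j = a
  · subst hja
    rw [hS, zero_mul, zero_mul]
  · rw [Function.update_of_ne hja]

theorem mulVec_apply_of_row_zero (S : Matrix (Fin n) (Fin n) F) (a : Fin n)
    (hS : ∀ j, S a j = 0) (y : Fin n → F) : (S *ᵥ y) a = 0 := by
  simp only [mulVec, dotProduct]
  apply Finset.sum_eq_zero
  intro j _
  rw [hS, zero_mul]

/-- (6) -/
theorem nsMat_mul_radMatO (a : Fin n) (R : Matrix (Fin n) (Fin n) F)
    (hR : ∀ i j, R i j ≠ 0 → i ≠ a ∧ j ≠ a) :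
    (nsMat a : Matrix (IO n) (IO n) F) * radMatO R = radMatO R * nsMat a := by
  have hrow : ∀ j, (R - Rᵀ) a j = 0 := by
    intro j
    have h1 : R a j = 0 := by
      by_contra h
      exact (hR a j h).1 rfl
    have h2 : R j a = 0 := by
      by_contra h
      exact (hR j a h).2 rfl
    rw [Matrix.sub_apply, transpose_apply, h1, h2, sub_zero]
  have hcol : ∀ i, (R - Rᵀ) i a = 0 := by
    intro i
    have h1 : R i a = 0 := by
      by_contra h
      exact (hR i a h).2 rfl
    have h2 : R a i = 0 := by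
      by_contra h
      exact (hR a i h).1 rfl
    rw [Matrix.sub_apply, transpose_apply, h1, h2, sub_zero]
  apply mat_ext_mkv
  intro v0 x y
  rw [mulVec_mul, mulVec_mul, radMatO_mulVec, nsMat_mulVec, nsMat_mulVec, radMatO_mulVec,
    mulVec_update_of_col_zero _ a hcol]
  apply mkv_ext rfl
  · funext i
    by_cases hia : i = a
    · subst hia
      simp [mulVec_apply_of_row_zero _ i hrow]
    · simp [Function.update_of_ne hia]
  · congr 1
    simp [mulVec_apply_of_row_zero _ a hrow]

theorem single_mulVec' (i a : Fin n) (t : F) (y : Fin n → F) :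
    Matrix.single i a t *ᵥ y = Pi.single i (t * y a) := by
  funext k
  by_cases hk : k = i
  · subst hk
    simp [mulVec, dotProduct, Matrix.single_apply]
  · simp [mulVec, dotProduct, Matrix.single_apply, hk, Ne.symm hk]

theorem inv_transvection {i a : Fin n} (hia : i ≠ a) (t : F) :
    (Matrix.transvection i a t)⁻¹ = Matrix.transvection i a (-t) := by
  apply Matrix.inv_eq_right_inv
  have h := Matrix.transvection_mul_transvection_same i a hia t (-t)
  rw [add_neg_cancel, transvection_zero] at h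
  exact h

/-- (7) -/
theorem nsMat_mul_radMatO_single (a i : Fin n) (hia : i ≠ a) (t : F) :
    (nsMat a : Matrix (IO n) (IO n) F) * radMatO (Matrix.single i a t) =
      leviMatO (Matrix.transvection i a (-t)) * nsMat a := by
  apply mat_ext_mkv
  intro v0 x y
  rw [mulVec_mul, mulVec_mul, radMatO_mulVec, nsMat_mulVec, nsMat_mulVec, leviMatO_mulVec,
    inv_transvection hia, neg_neg]
  unfold Matrix.transvection
  rw [transpose_add, transpose_one, transpose_single, add_mulVec, add_mulVec, one_mulVec, one_mulVec,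
    sub_mulVec, single_mulVec', single_mulVec', single_mulVec', single_mulVec']
  apply mkv_ext rfl
  · funext k
    by_cases hka : k = a
    · subst hka
      simp [hia, Ne.symm hia]
    · by_cases hki : k = i
      · subst hki
        simp [hia, Function.update_of_ne hka]
      · simp [Function.update_of_ne hka, hki, hka]
  · funext k
    by_cases hka : k = a
    · subst hka
      simp [hia, Ne.symm hia]
      ring
    · by_cases hki : k = i
      · subst hki
        simp [hia, Function.update_of_ne hka]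
      · simp [Function.update_of_ne hka, hki, hka]

/-- (8) -/
theorem nsMat_mul_leviMatO_transvection (a i : Fin n) (hia : i ≠ a) (t : F) :
    (nsMat a : Matrix (IO n) (IO n) F) * leviMatO (Matrix.transvection i a t) =
      radMatO (Matrix.single i a (-t)) * nsMat a := by
  have h := nsMat_mul_radMatO_single a i hia (-t)
  rw [neg_neg] at h
  calc (nsMat a : Matrix (IO n) (IO n) F) * leviMatO (Matrix.transvection i a t)
      = nsMat a * (leviMatO (Matrix.transvection i a t) * nsMat a) * nsMat a := by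
        rw [Matrix.mul_assoc, Matrix.mul_assoc, nsMat_mul_self, Matrix.mul_one]
    _ = nsMat a * (nsMat a * radMatO (Matrix.single i a (-t))) * nsMat a := by rw [h]
    _ = radMatO (Matrix.single i a (-t)) * nsMat a := by
        rw [← Matrix.mul_assoc, nsMat_mul_self, Matrix.one_mul]

/-! ### invariance of the quadratic form -/

theorem quadFormOdd_eta (v : IO n → F) :
    Cfsg.quadFormOdd n F v =
      v (Sum.inl ()) ^ 2 + (fun i => v (Sum.inr (Sum.inl i))) ⬝ᵥ fun i => v (Sum.inr (Sum.inr i)) :=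
  rfl

theorem quadFormOdd_shoMat (c : Fin n → F) (v : IO n → F) :
    Cfsg.quadFormOdd n F (shoMat c *ᵥ v) = Cfsg.quadFormOdd n F v := by
  rw [← mkv_eta v, shoMat_mulVec, quadFormOdd_mkv, quadFormOdd_mkv, sub_dotProduct, add_dotProduct,
    smul_dotProduct, smul_dotProduct, smul_eq_mul, smul_eq_mul]
  ring

theorem quadFormOdd_nsMat (a : Fin n) (v : IO n → F) :
    Cfsg.quadFormOdd n F (nsMat a *ᵥ v) = Cfsg.quadFormOdd n F v := by
  rw [← mkv_eta v, nsMat_mulVec, quadFormOdd_mkv, quadFormOdd_mkv]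
  congr 1
  · ring
  · unfold dotProduct
    apply Finset.sum_congr rfl
    intro i _
    by_cases hia : i = a
    · subst hia
      simp
      ring
    · simp [Function.update_of_ne hia]

theorem quadFormPlus_elim (x y : Fin n → F) :
    Cfsg.quadFormPlus n F (Sum.elim x y) = x ⬝ᵥ y := rfl

theorem quadFormOdd_embO (A : Matrix (Fin n ⊕ Fin n) (Fin n ⊕ Fin n) F)
    (hA : ∀ w, Cfsg.quadFormPlus n F (A *ᵥ w) = Cfsg.quadFormPlus n F w) (v : IO n → F) :
    Cfsg.quadFormOdd n F (embO A *ᵥ v) = Cfsg.quadFormOdd n F v := by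
  rw [← mkv_eta v, embO_mulVec, quadFormOdd_mkv]
  have h := hA (Sum.elim (fun i => v (Sum.inr (Sum.inl i))) (fun i => v (Sum.inr (Sum.inr i))))
  rw [quadFormPlus_elim] at h
  rw [← h]
  rfl

theorem embO_mul (A B : Matrix (Fin n ⊕ Fin n) (Fin n ⊕ Fin n) F) :
    embO (A * B) = embO A * embO B := by
  unfold embO
  rw [fromBlocks_multiply]
  simp

theorem embO_one : embO (1 : Matrix (Fin n ⊕ Fin n) (Fin n ⊕ Fin n) F) = 1 := by
  unfold embO
  rw [fromBlocks_one]

end Cfsg.Agent.Lib.Helper8.OOMin
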