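/-
helper8 (S2345, leaf AR1 of helper27's plan): the arithmetic of the bound
`b = (q^n - 1)(q^(n-1) + q)/(q^2 - 1)` for `Ω⁺_{2n}(q)`.
-/
import Mathlib

set_option autoImplicit false

namespace Cfsg.Agent.Lib.Helper8.OPMinAr

/-! ### the integer core -/

/-- `q² x + q² + q - 1` does not divide `(q² x - 1)(q x + 1)(x + 1)` when `x ≥ q²`. -/
theorem core (Q X : ℤ) (hQ : 2 ≤ Q) (hX : Q ^ 2 ≤ X) :
    ¬ ((Q ^ 2 * X + Q ^ 2 + Q - 1) ∣ (Q ^ 2 * X - 1) * (Q * X + 1) * (X + 1)) := by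
  intro hAP
  set A : ℤ := Q ^ 2 * X + Q ^ 2 + Q - 1 with hA
  set P : ℤ := (Q ^ 2 * X - 1) * (Q * X + 1) * (X + 1) with hP
  have key : Q ^ 3 * P + Q * (Q ^ 2 - 1) ^ 2 =
      A * (A ^ 2 - (Q * (Q + 1) + (Q ^ 2 - 1) + (Q - 1)) * A +
        (Q * (Q + 1) * (Q ^ 2 - 1) + Q * (Q + 1) * (Q - 1) + (Q ^ 2 - 1) * (Q - 1))) := by
    rw [hA, hP]
    ring
  have h1 : A ∣ Q * (Q ^ 2 - 1) ^ 2 := by
    have h2 : A ∣ A * (A ^ 2 - (Q * (Q + 1) + (Q ^ 2 - 1) + (Q - 1)) * A +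
        (Q * (Q + 1) * (Q ^ 2 - 1) + Q * (Q + 1) * (Q - 1) + (Q ^ 2 - 1) * (Q - 1))) -
        Q ^ 3 * P := dvd_sub (dvd_mul_right A _) (dvd_mul_of_dvd_right hAP _)
    rw [← key, add_sub_cancel_left] at h2
    exact h2
  have hcop : IsCoprime A Q := by
    refine ⟨-1, Q * X + Q + 1, ?_⟩
    rw [hA]
    ring
  have h3 : A ∣ (Q ^ 2 - 1) ^ 2 := hcop.dvd_of_dvd_mul_left h1
  have hpos : 0 < (Q ^ 2 - 1) ^ 2 := by
    have : 0 < Q ^ 2 - 1 := by nlinarith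
    positivity
  have hle := Int.le_of_dvd hpos h3
  have hQ2 : 4 ≤ Q ^ 2 := by nlinarith
  have : (Q ^ 2 - 1) ^ 2 < A := by
    rw [hA]
    nlinarith
  linarith

/-! ### exact divisions -/

theorem sq_sub_one_dvd (q k : ℕ) : (q ^ 2 - 1) ∣ (q ^ (k + 1) - 1) * (q ^ k - 1) := by
  rcases Nat.even_or_odd' k with ⟨j, hj | hj⟩
  · apply Dvd.dvd.mul_left
    exact Nat.pow_sub_one_dvd_pow_sub_one q ⟨j, hj⟩
  · apply Dvd.dvd.mul_right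
    have : k + 1 = 2 * (j + 1) := by omega
    exact Nat.pow_sub_one_dvd_pow_sub_one q ⟨j + 1, this⟩

theorem sq_sub_one_eq (q : ℕ) (hq : 1 ≤ q) : q ^ 2 - 1 = (q - 1) * (q + 1) := by
  obtain ⟨r, rfl⟩ : ∃ r, q = r + 1 := ⟨q - 1, by omega⟩
  simp only [Nat.add_sub_cancel]
  have : (r + 1) ^ 2 = r * (r + 1 + 1) + 1 := by ring
  rw [this, Nat.add_sub_cancel]

theorem sq_sub_one_dvd' (q k : ℕ) (hq : 1 ≤ q) :
    (q ^ 2 - 1) ∣ (q ^ (k + 1) - 1) * (q ^ k + q) := by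
  have hk1 : 1 ≤ q ^ k := Nat.one_le_pow _ _ hq
  have hsplit : q ^ k + q = (q ^ k - 1) + (q + 1) := by omega
  rw [hsplit, mul_add]
  apply dvd_add (sq_sub_one_dvd q k)
  rw [sq_sub_one_eq q hq]
  apply mul_dvd_mul_right
  exact Nat.sub_one_dvd_pow_sub_one q (k + 1)

/-! ### the statement in terms of `x = q^(n-2)` -/

/-- the core in `ℕ`, with `x = q^(n-2)` -/
theorem not_dvd_x (q x e : ℕ) (hq : 2 ≤ q) (hx : q ^ 2 ≤ x)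
    (hd1 : (q ^ 2 - 1) ∣ (x * q ^ 2 - 1) * (x * q + q))
    (hd2 : (q ^ 2 - 1) ∣ (x * q ^ 2 - 1) * (x * q + 1) * (x * q - 1) * (x + 1)) :
    ¬ ((x * q ^ 2 - 1) * (x * q + q) / (q ^ 2 - 1) - 1 ∣
      q ^ e * ((x * q ^ 2 - 1) * (x * q + 1) * (x * q - 1) * (x + 1) / (q ^ 2 - 1))) := by
  intro hdvd
  have hq2 : 4 ≤ q ^ 2 := by nlinarith
  have hx4 : 4 ≤ x := le_trans hq2 hx
  have hxq : 8 ≤ x * q := by nlinarith
  have hxq2 : 16 ≤ x * q ^ 2 := by nlinarith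
  set B := (x * q ^ 2 - 1) * (x * q + q) / (q ^ 2 - 1) with hBdef
  set L := (x * q ^ 2 - 1) * (x * q + 1) * (x * q - 1) * (x + 1) / (q ^ 2 - 1) with hLdef
  have hB : B * (q ^ 2 - 1) = (x * q ^ 2 - 1) * (x * q + q) := Nat.div_mul_cancel hd1
  have hL : L * (q ^ 2 - 1) = (x * q ^ 2 - 1) * (x * q + 1) * (x * q - 1) * (x + 1) :=
    Nat.div_mul_cancel hd2
  have hB1 : 1 ≤ B := by
    rcases Nat.eq_zero_or_pos B with h0 | h0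
    · exfalso
      rw [h0, zero_mul] at hB
      have h1 : 0 < (x * q ^ 2 - 1) * (x * q + q) := Nat.mul_pos (by omega) (by omega)
      omega
    · exact h0
  -- the ℕ number `A`
  have hA1 : 1 ≤ q ^ 2 * x + q ^ 2 + q := by omega
  have h1 : (B - 1) * (q ^ 2 - 1) = (x * q - 1) * (q ^ 2 * x + q ^ 2 + q - 1) := by
    zify [hB1, (by omega : 1 ≤ q ^ 2), (by omega : 1 ≤ x * q), hA1]
    have hBz : (B : ℤ) * ((q : ℤ) ^ 2 - 1) = ((x : ℤ) * (q : ℤ) ^ 2 - 1) * ((x : ℤ) * q + q) := by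
      have := congrArg (Nat.cast : ℕ → ℤ) hB
      push_cast [(by omega : 1 ≤ q ^ 2), (by omega : 1 ≤ x * q ^ 2)] at this
      exact this
    linear_combination hBz
  have h2 : (B - 1) * (q ^ 2 - 1) ∣ q ^ e * L * (q ^ 2 - 1) := mul_dvd_mul_right hdvd _
  rw [h1, mul_assoc, hL] at h2
  have h3 : (x * q - 1) * (q ^ 2 * x + q ^ 2 + q - 1) ∣
      (x * q - 1) * (q ^ e * ((x * q ^ 2 - 1) * (x * q + 1) * (x + 1))) := by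
    have e : q ^ e * ((x * q ^ 2 - 1) * (x * q + 1) * (x * q - 1) * (x + 1)) =
        (x * q - 1) * (q ^ e * ((x * q ^ 2 - 1) * (x * q + 1) * (x + 1))) := by ring
    rw [← e]
    exact h2
  have h4 : (q ^ 2 * x + q ^ 2 + q - 1) ∣ q ^ e * ((x * q ^ 2 - 1) * (x * q + 1) * (x + 1)) :=
    Nat.dvd_of_mul_dvd_mul_left (by omega) h3
  have hcop : Nat.Coprime (q ^ 2 * x + q ^ 2 + q - 1) (q ^ e) := by
    apply Nat.Coprime.pow_right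
    have hA' : q ^ 2 * x + q ^ 2 + q - 1 + 1 = q * (q * x + q + 1) := by
      have : q ^ 2 * x + q ^ 2 + q - 1 + 1 = q ^ 2 * x + q ^ 2 + q := by omega
      rw [this]
      ring
    have hg1 : Nat.gcd (q ^ 2 * x + q ^ 2 + q - 1) q ∣ q ^ 2 * x + q ^ 2 + q - 1 :=
      Nat.gcd_dvd_left _ _
    have hg2 : Nat.gcd (q ^ 2 * x + q ^ 2 + q - 1) q ∣ q ^ 2 * x + q ^ 2 + q - 1 + 1 := by
      rw [hA']
      exact Dvd.dvd.mul_right (Nat.gcd_dvd_right _ _) _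
    have hg3 : Nat.gcd (q ^ 2 * x + q ^ 2 + q - 1) q ∣ 1 := (Nat.dvd_add_right hg1).mp hg2
    exact Nat.dvd_one.mp hg3
  have h5 : (q ^ 2 * x + q ^ 2 + q - 1) ∣ (x * q ^ 2 - 1) * (x * q + 1) * (x + 1) :=
    hcop.dvd_of_dvd_mul_left h4
  have h6 : ((q : ℤ) ^ 2 * x + (q : ℤ) ^ 2 + q - 1) ∣
      ((q : ℤ) ^ 2 * x - 1) * ((q : ℤ) * x + 1) * ((x : ℤ) + 1) := by
    have := Int.natCast_dvd_natCast.mpr h5
    push_cast [hA1, (by omega : 1 ≤ x * q ^ 2)] at this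
    have e1 : (x : ℤ) * (q : ℤ) ^ 2 = (q : ℤ) ^ 2 * x := by ring
    have e2 : (x : ℤ) * (q : ℤ) = (q : ℤ) * x := by ring
    rw [e1, e2] at this
    exact this
  exact core (q : ℤ) (x : ℤ) (by exact_mod_cast hq) (by exact_mod_cast hx) h6

theorem b_le_caseA_x (q x : ℕ) (hq : 2 ≤ q) (hx : q ^ 2 ≤ x)
    (hd1 : (q ^ 2 - 1) ∣ (x * q ^ 2 - 1) * (x * q + q)) :
    (x * q ^ 2 - 1) * (x * q + q) / (q ^ 2 - 1) ≤ 2 * x * (x * q - 1) := by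
  have hq2 : 4 ≤ q ^ 2 := by nlinarith
  have hx4 : 4 ≤ x := le_trans hq2 hx
  have hxq : 8 ≤ x * q := by nlinarith
  have hxq2 : 16 ≤ x * q ^ 2 := by nlinarith
  have hB : (x * q ^ 2 - 1) * (x * q + q) / (q ^ 2 - 1) * (q ^ 2 - 1) =
      (x * q ^ 2 - 1) * (x * q + q) := Nat.div_mul_cancel hd1
  apply Nat.le_of_mul_le_mul_right (c := q ^ 2 - 1) _ (by omega)
  rw [hB]
  zify [(by omega : 1 ≤ q ^ 2), (by omega : 1 ≤ x * q), (by omega : 1 ≤ x * q ^ 2)]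
  have hQ : (2 : ℤ) ≤ q := by exact_mod_cast hq
  have hX : (q : ℤ) ^ 2 ≤ x := by exact_mod_cast hx
  have hX0 : (0 : ℤ) ≤ x := by positivity
  have hQ2 : (2 : ℤ) ≤ (q : ℤ) ^ 2 - 2 := by nlinarith
  have i1 : (q : ℤ) ^ 2 * q * ((q : ℤ) ^ 2 - 2) ≤ (x : ℤ) * q * ((q : ℤ) ^ 2 - 2) :=
    mul_le_mul_of_nonneg_right (mul_le_mul_of_nonneg_right hX (by linarith)) (by linarith)
  have hQ3 : (0 : ℤ) ≤ (q : ℤ) ^ 3 := by positivity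
  have i2 : 2 * (q : ℤ) ^ 3 ≤ (q : ℤ) ^ 2 * q * ((q : ℤ) ^ 2 - 2) := by nlinarith
  have i3 : (0 : ℤ) ≤ (q : ℤ) ^ 3 - 2 * (q : ℤ) ^ 2 := by nlinarith
  have i4 : (0 : ℤ) ≤ (x : ℤ) * ((x : ℤ) * q * ((q : ℤ) ^ 2 - 2) - (q : ℤ) ^ 3 - 2 * (q : ℤ) ^ 2 + q + 2) :=
    mul_nonneg hX0 (by linarith)
  nlinarith

theorem b_le_two_R2_x (q x : ℕ) (hq : 2 ≤ q) (hx : q ^ 2 ≤ x)
    (hd1 : (q ^ 2 - 1) ∣ (x * q ^ 2 - 1) * (x * q + q))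
    (hd3 : (q ^ 2 - 1) ∣ (x * q ^ 2 - 1) * (x * q - 1)) :
    (x * q ^ 2 - 1) * (x * q + q) / (q ^ 2 - 1) ≤
      2 * ((x * q ^ 2 - 1) * (x * q - 1) / (q ^ 2 - 1)) := by
  have hq2 : 4 ≤ q ^ 2 := by nlinarith
  have hx4 : 4 ≤ x := le_trans hq2 hx
  have hxq : q + 2 ≤ x * q := by nlinarith
  have hB : (x * q ^ 2 - 1) * (x * q + q) / (q ^ 2 - 1) * (q ^ 2 - 1) =
      (x * q ^ 2 - 1) * (x * q + q) := Nat.div_mul_cancel hd1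
  have hR : (x * q ^ 2 - 1) * (x * q - 1) / (q ^ 2 - 1) * (q ^ 2 - 1) =
      (x * q ^ 2 - 1) * (x * q - 1) := Nat.div_mul_cancel hd3
  apply Nat.le_of_mul_le_mul_right (c := q ^ 2 - 1) _ (by omega)
  rw [hB, mul_assoc, hR, ← mul_assoc, mul_comm 2, mul_assoc]
  apply Nat.mul_le_mul_left
  omega

theorem R2_add_x (q x : ℕ) (hq : 2 ≤ q) (hx : q ^ 2 ≤ x)
    (hd1 : (q ^ 2 - 1) ∣ (x * q ^ 2 - 1) * (x * q + q))
    (hd3 : (q ^ 2 - 1) ∣ (x * q ^ 2 - 1) * (x * q - 1))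
    (hd4 : (q - 1) ∣ (x * q ^ 2 - q)) :
    (x * q ^ 2 - 1) * (x * q - 1) / (q ^ 2 - 1) + (x * q ^ 2 - q) / (q - 1) =
      (x * q ^ 2 - 1) * (x * q + q) / (q ^ 2 - 1) - 1 := by
  have hq2 : 4 ≤ q ^ 2 := by nlinarith
  have hx4 : 4 ≤ x := le_trans hq2 hx
  have hxq : 8 ≤ x * q := by nlinarith
  have hxq2 : 16 ≤ x * q ^ 2 := by nlinarith
  have hqxq2 : q ≤ x * q ^ 2 := by nlinarith
  set B := (x * q ^ 2 - 1) * (x * q + q) / (q ^ 2 - 1) with hBdef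
  set R := (x * q ^ 2 - 1) * (x * q - 1) / (q ^ 2 - 1) with hRdef
  set G := (x * q ^ 2 - q) / (q - 1) with hGdef
  have hB : B * (q ^ 2 - 1) = (x * q ^ 2 - 1) * (x * q + q) := Nat.div_mul_cancel hd1
  have hR : R * (q ^ 2 - 1) = (x * q ^ 2 - 1) * (x * q - 1) := Nat.div_mul_cancel hd3
  have hG : G * (q - 1) = x * q ^ 2 - q := Nat.div_mul_cancel hd4
  have hB1 : 1 ≤ B := by
    rcases Nat.eq_zero_or_pos B with h0 | h0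
    · exfalso
      rw [h0, zero_mul] at hB
      have h1 : 0 < (x * q ^ 2 - 1) * (x * q + q) := Nat.mul_pos (by omega) (by omega)
      omega
    · exact h0
  apply Nat.eq_of_mul_eq_mul_right (m := q ^ 2 - 1) (by omega)
  zify [hB1, (by omega : 1 ≤ q ^ 2)]
  have hBz : (B : ℤ) * ((q : ℤ) ^ 2 - 1) = ((x : ℤ) * (q : ℤ) ^ 2 - 1) * ((x : ℤ) * q + q) := by
    have := congrArg (Nat.cast : ℕ → ℤ) hB
    push_cast [(by omega : 1 ≤ q ^ 2), (by omega : 1 ≤ x * q ^ 2)] at this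
    exact this
  have hRz : (R : ℤ) * ((q : ℤ) ^ 2 - 1) = ((x : ℤ) * (q : ℤ) ^ 2 - 1) * ((x : ℤ) * q - 1) := by
    have := congrArg (Nat.cast : ℕ → ℤ) hR
    push_cast [(by omega : 1 ≤ q ^ 2), (by omega : 1 ≤ x * q ^ 2), (by omega : 1 ≤ x * q)] at this
    exact this
  have hGz : (G : ℤ) * ((q : ℤ) - 1) = (x : ℤ) * (q : ℤ) ^ 2 - q := by
    have := congrArg (Nat.cast : ℕ → ℤ) hG
    push_cast [(by omega : 1 ≤ q), hqxq2] at this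
    exact this
  linear_combination hRz + ((q : ℤ) + 1) * hGz - hBz

/-! ### the statements in terms of `n` -/

section final

variable (q n : ℕ)

theorem pow_facts (m : ℕ) (hq : 2 ≤ q) :
    q ^ (m + 3) = q ^ (m + 2) * q ∧ q ^ (m + 4) = q ^ (m + 2) * q ^ 2 ∧ q ^ 2 ≤ q ^ (m + 2) :=
  ⟨pow_succ q (m + 2), pow_add q (m + 2) 2, Nat.pow_le_pow_right (by omega) (by omega)⟩

theorem dvd_b (hq : 1 ≤ q) (hn : 1 ≤ n) :
    (q ^ 2 - 1) ∣ (q ^ n - 1) * (q ^ (n - 1) + q) := by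
  obtain ⟨k, rfl⟩ : ∃ k, n = k + 1 := ⟨n - 1, by omega⟩
  exact sq_sub_one_dvd' q k hq

theorem dvd_R2 (hn : 1 ≤ n) : (q ^ 2 - 1) ∣ (q ^ n - 1) * (q ^ (n - 1) - 1) := by
  obtain ⟨k, rfl⟩ : ∃ k, n = k + 1 := ⟨n - 1, by omega⟩
  exact sq_sub_one_dvd q k

theorem dvd_L (hn : 1 ≤ n) :
    (q ^ 2 - 1) ∣ (q ^ n - 1) * (q ^ (n - 1) + 1) * (q ^ (n - 1) - 1) * (q ^ (n - 2) + 1) := by
  have e : (q ^ n - 1) * (q ^ (n - 1) + 1) * (q ^ (n - 1) - 1) * (q ^ (n - 2) + 1) =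
      ((q ^ n - 1) * (q ^ (n - 1) - 1)) * ((q ^ (n - 1) + 1) * (q ^ (n - 2) + 1)) := by ring
  rw [e]
  exact Dvd.dvd.mul_right (dvd_R2 q n hn) _

theorem dvd_G (hn : 1 ≤ n) : (q - 1) ∣ (q ^ n - q) := by
  obtain ⟨k, rfl⟩ : ∃ k, n = k + 1 := ⟨n - 1, by omega⟩
  have : q ^ (k + 1) - q = q * (q ^ k - 1) := by
    rw [Nat.mul_sub, mul_one, pow_succ, mul_comm]
  rw [this]
  exact Dvd.dvd.mul_left (Nat.sub_one_dvd_pow_sub_one q k) _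

/-- (i): `b - 1` does not divide `q^(2n-3) |L|`. -/
theorem not_dvd (hq : 2 ≤ q) (hn : 4 ≤ n) :
    ¬ ((q ^ n - 1) * (q ^ (n - 1) + q) / (q ^ 2 - 1) - 1 ∣
      q ^ (2 * n - 3) * ((q ^ n - 1) * (q ^ (n - 1) + 1) * (q ^ (n - 1) - 1) * (q ^ (n - 2) + 1) /
        (q ^ 2 - 1))) := by
  have hd1 := dvd_b q n (by omega) (by omega)
  have hd2 := dvd_L q n (by omega)
  obtain ⟨m, rfl⟩ : ∃ m, n = m + 4 := ⟨n - 4, by omega⟩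
  obtain ⟨p3, p4, hx⟩ := pow_facts q m hq
  have e1 : m + 4 - 1 = m + 3 := rfl
  have e2 : m + 4 - 2 = m + 2 := rfl
  rw [e1, p3, p4] at hd1
  rw [e1, e2, p3, p4] at hd2
  rw [e1, e2, p3, p4]
  exact not_dvd_x q (q ^ (m + 2)) _ hq hx hd1 hd2

/-- (ii): Case A bound -/
theorem b_le_caseA (hq : 2 ≤ q) (hn : 4 ≤ n) :
    (q ^ n - 1) * (q ^ (n - 1) + q) / (q ^ 2 - 1) ≤ 2 * q ^ (n - 2) * (q ^ (n - 1) - 1) := by
  have hd1 := dvd_b q n (by omega) (by omega)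
  obtain ⟨m, rfl⟩ : ∃ m, n = m + 4 := ⟨n - 4, by omega⟩
  obtain ⟨p3, p4, hx⟩ := pow_facts q m hq
  have e1 : m + 4 - 1 = m + 3 := rfl
  have e2 : m + 4 - 2 = m + 2 := rfl
  rw [e1, p3, p4] at hd1
  rw [e1, e2, p3, p4]
  exact b_le_caseA_x q (q ^ (m + 2)) hq hx hd1

/-- (iii): Case B bound -/
theorem b_le_two_R2 (hq : 2 ≤ q) (hn : 4 ≤ n) :
    (q ^ n - 1) * (q ^ (n - 1) + q) / (q ^ 2 - 1) ≤
      2 * ((q ^ n - 1) * (q ^ (n - 1) - 1) / (q ^ 2 - 1)) := by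
  have hd1 := dvd_b q n (by omega) (by omega)
  have hd3 := dvd_R2 q n (by omega)
  obtain ⟨m, rfl⟩ : ∃ m, n = m + 4 := ⟨n - 4, by omega⟩
  obtain ⟨p3, p4, hx⟩ := pow_facts q m hq
  have e1 : m + 4 - 1 = m + 3 := rfl
  rw [e1, p3, p4] at hd1 hd3
  rw [e1, p3, p4]
  exact b_le_two_R2_x q (q ^ (m + 2)) hq hx hd1 hd3

/-- (iv): `R2 + (N_n - 1) = b - 1` -/
theorem R2_add (hq : 2 ≤ q) (hn : 4 ≤ n) :
    (q ^ n - 1) * (q ^ (n - 1) - 1) / (q ^ 2 - 1) + (q ^ n - q) / (q - 1) =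
      (q ^ n - 1) * (q ^ (n - 1) + q) / (q ^ 2 - 1) - 1 := by
  have hd1 := dvd_b q n (by omega) (by omega)
  have hd3 := dvd_R2 q n (by omega)
  have hd4 := dvd_G q n (by omega)
  obtain ⟨m, rfl⟩ : ∃ m, n = m + 4 := ⟨n - 4, by omega⟩
  obtain ⟨p3, p4, hx⟩ := pow_facts q m hq
  have e1 : m + 4 - 1 = m + 3 := rfl
  rw [e1, p3, p4] at hd1 hd3
  rw [p4] at hd4
  rw [e1, p3, p4]
  exact R2_add_x q (q ^ (m + 2)) hq hx hd1 hd3 hd4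

end final

end Cfsg.Agent.Lib.Helper8.OPMinAr
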