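import Mathlib

/-!
# Automorphisms of a power of a nonabelian simple group permute the coordinates

`Moves γ i j` : the automorphism `γ` of `ι → T` carries the `i`-th coordinate to the `j`-th one
through an automorphism of `T`.
-/

set_option autoImplicit false

namespace Cfsg.Agent.Lib.Helper8.PiSimpleAut

variable {ι : Type*} {T : Type*} [Group T]

/-- `γ` moves coordinate `i` to coordinate `j`. -/
def Moves (γ : MulAut (ι → T)) (i j : ι) : Prop :=
  ∃ β : T ≃* T, ∀ f : ι → T, γ f j = β (f i)

theorem moves_one (i : ι) : Moves (1 : MulAut (ι → T)) i i :=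
  ⟨MulEquiv.refl T, fun _ => rfl⟩

theorem Moves.mul {γ γ' : MulAut (ι → T)} {i j l : ι} (h : Moves γ' i j) (h' : Moves γ j l) :
    Moves (γ * γ') i l := by
  obtain ⟨β, hβ⟩ := h
  obtain ⟨β', hβ'⟩ := h'
  refine ⟨β.trans β', fun f => ?_⟩
  rw [MulAut.mul_apply, hβ', hβ]
  rfl

theorem Moves.inv {γ : MulAut (ι → T)} {i j : ι} (h : Moves γ i j) : Moves γ⁻¹ j i := by
  obtain ⟨β, hβ⟩ := h
  refine ⟨β.symm, fun f => ?_⟩
  have := hβ (γ⁻¹ f)
  rw [MulAut.apply_inv_self] at this
  rw [this, MulEquiv.symm_apply_apply]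

theorem mulSingle_conj [DecidableEq ι] (f : ι → T) (i : ι) (t : T) :
    f * Pi.mulSingle i t * f⁻¹ = Pi.mulSingle i (f i * t * (f i)⁻¹) := by
  funext l
  by_cases h : l = i
  · subst h; simp
  · simp [Pi.mulSingle_eq_of_ne h]

theorem mulSingle_commute_of_eq_one [DecidableEq ι] {f : ι → T} {i : ι} (hf : f i = 1) (t : T) :
    Pi.mulSingle i t * f = f * Pi.mulSingle i t := by
  funext l
  by_cases h : l = i
  · subst h; simp [hf]
  · simp [Pi.mulSingle_eq_of_ne h]

theorem center_eq_bot [IsSimpleGroup T] (hT : ¬ IsMulCommutative T) : Subgroup.center T = ⊥ := by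
  rcases IsSimpleGroup.eq_bot_or_eq_top_of_normal (Subgroup.center T) inferInstance with h | h
  · exact h
  · exfalso
    apply hT
    constructor
    constructor
    intro a b
    have : a ∈ Subgroup.center T := h ▸ Subgroup.mem_top a
    exact (Subgroup.mem_center_iff.1 this b).symm

theorem exists_ne_one [IsSimpleGroup T] : ∃ t : T, t ≠ 1 := by
  have : Nontrivial T := IsSimpleGroup.toNontrivial
  exact exists_ne 1

variable [Finite T]

/-- Key: every automorphism moves each coordinate somewhere. -/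
theorem exists_moves [DecidableEq ι] [Finite ι] [IsSimpleGroup T] (hT : ¬ IsMulCommutative T) (γ : MulAut (ι → T))
    (i : ι) : ∃ j, Moves γ i j := by
  classical
  obtain ⟨t₀, ht₀⟩ := exists_ne_one (T := T)
  set S : Subgroup (ι → T) := (MonoidHom.mulSingle (fun _ : ι => T) i).range with hS
  have hSn : S.Normal := by
    constructor
    rintro _ ⟨t, rfl⟩ f
    refine ⟨f i * t * (f i)⁻¹, ?_⟩
    simp only [MonoidHom.mulSingle_apply]
    exact (mulSingle_conj f i t).symm
  set Q : Subgroup (ι → T) := S.map γ.toMonoidHom with hQ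
  have hQn : Q.Normal := hSn.map γ.toMonoidHom γ.surjective
  set g : ι → T := γ (Pi.mulSingle i t₀) with hg
  have hgQ : g ∈ Q := ⟨Pi.mulSingle i t₀, ⟨t₀, rfl⟩, rfl⟩
  have hg1 : g ≠ 1 := by
    intro h
    have h1 : γ (Pi.mulSingle i t₀) = γ 1 := by rw [map_one]; exact h
    have h2 := γ.injective h1
    have h3 := congrFun h2 i
    simp at h3
    exact ht₀ h3
  obtain ⟨j, hj⟩ : ∃ j, g j ≠ 1 := by
    by_contra hno
    push Not at hno
    exact hg1 (funext hno)
  -- the subgroup A of t with single_j t ∈ Q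
  set A : Subgroup T := Q.comap (MonoidHom.mulSingle (fun _ : ι => T) j) with hA
  have hAn : A.Normal := hQn.comap _
  have hcen := center_eq_bot hT
  have hAne : A ≠ ⊥ := by
    obtain ⟨t, ht⟩ : ∃ t : T, g j * t ≠ t * g j := by
      by_contra hno
      push Not at hno
      have : g j ∈ Subgroup.center T := by
        rw [Subgroup.mem_center_iff]
        intro t; exact (hno t).symm
      rw [hcen, Subgroup.mem_bot] at this
      exact hj this
    intro hbot
    have hmem : g j * t * (g j)⁻¹ * t⁻¹ ∈ A := by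
      rw [hA, Subgroup.mem_comap]
      have h1 : (MonoidHom.mulSingle (fun _ : ι => T) j) (g j * t * (g j)⁻¹ * t⁻¹) =
          (g * Pi.mulSingle j t * g⁻¹) * (Pi.mulSingle j t)⁻¹ := by
        rw [mulSingle_conj]
        simp only [MonoidHom.mulSingle_apply]
        rw [← Pi.mulSingle_inv, ← Pi.mulSingle_mul]
      rw [h1]
      have h2 : g * Pi.mulSingle j t * g⁻¹ * (Pi.mulSingle j t)⁻¹ =
          g * (Pi.mulSingle j t * g⁻¹ * (Pi.mulSingle j t)⁻¹) := by group
      rw [h2]
      exact Q.mul_mem hgQ (hQn.conj_mem _ (Q.inv_mem hgQ) _)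
    rw [hbot, Subgroup.mem_bot] at hmem
    apply ht
    have : g j * t * (g j)⁻¹ = t := by
      have := mul_inv_eq_one.1 hmem
      exact this
    calc g j * t = g j * t * (g j)⁻¹ * g j := by group
      _ = t * g j := by rw [this]
  have hAtop : A = ⊤ := (IsSimpleGroup.eq_bot_or_eq_top_of_normal A hAn).resolve_left hAne
  -- S_j ≤ Q
  set Sj : Subgroup (ι → T) := (MonoidHom.mulSingle (fun _ : ι => T) j).range with hSj
  have hSjQ : Sj ≤ Q := by
    rintro _ ⟨t, rfl⟩
    have : t ∈ A := hAtop ▸ Subgroup.mem_top t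
    exact this
  have hcardS : Nat.card S = Nat.card T := by
    rw [hS]
    exact Nat.card_congr (Equiv.ofInjective _ (Pi.mulSingle_injective i)).symm
  have hcardSj : Nat.card Sj = Nat.card T := by
    rw [hSj]
    exact Nat.card_congr (Equiv.ofInjective _ (Pi.mulSingle_injective j)).symm
  have hcardQ : Nat.card Q = Nat.card T := by
    rw [hQ, Subgroup.card_map_of_injective γ.injective, hcardS]
  have hQeq : Sj = Q := Subgroup.eq_of_le_of_card_ge hSjQ (by rw [hcardQ, hcardSj])
  -- step d
  have hd : ∀ f : ι → T, f i = 1 → γ f j = 1 := by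
    intro f hf
    have : γ f j ∈ Subgroup.center T := by
      rw [Subgroup.mem_center_iff]
      intro t
      have htQ : Pi.mulSingle j t ∈ Q := hSjQ ⟨t, rfl⟩
      obtain ⟨s', ⟨s, rfl⟩, hs⟩ := htQ
      simp only [MonoidHom.mulSingle_apply] at hs
      have hc := mulSingle_commute_of_eq_one hf s
      have hc' : γ (Pi.mulSingle i s) * γ f = γ f * γ (Pi.mulSingle i s) := by
        rw [← map_mul, ← map_mul, hc]
      have hs' : γ (Pi.mulSingle i s) = Pi.mulSingle j t := hs
      rw [hs'] at hc'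
      have := congrFun hc' j
      simpa using this
    rw [hcen, Subgroup.mem_bot] at this
    exact this
  -- β
  let β₀ : T →* T := (Pi.evalMonoidHom (fun _ : ι => T) j).comp
    (γ.toMonoidHom.comp (MonoidHom.mulSingle (fun _ : ι => T) i))
  have hβ₀ : ∀ s, β₀ s = γ (Pi.mulSingle i s) j := fun s => rfl
  have hform : ∀ f : ι → T, γ f j = β₀ (f i) := by
    intro f
    set f' : ι → T := (Pi.mulSingle i (f i))⁻¹ * f with hf'
    have hf'i : f' i = 1 := by simp [hf']
    have hf : f = Pi.mulSingle i (f i) * f' := by rw [hf']; group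
    conv_lhs => rw [hf]
    rw [map_mul, Pi.mul_apply, hd f' hf'i, mul_one, hβ₀]
  have hinj : Function.Injective β₀ := by
    rw [injective_iff_map_eq_one]
    intro s hs
    have hmem : γ (Pi.mulSingle i s) ∈ Sj := by
      rw [hQeq]; exact ⟨Pi.mulSingle i s, ⟨s, rfl⟩, rfl⟩
    obtain ⟨t, ht⟩ := hmem
    simp only [MonoidHom.mulSingle_apply] at ht
    have h1 : t = 1 := by
      have := congrFun ht j
      rw [Pi.mulSingle_eq_same] at this
      rw [this, ← hβ₀, hs]
    rw [h1, Pi.mulSingle_one] at ht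
    have h2 : γ (Pi.mulSingle i s) = γ 1 := by rw [map_one, ← ht]
    have h3 := congrFun (γ.injective h2) i
    simpa using h3
  have hbij : Function.Bijective β₀ := Finite.injective_iff_bijective.1 hinj
  exact ⟨j, MulEquiv.ofBijective β₀ hbij, fun f => by rw [hform]; rfl⟩

theorem exists_moves_to [DecidableEq ι] [Finite ι] [IsSimpleGroup T] (hT : ¬ IsMulCommutative T)
    (γ : MulAut (ι → T)) (j : ι) : ∃ i, Moves γ i j := by
  obtain ⟨i, hi⟩ := exists_moves hT γ⁻¹ j
  refine ⟨i, ?_⟩
  have := hi.inv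
  rwa [inv_inv] at this

omit [Finite T] in
theorem Moves.source_unique [DecidableEq ι] [IsSimpleGroup T] {γ : MulAut (ι → T)} {i i' j : ι}
    (h : Moves γ i j) (h' : Moves γ i' j) : i = i' := by
  by_contra hne
  obtain ⟨β, hβ⟩ := h
  obtain ⟨β', hβ'⟩ := h'
  obtain ⟨t, ht⟩ := exists_ne_one (T := T)
  have h1 := hβ (Pi.mulSingle i t)
  have h2 := hβ' (Pi.mulSingle i t)
  rw [Pi.mulSingle_eq_same] at h1
  rw [Pi.mulSingle_eq_of_ne (Ne.symm hne), map_one] at h2
  rw [h2] at h1
  have : t = 1 := by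
    have := h1.symm
    rwa [MulEquiv.map_eq_one_iff] at this
  exact ht this

end Cfsg.Agent.Lib.Helper8.PiSimpleAut
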