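import Mathlib
import Cfsg.Agent.Lib.Helper8.PiSimpleAut

/-!
# Core of O'Nan–Scott, abstract form

`P = Fin m → T`, `T` nonabelian finite simple, `Γ ≤ Aut P`, `D ≤ P` a proper `Γ`-invariant
subgroup, maximal among `Γ`-invariant subgroups, with no nontrivial proper `Γ`-invariant normal
subgroup of `P`.  Then `D` is a product of proper subgroups or a product of diagonals over blocks
of equal size.
-/

set_option autoImplicit false

namespace Cfsg.Agent.Lib.Helper8.OnanScottCore

open Cfsg.Agent.Lib.Helper8.PiSimpleAut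
open scoped commutatorElement

variable {m : ℕ} {T : Type*} [Group T]

structure Hyp (Γ : Subgroup (MulAut (Fin m → T))) (D : Subgroup (Fin m → T)) : Prop where
  ne_top : D ≠ ⊤
  inv : ∀ γ ∈ Γ, ∀ d ∈ D, γ d ∈ D
  max : ∀ X : Subgroup (Fin m → T), D ≤ X → (∀ γ ∈ Γ, ∀ x ∈ X, γ x ∈ X) → X = D ∨ X = ⊤
  irr : ∀ M : Subgroup (Fin m → T), M.Normal → (∀ γ ∈ Γ, ∀ x ∈ M, γ x ∈ M) → M = ⊥ ∨ M = ⊤

/-- projection of `D` to coordinate `i` -/
def proj (D : Subgroup (Fin m → T)) (i : Fin m) : Subgroup T :=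
  D.map (Pi.evalMonoidHom (fun _ : Fin m => T) i)

theorem mem_proj {D : Subgroup (Fin m → T)} {i : Fin m} {t : T} :
    t ∈ proj D i ↔ ∃ d ∈ D, d i = t := by
  unfold proj
  rw [Subgroup.mem_map]
  rfl

/-- functions supported on `O` -/
def supp (O : Set (Fin m)) : Subgroup (Fin m → T) where
  carrier := {f | ∀ l, l ∉ O → f l = 1}
  mul_mem' := by
    intro a b ha hb l hl
    simp [ha l hl, hb l hl]
  one_mem' := by intro l _; rfl
  inv_mem' := by
    intro a ha l hl
    simp [ha l hl]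

theorem supp_normal (O : Set (Fin m)) : (supp (T := T) O).Normal := by
  constructor
  intro n hn g l hl
  have := hn l hl
  simp [this]

variable [Finite T] [IsSimpleGroup T]

theorem trans_of_hyp (hT : ¬ IsMulCommutative T) {Γ : Subgroup (MulAut (Fin m → T))}
    {D : Subgroup (Fin m → T)} (h : Hyp Γ D) (i j : Fin m) : ∃ γ ∈ Γ, Moves γ i j := by
  classical
  set O : Set (Fin m) := {j | ∃ γ ∈ Γ, Moves γ i j} with hO
  have hiO : i ∈ O := ⟨1, Γ.one_mem, moves_one i⟩
  have hinv : ∀ γ ∈ Γ, ∀ x ∈ supp (T := T) O, γ x ∈ supp (T := T) O := by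
    intro γ hγ x hx l hl
    obtain ⟨i', β, hβ⟩ := exists_moves_to hT γ l
    have hi' : i' ∉ O := by
      rintro ⟨γ', hγ', hm⟩
      exact hl ⟨γ * γ', Γ.mul_mem hγ hγ', hm.mul ⟨β, hβ⟩⟩
    rw [hβ, hx i' hi', map_one]
  obtain ⟨t₀, ht₀⟩ := exists_ne_one (T := T)
  have hne : supp (T := T) O ≠ ⊥ := by
    intro hbot
    have hmem : Pi.mulSingle i t₀ ∈ supp (T := T) O := by
      intro l hl
      have : l ≠ i := fun h => hl (h ▸ hiO)
      exact Pi.mulSingle_eq_of_ne this _
    rw [hbot, Subgroup.mem_bot] at hmem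
    have := congrFun hmem i
    simp at this
    exact ht₀ this
  have htop := (h.irr _ (supp_normal O) hinv).resolve_left hne
  by_contra hj
  have hjO : j ∉ O := hj
  have hmem : Pi.mulSingle j t₀ ∈ supp (T := T) O := htop ▸ Subgroup.mem_top _
  have := hmem j hjO
  simp at this
  exact ht₀ this

omit [Finite T] [IsSimpleGroup T] in
theorem proj_top_of_moves {Γ : Subgroup (MulAut (Fin m → T))}
    {D : Subgroup (Fin m → T)} (h : Hyp Γ D) {γ : MulAut (Fin m → T)} (hγ : γ ∈ Γ) {i j : Fin m}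
    (hm : Moves γ i j) (hi : proj D i = ⊤) : proj D j = ⊤ := by
  rw [eq_top_iff]
  intro t _
  obtain ⟨β, hβ⟩ := hm
  obtain ⟨s, rfl⟩ := β.surjective t
  have hs : s ∈ proj D i := hi ▸ Subgroup.mem_top s
  obtain ⟨d, hd, rfl⟩ := mem_proj.1 hs
  exact mem_proj.2 ⟨γ d, h.inv γ hγ d hd, hβ d⟩

omit [Finite T] [IsSimpleGroup T] in
theorem mem_proj_of_moves {Γ : Subgroup (MulAut (Fin m → T))}
    {D : Subgroup (Fin m → T)} (h : Hyp Γ D) {γ : MulAut (Fin m → T)} (hγ : γ ∈ Γ) {i j : Fin m}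
    {β : T ≃* T} (hβ : ∀ f : Fin m → T, γ f j = β (f i)) {t : T} (ht : t ∈ proj D i) :
    β t ∈ proj D j := by
  obtain ⟨d, hd, rfl⟩ := mem_proj.1 ht
  exact mem_proj.2 ⟨γ d, h.inv γ hγ d hd, hβ d⟩

/-- Case 1: product of proper subgroups. -/
theorem case_product (hT : ¬ IsMulCommutative T) {Γ : Subgroup (MulAut (Fin m → T))}
    {D : Subgroup (Fin m → T)} (h : Hyp Γ D) (hne : ∀ i, proj D i ≠ ⊤) (i₀ : Fin m) :
    ∀ f : Fin m → T, f ∈ D ↔ ∀ i, f i ∈ proj D i := by
  classical
  set X : Subgroup (Fin m → T) := Subgroup.pi Set.univ (proj D) with hX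
  have hDX : D ≤ X := by
    intro d hd
    rw [hX, Subgroup.mem_pi]
    intro i _
    exact mem_proj.2 ⟨d, hd, rfl⟩
  have hinv : ∀ γ ∈ Γ, ∀ x ∈ X, γ x ∈ X := by
    intro γ hγ x hx
    rw [hX, Subgroup.mem_pi] at hx ⊢
    intro l _
    obtain ⟨i, β, hβ⟩ := exists_moves_to hT γ l
    rw [hβ]
    exact mem_proj_of_moves h hγ hβ (hx i (Set.mem_univ i))
  have hXtop : X ≠ ⊤ := by
    intro htop
    apply hne i₀
    rw [eq_top_iff]
    intro t _
    have hmem : Pi.mulSingle i₀ t ∈ X := htop ▸ Subgroup.mem_top _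
    rw [hX, Subgroup.mem_pi] at hmem
    have := hmem i₀ (Set.mem_univ _)
    simpa using this
  have hXD : X = D := (h.max X hDX hinv).resolve_right hXtop
  intro f
  constructor
  · intro hf i
    exact mem_proj.2 ⟨f, hf, rfl⟩
  · intro hf
    have hfX : f ∈ X := by
      rw [hX, Subgroup.mem_pi]
      intro i _
      exact hf i
    rw [hXD] at hfX
    exact hfX

/-! ### The diagonal case -/

/-- coordinates `i`, `j` are linked in `D` -/
def rel (D : Subgroup (Fin m → T)) (i j : Fin m) : Prop :=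
  ∀ d ∈ D, d i = 1 ↔ d j = 1

omit [Finite T] [IsSimpleGroup T] in
theorem rel_refl (D : Subgroup (Fin m → T)) (i : Fin m) : rel D i i := fun _ _ => Iff.rfl

omit [Finite T] [IsSimpleGroup T] in
theorem rel_symm {D : Subgroup (Fin m → T)} {i j : Fin m} (h : rel D i j) : rel D j i :=
  fun d hd => (h d hd).symm

omit [Finite T] [IsSimpleGroup T] in
theorem rel_trans {D : Subgroup (Fin m → T)} {i j l : Fin m} (h : rel D i j) (h' : rel D j l) :
    rel D i l := fun d hd => (h d hd).trans (h' d hd)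

def relSetoid (D : Subgroup (Fin m → T)) : Setoid (Fin m) where
  r := rel D
  iseqv := ⟨rel_refl D, rel_symm, rel_trans⟩

/-- the subgroup of functions agreeing with `D` on every linked pair -/
def diag (D : Subgroup (Fin m → T)) : Subgroup (Fin m → T) where
  carrier := {f | ∀ i j, rel D i j → ∃ d ∈ D, d i = f i ∧ d j = f j}
  mul_mem' := by
    intro a b ha hb i j hij
    obtain ⟨d, hd, h1, h2⟩ := ha i j hij
    obtain ⟨d', hd', h1', h2'⟩ := hb i j hij
    exact ⟨d * d', D.mul_mem hd hd', by simp [h1, h1'], by simp [h2, h2']⟩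
  one_mem' := by
    intro i j _
    exact ⟨1, D.one_mem, rfl, rfl⟩
  inv_mem' := by
    intro a ha i j hij
    obtain ⟨d, hd, h1, h2⟩ := ha i j hij
    exact ⟨d⁻¹, D.inv_mem hd, by simp [h1], by simp [h2]⟩

omit [Finite T] [IsSimpleGroup T] in
theorem le_diag (D : Subgroup (Fin m → T)) : D ≤ diag D :=
  fun d hd _ _ _ => ⟨d, hd, rfl, rfl⟩

omit [Finite T] [IsSimpleGroup T] in
theorem rel_of_moves {Γ : Subgroup (MulAut (Fin m → T))}
    {D : Subgroup (Fin m → T)} (h : Hyp Γ D) {γ : MulAut (Fin m → T)} (hγ : γ ∈ Γ)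
    {i i' l l' : Fin m} (hm : Moves γ i l) (hm' : Moves γ i' l') (hl : rel D l l') :
    rel D i i' := by
  obtain ⟨β, hβ⟩ := hm
  obtain ⟨β', hβ'⟩ := hm'
  intro d hd
  have h1 := hl (γ d) (h.inv γ hγ d hd)
  rw [hβ, hβ', MulEquiv.map_eq_one_iff, MulEquiv.map_eq_one_iff] at h1
  exact h1

omit [Finite T] [IsSimpleGroup T] in
theorem rel_of_moves' {Γ : Subgroup (MulAut (Fin m → T))}
    {D : Subgroup (Fin m → T)} (h : Hyp Γ D) {γ : MulAut (Fin m → T)} (hγ : γ ∈ Γ)
    {i i' l l' : Fin m} (hm : Moves γ i l) (hm' : Moves γ i' l') (hi : rel D i i') :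
    rel D l l' := by
  have h1 := hm.inv
  have h2 := hm'.inv
  exact rel_of_moves h (Γ.inv_mem hγ) h1 h2 hi

theorem diag_inv (hT : ¬ IsMulCommutative T) {Γ : Subgroup (MulAut (Fin m → T))}
    {D : Subgroup (Fin m → T)} (h : Hyp Γ D) : ∀ γ ∈ Γ, ∀ x ∈ diag D, γ x ∈ diag D := by
  intro γ hγ x hx l l' hl
  obtain ⟨i, hm⟩ := exists_moves_to hT γ l
  obtain ⟨i', hm'⟩ := exists_moves_to hT γ l'
  have hii' := rel_of_moves h hγ hm hm' hl
  obtain ⟨d, hd, h1, h2⟩ := hx i i' hii'
  obtain ⟨β, hβ⟩ := hm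
  obtain ⟨β', hβ'⟩ := hm'
  exact ⟨γ d, h.inv γ hγ d hd, by rw [hβ, hβ, h1], by rw [hβ', hβ', h2]⟩

omit [Finite T] in
theorem diag_ne_top {D : Subgroup (Fin m → T)} {i j : Fin m} (hij : i ≠ j) (hr : rel D i j) :
    diag D ≠ ⊤ := by
  classical
  intro htop
  obtain ⟨t₀, ht₀⟩ := exists_ne_one (T := T)
  have hmem : Pi.mulSingle i t₀ ∈ diag D := htop ▸ Subgroup.mem_top _
  obtain ⟨d, hd, h1, h2⟩ := hmem i j hr
  rw [Pi.mulSingle_eq_same] at h1
  rw [Pi.mulSingle_eq_of_ne (Ne.symm hij)] at h2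
  have := (hr d hd).2 h2
  rw [h1] at this
  exact ht₀ this


/-! ### evaluation homs on `D` -/

/-- evaluation at `i` restricted to `D` -/
def ev (D : Subgroup (Fin m → T)) (i : Fin m) : D →* T :=
  (Pi.evalMonoidHom (fun _ : Fin m => T) i).comp D.subtype

omit [Finite T] [IsSimpleGroup T] in
theorem ev_apply (D : Subgroup (Fin m → T)) (i : Fin m) (d : D) : ev D i d = (d : Fin m → T) i := rfl

omit [Finite T] [IsSimpleGroup T] in
theorem ev_surjective {D : Subgroup (Fin m → T)} {i : Fin m} (hi : proj D i = ⊤) :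
    Function.Surjective (ev D i) := by
  intro t
  have : t ∈ proj D i := hi ▸ Subgroup.mem_top t
  obtain ⟨d, hd, rfl⟩ := mem_proj.1 this
  exact ⟨⟨d, hd⟩, rfl⟩

omit [Finite T] [IsSimpleGroup T] in
theorem card_ker_ev {D : Subgroup (Fin m → T)} {i : Fin m} (hi : proj D i = ⊤) :
    Nat.card D = Nat.card T * Nat.card (ev D i).ker := by
  rw [Subgroup.card_eq_card_quotient_mul_card_subgroup (ev D i).ker]
  congr 1
  exact Nat.card_congr (QuotientGroup.quotientKerEquivOfSurjective (ev D i) (ev_surjective hi)).toEquiv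

omit [IsSimpleGroup T] in
theorem rel_of_forall {D : Subgroup (Fin m → T)} {i j : Fin m} (hi : proj D i = ⊤)
    (hj : proj D j = ⊤) (h : ∀ d ∈ D, d i = 1 → d j = 1) : rel D i j := by
  have hle : (ev D i).ker ≤ (ev D j).ker := by
    intro d hd
    rw [MonoidHom.mem_ker, ev_apply] at hd ⊢
    exact h d d.2 hd
  have hcard : Nat.card (ev D j).ker ≤ Nat.card (ev D i).ker := by
    have h1 := card_ker_ev hi
    have h2 := card_ker_ev hj
    rw [h1] at h2
    have hpos : 0 < Nat.card T := Nat.card_pos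
    exact le_of_eq (Nat.eq_of_mul_eq_mul_left hpos h2).symm
  have heq : (ev D i).ker = (ev D j).ker := Subgroup.eq_of_le_of_card_ge hle hcard
  intro d hd
  constructor
  · exact h d hd
  · intro hdj
    have : (⟨d, hd⟩ : D) ∈ (ev D j).ker := by
      rw [MonoidHom.mem_ker, ev_apply]; exact hdj
    rw [← heq, MonoidHom.mem_ker, ev_apply] at this
    exact this

theorem exists_partial {D : Subgroup (Fin m → T)} (hall : ∀ i, proj D i = ⊤)
    (hsing : ∀ i j, rel D i j → i = j) {i j : Fin m} (hij : i ≠ j) (t : T) :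
    ∃ d ∈ D, d i = 1 ∧ d j = t := by
  set N : Subgroup T := ((ev D i).ker).map (ev D j) with hN
  have hNn : N.Normal := (MonoidHom.normal_ker (ev D i)).map _ (ev_surjective (hall j))
  have hNne : N ≠ ⊥ := by
    intro hbot
    apply hij
    apply hsing
    apply rel_of_forall (hall i) (hall j)
    intro d hd hdi
    have : ev D j ⟨d, hd⟩ ∈ N := by
      refine ⟨⟨d, hd⟩, ?_, rfl⟩
      show (⟨d, hd⟩ : D) ∈ (ev D i).ker
      rw [MonoidHom.mem_ker, ev_apply]; exact hdi
    rw [hbot, Subgroup.mem_bot, ev_apply] at this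
    exact this
  have hNtop : N = ⊤ := (IsSimpleGroup.eq_bot_or_eq_top_of_normal N hNn).resolve_left hNne
  have : t ∈ N := hNtop ▸ Subgroup.mem_top t
  obtain ⟨d, hd, rfl⟩ := this
  have hd' : (d : Fin m → T) i = 1 := by
    have : d ∈ (ev D i).ker := hd
    rw [MonoidHom.mem_ker, ev_apply] at this
    exact this
  exact ⟨d, d.2, hd', rfl⟩

omit [Finite T] in
theorem commutator_eq_top (hT : ¬ IsMulCommutative T) : commutator T = ⊤ := by
  rcases IsSimpleGroup.eq_bot_or_eq_top_of_normal (commutator T) inferInstance with h | h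
  · exfalso
    apply hT
    constructor
    constructor
    intro a b
    have : ⁅a, b⁆ ∈ commutator T := by
      rw [commutator_eq_closure]
      exact Subgroup.subset_closure ⟨a, b, rfl⟩
    rw [h, Subgroup.mem_bot] at this
    exact (commutatorElement_eq_one_iff_commute.1 this).eq
  · exact h

theorem exists_supported (hT : ¬ IsMulCommutative T) {D : Subgroup (Fin m → T)}
    (hall : ∀ i, proj D i = ⊤) (hsing : ∀ i j, rel D i j → i = j) (j : Fin m) :
    ∀ I : Finset (Fin m), j ∉ I → ∀ t : T, ∃ d ∈ D, d j = t ∧ ∀ i ∈ I, d i = 1 := by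
  classical
  intro I
  induction I using Finset.induction_on with
  | empty =>
    intro _ t
    have : t ∈ proj D j := hall j ▸ Subgroup.mem_top t
    obtain ⟨d, hd, rfl⟩ := mem_proj.1 this
    exact ⟨d, hd, rfl, by simp⟩
  | insert i I hiI ih =>
    intro hj t
    have hji : j ≠ i := fun h => hj (h ▸ Finset.mem_insert_self _ _)
    have hjI : j ∉ I := fun h => hj (Finset.mem_insert_of_mem h)
    let S : Subgroup T :=
      { carrier := {t | ∃ d ∈ D, d j = t ∧ ∀ i' ∈ insert i I, d i' = 1}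
        mul_mem' := by
          rintro a b ⟨d, hd, h1, h2⟩ ⟨d', hd', h1', h2'⟩
          refine ⟨d * d', D.mul_mem hd hd', by simp [h1, h1'], ?_⟩
          intro i' hi'
          simp [h2 i' hi', h2' i' hi']
        one_mem' := ⟨1, D.one_mem, rfl, fun _ _ => rfl⟩
        inv_mem' := by
          rintro a ⟨d, hd, h1, h2⟩
          refine ⟨d⁻¹, D.inv_mem hd, by simp [h1], ?_⟩
          intro i' hi'
          simp [h2 i' hi'] }
    have hS : commutator T ≤ S := by
      rw [commutator_eq_closure, Subgroup.closure_le]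
      rintro _ ⟨a, b, rfl⟩
      obtain ⟨d, hd, h1, h2⟩ := ih hjI a
      obtain ⟨d', hd', h1', h2'⟩ := exists_partial hall hsing (Ne.symm hji) b
      refine ⟨d * d' * d⁻¹ * d'⁻¹,
        D.mul_mem (D.mul_mem (D.mul_mem hd hd') (D.inv_mem hd)) (D.inv_mem hd'), ?_, ?_⟩
      · simp [commutatorElement_def, h1, h2']
      · intro i' hi'
        rcases Finset.mem_insert.1 hi' with rfl | hi''
        · simp [h1']
        · simp [h2 i' hi'']
    have : t ∈ S := hS (commutator_eq_top hT ▸ Subgroup.mem_top t)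
    exact this

theorem eq_top_of_singletons (hT : ¬ IsMulCommutative T) {D : Subgroup (Fin m → T)}
    (hall : ∀ i, proj D i = ⊤) (hsing : ∀ i j, rel D i j → i = j) : D = ⊤ := by
  classical
  rw [eq_top_iff, ← Subgroup.pi_top (Set.univ : Set (Fin m)), Subgroup.pi_le_iff]
  rintro j _ ⟨t, -, rfl⟩
  obtain ⟨d, hd, h1, h2⟩ := exists_supported hT hall hsing j (Finset.univ.erase j)
    (Finset.notMem_erase j _) t
  have : d = Pi.mulSingle j t := by
    funext l
    by_cases hl : l = j
    · subst hl; simp [h1]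
    · rw [Pi.mulSingle_eq_of_ne hl]
      exact h2 l (Finset.mem_erase.2 ⟨hl, Finset.mem_univ _⟩)
  simp only [MonoidHom.mulSingle_apply]
  rw [← this]
  exact hd


/-! ### linked coordinates give automorphisms -/

omit [Finite T] [IsSimpleGroup T] in
theorem exists_equiv_of_rel {D : Subgroup (Fin m → T)} {i j : Fin m} (hi : proj D i = ⊤)
    (hj : proj D j = ⊤) (h : rel D i j) : ∃ φ : T ≃* T, ∀ d ∈ D, φ (d i) = d j := by
  have hker : (ev D i).ker = (ev D j).ker := by
    ext d
    rw [MonoidHom.mem_ker, MonoidHom.mem_ker, ev_apply, ev_apply]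
    exact h d d.2
  let e1 := QuotientGroup.quotientKerEquivOfSurjective (ev D i) (ev_surjective hi)
  let e2 := QuotientGroup.quotientKerEquivOfSurjective (ev D j) (ev_surjective hj)
  let e3 := QuotientGroup.quotientMulEquivOfEq hker
  refine ⟨e1.symm.trans (e3.trans e2), ?_⟩
  intro d hd
  have h1 : e1.symm (d i) = QuotientGroup.mk (⟨d, hd⟩ : D) := by
    rw [MulEquiv.symm_apply_eq]
    rfl
  simp only [MulEquiv.trans_apply]
  rw [h1]
  rfl

section diagcase

variable {Γ : Subgroup (MulAut (Fin m → T))} {D : Subgroup (Fin m → T)}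

/-- canonical representative of the class of `i` -/
noncomputable def rep (D : Subgroup (Fin m → T)) (i : Fin m) : Fin m :=
  (Quotient.mk (relSetoid D) i).out

omit [Finite T] [IsSimpleGroup T] in
theorem rel_rep (D : Subgroup (Fin m → T)) (i : Fin m) : rel D (rep D i) i :=
  Quotient.mk_out (s := relSetoid D) i

omit [Finite T] [IsSimpleGroup T] in
theorem rep_eq_iff (D : Subgroup (Fin m → T)) (i j : Fin m) : rep D i = rep D j ↔ rel D i j := by
  constructor
  · intro h
    have h1 := rel_rep D i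
    have h2 := rel_rep D j
    rw [h] at h1
    exact rel_trans (rel_symm h1) h2
  · intro h
    unfold rep
    have : (Quotient.mk (relSetoid D) i) = Quotient.mk (relSetoid D) j := Quotient.sound h
    rw [this]

theorem card_class_le (hT : ¬ IsMulCommutative T) (h : Hyp Γ D) {γ : MulAut (Fin m → T)}
    (hγ : γ ∈ Γ) {l l' : Fin m} (hm : Moves γ l l') :
    Nat.card {i // rep D i = rep D l} ≤ Nat.card {i // rep D i = rep D l'} := by
  classical
  have hσ : ∀ i : Fin m, ∃ j, Moves γ i j := fun i => exists_moves hT γ i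
  choose σ hσ' using hσ
  let g : {i // rep D i = rep D l} → {i // rep D i = rep D l'} := fun i =>
    ⟨σ i.1, by
      rw [rep_eq_iff]
      exact rel_of_moves' h hγ (hσ' i.1) hm ((rep_eq_iff D _ _).1 i.2)⟩
  apply Nat.card_le_card_of_injective g
  intro a b hab
  have : σ a.1 = σ b.1 := congrArg Subtype.val hab
  have h1 := hσ' a.1
  have h2 := hσ' b.1
  rw [this] at h1
  exact Subtype.ext (h1.source_unique h2)

theorem card_class_eq (hT : ¬ IsMulCommutative T) (h : Hyp Γ D) (l l' : Fin m) :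
    Nat.card {i // rep D i = rep D l} = Nat.card {i // rep D i = rep D l'} := by
  obtain ⟨γ, hγ, hm⟩ := trans_of_hyp hT h l l'
  obtain ⟨γ', hγ', hm'⟩ := trans_of_hyp hT h l' l
  exact le_antisymm (card_class_le hT h hγ hm) (card_class_le hT h hγ' hm')

/-- Case 2: product of diagonals. -/
theorem case_diag (hT : ¬ IsMulCommutative T) (h : Hyp Γ D) (hall : ∀ i, proj D i = ⊤)
    {i₀ j₀ : Fin m} (hne : i₀ ≠ j₀) (hr : rel D i₀ j₀) :
    ∃ (ψ : Fin m → T ≃* T) (k : ℕ) (c : Fin m → Fin m), 2 ≤ k ∧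
      (∀ j : Fin m, Nat.card {i : Fin m // c i = j} = k ∨ Nat.card {i : Fin m // c i = j} = 0) ∧
      ∀ f : Fin m → T, f ∈ D ↔ ∀ i j : Fin m, c i = c j → ψ i (f i) = ψ j (f j) := by
  classical
  have hDd : diag D = D :=
    (h.max (diag D) (le_diag D) (diag_inv hT h)).resolve_right (diag_ne_top hne hr)
  have hψ : ∀ i : Fin m, ∃ φ : T ≃* T, ∀ d ∈ D, φ (d i) = d (rep D i) := fun i =>
    exists_equiv_of_rel (hall i) (hall (rep D i)) (rel_symm (rel_rep D i))
  choose ψ hψ' using hψ
  refine ⟨ψ, Nat.card {i // rep D i = rep D i₀}, rep D, ?_, ?_, ?_⟩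
  · -- at least two elements
    have : Nat.card (Fin 2) ≤ Nat.card {i // rep D i = rep D i₀} := by
      let g : Fin 2 → {i // rep D i = rep D i₀} := fun x =>
        if x = 0 then ⟨i₀, rfl⟩ else ⟨j₀, ((rep_eq_iff D _ _).2 hr).symm⟩
      apply Nat.card_le_card_of_injective g
      intro a b hab
      fin_cases a <;> fin_cases b <;> simp [g] at hab ⊢
      · exact absurd hab hne
      · exact absurd hab.symm hne
    simpa using this
  · intro j
    by_cases hj : ∃ i₁, rep D i₁ = j
    · left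
      obtain ⟨i₁, rfl⟩ := hj
      exact card_class_eq hT h i₁ i₀
    · right
      push Not at hj
      have : IsEmpty {i : Fin m // rep D i = j} := ⟨fun x => hj x.1 x.2⟩
      exact Nat.card_of_isEmpty
  · intro f
    constructor
    · intro hf i j hij
      have hfd : f ∈ diag D := le_diag D hf
      rw [hψ' i f hf, hψ' j f hf, hij]
    · intro hf
      rw [← hDd]
      intro i j hij
      have hrep : rep D i = rep D j := (rep_eq_iff D i j).2 hij
      have hsurj := ev_surjective (hall (rep D i))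
      obtain ⟨d, hd⟩ := hsurj (ψ i (f i))
      rw [ev_apply] at hd
      refine ⟨d, d.2, ?_, ?_⟩
      · have h1 := hψ' i d d.2
        rw [hd] at h1
        exact (ψ i).injective h1
      · have h1 := hψ' j d d.2
        rw [← hrep, hd, hf i j hrep] at h1
        exact (ψ j).injective h1

end diagcase

/-- **Abstract core of O'Nan–Scott.** -/
theorem core (hT : ¬ IsMulCommutative T) (hm : 0 < m) {Γ : Subgroup (MulAut (Fin m → T))}
    {D : Subgroup (Fin m → T)} (h : Hyp Γ D) :
    (∃ K : Fin m → Subgroup T, (∀ i, K i ≠ ⊤) ∧ ∀ f : Fin m → T, f ∈ D ↔ ∀ i, f i ∈ K i) ∨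
    (∃ (ψ : Fin m → T ≃* T) (k : ℕ) (c : Fin m → Fin m), 2 ≤ k ∧
      (∀ j : Fin m, Nat.card {i : Fin m // c i = j} = k ∨ Nat.card {i : Fin m // c i = j} = 0) ∧
      ∀ f : Fin m → T, f ∈ D ↔ ∀ i j : Fin m, c i = c j → ψ i (f i) = ψ j (f j)) := by
  set i₀ : Fin m := ⟨0, hm⟩ with hi₀
  by_cases h0 : proj D i₀ = ⊤
  · right
    have hall : ∀ i, proj D i = ⊤ := by
      intro i
      obtain ⟨γ, hγ, hmv⟩ := trans_of_hyp hT h i₀ i
      exact proj_top_of_moves h hγ hmv h0
    by_cases hs : ∃ i j : Fin m, i ≠ j ∧ rel D i j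
    · obtain ⟨i, j, hij, hr⟩ := hs
      exact case_diag hT h hall hij hr
    · exfalso
      push Not at hs
      apply h.ne_top
      apply eq_top_of_singletons hT hall
      intro i j hr
      by_contra hij
      exact hs i j hij hr
  · left
    have hne : ∀ i, proj D i ≠ ⊤ := by
      intro i hi
      obtain ⟨γ, hγ, hmv⟩ := trans_of_hyp hT h i i₀
      exact h0 (proj_top_of_moves h hγ hmv hi)
    exact ⟨proj D, hne, case_product hT h hne i₀⟩

end Cfsg.Agent.Lib.Helper8.OnanScottCore
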