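/-
helper8: weak Brauer–Feit bound for the principal block, from the DONE row S4426 (helper23
`height_zero_iff_inner_valuation`): the trivial character has height zero in `B₀`, so every
`[p^a·1_{p-regular}, ξ]`, `ξ ∈ B₀`, is a NONZERO integer; Parseval gives
`k(B₀) ≤ [1̃, 1̃] ≤ p^(2a)`.  With one block only, `k(G) ≤ p^(2a)`.
-/
import Mathlib
import Cfsg.Agent.Lib.Helper23.HeightZeroC
import Cfsg.Agent.Lib.Helper24.RootC
import Cfsg.Agent.Lib.Lead.BlockBasic
import Cfsg.Agent.Lib.Lead.CharMain

set_option autoImplicit false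

namespace Cfsg.Agent.Lib.Helper8.OneBlockBound

open Cfsg Cfsg.Agent.CharLib Cfsg.Agent.Lib.Helper24 Cfsg.Agent.Lib.Helper6 Cfsg.Agent.Lib.Helper23
open scoped ComplexConjugate

universe u

variable {G : Type u} [Group G] [Finite G]

/-- **weak Brauer–Feit for the principal block**: `k(B₀) ≤ p^(2a)`. -/
theorem card_principalBlock_le (p : ℕ) [Fact p.Prime] (M : Ideal AlgInt) (hM : IsPModular p M) :
    Nat.card ↥(principalBlock M G) ≤ (p ^ (Nat.card G).factorization p) ^ 2 := by
  classical
  letI : Fintype G := Fintype.ofFinite G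
  letI : Fintype (IrrCharacter G) := fintypeIrr G
  haveI hprime : M.IsPrime := isPrime_of_isPModular hM
  set P : ℕ := p ^ (Nat.card G).factorization p with hP
  have hB0 : IsPBlock M (principalBlock M G) := ⟨trivIrr G, rfl⟩
  have h1mem : trivIrr G ∈ principalBlock M G := by
    intro g
    have : centralChar (fun _ : G => (1 : ℂ)) g -
        centralChar ((trivIrr G : IrrCharacter G) : G → ℂ) g = 0 := sub_self _
    rw [this]
    exact memLocalIdeal_zero hprime.one_notMem
  have hh0 : blockHeight p (principalBlock M G) ((trivIrr G : IrrCharacter G) : G → ℂ) = 0 := by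
    unfold blockHeight
    have hd : charDegree ((trivIrr G : IrrCharacter G) : G → ℂ) = 1 :=
      charDegree_eq_of_apply_one (d := 1) (by simp [trivIrr])
    rw [hd, Nat.factorization_one]
    simp
  set f : G → ℂ := tildeFun p ((trivIrr G : IrrCharacter G) : G → ℂ) with hf
  have hfx : ∀ x : G, f x = if p ∣ orderOf x then (0 : ℂ) else (P : ℂ) := by
    intro x
    simp only [hf, tildeFun, trivIrr, Pi.one_apply, mul_one, hP]
  have hall := ((height_zero_iff_inner_valuation hM hB0 h1mem).2).mp hh0
  have hcf : IsClassFunction G f := by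
    intro g h
    rw [hfx, hfx]
    have : orderOf (h * g * h⁻¹) = orderOf g := by
      have := (MulAut.conj h).orderOf_eq g
      rwa [MulAut.conj_apply] at this
    rw [this]
  have hpars := Cfsg.Agent.Lib.Helper24.RootChar.parseval hcf
  -- the left side is a real number at most `P ^ 2`
  have hff : classInner f f = (((Nat.card G : ℝ)⁻¹ * ∑ x : G, Complex.normSq (f x) : ℝ) : ℂ) := by
    unfold classInner
    push_cast
    congr 1
    apply Finset.sum_congr rfl
    intro x _
    exact Complex.mul_conj (f x)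
  have hle : (Nat.card G : ℝ)⁻¹ * ∑ x : G, Complex.normSq (f x) ≤ ((P : ℝ)) ^ 2 := by
    have hGpos : (0 : ℝ) < (Nat.card G : ℝ) := by exact_mod_cast Nat.card_pos
    have h1 : ∑ x : G, Complex.normSq (f x) ≤ ∑ _x : G, ((P : ℝ)) ^ 2 := by
      apply Finset.sum_le_sum
      intro x _
      rw [hfx]
      split_ifs
      · rw [map_zero]; positivity
      · rw [Complex.normSq_natCast]; exact le_of_eq (by ring)
    rw [Finset.sum_const, Finset.card_univ, nsmul_eq_mul, ← Nat.card_eq_fintype_card] at h1
    calc (Nat.card G : ℝ)⁻¹ * ∑ x : G, Complex.normSq (f x)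
        ≤ (Nat.card G : ℝ)⁻¹ * ((Nat.card G : ℝ) * (P : ℝ) ^ 2) :=
          mul_le_mul_of_nonneg_left h1 (inv_nonneg.mpr hGpos.le)
      _ = (P : ℝ) ^ 2 := by rw [← mul_assoc, inv_mul_cancel₀ hGpos.ne', one_mul]
  -- the right side is at least the number of members of `B₀`
  have hterm : ∀ ψ : IrrCharacter G,
      classInner f (ψ : G → ℂ) * conj (classInner f (ψ : G → ℂ)) =
        ((Complex.normSq (classInner f (ψ : G → ℂ)) : ℝ) : ℂ) := fun ψ => Complex.mul_conj _
  simp_rw [hterm] at hpars
  rw [hff, ← Complex.ofReal_sum] at hpars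
  have hreal : (Nat.card G : ℝ)⁻¹ * ∑ x : G, Complex.normSq (f x) =
      ∑ ψ : IrrCharacter G, Complex.normSq (classInner f (ψ : G → ℂ)) := Complex.ofReal_injective hpars
  have hge : ((Finset.univ.filter (fun ψ : IrrCharacter G => ψ ∈ principalBlock M G)).card : ℝ) ≤
      ∑ ψ : IrrCharacter G, Complex.normSq (classInner f (ψ : G → ℂ)) := by
    calc ((Finset.univ.filter (fun ψ : IrrCharacter G => ψ ∈ principalBlock M G)).card : ℝ)
        = ∑ ψ ∈ Finset.univ.filter (fun ψ : IrrCharacter G => ψ ∈ principalBlock M G), (1 : ℝ) := by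
          rw [Finset.sum_const, nsmul_eq_mul, mul_one]
      _ ≤ ∑ ψ ∈ Finset.univ.filter (fun ψ : IrrCharacter G => ψ ∈ principalBlock M G),
            Complex.normSq (classInner f (ψ : G → ℂ)) := by
          apply Finset.sum_le_sum
          intro ψ hψ
          obtain ⟨n, hn, hn0, -⟩ := hall ψ (Finset.mem_filter.mp hψ).2
          rw [hn, Complex.normSq_intCast]
          have h1 : (1 : ℤ) ≤ n * n := by
            rcases lt_or_gt_of_ne hn0 with h | h
            · nlinarith
            · nlinarith
          exact_mod_cast h1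
      _ ≤ ∑ ψ : IrrCharacter G, Complex.normSq (classInner f (ψ : G → ℂ)) := by
          apply Finset.sum_le_sum_of_subset_of_nonneg (Finset.filter_subset _ _)
          intro ψ _ _
          exact Complex.normSq_nonneg _
  have hcard : Nat.card ↥(principalBlock M G) =
      (Finset.univ.filter (fun ψ : IrrCharacter G => ψ ∈ principalBlock M G)).card := by
    rw [Nat.card_eq_fintype_card, Fintype.card_subtype]
  rw [hcard]
  have hfin : ((Finset.univ.filter (fun ψ : IrrCharacter G => ψ ∈ principalBlock M G)).card : ℝ) ≤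
      ((P ^ 2 : ℕ) : ℝ) := by
    push_cast
    linarith
  exact_mod_cast hfin

/-- one block only: `k(G) ≤ p^(2a)`. -/
theorem card_irr_le (p : ℕ) [Fact p.Prime] (a : ℕ) (M : Ideal AlgInt) (hM : IsPModular p M)
    (ha : (Nat.card G).factorization p = a)
    (hone : ∀ B : Set (IrrCharacter G), IsPBlock M B → B = principalBlock M G) :
    Nat.card (IrrCharacter G) ≤ p ^ (2 * a) := by
  haveI hprime : M.IsPrime := isPrime_of_isPModular hM
  have hall : ∀ ξ : IrrCharacter G, ξ ∈ principalBlock M G := by
    intro ξ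
    have h := hone (blockOf M (ξ : G → ℂ)) ⟨ξ, rfl⟩
    rw [← h]
    exact mem_blockOf_self ξ
  have h1 := card_principalBlock_le (G := G) p M hM
  rw [ha] at h1
  have h2 : Nat.card (IrrCharacter G) = Nat.card ↥(principalBlock M G) :=
    Nat.card_congr (Equiv.subtypeUnivEquiv hall).symm
  rw [h2]
  calc Nat.card ↥(principalBlock M G) ≤ (p ^ a) ^ 2 := h1
    _ = p ^ (2 * a) := by rw [← pow_mul, mul_comm]

end Cfsg.Agent.Lib.Helper8.OneBlockBound
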