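import Mathlib
import Cfsg.Agent.Lib.Helper9.OqTools

/-!
helper8: S2143 market "OQ", leaf K3 (`card_mul_card_le_of_form_mem`, trace duality): for a nondegenerate symmetric
bilinear form over a finite field and additive subgroups `U₁, U₂` with `B(U₁, U₂)` inside a proper additive subgroup
of `F`: `|U₁| |U₂| ≤ |V|`.
-/

set_option autoImplicit false
set_option linter.style.haveILetI false
set_option linter.unusedVariables false

open Cfsg.Agent.Lib.Helper9.Oq

namespace Cfsg.Agent.Lib.Helper8.OqLeaf

/-- K3 with the `ZMod p`-structures as instance arguments -/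
theorem card_mul_card_le_of_form_mem_aux {p : ℕ} [Fact p.Prime] {F V : Type*} [Field F] [Finite F]
    [AddCommGroup V] [Module F V] [Finite V] [Module (ZMod p) F] [Module (ZMod p) V]
    (B : LinearMap.BilinForm F V)
    (hnd : ∀ x, (∀ y, B x y = 0) → x = 0) (R : AddSubgroup F) (hR : R ≠ ⊤)
    (U₁ U₂ : AddSubgroup V) (h : ∀ u ∈ U₁, ∀ v ∈ U₂, B u v ∈ R) :
    Nat.card U₁ * Nat.card U₂ ≤ Nat.card V := by
  classical
  have hpr : p.Prime := Fact.out
  -- the functional `ψ`
  have hRlt : AddSubgroup.toZModSubmodule p R < (⊤ : Submodule (ZMod p) F) := by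
    rw [lt_top_iff_ne_top]
    intro h1
    apply hR
    rw [← (AddSubgroup.toZModSubmodule p).map_top] at h1
    exact (AddSubgroup.toZModSubmodule p).injective h1
  obtain ⟨ψ, hψ0, hψR⟩ := Submodule.exists_le_ker_of_lt_top _ hRlt
  let γ : V →+ (V →ₗ[ZMod p] ZMod p) :=
    { toFun := fun u => AddMonoidHom.toZModLinearMap p
        (ψ.toAddMonoidHom.comp (B u).toAddMonoidHom)
      map_zero' := by ext v; simp
      map_add' := by intro u u'; ext v; simp }
  let β : LinearMap.BilinForm (ZMod p) V := AddMonoidHom.toZModLinearMap p γ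
  have hβ : ∀ u v, β u v = ψ (B u v) := fun u v => rfl
  have hker : LinearMap.ker β = ⊥ := by
    rw [LinearMap.ker_eq_bot']
    intro u hu
    by_contra hu0
    have : ¬ ∀ y, B u y = 0 := fun hall => hu0 (hnd u hall)
    push Not at this
    obtain ⟨y, hy⟩ := this
    apply hψ0
    ext a
    have h1 : β u ((a / B u y) • y) = 0 := by rw [hu]; rfl
    rw [hβ, map_smul, smul_eq_mul, div_mul_cancel₀ _ hy] at h1
    rw [h1]; rfl
  set W₁ := AddSubgroup.toZModSubmodule p U₁ with hW₁
  set W₂ := AddSubgroup.toZModSubmodule p U₂ with hW₂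
  have hle : W₂ ≤ β.orthogonal W₁ := by
    intro v hv
    rw [LinearMap.BilinForm.mem_orthogonal_iff]
    intro u hu
    show β u v = 0
    rw [hβ]
    exact hψR (h u hu v hv)
  have hfin : FiniteDimensional (ZMod p) V := Module.Finite.of_finite
  have h1 := LinearMap.BilinForm.finrank_add_finrank_orthogonal' (B := β) W₁
  have hk : (W₁ ⊓ LinearMap.ker β : Submodule (ZMod p) V) = ⊥ := by rw [hker, inf_bot_eq]
  rw [hk, finrank_bot, add_zero] at h1
  have h2 := Submodule.finrank_mono hle
  have c1 : Nat.card U₁ = p ^ Module.finrank (ZMod p) W₁ := by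
    have := Module.natCard_eq_pow_finrank (K := ZMod p) (V := W₁)
    rw [Nat.card_zmod p] at this
    rw [← this]
    rfl
  have c2 : Nat.card U₂ = p ^ Module.finrank (ZMod p) W₂ := by
    have := Module.natCard_eq_pow_finrank (K := ZMod p) (V := W₂)
    rw [Nat.card_zmod p] at this
    rw [← this]
    rfl
  have c3 : Nat.card V = p ^ Module.finrank (ZMod p) V := by
    have := Module.natCard_eq_pow_finrank (K := ZMod p) (V := V)
    rw [Nat.card_zmod p] at this
    exact this
  rw [c1, c2, c3, ← pow_add]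
  apply Nat.pow_le_pow_right hpr.pos
  omega

/-- K3 (trace duality). -/
theorem card_mul_card_le_of_form_mem {F V : Type*} [Field F] [Finite F] [AddCommGroup V]
    [Module F V] [Finite V] (B : LinearMap.BilinForm F V) (hsymm : ∀ x y, B x y = B y x)
    (hnd : ∀ x, (∀ y, B x y = 0) → x = 0) (R : AddSubgroup F) (hR : R ≠ ⊤)
    (U₁ U₂ : AddSubgroup V) (h : ∀ u ∈ U₁, ∀ v ∈ U₂, B u v ∈ R) :
    Nat.card U₁ * Nat.card U₂ ≤ Nat.card V := by
  obtain ⟨p, hp⟩ := CharP.exists F
  have hpr : p.Prime := by
    have := Fintype.ofFinite F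
    exact CharP.char_is_prime F p
  haveI : Fact p.Prime := ⟨hpr⟩
  letI mF : Module (ZMod p) F := AddCommGroup.zmodModule (n := p) (fun x => by
    rw [nsmul_eq_mul, CharP.cast_eq_zero F p, zero_mul])
  letI mV : Module (ZMod p) V := AddCommGroup.zmodModule (n := p) (fun x => by
    rw [← Nat.cast_smul_eq_nsmul F, CharP.cast_eq_zero F p, zero_smul])
  exact card_mul_card_le_of_form_mem_aux (p := p) B hnd R hR U₁ U₂ h

end Cfsg.Agent.Lib.Helper8.OqLeaf
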