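import Mathlib
import Cfsg.Agent.Lib.Helper8.OrdSieveE
import Cfsg.Agent.Lib.Helper12.BSFDeg

/-!
No simple group of order `1040 = 2^4 * 5 * 13` (helper8): `n_13 = 40`, `|N(P_13)| = 26`, and the
Brauer degree equation (helper12 `BSF.core`, from lead's Brauer-Leonard theorem) for `p = 13`,
`m = 2` forces a character degree `41`.
-/

set_option autoImplicit false
set_option linter.style.haveILetI false

namespace Cfsg.Agent.Lib.Helper8.OrdSieve

open Cfsg Cfsg.Agent.Lib.Helper7

theorem no_simple_1040 {G : Type*} [Group G] [Finite G] [IsSimpleGroup G] :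
    Nat.card G ≠ 1040 := by
  intro h
  haveI : Fact (Nat.Prime 13) := ⟨by norm_num⟩
  have hnc : ¬ IsMulCommutative G := not_comm_of_card_not_prime (by rw [h]; norm_num)
  have hperf := Cfsg.Agent.Lib.Helper12.BSF.commutator_eq_top_of_simple hnc
  obtain ⟨P⟩ : Nonempty (Sylow 13 G) := Sylow.nonempty
  obtain ⟨hPc, hPi⟩ := sylow_card_index_of_exact (p := 13) (m := 80) (by rw [h]) (by norm_num) P
  have hmem := sylow_count_mem hnc (p := 13) (a := 1) (m := 80) (by norm_num) le_rfl
    (by norm_num) (by rw [h]; norm_num) (by norm_num)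
  have hl : npList 13 1 80 = [40] := by decide +kernel
  rw [hl, List.mem_singleton] at hmem
  have hN : Nat.card (Subgroup.normalizer ((P : Subgroup G) : Set G)) = 13 * 2 :=
    card_normalizer_of_count (p := 13) (by norm_num) h (show 40 * (13 * 2) = 1040 by norm_num)
      P hmem
  have hC := Cfsg.Agent.Lib.Helper12.BSF.centralizer_eq_of_card_normalizer hnc 13 2 Nat.prime_two
    P hPc hN
  obtain ⟨X, a, η, δ, hδ, hXc, hXne, ha0, hsq, hcong, hdeg⟩ :=
    Cfsg.Agent.Lib.Helper12.BSF.core 13 P hPc hC 2 Nat.prime_two (by norm_num) hN (by norm_num)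
  -- X is a singleton
  have hX1 : X.card = 1 := by
    rcases Nat.eq_zero_or_pos X.card with h0 | h0
    · rw [Finset.card_eq_zero] at h0
      rw [h0] at hsq
      norm_num at hsq
    · omega
  obtain ⟨χ, rfl⟩ := Finset.card_eq_one.mp hX1
  rw [Finset.sum_singleton] at hsq hdeg
  have hχmem : χ ∈ ({χ} : Finset (IrrCharacter G)) := Finset.mem_singleton_self χ
  have ha := Cfsg.Agent.Lib.Helper12.BSF.pm_one_of_sq_le (a χ) (ha0 χ hχmem) (by rw [hsq]; norm_num)
  have hc := hcong χ hχmem
  have hdvd : charDegree (χ : G → ℂ) ∣ 1040 := by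
    rw [← h]; exact Cfsg.Agent.Lib.Helper24.irr_charDegree_dvd_card χ
  have hηdvd : charDegree (η : G → ℂ) ∣ 1040 := by
    rw [← h]; exact Cfsg.Agent.Lib.Helper24.irr_charDegree_dvd_card η
  have hne1 : charDegree (χ : G → ℂ) ≠ 1 := fun h1 =>
    hXne χ hχmem (Cfsg.Agent.Lib.Helper12.BSF.eq_one_of_charDegree_one hperf χ h1)
  generalize charDegree (χ : G → ℂ) = n at *
  generalize charDegree (η : G → ℂ) = dη at *
  generalize a χ = b at *
  have hcop : Nat.Coprime n 13 := by
    rw [Nat.coprime_comm, Nat.Prime.coprime_iff_not_dvd (by norm_num)]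
    intro h13
    rcases ha with rfl | rfl <;> omega
  have hn80 : n ∣ 80 := by
    apply Nat.Coprime.dvd_of_dvd_mul_right hcop
    exact hdvd
  have hnle : n ≤ 80 := Nat.le_of_dvd (by norm_num) hn80
  have hkey : n = 40 ∧ b = 1 := by
    rcases ha with rfl | rfl <;> interval_cases n <;> omega
  obtain ⟨rfl, rfl⟩ := hkey
  exact Cfsg.Agent.Lib.Helper12.BSF.final_contra 1040 dη δ (1 + 1 * ((40 : ℕ) : ℤ)) hδ hdeg hηdvd
    (by decide)

end Cfsg.Agent.Lib.Helper8.OrdSieve
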