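import Mathlib
import Cfsg.Agent.Lib.Helper8.OrdSieveE

/-!
No simple group of order `1080` (helper8): there is a subgroup `H` of index 10 (`N(P_3)` if
`n_3 = 10`, the normaliser of a Sylow intersection if `n_3 = 40`), and `n_5 = 36` gives an element
`xy` of order 15; on the 10 cosets of `H` the element `x` of order 5 has no fixed point, so the
number of fixed points of `y` is `≡ 0 mod 5` and `≡ 1 mod 3`, i.e. `y` acts trivially.
-/

set_option autoImplicit false
set_option linter.style.haveILetI false

namespace Cfsg.Agent.Lib.Helper8.OrdSieve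

open Cfsg.Agent.Lib.Helper7 Cfsg.Agent.Lib.Helper8.SmallSimple Cfsg.Agent.Lib.Helper8.SmallSimple2
open MulAction

/-- commuting elements `x`, `y` of prime orders `q`, `s`, and a proper subgroup `H` of a simple
group with `q ∤ |H|`: the number `f` of fixed cosets of `y` satisfies `f ≡ 0 mod q`,
`f ≡ |G:H| mod s`, `f < |G : H|`. -/
theorem exists_fixed_count {G : Type*} [Group G] [Finite G] [IsSimpleGroup G]
    {q s : ℕ} [Fact q.Prime] [Fact s.Prime] (H : Subgroup G)
    (hH : H ≠ ⊤) (x y : G) (hx : orderOf x = q) (hy : orderOf y = s) (hxy : Commute x y)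
    (hq : ¬ q ∣ Nat.card ↥H) :
    ∃ f : ℕ, f < H.index ∧ f % q = 0 ∧ f % s = H.index % s := by
  have hqp : q.Prime := Fact.out
  have hsp : s.Prime := Fact.out
  set F : Set (G ⧸ H) := fixedBy (G ⧸ H) y with hF
  refine ⟨Nat.card F, ?_, ?_, ?_⟩
  · -- not everything is fixed
    have hle : Nat.card F ≤ H.index := by
      rw [Subgroup.index]
      exact Nat.card_le_card_of_injective _ Subtype.val_injective
    rcases Nat.lt_or_ge (Nat.card F) H.index with hlt | hge
    · exact hlt
    · exfalso
      have heq : Nat.card (fixedBy (G ⧸ H) y) = Nat.card (G ⧸ H) := le_antisymm hle hge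
      have hy1 : y = 1 := eq_one_of_smul_eq H hH y (smul_eq_of_card_fixedBy y heq)
      rw [hy1, orderOf_one] at hy
      exact hsp.one_lt.ne hy
  · -- `≡ 0 mod q`
    have hQ : IsPGroup q ↥(Subgroup.zpowers x) :=
      IsPGroup.of_card (n := 1) (by rw [Nat.card_zpowers, hx, pow_one])
    have hinv : ∀ z ∈ Subgroup.zpowers x, ∀ a ∈ F, z • a ∈ F := by
      rintro z ⟨k, rfl⟩ a ha
      rw [hF, mem_fixedBy] at ha ⊢
      have hc : y * x ^ k = x ^ k * y := ((hxy.zpow_left k).eq).symm
      rw [smul_smul, hc, ← smul_smul, ha]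
    have h1 := card_invariant_modEq (Subgroup.zpowers x) hQ F hinv
    have h2 : Nat.card {a : G ⧸ H // a ∈ F ∧ ∀ z ∈ Subgroup.zpowers x, z • a = a} = 0 := by
      rw [Nat.card_eq_zero]
      left
      constructor
      rintro ⟨a, -, ha⟩
      have hxa := ha x (Subgroup.mem_zpowers x)
      induction a using QuotientGroup.induction_on with
      | H g =>
        rw [Cfsg.Agent.S1018.smul_mk_eq_iff] at hxa
        have ho : orderOf (g⁻¹ * x * g) = q := by
          have : SemiconjBy g⁻¹ x (g⁻¹ * x * g) := by unfold SemiconjBy; group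
          rw [← this.orderOf_eq]; exact hx
        apply hq
        rw [← ho]
        exact Subgroup.orderOf_dvd_natCard H hxa
    rw [h2] at h1
    exact h1
  · have hS : IsPGroup s ↥(Subgroup.zpowers y) :=
      IsPGroup.of_card (n := 1) (by rw [Nat.card_zpowers, hy, pow_one])
    have h1 := card_modEq_card_fixedBy (X := G ⧸ H) y hS
    rw [Subgroup.index]
    exact h1.symm

theorem no_simple_1080 {G : Type*} [Group G] [Finite G] [IsSimpleGroup G] :
    Nat.card G ≠ 1080 := by
  intro h
  have hnc : ¬ IsMulCommutative G := not_comm_of_card_not_prime (by rw [h]; norm_num)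
  haveI : Fact (Nat.Prime 5) := ⟨by norm_num⟩
  haveI : Fact (Nat.Prime 3) := ⟨by norm_num⟩
  -- a subgroup of index 10
  have hH : ∃ H : Subgroup G, H.index = 10 := by
    have hmem := sylow_count_mem hnc (p := 3) (a := 3) (m := 40) (by norm_num) (by norm_num)
      (by norm_num) (by rw [h]; norm_num) (by norm_num)
    have hl : npList 3 3 40 = [10, 40] := by decide +kernel
    rw [hl] at hmem
    simp only [List.mem_cons, List.mem_nil_iff, or_false] at hmem
    rcases hmem with h10 | h40
    · obtain ⟨P⟩ : Nonempty (Sylow 3 G) := inferInstance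
      exact ⟨_, (index_normalizer_sylow (p := 3) (by norm_num) P).trans h10⟩
    · obtain ⟨H, hHtop, hHm, e, he, hep, he1⟩ := exists_big_normalizer (G := G) (p := 3) (a := 3)
        (m := 40) (by norm_num) (by norm_num) (by norm_num) (by rw [h]; norm_num) (by norm_num)
        (by rw [h40]; norm_num)
      refine ⟨H, ?_⟩
      have hfac := card_dvd_half_factorial hnc H hHtop
      rw [h] at hfac
      have h1 : H.index ≠ 1 := fun h => hHtop (Subgroup.index_eq_one.mp h)
      have hle : H.index ≤ 40 := Nat.le_of_dvd (by norm_num) hHm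
      generalize H.index = j at *
      have hele : e ≤ 40 := by
        have h2 : e ∣ 40 := he.trans (Nat.div_dvd_of_dvd hHm)
        exact Nat.le_of_dvd (by norm_num) h2
      interval_cases j <;> first | rfl | omega | (exfalso; revert hfac; decide) |
        (exfalso; interval_cases e <;> omega)
  obtain ⟨H, hidx⟩ := hH
  have hHtop : H ≠ ⊤ := by
    intro hh
    rw [hh, Subgroup.index_top] at hidx
    omega
  have hHcard : Nat.card ↥H = 108 := by
    have := H.card_mul_index
    rw [hidx, h] at this
    omega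
  -- the element of order 15
  obtain ⟨P⟩ : Nonempty (Sylow 5 G) := inferInstance
  obtain ⟨hPc, n, k, c, r, hn, hN, hC, hr, hnk, hcr, hmod, hn1, hr4, hr1, -, -⟩ :=
    sylow_prime_data hnc (p := 5) (m := 216) (by rw [h]) (by norm_num) P
  have hmem := sylow_count_mem hnc (p := 5) (a := 1) (m := 216) (by norm_num) le_rfl
    (by norm_num) (by rw [h]; norm_num) (by norm_num)
  have hl : npList 5 1 216 = [36] := by decide +kernel
  rw [hl, List.mem_singleton, hn] at hmem
  subst hmem
  have hk : k = 6 := by omega
  subst hk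
  have hc3 : c = 3 := by
    have hrle : r ≤ 4 := Nat.le_of_dvd (by norm_num) hr4
    interval_cases r <;> omega
  subst hc3
  obtain ⟨x0, hx0⟩ := exists_prime_orderOf_dvd_card' (G := ↥(P : Subgroup G)) 5 (by rw [hPc])
  obtain ⟨y0, hy0⟩ := exists_prime_orderOf_dvd_card'
    (G := ↥(Subgroup.centralizer ((P : Subgroup G) : Set G))) 3 (by rw [hC]; norm_num)
  have hxo : orderOf (x0 : G) = 5 := by rw [Subgroup.orderOf_coe]; exact hx0
  have hyo : orderOf (y0 : G) = 3 := by rw [Subgroup.orderOf_coe]; exact hy0
  have hcomm : Commute (x0 : G) (y0 : G) :=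
    (Subgroup.mem_centralizer_iff.mp y0.2) x0 x0.2
  obtain ⟨f, hf1, hf2, hf3⟩ := exists_fixed_count H hHtop (x0 : G) (y0 : G) hxo hyo hcomm
    (by rw [hHcard]; norm_num)
  rw [hidx] at hf1 hf3
  omega

end Cfsg.Agent.Lib.Helper8.OrdSieve
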