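import Mathlib
import Cfsg.Agent.Lib.Helper8.OrdSieveE
import Cfsg.Agent.Lib.Helper19.Ord4032C

/-!
# No simple group of order 720, part A (helper8): group-theoretic tools

General odd prime `p` versions of helper12's/helper19's lemmas for a Sylow subgroup `P` of prime
order `p` whose normaliser is the full Frobenius group of order `p (p - 1)`:
* `mem_normalizer_of_conj_le`, `invert_fix_bound` (an involution inverting `P` fixes at most one
  point in each `P`-orbit on the cosets of `N(P)`),
* `frob_data`: `t`, `y` with `t y t⁻¹ = y⁻¹`, all of `P \ 1` conjugate to `y`, `tP ⊆ t^G`,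
* `card_pairs`: the number of pairs of conjugates of `t` with product `y` is `p`.
-/

set_option autoImplicit false
set_option linter.unusedSectionVars false
set_option linter.style.haveILetI false

namespace Cfsg.Agent.Lib.Helper8.Ord720

open MulAction Cfsg.Agent.Lib.Helper8.SmallSimple Cfsg.Agent.Lib.Helper8.SmallSimple2
  Cfsg.Agent.Lib.Helper7

universe u

variable {G : Type u} [Group G]

/-- an element conjugating `P` into `N(P)` normalizes `P` -/
theorem mem_normalizer_of_conj_le [Finite G] {p : ℕ} [Fact p.Prime] (P : Sylow p G) (g : G)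
    (h : ∀ x ∈ (P : Subgroup G), g * x * g⁻¹ ∈ Subgroup.normalizer ((P : Subgroup G) : Set G)) :
    g ∈ Subgroup.normalizer ((P : Subgroup G) : Set G) := by
  set Q : Subgroup G := (P : Subgroup G).map (MulAut.conj g).toMonoidHom with hQ
  have hQp : IsPGroup p Q := P.isPGroup'.map _
  have hQN : Q ≤ Subgroup.normalizer ((P : Subgroup G) : Set G) := by
    rintro _ ⟨x, hx, rfl⟩
    exact h x hx
  have h2 := hQp.inf_normalizer_sylow P
  have h3 : Q ⊓ Subgroup.normalizer ((P : Subgroup G) : Set G) = Q := inf_eq_left.mpr hQN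
  have h2' : Q ⊓ Subgroup.normalizer ((P : Subgroup G) : Set G) = Q ⊓ (P : Subgroup G) := h2
  rw [h3] at h2'
  have hQP : Q ≤ (P : Subgroup G) := by
    rw [h2']; exact inf_le_right
  have hQc : Nat.card ↥Q = Nat.card ↥(P : Subgroup G) := by
    rw [hQ]
    exact Subgroup.card_map_of_injective (MulAut.conj g).injective
  have hEq : Q = (P : Subgroup G) := Subgroup.eq_of_le_of_card_ge hQP (le_of_eq hQc.symm)
  rw [Subgroup.mem_normalizer_iff]
  intro x
  constructor
  · intro hx
    rw [← hEq]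
    exact ⟨x, hx, rfl⟩
  · intro hx
    rw [← hEq] at hx
    obtain ⟨x', hx', e⟩ := hx
    have : x' = x := by
      have e' : g * x' * g⁻¹ = g * x * g⁻¹ := e
      have := congrArg (fun z => g⁻¹ * z * g) e'
      simpa [mul_assoc] using this
    rw [← this]
    exact hx'

/-- **orbit bound**: an involution of `N(P)` inverting the Sylow subgroup `P` of odd prime order `p`
has at most one fixed point in each `P`-orbit on the cosets of `N(P)` -/
theorem invert_fix_bound [Finite G] {p : ℕ} [Fact p.Prime] (hp2 : p ≠ 2) (P : Sylow p G)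
    (hP : Nat.card ↥(P : Subgroup G) = p) (s : G) (hs : s * s = 1)
    (hinv : ∀ z ∈ (P : Subgroup G), s * z * s⁻¹ = z⁻¹) :
    p * (Nat.card (fixedBy (G ⧸ Subgroup.normalizer ((P : Subgroup G) : Set G)) s) - 1) + 1 ≤
      (Subgroup.normalizer ((P : Subgroup G) : Set G)).index := by
  classical
  have hp : p.Prime := Fact.out
  set N := Subgroup.normalizer ((P : Subgroup G) : Set G) with hN
  set o : G ⧸ N := ((1 : G) : G ⧸ N) with ho
  have hsinv : s⁻¹ = s := inv_eq_of_mul_eq_one_left hs
  set F' : Set (G ⧸ N) := fixedBy (G ⧸ N) s \ {o} with hF'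
  have hF'card : Nat.card (fixedBy (G ⧸ N) s) - 1 ≤ Nat.card ↥F' := by
    rw [Nat.card_coe_set_eq, Nat.card_coe_set_eq, hF']
    have h2 := Set.ncard_le_ncard_sdiff_add_ncard (fixedBy (G ⧸ N) s) {o} (Set.toFinite _)
    rw [Set.ncard_singleton] at h2
    omega
  have hfix : ∀ x ∈ (P : Subgroup G), ∀ a : G ⧸ N, a ≠ o → x • a = a → x = 1 := by
    intro x hx a hao hxa
    by_contra hx1
    apply hao
    obtain ⟨h, rfl⟩ := QuotientGroup.mk_surjective a
    rw [Cfsg.Agent.S1018.smul_mk_eq_iff] at hxa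
    have hgen : Subgroup.zpowers x = (P : Subgroup G) := by
      apply Subgroup.eq_of_le_of_card_ge
      · rw [Subgroup.zpowers_le]; exact hx
      · rw [Nat.card_zpowers, hP]
        have h1 := Subgroup.orderOf_dvd_natCard _ hx
        rw [hP] at h1
        rcases (Nat.dvd_prime hp).mp h1 with h' | h'
        · exact absurd (orderOf_eq_one_iff.mp h') hx1
        · rw [h']
    have hmem : h⁻¹ ∈ N := by
      apply mem_normalizer_of_conj_le P
      intro z hz
      rw [← hgen] at hz
      obtain ⟨k, rfl⟩ := hz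
      simp only [inv_inv]
      have e : h⁻¹ * x ^ k * h = (h⁻¹ * x * h) ^ k := by
        have := conj_zpow (a := h⁻¹) (b := x) (i := k)
        rw [inv_inv] at this
        exact this.symm
      rw [e]
      exact N.zpow_mem hxa k
    rw [ho, QuotientGroup.eq]
    simpa using hmem
  have hinj : Function.Injective
      (fun q : ↥(P : Subgroup G) × ↥F' => (⟨(q.1 : G) • (q.2 : G ⧸ N), by
        intro h
        have hq2 := q.2.2
        apply hq2.2
        rw [Set.mem_singleton_iff] at h ⊢
        have hqN : (q.1 : G)⁻¹ ∈ N := N.inv_mem (Subgroup.le_normalizer q.1.2)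
        calc (q.2 : G ⧸ N) = (q.1 : G)⁻¹ • ((q.1 : G) • (q.2 : G ⧸ N)) := by rw [inv_smul_smul]
          _ = (q.1 : G)⁻¹ • o := by rw [h]
          _ = o := by
            rw [ho, Cfsg.Agent.S1018.smul_mk_eq_iff]
            simpa using hqN⟩ : {a : G ⧸ N // a ∉ ({o} : Set (G ⧸ N))})) := by
    rintro ⟨g1, a1⟩ ⟨g2, a2⟩ h
    have h' : (g1 : G) • (a1 : G ⧸ N) = (g2 : G) • (a2 : G ⧸ N) := congrArg Subtype.val h
    set g : G := (g2 : G)⁻¹ * (g1 : G) with hg
    have hgP : g ∈ (P : Subgroup G) := (P : Subgroup G).mul_mem ((P : Subgroup G).inv_mem g2.2) g1.2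
    have ha2 : (a2 : G ⧸ N) = g • (a1 : G ⧸ N) := by
      rw [hg, mul_smul, h', inv_smul_smul]
    have hs1 : s • (a1 : G ⧸ N) = a1 := a1.2.1
    have hs2 : s • (a2 : G ⧸ N) = a2 := a2.2.1
    have hgg : (g * g) • (a1 : G ⧸ N) = a1 := by
      have e : g * g = s⁻¹ * (g⁻¹ * (s * g)) := by
        have h1 := hinv g⁻¹ ((P : Subgroup G).inv_mem hgP)
        rw [inv_inv] at h1
        calc g * g = (s * g⁻¹ * s⁻¹) * g := by rw [h1]
          _ = s⁻¹ * (g⁻¹ * (s * g)) := by rw [hsinv]; group
      rw [e, mul_smul, mul_smul, mul_smul, ← ha2, hs2, ha2, inv_smul_smul, hsinv, hs1]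
    have hgg1 : g * g = 1 :=
      hfix (g * g) ((P : Subgroup G).mul_mem hgP hgP) a1 (fun h0 => a1.2.2 h0) hgg
    have hg1 : g = 1 := by
      have h1 : orderOf g ∣ 2 := orderOf_dvd_of_pow_eq_one (by rw [pow_two]; exact hgg1)
      have h2 : orderOf g ∣ p := by
        have := Subgroup.orderOf_dvd_natCard _ hgP
        rwa [hP] at this
      have h3 : orderOf g ∣ Nat.gcd 2 p := Nat.dvd_gcd h1 h2
      have h4 : Nat.gcd 2 p = 1 := by
        rw [← Nat.Coprime, Nat.coprime_primes Nat.prime_two hp]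
        exact fun h => hp2 h.symm
      rw [h4, Nat.dvd_one] at h3
      exact orderOf_eq_one_iff.mp h3
    have hg12 : (g1 : G) = g2 := by
      have : (g2 : G)⁻¹ * (g1 : G) = 1 := hg1
      calc (g1 : G) = (g2 : G) * ((g2 : G)⁻¹ * (g1 : G)) := by group
        _ = g2 := by rw [this, mul_one]
    have ha12 : (a1 : G ⧸ N) = a2 := by
      rw [ha2, hg1, one_smul]
    exact Prod.ext (Subtype.ext hg12) (Subtype.ext ha12)
  have hcard := Nat.card_le_card_of_injective _ hinj
  rw [Nat.card_prod, hP] at hcard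
  have hcompl : Nat.card {a : G ⧸ N // a ∉ ({o} : Set (G ⧸ N))} + 1 = N.index := by
    have h1 : Nat.card {a : G ⧸ N // a ∉ ({o} : Set (G ⧸ N))} = Nat.card ↥(({o} : Set (G ⧸ N))ᶜ) := rfl
    rw [h1, Nat.card_coe_set_eq, Set.ncard_compl, Set.ncard_singleton, Subgroup.index]
    have : 0 < Nat.card (G ⧸ N) := Nat.card_pos
    omega
  have : p * (Nat.card (fixedBy (G ⧸ N) s) - 1) ≤ p * Nat.card ↥F' := Nat.mul_le_mul_left p hF'card
  omega

/-- the Frobenius structure of `N(P)` when `|N(P)| = p (p - 1)` and `|C(P)| = p`, `p` odd -/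
theorem frob_data [Finite G] {p : ℕ} [Fact p.Prime] (hp2 : p ≠ 2) (P : Sylow p G)
    (hP : Nat.card ↥(P : Subgroup G) = p)
    (hN : Nat.card ↥(Subgroup.normalizer ((P : Subgroup G) : Set G)) = p * (p - 1))
    (hC : Nat.card ↥(Subgroup.centralizer ((P : Subgroup G) : Set G)) = p) :
    ∃ t y : G, orderOf t = 2 ∧ t ∈ Subgroup.normalizer ((P : Subgroup G) : Set G) ∧
      t ∉ (P : Subgroup G) ∧ orderOf y = p ∧ y ∈ (P : Subgroup G) ∧
      (P : Subgroup G) = Subgroup.zpowers y ∧ t * y * t⁻¹ = y⁻¹ ∧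
      Subgroup.centralizer ({y} : Set G) = (P : Subgroup G) ∧
      (∀ x ∈ (P : Subgroup G), x ≠ 1 → IsConj x y) ∧
      (∀ u : G, t * u ∈ (P : Subgroup G) → IsConj t u) := by
  haveI : Fact (Nat.Prime 2) := ⟨Nat.prime_two⟩
  have hp : p.Prime := Fact.out
  have hp3 : 3 ≤ p := by
    have := hp.two_le
    omega
  have hodd : p % 2 = 1 := by
    rcases hp.eq_two_or_odd with h | h
    · exact absurd h hp2
    · exact h
  set N := Subgroup.normalizer ((P : Subgroup G) : Set G) with hNdef
  set C := Subgroup.centralizer ((P : Subgroup G) : Set G) with hCdef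
  have hcommP := comm_of_card_prime (P : Subgroup G) hP
  have hPC : (P : Subgroup G) ≤ C := by
    intro x hx
    rw [hCdef, Subgroup.mem_centralizer_iff]
    intro z hz
    exact hcommP z hz x hx
  have hCP : C = (P : Subgroup G) := by
    symm
    apply Subgroup.eq_of_le_of_card_ge hPC
    rw [hC, hP]
  have h2N : 2 ∣ Nat.card ↥N := by
    rw [hN]
    apply Dvd.dvd.mul_left
    omega
  obtain ⟨t, htN, ht⟩ := Cfsg.Agent.Lib.Helper19.Ord4032.exists_invol_mem N h2N
  have htP : t ∉ (P : Subgroup G) := by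
    intro h
    have := orderOf_dvd_natCard (⟨t, h⟩ : ↥(P : Subgroup G))
    rw [hP, Subgroup.orderOf_mk, ht] at this
    rcases (Nat.dvd_prime hp).mp this with h' | h'
    · omega
    · omega
  obtain ⟨y, hyP, hy⟩ :=
    Cfsg.Agent.Lib.Helper19.Ord4032.exists_prime_order_mem (P : Subgroup G) p (by rw [hP])
  have hPy : (P : Subgroup G) = Subgroup.zpowers y := by
    symm
    apply Subgroup.eq_of_le_of_card_ge
    · rw [Subgroup.zpowers_le]; exact hyP
    · rw [Nat.card_zpowers, hy, hP]
  have htt : t * t = 1 := mul_self_of_orderOf_two ht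
  have hti : t⁻¹ = t := inv_of_orderOf_two ht
  have htyP : t * y * t⁻¹ ∈ (P : Subgroup G) := (Subgroup.mem_normalizer_iff.mp htN y).mp hyP
  have hcy : Subgroup.centralizer ({y} : Set G) = (P : Subgroup G) := by
    rw [← Cfsg.Agent.Lib.Helper19.Ord4032.centralizer_zpowers_eq', ← hPy]
    exact hCP
  have hinv : t * y * t⁻¹ = y⁻¹ := by
    rcases conj_eq_or_eq_inv (p := p) y t hy htt (by rw [← hPy]; exact htyP) with h | h
    · exfalso
      apply htP
      have := mem_centralizer_zpowers y t h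
      rw [← hPy] at this
      rw [← hCP]
      exact this
    · exact h
  have hy1 : y ≠ 1 := by
    intro h
    rw [h, orderOf_one] at hy
    omega
  have hPN : (P : Subgroup G) ≤ N := Subgroup.le_normalizer
  refine ⟨t, y, ht, htN, htP, hy, hyP, hPy, hinv, hcy, ?_, ?_⟩
  · -- the nonidentity elements of `P` are conjugate under `N`
    let f : ↥N → G := fun g => (g : G) * y * (g : G)⁻¹
    have hfib : ∀ g : ↥N, Nat.card {g' : ↥N // f g' = f g} = p := by
      intro g
      rw [← hP]
      apply Nat.card_congr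
      refine ⟨fun g' => ⟨(g : G)⁻¹ * (g'.1 : G), ?_⟩,
        fun q => ⟨⟨(g : G) * (q : G), N.mul_mem g.2 (hPN q.2)⟩, ?_⟩, ?_, ?_⟩
      · rw [← hcy, Subgroup.mem_centralizer_singleton_iff]
        have h : (g'.1 : G) * y * (g'.1 : G)⁻¹ = (g : G) * y * (g : G)⁻¹ := g'.2
        calc (g : G)⁻¹ * (g'.1 : G) * y
            = (g : G)⁻¹ * ((g'.1 : G) * y * (g'.1 : G)⁻¹) * (g'.1 : G) := by group
          _ = (g : G)⁻¹ * ((g : G) * y * (g : G)⁻¹) * (g'.1 : G) := by rw [h]
          _ = y * ((g : G)⁻¹ * (g'.1 : G)) := by group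
      · show (g : G) * (q : G) * y * ((g : G) * (q : G))⁻¹ = (g : G) * y * (g : G)⁻¹
        have hc : (q : G) * y = y * (q : G) := hcommP _ q.2 _ hyP
        calc (g : G) * (q : G) * y * ((g : G) * (q : G))⁻¹
            = (g : G) * ((q : G) * y) * (q : G)⁻¹ * (g : G)⁻¹ := by group
          _ = (g : G) * (y * (q : G)) * (q : G)⁻¹ * (g : G)⁻¹ := by rw [hc]
          _ = (g : G) * y * (g : G)⁻¹ := by group
      · intro g'
        apply Subtype.ext
        apply Subtype.ext
        show (g : G) * ((g : G)⁻¹ * (g'.1 : G)) = (g'.1 : G)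
        group
      · intro q
        apply Subtype.ext
        show (g : G)⁻¹ * ((g : G) * (q : G)) = (q : G)
        group
    have hcard := Cfsg.Agent.Lib.Helper19.Ord4032.card_eq_card_range_mul f p hfib
    rw [hN] at hcard
    have hr6 : (Set.range f).ncard = p - 1 := by
      rw [← Nat.card_coe_set_eq]
      have h1 : p * (p - 1) = (p - 1) * p := Nat.mul_comm _ _
      rw [h1] at hcard
      exact (Nat.eq_of_mul_eq_mul_right hp.pos hcard).symm
    have hsub : Set.range f ⊆ ((P : Subgroup G) : Set G) \ {1} := by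
      rintro _ ⟨g, rfl⟩
      refine ⟨(Subgroup.mem_normalizer_iff.mp g.2 y).mp hyP, ?_⟩
      intro h
      apply hy1
      have h' : (g : G) * y * (g : G)⁻¹ = 1 := h
      calc y = (g : G)⁻¹ * ((g : G) * y * (g : G)⁻¹) * (g : G) := by group
        _ = 1 := by rw [h']; group
    have hPn : (((P : Subgroup G) : Set G)).ncard = p := by
      rw [← Nat.card_coe_set_eq]
      exact hP
    have hS : (((P : Subgroup G) : Set G) \ {1}).ncard = p - 1 := by
      rw [Set.ncard_sdiff_singleton_of_mem (show (1 : G) ∈ ((P : Subgroup G) : Set G) from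
        (P : Subgroup G).one_mem), hPn]
    have heq : Set.range f = ((P : Subgroup G) : Set G) \ {1} :=
      Set.eq_of_subset_of_ncard_le hsub (by rw [hS, hr6]) (Set.toFinite _)
    intro x hx hx1
    have hxm : x ∈ Set.range f := by
      rw [heq]
      exact ⟨hx, hx1⟩
    obtain ⟨g, hg⟩ := hxm
    exact (isConj_iff.mpr ⟨(g : G), hg⟩).symm
  · -- the coset `tP` consists of conjugates of `t`
    intro u hu
    have hmem' : t * u ∈ Subgroup.zpowers y := by
      rw [← hPy]
      exact hu
    obtain ⟨k, hk⟩ := hmem'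
    have hk' : y ^ k = t * u := hk
    have hu' : u = t * y ^ k := by
      rw [hk', ← mul_assoc, htt, one_mul]
    have hconj : ∀ j : ℤ, y ^ j * t = t * y ^ (-j) := by
      intro j
      have h1 : t * y ^ (-j) * t⁻¹ = y ^ j := by
        rw [← conj_zpow, hinv, inv_zpow, zpow_neg, inv_inv]
      calc y ^ j * t = (t * y ^ (-j) * t⁻¹) * t := by rw [h1]
        _ = t * y ^ (-j) := by group
    have hpz : y ^ (p : ℤ) = 1 := by
      have := pow_orderOf_eq_one y
      rw [hy] at this
      exact_mod_cast this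
    -- `p = 2 m + 1`
    obtain ⟨m, hm⟩ : ∃ m : ℕ, p = 2 * m + 1 := ⟨p / 2, by omega⟩
    rw [isConj_iff]
    refine ⟨y ^ ((m : ℤ) * k), ?_⟩
    rw [hu', hconj ((m : ℤ) * k), mul_assoc, ← zpow_neg, ← zpow_add]
    congr 1
    have e : -((m : ℤ) * k) + -((m : ℤ) * k) = k + (p : ℤ) * (-k) := by
      rw [hm]; push_cast; ring
    rw [e, zpow_add, zpow_mul, hpz, one_zpow, mul_one]

open Classical in
/-- the number of elements of a coset -/
theorem card_filter_mul_mem [Fintype G] (K : Subgroup G) (t : G) :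
    (Finset.univ.filter (fun u : G => t * u ∈ K)).card = Nat.card ↥K := by
  rw [← Fintype.card_subtype, ← Nat.card_eq_fintype_card]
  apply Nat.card_congr
  refine ⟨fun u => ⟨t * u.1, u.2⟩, fun q => ⟨t⁻¹ * q.1, ?_⟩, ?_, ?_⟩
  · show t * (t⁻¹ * q.1) ∈ K
    rw [mul_inv_cancel_left]
    exact q.2
  · intro u
    apply Subtype.ext
    show t⁻¹ * (t * u.1) = u.1
    group
  · intro q
    apply Subtype.ext
    show t * (t⁻¹ * q.1) = q.1
    group

/-- the conjugates of `t` in the coset `tP`: `u ~ t`, `u⁻¹ y ~ t` iff `t u ∈ P` -/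
theorem pair_iff (P : Subgroup G) (t y : G) (ht : orderOf t = 2)
    (htN : t ∈ Subgroup.normalizer (P : Set G))
    (hyP : y ∈ P) (hinv : t * y * t⁻¹ = y⁻¹)
    (hcy : Subgroup.centralizer ({y} : Set G) = P)
    (hconj : ∀ u : G, t * u ∈ P → IsConj t u) (u : G) :
    (IsConj t u ∧ IsConj t (u⁻¹ * y)) ↔ t * u ∈ P := by
  have htt : t * t = 1 := mul_self_of_orderOf_two ht
  constructor
  · rintro ⟨h1, h2⟩
    have huu : u * u = 1 := Cfsg.Agent.Lib.Helper19.Ord4032.mul_self_of_isConj htt h1
    have hui : u⁻¹ = u := inv_eq_of_mul_eq_one_left huu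
    have hvv : (u⁻¹ * y) * (u⁻¹ * y) = 1 :=
      Cfsg.Agent.Lib.Helper19.Ord4032.mul_self_of_isConj htt h2
    rw [hui] at hvv
    have hinvu : u * y * u = y⁻¹ := by
      calc u * y * u = (u * y * (u * y)) * y⁻¹ := by group
        _ = y⁻¹ := by rw [hvv, one_mul]
    rw [← hcy, Subgroup.mem_centralizer_singleton_iff]
    have h3 : t * y⁻¹ = y * t := by
      calc t * y⁻¹ = (t * y * t⁻¹)⁻¹ * t := by group
        _ = y * t := by rw [hinv, inv_inv]
    have h4 : u * y = y⁻¹ * u := by
      calc u * y = (u * y * u) * u⁻¹ := by group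
        _ = y⁻¹ * u := by rw [hinvu, hui]
    calc t * u * y = t * (u * y) := by group
      _ = t * (y⁻¹ * u) := by rw [h4]
      _ = (t * y⁻¹) * u := by group
      _ = y * t * u := by rw [h3]
      _ = y * (t * u) := by group
  · intro h
    refine ⟨hconj u h, hconj _ ?_⟩
    have h5 : t * (t * u)⁻¹ * t⁻¹ ∈ P :=
      (Subgroup.mem_normalizer_iff.mp htN _).mp (P.inv_mem h)
    have e : t * (u⁻¹ * y) = t * (t * u)⁻¹ * t⁻¹ * y := by
      calc t * (u⁻¹ * y) = t * u⁻¹ * (t * t)⁻¹ * y := by rw [htt]; group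
        _ = t * (t * u)⁻¹ * t⁻¹ * y := by group
    rw [e]
    exact P.mul_mem h5 hyP

open Classical in
/-- the pairs of conjugates of `t` with product `y` correspond to the elements of the coset `tP` -/
theorem card_pairs [Fintype G] (P : Subgroup G) (t y : G) (ht : orderOf t = 2)
    (htN : t ∈ Subgroup.normalizer (P : Set G))
    (hyP : y ∈ P) (hinv : t * y * t⁻¹ = y⁻¹)
    (hcy : Subgroup.centralizer ({y} : Set G) = P)
    (hconj : ∀ u : G, t * u ∈ P → IsConj t u) :
    (Finset.univ.filter (fun u : G => IsConj t u ∧ IsConj t (u⁻¹ * y))).card = Nat.card ↥P := by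
  have hset : Finset.univ.filter (fun u : G => IsConj t u ∧ IsConj t (u⁻¹ * y)) =
      Finset.univ.filter (fun u : G => t * u ∈ P) := by
    ext u
    simp only [Finset.mem_filter, Finset.mem_univ, true_and]
    exact pair_iff P t y ht htN hyP hinv hcy hconj u
  rw [hset, card_filter_mul_mem]

end Cfsg.Agent.Lib.Helper8.Ord720
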