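import Mathlib
import Cfsg.Agent.Lib.Helper8.Ord720A

/-!
# No simple group of order 720, part B (helper8): the two cases for `N(P_5)/C(P_5)`

`n_5 = 36`, `|N(P)| = 20`.
* `|C(P)| = 10`: the involution `t` of `C(P)` has 16 fixed cosets of `N(P)`; `N(P) ≤ C(t)`, and the
  fixed point formula `16 * 20 = k * |C(t)|` contradicts `n_5(C(t)) ≡ 1 mod 5` and `k ≤ 11`.
* `|C(P)| = 5`: `N(P)` is a Frobenius group; an involution `t ∈ N(P)` has `|C(t)| = 16`.
-/

set_option autoImplicit false
set_option linter.unusedSectionVars false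
set_option linter.style.haveILetI false

namespace Cfsg.Agent.Lib.Helper8.Ord720

open MulAction Cfsg.Agent.Lib.Helper8.SmallSimple Cfsg.Agent.Lib.Helper8.SmallSimple2
  Cfsg.Agent.Lib.Helper7

universe u

variable {G : Type u} [Group G] [Finite G]

/-- the case `|C(P)| = 10` -/
theorem case_two [IsSimpleGroup G] (hG : Nat.card G = 720)
    [Fact (Nat.Prime 5)] (P : Sylow 5 G) (hP : Nat.card ↥(P : Subgroup G) = 5)
    (hNc : Nat.card ↥(Subgroup.normalizer ((P : Subgroup G) : Set G)) = 20)
    (hCc : Nat.card ↥(Subgroup.centralizer ((P : Subgroup G) : Set G)) = 10) : False := by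
  set N := Subgroup.normalizer ((P : Subgroup G) : Set G) with hN
  set C := Subgroup.centralizer ((P : Subgroup G) : Set G) with hC
  obtain ⟨t, htC, ht⟩ := Cfsg.Agent.Lib.Helper19.Ord4032.exists_invol_mem C (by rw [hCc]; norm_num)
  have hG2 : 2 < Nat.card G := by rw [hG]; norm_num
  have hidx : N.index = 36 := by
    have := N.card_mul_index
    rw [hNc, hG] at this
    omega
  have hNtop : N ≠ ⊤ := by
    intro h
    rw [h, Subgroup.index_top] at hidx
    omega
  have huniq : ∀ s ∈ C, orderOf s = 2 → s = t := fun s hs hs2 =>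
    invol_unique_of_card (p := 5) (by norm_num) (P : Subgroup G) hP (by rw [← hC, hCc]) s t hs htC
      hs2 ht
  set M := Subgroup.centralizer ({t} : Set G) with hMdef
  have hNM : N ≤ M := by
    intro n hn
    have h1 : n * t * n⁻¹ ∈ C := conj_mem_centralizer_of_mem_normalizer (P : Subgroup G) hn htC
    have h2 : orderOf (n * t * n⁻¹) = 2 := by
      have := MulEquiv.orderOf_eq (MulAut.conj n) t
      rw [MulAut.conj_apply] at this
      rw [this, ht]
    have h3 := huniq _ h1 h2
    rw [hMdef, Subgroup.mem_centralizer_singleton_iff]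
    calc n * t = n * t * n⁻¹ * n := by group
      _ = t * n := by rw [h3]
  have hPM : (P : Subgroup G) ≤ M := (Subgroup.le_normalizer (H := (P : Subgroup G))).trans hNM
  have hcount := card_sylow_subgroup_mul P M hPM
  rw [← hN, inf_eq_left.mpr hNM, hNc] at hcount
  have hmodM : Nat.card (Sylow 5 ↥M) % 5 = 1 := by
    have := card_sylow_modEq_one 5 ↥M
    unfold Nat.ModEq at this
    omega
  have hMdvd : Nat.card ↥M ∣ 720 := by
    rw [← hG]; exact Subgroup.card_subgroup_dvd_card M
  obtain ⟨h1, ⟨s, ⟨k, hk⟩, hs⟩, h3⟩ := invol_fix_data hG2 P hP hNtop t htC ht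
  rw [← hN, hidx] at hs h3
  rw [← hN] at h1
  have hf : Nat.card (fixedBy (G ⧸ N) t) = 16 := by omega
  have hformula := card_fixedBy_mul_card N t
  rw [hf, hNc, ← hMdef] at hformula
  have hkle := card_conj_invol_le (p := 5) (P : Subgroup G) hP t ht (by rw [← hC]; exact huniq)
  rw [← hN, ← hC, hCc] at hkle
  generalize Nat.card {s : G // s ∈ N ∧ IsConj t s} = κ at hformula hkle
  generalize Nat.card (Sylow 5 ↥M) = ν at hcount hmodM
  generalize Nat.card ↥M = m at hformula hcount hMdvd
  -- `ν * 20 = m`, `16 * 20 = κ * m`, `κ ≤ 11`, `ν % 5 = 1`, `m ∣ 720`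
  subst hcount
  have h16 : κ * ν = 16 := by nlinarith
  have hνle : ν ≤ 16 := by
    rcases Nat.eq_zero_or_pos κ with h0 | h0
    · rw [h0] at h16; omega
    · nlinarith
  interval_cases ν
  all_goals first | omega | (exfalso; revert hMdvd; decide)

/-- the case `|C(P)| = 5`: the centralizer of an involution of `N(P)` has order `16` -/
theorem card_centralizer_invol [IsSimpleGroup G] (hG : Nat.card G = 720)
    [Fact (Nat.Prime 5)] (P : Sylow 5 G) (hP : Nat.card ↥(P : Subgroup G) = 5)
    (hNc : Nat.card ↥(Subgroup.normalizer ((P : Subgroup G) : Set G)) = 20)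
    (t y : G) (ht : orderOf t = 2)
    (htN : t ∈ Subgroup.normalizer ((P : Subgroup G) : Set G))
    (hy : orderOf y = 5) (hPy : (P : Subgroup G) = Subgroup.zpowers y)
    (hinv : t * y * t⁻¹ = y⁻¹)
    (hcy : Subgroup.centralizer ({y} : Set G) = (P : Subgroup G))
    (hconjt : ∀ u : G, t * u ∈ (P : Subgroup G) → IsConj t u) :
    Nat.card ↥(Subgroup.centralizer ({t} : Set G)) = 16 := by
  classical
  set N := Subgroup.normalizer ((P : Subgroup G) : Set G) with hN
  have hG2 : 2 < Nat.card G := by rw [hG]; norm_num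
  have hidx : N.index = 36 := by
    have := N.card_mul_index
    rw [hNc, hG] at this
    omega
  have htt : t * t = 1 := mul_self_of_orderOf_two ht
  have hPN : (P : Subgroup G) ≤ N := Subgroup.le_normalizer
  have hyP : y ∈ (P : Subgroup G) := by rw [hPy]; exact Subgroup.mem_zpowers y
  -- `t` inverts `P`
  have hinvP : ∀ z ∈ (P : Subgroup G), t * z * t⁻¹ = z⁻¹ := by
    intro z hz
    rw [hPy] at hz
    obtain ⟨k, rfl⟩ := hz
    rw [← conj_zpow, hinv, inv_zpow]
  have hbound := invert_fix_bound (p := 5) (by norm_num) P hP t htt hinvP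
  rw [← hN, hidx] at hbound
  obtain ⟨s, ⟨j, hj⟩, hs⟩ := four_dvd_moved hG2 N t (by rw [pow_two]; exact htt)
  rw [hidx] at hs
  have hformula := card_fixedBy_mul_card N t
  rw [hNc] at hformula
  -- the conjugates of `t` in `N`
  have hk : Nat.card {s : G // s ∈ N ∧ IsConj t s} = 5 := by
    rw [← hP]
    apply Nat.card_congr
    refine ⟨fun s => ⟨t * s.1, ?_⟩, fun q => ⟨t⁻¹ * q.1, ?_, ?_⟩, ?_, ?_⟩
    · obtain ⟨s, hsN, hst⟩ := s
      have hss : s * s = 1 := Cfsg.Agent.Lib.Helper19.Ord4032.mul_self_of_isConj htt hst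
      have hsy : s * y * s⁻¹ ∈ Subgroup.zpowers y := by
        rw [← hPy]
        exact (Subgroup.mem_normalizer_iff.mp hsN y).mp hyP
      rcases conj_eq_or_eq_inv (p := 5) y s hy hss hsy with h | h
      · exfalso
        have hsP : s ∈ (P : Subgroup G) := by
          rw [← hcy, Subgroup.mem_centralizer_singleton_iff]
          calc s * y = s * y * s⁻¹ * s := by group
            _ = y * s := by rw [h]
        have h5 := Subgroup.orderOf_dvd_natCard _ hsP
        rw [hP] at h5
        have h2 : orderOf s ∣ 2 := orderOf_dvd_of_pow_eq_one (by rw [pow_two]; exact hss)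
        have h1 : orderOf s = 1 := by
          have := Nat.dvd_gcd h5 h2
          simpa using this
        rw [orderOf_eq_one_iff] at h1
        rw [h1, isConj_one_left] at hst
        rw [hst, orderOf_one] at ht
        omega
      · show t * s ∈ (P : Subgroup G)
        rw [← hcy, Subgroup.mem_centralizer_singleton_iff]
        have e1 : s * y = y⁻¹ * s := by
          calc s * y = s * y * s⁻¹ * s := by group
            _ = y⁻¹ * s := by rw [h]
        have e2 : t * y⁻¹ = y * t := by
          calc t * y⁻¹ = (t * y * t⁻¹)⁻¹ * t := by group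
            _ = y * t := by rw [hinv, inv_inv]
        calc t * s * y = t * (s * y) := by group
          _ = t * (y⁻¹ * s) := by rw [e1]
          _ = (t * y⁻¹) * s := by group
          _ = y * t * s := by rw [e2]
          _ = y * (t * s) := by group
    · exact N.mul_mem (N.inv_mem htN) (hPN q.2)
    · apply hconjt
      rw [mul_inv_cancel_left]
      exact q.2
    · intro s
      apply Subtype.ext
      show t⁻¹ * (t * s.1) = s.1
      group
    · intro q
      apply Subtype.ext
      show t * (t⁻¹ * q.1) = q.1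
      group
  rw [hk] at hformula
  have hdvd : Nat.card ↥(Subgroup.centralizer ({t} : Set G)) ∣ 720 := by
    rw [← hG]; exact Subgroup.card_subgroup_dvd_card _
  have hpos : 0 < Nat.card ↥(Subgroup.centralizer ({t} : Set G)) := Nat.card_pos
  generalize Nat.card ↥(Subgroup.centralizer ({t} : Set G)) = h at *
  generalize Nat.card (fixedBy (G ⧸ N) t) = f at *
  have hf : f = 4 ∨ f = 8 := by omega
  rcases hf with rfl | rfl
  · omega
  · exfalso
    have : h = 32 := by omega
    subst this
    revert hdvd
    decide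

end Cfsg.Agent.Lib.Helper8.Ord720
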