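import Mathlib

/-!
# No simple group of order 720, part C (helper8): arithmetic

The character-theoretic data for the case `N(P_5) = 5 : 4` (Frobenius group): integers
`d χ = χ(1)`, `a χ = χ(y)` (`y` of order 5), `c χ = χ(t)` (`t` an involution of `N(P_5)`,
`|C(t)| = 16`) with
`∑ a² = 5`, `∑ a d = 0`, `∑ a c = 0`, `∑ c² = 16`, `∑ (720/d) a c² = 5 * 16²` (class multiplication
coefficient of `(t, t, y)`) and `d ≡ a mod 5`, `d ∣ 720`, `d ≤ 26`, `d ≠ 1` for `χ ≠ 1`.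
These are incompatible (finite check by `decide`).
-/

set_option autoImplicit false

namespace Cfsg.Agent.Lib.Helper8.Ord720

/-- the possible pairs `(χ(y), χ(1))` for `χ(y) = ± 1` -/
def types5 : List (ℤ × ℕ) := [(1, 6), (1, 16), (-1, 4), (-1, 9), (-1, 24)]

/-- the possible values `χ(t)` -/
def crange : List ℤ := [-3, -2, -1, 0, 1, 2, 3]

/-- the finite check -/
def chk : Bool :=
  types5.all fun p1 => types5.all fun p2 => types5.all fun p3 => types5.all fun p4 =>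
    !(decide (p1.1 * (p1.2 : ℤ) + p2.1 * (p2.2 : ℤ) + p3.1 * (p3.2 : ℤ) + p4.1 * (p4.2 : ℤ) = -1)) ||
    crange.all fun c1 => crange.all fun c2 => crange.all fun c3 => crange.all fun c4 =>
      !(decide (p1.1 * c1 + p2.1 * c2 + p3.1 * c3 + p4.1 * c4 = -1) &&
        decide (((720 / p1.2 : ℕ) : ℤ) * p1.1 * c1 ^ 2 + ((720 / p2.2 : ℕ) : ℤ) * p2.1 * c2 ^ 2 +
          ((720 / p3.2 : ℕ) : ℤ) * p3.1 * c3 ^ 2 + ((720 / p4.2 : ℕ) : ℤ) * p4.1 * c4 ^ 2 = 560))

theorem chk_true : chk = true := by decide +kernel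

theorem no_sol (p1 p2 p3 p4 : ℤ × ℕ) (hp1 : p1 ∈ types5) (hp2 : p2 ∈ types5) (hp3 : p3 ∈ types5)
    (hp4 : p4 ∈ types5) (c1 c2 c3 c4 : ℤ) (hc1 : c1 ∈ crange) (hc2 : c2 ∈ crange)
    (hc3 : c3 ∈ crange) (hc4 : c4 ∈ crange)
    (hE2 : p1.1 * (p1.2 : ℤ) + p2.1 * (p2.2 : ℤ) + p3.1 * (p3.2 : ℤ) + p4.1 * (p4.2 : ℤ) = -1)
    (hE3 : p1.1 * c1 + p2.1 * c2 + p3.1 * c3 + p4.1 * c4 = -1)
    (hE5 : ((720 / p1.2 : ℕ) : ℤ) * p1.1 * c1 ^ 2 + ((720 / p2.2 : ℕ) : ℤ) * p2.1 * c2 ^ 2 +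
          ((720 / p3.2 : ℕ) : ℤ) * p3.1 * c3 ^ 2 + ((720 / p4.2 : ℕ) : ℤ) * p4.1 * c4 ^ 2 = 560) :
    False := by
  have h := chk_true
  unfold chk at h
  rw [List.all_eq_true] at h
  have h1 := h p1 hp1
  rw [List.all_eq_true] at h1
  have h2 := h1 p2 hp2
  rw [List.all_eq_true] at h2
  have h3 := h2 p3 hp3
  rw [List.all_eq_true] at h3
  have h4 := h3 p4 hp4
  rw [Bool.or_eq_true, Bool.not_eq_true', decide_eq_false_iff_not] at h4
  rcases h4 with h4 | h4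
  · exact h4 hE2
  · rw [List.all_eq_true] at h4
    have g1 := h4 c1 hc1
    rw [List.all_eq_true] at g1
    have g2 := g1 c2 hc2
    rw [List.all_eq_true] at g2
    have g3 := g2 c3 hc3
    rw [List.all_eq_true] at g3
    have g4 := g3 c4 hc4
    rw [Bool.not_eq_true', Bool.and_eq_false_iff, decide_eq_false_iff_not,
      decide_eq_false_iff_not] at g4
    rcases g4 with g4 | g4
    · exact g4 hE3
    · exact g4 hE5

theorem type_mem (a : ℤ) (d : ℕ) (ha : a = 1 ∨ a = -1) (hd : d ∣ 720) (h26 : d ≤ 26) (h1 : d ≠ 1)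
    (h5 : (5 : ℤ) ∣ (d : ℤ) - a) : (a, d) ∈ types5 := by
  unfold types5
  have h0 : 0 < d := Nat.pos_of_dvd_of_pos hd (by norm_num)
  rcases ha with rfl | rfl <;> interval_cases d <;>
    first | (exfalso; omega) | (exfalso; revert hd; decide) | simp

theorem c_mem (c : ℤ) (h : c ^ 2 ≤ 15) : c ∈ crange := by
  unfold crange
  have h1 : c ≤ 3 := by nlinarith
  have h2 : -3 ≤ c := by nlinarith
  interval_cases c <;> simp

theorem pm_one_of_sq (a : ℤ) (h : a ^ 2 = 1) : a = 1 ∨ a = -1 := by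
  have h1 : a ≤ 1 := by nlinarith
  have h2 : -1 ≤ a := by nlinarith
  interval_cases a <;> simp_all

/-- the final contradiction -/
theorem final_contra {I : Type*} [Fintype I] [DecidableEq I] (d : I → ℕ) (a c : I → ℤ) (χ₁ : I)
    (h1d : d χ₁ = 1) (h1a : a χ₁ = 1) (h1c : c χ₁ = 1)
    (htype : ∀ χ, χ ≠ χ₁ → a χ ≠ 0 →
      d χ ∣ 720 ∧ d χ ≤ 26 ∧ d χ ≠ 1 ∧ (5 : ℤ) ∣ (d χ : ℤ) - a χ)
    (S1 : ∑ χ, a χ ^ 2 = 5) (S2 : ∑ χ, a χ * (d χ : ℤ) = 0) (S3 : ∑ χ, a χ * c χ = 0)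
    (S4 : ∑ χ, c χ ^ 2 = 16)
    (S5 : ∑ χ, (if a χ = 0 then 0 else ((720 / d χ : ℕ) : ℤ) * a χ * c χ ^ 2) = 1280) :
    False := by
  classical
  set J := Finset.univ.filter (fun χ => χ ≠ χ₁ ∧ a χ ≠ 0) with hJ
  have hχ₁J : χ₁ ∉ J := by simp [hJ]
  have hsplit : ∀ F : I → ℤ, (∀ χ, a χ = 0 → F χ = 0) → ∑ χ, F χ = F χ₁ + ∑ χ ∈ J, F χ := by
    intro F hF
    have h1 : ∑ χ, F χ = ∑ χ ∈ Finset.univ.filter (fun χ => a χ ≠ 0), F χ := by
      symm
      apply Finset.sum_filter_of_ne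
      intro χ _ hne h0
      exact hne (hF χ h0)
    have h2 : Finset.univ.filter (fun χ => a χ ≠ 0) = insert χ₁ J := by
      ext χ
      simp only [Finset.mem_filter, Finset.mem_univ, true_and, Finset.mem_insert, hJ]
      constructor
      · intro h0
        by_cases hχ : χ = χ₁
        · exact Or.inl hχ
        · exact Or.inr ⟨hχ, h0⟩
      · rintro (rfl | ⟨_, h0⟩)
        · rw [h1a]; norm_num
        · exact h0
    rw [h1, h2, Finset.sum_insert hχ₁J]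
  have hJa : ∀ χ ∈ J, a χ ≠ 0 := fun χ hχ => (Finset.mem_filter.mp hχ).2.2
  have hJt : ∀ χ ∈ J, d χ ∣ 720 ∧ d χ ≤ 26 ∧ d χ ≠ 1 ∧ (5 : ℤ) ∣ (d χ : ℤ) - a χ :=
    fun χ hχ => htype χ (Finset.mem_filter.mp hχ).2.1 (Finset.mem_filter.mp hχ).2.2
  have E1 : ∑ χ ∈ J, a χ ^ 2 = 4 := by
    have := hsplit (fun χ => a χ ^ 2) (fun χ h0 => by simp [h0])
    simp only [S1, h1a] at this
    linarith
  have E2 : ∑ χ ∈ J, a χ * (d χ : ℤ) = -1 := by
    have := hsplit (fun χ => a χ * (d χ : ℤ)) (fun χ h0 => by simp [h0])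
    simp only [S2, h1a, h1d] at this
    push_cast at this
    linarith
  have E3 : ∑ χ ∈ J, a χ * c χ = -1 := by
    have := hsplit (fun χ => a χ * c χ) (fun χ h0 => by simp [h0])
    simp only [S3, h1a, h1c] at this
    linarith
  have E5 : ∑ χ ∈ J, ((720 / d χ : ℕ) : ℤ) * a χ * c χ ^ 2 = 560 := by
    have := hsplit (fun χ => if a χ = 0 then 0 else ((720 / d χ : ℕ) : ℤ) * a χ * c χ ^ 2)
      (fun χ h0 => if_pos h0)
    rw [S5, if_neg (by rw [h1a]; norm_num), h1a, h1d, h1c] at this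
    have h2 : ∑ χ ∈ J, (if a χ = 0 then 0 else ((720 / d χ : ℕ) : ℤ) * a χ * c χ ^ 2) =
        ∑ χ ∈ J, ((720 / d χ : ℕ) : ℤ) * a χ * c χ ^ 2 :=
      Finset.sum_congr rfl (fun χ hχ => if_neg (hJa χ hχ))
    rw [h2] at this
    have e : ((720 / 1 : ℕ) : ℤ) * 1 * 1 ^ 2 = 720 := by norm_num
    rw [e] at this
    linarith
  have E4 : ∑ χ ∈ J, c χ ^ 2 ≤ 15 := by
    have h1 : ∑ χ ∈ insert χ₁ J, c χ ^ 2 ≤ ∑ χ, c χ ^ 2 :=
      Finset.sum_le_sum_of_subset_of_nonneg (Finset.subset_univ _) (fun _ _ _ => sq_nonneg _)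
    rw [Finset.sum_insert hχ₁J, S4, h1c] at h1
    linarith
  have hcsq : ∀ χ ∈ J, c χ ^ 2 ≤ 15 := by
    intro χ hχ
    have h1 : c χ ^ 2 ≤ ∑ χ ∈ J, c χ ^ 2 :=
      Finset.single_le_sum (f := fun χ => c χ ^ 2) (fun _ _ => sq_nonneg _) hχ
    linarith
  have hasq : ∀ χ ∈ J, 1 ≤ a χ ^ 2 := by
    intro χ hχ
    have := sq_pos_of_ne_zero (hJa χ hχ)
    omega
  have hcard : J.card ≤ 4 := by
    have := Finset.card_nsmul_le_sum J (fun χ => a χ ^ 2) 1 hasq
    rw [E1] at this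
    have h2 : (J.card : ℤ) ≤ 4 := by simpa using this
    exact_mod_cast h2
  have hcases : J.card = 0 ∨ J.card = 1 ∨ J.card = 2 ∨ J.card = 3 ∨ J.card = 4 := by omega
  rcases hcases with h0 | h1 | h2 | h3 | h4
  · rw [Finset.card_eq_zero] at h0
    rw [h0] at E1
    norm_num at E1
  · obtain ⟨x, hx⟩ := Finset.card_eq_one.mp h1
    rw [hx, Finset.sum_singleton] at E1 E2
    have hb1 : a x ≤ 2 := by nlinarith
    have hb2 : -2 ≤ a x := by nlinarith
    generalize a x = ax at *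
    generalize d x = dx at *
    interval_cases ax <;> omega
  · obtain ⟨x, y, hxy, hJe⟩ := Finset.card_eq_two.mp h2
    have hx := hasq x (by rw [hJe]; simp)
    have hy := hasq y (by rw [hJe]; simp)
    rw [hJe, Finset.sum_pair hxy] at E1
    have hb1 : a x ≤ 2 := by nlinarith
    have hb2 : -2 ≤ a x := by nlinarith
    have hb3 : a y ≤ 2 := by nlinarith
    have hb4 : -2 ≤ a y := by nlinarith
    generalize a x = ax at *
    generalize a y = ay at *
    interval_cases ax <;> interval_cases ay <;> omega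
  · obtain ⟨x, y, z, hxy, hxz, hyz, hJe⟩ := Finset.card_eq_three.mp h3
    have hx := hasq x (by rw [hJe]; simp)
    have hy := hasq y (by rw [hJe]; simp)
    have hz := hasq z (by rw [hJe]; simp)
    have hsum : ∑ χ ∈ ({x, y, z} : Finset I), a χ ^ 2 = a x ^ 2 + a y ^ 2 + a z ^ 2 := by
      rw [Finset.sum_insert (by simp [hxy, hxz]), Finset.sum_pair hyz]
      ring
    rw [hJe, hsum] at E1
    have hb1 : a x ≤ 2 := by nlinarith
    have hb2 : -2 ≤ a x := by nlinarith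
    have hb3 : a y ≤ 2 := by nlinarith
    have hb4 : -2 ≤ a y := by nlinarith
    have hb5 : a z ≤ 2 := by nlinarith
    have hb6 : -2 ≤ a z := by nlinarith
    generalize a x = ax at *
    generalize a y = ay at *
    generalize a z = az at *
    interval_cases ax <;> interval_cases ay <;> interval_cases az <;> omega
  · obtain ⟨w, T, hwT, hins, hT3⟩ := Finset.card_eq_succ.mp h4
    obtain ⟨x, y, z, hxy, hxz, hyz, hTe⟩ := Finset.card_eq_three.mp hT3
    have hwx : w ≠ x := by rintro rfl; exact hwT (by rw [hTe]; simp)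
    have hwy : w ≠ y := by rintro rfl; exact hwT (by rw [hTe]; simp)
    have hwz : w ≠ z := by rintro rfl; exact hwT (by rw [hTe]; simp)
    have hwJ : w ∈ J := by rw [← hins]; simp
    have hxJ : x ∈ J := by rw [← hins, hTe]; simp
    have hyJ : y ∈ J := by rw [← hins, hTe]; simp
    have hzJ : z ∈ J := by rw [← hins, hTe]; simp
    have hsum : ∀ F : I → ℤ, ∑ χ ∈ J, F χ = F w + F x + F y + F z := by
      intro F
      rw [← hins, Finset.sum_insert hwT, hTe, Finset.sum_insert (by simp [hxy, hxz]),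
        Finset.sum_pair hyz]
      ring
    rw [hsum] at E1 E2 E3 E5
    have hw := hasq w hwJ
    have hx := hasq x hxJ
    have hy := hasq y hyJ
    have hz := hasq z hzJ
    have aw := pm_one_of_sq (a w) (by linarith)
    have ax := pm_one_of_sq (a x) (by linarith)
    have ay := pm_one_of_sq (a y) (by linarith)
    have az := pm_one_of_sq (a z) (by linarith)
    obtain ⟨tw1, tw2, tw3, tw4⟩ := hJt w hwJ
    obtain ⟨tx1, tx2, tx3, tx4⟩ := hJt x hxJ
    obtain ⟨ty1, ty2, ty3, ty4⟩ := hJt y hyJ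
    obtain ⟨tz1, tz2, tz3, tz4⟩ := hJt z hzJ
    exact no_sol (a w, d w) (a x, d x) (a y, d y) (a z, d z)
      (type_mem _ _ aw tw1 tw2 tw3 tw4) (type_mem _ _ ax tx1 tx2 tx3 tx4)
      (type_mem _ _ ay ty1 ty2 ty3 ty4) (type_mem _ _ az tz1 tz2 tz3 tz4)
      (c w) (c x) (c y) (c z) (c_mem _ (hcsq w hwJ)) (c_mem _ (hcsq x hxJ))
      (c_mem _ (hcsq y hyJ)) (c_mem _ (hcsq z hzJ)) E2 E3 E5

end Cfsg.Agent.Lib.Helper8.Ord720
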