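import Mathlib
import Cfsg.Agent.Lib.Helper8.Ord720B
import Cfsg.Agent.Lib.Helper8.Ord720C
import Cfsg.Agent.Lib.Helper19.Ord4032D
import Cfsg.Agent.Lib.Helper10.CyclicTIGalois
import Cfsg.Agent.Lib.Helper24.PerfectLemmas
import Cfsg.Agent.Lib.Lead.KleinBlock2
import Cfsg.Agent.Lib.Helper12.BSFDeg

/-!
# No simple group of order 720, part D (helper8): characters and assembly

The case `|C(P_5)| = 5`, `N(P_5) = 5 : 4`: all irreducible characters are rational on `P_5` and on
an involution `t ∈ N(P_5)`; the second orthogonality relations for the columns of `1`, `y`, `t`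
and the class multiplication coefficient of `(t, t, y)` are incompatible (`Ord720C.final_contra`).
The structure follows helper12's `Ord5040E`.
-/

set_option autoImplicit false
set_option linter.unusedSectionVars false
set_option linter.style.haveILetI false

namespace Cfsg.Agent.Lib.Helper8.Ord720

open Cfsg Cfsg.Agent.Lib.Helper8.SmallSimple Cfsg.Agent.Lib.Helper8.SmallSimple2
  Cfsg.Agent.Lib.Helper7 Cfsg.Agent.Lib.Helper6 Cfsg.Agent.CharLib Cfsg.Agent.Lib.Helper24
open scoped ComplexConjugate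

universe u

variable {G : Type u} [Group G]

/-- the local data of an irreducible character -/
theorem char_data [Finite G] (hG : Nat.card G = 720) [Fact (Nat.Prime 5)] (P : Sylow 5 G)
    (hP : Nat.card ↥(P : Subgroup G) = 5) (t y : G) (ht : orderOf t = 2)
    (hy : orderOf y = 5) (hyP : y ∈ (P : Subgroup G))
    (hconjP : ∀ x ∈ (P : Subgroup G), x ≠ 1 → IsConj x y) (χ : IrrCharacter G) :
    ∃ (a c : ℤ) (l : ℕ), (χ : G → ℂ) y = a ∧ (χ : G → ℂ) t = c ∧
      (charDegree (χ : G → ℂ) : ℤ) + 4 * a = 5 * l := by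
  classical
  letI : Fintype G := Fintype.ofFinite G
  have hχc : IsCharacter G (χ : G → ℂ) := IsIrrCharacter.isCharacter χ.2
  have hcl : IsClassFunction G (χ : G → ℂ) := IsCharacter.isClassFunction hχc
  have hd := irr_apply_one χ
  set d := charDegree (χ : G → ℂ) with hddef
  obtain ⟨a, ha⟩ := Cfsg.Agent.Lib.Helper10.irr_int_of_forall_pow_eq χ.2 y (by
    intro m hm
    rw [hG] at hm
    have h5 : ¬ 5 ∣ m := by
      intro h
      have := Nat.dvd_gcd h (by norm_num : 5 ∣ 720)
      rw [Nat.Coprime] at hm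
      rw [hm] at this
      omega
    have hne : y ^ m ≠ 1 := by
      intro h
      have := orderOf_dvd_of_pow_eq_one h
      rw [hy] at this
      exact h5 this
    exact IsClassFunction.of_isConj hcl
      (hconjP (y ^ m) ((P : Subgroup G).pow_mem hyP m) hne))
  obtain ⟨c, hc⟩ := IsCharacter.apply_involution_int hχc t ht
  letI : Fintype ↥(P : Subgroup G) := Fintype.ofFinite _
  have sP := sum_subgroup_of_conj (P : Subgroup G) (χ : G → ℂ) hcl y hconjP
  obtain ⟨l, hl⟩ := exists_nat_sum_subgroup (P : Subgroup G) hχc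
  rw [hP, hd, ha] at sP
  rw [hP] at hl
  rw [hl] at sP
  refine ⟨a, c, l, ha, hc, ?_⟩
  have : ((d : ℤ) + 4 * a : ℂ) = ((5 * l : ℤ) : ℂ) := by
    push_cast
    linear_combination -sP
  exact_mod_cast this

/-- the case `|C(P)| = 5` -/
theorem case_four [Finite G] [IsSimpleGroup G] (hnc : ¬ IsMulCommutative G)
    (hG : Nat.card G = 720) [Fact (Nat.Prime 5)] (P : Sylow 5 G)
    (hP : Nat.card ↥(P : Subgroup G) = 5)
    (hNc : Nat.card ↥(Subgroup.normalizer ((P : Subgroup G) : Set G)) = 20)
    (hCc : Nat.card ↥(Subgroup.centralizer ((P : Subgroup G) : Set G)) = 5) : False := by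
  classical
  obtain ⟨t, y, ht, htN, htP, hy, hyP, hPy, hinv, hcy, hconjP, hconjt⟩ :=
    frob_data (p := 5) (by norm_num) P hP (by rw [hNc]) hCc
  have hCt := card_centralizer_invol hG P hP hNc t y ht htN hy hPy hinv hcy hconjt
  letI : Fintype G := Fintype.ofFinite G
  letI : Fintype (IrrCharacter G) := fintypeIrr G
  have hperf : commutator G = ⊤ := Cfsg.Agent.Lib.Helper12.BSF.commutator_eq_top_of_simple hnc
  have hdata := char_data hG P hP t y ht hy hyP hconjP
  choose a c l hdata using hdata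
  let d : IrrCharacter G → ℕ := fun χ => charDegree (χ : G → ℂ)
  have hd1 : ∀ χ : IrrCharacter G, (χ : G → ℂ) 1 = (d χ : ℂ) := fun χ => irr_apply_one χ
  have hay : ∀ χ : IrrCharacter G, (χ : G → ℂ) y = (a χ : ℂ) := fun χ => (hdata χ).1
  have hct : ∀ χ : IrrCharacter G, (χ : G → ℂ) t = (c χ : ℂ) := fun χ => (hdata χ).2.1
  have hy1 : y ≠ 1 := by
    intro h
    rw [h, orderOf_one] at hy
    omega
  have ht1 : t ≠ 1 := by
    intro h
    rw [h, orderOf_one] at ht
    omega
  -- the trivial character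
  set χ₁ : IrrCharacter G := Cfsg.Agent.Lib.Helper24.trivIrr G with hχ₁
  have h1val : ∀ g : G, (χ₁ : G → ℂ) g = 1 := fun g => rfl
  have h1d : d χ₁ = 1 := charDegree_eq_of_apply_one (by rw [h1val]; simp)
  have h1a : a χ₁ = 1 := by
    have := hay χ₁
    rw [h1val] at this
    exact_mod_cast this.symm
  have h1c : c χ₁ = 1 := by
    have := hct χ₁
    rw [h1val] at this
    exact_mod_cast this.symm
  -- the second orthogonality relations
  have S1 : ∑ χ, a χ ^ 2 = 5 := by
    have h := sum_irr_mul_conj y y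
    have hci : classIndicator y y = 1 := by
      unfold classIndicator
      rw [if_pos (IsConj.refl y)]
    rw [hci, hcy, hP, one_mul] at h
    have : ((∑ χ, a χ ^ 2 : ℤ) : ℂ) = ((5 : ℤ) : ℂ) := by
      push_cast
      push_cast at h
      rw [← h]
      apply Finset.sum_congr rfl
      intro χ _
      rw [hay χ, map_intCast]
      ring
    exact_mod_cast this
  have S2 : ∑ χ, a χ * (d χ : ℤ) = 0 := by
    have h := sum_irr_mul_conj y (1 : G)
    have hci : classIndicator (1 : G) y = 0 := by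
      unfold classIndicator
      rw [if_neg]
      rw [isConj_one_left]
      exact hy1
    rw [hci, zero_mul] at h
    have : ((∑ χ, a χ * (d χ : ℤ) : ℤ) : ℂ) = ((0 : ℤ) : ℂ) := by
      push_cast
      rw [← h]
      apply Finset.sum_congr rfl
      intro χ _
      rw [hay χ, hd1 χ, map_natCast]
    exact_mod_cast this
  have S3 : ∑ χ, a χ * c χ = 0 := by
    have h := sum_irr_mul_conj y t
    have hci : classIndicator t y = 0 := by
      unfold classIndicator
      rw [if_neg]
      intro hconj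
      obtain ⟨g, hg⟩ := isConj_iff.mp hconj
      have := MulEquiv.orderOf_eq (MulAut.conj g) y
      rw [MulAut.conj_apply, hg, ht, hy] at this
      omega
    rw [hci, zero_mul] at h
    have : ((∑ χ, a χ * c χ : ℤ) : ℂ) = ((0 : ℤ) : ℂ) := by
      push_cast
      rw [← h]
      apply Finset.sum_congr rfl
      intro χ _
      rw [hay χ, hct χ, map_intCast]
    exact_mod_cast this
  have S4 : ∑ χ, c χ ^ 2 = 16 := by
    have h := sum_irr_mul_conj t t
    have hci : classIndicator t t = 1 := by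
      unfold classIndicator
      rw [if_pos (IsConj.refl t)]
    rw [hci, hCt, one_mul] at h
    have : ((∑ χ, c χ ^ 2 : ℤ) : ℂ) = ((16 : ℤ) : ℂ) := by
      push_cast
      push_cast at h
      rw [← h]
      apply Finset.sum_congr rfl
      intro χ _
      rw [hct χ, map_intCast]
      ring
    exact_mod_cast this
  -- the degrees are at most `26`
  have hsumsq := sum_charDegree_sq (G := G)
  have hcardG : Fintype.card G = 720 := by rw [← Nat.card_eq_fintype_card]; exact hG
  have hd26 : ∀ χ, d χ ≤ 26 := by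
    intro χ
    have h1 : d χ ^ 2 ≤ ∑ χ : IrrCharacter G, charDegree (χ : G → ℂ) ^ 2 :=
      Finset.single_le_sum (f := fun χ : IrrCharacter G => charDegree (χ : G → ℂ) ^ 2)
        (fun _ _ => Nat.zero_le _) (Finset.mem_univ χ)
    rw [hsumsq, hcardG] at h1
    by_contra hlt
    have hlt' : 27 ≤ d χ := by omega
    have : 27 ^ 2 ≤ d χ ^ 2 := Nat.pow_le_pow_left hlt' 2
    omega
  have htype : ∀ χ, χ ≠ χ₁ → a χ ≠ 0 →
      d χ ∣ 720 ∧ d χ ≤ 26 ∧ d χ ≠ 1 ∧ (5 : ℤ) ∣ (d χ : ℤ) - a χ := by
    intro χ hχ _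
    obtain ⟨-, -, hl⟩ := hdata χ
    have hdvd : d χ ∣ 720 := by rw [← hG]; exact irr_charDegree_dvd_card χ
    have hne1 : (χ : G → ℂ) ≠ fun _ => 1 := by
      intro h
      apply hχ
      exact Subtype.ext h
    have hdne : d χ ≠ 1 := fun h =>
      hne1 (Cfsg.Agent.Lib.Helper12.BSF.eq_one_of_charDegree_one hperf χ h)
    refine ⟨hdvd, hd26 χ, hdne, ⟨(l χ : ℤ) - a χ, ?_⟩⟩
    show (charDegree (χ : G → ℂ) : ℤ) - a χ = 5 * ((l χ : ℤ) - a χ)
    linarith
  -- the class multiplication coefficient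
  have hexp := congrFun (classFunction_eq_sum (pairFun_isClassFunction t)) y
  simp only [Finset.sum_apply, Pi.smul_apply, smul_eq_mul] at hexp
  rw [Cfsg.Agent.Lib.Helper19.Ord4032.pairFun_eq_card,
    card_pairs (P : Subgroup G) t y ht htN hyP hinv hcy hconjt, hP, hCt] at hexp
  have S5 : ∑ χ, (if a χ = 0 then (0 : ℤ) else ((720 / d χ : ℕ) : ℤ) * a χ * c χ ^ 2) = 1280 := by
    have key : ∀ χ : IrrCharacter G, classInner (pairFun t) (χ : G → ℂ) * (χ : G → ℂ) y =
        (((if a χ = 0 then (0 : ℤ) else ((720 / d χ : ℕ) : ℤ) * a χ * c χ ^ 2) : ℤ) : ℂ) := by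
      intro χ
      rw [classInner_pairFun, hG, hct χ, hd1 χ, hay χ, map_intCast]
      by_cases h0 : a χ = 0
      · rw [if_pos h0, h0]
        simp
      · rw [if_neg h0]
        have hdvd : d χ ∣ 720 := by rw [← hG]; exact irr_charDegree_dvd_card χ
        have hdpos : (d χ : ℂ) ≠ 0 := by exact_mod_cast (irr_charDegree_pos χ).ne'
        obtain ⟨q, hq⟩ := hdvd
        have hq' : 720 / d χ = q := by
          rw [hq]
          exact Nat.mul_div_cancel_left q (irr_charDegree_pos χ)
        rw [hq']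
        have hqc : ((720 : ℕ) : ℂ) = (d χ : ℂ) * q := by
          exact_mod_cast congrArg (Nat.cast (R := ℂ)) hq
        push_cast
        push_cast at hqc
        rw [div_mul_eq_mul_div, div_eq_iff hdpos]
        linear_combination ((c χ : ℂ) ^ 2 * a χ) * hqc
    have : (((∑ χ, (if a χ = 0 then (0 : ℤ) else
        ((720 / d χ : ℕ) : ℤ) * a χ * c χ ^ 2) : ℤ)) : ℂ) = ((1280 : ℤ) : ℂ) := by
      rw [Finset.sum_congr rfl (fun χ _ => key χ)] at hexp
      push_cast at hexp ⊢
      linear_combination -hexp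
    exact_mod_cast this
  exact final_contra d a c χ₁ h1d h1a h1c htype S1 S2 S3 S4 S5

/-- **There is no simple group of order 720.** -/
theorem no_simple_720 {G : Type*} [Group G] [Finite G] [IsSimpleGroup G] :
    Nat.card G ≠ 720 := by
  intro h
  have hnc : ¬ IsMulCommutative G := not_comm_of_card_not_prime (by rw [h]; norm_num)
  haveI : Fact (Nat.Prime 5) := ⟨by norm_num⟩
  obtain ⟨P⟩ : Nonempty (Sylow 5 G) := inferInstance
  obtain ⟨hPc, n, k, c, r, hn, hN, hC, hr, hnk, hcr, hmod, hn1, hr4, hr1, -, -⟩ :=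
    sylow_prime_data hnc (p := 5) (m := 144) (by rw [h]) (by norm_num) P
  have hmem := Cfsg.Agent.Lib.Helper8.OrdSieve.sylow_count_mem hnc (p := 5) (a := 1) (m := 144)
    (by norm_num) le_rfl (by norm_num) (by rw [h]; norm_num) (by norm_num)
  have hl : Cfsg.Agent.Lib.Helper8.OrdSieve.npList 5 1 144 = [36] := by decide +kernel
  rw [hl, List.mem_singleton, hn] at hmem
  subst hmem
  have hk : k = 4 := by omega
  subst hk
  have hrle : r ≤ 4 := Nat.le_of_dvd (by norm_num) hr4
  have hcases : (c = 2 ∧ r = 2) ∨ (c = 1 ∧ r = 4) := by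
    interval_cases r <;> omega
  rcases hcases with ⟨rfl, rfl⟩ | ⟨rfl, rfl⟩
  · exact case_two h P hPc (by rw [hN]) (by rw [hC])
  · exact case_four hnc h P hPc (by rw [hN]) (by rw [hC])

end Cfsg.Agent.Lib.Helper8.Ord720
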