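import Mathlib
import Cfsg.Agent.Lib.Helper8.OrdSieveE
import Cfsg.Agent.Lib.Helper8.BSFGen

/-!
No simple group of order `756 = 2^2 * 3^3 * 7` (helper8): `n_7 = 36`, `|N(P_7)| = 21`, and the
Brauer degree equation for `p = 7`, `m = 3` (principal block: `1, χ₁, χ₂` and two exceptional
characters) has no solution with degrees dividing `756`.
-/

set_option autoImplicit false
set_option linter.style.haveILetI false

namespace Cfsg.Agent.Lib.Helper8.OrdSieve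

open Cfsg Cfsg.Agent.Lib.Helper7

/-- possible (degree, sign) pairs -/
theorem deg_cases_756 (n : ℕ) (b : ℤ) (hb : b = 1 ∨ b = -1) (hn : n ∣ 756)
    (hc : (7 : ℤ) ∣ (n : ℤ) - b) (h1 : n ≠ 1) :
    (n = 6 ∧ b = -1) ∨ (n = 27 ∧ b = -1) ∨ (n = 36 ∧ b = 1) := by
  have hcop : Nat.Coprime n 7 := by
    rw [Nat.coprime_comm, Nat.Prime.coprime_iff_not_dvd (by norm_num)]
    intro h7
    rcases hb with rfl | rfl <;> omega
  have hn108 : n ∣ 108 := by
    apply Nat.Coprime.dvd_of_dvd_mul_right hcop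
    exact hn
  have hnle : n ≤ 108 := Nat.le_of_dvd (by norm_num) hn108
  rcases hb with rfl | rfl <;> interval_cases n <;> omega

theorem no_simple_756 {G : Type*} [Group G] [Finite G] [IsSimpleGroup G] :
    Nat.card G ≠ 756 := by
  classical
  intro h
  haveI : Fact (Nat.Prime 7) := ⟨by norm_num⟩
  have hnc : ¬ IsMulCommutative G := not_comm_of_card_not_prime (by rw [h]; norm_num)
  have hperf := Cfsg.Agent.Lib.Helper12.BSF.commutator_eq_top_of_simple hnc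
  obtain ⟨P⟩ : Nonempty (Sylow 7 G) := Sylow.nonempty
  obtain ⟨hPc, hPi⟩ := sylow_card_index_of_exact (p := 7) (m := 108) (by rw [h]) (by norm_num) P
  have hmem := sylow_count_mem hnc (p := 7) (a := 1) (m := 108) (by norm_num) le_rfl
    (by norm_num) (by rw [h]; norm_num) (by norm_num)
  have hl : npList 7 1 108 = [36] := by decide +kernel
  rw [hl, List.mem_singleton] at hmem
  have hN : Nat.card (Subgroup.normalizer ((P : Subgroup G) : Set G)) = 7 * 3 :=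
    card_normalizer_of_count (p := 7) (by norm_num) h (show 36 * (7 * 3) = 756 by norm_num)
      P hmem
  have hC := Cfsg.Agent.Lib.Helper12.BSF.centralizer_eq_of_card_normalizer hnc 7 3 Nat.prime_three
    P hPc hN
  obtain ⟨X, a, η, d, δ, hδ, hXc, hXne, ha0, hnorm, hcong, hdeg⟩ :=
    Cfsg.Agent.Lib.Helper8.BSFGen.core_gen 7 P hPc hC 3 Nat.prime_three (by norm_num) hN
  have ht : (7 - 1) / 3 = 2 := by norm_num
  rw [ht] at hnorm hdeg
  push_cast at hnorm hdeg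
  have hnorm' : (d - δ) ^ 2 + d ^ 2 + ∑ χ ∈ X, a χ ^ 2 = 3 := by linarith
  have hSnn : 0 ≤ ∑ χ ∈ X, a χ ^ 2 := Finset.sum_nonneg (fun χ _ => sq_nonneg _)
  have hcardle : (X.card : ℤ) ≤ ∑ χ ∈ X, a χ ^ 2 := by
    have h1 : ∀ χ ∈ X, (1 : ℤ) ≤ a χ ^ 2 := by
      intro χ hχ
      have := sq_pos_of_ne_zero (ha0 χ hχ)
      omega
    have := Finset.card_nsmul_le_sum X (fun χ => a χ ^ 2) 1 h1
    simpa using this
  -- the sum of squares is 2 and `2d - δ = ±1`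
  have hkey : ∑ χ ∈ X, a χ ^ 2 = 2 ∧ (2 * d - δ = 1 ∨ 2 * d - δ = -1) := by
    have hd1 : d ≤ 1 := by
      by_contra hcon
      have : 2 ≤ d := by omega
      rcases hδ with rfl | rfl <;> nlinarith
    have hd2 : -1 ≤ d := by
      by_contra hcon
      have : d ≤ -2 := by omega
      rcases hδ with rfl | rfl <;> nlinarith
    rcases hδ with rfl | rfl <;> interval_cases d <;> constructor <;> omega
  obtain ⟨hS, hε⟩ := hkey
  rw [hS] at hcardle
  have hX2 : X.card = 2 := by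
    have hle : X.card ≤ 2 := by exact_mod_cast hcardle
    interval_cases hXcard : X.card
    · rw [Finset.card_eq_zero] at hXcard
      rw [hXcard] at hS
      norm_num at hS
    · obtain ⟨χ, rfl⟩ := Finset.card_eq_one.mp hXcard
      rw [Finset.sum_singleton] at hS
      exfalso
      have h1 : a χ ≤ 1 := by nlinarith
      have h2 : -1 ≤ a χ := by nlinarith
      interval_cases a χ <;> omega
    · rfl
  obtain ⟨χ₁, χ₂, hne, rfl⟩ := Finset.card_eq_two.mp hX2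
  rw [Finset.sum_pair hne] at hS hdeg
  have hm1 : χ₁ ∈ ({χ₁, χ₂} : Finset (IrrCharacter G)) := by simp
  have hm2 : χ₂ ∈ ({χ₁, χ₂} : Finset (IrrCharacter G)) := by simp
  have h10 := ha0 χ₁ hm1
  have h20 := ha0 χ₂ hm2
  have ha1 : a χ₁ = 1 ∨ a χ₁ = -1 := by
    have h1 : a χ₁ ≤ 1 := by nlinarith [sq_nonneg (a χ₂)]
    have h2 : -1 ≤ a χ₁ := by nlinarith [sq_nonneg (a χ₂)]
    omega
  have ha2 : a χ₂ = 1 ∨ a χ₂ = -1 := by
    have h1 : a χ₂ ≤ 1 := by nlinarith [sq_nonneg (a χ₁)]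
    have h2 : -1 ≤ a χ₂ := by nlinarith [sq_nonneg (a χ₁)]
    omega
  have hd1 : charDegree (χ₁ : G → ℂ) ∣ 756 := by
    rw [← h]; exact Cfsg.Agent.Lib.Helper24.irr_charDegree_dvd_card χ₁
  have hd2 : charDegree (χ₂ : G → ℂ) ∣ 756 := by
    rw [← h]; exact Cfsg.Agent.Lib.Helper24.irr_charDegree_dvd_card χ₂
  have hηdvd : charDegree (η : G → ℂ) ∣ 756 := by
    rw [← h]; exact Cfsg.Agent.Lib.Helper24.irr_charDegree_dvd_card η
  have hne1 : charDegree (χ₁ : G → ℂ) ≠ 1 := fun h1 =>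
    hXne χ₁ hm1 (Cfsg.Agent.Lib.Helper12.BSF.eq_one_of_charDegree_one hperf χ₁ h1)
  have hne2 : charDegree (χ₂ : G → ℂ) ≠ 1 := fun h1 =>
    hXne χ₂ hm2 (Cfsg.Agent.Lib.Helper12.BSF.eq_one_of_charDegree_one hperf χ₂ h1)
  have hc1 := hcong χ₁ hm1
  have hc2 := hcong χ₂ hm2
  generalize charDegree (χ₁ : G → ℂ) = n₁ at *
  generalize charDegree (χ₂ : G → ℂ) = n₂ at *
  generalize charDegree (η : G → ℂ) = dη at *
  generalize a χ₁ = b₁ at *
  generalize a χ₂ = b₂ at *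
  have hv : ∃ ε : ℤ, (ε = 1 ∨ ε = -1) ∧ 1 + (b₁ * (n₁ : ℤ) + b₂ * (n₂ : ℤ)) = ε * (dη : ℤ) := by
    rcases hε with he | he
    · exact ⟨-1, Or.inr rfl, by rw [he] at hdeg; linarith⟩
    · exact ⟨1, Or.inl rfl, by rw [he] at hdeg; linarith⟩
  obtain ⟨ε, hε', hv⟩ := hv
  rcases deg_cases_756 n₁ b₁ ha1 hd1 hc1 hne1 with ⟨rfl, rfl⟩ | ⟨rfl, rfl⟩ | ⟨rfl, rfl⟩ <;>
  rcases deg_cases_756 n₂ b₂ ha2 hd2 hc2 hne2 with ⟨rfl, rfl⟩ | ⟨rfl, rfl⟩ | ⟨rfl, rfl⟩ <;>
  exact Cfsg.Agent.Lib.Helper12.BSF.final_contra 756 dη ε _ hε' hv hηdvd (by decide)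

end Cfsg.Agent.Lib.Helper8.OrdSieve
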