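import Mathlib
import Cfsg.Agent.Lib.Helper8.OrdSieveE

/-!
No simple groups of order `840` and `420` (helper8): in both cases `n_7 = 15` is forced, and then
`|C(P_7)|` is even, which is impossible since an involution centralising `P_7` would be an odd
permutation of the 15 Sylow 7-subgroups.
-/

set_option autoImplicit false
set_option linter.style.haveILetI false

namespace Cfsg.Agent.Lib.Helper8.OrdSieve

open Cfsg.Agent.Lib.Helper7

theorem no_simple_840 {G : Type*} [Group G] [Finite G] [IsSimpleGroup G] : Nat.card G ≠ 840 := by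
  intro h
  have hnc : ¬ IsMulCommutative G := not_comm_of_card_not_prime (by rw [h]; norm_num)
  haveI : Fact (Nat.Prime 7) := ⟨by norm_num⟩
  have hmem := sylow_count_mem hnc (p := 7) (a := 1) (m := 120) (by norm_num) le_rfl
    (by norm_num) (by rw [h]; norm_num) (by norm_num)
  have hl : npList 7 1 120 = [15] := by decide +kernel
  rw [hl, List.mem_singleton] at hmem
  obtain ⟨P⟩ : Nonempty (Sylow 7 G) := inferInstance
  obtain ⟨hPc, -⟩ := sylow_card_index_of_exact (p := 7) (m := 120) (by rw [h]) (by norm_num) P
  have hodd := odd_card_centralizer_of_count (by rw [h]; norm_num) (by norm_num) P hPc hmem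
  have hN := card_normalizer_of_count (p := 7) (by norm_num) h
    (show 15 * 56 = 840 by norm_num) P hmem
  have h1 := relIndex_centralizer_normalizer_dvd_of_prime (P : Subgroup G) hPc
  have h3 := card_centralizer_mul_relIndex (P : Subgroup G)
  rw [hN] at h3
  apply hodd
  generalize (Subgroup.centralizer ((P : Subgroup G) : Set G)).relIndex
    (Subgroup.normalizer ((P : Subgroup G) : Set G)) = r at h1 h3
  generalize Nat.card ↥(Subgroup.centralizer ((P : Subgroup G) : Set G)) = c at h3 ⊢
  have hr6 : r ∣ 6 := h1
  have hrle : r ≤ 6 := Nat.le_of_dvd (by norm_num) hr6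
  interval_cases r <;> omega

theorem no_simple_420 {G : Type*} [Group G] [Finite G] [IsSimpleGroup G] : Nat.card G ≠ 420 := by
  intro h
  have hnc : ¬ IsMulCommutative G := not_comm_of_card_not_prime (by rw [h]; norm_num)
  haveI : Fact (Nat.Prime 7) := ⟨by norm_num⟩
  have hmem := sylow_count_mem hnc (p := 7) (a := 1) (m := 60) (by norm_num) le_rfl
    (by norm_num) (by rw [h]; norm_num) (by norm_num)
  have hl : npList 7 1 60 = [15] := by decide +kernel
  rw [hl, List.mem_singleton] at hmem
  obtain ⟨P⟩ : Nonempty (Sylow 7 G) := inferInstance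
  obtain ⟨hPc, -⟩ := sylow_card_index_of_exact (p := 7) (m := 60) (by rw [h]) (by norm_num) P
  have hodd := odd_card_centralizer_of_count (by rw [h]; norm_num) (by norm_num) P hPc hmem
  have hN := card_normalizer_of_count (p := 7) (by norm_num) h
    (show 15 * 28 = 420 by norm_num) P hmem
  have h1 := relIndex_centralizer_normalizer_dvd_of_prime (P : Subgroup G) hPc
  have h3 := card_centralizer_mul_relIndex (P : Subgroup G)
  rw [hN] at h3
  apply hodd
  generalize (Subgroup.centralizer ((P : Subgroup G) : Set G)).relIndex
    (Subgroup.normalizer ((P : Subgroup G) : Set G)) = r at h1 h3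
  generalize Nat.card ↥(Subgroup.centralizer ((P : Subgroup G) : Set G)) = c at h3 ⊢
  have hr6 : r ∣ 6 := h1
  have hrle : r ≤ 6 := Nat.le_of_dvd (by norm_num) hr6
  interval_cases r <;> omega

end Cfsg.Agent.Lib.Helper8.OrdSieve
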