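import Mathlib
import Cfsg.Agent.Lib.Helper8.OrdSieveC

/-!
Order sieve for non-abelian simple groups, part D: evaluation of the sieve up to `1092` (helper8).
-/

set_option autoImplicit false

namespace Cfsg.Agent.Lib.Helper8.OrdSieve

/-- the orders up to `1092` not killed by the sieve: the six orders of simple groups and seven more -/
def residual1092 : List ℕ := [60, 168, 360, 504, 660, 1092, 420, 720, 756, 840, 1008, 1040, 1080]

theorem sieve_1092 : ∀ n : ℕ, n ≤ 1092 →
    (n = 0 ∨ n = 1 ∨ n ∈ residual1092 ∨ sieveOK n = true) := by
  decide +kernel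

end Cfsg.Agent.Lib.Helper8.OrdSieve
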