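/-
helper8: S4892 leaf (T2) `prat_extension`, core: with (T1) uniqueness and (D1) as hypotheses.
-/
import Mathlib
import Cfsg.Prelude.Def_Blocks
import Cfsg.Prelude.Def_CharExt
import Cfsg.Agent.Lib.Helper6.Clifford
import Cfsg.Agent.Lib.Helper23.PRatDefs
import Cfsg.Agent.Lib.Helper23.GaloisChar

set_option autoImplicit false

namespace Cfsg.Agent.Lib.Helper8.PRat

open Cfsg Cfsg.Agent.Lib.Helper6 Cfsg.Agent.Lib.Helper23.PRat

universe u

/-- (T2) with (T1) (as `hU`) and (D1) (as `hD`) as hypotheses: the unique extension of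
`p'`-determinantal order of a `p`-rational character is `p`-rational. -/
theorem prat_extension_of {G : Type u} [Group G] [Finite G] (p : ℕ)
    (H : Subgroup G) (χ₁ : IrrCharacter H)
    (n : ℕ) (hn : Nat.card G ∣ n) (hrat : PRat p n (χ₁ : H → ℂ)) (χ : IrrCharacter G)
    (hχ : ∀ h : H, (χ : G → ℂ) h = (χ₁ : H → ℂ) h)
    (hχdet : ¬ p ∣ orderOf (detChar (χ : G → ℂ)))
    (hU : ∃! χ : IrrCharacter G, (∀ h : H, (χ : G → ℂ) h = (χ₁ : H → ℂ) h) ∧
      ¬ p ∣ orderOf (detChar (χ : G → ℂ)))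
    (hD : ∀ k : ℕ, k.Coprime (Nat.card G) →
      detChar (fun x => (χ : G → ℂ) (x ^ k)) = fun x => (detChar (χ : G → ℂ) x) ^ k) :
    PRat p n (χ : G → ℂ) := by
  intro k hk hk1 x
  have hkG : k.Coprime (Nat.card G) := Nat.Coprime.coprime_dvd_right hn hk
  let χk : IrrCharacter G :=
    ⟨fun g => (χ : G → ℂ) (g ^ k), Cfsg.Agent.Lib.Helper23.isIrrCharacter_comp_pow χ.2 k hkG⟩
  have h1 : ∀ h : H, (χk : G → ℂ) h = (χ₁ : H → ℂ) h := by
    intro h
    show (χ : G → ℂ) ((h : G) ^ k) = (χ₁ : H → ℂ) h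
    have h2 : ((h : G)) ^ k = ((h ^ k : H) : G) := by simp
    rw [h2, hχ, hrat k hk hk1 h]
  have h2 : ¬ p ∣ orderOf (detChar (χk : G → ℂ)) := by
    show ¬ p ∣ orderOf (detChar (fun g => (χ : G → ℂ) (g ^ k)))
    rw [hD k hkG]
    have h3 : (fun x => (detChar (χ : G → ℂ) x) ^ k) = (detChar (χ : G → ℂ)) ^ k := rfl
    rw [h3]
    intro hp
    exact hχdet (hp.trans (orderOf_pow_dvd k))
  have h3 : χk = χ := hU.unique ⟨h1, h2⟩ ⟨hχ, hχdet⟩
  exact congrFun (congrArg Subtype.val h3) x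

end Cfsg.Agent.Lib.Helper8.PRat
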