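/-
helper8: S4892 leaf (T2) `prat_extension`: the extension of (T1) inherits `p`-rationality.
-/
import Mathlib
import Cfsg.Prelude.Def_Blocks
import Cfsg.Prelude.Def_CharExt
import Cfsg.Agent.Lib.Helper6.Clifford
import Cfsg.Agent.Lib.Helper23.PRatDefs
import Cfsg.Agent.Lib.Helper8.PRatT2Core
import Cfsg.Agent.Lib.Helper25.PRatT1
import Cfsg.Agent.Lib.Helper27.PRatD1

set_option autoImplicit false

namespace Cfsg.Agent.Lib.Helper8.PRat

open Cfsg Cfsg.Agent.Lib.Helper6 Cfsg.Agent.Lib.Helper23.PRat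

universe u

/-- (T2) the extension of T1 inherits `p`-rationality. -/
theorem prat_extension {G : Type u} [Group G] [Finite G] (p : ℕ) [Fact p.Prime]
    (H : Subgroup G) [H.Normal] {a : ℕ} (hidx : H.index = p ^ a) (χ₁ : IrrCharacter H)
    (hinv : ∀ g : G, conjFun H g (χ₁ : H → ℂ) = (χ₁ : H → ℂ))
    (hdeg : ¬ p ∣ charDegree (χ₁ : H → ℂ)) (hdet : ¬ p ∣ orderOf (detChar (χ₁ : H → ℂ)))
    (n : ℕ) (hn : Nat.card G ∣ n) (hrat : PRat p n (χ₁ : H → ℂ)) (χ : IrrCharacter G)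
    (hχ : ∀ h : H, (χ : G → ℂ) h = (χ₁ : H → ℂ) h)
    (hχdet : ¬ p ∣ orderOf (detChar (χ : G → ℂ))) : PRat p n (χ : G → ℂ) :=
  prat_extension_of p H χ₁ n hn hrat χ hχ hχdet
    (Cfsg.Agent.Lib.Helper25.PRat.existsUnique_extension_pprime_det p H hidx χ₁ hinv hdeg hdet)
    (fun k hk => Cfsg.Agent.Lib.Helper27.PRat.detChar_comp_pow
      (Cfsg.Agent.CharLib.IsIrrCharacter.isCharacter χ.2) k hk)

end Cfsg.Agent.Lib.Helper8.PRat
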