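import Mathlib
import Cfsg.Prelude.Def_LieRecognition
import Cfsg.Agent.Lib.Helper27.Dihedral

/-!
# The rank-one set-up (helper8 library)

Basic consequences of `Cfsg.IsRankOneSetup G Ω a t Q`: regularity of `Q` on `Ω ∖ {a}`,
canonical form `x t y`, involutions have a unique fixed point, products of involutions with
different fixed points have odd order.
-/

set_option autoImplicit false

namespace Cfsg.Agent.Lib.Helper8.RankOne

open MulAction

variable {G Ω : Type*} [Group G] [MulAction G Ω] {a : Ω} {t : G} {Q : Subgroup G}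

theorem ta_ne (hS : Cfsg.IsRankOneSetup G Ω a t Q) : t • a ≠ a :=
  fun h => hS.not_mem (mem_stabilizer_iff.mpr h)

theorem tta (hS : Cfsg.IsRankOneSetup G Ω a t Q) : t • t • a = a := by
  rw [← mul_smul, hS.mul_self, one_smul]

theorem t_inv (hS : Cfsg.IsRankOneSetup G Ω a t Q) : t⁻¹ = t :=
  inv_eq_of_mul_eq_one_left hS.mul_self

theorem two_trans (hS : Cfsg.IsRankOneSetup G Ω a t Q) :
    ∀ {b c d e : Ω}, b ≠ c → d ≠ e → ∃ g : G, g • b = d ∧ g • c = e :=
  fun h h' => (is_two_pretransitive_iff.mp hS.two_transitive) h h'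

theorem exists_smul_eq' (hS : Cfsg.IsRankOneSetup G Ω a t Q) (b c : Ω) : ∃ g : G, g • b = c := by
  by_cases hbc : b = c
  · exact ⟨1, by rw [one_smul, hbc]⟩
  · obtain ⟨g, hg, -⟩ := two_trans hS hbc (Ne.symm hbc)
    obtain ⟨g', hg', -⟩ := two_trans hS (Ne.symm hbc) (Ne.symm hbc)
    by_cases hcb : g • b = c
    · exact ⟨g, hcb⟩
    · -- g • b = c by construction
      exact absurd hg hcb

theorem Ga_le_normalizer (hS : Cfsg.IsRankOneSetup G Ω a t Q) :
    stabilizer G a ≤ Subgroup.normalizer (Q : Set G) := by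
  intro h hh
  rw [Subgroup.mem_normalizer_iff]
  intro x
  constructor
  · intro hx; exact hS.conj_mem h hh x hx
  · intro hx
    have := hS.conj_mem h⁻¹ (inv_mem hh) _ hx
    simpa [mul_assoc] using this

/-- every element of `G_a` is `q * d`. -/
theorem decomp (hS : Cfsg.IsRankOneSetup G Ω a t Q) :
    ∀ g ∈ stabilizer G a, ∃ q ∈ Q, ∃ d ∈ stabilizer G a ⊓ stabilizer G (t • a), g = q * d := by
  intro g hg
  have hset := Subgroup.coe_mul_of_right_le_normalizer_left Q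
    (stabilizer G a ⊓ stabilizer G (t • a)) (le_trans inf_le_left (Ga_le_normalizer hS))
  have hg' : g ∈ ((Q ⊔ (stabilizer G a ⊓ stabilizer G (t • a)) : Subgroup G) : Set G) := by
    rw [hS.sup_eq]; exact hg
  rw [hset] at hg'
  obtain ⟨q, hq, d, hd, rfl⟩ := Set.mem_mul.mp hg'
  exact ⟨q, hq, d, hd, rfl⟩

theorem mem_Q_inf_eq_one (hS : Cfsg.IsRankOneSetup G Ω a t Q) {x : G} (hx : x ∈ Q)
    (hx' : x • (t • a) = t • a) : x = 1 := by
  have : x ∈ Q ⊓ stabilizer G (t • a) := ⟨hx, mem_stabilizer_iff.mpr hx'⟩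
  rwa [hS.inf_eq_bot, Subgroup.mem_bot] at this

theorem decomp_unique (hS : Cfsg.IsRankOneSetup G Ω a t Q) {q d q' d' : G} (hq : q ∈ Q)
    (hd : d ∈ stabilizer G a ⊓ stabilizer G (t • a)) (hq' : q' ∈ Q)
    (hd' : d' ∈ stabilizer G a ⊓ stabilizer G (t • a)) (h : q * d = q' * d') :
    q = q' ∧ d = d' := by
  have h1 : q'⁻¹ * q = d' * d⁻¹ := by
    calc q'⁻¹ * q = q'⁻¹ * (q * d) * d⁻¹ := by group
      _ = q'⁻¹ * (q' * d') * d⁻¹ := by rw [h]
      _ = d' * d⁻¹ := by group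
  have h2 : q'⁻¹ * q = 1 := by
    apply mem_Q_inf_eq_one hS (Q.mul_mem (Q.inv_mem hq') hq)
    rw [h1]
    exact mem_stabilizer_iff.mp
      ((stabilizer G (t • a)).mul_mem hd'.2 ((stabilizer G (t • a)).inv_mem hd.2))
  have h3 : q = q' := by
    calc q = q' * (q'⁻¹ * q) := by group
      _ = q' := by rw [h2, mul_one]
  refine ⟨h3, ?_⟩
  rw [h3] at h
  exact mul_left_cancel h

/-- a nonidentity element of `Q` fixes only `a`. -/
theorem fix_eq (hS : Cfsg.IsRankOneSetup G Ω a t Q) :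
    ∀ x ∈ Q, x ≠ 1 → ∀ b : Ω, x • b = b → b = a := by
  intro x hx hx1 b hb
  by_contra hba
  obtain ⟨g, hga, hgb⟩ := two_trans hS (b := a) (c := t • a) (d := a) (e := b)
    (Ne.symm (ta_ne hS)) (Ne.symm hba)
  have hgGa : g ∈ stabilizer G a := mem_stabilizer_iff.mpr hga
  obtain ⟨q, hq, d, hd, rfl⟩ := decomp hS g hgGa
  have hd2 : d • (t • a) = t • a := mem_stabilizer_iff.mp hd.2
  have hqb : q • (t • a) = b := by rw [← hgb, mul_smul, hd2]
  have hmem : q⁻¹ * x * q = 1 := by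
    apply mem_Q_inf_eq_one hS (Q.mul_mem (Q.mul_mem (Q.inv_mem hq) hx) hq)
    rw [mul_smul, mul_smul, hqb, hb, ← hqb, inv_smul_smul]
  apply hx1
  have : x = q * (q⁻¹ * x * q) * q⁻¹ := by group
  rw [this, hmem]; group

/-- `Q` is transitive on `Ω ∖ {a}`. -/
theorem exists_Q_smul (hS : Cfsg.IsRankOneSetup G Ω a t Q) (b c : Ω) (hb : b ≠ a) (hc : c ≠ a) :
    ∃ x ∈ Q, x • b = c := by
  have key : ∀ e : Ω, e ≠ a → ∃ x ∈ Q, x • (t • a) = e := by
    intro e he
    obtain ⟨g, hga, hgb⟩ := two_trans hS (b := a) (c := t • a) (d := a) (e := e)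
      (Ne.symm (ta_ne hS)) (Ne.symm he)
    obtain ⟨q, hq, d, hd, rfl⟩ := decomp hS g (mem_stabilizer_iff.mpr hga)
    refine ⟨q, hq, ?_⟩
    rw [← hgb, mul_smul, mem_stabilizer_iff.mp hd.2]
  obtain ⟨x, hx, hxb⟩ := key b hb
  obtain ⟨y, hy, hyc⟩ := key c hc
  refine ⟨y * x⁻¹, Q.mul_mem hy (Q.inv_mem hx), ?_⟩
  rw [mul_smul, ← hxb, inv_smul_smul, hyc]

theorem Q_smul_unique (hS : Cfsg.IsRankOneSetup G Ω a t Q) {x y : G} (hx : x ∈ Q) (hy : y ∈ Q)
    {b : Ω} (hb : b ≠ a) (h : x • b = y • b) : x = y := by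
  by_contra hne
  have h1 : y⁻¹ * x ≠ 1 := by
    intro h1
    apply hne
    calc x = y * (y⁻¹ * x) := by group
      _ = y := by rw [h1, mul_one]
  have := fix_eq hS (y⁻¹ * x) (Q.mul_mem (Q.inv_mem hy) hx) h1 b (by rw [mul_smul, h, inv_smul_smul])
  exact hb this

theorem smul_a_of_mem_Q (hS : Cfsg.IsRankOneSetup G Ω a t Q) {x : G} (hx : x ∈ Q) : x • a = a :=
  mem_stabilizer_iff.mp (hS.le hx)

/-- `t` normalizes `D`. -/
theorem t_conj_D (hS : Cfsg.IsRankOneSetup G Ω a t Q) {d : G}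
    (hd : d ∈ stabilizer G a ⊓ stabilizer G (t • a)) :
    t * d * t ∈ stabilizer G a ⊓ stabilizer G (t • a) := by
  have h1 : d • a = a := mem_stabilizer_iff.mp hd.1
  have h2 : d • (t • a) = t • a := mem_stabilizer_iff.mp hd.2
  refine ⟨mem_stabilizer_iff.mpr ?_, mem_stabilizer_iff.mpr ?_⟩
  · rw [mul_smul, mul_smul, h2, tta hS]
  · rw [mul_smul, mul_smul, tta hS, h1]

/-- canonical form: existence. -/
theorem canonical_exists (hS : Cfsg.IsRankOneSetup G Ω a t Q) {g : G}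
    (hg : g ∉ stabilizer G a) : ∃ x ∈ stabilizer G a, ∃ y ∈ Q, g = x * t * y := by
  have h1 : g⁻¹ • a ≠ a := by
    intro h
    apply hg
    rw [mem_stabilizer_iff]
    calc g • a = g • (g⁻¹ • a) := by rw [h]
      _ = a := smul_inv_smul g a
  obtain ⟨z, hz, hzb⟩ := exists_Q_smul hS (t • a) (g⁻¹ • a) (ta_ne hS) h1
  -- y = z⁻¹ : y⁻¹ • b = g⁻¹ • a
  refine ⟨g * z * t, ?_, z⁻¹, Q.inv_mem hz, ?_⟩
  · rw [mem_stabilizer_iff, mul_smul, mul_smul, hzb, smul_inv_smul]
  · calc g = g * z * (t * t) * z⁻¹ := by rw [hS.mul_self]; group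
      _ = g * z * t * t * z⁻¹ := by group

/-- canonical form: uniqueness. -/
theorem canonical_unique (hS : Cfsg.IsRankOneSetup G Ω a t Q) {x x' y y' : G}
    (hx : x ∈ stabilizer G a) (hx' : x' ∈ stabilizer G a) (hy : y ∈ Q) (hy' : y' ∈ Q)
    (h : x * t * y = x' * t * y') : x = x' ∧ y = y' := by
  have h1 : y⁻¹ • (t • a) = y'⁻¹ • (t • a) := by
    have e1 : (x * t * y)⁻¹ • a = y⁻¹ • (t • a) := by
      rw [mul_inv_rev, mul_inv_rev, t_inv hS, mul_smul, mul_smul,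
        mem_stabilizer_iff.mp ((stabilizer G a).inv_mem hx)]
    have e2 : (x' * t * y')⁻¹ • a = y'⁻¹ • (t • a) := by
      rw [mul_inv_rev, mul_inv_rev, t_inv hS, mul_smul, mul_smul,
        mem_stabilizer_iff.mp ((stabilizer G a).inv_mem hx')]
    rw [← e1, ← e2, h]
  have h2 : y⁻¹ = y'⁻¹ := Q_smul_unique hS (Q.inv_mem hy) (Q.inv_mem hy') (ta_ne hS) h1
  have h3 : y = y' := inv_injective h2
  refine ⟨?_, h3⟩
  rw [h3] at h
  have := mul_right_cancel h
  exact mul_right_cancel this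

/-- canonical form `g h t f`: uniqueness. -/
theorem canonical3_unique (hS : Cfsg.IsRankOneSetup G Ω a t Q) {g h f g' h' f' : G}
    (hg : g ∈ Q) (hh : h ∈ stabilizer G a ⊓ stabilizer G (t • a)) (hf : f ∈ Q)
    (hg' : g' ∈ Q) (hh' : h' ∈ stabilizer G a ⊓ stabilizer G (t • a)) (hf' : f' ∈ Q)
    (he : g * h * t * f = g' * h' * t * f') : g = g' ∧ h = h' ∧ f = f' := by
  have h1 := canonical_unique hS ((stabilizer G a).mul_mem (hS.le hg) hh.1)
    ((stabilizer G a).mul_mem (hS.le hg') hh'.1) hf hf' he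
  have h2 := decomp_unique hS hg hh hg' hh' h1.1
  exact ⟨h2.1, h2.2, h1.2⟩

/-- `t x t ∉ G_a` for `1 ≠ x ∈ Q`. -/
theorem txt_not_mem (hS : Cfsg.IsRankOneSetup G Ω a t Q) {x : G} (hx : x ∈ Q) (hx1 : x ≠ 1) :
    t * x * t ∉ stabilizer G a := by
  intro h
  rw [mem_stabilizer_iff, mul_smul, mul_smul] at h
  have h2 : x • (t • a) = t • a := by
    calc x • (t • a) = t • (t • (x • (t • a))) := by rw [← mul_smul t t, hS.mul_self, one_smul]
      _ = t • a := by rw [h]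
  exact hx1 (mem_Q_inf_eq_one hS hx h2)

/-- elements of `D` squaring to one are trivial. -/
theorem D_sq_eq_one (hS : Cfsg.IsRankOneSetup G Ω a t Q) {d : G}
    (hd : d ∈ stabilizer G a ⊓ stabilizer G (t • a)) (h2 : d * d = 1) : d = 1 := by
  have ho : orderOf d ∣ 2 := orderOf_dvd_of_pow_eq_one (by rw [pow_two, h2])
  have ho2 : orderOf d ∣ Nat.card ↥(stabilizer G a ⊓ stabilizer G (t • a)) :=
    Subgroup.orderOf_dvd_natCard _ hd
  have hcop : Nat.Coprime 2 (Nat.card ↥(stabilizer G a ⊓ stabilizer G (t • a))) :=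
    Nat.coprime_two_left.mpr hS.odd_card
  have : orderOf d = 1 := Nat.eq_one_of_dvd_coprimes hcop ho ho2
  exact orderOf_eq_one_iff.mp this

/-- In a dihedral group of twice odd order the involution `(ab)^m a` swaps `a` and `b`. -/
theorem dihedral_swap {X : Type*} [Group X] {x y : X} (hx : x * x = 1) (hy : y * y = 1) {m : ℕ}
    (hm : orderOf (x * y) = 2 * m + 1) :
    ((x * y) ^ m * x) * ((x * y) ^ m * x) = 1 ∧ ((x * y) ^ m * x) * x * ((x * y) ^ m * x) = y := by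
  have hxi : x⁻¹ = x := Cfsg.Agent.Lib.Helper27.inv_eq_self_of_mul_self hx
  have hc := Cfsg.Agent.Lib.Helper27.conj_left_pow_mul_involutions hx hy m
  rw [hxi] at hc
  have hr : (x * y) ^ (2 * m) = (x * y)⁻¹ := by
    apply eq_inv_of_mul_eq_one_left
    rw [← pow_succ, ← hm, pow_orderOf_eq_one]
  constructor
  · calc (x * y) ^ m * x * ((x * y) ^ m * x) = (x * y) ^ m * (x * (x * y) ^ m * x) := by group
      _ = 1 := by rw [hc, mul_inv_cancel]
  · calc (x * y) ^ m * x * x * ((x * y) ^ m * x)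
        = (x * y) ^ m * (x * x) * (x * y) ^ m * x := by group
      _ = (x * y) ^ (2 * m) * x := by rw [hx, mul_one, two_mul, pow_add]
      _ = (x * y)⁻¹ * x := by rw [hr]
      _ = y⁻¹ * (x⁻¹ * x) := by rw [mul_inv_rev, mul_assoc]
      _ = y := by
          rw [inv_mul_cancel, mul_one, Cfsg.Agent.Lib.Helper27.inv_eq_self_of_mul_self hy]

section Finite
variable [Finite G]

theorem finite_Omega (hS : Cfsg.IsRankOneSetup G Ω a t Q) : Finite Ω :=
  Finite.of_surjective (fun g : G => g • a) (fun c => exists_smul_eq' hS a c)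

omit [Finite G] in
/-- involutions of `G_a` lie in `Q`. -/
theorem invol_mem_Q (hS : Cfsg.IsRankOneSetup G Ω a t Q) {s : G} (hs : s ∈ stabilizer G a)
    (hs2 : s * s = 1) : s ∈ Q := by
  obtain ⟨q, hq, d, hd, rfl⟩ := decomp hS s hs
  -- d * d ∈ Q ∩ D
  have hdn : d * q * d⁻¹ ∈ Q := hS.conj_mem d hd.1 q hq
  have h1 : d * d = (q * (d * q * d⁻¹))⁻¹ := by
    have : q * (d * q * d⁻¹) * (d * d) = q * d * (q * d) := by group
    rw [hs2] at this
    exact (inv_eq_of_mul_eq_one_right this).symm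
  have h2 : d * d = 1 := by
    apply mem_Q_inf_eq_one hS
    · rw [h1]; exact Q.inv_mem (Q.mul_mem hq hdn)
    · rw [mul_smul, mem_stabilizer_iff.mp hd.2, mem_stabilizer_iff.mp hd.2]
  have h3 : d = 1 := by
    have ho : orderOf d ∣ 2 := orderOf_dvd_of_pow_eq_one (by rw [pow_two, h2])
    have ho2 : orderOf d ∣ Nat.card ↥(stabilizer G a ⊓ stabilizer G (t • a)) :=
      Subgroup.orderOf_dvd_natCard _ hd
    have hodd := hS.odd_card
    have hcop : Nat.Coprime 2 (Nat.card ↥(stabilizer G a ⊓ stabilizer G (t • a))) :=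
      Nat.coprime_two_left.mpr hodd
    have : orderOf d = 1 := Nat.eq_one_of_dvd_coprimes hcop ho ho2
    exact orderOf_eq_one_iff.mp this
  rw [h3, mul_one]; exact hq

theorem card_Omega (hS : Cfsg.IsRankOneSetup G Ω a t Q) : Nat.card Ω = Nat.card Q + 1 := by
  classical
  have := finite_Omega hS
  have e : Q ≃ {b : Ω // b ≠ a} := by
    refine Equiv.ofBijective (fun x => ⟨(x : G) • (t • a), ?_⟩) ⟨?_, ?_⟩
    · intro h
      have : (x : G) • (t • a) = (x : G) • a := by rw [h, smul_a_of_mem_Q hS x.2]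
      exact ta_ne hS (smul_left_cancel _ this)
    · intro x y hxy
      have h1 : (x : G) • (t • a) = (y : G) • (t • a) := congrArg Subtype.val hxy
      exact Subtype.ext (Q_smul_unique hS x.2 y.2 (ta_ne hS) h1)
    · rintro ⟨c, hc⟩
      obtain ⟨x, hx, hxc⟩ := exists_Q_smul hS (t • a) c (ta_ne hS) hc
      exact ⟨⟨x, hx⟩, Subtype.ext hxc⟩
  rw [Nat.card_congr e, ← Finite.card_option, Nat.card_congr (Equiv.optionSubtypeNe a)]

omit [Finite G] in
theorem card_Ga (hS : Cfsg.IsRankOneSetup G Ω a t Q) : Nat.card (stabilizer G a) =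
    Nat.card Q * Nat.card ↥(stabilizer G a ⊓ stabilizer G (t • a)) := by
  rw [← Nat.card_prod]
  symm
  refine Nat.card_congr (Equiv.ofBijective
    (fun p : Q × ↥(stabilizer G a ⊓ stabilizer G (t • a)) =>
      (⟨(p.1 : G) * (p.2 : G), (stabilizer G a).mul_mem (hS.le p.1.2) p.2.2.1⟩ :
        stabilizer G a)) ⟨?_, ?_⟩)
  · rintro ⟨q, d⟩ ⟨q', d'⟩ h
    have h' : (q : G) * (d : G) = (q' : G) * (d' : G) := congrArg Subtype.val h
    obtain ⟨e1, e2⟩ := decomp_unique hS q.2 d.2 q'.2 d'.2 h'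
    exact Prod.ext (Subtype.ext e1) (Subtype.ext e2)
  · rintro ⟨g, hg⟩
    obtain ⟨q, hq, d, hd, rfl⟩ := decomp hS g hg
    exact ⟨(⟨q, hq⟩, ⟨d, hd⟩), rfl⟩

theorem card_G (hS : Cfsg.IsRankOneSetup G Ω a t Q) : Nat.card G =
    Nat.card Q * Nat.card ↥(stabilizer G a ⊓ stabilizer G (t • a)) * (Nat.card Q + 1) := by
  have hpre : IsPretransitive G Ω := ⟨fun b c => exists_smul_eq' hS b c⟩
  have h1 := (stabilizer G a).card_mul_index
  have h2 : (stabilizer G a).index = Nat.card Ω := index_stabilizer_of_transitive G a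
  rw [← h1, h2, card_Ga hS, card_Omega hS]

theorem factorization_card_G (hS : Cfsg.IsRankOneSetup G Ω a t Q) :
    (Nat.card G).factorization 2 = (Nat.card Q).factorization 2 := by
  have hQ0 : Nat.card Q ≠ 0 := Nat.card_pos.ne'
  have hD0 : Nat.card ↥(stabilizer G a ⊓ stabilizer G (t • a)) ≠ 0 := Nat.card_pos.ne'
  have hodd1 : ¬ 2 ∣ Nat.card ↥(stabilizer G a ⊓ stabilizer G (t • a)) := by
    have := hS.odd_card
    rw [Nat.odd_iff] at this
    omega
  have hodd2 : ¬ 2 ∣ (Nat.card Q + 1) := by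
    have := hS.even_card
    rw [Nat.even_iff] at this
    omega
  rw [card_G hS, Nat.factorization_mul (Nat.mul_ne_zero hQ0 hD0) (by omega),
    Nat.factorization_mul hQ0 hD0, Finsupp.add_apply, Finsupp.add_apply,
    Nat.factorization_eq_zero_of_not_dvd hodd1, Nat.factorization_eq_zero_of_not_dvd hodd2,
    add_zero, add_zero]

/-- a Sylow 2-subgroup of `G` inside `Q`. -/
theorem exists_sylow_le_Q (hS : Cfsg.IsRankOneSetup G Ω a t Q) :
    ∃ P : Sylow 2 G, (P : Subgroup G) ≤ Q := by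
  have : Fact (Nat.Prime 2) := ⟨Nat.prime_two⟩
  obtain ⟨P₀⟩ : Nonempty (Sylow 2 Q) := inferInstance
  have hP₀ : Nat.card ((P₀ : Subgroup Q).map Q.subtype) = 2 ^ (Nat.card G).factorization 2 := by
    rw [Subgroup.card_map_of_injective Q.subtype_injective, factorization_card_G hS]
    exact P₀.card_eq_multiplicity
  refine ⟨Sylow.ofCard _ hP₀, ?_⟩
  rw [Sylow.coe_ofCard]
  exact Subgroup.map_subtype_le _

theorem odd_card_Omega (hS : Cfsg.IsRankOneSetup G Ω a t Q) : Odd (Nat.card Ω) := by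
  rw [card_Omega hS]
  exact hS.even_card.add_one

/-- every involution has a fixed point. -/
theorem invol_fix_exists (hS : Cfsg.IsRankOneSetup G Ω a t Q) {u : G} (hu : u * u = 1) :
    ∃ c : Ω, u • c = c := by
  classical
  have := finite_Omega hS
  have hp : IsPGroup 2 (Subgroup.zpowers u) := by
    rintro ⟨g, hg⟩
    refine ⟨1, ?_⟩
    obtain ⟨k, rfl⟩ := Subgroup.mem_zpowers_iff.mp hg
    apply Subtype.ext
    show (u ^ k) ^ 2 ^ 1 = 1
    rw [pow_one, ← zpow_natCast, ← zpow_mul, mul_comm, zpow_mul, zpow_natCast, pow_two, hu, one_zpow]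
  have : Fact (Nat.Prime 2) := ⟨Nat.prime_two⟩
  have h1 := hp.card_modEq_card_fixedPoints Ω
  by_contra hne
  push Not at hne
  have hempty : IsEmpty (fixedPoints (Subgroup.zpowers u) Ω) := by
    constructor
    rintro ⟨c, hc⟩
    exact hne c (hc ⟨u, Subgroup.mem_zpowers u⟩)
  have h0 : Nat.card (fixedPoints (Subgroup.zpowers u) Ω) = 0 := Nat.card_of_isEmpty
  rw [h0] at h1
  have h2 := odd_card_Omega hS
  rw [Nat.odd_iff] at h2
  have h3 : Nat.card Ω % 2 = 0 := by simpa [Nat.ModEq] using h1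
  omega

omit [Finite G] in
/-- an involution fixes at most one point. -/
theorem invol_fix_unique (hS : Cfsg.IsRankOneSetup G Ω a t Q) {u : G} (hu1 : u ≠ 1)
    (hu : u * u = 1) {c c' : Ω} (hc : u • c = c) (hc' : u • c' = c') : c = c' := by
  obtain ⟨g, hg⟩ := exists_smul_eq' hS c a
  have h1 : (g * u * g⁻¹) • a = a := by
    rw [mul_smul, mul_smul, ← hg, inv_smul_smul, hc]
  have h2 : (g * u * g⁻¹) * (g * u * g⁻¹) = 1 := by
    calc (g * u * g⁻¹) * (g * u * g⁻¹) = g * (u * u) * g⁻¹ := by group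
      _ = 1 := by rw [hu]; group
  have h3 : g * u * g⁻¹ ≠ 1 := by
    intro h
    apply hu1
    calc u = g⁻¹ * (g * u * g⁻¹) * g := by group
      _ = 1 := by rw [h]; group
  have h4 : g * u * g⁻¹ ∈ Q := invol_mem_Q hS (mem_stabilizer_iff.mpr h1) h2
  have h5 : g • c' = a := by
    apply fix_eq hS _ h4 h3
    rw [mul_smul, mul_smul, inv_smul_smul, hc']
  have : g • c = g • c' := by rw [hg, h5]
  exact smul_left_cancel g this

omit [Finite G] in
/-- if commuting elements: `z` commutes with involution `u` fixing `c`, then `z` fixes `c`. -/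
theorem fix_of_commute (hS : Cfsg.IsRankOneSetup G Ω a t Q) {u z : G} (hu1 : u ≠ 1)
    (hu : u * u = 1) {c : Ω} (hc : u • c = c) (hz : z * u = u * z) : z • c = c := by
  apply invol_fix_unique hS hu1 hu _ hc
  rw [← mul_smul, ← hz, mul_smul, hc]

omit [Finite G] in
/-- An involution conjugating `s ∈ I_a` to an involution `s''` fixing `t • a` swaps `a`, `t • a`. -/
theorem swap_of_conj (hS : Cfsg.IsRankOneSetup G Ω a t Q) {s s'' u : G}
    (hs : s ∈ stabilizer G a) (hs''1 : s'' ≠ 1) (hs''2 : s'' * s'' = 1)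
    (hs''b : s'' • (t • a) = t • a) (hu2 : u * u = 1) (hconj : u * s * u = s'') :
    u • a = t • a ∧ u • (t • a) = a := by
  have hsa : s • a = a := mem_stabilizer_iff.mp hs
  have h1 : s'' • (u • a) = u • a := by
    rw [← hconj, mul_smul, mul_smul, ← mul_smul u u, hu2, one_smul, hsa]
  have h2 : u • a = t • a := invol_fix_unique hS hs''1 hs''2 h1 hs''b
  refine ⟨h2, ?_⟩
  rw [← h2, ← mul_smul, hu2, one_smul]

omit [Finite G] in
/-- The involution conjugating `s ∈ I_a` to `s'' ∈ I_{t • a}` is unique. -/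
theorem conj_invol_unique (hS : Cfsg.IsRankOneSetup G Ω a t Q) {s s'' u : G}
    (hs : s ∈ stabilizer G a) (hs2 : s * s = 1) (hs''1 : s'' ≠ 1)
    (hs''2 : s'' * s'' = 1) (hs''b : s'' • (t • a) = t • a) (hu2 : u * u = 1)
    (hconj : u * s * u = s'') {m : ℕ} (hm : orderOf (s * s'') = 2 * m + 1) :
    u = (s * s'') ^ m * s := by
  obtain ⟨hv2, hvc⟩ := dihedral_swap hs2 hs''2 hm
  set v := (s * s'') ^ m * s with hv
  obtain ⟨hua, hub⟩ := swap_of_conj hS hs hs''1 hs''2 hs''b hu2 hconj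
  obtain ⟨hva, hvb⟩ := swap_of_conj hS hs hs''1 hs''2 hs''b hv2 hvc
  -- commutation relations
  have e1 : u * s = s'' * u := by
    calc u * s = u * s * (u * u) := by rw [hu2, mul_one]
      _ = (u * s * u) * u := by group
      _ = s'' * u := by rw [hconj]
  have e2 : s * u = u * s'' := by
    calc s * u = (u * u) * s * u := by rw [hu2, one_mul]
      _ = u * (u * s * u) := by group
      _ = u * s'' := by rw [hconj]
  have f1 : v * s = s'' * v := by
    calc v * s = v * s * (v * v) := by rw [hv2, mul_one]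
      _ = (v * s * v) * v := by group
      _ = s'' * v := by rw [hvc]
  have f2 : s * v = v * s'' := by
    calc s * v = (v * v) * s * v := by rw [hv2, one_mul]
      _ = v * (v * s * v) := by group
      _ = v * s'' := by rw [hvc]
  have hes : Commute (u * v) s := by
    show u * v * s = s * (u * v)
    calc u * v * s = u * (v * s) := by group
      _ = u * (s'' * v) := by rw [f1]
      _ = (u * s'') * v := by group
      _ = (s * u) * v := by rw [e2]
      _ = s * (u * v) := by group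
  have hes'' : Commute (u * v) s'' := by
    show u * v * s'' = s'' * (u * v)
    calc u * v * s'' = u * (v * s'') := by group
      _ = u * (s * v) := by rw [f2]
      _ = (u * s) * v := by group
      _ = (s'' * u) * v := by rw [e1]
      _ = s'' * (u * v) := by group
  have hev : Commute (u * v) v := by
    rw [hv]
    exact ((hes.mul_right hes'').pow_right m).mul_right hes
  have hD : u * v ∈ stabilizer G a ⊓ stabilizer G (t • a) := by
    refine ⟨mem_stabilizer_iff.mpr ?_, mem_stabilizer_iff.mpr ?_⟩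
    · rw [mul_smul, hva, hub]
    · rw [mul_smul, hvb, hua]
  have hee : (u * v) * (u * v) = 1 := by
    have h1 : u = (u * v) * v := by
      calc u = u * (v * v) := by rw [hv2, mul_one]
        _ = (u * v) * v := by group
    calc (u * v) * (u * v) = (u * v) * ((u * v) * (v * v)) := by rw [hv2, mul_one]
      _ = (u * v) * (((u * v) * v) * v) := by group
      _ = (u * v) * ((v * (u * v)) * v) := by rw [hev.eq]
      _ = ((u * v) * v) * ((u * v) * v) := by group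
      _ = u * u := by rw [← h1]
      _ = 1 := hu2
  have h1 := D_sq_eq_one hS hD hee
  calc u = u * (v * v) := by rw [hv2, mul_one]
    _ = (u * v) * v := by group
    _ = v := by rw [h1, one_mul]

/-- `s u` has odd order for involutions `s ∈ G_a`, `u ∉ G_a`. -/
theorem odd_orderOf_mul (hS : Cfsg.IsRankOneSetup G Ω a t Q) {s u : G}
    (hs : s ∈ stabilizer G a) (hs1 : s ≠ 1) (hs2 : s * s = 1)
    (hu : u ∉ stabilizer G a) (hu1 : u ≠ 1) (hu2 : u * u = 1) : Odd (orderOf (s * u)) := by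
  by_contra hodd
  rw [Nat.not_odd_iff_even] at hodd
  obtain ⟨k, hk⟩ := hodd
  have hk0 : 0 < k := by
    rcases Nat.eq_zero_or_pos k with h | h
    · exfalso
      rw [h] at hk
      have : 0 < orderOf (s * u) := orderOf_pos _
      omega
    · exact h
  obtain ⟨hw2, hw1, hsw, huw, -⟩ :=
    Cfsg.Agent.Lib.Helper27.even_order_mul_involutions hs2 hu2 hk0 hk
  set w := (s * u) ^ k
  obtain ⟨c, hc⟩ := invol_fix_exists hS hu2
  have hsa : s • a = a := mem_stabilizer_iff.mp hs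
  -- w commutes with s and u, hence fixes a and c; but w is an involution
  have hwa : w • a = a := fix_of_commute hS hs1 hs2 hsa hsw.symm
  have hwc : w • c = c := fix_of_commute hS hu1 hu2 hc huw.symm
  have hac : a = c := invol_fix_unique hS hw1 hw2 hwa hwc
  apply hu
  rw [mem_stabilizer_iff, hac, hc]

omit [Finite G] in
/-- `t s' t` for an involution `s'` of `G_a`. -/
theorem txt_invol (hS : Cfsg.IsRankOneSetup G Ω a t Q) {s' : G} (hs' : s' ∈ stabilizer G a)
    (hs'1 : s' ≠ 1) (hs'2 : s' * s' = 1) :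
    t * s' * t ≠ 1 ∧ (t * s' * t) * (t * s' * t) = 1 ∧ (t * s' * t) • (t • a) = t • a ∧
      t * s' * t ∉ stabilizer G a := by
  have htt := hS.mul_self
  have h1 : t * s' * t ≠ 1 := by
    intro h
    apply hs'1
    calc s' = (t * t) * s' * (t * t) := by rw [htt, one_mul, mul_one]
      _ = t * (t * s' * t) * t := by group
      _ = 1 := by rw [h, mul_one, htt]
  have h2 : (t * s' * t) * (t * s' * t) = 1 := by
    calc (t * s' * t) * (t * s' * t) = t * s' * (t * t) * s' * t := by group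
      _ = t * (s' * s') * t := by rw [htt]; group
      _ = 1 := by rw [hs'2, mul_one, htt]
  have h3 : (t * s' * t) • (t • a) = t • a := by
    rw [mul_smul, mul_smul, tta hS, mem_stabilizer_iff.mp hs']
  refine ⟨h1, h2, h3, ?_⟩
  intro h
  exact ta_ne hS (invol_fix_unique hS h1 h2 h3 (mem_stabilizer_iff.mp h))

omit [Finite G] in
theorem mem_invertedBy_of_swap (hS : Cfsg.IsRankOneSetup G Ω a t Q) {u : G} (hu2 : u * u = 1)
    (hua : u • a = t • a) (hub : u • (t • a) = a) :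
    t * u ∈ Cfsg.invertedBy (stabilizer G a ⊓ stabilizer G (t • a)) t := by
  refine ⟨⟨mem_stabilizer_iff.mpr ?_, mem_stabilizer_iff.mpr ?_⟩, ?_⟩
  · rw [mul_smul, hua, tta hS]
  · rw [mul_smul, hub]
  · rw [mul_inv_rev, t_inv hS, Cfsg.Agent.Lib.Helper27.inv_eq_self_of_mul_self hu2]
    calc t * (t * u) * t = (t * t) * u * t := by group
      _ = u * t := by rw [hS.mul_self, one_mul]

omit [Finite G] in
theorem invertedBy_inv {D : Subgroup G} {k : G} (hk : k ∈ Cfsg.invertedBy D t) :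
    k⁻¹ ∈ Cfsg.invertedBy D t := by
  refine ⟨D.inv_mem hk.1, ?_⟩
  have := hk.2
  calc t * k⁻¹ * t⁻¹ = (t * k * t⁻¹)⁻¹ := by group
    _ = k⁻¹⁻¹ := by rw [this]

omit [Finite G] in
theorem invertedBy_invol (hS : Cfsg.IsRankOneSetup G Ω a t Q) {k : G}
    (hk : k ∈ Cfsg.invertedBy (stabilizer G a ⊓ stabilizer G (t • a)) t) :
    (t * k) * (t * k) = 1 ∧ (t * k) • a = t • a ∧ (t * k) • (t • a) = a := by
  obtain ⟨hkD, hki⟩ := hk
  rw [t_inv hS] at hki
  refine ⟨?_, ?_, ?_⟩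
  · calc (t * k) * (t * k) = (t * k * t) * k := by group
      _ = 1 := by rw [hki, inv_mul_cancel]
  · rw [mul_smul, mem_stabilizer_iff.mp hkD.1]
  · rw [mul_smul, mem_stabilizer_iff.mp hkD.2, tta hS]

/-- For involutions `s, s'` of `G_a` there is `k` in `K` with `k * s * k⁻¹ = s'`. -/
theorem exists_invertedBy_conj (hS : Cfsg.IsRankOneSetup G Ω a t Q) {s s' : G}
    (hs : s ∈ stabilizer G a) (hs1 : s ≠ 1) (hs2 : s * s = 1)
    (hs' : s' ∈ stabilizer G a) (hs'1 : s' ≠ 1) (hs'2 : s' * s' = 1) :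
    ∃ k ∈ Cfsg.invertedBy (stabilizer G a ⊓ stabilizer G (t • a)) t, k * s * k⁻¹ = s' := by
  obtain ⟨h1, h2, h3, h4⟩ := txt_invol hS hs' hs'1 hs'2
  obtain ⟨m, hm⟩ := odd_orderOf_mul hS hs hs1 hs2 h4 h1 h2
  obtain ⟨hu2, huc⟩ := dihedral_swap hs2 h2 hm
  obtain ⟨hua, hub⟩ := swap_of_conj hS hs h1 h2 h3 hu2 huc
  refine ⟨_, mem_invertedBy_of_swap hS hu2 hua hub, ?_⟩
  set u := (s * (t * s' * t)) ^ m * s
  have htt := hS.mul_self
  rw [mul_inv_rev, t_inv hS, Cfsg.Agent.Lib.Helper27.inv_eq_self_of_mul_self hu2]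
  calc t * u * s * (u * t) = t * (u * s * u) * t := by group
    _ = t * (t * s' * t) * t := by rw [huc]
    _ = (t * t) * s' * (t * t) := by group
    _ = s' := by rw [htt, one_mul, mul_one]

/-- `k ↦ k s k⁻¹` is injective on `K`. -/
theorem invertedBy_conj_inj (hS : Cfsg.IsRankOneSetup G Ω a t Q) {s : G}
    (hs : s ∈ stabilizer G a) (hs1 : s ≠ 1) (hs2 : s * s = 1) {k₁ k₂ : G}
    (hk₁ : k₁ ∈ Cfsg.invertedBy (stabilizer G a ⊓ stabilizer G (t • a)) t)
    (hk₂ : k₂ ∈ Cfsg.invertedBy (stabilizer G a ⊓ stabilizer G (t • a)) t)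
    (h' : k₁ * s * k₁⁻¹ = k₂ * s * k₂⁻¹) : k₁ = k₂ := by
  have hI1 : k₁ * s * k₁⁻¹ ∈ stabilizer G a :=
    Subgroup.mul_mem _ (Subgroup.mul_mem _ hk₁.1.1 hs) (Subgroup.inv_mem _ hk₁.1.1)
  have hI2 : k₁ * s * k₁⁻¹ ≠ 1 := by
    intro h
    apply hs1
    calc s = k₁⁻¹ * (k₁ * s * k₁⁻¹) * k₁ := by group
      _ = 1 := by rw [h]; group
  have hI3 : k₁ * s * k₁⁻¹ * (k₁ * s * k₁⁻¹) = 1 := by
    calc k₁ * s * k₁⁻¹ * (k₁ * s * k₁⁻¹) = k₁ * (s * s) * k₁⁻¹ := by group
      _ = 1 := by rw [hs2]; group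
  obtain ⟨g1, g2, g3, g4⟩ := txt_invol hS hI1 hI2 hI3
  obtain ⟨m, hm⟩ := odd_orderOf_mul hS hs hs1 hs2 g4 g1 g2
  obtain ⟨a1, a2, a3⟩ := invertedBy_invol hS hk₁
  obtain ⟨b1, b2, b3⟩ := invertedBy_invol hS hk₂
  have c1 : (t * k₁) * s * (t * k₁) = t * (k₁ * s * k₁⁻¹) * t := by
    have : (t * k₁)⁻¹ = t * k₁ := Cfsg.Agent.Lib.Helper27.inv_eq_self_of_mul_self a1
    calc (t * k₁) * s * (t * k₁) = (t * k₁) * s * (t * k₁)⁻¹ := by rw [this]
      _ = t * (k₁ * s * k₁⁻¹) * t⁻¹ := by group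
      _ = t * (k₁ * s * k₁⁻¹) * t := by rw [t_inv hS]
  have c2 : (t * k₂) * s * (t * k₂) = t * (k₁ * s * k₁⁻¹) * t := by
    have : (t * k₂)⁻¹ = t * k₂ := Cfsg.Agent.Lib.Helper27.inv_eq_self_of_mul_self b1
    calc (t * k₂) * s * (t * k₂) = (t * k₂) * s * (t * k₂)⁻¹ := by rw [this]
      _ = t * (k₂ * s * k₂⁻¹) * t⁻¹ := by group
      _ = t * (k₁ * s * k₁⁻¹) * t := by rw [t_inv hS, h']
  have d1 := conj_invol_unique hS hs hs2 g1 g2 g3 a1 c1 hm
  have d2 := conj_invol_unique hS hs hs2 g1 g2 g3 b1 c2 hm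
  exact mul_left_cancel (d1.trans d2.symm)

/-- `|D| = |K| |C_D(s)|` for an involution `s` of `G_a`. -/
theorem card_D_eq (hS : Cfsg.IsRankOneSetup G Ω a t Q) {s : G}
    (hs : s ∈ stabilizer G a) (hs1 : s ≠ 1) (hs2 : s * s = 1) :
    Nat.card ↥(stabilizer G a ⊓ stabilizer G (t • a)) =
      Nat.card (Cfsg.invertedBy (stabilizer G a ⊓ stabilizer G (t • a)) t) *
        Nat.card ↥((stabilizer G a ⊓ stabilizer G (t • a)) ⊓ Subgroup.centralizer {s}) := by
  rw [← Nat.card_prod]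
  symm
  refine Nat.card_congr (Equiv.ofBijective
    (fun p : (Cfsg.invertedBy (stabilizer G a ⊓ stabilizer G (t • a)) t) ×
        ↥((stabilizer G a ⊓ stabilizer G (t • a)) ⊓ Subgroup.centralizer {s}) =>
      (⟨(p.1 : G) * (p.2 : G), Subgroup.mul_mem _ p.1.2.1 p.2.2.1⟩ :
        ↥(stabilizer G a ⊓ stabilizer G (t • a)))) ⟨?_, ?_⟩)
  · rintro ⟨⟨k₁, hk₁⟩, ⟨c₁, hc₁⟩⟩ ⟨⟨k₂, hk₂⟩, ⟨c₂, hc₂⟩⟩ h
    have h' : k₁ * c₁ = k₂ * c₂ := congrArg Subtype.val h
    have e1 : c₁ * s * c₁⁻¹ = s := by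
      have := Subgroup.mem_centralizer_singleton_iff.mp hc₁.2
      calc c₁ * s * c₁⁻¹ = s * c₁ * c₁⁻¹ := by rw [this]
        _ = s := by group
    have e2 : c₂ * s * c₂⁻¹ = s := by
      have := Subgroup.mem_centralizer_singleton_iff.mp hc₂.2
      calc c₂ * s * c₂⁻¹ = s * c₂ * c₂⁻¹ := by rw [this]
        _ = s := by group
    have h1 : k₁ * s * k₁⁻¹ = k₂ * s * k₂⁻¹ := by
      calc k₁ * s * k₁⁻¹ = k₁ * (c₁ * s * c₁⁻¹) * k₁⁻¹ := by rw [e1]
        _ = (k₁ * c₁) * s * (k₁ * c₁)⁻¹ := by group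
        _ = (k₂ * c₂) * s * (k₂ * c₂)⁻¹ := by rw [h']
        _ = k₂ * (c₂ * s * c₂⁻¹) * k₂⁻¹ := by group
        _ = k₂ * s * k₂⁻¹ := by rw [e2]
    have h2 : k₁ = k₂ := invertedBy_conj_inj hS hs hs1 hs2 hk₁ hk₂ h1
    subst h2
    have h3 : c₁ = c₂ := mul_left_cancel h'
    subst h3
    rfl
  · rintro ⟨d, hd⟩
    have hI1 : d * s * d⁻¹ ∈ stabilizer G a :=
      Subgroup.mul_mem _ (Subgroup.mul_mem _ hd.1 hs) (Subgroup.inv_mem _ hd.1)
    have hI2 : d * s * d⁻¹ ≠ 1 := by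
      intro h
      apply hs1
      calc s = d⁻¹ * (d * s * d⁻¹) * d := by group
        _ = 1 := by rw [h]; group
    have hI3 : d * s * d⁻¹ * (d * s * d⁻¹) = 1 := by
      calc d * s * d⁻¹ * (d * s * d⁻¹) = d * (s * s) * d⁻¹ := by group
        _ = 1 := by rw [hs2]; group
    obtain ⟨k, hk, hks⟩ := exists_invertedBy_conj hS hs hs1 hs2 hI1 hI2 hI3
    have hc : k⁻¹ * d ∈ (stabilizer G a ⊓ stabilizer G (t • a)) ⊓ Subgroup.centralizer {s} := by
      refine ⟨Subgroup.mul_mem _ (Subgroup.inv_mem _ hk.1) hd,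
        Subgroup.mem_centralizer_singleton_iff.mpr ?_⟩
      calc k⁻¹ * d * s = k⁻¹ * (d * s * d⁻¹) * d := by group
        _ = k⁻¹ * (k * s * k⁻¹) * d := by rw [hks]
        _ = s * (k⁻¹ * d) := by group
    refine ⟨(⟨k, hk⟩, ⟨k⁻¹ * d, hc⟩), ?_⟩
    apply Subtype.ext
    show k * (k⁻¹ * d) = d
    group

/-- all involutions are conjugate. -/
theorem invol_conj (hS : Cfsg.IsRankOneSetup G Ω a t Q) {u v : G} (hu1 : u ≠ 1)
    (hu2 : u * u = 1) (hv1 : v ≠ 1) (hv2 : v * v = 1) : ∃ g : G, g * u * g⁻¹ = v := by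
  -- involutions with different fixed points are conjugate
  have key : ∀ u v : G, u ≠ 1 → u * u = 1 → v ≠ 1 → v * v = 1 → ∀ c : Ω, u • c = c →
      v • c ≠ c → ∃ g : G, g * u * g⁻¹ = v := by
    intro u v hu1 hu2 hv1 hv2 c hc hvc
    obtain ⟨g, hg⟩ := exists_smul_eq' hS c a
    have conj_sq : ∀ x : G, x * x = 1 → (g * x * g⁻¹) * (g * x * g⁻¹) = 1 := by
      intro x hx
      calc (g * x * g⁻¹) * (g * x * g⁻¹) = g * (x * x) * g⁻¹ := by group
        _ = 1 := by rw [hx]; group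
    have conj_ne : ∀ x : G, x ≠ 1 → g * x * g⁻¹ ≠ 1 := by
      intro x hx h
      apply hx
      calc x = g⁻¹ * (g * x * g⁻¹) * g := by group
        _ = 1 := by rw [h]; group
    have h1 : g * u * g⁻¹ ∈ stabilizer G a := by
      rw [mem_stabilizer_iff, mul_smul, mul_smul, ← hg, inv_smul_smul, hc]
    have h2 : g * v * g⁻¹ ∉ stabilizer G a := by
      intro h
      rw [mem_stabilizer_iff, mul_smul, mul_smul, ← hg, inv_smul_smul] at h
      exact hvc (smul_left_cancel g h)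
    have hodd := odd_orderOf_mul hS h1 (conj_ne u hu1) (conj_sq u hu2) h2 (conj_ne v hv1)
      (conj_sq v hv2)
    obtain ⟨r, hr⟩ := Cfsg.Agent.Lib.Helper27.conj_of_odd_order_mul_involutions
      (conj_sq u hu2) (conj_sq v hv2) hodd
    -- g u g⁻¹ = r (g v g⁻¹) r⁻¹
    refine ⟨g⁻¹ * r⁻¹ * g, ?_⟩
    calc g⁻¹ * r⁻¹ * g * u * (g⁻¹ * r⁻¹ * g)⁻¹ = g⁻¹ * r⁻¹ * (g * u * g⁻¹) * r * g := by group
      _ = g⁻¹ * r⁻¹ * (r * (g * v * g⁻¹) * r⁻¹) * r * g := by rw [hr]
      _ = v := by group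
  obtain ⟨c, hc⟩ := invol_fix_exists hS hu2
  by_cases hvc : v • c = c
  · -- find a third involution with a different fixed point
    obtain ⟨c', hc'⟩ : ∃ c' : Ω, c' ≠ c := by
      by_cases h : c = a
      · exact ⟨t • a, by rw [h]; exact ta_ne hS⟩
      · exact ⟨a, Ne.symm h⟩
    obtain ⟨g, hg⟩ := exists_smul_eq' hS c c'
    set w := g * u * g⁻¹ with hw
    have hw2 : w * w = 1 := by
      calc w * w = g * (u * u) * g⁻¹ := by rw [hw]; group
        _ = 1 := by rw [hu2]; group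
    have hw1 : w ≠ 1 := by
      intro h
      apply hu1
      calc u = g⁻¹ * w * g := by rw [hw]; group
        _ = 1 := by rw [h]; group
    have hwc' : w • c' = c' := by
      rw [hw, mul_smul, mul_smul, ← hg, inv_smul_smul, hc]
    have hwc : w • c ≠ c := fun h => hc' (invol_fix_unique hS hw1 hw2 hwc' h)
    obtain ⟨g₁, hg₁⟩ := key v w hv1 hv2 hw1 hw2 c hvc hwc
    -- w = g₁ v g₁⁻¹, w = g u g⁻¹
    refine ⟨g₁⁻¹ * g, ?_⟩
    calc g₁⁻¹ * g * u * (g₁⁻¹ * g)⁻¹ = g₁⁻¹ * (g * u * g⁻¹) * g₁ := by group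
      _ = g₁⁻¹ * (g₁ * v * g₁⁻¹) * g₁ := by rw [← hw, ← hg₁]
      _ = v := by group
  · exact key u v hu1 hu2 hv1 hv2 c hc hvc

end Finite

end Cfsg.Agent.Lib.Helper8.RankOne
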