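import Mathlib
import Cfsg.Agent.Lib.Helper8.RankOne

/-!
# The rank-one set-up II: centralizers of subsets of `D` fixing three points (helper8 library)
-/

set_option autoImplicit false

namespace Cfsg.Agent.Lib.Helper8.RankOne

open MulAction

variable {G Ω : Type*} [Group G] [MulAction G Ω] {a : Ω} {t : G} {Q : Subgroup G}

/-- elements of the centralizer of `X` preserve the fixed points of `X`. -/
theorem fix_of_mem_centralizer {X : Set G} {g : G} (hg : g ∈ Subgroup.centralizer X) {e : Ω}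
    (he : ∀ x ∈ X, x • e = e) : ∀ x ∈ X, x • (g • e) = g • e := by
  intro x hx
  have h := Subgroup.mem_centralizer_iff.mp hg x hx
  rw [← mul_smul, h, mul_smul, he x hx]

/-- the element of `Q` moving one fixed point of `X` to another centralizes `X`. -/
theorem Q_mem_centralizer_of_fix (hS : Cfsg.IsRankOneSetup G Ω a t Q) {X : Set G}
    (hX : X ⊆ (stabilizer G a : Set G)) {e₁ e₂ : Ω} (he₁ : e₁ ≠ a)
    (hf₁ : ∀ x ∈ X, x • e₁ = e₁) (hf₂ : ∀ x ∈ X, x • e₂ = e₂) {q : G} (hq : q ∈ Q)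
    (hqe : q • e₁ = e₂) : q ∈ Subgroup.centralizer X := by
  rw [Subgroup.mem_centralizer_iff]
  intro x hx
  have hxGa : x ∈ stabilizer G a := hX hx
  have h1 : x * q * x⁻¹ ∈ Q := hS.conj_mem x hxGa q hq
  have h2 : (x * q * x⁻¹) • e₁ = q • e₁ := by
    have : x⁻¹ • e₁ = e₁ := by
      calc x⁻¹ • e₁ = x⁻¹ • (x • e₁) := by rw [hf₁ x hx]
        _ = e₁ := inv_smul_smul x e₁
    rw [mul_smul, mul_smul, this, hqe, hf₂ x hx]
  have h3 := Q_smul_unique hS h1 hq he₁ h2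
  calc x * q = (x * q * x⁻¹) * x := by group
    _ = q * x := by rw [h3]

/-- `C_Q(X)` is transitive on the fixed points of `X` other than `a`. -/
theorem exists_centralizer_Q_smul (hS : Cfsg.IsRankOneSetup G Ω a t Q) {X : Set G}
    (hX : X ⊆ (stabilizer G a : Set G)) {e₁ e₂ : Ω} (he₁ : e₁ ≠ a) (he₂ : e₂ ≠ a)
    (hf₁ : ∀ x ∈ X, x • e₁ = e₁) (hf₂ : ∀ x ∈ X, x • e₂ = e₂) :
    ∃ q ∈ Subgroup.centralizer X ⊓ Q, q • e₁ = e₂ := by
  obtain ⟨q, hq, hqe⟩ := exists_Q_smul hS e₁ e₂ he₁ he₂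
  exact ⟨q, ⟨Q_mem_centralizer_of_fix hS hX he₁ hf₁ hf₂ hq hqe, hq⟩, hqe⟩

/-- the symmetric statement at the point `t • a`. -/
theorem exists_centralizer_fix_b (hS : Cfsg.IsRankOneSetup G Ω a t Q) {X : Set G}
    (hX : X ⊆ ((stabilizer G a ⊓ stabilizer G (t • a) : Subgroup G) : Set G)) {e : Ω}
    (he : e ≠ t • a) (hf : ∀ x ∈ X, x • e = e) :
    ∃ g ∈ Subgroup.centralizer X, g • (t • a) = t • a ∧ g • a = e := by
  have htt := hS.mul_self
  have he' : t • e ≠ a := by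
    intro h
    apply he
    calc e = t • (t • e) := by rw [← mul_smul, htt, one_smul]
      _ = t • a := by rw [h]
  obtain ⟨q, hq, hqe⟩ := exists_Q_smul hS (t • a) (t • e) (ta_ne hS) he'
  -- q centralizes t X t
  have hX' : (fun x => t * x * t) '' X ⊆ (stabilizer G a : Set G) := by
    rintro _ ⟨x, hx, rfl⟩
    exact (t_conj_D hS (hX hx)).1
  have hqc : q ∈ Subgroup.centralizer ((fun x => t * x * t) '' X) := by
    apply Q_mem_centralizer_of_fix hS hX' (ta_ne hS) _ _ hq hqe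
    · rintro _ ⟨x, hx, rfl⟩
      exact mem_stabilizer_iff.mp (t_conj_D hS (hX hx)).2
    · rintro _ ⟨x, hx, rfl⟩
      rw [mul_smul, mul_smul, ← mul_smul t t, htt, one_smul, hf x hx]
  refine ⟨t * q * t, ?_, ?_, ?_⟩
  · rw [Subgroup.mem_centralizer_iff]
    intro x hx
    have h1 := Subgroup.mem_centralizer_iff.mp hqc (t * x * t) ⟨x, hx, rfl⟩
    calc x * (t * q * t) = (t * t) * x * (t * q * t) := by rw [htt, one_mul]
      _ = t * ((t * x * t) * q) * t := by group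
      _ = t * (q * (t * x * t)) * t := by rw [h1]
      _ = t * q * t * x * (t * t) := by group
      _ = t * q * t * x := by rw [htt, mul_one]
  · rw [mul_smul, mul_smul, tta hS, smul_a_of_mem_Q hS hq]
  · rw [mul_smul, mul_smul, hqe, ← mul_smul, htt, one_smul]

/-- Package: the centralizer of `X ⊆ D` fixing a third point is 2-transitive on `Fix(X)`. -/
theorem centralizer_two_trans (hS : Cfsg.IsRankOneSetup G Ω a t Q) {X : Set G}
    (hX : X ⊆ ((stabilizer G a ⊓ stabilizer G (t • a) : Subgroup G) : Set G)) {e₀ : Ω}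
    (he₀a : e₀ ≠ a) (he₀b : e₀ ≠ t • a) (hf₀ : ∀ x ∈ X, x • e₀ = e₀) :
    ∀ b₁ b₂ : Ω, (∀ x ∈ X, x • b₁ = b₁) → (∀ x ∈ X, x • b₂ = b₂) → b₁ ≠ b₂ →
      ∃ g ∈ Subgroup.centralizer X, g • b₁ = a ∧ g • b₂ = t • a := by
  have hXa : X ⊆ (stabilizer G a : Set G) := fun x hx => (hX hx).1
  have hfa : ∀ x ∈ X, x • a = a := fun x hx => mem_stabilizer_iff.mp (hX hx).1
  have hfb : ∀ x ∈ X, x • (t • a) = t • a := fun x hx => mem_stabilizer_iff.mp (hX hx).2
  -- an element of C moving a to t • a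
  obtain ⟨g₁, hg₁, -, hg₁a⟩ := exists_centralizer_fix_b hS hX he₀b hf₀
  obtain ⟨q₁, hq₁, hq₁e⟩ := exists_centralizer_Q_smul hS hXa he₀a (ta_ne hS) hf₀ hfb
  have T2 : ∃ g ∈ Subgroup.centralizer X, g • a = t • a :=
    ⟨q₁ * g₁, Subgroup.mul_mem _ hq₁.1 hg₁, by rw [mul_smul, hg₁a, hq₁e]⟩
  obtain ⟨g₂, hg₂, hg₂a⟩ := T2
  have T3 : ∀ e : Ω, (∀ x ∈ X, x • e = e) → ∃ g ∈ Subgroup.centralizer X, g • e = a := by
    intro e hfe
    by_cases hea : e = a
    · exact ⟨1, Subgroup.one_mem _, by rw [one_smul, hea]⟩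
    · obtain ⟨q, hq, hqe⟩ := exists_centralizer_Q_smul hS hXa hea (ta_ne hS) hfe hfb
      refine ⟨g₂⁻¹ * q, Subgroup.mul_mem _ (Subgroup.inv_mem _ hg₂) hq.1, ?_⟩
      rw [mul_smul, hqe, ← hg₂a, inv_smul_smul]
  intro b₁ b₂ hf₁ hf₂ hne
  obtain ⟨g, hg, hgb₁⟩ := T3 b₁ hf₁
  have hgb₂f := fix_of_mem_centralizer hg hf₂
  have hgb₂a : g • b₂ ≠ a := by
    intro h
    apply hne
    have : g • b₁ = g • b₂ := by rw [hgb₁, h]
    exact smul_left_cancel g this
  obtain ⟨q, hq, hqe⟩ := exists_centralizer_Q_smul hS hXa hgb₂a (ta_ne hS) hgb₂f hfb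
  refine ⟨q * g, Subgroup.mul_mem _ hq.1 hg, ?_, ?_⟩
  · rw [mul_smul, hgb₁, smul_a_of_mem_Q hS hq.2]
  · rw [mul_smul, hqe]

/-- an involution in `C_G(X)` swapping `a` and `t • a`. -/
theorem exists_swap_invol_centralizer [Finite G] (hS : Cfsg.IsRankOneSetup G Ω a t Q) {X : Set G}
    (hX : X ⊆ ((stabilizer G a ⊓ stabilizer G (t • a) : Subgroup G) : Set G)) {e₀ : Ω}
    (he₀a : e₀ ≠ a) (he₀b : e₀ ≠ t • a) (hf₀ : ∀ x ∈ X, x • e₀ = e₀) :
    ∃ u ∈ Subgroup.centralizer X, u * u = 1 ∧ u • a = t • a ∧ u • (t • a) = a := by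
  have hfa : ∀ x ∈ X, x • a = a := fun x hx => mem_stabilizer_iff.mp (hX hx).1
  have hfb : ∀ x ∈ X, x • (t • a) = t • a := fun x hx => mem_stabilizer_iff.mp (hX hx).2
  obtain ⟨g, hg, hgb, hga⟩ := centralizer_two_trans hS hX he₀a he₀b hf₀ (t • a) a hfb hfa (ta_ne hS)
  have hggD : g * g ∈ stabilizer G a ⊓ stabilizer G (t • a) := by
    refine ⟨mem_stabilizer_iff.mpr ?_, mem_stabilizer_iff.mpr ?_⟩
    · rw [mul_smul, hga, hgb]
    · rw [mul_smul, hgb, hga]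
  have hodd : Odd (orderOf (g * g)) :=
    Odd.of_dvd_nat hS.odd_card (Subgroup.orderOf_dvd_natCard _ hggD)
  obtain ⟨j, hj⟩ := hodd
  have hpow : ∀ i : ℕ, (g * g) ^ i • a = a ∧ (g * g) ^ i • (t • a) = t • a := by
    intro i
    induction i with
    | zero => simp
    | succ i ih =>
      have h1 : (g * g) • a = a := mem_stabilizer_iff.mp hggD.1
      have h2 : (g * g) • (t • a) = t • a := mem_stabilizer_iff.mp hggD.2
      constructor
      · rw [pow_succ, mul_smul ((g * g) ^ i) (g * g) a, h1]; exact ih.1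
      · rw [pow_succ, mul_smul ((g * g) ^ i) (g * g) (t • a), h2]; exact ih.2
  refine ⟨(g * g) ^ j * g, Subgroup.mul_mem _ (Subgroup.pow_mem _ (Subgroup.mul_mem _ hg hg) j) hg,
    ?_, ?_, ?_⟩
  · have hc : Commute ((g * g) ^ j) g := ((Commute.refl g).mul_left (Commute.refl g)).pow_left j
    calc (g * g) ^ j * g * ((g * g) ^ j * g) = (g * g) ^ j * (g * (g * g) ^ j) * g := by group
      _ = (g * g) ^ j * ((g * g) ^ j * g) * g := by rw [hc.eq]
      _ = (g * g) ^ j * (g * g) ^ j * (g * g) := by group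
      _ = (g * g) ^ (2 * j + 1) := by rw [← pow_add, ← pow_succ]; congr 1; ring
      _ = 1 := by rw [← hj, pow_orderOf_eq_one]
  · rw [mul_smul, hga, (hpow j).2]
  · rw [mul_smul, hgb, (hpow j).1]

end Cfsg.Agent.Lib.Helper8.RankOne
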