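import Mathlib
import Cfsg.Agent.Lib.Helper8.RankOne2

/-!
# The rank-one set-up III: transport to other points, fixed-point sets of odd size (helper8 library)
-/

set_option autoImplicit false

namespace Cfsg.Agent.Lib.Helper8.RankOne

open MulAction

variable {G Ω : Type*} [Group G] [MulAction G Ω] {a : Ω} {t : G} {Q : Subgroup G}

/-- an involution preserving a finite set of odd size fixes a point of it. -/
theorem invol_fix_of_odd {u : G} (hu : u * u = 1) {F : Set Ω} (hF : F.Finite)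
    (hodd : Odd F.ncard) (hinv : ∀ p ∈ F, u • p ∈ F) : ∃ p ∈ F, u • p = p := by
  classical
  by_contra hne
  push Not at hne
  have hsum : ∑ _x ∈ hF.toFinset, (1 : ZMod 2) = 0 := by
    refine Finset.sum_involution (fun p _ => u • p) ?_ ?_ ?_ ?_
    · intro p _; decide
    · intro p hp _; exact hne p (hF.mem_toFinset.mp hp)
    · intro p hp; exact hF.mem_toFinset.mpr (hinv p (hF.mem_toFinset.mp hp))
    · intro p _; show u • u • p = p; rw [smul_smul, hu, one_smul]
  rw [Finset.sum_const, nsmul_eq_mul, mul_one] at hsum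
  have h2 : 2 ∣ hF.toFinset.card := (ZMod.natCast_eq_zero_iff _ 2).mp hsum
  rw [Set.ncard_eq_toFinset_card F hF] at hodd
  rw [Nat.odd_iff] at hodd
  omega

/-- transport of the rank-one set-up by conjugation. -/
theorem setup_conj (hS : Cfsg.IsRankOneSetup G Ω a t Q) (g : G) :
    Cfsg.IsRankOneSetup G Ω (g • a) (g * t * g⁻¹) (Q.map (MulAut.conj g).toMonoidHom) := by
  have hsm : (g * t * g⁻¹) • g • a = g • t • a := by
    rw [mul_smul, mul_smul, inv_smul_smul]
  have hinj : Function.Injective (MulAut.conj g).toMonoidHom := (MulAut.conj g).injective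
  have hstab : ∀ c : Ω, stabilizer G (g • c) = (stabilizer G c).map (MulAut.conj g).toMonoidHom :=
    fun c => stabilizer_smul_eq_stabilizer_map_conj g c
  refine ⟨hS.two_transitive, ?_, ?_, ?_, ?_, ?_, ?_, ?_, ?_, ?_⟩
  · calc g * t * g⁻¹ * (g * t * g⁻¹) = g * (t * t) * g⁻¹ := by group
      _ = 1 := by rw [hS.mul_self]; group
  · intro h
    apply hS.ne_one
    calc t = g⁻¹ * (g * t * g⁻¹) * g := by group
      _ = 1 := by rw [h]; group
  · intro h
    rw [mem_stabilizer_iff, hsm] at h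
    exact ta_ne hS (smul_left_cancel g h)
  · rw [hstab]
    exact Subgroup.map_mono hS.le
  · intro h hh x hx
    rw [hstab] at hh
    obtain ⟨h', hh', rfl⟩ := Subgroup.mem_map.mp hh
    obtain ⟨x', hx', rfl⟩ := Subgroup.mem_map.mp hx
    refine Subgroup.mem_map.mpr ⟨h' * x' * h'⁻¹, hS.conj_mem h' hh' x' hx', ?_⟩
    simp only [MulEquiv.toMonoidHom_eq_coe, MonoidHom.coe_coe, MulAut.conj_apply]
    group
  · rw [hsm, hstab, ← Subgroup.map_inf_eq _ _ _ hinj, hS.inf_eq_bot, Subgroup.map_bot]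
  · rw [hsm, hstab, hstab, ← Subgroup.map_inf_eq _ _ _ hinj, ← Subgroup.map_sup, hS.sup_eq]
  · rw [Nat.card_congr (Q.equivMapOfInjective _ hinj).toEquiv.symm]
    exact hS.even_card
  · rw [hsm, hstab, hstab, ← Subgroup.map_inf_eq _ _ _ hinj,
      Nat.card_congr ((stabilizer G a ⊓ stabilizer G (t • a)).equivMapOfInjective _ hinj).toEquiv.symm]
    exact hS.odd_card

/-- an element of `G_a` commuting with an involution of `G_a` has an odd number of fixed points. -/
theorem odd_ncard_fix_of_invol_commute_a [Finite G] (hS : Cfsg.IsRankOneSetup G Ω a t Q) {x w : G}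
    (hwa : w • a = a) (hw1 : w ≠ 1) (hw2 : w * w = 1) (hwx : x * w = w * x) :
    Odd (Set.ncard {p : Ω | x • p = p}) := by
  classical
  have := finite_Omega hS
  have hxa : x • a = a := fix_of_commute hS hw1 hw2 hwa hwx
  have hwQ : w ∈ Q := invol_mem_Q hS (mem_stabilizer_iff.mpr hwa) hw2
  by_cases hcase : ∀ p : Ω, x • p = p → p = a
  · have : {p : Ω | x • p = p} = {a} := by
      ext p
      simp only [Set.mem_ofPred_eq, Set.mem_singleton_iff]
      exact ⟨hcase p, fun h => h ▸ hxa⟩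
    rw [this, Set.ncard_singleton]
    exact odd_one
  · push Not at hcase
    obtain ⟨e, hxe, hea⟩ := hcase
    set H : Subgroup G := Subgroup.centralizer {x} ⊓ Q with hH
    have hXs : ({x} : Set G) ⊆ (stabilizer G a : Set G) := by
      intro y hy
      rw [Set.mem_singleton_iff] at hy
      subst hy
      exact mem_stabilizer_iff.mpr hxa
    -- the set of fixed points other than `a` is the `H`-orbit of `e`
    have hrange : {p : Ω | x • p = p} \ {a} = Set.range (fun q : H => (q : G) • e) := by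
      ext p
      constructor
      · rintro ⟨hp, hpa⟩
        rw [Set.mem_singleton_iff] at hpa
        obtain ⟨q, hq, hqe⟩ := exists_centralizer_Q_smul hS hXs hea hpa
          (fun y hy => by rw [Set.mem_singleton_iff.mp hy]; exact hxe)
          (fun y hy => by rw [Set.mem_singleton_iff.mp hy]; exact hp)
        exact ⟨⟨q, hq⟩, hqe⟩
      · rintro ⟨⟨q, hq⟩, rfl⟩
        refine ⟨?_, ?_⟩
        · show x • (q • e) = q • e
          have hc := Subgroup.mem_centralizer_iff.mp hq.1 x rfl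
          rw [← mul_smul, hc, mul_smul, hxe]
        · rw [Set.mem_singleton_iff]
          intro h
          apply hea
          have h1 : q • a = a := smul_a_of_mem_Q hS hq.2
          have h2 : q • e = q • a := by rw [h1]; exact h
          exact smul_left_cancel q h2
    have hinj : Function.Injective (fun q : H => (q : G) • e) := by
      rintro ⟨q, hq⟩ ⟨q', hq'⟩ h
      exact Subtype.ext (Q_smul_unique hS hq.2 hq'.2 hea h)
    have hcard : ({p : Ω | x • p = p} \ {a}).ncard = Nat.card H := by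
      rw [hrange, ← _root_.Nat.card_coe_set_eq, Nat.card_range_of_injective hinj]
    have heven : Even (Nat.card H) := by
      have hwH : w ∈ H := by
        refine ⟨Subgroup.mem_centralizer_iff.mpr ?_, hwQ⟩
        intro y hy
        rw [Set.mem_singleton_iff.mp hy]
        exact hwx
      have ho : orderOf (⟨w, hwH⟩ : H) = 2 := by
        apply orderOf_eq_prime
        · apply Subtype.ext
          show w ^ 2 = 1
          rw [pow_two, hw2]
        · intro h
          exact hw1 (congrArg Subtype.val h)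
      have := orderOf_dvd_natCard (⟨w, hwH⟩ : H)
      rw [ho] at this
      exact even_iff_two_dvd.mpr this
    have hins : {p : Ω | x • p = p} = insert a ({p : Ω | x • p = p} \ {a}) := by
      ext p
      simp only [Set.mem_insert_iff, Set.mem_sdiff, Set.mem_ofPred_eq, Set.mem_singleton_iff]
      constructor
      · intro hp
        by_cases hpa : p = a
        · exact Or.inl hpa
        · exact Or.inr ⟨hp, hpa⟩
      · rintro (h | h)
        · rw [h]; exact hxa
        · exact h.1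
    rw [hins, Set.ncard_insert_of_notMem (by simp) (Set.toFinite _), hcard]
    exact heven.add_one

/-- an element commuting with an involution has an odd number of fixed points. -/
theorem odd_ncard_fix_of_invol_commute [Finite G] (hS : Cfsg.IsRankOneSetup G Ω a t Q) {x w : G}
    (hw1 : w ≠ 1) (hw2 : w * w = 1) (hwx : x * w = w * x) :
    Odd (Set.ncard {p : Ω | x • p = p}) := by
  obtain ⟨e, he⟩ := invol_fix_exists hS hw2
  obtain ⟨g, hg⟩ := exists_smul_eq' hS a e
  subst hg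
  exact odd_ncard_fix_of_invol_commute_a (setup_conj hS g) he hw1 hw2 hwx

/-- non-identity elements of `D` inverted by `t` act fixed-point-freely on `Q`. -/
theorem inverted_fpf [Finite G] (hS : Cfsg.IsRankOneSetup G Ω a t Q) {x : G}
    (hx : x ∈ Cfsg.invertedBy (stabilizer G a ⊓ stabilizer G (t • a)) t) (hx1 : x ≠ 1) :
    Q ⊓ Subgroup.centralizer {x} = ⊥ := by
  classical
  have := finite_Omega hS
  have htt := hS.mul_self
  have hti := t_inv hS
  rw [eq_bot_iff]
  intro y hy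
  rw [Subgroup.mem_bot]
  by_contra hy1
  obtain ⟨hyQ, hyC⟩ := hy
  have hyx : y * x = x * y := Subgroup.mem_centralizer_singleton_iff.mp hyC
  obtain ⟨hxD, hxt⟩ := hx
  have hxa : x • a = a := mem_stabilizer_iff.mp hxD.1
  have hxb : x • (t • a) = t • a := mem_stabilizer_iff.mp hxD.2
  have he₀a : y • (t • a) ≠ a := by
    intro h
    have h' : y • (t • a) = y • a := by rw [smul_a_of_mem_Q hS hyQ]; exact h
    exact ta_ne hS (smul_left_cancel y h')
  have he₀b : y • (t • a) ≠ t • a := fun h => hy1 (mem_Q_inf_eq_one hS hyQ h)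
  have hxe₀ : x • (y • (t • a)) = y • (t • a) := by
    rw [← mul_smul, ← hyx, mul_smul, hxb]
  have hXD : ({x} : Set G) ⊆ ((stabilizer G a ⊓ stabilizer G (t • a) : Subgroup G) : Set G) := by
    intro z hz
    rw [Set.mem_singleton_iff.mp hz]
    exact hxD
  obtain ⟨u, hu, hu2, hua, hub⟩ := exists_swap_invol_centralizer hS hXD he₀a he₀b
    (fun z hz => by rw [Set.mem_singleton_iff.mp hz]; exact hxe₀)
  have hu1 : u ≠ 1 := by
    intro h
    rw [h, one_smul] at hua
    exact ta_ne hS hua.symm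
  have hux : x * u = u * x := Subgroup.mem_centralizer_iff.mp hu x rfl
  have hodd := odd_ncard_fix_of_invol_commute hS hu1 hu2 hux
  have htx : t * x = x⁻¹ * t := by
    calc t * x = (t * x * t⁻¹) * t := by group
      _ = x⁻¹ * t := by rw [hxt]
  obtain ⟨c, hc, htc⟩ := invol_fix_of_odd htt (Set.toFinite _) hodd (by
    intro p hp
    have hp' : x • p = p := hp
    show x • (t • p) = t • p
    have h1 : x⁻¹ • (t • p) = t • p := by
      rw [← mul_smul, ← htx, mul_smul, hp']
    calc x • (t • p) = x • (x⁻¹ • (t • p)) := by rw [h1]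
      _ = t • p := smul_inv_smul x _)
  have hxc : x • c = c := hc
  obtain ⟨g, hg⟩ := exists_smul_eq' hS a c
  subst hg
  have hS' := setup_conj hS g
  have hne : a ≠ g • a := by
    intro h
    apply ta_ne hS
    rw [h]
    exact htc
  have htQ' : t ∈ Q.map (MulAut.conj g).toMonoidHom :=
    invol_mem_Q hS' (mem_stabilizer_iff.mpr htc) htt
  have hxtx : x * t * x⁻¹ ∈ Q.map (MulAut.conj g).toMonoidHom :=
    hS'.conj_mem x (mem_stabilizer_iff.mpr hxc) t htQ'
  have hxx : x * x ∈ Q.map (MulAut.conj g).toMonoidHom := by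
    have h1 : x * x = (x * t * x⁻¹) * t⁻¹ := by
      have : t * x⁻¹ * t⁻¹ = x := by
        calc t * x⁻¹ * t⁻¹ = (t * x * t⁻¹)⁻¹ := by group
          _ = x := by rw [hxt, inv_inv]
      calc x * x = x * (t * x⁻¹ * t⁻¹) := by rw [this]
        _ = (x * t * x⁻¹) * t⁻¹ := by group
    rw [h1]
    exact Subgroup.mul_mem _ hxtx (Subgroup.inv_mem _ htQ')
  have hxx1 : x * x = 1 := by
    by_contra h
    exact hne (fix_eq hS' (x * x) hxx h a (by rw [mul_smul, hxa, hxa]))
  exact hx1 (D_sq_eq_one hS hxD hxx1)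

/-- involutions of `G_a` are central in `Q`. -/
theorem invol_central [Finite G] (hS : Cfsg.IsRankOneSetup G Ω a t Q) {s : G}
    (hs : s ∈ stabilizer G a) (hs1 : s ≠ 1) (hs2 : s * s = 1) {x : G} (hx : x ∈ Q) :
    s * x = x * s := by
  classical
  have hxGa : x ∈ stabilizer G a := hS.le hx
  have hs' : x * s * x⁻¹ ∈ stabilizer G a :=
    Subgroup.mul_mem _ (Subgroup.mul_mem _ hxGa hs) (Subgroup.inv_mem _ hxGa)
  have hs'1 : x * s * x⁻¹ ≠ 1 := by
    intro h
    apply hs1
    calc s = x⁻¹ * (x * s * x⁻¹) * x := by group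
      _ = 1 := by rw [h]; group
  have hs'2 : (x * s * x⁻¹) * (x * s * x⁻¹) = 1 := by
    calc (x * s * x⁻¹) * (x * s * x⁻¹) = x * (s * s) * x⁻¹ := by group
      _ = 1 := by rw [hs2]; group
  obtain ⟨k, hk, hks⟩ := exists_invertedBy_conj hS hs hs1 hs2 hs' hs'1 hs'2
  by_cases hk1 : k = 1
  · rw [hk1] at hks
    calc s * x = (1 * s * 1⁻¹) * x := by group
      _ = (x * s * x⁻¹) * x := by rw [hks]
      _ = x * s := by group
  exfalso
  have hfpf := inverted_fpf hS hk hk1
  have hkGa : k ∈ stabilizer G a := hk.1.1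
  have hQfin : Finite Q := inferInstance
  let φ : Q → Q := fun y => ⟨(y : G)⁻¹ * (k * y * k⁻¹),
    Subgroup.mul_mem _ (Subgroup.inv_mem _ y.2) (hS.conj_mem k hkGa y y.2)⟩
  have hφinj : Function.Injective φ := by
    rintro ⟨y, hy⟩ ⟨z, hz⟩ h
    have h' : y⁻¹ * (k * y * k⁻¹) = z⁻¹ * (k * z * k⁻¹) := congrArg Subtype.val h
    have hcomm : (z * y⁻¹) * k = k * (z * y⁻¹) := by
      symm
      calc k * (z * y⁻¹) = (z * (z⁻¹ * (k * z * k⁻¹))) * (y * (y⁻¹ * (k * y * k⁻¹)))⁻¹ * k := by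
            group
        _ = (z * (z⁻¹ * (k * z * k⁻¹))) * (y * (z⁻¹ * (k * z * k⁻¹)))⁻¹ * k := by rw [h']
        _ = z * y⁻¹ * k := by group
    have hmem : z * y⁻¹ ∈ Q ⊓ Subgroup.centralizer {k} :=
      ⟨Subgroup.mul_mem _ hz (Subgroup.inv_mem _ hy),
        Subgroup.mem_centralizer_singleton_iff.mpr hcomm⟩
    rw [hfpf, Subgroup.mem_bot] at hmem
    apply Subtype.ext
    show y = z
    calc y = (z * y⁻¹)⁻¹ * z := by group
      _ = z := by rw [hmem]; group
  have hφsurj : Function.Surjective φ := Finite.injective_iff_surjective.mp hφinj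
  obtain ⟨⟨y, hy⟩, hyφ⟩ := hφsurj ⟨x⁻¹, Subgroup.inv_mem _ hx⟩
  have hy' : y⁻¹ * (k * y * k⁻¹) = x⁻¹ := congrArg Subtype.val hyφ
  -- `y * s * y⁻¹` is centralized by `k`
  have hcomm : (y * s * y⁻¹) * k = k * (y * s * y⁻¹) := by
    have h1 : k * s * k⁻¹ = (y⁻¹ * (k * y * k⁻¹))⁻¹ * s * (y⁻¹ * (k * y * k⁻¹)) := by
      rw [hy', hks, inv_inv]
    symm
    calc k * (y * s * y⁻¹) = (k * y * k⁻¹) * (k * s * k⁻¹) * (k * y * k⁻¹)⁻¹ * k := by group
      _ = (k * y * k⁻¹) * ((y⁻¹ * (k * y * k⁻¹))⁻¹ * s * (y⁻¹ * (k * y * k⁻¹))) *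
            (k * y * k⁻¹)⁻¹ * k := by rw [h1]
      _ = (y * s * y⁻¹) * k := by group
  have hmem : y * s * y⁻¹ ∈ Q ⊓ Subgroup.centralizer {k} := by
    refine ⟨?_, Subgroup.mem_centralizer_singleton_iff.mpr hcomm⟩
    exact hS.conj_mem y (hS.le hy) s (invol_mem_Q hS hs hs2)
  rw [hfpf, Subgroup.mem_bot] at hmem
  apply hs1
  calc s = y⁻¹ * (y * s * y⁻¹) * y := by group
    _ = 1 := by rw [hmem]; group

/-- an involution `u` swapping `a` and `t • a` is conjugate to `t` by a power of `t * u ∈ D`. -/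
theorem swap_invol_conj [Finite G] (hS : Cfsg.IsRankOneSetup G Ω a t Q) {u : G} (hu2 : u * u = 1)
    (hua : u • a = t • a) (hub : u • (t • a) = a) :
    ∃ j : ℕ, (t * u) ^ j * t * ((t * u) ^ j)⁻¹ = u := by
  have htt := hS.mul_self
  have hti := t_inv hS
  have hui : u⁻¹ = u := inv_eq_of_mul_eq_one_left hu2
  have hk₀ := mem_invertedBy_of_swap hS hu2 hua hub
  set k₀ := t * u with hk₀def
  have hodd : Odd (orderOf k₀) :=
    Odd.of_dvd_nat hS.odd_card (Subgroup.orderOf_dvd_natCard _ hk₀.1)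
  obtain ⟨j, hj⟩ := hodd
  have hconj : ∀ i : ℕ, t * k₀ ^ i * t⁻¹ = (k₀ ^ i)⁻¹ := by
    intro i
    rw [← conj_pow, hk₀.2, inv_pow]
  have hconj' : t * (k₀ ^ j)⁻¹ * t⁻¹ = k₀ ^ j := by
    calc t * (k₀ ^ j)⁻¹ * t⁻¹ = (t * k₀ ^ j * t⁻¹)⁻¹ := by group
      _ = k₀ ^ j := by rw [hconj, inv_inv]
  have hpow : k₀ ^ (2 * j) = k₀⁻¹ := by
    apply eq_inv_of_mul_eq_one_left
    rw [← pow_succ, ← hj, pow_orderOf_eq_one]
  refine ⟨j, ?_⟩
  calc k₀ ^ j * t * (k₀ ^ j)⁻¹ = k₀ ^ j * (t * (k₀ ^ j)⁻¹ * t⁻¹) * t := by group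
    _ = k₀ ^ j * k₀ ^ j * t := by rw [hconj']
    _ = k₀ ^ (2 * j) * t := by rw [two_mul, pow_add]
    _ = k₀⁻¹ * t := by rw [hpow]
    _ = u := by rw [hk₀def, mul_inv_rev, hui, hti, mul_assoc, htt, mul_one]

/-- `V = C_D(t)` controls `G`-fusion of its subsets. -/
theorem V_controls_fusion [Finite G] (hS : Cfsg.IsRankOneSetup G Ω a t Q) (X : Set G)
    (hX : X ⊆ (((stabilizer G a ⊓ stabilizer G (t • a)) ⊓ Subgroup.centralizer {t} : Subgroup G) : Set G))
    (g : G)
    (hY : ∀ x ∈ X, g * x * g⁻¹ ∈ (stabilizer G a ⊓ stabilizer G (t • a)) ⊓ Subgroup.centralizer {t}) :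
    ∃ v ∈ (stabilizer G a ⊓ stabilizer G (t • a)) ⊓ Subgroup.centralizer {t},
      ∀ x ∈ X, v * x * v⁻¹ = g * x * g⁻¹ := by
  classical
  have htt := hS.mul_self
  have hti := t_inv hS
  have hXD : X ⊆ ((stabilizer G a ⊓ stabilizer G (t • a) : Subgroup G) : Set G) :=
    fun x hx => (hX hx).1
  obtain ⟨c, hc⟩ := invol_fix_exists hS htt
  have hca : c ≠ a := by
    intro h
    rw [h] at hc
    exact ta_ne hS hc
  have hcb : c ≠ t • a := by
    intro h
    rw [h, tta hS] at hc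
    exact ta_ne hS hc.symm
  have hfc : ∀ x ∈ X, x • c = c := by
    intro x hx
    have hxt : x * t = t * x := Subgroup.mem_centralizer_singleton_iff.mp (hX hx).2
    exact fix_of_commute hS hS.ne_one htt hc hxt
  have hf₁ : ∀ x ∈ X, x • (g⁻¹ • a) = g⁻¹ • a := by
    intro x hx
    have h := mem_stabilizer_iff.mp (hY x hx).1.1
    rw [mul_smul, mul_smul] at h
    calc x • (g⁻¹ • a) = g⁻¹ • (g • (x • (g⁻¹ • a))) := (inv_smul_smul g _).symm
      _ = g⁻¹ • a := by rw [h]
  have hf₂ : ∀ x ∈ X, x • (g⁻¹ • (t • a)) = g⁻¹ • (t • a) := by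
    intro x hx
    have h := mem_stabilizer_iff.mp (hY x hx).1.2
    rw [mul_smul, mul_smul] at h
    calc x • (g⁻¹ • (t • a)) = g⁻¹ • (g • (x • (g⁻¹ • (t • a)))) := (inv_smul_smul g _).symm
      _ = g⁻¹ • (t • a) := by rw [h]
  have hne : g⁻¹ • a ≠ g⁻¹ • (t • a) := fun h => ta_ne hS (smul_left_cancel g⁻¹ h).symm
  obtain ⟨h, hh, hha, hhb⟩ := centralizer_two_trans hS hXD hca hcb hfc _ _ hf₁ hf₂ hne
  -- `g' = g * h⁻¹` lies in `D` and conjugates like `g`
  have hg'a : (g * h⁻¹) • a = a := by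
    have h1 : h⁻¹ • a = g⁻¹ • a := by rw [inv_smul_eq_iff]; exact hha.symm
    rw [mul_smul, h1, smul_inv_smul]
  have hg'b : (g * h⁻¹) • (t • a) = t • a := by
    have h1 : h⁻¹ • (t • a) = g⁻¹ • (t • a) := by rw [inv_smul_eq_iff]; exact hhb.symm
    rw [mul_smul, h1, smul_inv_smul]
  have hg'ia : (g * h⁻¹)⁻¹ • a = a := by
    calc (g * h⁻¹)⁻¹ • a = (g * h⁻¹)⁻¹ • ((g * h⁻¹) • a) := by rw [hg'a]
      _ = a := inv_smul_smul _ _
  have hg'ib : (g * h⁻¹)⁻¹ • (t • a) = t • a := by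
    calc (g * h⁻¹)⁻¹ • (t • a) = (g * h⁻¹)⁻¹ • ((g * h⁻¹) • (t • a)) := by rw [hg'b]
      _ = t • a := inv_smul_smul _ _
  have hg'x : ∀ x ∈ X, (g * h⁻¹) * x * (g * h⁻¹)⁻¹ = g * x * g⁻¹ := by
    intro x hx
    have hxh : x * h = h * x := Subgroup.mem_centralizer_iff.mp hh x hx
    calc (g * h⁻¹) * x * (g * h⁻¹)⁻¹ = g * (h⁻¹ * (x * h)) * g⁻¹ := by group
      _ = g * (h⁻¹ * (h * x)) * g⁻¹ := by rw [hxh]
      _ = g * x * g⁻¹ := by group
  set g' := g * h⁻¹ with hg'
  -- the involution `t' = g'⁻¹ t g'`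
  set t' := g'⁻¹ * t * g' with ht'
  have ht'2 : t' * t' = 1 := by
    calc t' * t' = g'⁻¹ * (t * t) * g' := by rw [ht']; group
      _ = 1 := by rw [htt]; group
  have ht'a : t' • a = t • a := by
    rw [ht', mul_smul, mul_smul, hg'a, hg'ib]
  have ht'b : t' • (t • a) = a := by
    rw [ht', mul_smul, mul_smul, hg'b, tta hS, hg'ia]
  have ht'X : ∀ x ∈ X, x * t' = t' * x := by
    intro x hx
    have h1 : (g' * x * g'⁻¹) * t = t * (g' * x * g'⁻¹) := by
      rw [hg'x x hx]
      exact Subgroup.mem_centralizer_singleton_iff.mp (hY x hx).2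
    calc x * t' = g'⁻¹ * ((g' * x * g'⁻¹) * t) * g' := by rw [ht']; group
      _ = g'⁻¹ * (t * (g' * x * g'⁻¹)) * g' := by rw [h1]
      _ = t' * x := by rw [ht']; group
  obtain ⟨j, hj⟩ := swap_invol_conj hS ht'2 ht'a ht'b
  have hdD := (mem_invertedBy_of_swap hS ht'2 ht'a ht'b).1
  have hdX : ∀ x ∈ X, x * (t * t') ^ j = (t * t') ^ j * x := by
    intro x hx
    have hxt : x * t = t * x := Subgroup.mem_centralizer_singleton_iff.mp (hX hx).2
    have hc : Commute x (t * t') := by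
      show x * (t * t') = (t * t') * x
      calc x * (t * t') = (x * t) * t' := by group
        _ = t * (x * t') := by rw [hxt]; group
        _ = (t * t') * x := by rw [ht'X x hx]; group
    exact (hc.pow_right j)
  set z := (t * t') ^ j with hz
  have hzD : z ∈ stabilizer G a ⊓ stabilizer G (t • a) := Subgroup.pow_mem _ hdD j
  have hg'D : g' ∈ stabilizer G a ⊓ stabilizer G (t • a) :=
    ⟨mem_stabilizer_iff.mpr hg'a, mem_stabilizer_iff.mpr hg'b⟩
  refine ⟨g' * z, ⟨Subgroup.mul_mem _ hg'D hzD, Subgroup.mem_centralizer_singleton_iff.mpr ?_⟩, ?_⟩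
  · -- (g' z) t = t (g' z)  from  z t z⁻¹ = t' = g'⁻¹ t g'
    calc g' * z * t = g' * (z * t * z⁻¹) * z := by group
      _ = g' * t' * z := by rw [hj]
      _ = t * (g' * z) := by rw [ht']; group
  · intro x hx
    have hzx := hdX x hx
    calc g' * z * x * (g' * z)⁻¹ = g' * ((z * x) * z⁻¹) * g'⁻¹ := by group
      _ = g' * ((x * z) * z⁻¹) * g'⁻¹ := by rw [hzx]
      _ = g' * x * g'⁻¹ := by group
      _ = g * x * g⁻¹ := hg'x x hx

/-- two involutions fixing the same point commute. -/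
theorem invol_commute_of_fix [Finite G] (hS : Cfsg.IsRankOneSetup G Ω a t Q) {u v : G}
    (hu1 : u ≠ 1) (hu2 : u * u = 1) (hv2 : v * v = 1) {c : Ω} (huc : u • c = c)
    (hvc : v • c = c) : u * v = v * u := by
  obtain ⟨g, hg⟩ := exists_smul_eq' hS a c
  subst hg
  have hS' := setup_conj hS g
  exact invol_central hS' (mem_stabilizer_iff.mpr huc) hu1 hu2
    (invol_mem_Q hS' (mem_stabilizer_iff.mpr hvc) hv2)

/-- a product `u v` of two involutions with `(u v)² ≠ 1` is conjugate to `u' t` with `u'` an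
involution of `G_a`. -/
theorem strongly_real_conj [Finite G] (hS : Cfsg.IsRankOneSetup G Ω a t Q) {u v : G}
    (hu1 : u ≠ 1) (hu2 : u * u = 1) (hv1 : v ≠ 1) (hv2 : v * v = 1)
    (hx : (u * v) * (u * v) ≠ 1) :
    ∃ g : G, ∃ u' : G, u' ∈ stabilizer G a ∧ u' ≠ 1 ∧ u' * u' = 1 ∧
      g * (u * v) * g⁻¹ = u' * t := by
  classical
  have htt := hS.mul_self
  obtain ⟨c, hc⟩ := invol_fix_exists hS hu2
  obtain ⟨d, hd⟩ := invol_fix_exists hS hv2
  have hcd : c ≠ d := by
    intro h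
    subst h
    apply hx
    have hcomm := invol_commute_of_fix hS hu1 hu2 hv2 hc hd
    calc u * v * (u * v) = u * (v * u) * v := by group
      _ = u * (u * v) * v := by rw [hcomm]
      _ = (u * u) * (v * v) := by group
      _ = 1 := by rw [hu2, hv2, one_mul]
  obtain ⟨e, he⟩ := invol_fix_exists hS htt
  have hea : e ≠ a := by
    intro h
    rw [h] at he
    exact ta_ne hS he
  obtain ⟨g, hgc, hgd⟩ := two_trans hS hcd hea.symm
  -- `u₁ = g u g⁻¹` fixes `a`, `v₁ = g v g⁻¹` fixes `e`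
  have hu₁a : (g * u * g⁻¹) • a = a := by
    rw [mul_smul, mul_smul, ← hgc, inv_smul_smul, hc]
  have hv₁e : (g * v * g⁻¹) • e = e := by
    rw [mul_smul, mul_smul, ← hgd, inv_smul_smul, hd]
  have hu₁1 : g * u * g⁻¹ ≠ 1 := by
    intro h
    apply hu1
    calc u = g⁻¹ * (g * u * g⁻¹) * g := by group
      _ = 1 := by rw [h]; group
  have hv₁1 : g * v * g⁻¹ ≠ 1 := by
    intro h
    apply hv1
    calc v = g⁻¹ * (g * v * g⁻¹) * g := by group
      _ = 1 := by rw [h]; group
  have hu₁2 : (g * u * g⁻¹) * (g * u * g⁻¹) = 1 := by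
    calc (g * u * g⁻¹) * (g * u * g⁻¹) = g * (u * u) * g⁻¹ := by group
      _ = 1 := by rw [hu2]; group
  have hv₁2 : (g * v * g⁻¹) * (g * v * g⁻¹) = 1 := by
    calc (g * v * g⁻¹) * (g * v * g⁻¹) = g * (v * v) * g⁻¹ := by group
      _ = 1 := by rw [hv2]; group
  -- the set-up at `e` with second point `a`
  obtain ⟨g₁, hg₁a, hg₁b⟩ := two_trans hS (ta_ne hS).symm hea
  have hS₁ := setup_conj hS g₁
  have hsm : (g₁ * t * g₁⁻¹) • g₁ • a = a := by
    rw [mul_smul, mul_smul, inv_smul_smul, hg₁b]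
  rw [hg₁a] at hS₁
  obtain ⟨k, hk, hkv⟩ := exists_invertedBy_conj hS₁ (mem_stabilizer_iff.mpr hv₁e) hv₁1 hv₁2
    (mem_stabilizer_iff.mpr he) hS.ne_one htt
  have hka : k • a = a := by
    have := mem_stabilizer_iff.mp hk.1.2
    rw [← hg₁a, hsm] at this
    exact this
  have hkia : k⁻¹ • a = a := by
    calc k⁻¹ • a = k⁻¹ • (k • a) := by rw [hka]
      _ = a := inv_smul_smul _ _
  refine ⟨k * g, k * (g * u * g⁻¹) * k⁻¹, ?_, ?_, ?_, ?_⟩
  · rw [mem_stabilizer_iff, mul_smul, mul_smul, hkia, hu₁a, hka]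
  · intro h
    apply hu₁1
    calc g * u * g⁻¹ = k⁻¹ * (k * (g * u * g⁻¹) * k⁻¹) * k := by group
      _ = 1 := by rw [h]; group
  · calc k * (g * u * g⁻¹) * k⁻¹ * (k * (g * u * g⁻¹) * k⁻¹)
        = k * ((g * u * g⁻¹) * (g * u * g⁻¹)) * k⁻¹ := by group
      _ = 1 := by rw [hu₁2]; group
  · calc k * g * (u * v) * (k * g)⁻¹ = (k * (g * u * g⁻¹) * k⁻¹) * (k * (g * v * g⁻¹) * k⁻¹) := by
          group
      _ = k * (g * u * g⁻¹) * k⁻¹ * t := by rw [hkv]

/-- for an involution `u'` of `G_a`, no involution commutes with `u' t`. -/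
theorem no_invol_commute_mul [Finite G] (hS : Cfsg.IsRankOneSetup G Ω a t Q) {u' : G}
    (hu'a : u' • a = a) (hu'1 : u' ≠ 1) (hu'2 : u' * u' = 1) {w : G} (hw1 : w ≠ 1)
    (hw2 : w * w = 1) (hwx : (u' * t) * w = w * (u' * t)) : False := by
  classical
  have := finite_Omega hS
  have htt := hS.mul_self
  have hodd := odd_ncard_fix_of_invol_commute hS hw1 hw2 hwx
  have hinv : u' * (u' * t) = (u' * t)⁻¹ * u' := by
    have hti := t_inv hS
    have hui : u'⁻¹ = u' := inv_eq_of_mul_eq_one_left hu'2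
    rw [mul_inv_rev, hti, hui, ← mul_assoc, hu'2, one_mul, mul_assoc, hu'2, mul_one]
  obtain ⟨p, hp, hup⟩ := invol_fix_of_odd hu'2 (Set.toFinite _) hodd (by
    intro p hp
    have hp' : (u' * t) • p = p := hp
    show (u' * t) • (u' • p) = u' • p
    have h1 : (u' * t)⁻¹ • (u' • p) = u' • p := by
      rw [← mul_smul, ← hinv, mul_smul, hp']
    calc (u' * t) • (u' • p) = (u' * t) • ((u' * t)⁻¹ • (u' • p)) := by rw [h1]
      _ = u' • p := smul_inv_smul _ _)
  have hpa : p = a := invol_fix_unique hS hu'1 hu'2 hup hu'a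
  have hp' : (u' * t) • p = p := hp
  rw [hpa, mul_smul] at hp'
  -- u' • t • a = a  →  t • a = a
  apply ta_ne hS
  calc t • a = u' • (u' • (t • a)) := by rw [smul_smul, hu'2, one_smul]
    _ = u' • a := by rw [hp']
    _ = a := hu'a

end Cfsg.Agent.Lib.Helper8.RankOne
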