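/-
helper8: S4864 leaf (N7) `exists_conj_mem_of_card_le`, core with (N4) as a hypothesis:
`Quot` plumbing (injective map between finite quotients + a count ⟹ onto).
-/
import Mathlib
import Cfsg.Prelude.Def_Blocks
import Cfsg.Agent.Lib.Helper12.RealNDefs

set_option autoImplicit false

namespace Cfsg.Agent.Lib.Helper8.RealN

open Cfsg Cfsg.Agent.Lib.Helper12.RealN

universe u

variable {G : Type u} [Group G]

/-- `elRel` is an equivalence relation -/
theorem elRel_equivalence (K : Subgroup G) : Equivalence (elRel G K) where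
  refl x := ⟨1, by simp⟩
  symm := by
    rintro x y ⟨g, hg⟩
    exact ⟨g⁻¹, by rw [hg]; group⟩
  trans := by
    rintro x y z ⟨g, hg⟩ ⟨h, hh⟩
    exact ⟨h * g, by rw [hh, hg]; group⟩

/-- the inclusion of `C_K(P)`, seen inside `N_G(P)`, into `K` -/
def cpToK {p : ℕ} (K : Subgroup G) (P : Sylow p G) :
    ↥((CP K P).subgroupOf (NP P)) →* ↥K :=
  ((NP P).subtype.comp ((CP K P).subgroupOf (NP P)).subtype).codRestrict K
    (fun y => (Subgroup.mem_subgroupOf.mp y.2).1)

theorem cpToK_coe {p : ℕ} (K : Subgroup G) (P : Sylow p G)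
    (y : ↥((CP K P).subgroupOf (NP P))) : ((cpToK K P y : ↥K) : G) = ((y : ↥(NP P)) : G) := rfl

/-- the map on real elements -/
def cpToKReal {p : ℕ} (K : Subgroup G) (P : Sylow p G)
    (y : {y : ↥((CP K P).subgroupOf (NP P)) // IsConj y y⁻¹}) : {x : ↥K // IsConj x x⁻¹} :=
  ⟨cpToK K P y.1, by
    have := (cpToK K P).map_isConj y.2
    rwa [map_inv] at this⟩

theorem cpToKReal_coe {p : ℕ} (K : Subgroup G) (P : Sylow p G)
    (y : {y : ↥((CP K P).subgroupOf (NP P)) // IsConj y y⁻¹}) :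
    (((cpToKReal K P y).1 : ↥K) : G) = ((y.1 : ↥(NP P)) : G) := rfl

theorem cpToKReal_rel {p : ℕ} (K : Subgroup G) (P : Sylow p G)
    (y y' : {y : ↥((CP K P).subgroupOf (NP P)) // IsConj y y⁻¹})
    (h : elRel ↥(NP P) ((CP K P).subgroupOf (NP P)) y y') :
    elRel G K (cpToKReal K P y) (cpToKReal K P y') := by
  obtain ⟨n, hn⟩ := h
  refine ⟨(n : G), ?_⟩
  rw [cpToKReal_coe, cpToKReal_coe, hn]
  simp

variable [Finite G]

/-- (N7) with (N4) as the hypothesis `hN4`. -/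
theorem exists_conj_mem_of_card_le_of (p : ℕ) (K : Subgroup G)
    (P : Sylow p G)
    (hN4 : ∀ {c c' : G}, c ∈ Subgroup.centralizer ((P : Subgroup G) : Set G) →
      c' ∈ Subgroup.centralizer ((P : Subgroup G) : Set G) → ∀ g : G, c' = g * c * g⁻¹ →
      ∃ n ∈ NP P, c' = n * c * n⁻¹)
    (hcard : Nat.card (Quot (elRel G K)) ≤
      Nat.card (Quot (elRel ↥(NP P) ((CP K P).subgroupOf (NP P)))))
    (x : ↥K) (hx : IsConj x x⁻¹) :
    ∃ c ∈ CP K P, ∃ g : G, (x : G) = g * c * g⁻¹ := by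
  let Ψ : Quot (elRel ↥(NP P) ((CP K P).subgroupOf (NP P))) → Quot (elRel G K) :=
    Quot.map (cpToKReal K P) (cpToKReal_rel K P)
  have hinj : Function.Injective Ψ := by
    intro q q' h
    induction q using Quot.inductionOn with
    | h y =>
    induction q' using Quot.inductionOn with
    | h y' =>
    have h1 : Quot.mk (elRel G K) (cpToKReal K P y) = Quot.mk (elRel G K) (cpToKReal K P y') := h
    have h2 := (elRel_equivalence K).eqvGen_iff.mp (Quot.eqvGen_exact h1)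
    obtain ⟨g, hg⟩ := h2
    rw [cpToKReal_coe, cpToKReal_coe] at hg
    have hy : ((y.1 : ↥(NP P)) : G) ∈ CP K P := Subgroup.mem_subgroupOf.mp y.1.2
    have hy' : ((y'.1 : ↥(NP P)) : G) ∈ CP K P := Subgroup.mem_subgroupOf.mp y'.1.2
    obtain ⟨n, hn, hn2⟩ := hN4 hy.2 hy'.2 g hg
    apply Quot.sound
    refine ⟨⟨n, hn⟩, ?_⟩
    apply Subtype.ext
    rw [hn2]
    simp
  have hfin : Finite (Quot (elRel G K)) := inferInstance
  have hbij : Function.Bijective Ψ := hinj.bijective_of_nat_card_le hcard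
  obtain ⟨q, hq⟩ := hbij.2 (Quot.mk _ ⟨x, hx⟩)
  induction q using Quot.inductionOn with
  | h y =>
  have h1 : Quot.mk (elRel G K) (cpToKReal K P y) = Quot.mk (elRel G K) ⟨x, hx⟩ := hq
  have h2 := (elRel_equivalence K).eqvGen_iff.mp (Quot.eqvGen_exact h1)
  obtain ⟨g, hg⟩ := h2
  rw [cpToKReal_coe] at hg
  exact ⟨((y.1 : ↥(NP P)) : G), Subgroup.mem_subgroupOf.mp y.1.2, g, hg⟩

end Cfsg.Agent.Lib.Helper8.RealN
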