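/-
helper8: S4864 leaf (N7) `exists_conj_mem_of_card_le`: `Quot` plumbing on (N4).
-/
import Mathlib
import Cfsg.Prelude.Def_Blocks
import Cfsg.Agent.Lib.Helper12.RealNDefs
import Cfsg.Agent.Lib.Helper25.RealNN4
import Cfsg.Agent.Lib.Helper8.RealNN7Core

set_option autoImplicit false

namespace Cfsg.Agent.Lib.Helper8.RealN

open Cfsg Cfsg.Agent.Lib.Helper12.RealN

universe u

variable {G : Type u} [Group G] [Finite G]

/-- (N7) If `G` has at most as many orbits on the `K`-real elements of `K` as `N_G(P)` has on the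
real elements of `C_K(P)`, every `K`-real element of `K` is `G`-conjugate into `C_K(P)`. -/
theorem exists_conj_mem_of_card_le (p : ℕ) [Fact p.Prime] (K : Subgroup G) [hK : K.Normal]
    (P : Sylow p G)
    (hcard : Nat.card (Quot (elRel G K)) ≤
      Nat.card (Quot (elRel ↥(NP P) ((CP K P).subgroupOf (NP P)))))
    (x : ↥K) (hx : IsConj x x⁻¹) :
    ∃ c ∈ CP K P, ∃ g : G, (x : G) = g * c * g⁻¹ :=
  exists_conj_mem_of_card_le_of p K P
    (fun hc hc' g h => Cfsg.Agent.Lib.Helper25.RealN.conj_normalizer_of_conj p P hc hc' g h)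
    hcard x hx

end Cfsg.Agent.Lib.Helper8.RealN
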