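import Mathlib
import Cfsg.Agent.Lib.Helper9.ReeOutC

/-!
Abstract Ree data (helper9's `ReeAbs`): the normaliser of the torus `H` is `H ∪ n0 H`, of order
`2 |H|` (helper8, sub-lemma WP-E for helper13's Ree cluster).
-/

set_option autoImplicit false

namespace Cfsg.Agent.Lib.Helper8.ReeTorusNorm

open Cfsg.Agent.Lib.Helper9.ReeOut

variable {F : Type*} [Field F] {G : Type*} [Group G] (R : ReeAbs F G)

theorem hh_mem_H (l : Fˣ) : R.hh l ∈ R.H := ⟨l, rfl⟩

theorem mem_H_iff (g : G) : g ∈ R.H ↔ ∃ l, R.hh l = g := Iff.rfl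

theorem H_le_B : R.H ≤ R.B := by
  rintro _ ⟨l, rfl⟩
  exact R.hh_mem_B l

/-- an element of `B` normalising the torus lies in the torus -/
theorem mem_H_of_mem_B_of_normalizes (l₁ : Fˣ) (hl₁ : l₁ ^ 2 ≠ 1) (b : G) (hb : b ∈ R.B)
    (h : ∀ l' : Fˣ, b⁻¹ * R.hh l' * b ∈ R.H) : b ∈ R.H := by
  obtain ⟨l, t, u, v, rfl⟩ := (R.mem_B' b).mp hb
  have h' : ∀ l' : Fˣ, ∃ l₃ : Fˣ,
      (R.x t u v * R.hh l)⁻¹ * R.hh l' * (R.x t u v * R.hh l) = R.hh l₃ := by
    intro l'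
    obtain ⟨l₃, hl₃⟩ := h l'
    exact ⟨l₃, hl₃.symm⟩
  obtain ⟨rfl, rfl, rfl⟩ := R.mem_H_of_normalizes l₁ hl₁ t u v l h'
  rw [R.x_zero, one_mul]
  exact hh_mem_H R l

/-- elements of the normaliser of the torus lie in `H ∪ n0 H` -/
theorem mem_H_or_of_mem_normalizer (l₁ : Fˣ) (hl₁ : l₁ ^ 2 ≠ 1) (g : G)
    (hg : g ∈ Subgroup.normalizer (R.H : Set G)) : g ∈ R.H ∨ ∃ h ∈ R.H, g = R.n0 * h := by
  have hg1 : ∀ h, h ∈ R.H ↔ g * h * g⁻¹ ∈ R.H := Subgroup.mem_normalizer_iff.mp hg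
  have hg2 : ∀ h, h ∈ R.H ↔ g⁻¹ * h * g ∈ R.H := Subgroup.mem_normalizer_iff''.mp hg
  rcases R.cells g with hB | ⟨b, hb, b', hb', e⟩
  · left
    apply mem_H_of_mem_B_of_normalizes R l₁ hl₁ g hB
    intro l'
    exact (hg2 _).mp (hh_mem_H R l')
  · right
    -- `b ∈ H`
    have hbH : b ∈ R.H := by
      apply mem_H_of_mem_B_of_normalizes R l₁ hl₁ b hb
      intro l'
      obtain ⟨l₂, hl₂⟩ := (hg2 _).mp (hh_mem_H R l')
      obtain ⟨l₃, hl₃⟩ := R.inf_conj (b⁻¹ * R.hh l' * b)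
        (R.B.mul_mem (R.B.mul_mem (R.B.inv_mem hb) (R.hh_mem_B l')) hb) (by
          have e2 : R.n0⁻¹ * (b⁻¹ * R.hh l' * b) * R.n0 =
              b' * (g⁻¹ * R.hh l' * g) * b'⁻¹ := by
            rw [e]; group
          rw [e2, ← hl₂]
          exact R.B.mul_mem (R.B.mul_mem hb' (R.hh_mem_B l₂)) (R.B.inv_mem hb'))
      rw [hl₃]
      exact hh_mem_H R l₃
    obtain ⟨l, rfl⟩ := hbH
    -- `b' ∈ H`
    have hb'H : b'⁻¹ ∈ R.H := by
      apply mem_H_of_mem_B_of_normalizes R l₁ hl₁ b'⁻¹ (R.B.inv_mem hb')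
      intro l'
      obtain ⟨l₄, hl₄⟩ := (hg1 _).mp (hh_mem_H R l')
      obtain ⟨l₅, hl₅⟩ := R.n0_H (l⁻¹ * l₄ * l)
      have e2 : b'⁻¹⁻¹ * R.hh l' * b'⁻¹ =
          R.n0⁻¹ * ((R.hh l)⁻¹ * (g * R.hh l' * g⁻¹) * R.hh l) * R.n0 := by
        rw [e]; group
      rw [e2, ← hl₄, ← map_inv, ← map_mul, ← map_mul, hl₅]
      exact hh_mem_H R l₅
    obtain ⟨l', hl'⟩ := hb'H
    obtain ⟨l₆, hl₆⟩ := R.n0_H l
    refine ⟨R.hh l₆ * R.hh l'⁻¹, R.H.mul_mem (hh_mem_H R _) (hh_mem_H R _), ?_⟩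
    have hb'' : b' = R.hh l'⁻¹ := by
      rw [map_inv, hl', inv_inv]
    rw [e, hb'', ← hl₆]
    group

theorem n0_not_mem_H : R.n0 ∉ R.H := fun h => R.n0_not_mem (H_le_B R h)

variable [Finite F]

instance finite_H_set : Finite (R.H : Set G) := by
  have : Finite ↥R.H := by
    unfold ReeAbs.H
    exact Finite.of_surjective R.hh.rangeRestrict R.hh.rangeRestrict_surjective
  exact this

theorem n0_mem_normalizer : R.n0 ∈ Subgroup.normalizer (R.H : Set G) := by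
  have h : R.n0⁻¹ ∈ Subgroup.normalizer (R.H : Set G) := by
    apply Subgroup.mem_normalizer_fintype
    rintro _ ⟨l, rfl⟩
    obtain ⟨l', hl'⟩ := R.n0_H l
    rw [inv_inv, hl']
    exact hh_mem_H R l'
  simpa using (Subgroup.normalizer (R.H : Set G)).inv_mem h

/-- **the normaliser of the torus has order `2 |H|`** -/
theorem card_normalizer_H (l₁ : Fˣ) (hl₁ : l₁ ^ 2 ≠ 1) :
    Nat.card ↥(Subgroup.normalizer (R.H : Set G)) = 2 * Nat.card ↥R.H := by
  have : Finite ↥R.H := inferInstanceAs (Finite (R.H : Set G))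
  let f : ↥R.H ⊕ ↥R.H → ↥(Subgroup.normalizer (R.H : Set G)) := fun s =>
    Sum.elim (fun h => ⟨h.1, Subgroup.le_normalizer h.2⟩)
      (fun h => ⟨R.n0 * h.1, Subgroup.mul_mem _ (n0_mem_normalizer R) (Subgroup.le_normalizer h.2)⟩) s
  have hf : Function.Bijective f := by
    constructor
    · rintro (a | a) (b | b) hab
      · have := congrArg Subtype.val hab
        simp only [f, Sum.elim_inl] at this
        rw [Subtype.ext this]
      · exfalso
        have := congrArg Subtype.val hab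
        simp only [f, Sum.elim_inl, Sum.elim_inr] at this
        apply n0_not_mem_H R
        have e : R.n0 = a.1 * b.1⁻¹ := by rw [this]; group
        rw [e]
        exact R.H.mul_mem a.2 (R.H.inv_mem b.2)
      · exfalso
        have := congrArg Subtype.val hab
        simp only [f, Sum.elim_inl, Sum.elim_inr] at this
        apply n0_not_mem_H R
        have e : R.n0 = b.1 * a.1⁻¹ := by rw [← this]; group
        rw [e]
        exact R.H.mul_mem b.2 (R.H.inv_mem a.2)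
      · have := congrArg Subtype.val hab
        simp only [f, Sum.elim_inr] at this
        rw [Subtype.ext (mul_left_cancel this)]
    · rintro ⟨g, hg⟩
      rcases mem_H_or_of_mem_normalizer R l₁ hl₁ g hg with h | ⟨h, hh, rfl⟩
      · exact ⟨Sum.inl ⟨g, h⟩, rfl⟩
      · exact ⟨Sum.inr ⟨h, hh⟩, rfl⟩
  rw [← Nat.card_congr (Equiv.ofBijective f hf), Nat.card_sum, two_mul]

end Cfsg.Agent.Lib.Helper8.ReeTorusNorm
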