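import Mathlib
import Cfsg.Agent.Lib.Helper8.ReeTorusNormA
import Cfsg.Agent.Lib.Helper9.ReeOutH
import Cfsg.Agent.Lib.Helper27.ReeCentD

/-!
The normaliser of the torus `H¹` of the Ree group `²G₂(q)`, `q = 3^(2m+1)`, `m ≥ 1`, has order
`2 (q - 1)` (helper8, sub-lemma WP-E for helper13's Ree cluster).
-/

set_option autoImplicit false

namespace Cfsg.Agent.Lib.Helper8.ReeTorusNorm

open Cfsg Cfsg.Lie Matrix Cfsg.Agent.Lib.Helper7 Cfsg.Agent.Lib.Helper9.ReeOut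
  Cfsg.Agent.Lib.Helper27.ReeCent

section
variable {F : Type*} [Field F] [Finite F]
variable {τ : ↥(chevG2.group F) ≃* ↥(chevG2.group F)} {θ : ℕ} (hτ : TauData F τ θ)
variable (hsq : ∀ x : F, x ≠ 0 → ∃ w : F, x = w ^ 2 ∨ x = -(w ^ 2))
variable (hc : ∃ x : F, x ≠ 0 ∧ x ≠ 1 ∧ x ≠ -1)

/-- the torus of the fixed-point group is the abstract torus of helper9's Ree data -/
theorem diagonal_subgroupOf_fixTau :
    (chevG2.diagonalSubgroup F).subgroupOf (fixTau F τ) = (reeAbs hτ hsq hc).H := by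
  ext g
  rw [Subgroup.mem_subgroupOf]
  constructor
  · intro hg
    obtain ⟨l, hl⟩ := hhFix_surj hτ hsq g.1 (Subgroup.mem_inf.mpr ⟨hg, g.2⟩)
    exact ⟨l, Subtype.ext hl⟩
  · rintro ⟨l, rfl⟩
    exact (Subgroup.mem_inf.mp (hhFix_mem hτ hsq l)).1

include hτ hsq hc in
theorem card_normalizer_torus_aux (T : Subgroup (GL chevG2.Idx F)) (hT : T = fixTau F τ)
    (l₁ : Fˣ) (hl₁ : l₁ ^ 2 ≠ 1) :
    Nat.card ↥(Subgroup.normalizer
      (((chevG2.diagonalSubgroup F).subgroupOf T : Subgroup ↥T) : Set ↥T)) =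
      2 * Nat.card ↥((chevG2.diagonalSubgroup F).subgroupOf T) := by
  subst hT
  rw [diagonal_subgroupOf_fixTau hτ hsq hc]
  exact card_normalizer_H (reeAbs hτ hsq hc) l₁ hl₁

end

variable {K : Type*} [Field K] [Fintype K] {m : ℕ}

/-- **WP-E**: the normaliser of the torus `H¹ = reeTorus K m` (cyclic of order `q - 1`) of the Ree
group `²G₂(q)` has order `2 (q - 1)`. -/
theorem card_normalizer_reeTorus (hK : Fintype.card K = 3 ^ (2 * m + 1)) (hm : 1 ≤ m) :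
    Nat.card ↥(Subgroup.normalizer
      ((reeTorus K m : Subgroup ↥(twistedG2 K (3 ^ m))) : Set ↥(twistedG2 K (3 ^ m)))) =
      2 * (3 ^ (2 * m + 1) - 1) := by
  obtain ⟨τ, hτ⟩ := exists_tauData hK
  have hsq := sq_dichotomy_of_card hK
  have hc := exists_ne_of_card hK hm
  obtain ⟨l₀, hgen⟩ := IsCyclic.exists_generator (α := Kˣ)
  have hl₀ : l₀ ^ 2 ≠ 1 := by
    intro h
    have h1 : orderOf l₀ ∣ 2 := orderOf_dvd_of_pow_eq_one h
    have h2 : orderOf l₀ = Nat.card Kˣ := orderOf_eq_card_of_forall_mem_zpowers hgen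
    rw [h2, Nat.card_units, Nat.card_eq_fintype_card, hK] at h1
    have h3 := Nat.le_of_dvd (by norm_num) h1
    have h4 : 3 ^ 3 ≤ 3 ^ (2 * m + 1) := Nat.pow_le_pow_right (by norm_num) (by omega)
    omega
  rw [← card_reeTorus hK]
  exact card_normalizer_torus_aux hτ hsq hc (twistedG2 K (3 ^ m)) (twistedG2_eq_fixTau hτ hsq)
    l₀ hl₀

end Cfsg.Agent.Lib.Helper8.ReeTorusNorm
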