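import Mathlib

/-!
# S2281: the field lemmas behind the "loops" (helper8; plan notes/S2281_helper25.md)

`A` = the additive group of parameters `c` with `Tr v c ∈ X`.
* `addSubgroup_eq_top_of_prime_card8`: over a prime field one nonzero parameter is enough.
* `addSubgroup_eq_top_of_loop_odd8`: `2 ≠ 0`, `z` a generator of `Fˣ`, `A ∋ a0 ≠ 0`, `g ∈ A → 2 z² g ∈ A` ⟹ `A = ⊤`.
* `addSubgroup_eq_top_of_loop_even8`: `z` a generator, `z ∈ A`, `g ∈ A → g² ∈ A`,
  `g ∈ A → z g ∈ A → z² g ∈ A` ⟹ `A = ⊤` (the hypothesis `2 = 0` is not needed).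
-/

set_option autoImplicit false

namespace Cfsg.Agent.Lib.Helper8.SpFieldLoop

/-- over a field of prime cardinality, an additive subgroup with a nonzero element is everything -/
theorem addSubgroup_eq_top_of_prime_card8 {F : Type*} [Field F] [Fintype F]
    (hp : (Fintype.card F).Prime) (A : AddSubgroup F) (a0 : F) (ha0 : a0 ∈ A) (hne : a0 ≠ 0) : A = ⊤ := by
  classical
  have hdvd : Nat.card A ∣ Nat.card F := AddSubgroup.card_addSubgroup_dvd_card A
  rw [Nat.card_eq_fintype_card (α := F)] at hdvd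
  rcases (Nat.dvd_prime hp).1 hdvd with h | h
  · exfalso
    have hbot : A = ⊥ := AddSubgroup.card_eq_one.1 h
    rw [hbot, AddSubgroup.mem_bot] at ha0
    exact hne ha0
  · apply AddSubgroup.eq_top_of_card_eq
    rw [h, Nat.card_eq_fintype_card]

/-- the multiplier ring of an additive subgroup -/
def stab8 {F : Type*} [Field F] (A : AddSubgroup F) : Subring F where
  carrier := {x | ∀ g ∈ A, x * g ∈ A}
  mul_mem' := by
    intro x y hx hy g hg
    rw [mul_assoc]
    exact hx _ (hy g hg)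
  one_mem' := by
    intro g hg
    rwa [one_mul]
  add_mem' := by
    intro x y hx hy g hg
    rw [add_mul]
    exact A.add_mem (hx g hg) (hy g hg)
  zero_mem' := by
    intro g _
    rw [zero_mul]
    exact A.zero_mem
  neg_mem' := by
    intro x hx g hg
    rw [neg_mul]
    exact A.neg_mem (hx g hg)

theorem mem_stab8 {F : Type*} [Field F] (A : AddSubgroup F) (x : F) :
    x ∈ stab8 A ↔ ∀ g ∈ A, x * g ∈ A := Iff.rfl

/-- **odd loop**: `A ∋ a0 ≠ 0` stable under multiplication by `2 z²`, `z` a generator: `A = ⊤`. -/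
theorem addSubgroup_eq_top_of_loop_odd8 {F : Type*} [Field F] [Fintype F] (h2 : (2 : F) ≠ 0)
    (z : F) (hz : ∀ y : F, y ≠ 0 → ∃ k : ℕ, y = z ^ k)
    (A : AddSubgroup F) (a0 : F) (ha0 : a0 ∈ A) (hne : a0 ≠ 0)
    (hloop : ∀ g ∈ A, 2 * z ^ 2 * g ∈ A) : A = ⊤ := by
  classical
  have hb : 2 * z ^ 2 ∈ stab8 A := hloop
  have h2K : (2 : F) ∈ stab8 A := by
    have : (2 : F) = 1 + 1 := by norm_num
    rw [this]
    exact (stab8 A).add_mem (stab8 A).one_mem (stab8 A).one_mem
  -- `2⁻¹` as a power of `2`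
  have hinv : (2 : F) ^ (Fintype.card F - 2) * 2 = 1 := by
    have h1 := FiniteField.pow_card_sub_one_eq_one (2 : F) h2
    have hc : 2 ≤ Fintype.card F := Fintype.one_lt_card
    have : Fintype.card F - 1 = (Fintype.card F - 2) + 1 := by omega
    rw [this, pow_succ] at h1
    exact h1
  have hz2 : z ^ 2 ∈ stab8 A := by
    have h3 : (2 : F) ^ (Fintype.card F - 2) * (2 * z ^ 2) ∈ stab8 A :=
      (stab8 A).mul_mem ((stab8 A).pow_mem h2K _) hb
    have h4 : (2 : F) ^ (Fintype.card F - 2) * (2 * z ^ 2) = z ^ 2 := by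
      rw [← mul_assoc, hinv, one_mul]
    rwa [h4] at h3
  have hsq : ∀ y : F, y ^ 2 ∈ (stab8 A).toAddSubgroup := by
    intro y
    by_cases hy : y = 0
    · rw [hy]; simp
    · obtain ⟨k, hk⟩ := hz y hy
      have : y ^ 2 = (z ^ 2) ^ k := by rw [hk, ← pow_mul, ← pow_mul, mul_comm]
      rw [this]
      exact (stab8 A).pow_mem hz2 k
  have hall : ∀ x : F, x ∈ (stab8 A).toAddSubgroup := by
    intro x
    have e : x = ((x + 1) / 2) ^ 2 - ((x - 1) / 2) ^ 2 := by
      field_simp
      ring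
    rw [e]
    exact AddSubgroup.sub_mem _ (hsq _) (hsq _)
  rw [eq_top_iff]
  intro x _
  have hx : x * a0⁻¹ ∈ stab8 A := hall _
  have := hx a0 ha0
  rwa [mul_assoc, inv_mul_cancel₀ hne, mul_one] at this

/-- **even loop**: `z` a generator, `z ∈ A`, `A` stable under squaring and under the two-step rule:
`A = ⊤`. -/
theorem addSubgroup_eq_top_of_loop_even8 {F : Type*} [Field F] [Fintype F]
    (z : F) (hz : ∀ y : F, y ≠ 0 → ∃ k : ℕ, y = z ^ (k + 1))
    (A : AddSubgroup F) (hzA : z ∈ A) (hsq : ∀ g ∈ A, g ^ 2 ∈ A)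
    (hloop : ∀ g ∈ A, z * g ∈ A → z ^ 2 * g ∈ A) : A = ⊤ := by
  have hpow : ∀ k : ℕ, z ^ (k + 1) ∈ A ∧ z ^ (k + 2) ∈ A := by
    intro k
    induction k with
    | zero =>
      refine ⟨by simpa using hzA, ?_⟩
      have := hsq z hzA
      simpa using this
    | succ k ih =>
      refine ⟨ih.2, ?_⟩
      have h1 : z * z ^ (k + 1) ∈ A := by
        have : z * z ^ (k + 1) = z ^ (k + 2) := by ring
        rw [this]; exact ih.2
      have := hloop _ ih.1 h1
      have e : z ^ 2 * z ^ (k + 1) = z ^ (k + 1 + 2) := by ring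
      rwa [e] at this
  rw [eq_top_iff]
  intro x _
  by_cases hx : x = 0
  · rw [hx]; exact A.zero_mem
  · obtain ⟨k, hk⟩ := hz x hx
    rw [hk]
    exact (hpow k).1

end Cfsg.Agent.Lib.Helper8.SpFieldLoop
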