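/-
helper8: S2281, prime fields.  `corePrime`: the frozen S2281 conclusion for `card F` prime, `3 ≤ m`
(port of helper19's `core4`: third conjugate `gQ 1` puts `Tr e_0 1` into `M`; over a prime field the
parameter group `Apar M e_0` is then everything; helper19's `endgame_u0w0` finishes).
-/
import Mathlib
import Cfsg.Agent.Lib.Helper6.SpGenG
import Cfsg.Agent.Lib.Helper19.RegSpCore4
import Cfsg.Agent.Lib.Helper8.SpFieldLoop

set_option autoImplicit false

namespace Cfsg.Agent.Lib.Helper8.RegSpPrime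

open Matrix Cfsg.Agent.Lib.Helper5 Cfsg.Agent.Lib.Helper14 Cfsg.Agent.Lib.Helper14.SpPerfect Cfsg.Agent.Lib.Helper6.SpGen
open Cfsg.Agent.Lib.Helper26.RegSp Cfsg.Agent.Lib.Helper19.RegSpG

variable {F : Type*} [Field F] {m : ℕ}

/-- over a prime field one nonzero parameter gives the full root group -/
theorem Rt_of_card_prime [Fintype F] (hF : (Fintype.card F).Prime)
    {M : Subgroup (Matrix.symplecticGroup (Fin m) F)} {w : Fin m ⊕ Fin m → F} {a : F} (ha : a ≠ 0)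
    (h : Tr w a ∈ M) : w ∈ Rt M := by
  rw [mem_Rt_iff_Apar]
  exact Cfsg.Agent.Lib.Helper8.SpFieldLoop.addSubgroup_eq_top_of_prime_card8 hF _ a
    ((mem_Apar w a).2 h) ha

/-- **S2281, prime fields**: `q` prime, `n ≥ 3` (the frozen conclusion at `n = m`).
`u = u0 1`, `g = gQ 1`, `h = J`. -/
theorem corePrime [Fintype F] (hF : (Fintype.card F).Prime) (hm : 3 ≤ m) :
    ∃ u g h : Matrix.symplecticGroup (Fin m) F,
      IsNilpotent ((u : Matrix (Fin m ⊕ Fin m) (Fin m ⊕ Fin m) F) - 1) ∧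
      ((u : Matrix (Fin m ⊕ Fin m) (Fin m ⊕ Fin m) F) - 1) ^ (2 * m - 1) ≠ 0 ∧
      Subgroup.closure ({u, g * u * g⁻¹, h * u * h⁻¹} : Set (Matrix.symplecticGroup (Fin m) F)) = ⊤ := by
  have hm0 : 0 < m := by omega
  refine ⟨u0 m 1, gQ hm 1, Jsp m F, (u0_regular hm0 one_ne_zero).1, (u0_regular hm0 one_ne_zero).2, ?_⟩
  set M : Subgroup (Matrix.symplecticGroup (Fin m) F) :=
    Subgroup.closure ({u0 m 1, gQ hm 1 * u0 m 1 * (gQ hm 1)⁻¹, Jsp m F * u0 m 1 * (Jsp m F)⁻¹} :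
      Set (Matrix.symplecticGroup (Fin m) F)) with hM
  have hu : u0 m (1 : F) ∈ M := Subgroup.subset_closure (by simp)
  have hg : gQ hm 1 * u0 m (1 : F) * (gQ hm 1)⁻¹ ∈ M := Subgroup.subset_closure (by simp)
  have hw : w0 m (1 : F) ∈ M := Subgroup.subset_closure (by simp [w0])
  have ht : Tr (eV ⟨0, by omega⟩) (1 : F) ∈ M := Tr_e0_mem hm 1 1 M hu hg
  exact endgame_u0w0 hm0 hu hw (Rt_of_card_prime hF one_ne_zero ht)

end Cfsg.Agent.Lib.Helper8.RegSpPrime
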