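/-
helper8: S3805 core, part A: generic lemmas (bounded integer vectors, certificate principle, Titu identity).
-/
import Mathlib

set_option autoImplicit false

namespace Cfsg.Agent.Lib.Helper8.S3805

open Finset

/-- An integer vector with `∑ r² = 3` has all entries in `{-1,0,1}`. -/
theorem entry_bound {ι : Type*} [Fintype ι] (r : ι → ℤ) (h : ∑ i, r i * r i = 3) (i : ι) :
    -1 ≤ r i ∧ r i ≤ 1 := by
  have h1 : r i * r i ≤ ∑ j, r j * r j :=
    Finset.single_le_sum (f := fun j => r j * r j) (fun j _ => mul_self_nonneg (r j)) (Finset.mem_univ i)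
  rw [h] at h1
  constructor <;> nlinarith

/-- The certificate principle: if all `Λ i ≥ 0` and they sum to `tot`, then two distinct entries
sum to at most `tot`. -/
theorem cert_kill {ι : Type*} [Fintype ι] [DecidableEq ι] (Λ : ι → ℤ) (hnn : ∀ i, 0 ≤ Λ i) (tot : ℤ)
    (hsum : ∑ i, Λ i = tot) (i0 j : ι) (hj : j ≠ i0) : Λ j + Λ i0 ≤ tot := by
  have h1 : ∑ i ∈ ({j, i0} : Finset ι), Λ i ≤ ∑ i, Λ i :=
    Finset.sum_le_sum_of_subset_of_nonneg (Finset.subset_univ _) (fun i _ _ => hnn i)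
  rw [Finset.sum_pair hj, hsum] at h1
  exact h1

/-- Titu equality: three positive weights, three values, signs not all equal. -/
theorem titu (e1 e2 e3 : ℤ) (f1 f2 f3 x1 x2 x3 : ℚ) (he1 : e1 = 1 ∨ e1 = -1) (he2 : e2 = 1 ∨ e2 = -1)
    (he3 : e3 = 1 ∨ e3 = -1) (hf1 : 0 < f1) (hf2 : 0 < f2) (hf3 : 0 < f3)
    (hf : (e1 : ℚ) * f1 + e2 * f2 + e3 * f3 = 0) (hx : (e1 : ℚ) * x1 + e2 * x2 + e3 * x3 = 0)
    (hq : (e1 : ℚ) * (x1 ^ 2 / f1) + e2 * (x2 ^ 2 / f2) + e3 * (x3 ^ 2 / f3) = 0) :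
    x1 * f2 = x2 * f1 ∧ x1 * f3 = x3 * f1 ∧ x2 * f3 = x3 * f2 := by
  have key : ∀ (a b c p q r : ℚ), 0 < a → 0 < b → 0 < c → c = a + b → r = p + q →
      p ^ 2 / a + q ^ 2 / b - r ^ 2 / c = 0 → p * b = q * a := by
    intro a b c p q r ha hb hc hcab hrpq h
    subst hcab hrpq
    have hab : (0 : ℚ) < a + b := by positivity
    have h2 : p ^ 2 / a + q ^ 2 / b - (p + q) ^ 2 / (a + b) = (p * b - q * a) ^ 2 / (a * b * (a + b)) := by
      field_simp
      ring
    rw [h2] at h
    have h3 : (p * b - q * a) ^ 2 = 0 := by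
      have hpos : (0 : ℚ) < a * b * (a + b) := by positivity
      have := div_eq_zero_iff.mp h
      rcases this with h | h
      · exact h
      · exact absurd h hpos.ne'
    have h4 : p * b - q * a = 0 := by
      exact pow_eq_zero_iff (two_ne_zero) |>.mp h3
    linarith
  rcases he1 with rfl | rfl <;> rcases he2 with rfl | rfl <;> rcases he3 with rfl | rfl <;>
    push_cast at hf hx hq
  · exfalso; nlinarith
  · -- (+,+,-)
    have h1 := key f1 f2 f3 x1 x2 x3 hf1 hf2 hf3 (by linarith) (by linarith) (by linarith)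
    refine ⟨h1, ?_, ?_⟩
    · have : f3 = f1 + f2 := by linarith
      have : x3 = x1 + x2 := by linarith
      subst_vars; nlinarith
    · have : f3 = f1 + f2 := by linarith
      have : x3 = x1 + x2 := by linarith
      subst_vars; nlinarith
  · -- (+,-,+): f2 = f1 + f3
    have h1 := key f1 f3 f2 x1 x3 x2 hf1 hf3 hf2 (by linarith) (by linarith) (by linarith)
    have hf2' : f2 = f1 + f3 := by linarith
    have hx2' : x2 = x1 + x3 := by linarith
    refine ⟨?_, h1, ?_⟩
    · subst hf2' hx2'; nlinarith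
    · subst hf2' hx2'; nlinarith
  · -- (+,-,-): f1 = f2 + f3
    have h1 := key f2 f3 f1 x2 x3 x1 hf2 hf3 hf1 (by linarith) (by linarith) (by linarith)
    have hf1' : f1 = f2 + f3 := by linarith
    have hx1' : x1 = x2 + x3 := by linarith
    refine ⟨?_, ?_, h1⟩
    · subst hf1' hx1'; nlinarith
    · subst hf1' hx1'; nlinarith
  · -- (-,+,+): f1 = f2 + f3
    have h1 := key f2 f3 f1 x2 x3 x1 hf2 hf3 hf1 (by linarith) (by linarith) (by linarith)
    have hf1' : f1 = f2 + f3 := by linarith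
    have hx1' : x1 = x2 + x3 := by linarith
    refine ⟨?_, ?_, h1⟩
    · subst hf1' hx1'; nlinarith
    · subst hf1' hx1'; nlinarith
  · -- (-,+,-): f2 = f1 + f3
    have h1 := key f1 f3 f2 x1 x3 x2 hf1 hf3 hf2 (by linarith) (by linarith) (by linarith)
    have hf2' : f2 = f1 + f3 := by linarith
    have hx2' : x2 = x1 + x3 := by linarith
    refine ⟨?_, h1, ?_⟩
    · subst hf2' hx2'; nlinarith
    · subst hf2' hx2'; nlinarith
  · -- (-,-,+): f3 = f1 + f2
    have h1 := key f1 f2 f3 x1 x2 x3 hf1 hf2 hf3 (by linarith) (by linarith) (by linarith)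
    have hf3' : f3 = f1 + f2 := by linarith
    have hx3' : x3 = x1 + x2 := by linarith
    refine ⟨h1, ?_, ?_⟩
    · subst hf3' hx3'; nlinarith
    · subst hf3' hx3'; nlinarith
  · exfalso; nlinarith

end Cfsg.Agent.Lib.Helper8.S3805
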