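/-
helper8: S3805 core, part F: the Titu principle on the support of a norm-3 lattice vector.
-/
import Mathlib
import Cfsg.Agent.Lib.Helper8.S3805A

set_option autoImplicit false

namespace Cfsg.Agent.Lib.Helper8.S3805

open Finset

theorem sum_eq_three_terms {ι : Type*} [Fintype ι] [DecidableEq ι] {M : Type*} [AddCommMonoid M]
    (a b c : ι) (hab : a ≠ b) (hac : a ≠ c) (hbc : b ≠ c) (F : ι → M)
    (hF : ∀ i, i ≠ a → i ≠ b → i ≠ c → F i = 0) : ∑ i, F i = F a + F b + F c := by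
  have h : ∑ i ∈ ({a, b, c} : Finset ι), F i = ∑ i, F i := by
    apply Finset.sum_subset (Finset.subset_univ _)
    intro i _ hi
    simp only [Finset.mem_insert, Finset.mem_singleton, not_or] at hi
    exact hF i hi.1 hi.2.1 hi.2.2
  rw [← h, Finset.sum_insert (by simp [hab, hac]), Finset.sum_insert (by simp [hbc]),
    Finset.sum_singleton, add_assoc]

/-- The support of a `{-1,0,1}` vector of norm 3 consists of exactly three elements. -/
theorem support_three {ι : Type*} [Fintype ι] [DecidableEq ι] (s : ι → ℤ)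
    (hs : ∀ i, -1 ≤ s i ∧ s i ≤ 1) (hnorm : ∑ i, s i * s i = 3) :
    ∃ a b c : ι, a ≠ b ∧ a ≠ c ∧ b ≠ c ∧ s a ≠ 0 ∧ s b ≠ 0 ∧ s c ≠ 0 ∧
      ∀ i, i ≠ a → i ≠ b → i ≠ c → s i = 0 := by
  have h1 : ∀ i, s i * s i = if s i ≠ 0 then 1 else 0 := by
    intro i
    obtain ⟨h1, h2⟩ := hs i
    have : s i = -1 ∨ s i = 0 ∨ s i = 1 := by omega
    rcases this with h | h | h <;> simp [h]
  have h2 : ((Finset.univ.filter (fun i => s i ≠ 0)).card : ℤ) = 3 := by
    rw [← hnorm]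
    simp_rw [h1]
    rw [Finset.sum_ite, Finset.sum_const_zero, add_zero, Finset.sum_const]
    simp
  have h3 : (Finset.univ.filter (fun i => s i ≠ 0)).card = 3 := by exact_mod_cast h2
  obtain ⟨a, b, c, hab, hac, hbc, hS⟩ := Finset.card_eq_three.mp h3
  have hmem : ∀ i, s i ≠ 0 ↔ i = a ∨ i = b ∨ i = c := by
    intro i
    have : i ∈ Finset.univ.filter (fun i => s i ≠ 0) ↔ i ∈ ({a, b, c} : Finset ι) := by rw [hS]
    simpa using this
  refine ⟨a, b, c, hab, hac, hbc, (hmem a).mpr (Or.inl rfl), (hmem b).mpr (Or.inr (Or.inl rfl)),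
    (hmem c).mpr (Or.inr (Or.inr rfl)), ?_⟩
  intro i ha hb hc
  by_contra h
  rcases (hmem i).mp h with h | h | h
  · exact ha h
  · exact hb h
  · exact hc h

/-- Titu principle on the support of `s`. -/
theorem titu_support {ι : Type*} [Fintype ι] [DecidableEq ι] (s X f : ι → ℤ)
    (hs : ∀ i, -1 ≤ s i ∧ s i ≤ 1) (hnorm : ∑ i, s i * s i = 3) (hf : ∀ i, 0 < f i)
    (h1 : ∑ i, s i * f i = 0) (h2 : ∑ i, s i * X i = 0)
    (h3 : ∑ i, (s i : ℚ) * ((X i : ℚ) ^ 2 / (f i : ℚ)) = 0) :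
    ∀ i j, s i ≠ 0 → s j ≠ 0 → X i * f j = X j * f i := by
  obtain ⟨a, b, c, hab, hac, hbc, ha, hb, hc, hout⟩ := support_three s hs hnorm
  have e1 := sum_eq_three_terms a b c hab hac hbc (fun i => s i * f i)
    (fun i h1 h2 h3 => by simp [hout i h1 h2 h3])
  have e2 := sum_eq_three_terms a b c hab hac hbc (fun i => s i * X i)
    (fun i h1 h2 h3 => by simp [hout i h1 h2 h3])
  have e3 := sum_eq_three_terms a b c hab hac hbc (fun i => (s i : ℚ) * ((X i : ℚ) ^ 2 / (f i : ℚ)))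
    (fun i h1 h2 h3 => by simp [hout i h1 h2 h3])
  beta_reduce at e1 e2 e3
  rw [h1] at e1
  rw [h2] at e2
  rw [h3] at e3
  have sgn : ∀ i, s i ≠ 0 → s i = 1 ∨ s i = -1 := by
    intro i hi
    obtain ⟨h1, h2⟩ := hs i
    omega
  have fpos : ∀ i, (0 : ℚ) < (f i : ℚ) := fun i => by exact_mod_cast hf i
  have e1' : ((s a : ℤ) : ℚ) * (f a : ℚ) + (s b : ℚ) * (f b : ℚ) + (s c : ℚ) * (f c : ℚ) = 0 := by
    exact_mod_cast e1.symm
  have e2' : ((s a : ℤ) : ℚ) * (X a : ℚ) + (s b : ℚ) * (X b : ℚ) + (s c : ℚ) * (X c : ℚ) = 0 := by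
    exact_mod_cast e2.symm
  obtain ⟨t1, t2, t3⟩ := titu (s a) (s b) (s c) (f a) (f b) (f c) (X a) (X b) (X c) (sgn a ha) (sgn b hb)
    (sgn c hc) (fpos a) (fpos b) (fpos c) e1' e2' e3.symm
  have t1' : X a * f b = X b * f a := by exact_mod_cast t1
  have t2' : X a * f c = X c * f a := by exact_mod_cast t2
  have t3' : X b * f c = X c * f b := by exact_mod_cast t3
  intro i j hi hj
  have hi' : i = a ∨ i = b ∨ i = c := by
    by_contra h
    push Not at h
    exact hi (hout i h.1 h.2.1 h.2.2)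
  have hj' : j = a ∨ j = b ∨ j = c := by
    by_contra h
    push Not at h
    exact hj (hout j h.1 h.2.1 h.2.2)
  rcases hi' with rfl | rfl | rfl <;> rcases hj' with rfl | rfl | rfl <;>
    first | rfl | assumption | (symm; assumption)

end Cfsg.Agent.Lib.Helper8.S3805
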