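/-
helper8: S3341 core, part A: generic lemmas on integer vectors of small norm and finite sums.
-/
import Mathlib
import Cfsg.Agent.Lib.Helper8.S3805F

set_option autoImplicit false

namespace Cfsg.Agent.Lib.Helper8.S3341

open Finset Cfsg.Agent.Lib.Helper8.S3805

/-- entries of an integer vector are bounded by the norm -/
theorem sq_le_norm {ι : Type*} [Fintype ι] (r : ι → ℤ) (n : ℤ) (h : ∑ i, r i * r i = n) (i : ι) :
    r i * r i ≤ n := by
  have h1 : r i * r i ≤ ∑ j, r j * r j :=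
    Finset.single_le_sum (f := fun j => r j * r j) (fun j _ => mul_self_nonneg (r j)) (Finset.mem_univ i)
  rwa [h] at h1

/-- two entries -/
theorem sq_add_sq_le_norm {ι : Type*} [Fintype ι] [DecidableEq ι] (r : ι → ℤ) (n : ℤ)
    (h : ∑ i, r i * r i = n) (i j : ι) (hij : i ≠ j) : r i * r i + r j * r j ≤ n := by
  have h1 : ∑ k ∈ ({i, j} : Finset ι), r k * r k ≤ ∑ k, r k * r k :=
    Finset.sum_le_sum_of_subset_of_nonneg (Finset.subset_univ _) (fun k _ _ => mul_self_nonneg (r k))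
  rw [Finset.sum_pair hij, h] at h1
  exact h1

/-- An integer vector of norm 2 has exactly two non-zero entries, both `±1`. -/
theorem support_two {ι : Type*} [Fintype ι] [DecidableEq ι] (s : ι → ℤ)
    (hnorm : ∑ i, s i * s i = 2) :
    ∃ a b : ι, a ≠ b ∧ (s a = 1 ∨ s a = -1) ∧ (s b = 1 ∨ s b = -1) ∧
      ∀ i, i ≠ a → i ≠ b → s i = 0 := by
  have hb : ∀ i, -1 ≤ s i ∧ s i ≤ 1 := by
    intro i
    have := sq_le_norm s 2 hnorm i
    constructor <;> nlinarith
  have h1 : ∀ i, s i * s i = if s i ≠ 0 then 1 else 0 := by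
    intro i
    obtain ⟨h1, h2⟩ := hb i
    have : s i = -1 ∨ s i = 0 ∨ s i = 1 := by omega
    rcases this with h | h | h <;> simp [h]
  have h2 : ((Finset.univ.filter (fun i => s i ≠ 0)).card : ℤ) = 2 := by
    rw [← hnorm]
    simp_rw [h1]
    rw [Finset.sum_ite, Finset.sum_const_zero, add_zero, Finset.sum_const]
    simp
  have h3 : (Finset.univ.filter (fun i => s i ≠ 0)).card = 2 := by exact_mod_cast h2
  obtain ⟨a, b, hab, hS⟩ := Finset.card_eq_two.mp h3
  have hmem : ∀ i, s i ≠ 0 ↔ i = a ∨ i = b := by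
    intro i
    have : i ∈ Finset.univ.filter (fun i => s i ≠ 0) ↔ i ∈ ({a, b} : Finset ι) := by rw [hS]
    simpa using this
  have sgn : ∀ i, s i ≠ 0 → s i = 1 ∨ s i = -1 := by
    intro i hi
    obtain ⟨h1, h2⟩ := hb i
    omega
  refine ⟨a, b, hab, sgn a ((hmem a).mpr (Or.inl rfl)), sgn b ((hmem b).mpr (Or.inr rfl)), ?_⟩
  intro i ha hb'
  by_contra h
  rcases (hmem i).mp h with h | h
  · exact ha h
  · exact hb' h

/-- sum over a finset containing the support -/
theorem sum_eq_sum_of_support {ι : Type*} [Fintype ι] [DecidableEq ι] {M : Type*} [AddCommMonoid M]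
    (s : Finset ι) (F : ι → M) (hF : ∀ i, i ∉ s → F i = 0) : ∑ i, F i = ∑ i ∈ s, F i := by
  symm
  apply Finset.sum_subset (Finset.subset_univ _)
  intro i _ hi
  exact hF i hi

/-- certificate principle for a finset: the rest of a non-negative sum -/
theorem cert_rest {ι : Type*} [Fintype ι] [DecidableEq ι] (Λ : ι → ℤ) (hnn : ∀ i, 0 ≤ Λ i) (tot : ℤ)
    (hsum : ∑ i, Λ i = tot) (s : Finset ι) (j : ι) (hj : j ∉ s) : Λ j + ∑ i ∈ s, Λ i ≤ tot := by
  have h1 : ∑ i ∈ insert j s, Λ i ≤ ∑ i, Λ i :=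
    Finset.sum_le_sum_of_subset_of_nonneg (Finset.subset_univ _) (fun i _ _ => hnn i)
  rw [Finset.sum_insert hj, hsum] at h1
  exact h1

end Cfsg.Agent.Lib.Helper8.S3341
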