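/-
helper8: S3341 core, part B: the case `|N : T| = 4`: two integer columns; shape of the columns.
-/
import Mathlib
import Cfsg.Agent.Lib.Helper8.S3341A

set_option autoImplicit false

namespace Cfsg.Agent.Lib.Helper8.S3341

open Finset Cfsg.Agent.Lib.Helper8.S3805

/-- sum of a function supported on six distinct points -/
theorem sum_six {ι : Type*} [Fintype ι] [DecidableEq ι] {M : Type*} [AddCommMonoid M]
    (x1 x2 x3 x4 x5 x6 : ι)
    (h12 : x1 ≠ x2) (h13 : x1 ≠ x3) (h14 : x1 ≠ x4) (h15 : x1 ≠ x5) (h16 : x1 ≠ x6)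
    (h23 : x2 ≠ x3) (h24 : x2 ≠ x4) (h25 : x2 ≠ x5) (h26 : x2 ≠ x6)
    (h34 : x3 ≠ x4) (h35 : x3 ≠ x5) (h36 : x3 ≠ x6) (h45 : x4 ≠ x5) (h46 : x4 ≠ x6) (h56 : x5 ≠ x6)
    (F : ι → M)
    (hF : ∀ i, i ≠ x1 → i ≠ x2 → i ≠ x3 → i ≠ x4 → i ≠ x5 → i ≠ x6 → F i = 0) :
    ∑ i, F i = F x1 + (F x2 + (F x3 + (F x4 + (F x5 + F x6)))) := by
  rw [sum_eq_sum_of_support ({x1, x2, x3, x4, x5, x6} : Finset ι) F]
  · rw [Finset.sum_insert (by simp [h12, h13, h14, h15, h16]),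
      Finset.sum_insert (by simp [h23, h24, h25, h26]),
      Finset.sum_insert (by simp [h34, h35, h36]),
      Finset.sum_insert (by simp [h45, h46]),
      Finset.sum_insert (by simp [h56]), Finset.sum_singleton]
  · intro i hi
    simp only [Finset.mem_insert, Finset.mem_singleton, not_or] at hi
    exact hF i hi.1 hi.2.1 hi.2.2.1 hi.2.2.2.1 hi.2.2.2.2.1 hi.2.2.2.2.2

/-- the abstract data in the case `e = 4` -/
structure Cols4 (ι : Type*) [Fintype ι] where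
  a : ι → ℤ
  b : ι → ℤ
  f : ι → ℤ
  f_pos : ∀ i, 0 < f i
  naa : ∑ i, a i * a i = 9
  nbb : ∑ i, b i * b i = 9
  nab : ∑ i, a i * b i = 0
  fa : ∑ i, f i * a i = 0
  fb : ∑ i, f i * b i = 0
  c3 : ∀ i, (3 : ℤ) ∣ a i - b i
  c9 : ∀ i, (9 : ℤ) ∣ f i + 4 * a i + 4 * b i
  i0 : ι
  a_i0 : a i0 = 1
  b_i0 : b i0 = 1
  f_i0 : f i0 = 1

variable {ι : Type*} [Fintype ι] [DecidableEq ι]

namespace Cols4

variable (D : Cols4 ι)

/-- `r = (a - b)/3` -/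
def r (i : ι) : ℤ := (D.a i - D.b i) / 3

theorem three_r (i : ι) : 3 * D.r i = D.a i - D.b i := Int.mul_ediv_cancel' (D.c3 i)

theorem norm_r : ∑ i, D.r i * D.r i = 2 := by
  have h : 9 * ∑ i, D.r i * D.r i = 18 := by
    rw [Finset.mul_sum]
    have : ∀ i, 9 * (D.r i * D.r i) = D.a i * D.a i + D.b i * D.b i - 2 * (D.a i * D.b i) := by
      intro i
      have := D.three_r i
      have e : 9 * (D.r i * D.r i) = (3 * D.r i) * (3 * D.r i) := by ring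
      rw [e, this]; ring
    simp_rw [this]
    rw [Finset.sum_sub_distrib, Finset.sum_add_distrib, ← Finset.mul_sum, D.naa, D.nbb, D.nab]
    norm_num
  omega

theorem sum_b_r : ∑ i, D.b i * D.r i = -3 := by
  have h : 3 * ∑ i, D.b i * D.r i = -9 := by
    rw [Finset.mul_sum]
    have : ∀ i, 3 * (D.b i * D.r i) = D.a i * D.b i - D.b i * D.b i := by
      intro i
      have := D.three_r i
      have e : 3 * (D.b i * D.r i) = D.b i * (3 * D.r i) := by ring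
      rw [e, this]; ring
    simp_rw [this]
    rw [Finset.sum_sub_distrib, D.nab, D.nbb]
    norm_num
  omega

theorem r_i0 : D.r D.i0 = 0 := by
  have := D.three_r D.i0
  rw [D.a_i0, D.b_i0] at this
  omega

/-- first step: the two exceptional indices -/
theorem exists_exc : ∃ (i j : ι) (α β : ℤ), i ≠ j ∧ i ≠ D.i0 ∧ j ≠ D.i0 ∧ (α = 1 ∨ α = -1) ∧
    (β = 1 ∨ β = -1) ∧ D.r i = α ∧ D.r j = β ∧ D.b i = -α ∧ D.b j = -2 * β ∧
    ∀ k, k ≠ i → k ≠ j → D.r k = 0 := by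
  obtain ⟨p, q, hpq, hp, hq, hout⟩ := support_two D.r D.norm_r
  have hp0 : p ≠ D.i0 := by
    intro h; rw [h, D.r_i0] at hp; omega
  have hq0 : q ≠ D.i0 := by
    intro h; rw [h, D.r_i0] at hq; omega
  have hs := D.sum_b_r
  rw [sum_eq_sum_of_support ({p, q} : Finset ι) (fun i => D.b i * D.r i) (by
    intro i hi
    simp only [Finset.mem_insert, Finset.mem_singleton, not_or] at hi
    simp [hout i hi.1 hi.2]), Finset.sum_pair hpq] at hs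
  -- bound on `b p`, `b q`
  have hb3 : ∑ k ∈ ({p, q, D.i0} : Finset ι), D.b k * D.b k ≤ ∑ k, D.b k * D.b k :=
    Finset.sum_le_sum_of_subset_of_nonneg (Finset.subset_univ _) (fun k _ _ => mul_self_nonneg _)
  rw [Finset.sum_insert (by simp [hpq, hp0]), Finset.sum_insert (by simp [hq0]),
    Finset.sum_singleton, D.nbb, D.b_i0] at hb3
  have hbp : -2 ≤ D.b p ∧ D.b p ≤ 2 := by constructor <;> nlinarith [mul_self_nonneg (D.b q)]
  have hbq : -2 ≤ D.b q ∧ D.b q ≤ 2 := by constructor <;> nlinarith [mul_self_nonneg (D.b p)]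
  have key : (D.b p = -D.r p ∧ D.b q = -2 * D.r q) ∨ (D.b p = -2 * D.r p ∧ D.b q = -D.r q) := by
    obtain ⟨h1, h2⟩ := hbp
    obtain ⟨h3, h4⟩ := hbq
    rcases hp with hp | hp <;> rcases hq with hq | hq <;> rw [hp, hq] at hs ⊢ <;>
      interval_cases hbp' : D.b p <;> interval_cases hbq' : D.b q <;> omega
  rcases key with ⟨k1, k2⟩ | ⟨k1, k2⟩
  · exact ⟨p, q, D.r p, D.r q, hpq, hp0, hq0, hp, hq, rfl, rfl, k1, k2, hout⟩
  · exact ⟨q, p, D.r q, D.r p, hpq.symm, hq0, hp0, hq, hp, rfl, rfl, k2, k1,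
      fun k h1 h2 => hout k h2 h1⟩


/-- the shape of the two columns -/
theorem shape : ∃ (k1 k2 k3 i j : ι) (δ1 δ2 δ3 α : ℤ),
    D.i0 ≠ k1 ∧ D.i0 ≠ k2 ∧ D.i0 ≠ k3 ∧ D.i0 ≠ i ∧ D.i0 ≠ j ∧ k1 ≠ k2 ∧ k1 ≠ k3 ∧ k1 ≠ i ∧ k1 ≠ j ∧
    k2 ≠ k3 ∧ k2 ≠ i ∧ k2 ≠ j ∧ k3 ≠ i ∧ k3 ≠ j ∧ i ≠ j ∧
    (δ1 = 1 ∨ δ1 = -1) ∧ (δ2 = 1 ∨ δ2 = -1) ∧ (δ3 = 1 ∨ δ3 = -1) ∧ (α = 1 ∨ α = -1) ∧
    D.a k1 = δ1 ∧ D.b k1 = δ1 ∧ D.a k2 = δ2 ∧ D.b k2 = δ2 ∧ D.a k3 = δ3 ∧ D.b k3 = δ3 ∧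
    D.a i = 2 * α ∧ D.b i = -α ∧ D.a j = -α ∧ D.b j = 2 * α ∧ D.f i = D.f j ∧
    ∀ k, k ≠ D.i0 → k ≠ k1 → k ≠ k2 → k ≠ k3 → k ≠ i → k ≠ j → D.a k = 0 ∧ D.b k = 0 := by
  obtain ⟨i, j, α, β, hij, hi0, hj0, hα, hβ, hri, hrj, hbi, hbj, hout⟩ := D.exists_exc
  have hab : ∀ k, k ≠ i → k ≠ j → D.a k = D.b k := by
    intro k h1 h2
    have := D.three_r k
    rw [hout k h1 h2] at this
    omega
  have hai : D.a i = 2 * α := by
    have := D.three_r i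
    rw [hri, hbi] at this
    omega
  have haj : D.a j = β := by
    have := D.three_r j
    rw [hrj, hbj] at this
    omega
  -- the remaining vector
  set s : ι → ℤ := fun k => if k = D.i0 ∨ k = i ∨ k = j then 0 else D.b k with hs
  have hnorm : ∑ k, s k * s k = 3 := by
    have h1 : ∀ k, s k * s k = D.b k * D.b k -
        (if k = D.i0 ∨ k = i ∨ k = j then D.b k * D.b k else 0) := by
      intro k
      simp only [hs]
      split_ifs <;> ring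
    simp_rw [h1]
    rw [Finset.sum_sub_distrib, D.nbb]
    have h2 : ∑ k, (if k = D.i0 ∨ k = i ∨ k = j then D.b k * D.b k else 0) =
        ∑ k ∈ ({D.i0, i, j} : Finset ι), D.b k * D.b k := by
      rw [← Finset.sum_filter]
      apply Finset.sum_congr _ (fun _ _ => rfl)
      ext k
      simp
    rw [h2, Finset.sum_insert (by simp [hi0.symm, hj0.symm]), Finset.sum_insert (by simp [hij]),
      Finset.sum_singleton, D.b_i0, hbi, hbj]
    rcases hα with rfl | rfl <;> rcases hβ with rfl | rfl <;> norm_num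
  obtain ⟨k1, k2, k3, h12, h13, h23, hk1, hk2, hk3, hz⟩ :=
    support_three s (entry_bound s hnorm) hnorm
  have hsb := entry_bound s hnorm
  have hmem : ∀ k, s k ≠ 0 → k ≠ D.i0 ∧ k ≠ i ∧ k ≠ j ∧ D.b k = s k := by
    intro k hk
    simp only [hs] at hk ⊢
    by_cases hc : k = D.i0 ∨ k = i ∨ k = j
    · rw [if_pos hc] at hk; exact absurd rfl hk
    · rw [if_neg hc]
      push Not at hc
      exact ⟨hc.1, hc.2.1, hc.2.2, rfl⟩
  obtain ⟨a1, a2, a3, a4⟩ := hmem k1 hk1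
  obtain ⟨b1, b2, b3, b4⟩ := hmem k2 hk2
  obtain ⟨c1, c2, c3, c4⟩ := hmem k3 hk3
  have sgn : ∀ k, s k ≠ 0 → s k = 1 ∨ s k = -1 := by
    intro k hk
    obtain ⟨h1, h2⟩ := hsb k
    omega
  -- the degree equations
  have hzero : ∀ k, k ≠ D.i0 → k ≠ k1 → k ≠ k2 → k ≠ k3 → k ≠ i → k ≠ j → D.a k = 0 ∧ D.b k = 0 := by
    intro k h0 h1 h2 h3 h4 h5
    have hsk := hz k h1 h2 h3
    simp only [hs] at hsk
    rw [if_neg (by push Not; exact ⟨h0, h4, h5⟩)] at hsk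
    exact ⟨by rw [hab k h4 h5, hsk], hsk⟩
  have e1 := sum_six D.i0 k1 k2 k3 i j a1.symm b1.symm c1.symm hi0.symm hj0.symm h12 h13 a2 a3 h23 b2 b3
    c2 c3 hij (fun k => D.f k * D.a k) (fun k h0 h1 h2 h3 h4 h5 => by
      simp [(hzero k h0 h1 h2 h3 h4 h5).1])
  have e2 := sum_six D.i0 k1 k2 k3 i j a1.symm b1.symm c1.symm hi0.symm hj0.symm h12 h13 a2 a3 h23 b2 b3
    c2 c3 hij (fun k => D.f k * D.b k) (fun k h0 h1 h2 h3 h4 h5 => by
      simp [(hzero k h0 h1 h2 h3 h4 h5).2])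
  beta_reduce at e1 e2
  rw [D.fa] at e1
  rw [D.fb] at e2
  rw [hab k1 a2 a3, hab k2 b2 b3, hab k3 c2 c3, hai, haj, D.a_i0] at e1
  rw [hbi, hbj, D.b_i0] at e2
  have hfi := D.f_pos i
  have hfj := D.f_pos j
  have hαβ : α = -β ∧ D.f i = D.f j := by
    rcases hα with rfl | rfl <;> rcases hβ with rfl | rfl <;> constructor <;> omega
  obtain ⟨hαβ1, hfij⟩ := hαβ
  refine ⟨k1, k2, k3, i, j, s k1, s k2, s k3, α, a1.symm, b1.symm, c1.symm, hi0.symm, hj0.symm, h12, h13,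
    a2, a3, h23, b2, b3, c2, c3, hij, sgn k1 hk1, sgn k2 hk2, sgn k3 hk3, hα, ?_, a4, ?_, b4, ?_, c4, hai,
    hbi, ?_, ?_, hfij, hzero⟩
  · rw [hab k1 a2 a3, a4]
  · rw [hab k2 b2 b3, b4]
  · rw [hab k3 c2 c3, c4]
  · rw [haj]; omega
  · rw [hbj]; omega

end Cols4

end Cfsg.Agent.Lib.Helper8.S3341
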