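/-
helper8: S3341 core, part C: the case `|N : T| = 4`: the arithmetic endgame (`|G| = 36` or `360`).
-/
import Mathlib
import Cfsg.Agent.Lib.Helper8.S3341B

set_option autoImplicit false

namespace Cfsg.Agent.Lib.Helper8.S3341

open Finset Cfsg.Agent.Lib.Helper8.S3805

theorem inv_ge_of_modEq_one (d : ℤ) (h : (9 : ℤ) ∣ d - 1) : (-1 / 8 : ℚ) ≤ 1 / (d : ℚ) := by
  obtain ⟨k, hk⟩ := h
  have hd : d ≥ 1 ∨ d ≤ -8 := by omega
  rcases hd with hd | hd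
  · have : (0 : ℚ) < (d : ℚ) := by exact_mod_cast (by omega : (0 : ℤ) < d)
    have : (0 : ℚ) < 1 / (d : ℚ) := by positivity
    linarith
  · have h1 : (d : ℚ) ≤ -8 := by exact_mod_cast hd
    have h2 : (8 : ℚ) ≤ -(d : ℚ) := by linarith
    have h3 : 1 / (-(d : ℚ)) ≤ 1 / 8 := one_div_le_one_div_of_le (by norm_num) h2
    have h4 : 1 / (d : ℚ) = -(1 / (-(d : ℚ))) := by
      rw [one_div, one_div, inv_neg, neg_neg]
    rw [h4]; linarith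

theorem neg_two_inv_ge_of_modEq_five (d : ℤ) (h : (9 : ℤ) ∣ d - 5) : (-2 / 5 : ℚ) ≤ -2 / (d : ℚ) := by
  obtain ⟨k, hk⟩ := h
  have hd : d ≥ 5 ∨ d ≤ -4 := by omega
  rcases hd with hd | hd
  · have h1 : (5 : ℚ) ≤ (d : ℚ) := by exact_mod_cast hd
    have h2 : (0 : ℚ) < (d : ℚ) := by linarith
    rw [div_le_div_iff₀ (by norm_num) h2]
    linarith
  · have h1 : (d : ℚ) ≤ -4 := by exact_mod_cast hd
    have h2 : (d : ℚ) < 0 := by linarith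
    have : (0 : ℚ) < -2 / (d : ℚ) := div_pos_of_neg_of_neg (by norm_num) h2
    linarith

/-- the arithmetic endgame -/
theorem endgame4 (d1 d2 d3 Dd : ℤ) (g : ℕ) (h1 : (9 : ℤ) ∣ d1 - 1) (h2 : (9 : ℤ) ∣ d2 - 1)
    (h3 : (9 : ℤ) ∣ d3 - 1) (hD : (9 : ℤ) ∣ Dd - 5) (hL : 1 + d1 + d2 + d3 + Dd = 0)
    (hQ : 1 + d1 * d1 + d2 * d2 + d3 * d3 + 2 * (Dd * Dd) ≤ (g : ℤ))
    (hE : (g : ℚ) * (1 + 1 / (d1 : ℚ) + 1 / (d2 : ℚ) + 1 / (d3 : ℚ) - 2 / (Dd : ℚ)) = 162) :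
    g = 36 ∨ g = 360 := by
  have b1 := inv_ge_of_modEq_one d1 h1
  have b2 := inv_ge_of_modEq_one d2 h2
  have b3 := inv_ge_of_modEq_one d3 h3
  have bD := neg_two_inv_ge_of_modEq_five Dd hD
  have hg0 : (0 : ℚ) ≤ (g : ℚ) := Nat.cast_nonneg g
  have hLow : (9 / 40 : ℚ) ≤ 1 + 1 / (d1 : ℚ) + 1 / (d2 : ℚ) + 1 / (d3 : ℚ) - 2 / (Dd : ℚ) := by
    have : -2 / (Dd : ℚ) = -(2 / (Dd : ℚ)) := by ring
    linarith
  have hg : (g : ℚ) ≤ 720 := by nlinarith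
  have hgN : g ≤ 720 := by exact_mod_cast hg
  have hgZ : (g : ℤ) ≤ 720 := by exact_mod_cast hgN
  -- bounds on the degrees
  have e1 : -26 ≤ d1 ∧ d1 ≤ 26 := by constructor <;> nlinarith [mul_self_nonneg d2, mul_self_nonneg d3, mul_self_nonneg Dd]
  have e2 : -26 ≤ d2 ∧ d2 ≤ 26 := by constructor <;> nlinarith [mul_self_nonneg d1, mul_self_nonneg d3, mul_self_nonneg Dd]
  have e3 : -26 ≤ d3 ∧ d3 ≤ 26 := by constructor <;> nlinarith [mul_self_nonneg d1, mul_self_nonneg d2, mul_self_nonneg Dd]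
  obtain ⟨k1, hk1⟩ := h1
  obtain ⟨k2, hk2⟩ := h2
  obtain ⟨k3, hk3⟩ := h3
  have hd1 : d1 = 1 + 9 * k1 := by omega
  have hd2 : d2 = 1 + 9 * k2 := by omega
  have hd3 : d3 = 1 + 9 * k3 := by omega
  have hDd : Dd = -(1 + d1 + d2 + d3) := by omega
  have hk1b : -3 ≤ k1 ∧ k1 ≤ 2 := by omega
  have hk2b : -3 ≤ k2 ∧ k2 ≤ 2 := by omega
  have hk3b : -3 ≤ k3 ∧ k3 ≤ 2 := by omega
  have hd1ne : (d1 : ℚ) ≠ 0 := by
    have : d1 ≠ 0 := by omega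
    exact_mod_cast this
  have hd2ne : (d2 : ℚ) ≠ 0 := by
    have : d2 ≠ 0 := by omega
    exact_mod_cast this
  have hd3ne : (d3 : ℚ) ≠ 0 := by
    have : d3 ≠ 0 := by omega
    exact_mod_cast this
  have hDne : (Dd : ℚ) ≠ 0 := by
    have : Dd ≠ 0 := by
      obtain ⟨k, hk⟩ := hD
      omega
    exact_mod_cast this
  -- clear denominators
  have hEZ : (g : ℤ) * (d1 * d2 * d3 * Dd + d2 * d3 * Dd + d1 * d3 * Dd + d1 * d2 * Dd - 2 * (d1 * d2 * d3)) =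
      162 * (d1 * d2 * d3 * Dd) := by
    have : ((g : ℤ) : ℚ) * ((d1 : ℚ) * d2 * d3 * Dd + d2 * d3 * Dd + d1 * d3 * Dd + d1 * d2 * Dd -
        2 * ((d1 : ℚ) * d2 * d3)) = 162 * ((d1 : ℚ) * d2 * d3 * Dd) := by
      have hE' := hE
      field_simp at hE'
      push_cast
      linarith
    exact_mod_cast this
  obtain ⟨l1, u1⟩ := hk1b
  obtain ⟨l2, u2⟩ := hk2b
  obtain ⟨l3, u3⟩ := hk3b
  subst hDd
  subst hd1 hd2 hd3
  clear hE hLow hg b1 b2 b3 bD hd1ne hd2ne hd3ne hDne hk1 hk2 hk3 e1 e2 e3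
  interval_cases k1 <;> interval_cases k2 <;> interval_cases k3 <;> norm_num at hEZ hQ ⊢ <;> omega


theorem unit_cube_div (δ f : ℚ) (hδ : δ = 1 ∨ δ = -1) : δ ^ 2 * δ / f = 1 / (δ * f) := by
  rcases hδ with rfl | rfl
  · simp
  · rw [show ((-1 : ℚ)) ^ 2 * (-1) = -1 by norm_num, neg_one_mul, one_div, inv_neg, neg_div, one_div]

variable {ι : Type*} [Fintype ι] [DecidableEq ι]

/-- **core theorem, case `e = 4`**: `|G| = 36` or `|G| = 360`. -/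
theorem Cols4.core (D : Cols4 ι) (g : ℕ) (hsq : ∑ i, D.f i * D.f i ≤ (g : ℤ))
    (E : (g : ℚ) * ∑ i, ((D.a i : ℚ) ^ 2 * (D.b i : ℚ)) / (D.f i : ℚ) = 162) :
    g = 36 ∨ g = 360 := by
  obtain ⟨k1, k2, k3, i, j, δ1, δ2, δ3, α, n1, n2, n3, n4, n5, n6, n7, n8, n9, n10, n11, n12, n13, n14,
    n15, hδ1, hδ2, hδ3, hα, ha1, hb1, ha2, hb2, ha3, hb3, hai, hbi, haj, hbj, hfij, hzero⟩ := D.shape
  -- the linear relation
  have e2 := sum_six D.i0 k1 k2 k3 i j n1 n2 n3 n4 n5 n6 n7 n8 n9 n10 n11 n12 n13 n14 n15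
    (fun k => D.f k * D.b k) (fun k h0 h1 h2 h3 h4 h5 => by
      simp [(hzero k h0 h1 h2 h3 h4 h5).2])
  beta_reduce at e2
  rw [D.fb, D.b_i0, D.f_i0, hb1, hb2, hb3, hbi, hbj, ← hfij] at e2
  -- the sum of squares
  have e3 : ∑ k ∈ ({D.i0, k1, k2, k3, i, j} : Finset ι), D.f k * D.f k ≤ ∑ k, D.f k * D.f k :=
    Finset.sum_le_sum_of_subset_of_nonneg (Finset.subset_univ _) (fun k _ _ => mul_self_nonneg _)
  rw [Finset.sum_insert (by simp [n1, n2, n3, n4, n5]), Finset.sum_insert (by simp [n6, n7, n8, n9]),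
    Finset.sum_insert (by simp [n10, n11, n12]), Finset.sum_insert (by simp [n13, n14]),
    Finset.sum_insert (by simp [n15]), Finset.sum_singleton, D.f_i0, ← hfij] at e3
  -- the class equation
  have e4 := sum_six D.i0 k1 k2 k3 i j n1 n2 n3 n4 n5 n6 n7 n8 n9 n10 n11 n12 n13 n14 n15
    (fun k => ((D.a k : ℚ) ^ 2 * (D.b k : ℚ)) / (D.f k : ℚ)) (fun k h0 h1 h2 h3 h4 h5 => by
      simp [(hzero k h0 h1 h2 h3 h4 h5).1])
  beta_reduce at e4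
  rw [e4, D.a_i0, D.b_i0, D.f_i0, ha1, hb1, ha2, hb2, ha3, hb3, hai, hbi, haj, hbj, ← hfij] at E
  have hδ1q : (δ1 : ℚ) = 1 ∨ (δ1 : ℚ) = -1 := by rcases hδ1 with rfl | rfl <;> norm_num
  have hδ2q : (δ2 : ℚ) = 1 ∨ (δ2 : ℚ) = -1 := by rcases hδ2 with rfl | rfl <;> norm_num
  have hδ3q : (δ3 : ℚ) = 1 ∨ (δ3 : ℚ) = -1 := by rcases hδ3 with rfl | rfl <;> norm_num
  have hαq : (α : ℚ) = 1 ∨ (α : ℚ) = -1 := by rcases hα with rfl | rfl <;> norm_num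
  rw [unit_cube_div _ _ hδ1q, unit_cube_div _ _ hδ2q, unit_cube_div _ _ hδ3q] at E
  have hfi : (D.f i : ℚ) ≠ 0 := by
    have := D.f_pos i
    have : (0 : ℚ) < (D.f i : ℚ) := by exact_mod_cast this
    exact ne_of_gt this
  have hexc : (((2 * α : ℤ) : ℚ)) ^ 2 * ((-α : ℤ) : ℚ) / (D.f i : ℚ) +
      (((-α : ℤ) : ℚ)) ^ 2 * ((2 * α : ℤ) : ℚ) / (D.f i : ℚ) = -2 / ((α * D.f i : ℤ) : ℚ) := by
    push_cast
    rcases hαq with h | h <;> rw [h] <;> field_simp <;> ring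
  -- congruences
  have c1 := D.c9 k1
  have c2 := D.c9 k2
  have c3 := D.c9 k3
  have c4 := D.c9 i
  rw [ha1, hb1] at c1
  rw [ha2, hb2] at c2
  rw [ha3, hb3] at c3
  rw [hai, hbi] at c4
  apply endgame4 (δ1 * D.f k1) (δ2 * D.f k2) (δ3 * D.f k3) (α * D.f i) g
  · rcases hδ1 with rfl | rfl <;> omega
  · rcases hδ2 with rfl | rfl <;> omega
  · rcases hδ3 with rfl | rfl <;> omega
  · rcases hα with rfl | rfl <;> omega
  · rcases hα with rfl | rfl <;> linarith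
  · have s1 : δ1 * D.f k1 * (δ1 * D.f k1) = D.f k1 * D.f k1 := by
      rcases hδ1 with rfl | rfl <;> ring
    have s2 : δ2 * D.f k2 * (δ2 * D.f k2) = D.f k2 * D.f k2 := by
      rcases hδ2 with rfl | rfl <;> ring
    have s3 : δ3 * D.f k3 * (δ3 * D.f k3) = D.f k3 * D.f k3 := by
      rcases hδ3 with rfl | rfl <;> ring
    have s4 : α * D.f i * (α * D.f i) = D.f i * D.f i := by
      rcases hα with rfl | rfl <;> ring
    rw [s1, s2, s3, s4]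
    linarith
  · rw [hexc] at E
    rw [← E]
    congr 1
    push_cast
    ring

end Cfsg.Agent.Lib.Helper8.S3341
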