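/-
helper8: S3341 core, part D: the case `|N : T| = 2`: four integer columns; row types.
-/
import Mathlib
import Cfsg.Agent.Lib.Helper8.S3341B

set_option autoImplicit false

namespace Cfsg.Agent.Lib.Helper8.S3341

open Finset Cfsg.Agent.Lib.Helper8.S3805

/-- decode `Fin 5` to `{-2,…,2}` -/
def v5 (a : Fin 5) : ℤ := (a : ℤ) - 2

theorem exists_v5 (z : ℤ) (h : -2 ≤ z ∧ z ≤ 2) : ∃ a : Fin 5, v5 a = z := by
  obtain ⟨h1, h2⟩ := h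
  have h3 : z = -2 ∨ z = -1 ∨ z = 0 ∨ z = 1 ∨ z = 2 := by omega
  rcases h3 with rfl | rfl | rfl | rfl | rfl
  · exact ⟨0, by simp [v5]⟩
  · exact ⟨1, by simp [v5]⟩
  · exact ⟨2, by simp [v5]⟩
  · exact ⟨3, by simp [v5]⟩
  · exact ⟨4, by simp [v5]⟩

/-- row is constant modulo 3 -/
abbrev adm (a b c d : ℤ) : Prop := (3 : ℤ) ∣ a - b ∧ (3 : ℤ) ∣ a - c ∧ (3 : ℤ) ∣ a - d

/-- squared length of a row -/
def Psi (a b c d : ℤ) : ℤ := a * a + b * b + c * c + d * d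
/-- sum of products -/
def Phi (a b c d : ℤ) : ℤ := a * b + a * c + a * d + b * c + b * d + c * d
/-- the certificate -/
def Vc (a b c d : ℤ) : ℤ := 7 * Phi a b c d + 3 * Psi a b c d

/-- constant unit row -/
abbrev isU (a b c d : ℤ) : Prop := a = b ∧ b = c ∧ c = d ∧ (a = 1 ∨ a = -1)

def rowP1 (a b c d : ℤ) : Bool := decide (adm a b c d → 0 ≤ Vc a b c d)
def rowP2 (a b c d : ℤ) : Bool :=
  decide (adm a b c d → ¬ isU a b c d → Vc a b c d ≤ 54 → 10 * Vc a b c d ≤ 9 * Psi a b c d)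
/-- rows with `V = 0`: position `a` -/
def rowP3 (a b c d : ℤ) : Bool :=
  decide (adm a b c d → Vc a b c d = 0 →
    ((a ≠ 2 ∧ a ≠ -2 → Psi a b c d = 7 * (a * a)) ∧
     (a = 2 → b = -1 ∧ c = -1 ∧ d = -1) ∧ (a = -2 → b = 1 ∧ c = 1 ∧ d = 1)))

set_option maxRecDepth 100000 in
theorem rowP1_all : ∀ a b c d : Fin 5, rowP1 (v5 a) (v5 b) (v5 c) (v5 d) = true := by decide
set_option maxRecDepth 100000 in
theorem rowP2_all : ∀ a b c d : Fin 5, rowP2 (v5 a) (v5 b) (v5 c) (v5 d) = true := by decide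
set_option maxRecDepth 100000 in
theorem rowP3_all : ∀ a b c d : Fin 5, rowP3 (v5 a) (v5 b) (v5 c) (v5 d) = true := by decide

theorem Vc_nonneg (a b c d : ℤ) (ha : -2 ≤ a ∧ a ≤ 2) (hb : -2 ≤ b ∧ b ≤ 2) (hc : -2 ≤ c ∧ c ≤ 2)
    (hd : -2 ≤ d ∧ d ≤ 2) (h : adm a b c d) : 0 ≤ Vc a b c d := by
  obtain ⟨a', rfl⟩ := exists_v5 a ha
  obtain ⟨b', rfl⟩ := exists_v5 b hb
  obtain ⟨c', rfl⟩ := exists_v5 c hc
  obtain ⟨d', rfl⟩ := exists_v5 d hd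
  exact of_decide_eq_true (rowP1_all a' b' c' d') h

theorem Vc_le (a b c d : ℤ) (ha : -2 ≤ a ∧ a ≤ 2) (hb : -2 ≤ b ∧ b ≤ 2) (hc : -2 ≤ c ∧ c ≤ 2)
    (hd : -2 ≤ d ∧ d ≤ 2) (h : adm a b c d) (hU : ¬ isU a b c d) (h54 : Vc a b c d ≤ 54) :
    10 * Vc a b c d ≤ 9 * Psi a b c d := by
  obtain ⟨a', rfl⟩ := exists_v5 a ha
  obtain ⟨b', rfl⟩ := exists_v5 b hb
  obtain ⟨c', rfl⟩ := exists_v5 c hc
  obtain ⟨d', rfl⟩ := exists_v5 d hd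
  exact of_decide_eq_true (rowP2_all a' b' c' d') h hU h54

theorem row_zero (a b c d : ℤ) (ha : -2 ≤ a ∧ a ≤ 2) (hb : -2 ≤ b ∧ b ≤ 2) (hc : -2 ≤ c ∧ c ≤ 2)
    (hd : -2 ≤ d ∧ d ≤ 2) (h : adm a b c d) (hV : Vc a b c d = 0) :
    (a ≠ 2 ∧ a ≠ -2 → Psi a b c d = 7 * (a * a)) ∧
     (a = 2 → b = -1 ∧ c = -1 ∧ d = -1) ∧ (a = -2 → b = 1 ∧ c = 1 ∧ d = 1) := by
  obtain ⟨a', rfl⟩ := exists_v5 a ha
  obtain ⟨b', rfl⟩ := exists_v5 b hb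
  obtain ⟨c', rfl⟩ := exists_v5 c hc
  obtain ⟨d', rfl⟩ := exists_v5 d hd
  exact of_decide_eq_true (rowP3_all a' b' c' d') h hV

/-- symmetry of the row functions -/
theorem Psi_perm (a b c d : ℤ) : Psi b a c d = Psi a b c d ∧ Psi c b a d = Psi a b c d ∧
    Psi d b c a = Psi a b c d := by
  unfold Psi; refine ⟨by ring, by ring, by ring⟩
theorem Vc_perm (a b c d : ℤ) : Vc b a c d = Vc a b c d ∧ Vc c b a d = Vc a b c d ∧
    Vc d b c a = Vc a b c d := by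
  unfold Vc Phi Psi; refine ⟨by ring, by ring, by ring⟩

end Cfsg.Agent.Lib.Helper8.S3341
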