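/-
helper8: S3341 core, part E: the case `|N : T| = 2`: shape of the four columns.
-/
import Mathlib
import Cfsg.Agent.Lib.Helper8.S3341D

set_option autoImplicit false

namespace Cfsg.Agent.Lib.Helper8.S3341

open Finset Cfsg.Agent.Lib.Helper8.S3805

/-- the abstract data in the case `e = 2` (columns at `x, y, xy, xy⁻¹`) -/
structure Cols2 (ι : Type*) [Fintype ι] where
  c : Fin 4 → ι → ℤ
  f : ι → ℤ
  f_pos : ∀ i, 0 < f i
  gram : ∀ a b, ∑ i, c a i * c b i = if a = b then 9 else 0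
  forth : ∀ a, ∑ i, f i * c a i = 0
  c3 : ∀ a b i, (3 : ℤ) ∣ c a i - c b i
  i0 : ι
  c_i0 : ∀ a, c a i0 = 1
  f_i0 : f i0 = 1

/-- position-generic form of `row_zero` -/
theorem row_zero_at (w : Fin 4 → ℤ) (hb : ∀ a, -2 ≤ w a ∧ w a ≤ 2) (h3 : ∀ a b, (3 : ℤ) ∣ w a - w b)
    (hV : Vc (w 0) (w 1) (w 2) (w 3) = 0) (a : Fin 4) :
    (w a ≠ 2 ∧ w a ≠ -2 → Psi (w 0) (w 1) (w 2) (w 3) = 7 * (w a * w a)) ∧
    (w a = 2 → ∀ b, b ≠ a → w b = -1) ∧ (w a = -2 → ∀ b, b ≠ a → w b = 1) := by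
  obtain ⟨p1, p2, p3⟩ := Psi_perm (w 0) (w 1) (w 2) (w 3)
  obtain ⟨q1, q2, q3⟩ := Vc_perm (w 0) (w 1) (w 2) (w 3)
  fin_cases a
  · obtain ⟨r1, r2, r3⟩ := row_zero (w 0) (w 1) (w 2) (w 3) (hb 0) (hb 1) (hb 2) (hb 3)
      ⟨h3 0 1, h3 0 2, h3 0 3⟩ hV
    refine ⟨r1, ?_, ?_⟩
    · intro h b hb'
      obtain ⟨s1, s2, s3⟩ := r2 h
      fin_cases b
      · exact absurd rfl hb'
      · exact s1
      · exact s2
      · exact s3
    · intro h b hb'
      obtain ⟨s1, s2, s3⟩ := r3 h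
      fin_cases b
      · exact absurd rfl hb'
      · exact s1
      · exact s2
      · exact s3
  · obtain ⟨r1, r2, r3⟩ := row_zero (w 1) (w 0) (w 2) (w 3) (hb 1) (hb 0) (hb 2) (hb 3)
      ⟨h3 1 0, h3 1 2, h3 1 3⟩ (by rw [q1]; exact hV)
    rw [p1] at r1
    refine ⟨r1, ?_, ?_⟩
    · intro h b hb'
      obtain ⟨s1, s2, s3⟩ := r2 h
      fin_cases b
      · exact s1
      · exact absurd rfl hb'
      · exact s2
      · exact s3
    · intro h b hb'
      obtain ⟨s1, s2, s3⟩ := r3 h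
      fin_cases b
      · exact s1
      · exact absurd rfl hb'
      · exact s2
      · exact s3
  · obtain ⟨r1, r2, r3⟩ := row_zero (w 2) (w 1) (w 0) (w 3) (hb 2) (hb 1) (hb 0) (hb 3)
      ⟨h3 2 1, h3 2 0, h3 2 3⟩ (by rw [q2]; exact hV)
    rw [p2] at r1
    refine ⟨r1, ?_, ?_⟩
    · intro h b hb'
      obtain ⟨s1, s2, s3⟩ := r2 h
      fin_cases b
      · exact s2
      · exact s1
      · exact absurd rfl hb'
      · exact s3
    · intro h b hb'
      obtain ⟨s1, s2, s3⟩ := r3 h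
      fin_cases b
      · exact s2
      · exact s1
      · exact absurd rfl hb'
      · exact s3
  · obtain ⟨r1, r2, r3⟩ := row_zero (w 3) (w 1) (w 2) (w 0) (hb 3) (hb 1) (hb 2) (hb 0)
      ⟨h3 3 1, h3 3 2, h3 3 0⟩ (by rw [q3]; exact hV)
    rw [p3] at r1
    refine ⟨r1, ?_, ?_⟩
    · intro h b hb'
      obtain ⟨s1, s2, s3⟩ := r2 h
      fin_cases b
      · exact s3
      · exact s1
      · exact s2
      · exact absurd rfl hb'
    · intro h b hb'
      obtain ⟨s1, s2, s3⟩ := r3 h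
      fin_cases b
      · exact s3
      · exact s1
      · exact s2
      · exact absurd rfl hb'

variable {ι : Type*} [Fintype ι] [DecidableEq ι]

namespace Cols2

variable (D : Cols2 ι)

/-- squared length of the row of `i` -/
def P (i : ι) : ℤ := Psi (D.c 0 i) (D.c 1 i) (D.c 2 i) (D.c 3 i)
/-- certificate value of the row of `i` -/
def V (i : ι) : ℤ := Vc (D.c 0 i) (D.c 1 i) (D.c 2 i) (D.c 3 i)

theorem bound (a : Fin 4) (i : ι) : -2 ≤ D.c a i ∧ D.c a i ≤ 2 := by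
  by_cases hi : i = D.i0
  · rw [hi, D.c_i0]; omega
  · have h := sq_add_sq_le_norm (D.c a) 9 (by rw [D.gram a a, if_pos rfl]) i D.i0 hi
    rw [D.c_i0] at h
    constructor <;> nlinarith

theorem sum_P : ∑ i, D.P i = 36 := by
  unfold P Psi
  rw [Finset.sum_add_distrib, Finset.sum_add_distrib, Finset.sum_add_distrib, D.gram 0 0, D.gram 1 1,
    D.gram 2 2, D.gram 3 3]
  simp

theorem sum_V : ∑ i, D.V i = 108 := by
  have h : ∀ i, D.V i = 7 * (D.c 0 i * D.c 1 i + D.c 0 i * D.c 2 i + D.c 0 i * D.c 3 i +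
      D.c 1 i * D.c 2 i + D.c 1 i * D.c 3 i + D.c 2 i * D.c 3 i) + 3 * D.P i := by
    intro i; rfl
  simp_rw [h]
  rw [Finset.sum_add_distrib, ← Finset.mul_sum, ← Finset.mul_sum, D.sum_P]
  rw [Finset.sum_add_distrib, Finset.sum_add_distrib, Finset.sum_add_distrib, Finset.sum_add_distrib,
    Finset.sum_add_distrib, D.gram 0 1, D.gram 0 2, D.gram 0 3, D.gram 1 2, D.gram 1 3, D.gram 2 3]
  simp

theorem V_i0 : D.V D.i0 = 54 := by
  unfold V; simp only [D.c_i0]; rfl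

theorem P_i0 : D.P D.i0 = 4 := by
  unfold P; simp only [D.c_i0]; rfl

theorem adm_row (i : ι) : adm (D.c 0 i) (D.c 1 i) (D.c 2 i) (D.c 3 i) :=
  ⟨D.c3 0 1 i, D.c3 0 2 i, D.c3 0 3 i⟩

theorem V_nonneg (i : ι) : 0 ≤ D.V i :=
  Vc_nonneg _ _ _ _ (D.bound 0 i) (D.bound 1 i) (D.bound 2 i) (D.bound 3 i) (D.adm_row i)

theorem P_nonneg (i : ι) : 0 ≤ D.P i := by
  unfold P Psi
  nlinarith [mul_self_nonneg (D.c 0 i), mul_self_nonneg (D.c 1 i), mul_self_nonneg (D.c 2 i),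
    mul_self_nonneg (D.c 3 i)]

/-- a second constant unit row -/
theorem exists_k : ∃ k, k ≠ D.i0 ∧ ∃ δ : ℤ, (δ = 1 ∨ δ = -1) ∧ ∀ a, D.c a k = δ := by
  by_contra hcon
  push Not at hcon
  have hU : ∀ i, i ≠ D.i0 → ¬ isU (D.c 0 i) (D.c 1 i) (D.c 2 i) (D.c 3 i) := by
    intro i hi ⟨h1, h2, h3, h4⟩
    obtain ⟨a, ha⟩ := hcon i hi (D.c 0 i) h4
    apply ha
    fin_cases a
    · rfl
    · exact h1.symm
    · show D.c 2 i = D.c 0 i
      rw [← h2, ← h1]
    · show D.c 3 i = D.c 0 i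
      rw [← h3, ← h2, ← h1]
  have hle : ∀ i, (if i = D.i0 then (-504 : ℤ) else 0) ≤ 9 * D.P i - 10 * D.V i := by
    intro i
    by_cases hi : i = D.i0
    · rw [if_pos hi, hi, D.P_i0, D.V_i0]; norm_num
    · rw [if_neg hi]
      have h54 : D.V i ≤ 54 := by
        have := cert_kill D.V D.V_nonneg 108 D.sum_V D.i0 i hi
        rw [D.V_i0] at this
        linarith
      have := Vc_le _ _ _ _ (D.bound 0 i) (D.bound 1 i) (D.bound 2 i) (D.bound 3 i) (D.adm_row i)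
        (hU i hi) h54
      unfold P V
      linarith
  have hsum := Finset.sum_le_sum (fun i (_ : i ∈ Finset.univ) => hle i)
  rw [Finset.sum_ite_eq' Finset.univ D.i0, if_pos (Finset.mem_univ _), Finset.sum_sub_distrib,
    ← Finset.mul_sum, ← Finset.mul_sum, D.sum_P, D.sum_V] at hsum
  norm_num at hsum

end Cols2

end Cfsg.Agent.Lib.Helper8.S3341
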