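/-
helper8: S3341 core, part F: the case `|N : T| = 2`: shape theorem and `|G| = 18`.
-/
import Mathlib
import Cfsg.Agent.Lib.Helper8.S3341E

set_option autoImplicit false

namespace Cfsg.Agent.Lib.Helper8.S3341

open Finset Cfsg.Agent.Lib.Helper8.S3805

variable {ι : Type*} [Fintype ι] [DecidableEq ι]

namespace Cols2

variable (D : Cols2 ι)

theorem P_eq_zero (i : ι) (h : D.P i = 0) (b : Fin 4) : D.c b i = 0 := by
  unfold P Psi at h
  have h0 := mul_self_nonneg (D.c 0 i)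
  have h1 := mul_self_nonneg (D.c 1 i)
  have h2 := mul_self_nonneg (D.c 2 i)
  have h3 := mul_self_nonneg (D.c 3 i)
  have e0 : D.c 0 i = 0 := mul_self_eq_zero.mp (by linarith)
  have e1 : D.c 1 i = 0 := mul_self_eq_zero.mp (by linarith)
  have e2 : D.c 2 i = 0 := mul_self_eq_zero.mp (by linarith)
  have e3 : D.c 3 i = 0 := mul_self_eq_zero.mp (by linarith)
  fin_cases b
  · exact e0
  · exact e1
  · exact e2
  · exact e3

/-- the shape of the four columns -/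
theorem shape : ∃ (k : ι) (Λ : Fin 4 → ι) (δ : ℤ) (u : Fin 4 → ℤ),
    k ≠ D.i0 ∧ (∀ a, Λ a ≠ D.i0) ∧ (∀ a, Λ a ≠ k) ∧ (∀ a b, a ≠ b → Λ a ≠ Λ b) ∧
    (δ = 1 ∨ δ = -1) ∧ (∀ a, u a = 1 ∨ u a = -1) ∧ (∀ a, D.c a k = δ) ∧
    (∀ a b, D.c b (Λ a) = if b = a then -2 * u a else u a) ∧
    (∀ i, i ≠ D.i0 → i ≠ k → (∀ a, i ≠ Λ a) → ∀ b, D.c b i = 0) := by
  obtain ⟨k, hk0, δ, hδ, hck⟩ := D.exists_k
  have hVk : D.V k = 54 := by
    unfold V; simp only [hck]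
    rcases hδ with rfl | rfl <;> rfl
  have hPk : D.P k = 4 := by
    unfold P; simp only [hck]
    rcases hδ with rfl | rfl <;> rfl
  have hV0 : ∀ i, i ≠ D.i0 → i ≠ k → D.V i = 0 := by
    intro i h0 h1
    have h := cert_rest D.V D.V_nonneg 108 D.sum_V ({D.i0, k} : Finset ι) i (by simp [h0, h1])
    rw [Finset.sum_pair hk0.symm, D.V_i0, hVk] at h
    have := D.V_nonneg i
    omega
  have hrow : ∀ i, i ≠ D.i0 → i ≠ k → ∀ a : Fin 4,
      (D.c a i ≠ 2 ∧ D.c a i ≠ -2 → D.P i = 7 * (D.c a i * D.c a i)) ∧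
      (D.c a i = 2 → ∀ b, b ≠ a → D.c b i = -1) ∧ (D.c a i = -2 → ∀ b, b ≠ a → D.c b i = 1) := by
    intro i h0 h1 a
    exact row_zero_at (fun b => D.c b i) (fun b => D.bound b i) (fun b b' => D.c3 b b' i) (hV0 i h0 h1) a
  have hex : ∀ a : Fin 4, ∃ l, l ≠ D.i0 ∧ l ≠ k ∧ (D.c a l = 2 ∨ D.c a l = -2) := by
    intro a
    by_contra hcon
    push Not at hcon
    have hz : ∀ i, i ∉ ({D.i0, k} : Finset ι) → D.P i - 7 * (D.c a i * D.c a i) = 0 := by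
      intro i hi
      simp only [Finset.mem_insert, Finset.mem_singleton, not_or] at hi
      have := (hrow i hi.1 hi.2 a).1 (hcon i hi.1 hi.2)
      rw [this]; ring
    have hs := sum_eq_sum_of_support ({D.i0, k} : Finset ι)
      (fun i => D.P i - 7 * (D.c a i * D.c a i)) hz
    rw [Finset.sum_pair hk0.symm, Finset.sum_sub_distrib, ← Finset.mul_sum, D.sum_P, D.gram a a,
      if_pos rfl, D.P_i0, hPk, D.c_i0, hck] at hs
    rcases hδ with rfl | rfl <;> norm_num at hs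
  choose Λ hΛ0 hΛk hΛ2 using hex
  -- rows of the `Λ a`
  have hΛrow : ∀ a b, D.c b (Λ a) = if b = a then -2 * (if D.c a (Λ a) = 2 then -1 else 1)
      else (if D.c a (Λ a) = 2 then -1 else 1) := by
    intro a b
    rcases hΛ2 a with h | h
    · rw [if_pos h]
      by_cases hb : b = a
      · rw [if_pos hb, hb, h]; norm_num
      · rw [if_neg hb]
        exact (hrow (Λ a) (hΛ0 a) (hΛk a) a).2.1 h b hb
    · have hne : D.c a (Λ a) ≠ 2 := by rw [h]; norm_num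
      rw [if_neg hne]
      by_cases hb : b = a
      · rw [if_pos hb, hb, h]; norm_num
      · rw [if_neg hb]
        exact (hrow (Λ a) (hΛ0 a) (hΛk a) a).2.2 h b hb
  have hu : ∀ a, (if D.c a (Λ a) = 2 then (-1 : ℤ) else 1) = 1 ∨
      (if D.c a (Λ a) = 2 then (-1 : ℤ) else 1) = -1 := by
    intro a
    split_ifs
    · right; rfl
    · left; rfl
  have hinj : ∀ a b, a ≠ b → Λ a ≠ Λ b := by
    intro a b hab he
    have h1 := hΛrow a b
    rw [if_neg hab.symm] at h1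
    have h2 := hΛ2 b
    rw [← he] at h2
    rcases hu a with h | h <;> rw [h] at h1 <;> rcases h2 with h2 | h2 <;> omega
  have hPΛ : ∀ a, D.P (Λ a) = 7 := by
    intro a
    unfold P
    rw [hΛrow a 0, hΛrow a 1, hΛrow a 2, hΛrow a 3]
    rcases hu a with h | h <;> rw [h] <;> fin_cases a <;> simp [Psi]
  have hrest : ∀ i, i ≠ D.i0 → i ≠ k → (∀ a, i ≠ Λ a) → ∀ b, D.c b i = 0 := by
    intro i h0 h1 h2 b
    apply D.P_eq_zero i _ b
    have h := cert_rest D.P D.P_nonneg 36 D.sum_P ({D.i0, k, Λ 0, Λ 1, Λ 2, Λ 3} : Finset ι) i (by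
      simp only [Finset.mem_insert, Finset.mem_singleton, not_or]
      exact ⟨h0, h1, h2 0, h2 1, h2 2, h2 3⟩)
    rw [Finset.sum_insert (by
        simp only [Finset.mem_insert, Finset.mem_singleton, not_or]
        exact ⟨hk0.symm, (hΛ0 0).symm, (hΛ0 1).symm, (hΛ0 2).symm, (hΛ0 3).symm⟩),
      Finset.sum_insert (by
        simp only [Finset.mem_insert, Finset.mem_singleton, not_or]
        exact ⟨(hΛk 0).symm, (hΛk 1).symm, (hΛk 2).symm, (hΛk 3).symm⟩),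
      Finset.sum_insert (by
        simp only [Finset.mem_insert, Finset.mem_singleton, not_or]
        exact ⟨hinj 0 1 (by decide), hinj 0 2 (by decide), hinj 0 3 (by decide)⟩),
      Finset.sum_insert (by
        simp only [Finset.mem_insert, Finset.mem_singleton, not_or]
        exact ⟨hinj 1 2 (by decide), hinj 1 3 (by decide)⟩),
      Finset.sum_insert (by
        simp only [Finset.mem_singleton]
        exact hinj 2 3 (by decide)),
      Finset.sum_singleton, D.P_i0, hPk, hPΛ, hPΛ, hPΛ, hPΛ] at h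
    have := D.P_nonneg i
    omega
  exact ⟨k, Λ, δ, fun a => if D.c a (Λ a) = 2 then -1 else 1, hk0, hΛ0, hΛk, hinj, hδ, hu, hck,
    hΛrow, hrest⟩


end Cols2

theorem cellQ (σ f a b : ℚ) (hσ : σ = 1 ∨ σ = -1) (hf : f ≠ 0) :
    ((a * σ) ^ 2 * (b * σ)) / f = a ^ 2 * b * (1 / (σ * f)) := by
  rcases hσ with rfl | rfl
  · field_simp
  · field_simp

theorem cellQ1 (σ f a b c : ℚ) (hσ : σ = 1 ∨ σ = -1) (hf : f ≠ 0) :
    ((a * σ) * (b * σ) * (c * σ)) / f = a * b * c * (1 / (σ * f)) := by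
  rcases hσ with rfl | rfl
  · field_simp
  · field_simp

/-- the final algebra in the case `e = 2` -/
theorem alg2 (d w g : ℚ) (hd : d ≠ 0) (hw : w ≠ 0) (h1 : 1 + d + w = 0)
    (h2 : 1 + 1 / d + 4 / w = 0) (h3 : g * (1 + 1 / d - 5 / w) = 81) : g = 18 := by
  have hw' : w = -1 - d := by linarith
  have hd1 : (d - 1) ^ 2 = 0 := by
    have : d * w + w + 4 * d = 0 := by
      field_simp at h2
      linarith
    rw [hw'] at this
    nlinarith
  have hd1' : d = 1 := by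
    have := pow_eq_zero_iff (two_ne_zero) |>.mp hd1
    linarith
  subst hd1'
  have : w = -2 := by linarith
  subst this
  norm_num at h3
  linarith

namespace Cols2

variable (D : Cols2 ι)

/-- **core theorem, case `e = 2`**: `|G| = 18`. -/
theorem core (g : ℕ)
    (E112 : ∑ i, ((D.c 0 i : ℚ) ^ 2 * (D.c 1 i : ℚ)) / (D.f i : ℚ) = 0)
    (E123 : (g : ℚ) * ∑ i, ((D.c 0 i : ℚ) * (D.c 1 i : ℚ) * (D.c 2 i : ℚ)) / (D.f i : ℚ) = 81) :
    g = 18 := by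
  obtain ⟨k, Λ, δ, u, hk0, hΛ0, hΛk, hinj, hδ, hu, hck, hΛrow, hrest⟩ := D.shape
  have hsum : ∀ {M : Type} [AddCommMonoid M] (F : ι → M),
      (∀ i, (∀ b, D.c b i = 0) → F i = 0) →
      ∑ i, F i = F D.i0 + (F k + (F (Λ 0) + (F (Λ 1) + (F (Λ 2) + F (Λ 3))))) := by
    intro M _ F hF
    apply sum_six D.i0 k (Λ 0) (Λ 1) (Λ 2) (Λ 3) hk0.symm (hΛ0 0).symm (hΛ0 1).symm (hΛ0 2).symm
      (hΛ0 3).symm (hΛk 0).symm (hΛk 1).symm (hΛk 2).symm (hΛk 3).symm (hinj 0 1 (by decide))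
      (hinj 0 2 (by decide)) (hinj 0 3 (by decide)) (hinj 1 2 (by decide)) (hinj 1 3 (by decide))
      (hinj 2 3 (by decide)) F
    intro i h0 h1 h2 h3 h4 h5
    apply hF i
    apply hrest i h0 h1
    intro a
    fin_cases a
    · exact h2
    · exact h3
    · exact h4
    · exact h5
  -- the degree equations
  have f0 := D.forth 0
  have f1 := D.forth 1
  have f2 := D.forth 2
  have f3 := D.forth 3
  rw [hsum (fun i => D.f i * D.c 0 i) (fun i h => by simp [h 0])] at f0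
  rw [hsum (fun i => D.f i * D.c 1 i) (fun i h => by simp [h 1])] at f1
  rw [hsum (fun i => D.f i * D.c 2 i) (fun i h => by simp [h 2])] at f2
  rw [hsum (fun i => D.f i * D.c 3 i) (fun i h => by simp [h 3])] at f3
  have r00 : D.c 0 (Λ 0) = -2 * u 0 := by rw [hΛrow]; simp
  have r10 : D.c 1 (Λ 0) = u 0 := by
    rw [hΛrow, if_neg (by decide)]
  have r20 : D.c 2 (Λ 0) = u 0 := by
    rw [hΛrow, if_neg (by decide)]
  have r30 : D.c 3 (Λ 0) = u 0 := by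
    rw [hΛrow, if_neg (by decide)]
  have r01 : D.c 0 (Λ 1) = u 1 := by
    rw [hΛrow, if_neg (by decide)]
  have r11 : D.c 1 (Λ 1) = -2 * u 1 := by rw [hΛrow]; simp
  have r21 : D.c 2 (Λ 1) = u 1 := by
    rw [hΛrow, if_neg (by decide)]
  have r31 : D.c 3 (Λ 1) = u 1 := by
    rw [hΛrow, if_neg (by decide)]
  have r02 : D.c 0 (Λ 2) = u 2 := by
    rw [hΛrow, if_neg (by decide)]
  have r12 : D.c 1 (Λ 2) = u 2 := by
    rw [hΛrow, if_neg (by decide)]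
  have r22 : D.c 2 (Λ 2) = -2 * u 2 := by rw [hΛrow]; simp
  have r32 : D.c 3 (Λ 2) = u 2 := by
    rw [hΛrow, if_neg (by decide)]
  have r03 : D.c 0 (Λ 3) = u 3 := by
    rw [hΛrow, if_neg (by decide)]
  have r13 : D.c 1 (Λ 3) = u 3 := by
    rw [hΛrow, if_neg (by decide)]
  have r23 : D.c 2 (Λ 3) = u 3 := by
    rw [hΛrow, if_neg (by decide)]
  have r33 : D.c 3 (Λ 3) = -2 * u 3 := by rw [hΛrow]; simp
  simp only [D.c_i0, D.f_i0, hck, r00, r01, r02, r03, r10, r11, r12, r13, r20, r21, r22, r23, r30, r31,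
    r32, r33] at f0 f1 f2 f3
  have w01 : u 1 * D.f (Λ 1) = u 0 * D.f (Λ 0) := by linarith
  have w02 : u 2 * D.f (Λ 2) = u 0 * D.f (Λ 0) := by linarith
  have w03 : u 3 * D.f (Λ 3) = u 0 * D.f (Λ 0) := by linarith
  have hlin : 1 + δ * D.f k + u 0 * D.f (Λ 0) = 0 := by linarith
  -- the class equations
  rw [hsum (fun i => ((D.c 0 i : ℚ) ^ 2 * (D.c 1 i : ℚ)) / (D.f i : ℚ)) (fun i h => by simp [h 0])]
    at E112
  rw [hsum (fun i => ((D.c 0 i : ℚ) * (D.c 1 i : ℚ) * (D.c 2 i : ℚ)) / (D.f i : ℚ))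
    (fun i h => by simp [h 0])] at E123
  simp only [D.c_i0, D.f_i0, hck, r00, r01, r02, r03, r10, r11, r12, r13, r20, r21, r22, r23] at E112 E123
  have hfq : ∀ i, (D.f i : ℚ) ≠ 0 := by
    intro i
    have := D.f_pos i
    have : (0 : ℚ) < (D.f i : ℚ) := by exact_mod_cast this
    exact ne_of_gt this
  have huq : ∀ a, (u a : ℚ) = 1 ∨ (u a : ℚ) = -1 := by
    intro a
    rcases hu a with h | h <;> rw [h] <;> norm_num
  have hδq : (δ : ℚ) = 1 ∨ (δ : ℚ) = -1 := by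
    rcases hδ with h | h <;> rw [h] <;> norm_num
  -- rewrite each cell
  have c0 : ((δ : ℤ) : ℚ) ^ 2 * ((δ : ℤ) : ℚ) / (D.f k : ℚ) = 1 / ((δ : ℚ) * (D.f k : ℚ)) := by
    have := cellQ (δ : ℚ) (D.f k : ℚ) 1 1 hδq (hfq k)
    simpa using this
  have c0' : ((δ : ℤ) : ℚ) * ((δ : ℤ) : ℚ) * ((δ : ℤ) : ℚ) / (D.f k : ℚ) =
      1 / ((δ : ℚ) * (D.f k : ℚ)) := by
    have := cellQ1 (δ : ℚ) (D.f k : ℚ) 1 1 1 hδq (hfq k)
    simpa using this
  have a0 : (((-2 * u 0 : ℤ)) : ℚ) ^ 2 * ((u 0 : ℤ) : ℚ) / (D.f (Λ 0) : ℚ) =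
      4 * (1 / ((u 0 : ℚ) * (D.f (Λ 0) : ℚ))) := by
    have hF := hfq (Λ 0)
    push_cast
    rcases huq 0 with h | h <;> rw [h] <;> (field_simp; try ring)
  have a1 : (((u 1 : ℤ)) : ℚ) ^ 2 * ((-2 * u 1 : ℤ) : ℚ) / (D.f (Λ 1) : ℚ) =
      -2 * (1 / ((u 1 : ℚ) * (D.f (Λ 1) : ℚ))) := by
    have hF := hfq (Λ 1)
    push_cast
    rcases huq 1 with h | h <;> rw [h] <;> (field_simp; try ring)
  have a2 : (((u 2 : ℤ)) : ℚ) ^ 2 * ((u 2 : ℤ) : ℚ) / (D.f (Λ 2) : ℚ) =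
      1 / ((u 2 : ℚ) * (D.f (Λ 2) : ℚ)) := by
    have hF := hfq (Λ 2)
    rcases huq 2 with h | h <;> rw [h] <;> (field_simp; try ring)
  have a3 : (((u 3 : ℤ)) : ℚ) ^ 2 * ((u 3 : ℤ) : ℚ) / (D.f (Λ 3) : ℚ) =
      1 / ((u 3 : ℚ) * (D.f (Λ 3) : ℚ)) := by
    have hF := hfq (Λ 3)
    rcases huq 3 with h | h <;> rw [h] <;> (field_simp; try ring)
  have b0 : (((-2 * u 0 : ℤ)) : ℚ) * ((u 0 : ℤ) : ℚ) * ((u 0 : ℤ) : ℚ) / (D.f (Λ 0) : ℚ) =
      -2 * (1 / ((u 0 : ℚ) * (D.f (Λ 0) : ℚ))) := by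
    have hF := hfq (Λ 0)
    push_cast
    rcases huq 0 with h | h <;> rw [h] <;> (field_simp; try ring)
  have b1 : (((u 1 : ℤ)) : ℚ) * ((-2 * u 1 : ℤ) : ℚ) * ((u 1 : ℤ) : ℚ) / (D.f (Λ 1) : ℚ) =
      -2 * (1 / ((u 1 : ℚ) * (D.f (Λ 1) : ℚ))) := by
    have hF := hfq (Λ 1)
    push_cast
    rcases huq 1 with h | h <;> rw [h] <;> (field_simp; try ring)
  have b2 : (((u 2 : ℤ)) : ℚ) * ((u 2 : ℤ) : ℚ) * ((-2 * u 2 : ℤ) : ℚ) / (D.f (Λ 2) : ℚ) =
      -2 * (1 / ((u 2 : ℚ) * (D.f (Λ 2) : ℚ))) := by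
    have hF := hfq (Λ 2)
    push_cast
    rcases huq 2 with h | h <;> rw [h] <;> (field_simp; try ring)
  have b3 : (((u 3 : ℤ)) : ℚ) * ((u 3 : ℤ) : ℚ) * ((u 3 : ℤ) : ℚ) / (D.f (Λ 3) : ℚ) =
      1 / ((u 3 : ℚ) * (D.f (Λ 3) : ℚ)) := by
    have hF := hfq (Λ 3)
    rcases huq 3 with h | h <;> rw [h] <;> (field_simp; try ring)
  rw [c0, a0, a1, a2, a3] at E112
  rw [c0', b0, b1, b2, b3] at E123
  have q01 : (u 1 : ℚ) * (D.f (Λ 1) : ℚ) = (u 0 : ℚ) * (D.f (Λ 0) : ℚ) := by exact_mod_cast w01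
  have q02 : (u 2 : ℚ) * (D.f (Λ 2) : ℚ) = (u 0 : ℚ) * (D.f (Λ 0) : ℚ) := by exact_mod_cast w02
  have q03 : (u 3 : ℚ) * (D.f (Λ 3) : ℚ) = (u 0 : ℚ) * (D.f (Λ 0) : ℚ) := by exact_mod_cast w03
  rw [q01, q02, q03] at E112 E123
  have hd : (δ : ℚ) * (D.f k : ℚ) ≠ 0 := by
    apply mul_ne_zero _ (hfq k)
    rcases hδq with h | h <;> rw [h] <;> norm_num
  have hw : (u 0 : ℚ) * (D.f (Λ 0) : ℚ) ≠ 0 := by
    apply mul_ne_zero _ (hfq _)
    rcases huq 0 with h | h <;> rw [h] <;> norm_num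
  have hlinq : 1 + (δ : ℚ) * (D.f k : ℚ) + (u 0 : ℚ) * (D.f (Λ 0) : ℚ) = 0 := by exact_mod_cast hlin
  have e1 : ((1 : ℤ) : ℚ) = 1 := Int.cast_one
  rw [e1] at E112 E123
  have h18 := alg2 ((δ : ℚ) * (D.f k : ℚ)) ((u 0 : ℚ) * (D.f (Λ 0) : ℚ)) (g : ℚ) hd hw hlinq
    (by linear_combination E112)
    (by linear_combination E123)
  exact_mod_cast h18

end Cols2

end Cfsg.Agent.Lib.Helper8.S3341

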