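/-
helper8: S3805 core, part B: the six columns of the character table and the lattice vectors `R k`.
-/
import Mathlib
import Cfsg.Agent.Lib.Helper8.S3805A

set_option autoImplicit false

namespace Cfsg.Agent.Lib.Helper8.S3805

open Finset

/-- norms of the five columns at `x, y, xy, xa, by`. -/
def Gm : Fin 5 → ℤ := ![18, 18, 9, 6, 6]

/-- The abstract data: integer columns `c 0..4` (values at `x, y, xy, xa, by`) and degrees `f`. -/
structure Cols (ι : Type*) [Fintype ι] where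
  c : Fin 5 → ι → ℤ
  f : ι → ℤ
  f_pos : ∀ i, 0 < f i
  gram : ∀ a b, ∑ i, c a i * c b i = if a = b then Gm a else 0
  forth : ∀ a, ∑ i, f i * c a i = 0
  c3x : ∀ i, (3 : ℤ) ∣ c 0 i - c 2 i
  c3y : ∀ i, (3 : ℤ) ∣ c 1 i - c 2 i
  c2x : ∀ i, (2 : ℤ) ∣ c 0 i - c 3 i
  c2y : ∀ i, (2 : ℤ) ∣ c 1 i - c 4 i
  i0 : ι
  c_i0 : ∀ a, c a i0 = 1
  f_i0 : f i0 = 1

variable {ι : Type*} [Fintype ι]

/-- multipliers -/
def mR : Fin 6 → ℤ := ![6, 6, 3, 6, 6, 3]

/-- coefficient matrix -/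
def UR : Fin 6 → Fin 5 → ℤ :=
  ![![1, 0, 2, 3, 0], ![1, 0, 2, -3, 0], ![1, 0, -1, 0, 0],
    ![0, 1, 2, 0, 3], ![0, 1, 2, 0, -3], ![0, 1, -1, 0, 0]]

/-- target Gram matrix of the six lattice vectors -/
def GR : Fin 6 → Fin 6 → ℤ :=
  ![![3, 0, 0, 1, 1, -1], ![0, 3, 0, 1, 1, -1], ![0, 0, 3, -1, -1, 1],
    ![1, 1, -1, 3, 0, 0], ![1, 1, -1, 0, 3, 0], ![-1, -1, 1, 0, 0, 3]]

namespace Cols

variable (D : Cols ι)

/-- `r₃ = (ξ - ζ)/3` -/
def r3 (i : ι) : ℤ := (D.c 0 i - D.c 2 i) / 3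
/-- `r₃' = (η - ζ)/3` -/
def r3' (i : ι) : ℤ := (D.c 1 i - D.c 2 i) / 3
/-- `r₁ = (ζ + r₃ + υ)/2` -/
def r1 (i : ι) : ℤ := (D.c 2 i + D.r3 i + D.c 3 i) / 2
def r2 (i : ι) : ℤ := D.c 2 i + D.r3 i - D.r1 i
def r1' (i : ι) : ℤ := (D.c 2 i + D.r3' i + D.c 4 i) / 2
def r2' (i : ι) : ℤ := D.c 2 i + D.r3' i - D.r1' i

/-- the six lattice vectors -/
def R : Fin 6 → ι → ℤ := ![D.r1, D.r2, D.r3, D.r1', D.r2', D.r3']

theorem three_r3 (i : ι) : 3 * D.r3 i = D.c 0 i - D.c 2 i := Int.mul_ediv_cancel' (D.c3x i)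
theorem three_r3' (i : ι) : 3 * D.r3' i = D.c 1 i - D.c 2 i := Int.mul_ediv_cancel' (D.c3y i)

theorem two_r1 (i : ι) : 2 * D.r1 i = D.c 2 i + D.r3 i + D.c 3 i := by
  apply Int.mul_ediv_cancel'
  have h1 := D.three_r3 i
  have h2 := D.c2x i
  omega

theorem two_r1' (i : ι) : 2 * D.r1' i = D.c 2 i + D.r3' i + D.c 4 i := by
  apply Int.mul_ediv_cancel'
  have h1 := D.three_r3' i
  have h2 := D.c2y i
  omega

/-- the values in terms of the lattice coordinates -/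
theorem xi_eq (i : ι) : D.c 0 i = D.r1 i + D.r2 i + 2 * D.r3 i := by
  have := D.three_r3 i; unfold r2; omega
theorem zeta_eq (i : ι) : D.c 2 i = D.r1 i + D.r2 i - D.r3 i := by
  unfold r2; omega
theorem ups_eq (i : ι) : D.c 3 i = D.r1 i - D.r2 i := by
  have := D.two_r1 i; unfold r2; omega
theorem eta_eq (i : ι) : D.c 1 i = D.r1' i + D.r2' i + 2 * D.r3' i := by
  have := D.three_r3' i; unfold r2'; omega
theorem zeta_eq' (i : ι) : D.c 2 i = D.r1' i + D.r2' i - D.r3' i := by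
  unfold r2'; omega
theorem om_eq (i : ι) : D.c 4 i = D.r1' i - D.r2' i := by
  have := D.two_r1' i; unfold r2'; omega

theorem R_spec (k : Fin 6) (i : ι) : mR k * D.R k i = ∑ a, UR k a * D.c a i := by
  have h1 := D.three_r3 i
  have h2 := D.three_r3' i
  have h3 := D.two_r1 i
  have h4 := D.two_r1' i
  fin_cases k <;> simp [mR, UR, R, Fin.sum_univ_succ, r2, r2'] <;> omega

/-- bilinear expansion -/
theorem sum_comb_mul (u v : Fin 5 → ℤ) :
    ∑ i, (∑ a, u a * D.c a i) * (∑ b, v b * D.c b i) = ∑ a, u a * v a * Gm a := by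
  have h : ∀ i, (∑ a, u a * D.c a i) * (∑ b, v b * D.c b i) =
      ∑ a, ∑ b, u a * v b * (D.c a i * D.c b i) := by
    intro i
    rw [Finset.sum_mul_sum]
    apply Finset.sum_congr rfl; intro a _
    apply Finset.sum_congr rfl; intro b _
    ring
  simp_rw [h]
  rw [Finset.sum_comm]
  apply Finset.sum_congr rfl; intro a _
  rw [Finset.sum_comm]
  simp_rw [← Finset.mul_sum, D.gram]
  simp

theorem gram_R (k l : Fin 6) : ∑ i, D.R k i * D.R l i = GR k l := by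
  have h : mR k * mR l * ∑ i, D.R k i * D.R l i = ∑ a, UR k a * UR l a * Gm a := by
    rw [← D.sum_comb_mul (UR k) (UR l), Finset.mul_sum]
    apply Finset.sum_congr rfl; intro i _
    rw [← D.R_spec k i, ← D.R_spec l i]; ring
  have h2 : ∑ a, UR k a * UR l a * Gm a = mR k * mR l * GR k l := by
    fin_cases k <;> fin_cases l <;> simp [UR, Gm, mR, GR, Fin.sum_univ_succ]
  rw [h2] at h
  have h3 : mR k * mR l ≠ 0 := by
    fin_cases k <;> fin_cases l <;> simp [mR]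
  exact mul_left_cancel₀ h3 h

theorem deg_R (k : Fin 6) : ∑ i, D.f i * D.R k i = 0 := by
  have h : mR k * ∑ i, D.f i * D.R k i = 0 := by
    rw [Finset.mul_sum]
    have : ∀ i, mR k * (D.f i * D.R k i) = ∑ a, UR k a * (D.f i * D.c a i) := by
      intro i
      rw [mul_left_comm, D.R_spec k i, Finset.mul_sum]
      apply Finset.sum_congr rfl; intro a _; ring
    simp_rw [this]
    rw [Finset.sum_comm]
    simp_rw [← Finset.mul_sum, D.forth]
    simp
  have h3 : mR k ≠ 0 := by fin_cases k <;> simp [mR]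
  exact (mul_eq_zero.mp h).resolve_left h3

/-- all lattice coordinates lie in `{-1,0,1}` -/
theorem R_bound (k : Fin 6) (i : ι) : -1 ≤ D.R k i ∧ D.R k i ≤ 1 := by
  apply entry_bound (D.R k)
  rw [D.gram_R k k]
  fin_cases k <;> simp [GR]

/-- the type of the trivial character -/
theorem R_i0 : ∀ k, D.R k D.i0 = ![1, 0, 0, 1, 0, 0] k := by
  have h0 := D.c_i0
  have e1 := D.xi_eq D.i0
  have e2 := D.zeta_eq D.i0
  have e3 := D.ups_eq D.i0
  have e4 := D.eta_eq D.i0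
  have e5 := D.zeta_eq' D.i0
  have e6 := D.om_eq D.i0
  rw [h0] at e1 e2 e3 e4 e5 e6
  intro k
  fin_cases k <;> simp [R] <;> omega

end Cols

end Cfsg.Agent.Lib.Helper8.S3805
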