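/-
helper8: S3805 bridge, part M: general character-theoretic lemmas (integrality of values at real
elements of order 3 or 6, divisibility from the local ideal).
-/
import Mathlib
import Cfsg.Agent.Lib.Lead.CharMain
import Cfsg.Agent.Lib.Lead.GalChar
import Cfsg.Agent.Lib.Lead.BlockInvol
import Cfsg.Agent.Lib.Lead.SmallFaithA
import Cfsg.Agent.Lib.Lead.BlockBasic
import Cfsg.Agent.Lib.Helper10.CyclicTIGalois
import Cfsg.Agent.Lib.Helper6.Knoerr
import Cfsg.Agent.Lib.Helper6.PRegular
import Cfsg.Agent.Lib.Helper24.IrrFacts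

set_option autoImplicit false

namespace Cfsg.Agent.Lib.Helper8.S3805

open Cfsg Cfsg.Agent.CharLib Cfsg.Agent.Lib.Helper24
open scoped ComplexConjugate

universe u

variable {G : Type u} [Group G]

/-- an integer in the local ideal of a `p`-modular ideal is divisible by `p` -/
theorem int_dvd_of_memLocalIdeal {M : Ideal AlgInt} {p : ℕ} (hM : IsPModular p M) {k : ℤ}
    (h : MemLocalIdeal M ((k : ℤ) : ℂ)) : (p : ℤ) ∣ k := by
  obtain ⟨n, rfl | rfl⟩ := Int.eq_nat_or_neg k
  · have h2 : MemLocalIdeal M ((n : ℕ) : ℂ) := by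
      have : (((n : ℕ) : ℤ) : ℂ) = ((n : ℕ) : ℂ) := by push_cast; rfl
      rw [← this]; exact h
    have h3 := Cfsg.Agent.Lib.Lead.SmallFaith.dvd_of_memLocalIdeal_natCast hM h2
    exact Int.natCast_dvd_natCast.mpr h3
  · have h2 : MemLocalIdeal M ((n : ℕ) : ℂ) := by
      have : ((n : ℕ) : ℂ) = -(((-(n : ℤ) : ℤ)) : ℂ) := by push_cast; ring
      rw [this]; exact memLocalIdeal_neg h
    have h3 := Cfsg.Agent.Lib.Lead.SmallFaith.dvd_of_memLocalIdeal_natCast hM h2
    exact (Int.natCast_dvd_natCast.mpr h3).neg_right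

/-- a real element of order 3 or 6 is conjugate to all its powers prime to the group order -/
theorem isConj_pow_of_real36 [Finite G] (g : G) (ho : orderOf g = 3 ∨ orderOf g = 6)
    (hinv : IsConj g g⁻¹) (m : ℕ) (hm : m.Coprime (Nat.card G)) : IsConj g (g ^ m) := by
  have hdvd : orderOf g ∣ Nat.card G := orderOf_dvd_natCard g
  have hcop : m.Coprime (orderOf g) := Nat.Coprime.coprime_dvd_right hdvd hm
  have hmod : g ^ m = g ^ (m % orderOf g) := (pow_mod_orderOf g m).symm
  rw [hmod]
  rcases ho with ho | ho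
  · rw [ho] at hcop ⊢
    have h3 : g ^ 3 = 1 := by rw [← ho]; exact pow_orderOf_eq_one g
    have hlt : m % 3 < 3 := Nat.mod_lt _ (by norm_num)
    have hc : (m % 3).Coprime 3 := by
      rw [Nat.Coprime, ← Nat.gcd_rec, Nat.gcd_comm]; exact hcop
    interval_cases hk : m % 3
    · simp at hc
    · rw [pow_one]
    · have : g ^ 2 = g⁻¹ := by
        rw [eq_inv_iff_mul_eq_one]
        rw [← pow_succ]; exact h3
      rw [this]; exact hinv
  · rw [ho] at hcop ⊢
    have h6 : g ^ 6 = 1 := by rw [← ho]; exact pow_orderOf_eq_one g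
    have hlt : m % 6 < 6 := Nat.mod_lt _ (by norm_num)
    have hc : (m % 6).Coprime 6 := by
      rw [Nat.Coprime, ← Nat.gcd_rec, Nat.gcd_comm]; exact hcop
    interval_cases hk : m % 6
    · simp at hc
    · rw [pow_one]
    · norm_num at hc
    · norm_num at hc
    · norm_num at hc
    · have : g ^ 5 = g⁻¹ := by
        rw [eq_inv_iff_mul_eq_one]
        rw [← pow_succ]; exact h6
      rw [this]; exact hinv

/-- irreducible characters take integer values at real elements of order 3 or 6 -/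
theorem irr_int_of_real36 [Finite G] (χ : IrrCharacter G) (g : G)
    (ho : orderOf g = 3 ∨ orderOf g = 6) (hinv : IsConj g g⁻¹) :
    ∃ n : ℤ, (χ : G → ℂ) g = (n : ℂ) := by
  apply Cfsg.Agent.Lib.Helper10.irr_int_of_forall_pow_eq χ.2 g
  intro m hm
  have hc := isConj_pow_of_real36 g ho hinv m hm
  exact (IsClassFunction.of_isConj
    (IsCharacter.isClassFunction (IsIrrCharacter.isCharacter χ.2)) hc).symm

/-- integer-valued version of a character value (0 if the value is not an integer) -/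
noncomputable def ival (χ : IrrCharacter G) (g : G) : ℤ := by
  classical
  exact if h : ∃ n : ℤ, (χ : G → ℂ) g = (n : ℂ) then h.choose else 0

theorem ival_spec (χ : IrrCharacter G) (g : G) (h : ∃ n : ℤ, (χ : G → ℂ) g = (n : ℂ)) :
    ((ival χ g : ℤ) : ℂ) = (χ : G → ℂ) g := by
  classical
  unfold ival
  rw [dif_pos h]
  exact h.choose_spec.symm

theorem ival_one (χ : IrrCharacter G) : ival χ 1 = (charDegree (χ : G → ℂ) : ℤ) := by
  have h : ∃ n : ℤ, (χ : G → ℂ) 1 = (n : ℂ) := ⟨(charDegree (χ : G → ℂ) : ℤ), by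
    rw [irr_apply_one]; push_cast; rfl⟩
  have h1 := ival_spec χ 1 h
  rw [irr_apply_one] at h1
  have : ((ival χ 1 : ℤ) : ℂ) = (((charDegree (χ : G → ℂ) : ℕ) : ℤ) : ℂ) := by
    rw [h1]; push_cast; rfl
  exact_mod_cast this

end Cfsg.Agent.Lib.Helper8.S3805
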