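/-
helper8: S3805 bridge, part N: the column data `Cols (IrrCharacter G)` from the local data of
helper13 (integrality, second orthogonality, congruences modulo 3 and 2).
-/
import Mathlib
import Cfsg.Agent.Lib.Helper8.S3805M
import Cfsg.Agent.Lib.Helper8.S3805B
import Cfsg.Agent.Lib.Helper13.S3805LocJ

set_option autoImplicit false

namespace Cfsg.Agent.Lib.Helper8.S3805

open Cfsg Cfsg.Agent.CharLib Cfsg.Agent.Lib.Helper24 Cfsg.Agent.Lib.Helper13.S3805Loc
open scoped ComplexConjugate

universe u

variable {G : Type u} [Group G]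

/-- the five column representatives -/
def el (x y a b : G) : Fin 5 → G := ![x, y, x * y, x * a, b * y]

section

variable {T : Subgroup G} {x y a b : G}

theorem el_order [Finite G] (h : Data T x y a b) (k : Fin 5) :
    orderOf (el x y a b k) = 3 ∨ orderOf (el x y a b k) = 6 := by
  fin_cases k
  · left; exact h.orderOf_x
  · left; exact h.orderOf_y
  · left; exact h.orderOf_xy
  · right; exact h.orderOf_xa
  · right; exact h.orderOf_by

theorem el_real [Finite G] (h : Data T x y a b) (k : Fin 5) :
    IsConj (el x y a b k) (el x y a b k)⁻¹ := by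
  fin_cases k
  · exact h.conj_x_inv
  · exact h.conj_y_inv
  · exact h.conj_xy_inv
  · exact h.conj_xa_inv
  · exact h.conj_by_inv

theorem el_ne_one [Finite G] (h : Data T x y a b) (k : Fin 5) : el x y a b k ≠ 1 := by
  intro h1
  have := el_order h k
  rw [h1, orderOf_one] at this
  omega

theorem el_not_conj [Finite G] (h : Data T x y a b) (k l : Fin 5) (hkl : k ≠ l) :
    ¬ IsConj (el x y a b k) (el x y a b l) := by
  have o0 : orderOf (el x y a b 0) = 3 := h.orderOf_x
  have o1 : orderOf (el x y a b 1) = 3 := h.orderOf_y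
  have o2 : orderOf (el x y a b 2) = 3 := h.orderOf_xy
  have o3 : orderOf (el x y a b 3) = 6 := h.orderOf_xa
  have o4 : orderOf (el x y a b 4) = 6 := h.orderOf_by
  have n01 : ¬ IsConj (el x y a b 0) (el x y a b 1) := h.not_conj_x_y
  have n02 : ¬ IsConj (el x y a b 0) (el x y a b 2) := h.not_conj_x_xy
  have n12 : ¬ IsConj (el x y a b 1) (el x y a b 2) := h.not_conj_y_xy
  have n34 : ¬ IsConj (el x y a b 3) (el x y a b 4) := h.not_conj_xa_by
  have d36 : ∀ u v : G, orderOf u = 3 → orderOf v = 6 → ¬ IsConj u v := by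
    intro u v hu hv
    exact Data.not_conj_of_orderOf_ne (by rw [hu, hv]; norm_num)
  have d63 : ∀ u v : G, orderOf u = 6 → orderOf v = 3 → ¬ IsConj u v := by
    intro u v hu hv
    exact Data.not_conj_of_orderOf_ne (by rw [hu, hv]; norm_num)
  fin_cases k <;> fin_cases l
  · exact absurd rfl hkl
  · exact n01
  · exact n02
  · exact d36 _ _ o0 o3
  · exact d36 _ _ o0 o4
  · exact fun hc => n01 hc.symm
  · exact absurd rfl hkl
  · exact n12
  · exact d36 _ _ o1 o3
  · exact d36 _ _ o1 o4
  · exact fun hc => n02 hc.symm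
  · exact fun hc => n12 hc.symm
  · exact absurd rfl hkl
  · exact d36 _ _ o2 o3
  · exact d36 _ _ o2 o4
  · exact d63 _ _ o3 o0
  · exact d63 _ _ o3 o1
  · exact d63 _ _ o3 o2
  · exact absurd rfl hkl
  · exact n34
  · exact d63 _ _ o4 o0
  · exact d63 _ _ o4 o1
  · exact d63 _ _ o4 o2
  · exact fun hc => n34 hc.symm
  · exact absurd rfl hkl

theorem el_cent [Finite G] (h : Data T x y a b) (k : Fin 5) :
    ((Nat.card ↥(Subgroup.centralizer ({el x y a b k} : Set G)) : ℕ) : ℤ) = Gm k := by
  fin_cases k
  · show ((Nat.card ↥(Subgroup.centralizer ({x} : Set G)) : ℕ) : ℤ) = 18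
    rw [h.card_centralizer_x]; rfl
  · show ((Nat.card ↥(Subgroup.centralizer ({y} : Set G)) : ℕ) : ℤ) = 18
    rw [h.card_centralizer_y]; rfl
  · show ((Nat.card ↥(Subgroup.centralizer ({x * y} : Set G)) : ℕ) : ℤ) = 9
    rw [h.card_centralizer_xy]; rfl
  · show ((Nat.card ↥(Subgroup.centralizer ({x * a} : Set G)) : ℕ) : ℤ) = 6
    rw [h.card_centralizer_xa]; rfl
  · show ((Nat.card ↥(Subgroup.centralizer ({b * y} : Set G)) : ℕ) : ℤ) = 6
    rw [h.card_centralizer_by]; rfl

theorem el_val [Finite G] (h : Data T x y a b) (k : Fin 5) (χ : IrrCharacter G) :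
    ((ival χ (el x y a b k) : ℤ) : ℂ) = (χ : G → ℂ) (el x y a b k) :=
  ival_spec χ _ (irr_int_of_real36 χ _ (el_order h k) (el_real h k))

theorem ival_one_val (χ : IrrCharacter G) : ((ival χ 1 : ℤ) : ℂ) = (χ : G → ℂ) 1 := by
  rw [ival_one, irr_apply_one]; push_cast; rfl

/-- Gram relations of the five columns -/
theorem el_gram [Fintype G] [Fintype (IrrCharacter G)] (h : Data T x y a b) (k l : Fin 5) :
    ∑ χ : IrrCharacter G, ival χ (el x y a b k) * ival χ (el x y a b l) =
      if k = l then Gm k else 0 := by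
  classical
  have h1 := sum_irr_mul_conj (el x y a b k) (el x y a b l)
  have h2 : ∀ χ : IrrCharacter G,
      (χ : G → ℂ) (el x y a b k) * conj ((χ : G → ℂ) (el x y a b l)) =
        ((ival χ (el x y a b k) * ival χ (el x y a b l) : ℤ) : ℂ) := by
    intro χ
    rw [← el_val h k χ, ← el_val h l χ]
    simp
  simp_rw [h2] at h1
  rw [← Int.cast_sum] at h1
  by_cases hkl : k = l
  · subst hkl
    rw [if_pos rfl]
    have hci : classIndicator (el x y a b k) (el x y a b k) = 1 := by
      unfold classIndicator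
      rw [if_pos (IsConj.refl _)]
    rw [hci, one_mul] at h1
    have h3 := el_cent h k
    have h4 : ((Nat.card ↥(Subgroup.centralizer ({el x y a b k} : Set G)) : ℕ) : ℂ) =
        ((Gm k : ℤ) : ℂ) := by
      rw [← h3]; push_cast; rfl
    rw [h4] at h1
    exact_mod_cast h1
  · rw [if_neg hkl]
    have hci : classIndicator (el x y a b l) (el x y a b k) = 0 := by
      unfold classIndicator
      rw [if_neg (el_not_conj h k l hkl)]
    rw [hci, zero_mul] at h1
    exact_mod_cast h1

/-- orthogonality to the degrees -/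
theorem el_forth [Fintype G] [Fintype (IrrCharacter G)] (h : Data T x y a b) (k : Fin 5) :
    ∑ χ : IrrCharacter G, ival χ 1 * ival χ (el x y a b k) = 0 := by
  classical
  have h1 := sum_irr_mul_conj (el x y a b k) (1 : G)
  have h2 : ∀ χ : IrrCharacter G,
      (χ : G → ℂ) (el x y a b k) * conj ((χ : G → ℂ) 1) =
        ((ival χ 1 * ival χ (el x y a b k) : ℤ) : ℂ) := by
    intro χ
    rw [← el_val h k χ, ← ival_one_val χ]
    simp [mul_comm]
  simp_rw [h2] at h1
  rw [← Int.cast_sum] at h1
  have hci : classIndicator (1 : G) (el x y a b k) = 0 := by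
    unfold classIndicator
    have : ¬ IsConj (el x y a b k) 1 := by
      intro hc
      exact el_ne_one h k (isConj_one_left.mp hc)
    rw [if_neg this]
  rw [hci, zero_mul] at h1
  exact_mod_cast h1

end

end Cfsg.Agent.Lib.Helper8.S3805
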