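/-
helper8: S3805 bridge, part O: the congruences modulo 3 and 2 and the structure
`Cols (IrrCharacter G)`.
-/
import Mathlib
import Cfsg.Agent.Lib.Helper8.S3805N

set_option autoImplicit false

namespace Cfsg.Agent.Lib.Helper8.S3805

open Cfsg Cfsg.Agent.CharLib Cfsg.Agent.Lib.Helper24 Cfsg.Agent.Lib.Helper13.S3805Loc
open Cfsg.Agent.Lib.Helper6
open scoped ComplexConjugate

universe u

variable {G : Type u} [Group G]

/-- two `3`-elements with integer character values have congruent values modulo 3 -/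
theorem three_dvd_ival_sub [Finite G] (χ : IrrCharacter G) (g g' : G) (hg : g ^ 3 = 1)
    (hg' : g' ^ 3 = 1) (n n' : ℤ) (hn : (n : ℂ) = (χ : G → ℂ) g) (hn' : (n' : ℂ) = (χ : G → ℂ) g') :
    (3 : ℤ) ∣ n - n' := by
  haveI : Fact (Nat.Prime 3) := ⟨by norm_num⟩
  obtain ⟨M, hM⟩ := exists_isPModular 3
  haveI : M.IsPrime := isPrime_of_isPModular hM
  have hχ := IsIrrCharacter.isCharacter χ.2
  have h1 := memLocalIdeal_char_sub_of_pow_eq_one hM hχ g 1 (by rw [pow_one]; exact hg)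
  have h2 := memLocalIdeal_char_sub_of_pow_eq_one hM hχ g' 1 (by rw [pow_one]; exact hg')
  have h3 := memLocalIdeal_sub h1 h2
  have h4 : (χ : G → ℂ) g - (χ : G → ℂ) 1 - ((χ : G → ℂ) g' - (χ : G → ℂ) 1) =
      ((n - n' : ℤ) : ℂ) := by
    rw [← hn, ← hn']; push_cast; ring
  rw [h4] at h3
  exact_mod_cast int_dvd_of_memLocalIdeal hM h3

/-- an element `g` of order dividing 6 and `g ^ 4` have congruent character values modulo 2 -/
theorem two_dvd_ival_sub [Finite G] (χ : IrrCharacter G) (g : G) (hg : g ^ 6 = 1)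
    (n n' : ℤ) (hn : (n : ℂ) = (χ : G → ℂ) (g ^ 4)) (hn' : (n' : ℂ) = (χ : G → ℂ) g) :
    (2 : ℤ) ∣ n - n' := by
  haveI : Fact (Nat.Prime 2) := ⟨by norm_num⟩
  obtain ⟨M, hM⟩ := exists_isPModular 2
  haveI : M.IsPrime := isPrime_of_isPModular hM
  have hχ := IsIrrCharacter.isCharacter χ.2
  have h1 := memLocalIdeal_char_sub_char_pow hM hχ g 4 3 1
    (by
      have : g ^ (4 + 3) = g ^ 6 * g := by rw [← pow_succ]
      rw [this, hg, one_mul])
    (by rw [← pow_mul]; exact hg)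
  have h4 : (χ : G → ℂ) g - (χ : G → ℂ) (g ^ 4) = -((n - n' : ℤ) : ℂ) := by
    rw [← hn, ← hn']; push_cast; ring
  rw [h4] at h1
  have h5 := memLocalIdeal_neg h1
  rw [neg_neg] at h5
  exact_mod_cast int_dvd_of_memLocalIdeal hM h5

section

variable {T : Subgroup G} {x y a b : G}

theorem xa_pow_four (h : Data T x y a b) : (x * a) ^ 4 = x := by
  have h1 := h.xa_sq
  have h3 := h.x3
  have e : (x * a) ^ 4 = ((x * a) * (x * a)) * ((x * a) * (x * a)) := by
    rw [show (4 : ℕ) = 2 + 2 from rfl, pow_add, pow_two]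
  rw [e, h1]
  have h4 : x * x * x = 1 := by rw [← h3, pow_succ, pow_two]
  calc x⁻¹ * x⁻¹ = x⁻¹ * x⁻¹ * (x * x * x) := by rw [h4, mul_one]
    _ = x := by group

theorem by_pow_four (h : Data T x y a b) : (b * y) ^ 4 = y := by
  rw [h.by'']; exact xa_pow_four h.symm

theorem xa_pow_six [Finite G] (h : Data T x y a b) : (x * a) ^ 6 = 1 := by
  rw [← h.orderOf_xa]; exact pow_orderOf_eq_one _

theorem by_pow_six [Finite G] (h : Data T x y a b) : (b * y) ^ 6 = 1 := by
  rw [← h.orderOf_by]; exact pow_orderOf_eq_one _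

/-- the column data -/
theorem exists_cols [Fintype G] [Fintype (IrrCharacter G)] (h : Data T x y a b) :
    ∃ D : Cols (IrrCharacter G),
      (∀ χ : IrrCharacter G, ((D.c 0 χ : ℤ) : ℂ) = (χ : G → ℂ) x) ∧
      (∀ χ : IrrCharacter G, ((D.c 1 χ : ℤ) : ℂ) = (χ : G → ℂ) y) ∧
      (∀ χ : IrrCharacter G, ((D.c 2 χ : ℤ) : ℂ) = (χ : G → ℂ) (x * y)) ∧
      (∀ χ : IrrCharacter G, ((D.f χ : ℤ) : ℂ) = (χ : G → ℂ) 1) := by
  have hx3 : x ^ 3 = 1 := h.x3
  have hy3 : y ^ 3 = 1 := h.y3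
  have hxy3 : (x * y) ^ 3 = 1 := h.hyp.cube _ h.xy_mem
  have v0 : ∀ χ : IrrCharacter G, ((ival χ (el x y a b 0) : ℤ) : ℂ) = (χ : G → ℂ) x :=
    fun χ => el_val h 0 χ
  have v1 : ∀ χ : IrrCharacter G, ((ival χ (el x y a b 1) : ℤ) : ℂ) = (χ : G → ℂ) y :=
    fun χ => el_val h 1 χ
  have v2 : ∀ χ : IrrCharacter G, ((ival χ (el x y a b 2) : ℤ) : ℂ) = (χ : G → ℂ) (x * y) :=
    fun χ => el_val h 2 χ
  have v3 : ∀ χ : IrrCharacter G, ((ival χ (el x y a b 3) : ℤ) : ℂ) = (χ : G → ℂ) (x * a) :=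
    fun χ => el_val h 3 χ
  have v4 : ∀ χ : IrrCharacter G, ((ival χ (el x y a b 4) : ℤ) : ℂ) = (χ : G → ℂ) (b * y) :=
    fun χ => el_val h 4 χ
  refine ⟨{ c := fun k χ => ival χ (el x y a b k)
            f := fun χ => ival χ 1
            f_pos := ?_
            gram := el_gram h
            forth := el_forth h
            c3x := ?_
            c3y := ?_
            c2x := ?_
            c2y := ?_
            i0 := trivIrr G
            c_i0 := ?_
            f_i0 := ?_ }, v0, v1, v2, fun χ => ival_one_val χ⟩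
  · intro χ
    rw [ival_one]
    exact_mod_cast irr_charDegree_pos χ
  · intro χ
    exact three_dvd_ival_sub χ x (x * y) hx3 hxy3 _ _ (v0 χ) (v2 χ)
  · intro χ
    exact three_dvd_ival_sub χ y (x * y) hy3 hxy3 _ _ (v1 χ) (v2 χ)
  · intro χ
    refine two_dvd_ival_sub χ (x * a) (xa_pow_six h) _ _ ?_ (v3 χ)
    rw [xa_pow_four h]; exact v0 χ
  · intro χ
    refine two_dvd_ival_sub χ (b * y) (by_pow_six h) _ _ ?_ (v4 χ)
    rw [by_pow_four h]; exact v1 χ
  · intro k
    have h1 := el_val h k (trivIrr G)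
    have h2 : ((trivIrr G : IrrCharacter G) : G → ℂ) (el x y a b k) = 1 := rfl
    rw [h2] at h1
    exact_mod_cast h1
  · have h1 := ival_one_val (trivIrr G)
    have h2 : ((trivIrr G : IrrCharacter G) : G → ℂ) 1 = 1 := rfl
    rw [h2] at h1
    exact_mod_cast h1

end

end Cfsg.Agent.Lib.Helper8.S3805
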