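/-
helper8: S3805 bridge, part P: the class-multiplication equations for the integer columns.
-/
import Mathlib
import Cfsg.Agent.Lib.Helper8.S3805O
import Cfsg.Agent.Lib.Helper24.Ord4320Cnt

set_option autoImplicit false

namespace Cfsg.Agent.Lib.Helper8.S3805

open Cfsg Cfsg.Agent.CharLib Cfsg.Agent.Lib.Helper24 Cfsg.Agent.Lib.Helper13.S3805Loc
open scoped ComplexConjugate

universe u

variable {G : Type u} [Group G]

/-- the class-multiplication formula in terms of integer columns -/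
theorem eq_of_count [Fintype G] [Fintype (IrrCharacter G)] (cu cv cw f : IrrCharacter G → ℤ)
    (u v w : G)
    (hu : ∀ χ : IrrCharacter G, ((cu χ : ℤ) : ℂ) = (χ : G → ℂ) u)
    (hv : ∀ χ : IrrCharacter G, ((cv χ : ℤ) : ℂ) = (χ : G → ℂ) v)
    (hw : ∀ χ : IrrCharacter G, ((cw χ : ℤ) : ℂ) = (χ : G → ℂ) w)
    (hf : ∀ χ : IrrCharacter G, ((f χ : ℤ) : ℂ) = (χ : G → ℂ) 1)
    (hreal : IsConj w w⁻¹) (n nu nv : ℕ)
    (hcount : Nat.card {s : G // IsConj u s ∧ IsConj v (s⁻¹ * w)} = n)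
    (hnu : Nat.card ↥(Subgroup.centralizer ({u} : Set G)) = nu)
    (hnv : Nat.card ↥(Subgroup.centralizer ({v} : Set G)) = nv) :
    (Fintype.card G : ℚ) * ∑ χ : IrrCharacter G,
      ((cu χ : ℚ) * (cv χ : ℚ) * (cw χ : ℚ)) / (f χ : ℚ) = (n : ℚ) * ((nu : ℚ) * (nv : ℚ)) := by
  have h1 := Ord4320.class_mul_count u v w
  rw [Ord4320.card_pairs_conj, hcount, hnu, hnv] at h1
  have h2 : ∀ χ : IrrCharacter G,
      (χ : G → ℂ) u * (χ : G → ℂ) v * (χ : G → ℂ) w⁻¹ / (χ : G → ℂ) 1 =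
        (((cu χ : ℚ) * (cv χ : ℚ) * (cw χ : ℚ)) / (f χ : ℚ) : ℚ) := by
    intro χ
    have hinv : (χ : G → ℂ) w⁻¹ = (χ : G → ℂ) w :=
      (IsClassFunction.of_isConj
        (IsCharacter.isClassFunction (IsIrrCharacter.isCharacter χ.2)) hreal).symm
    rw [hinv, ← hu χ, ← hv χ, ← hw χ, ← hf χ]
    push_cast
    rfl
  simp_rw [h2] at h1
  rw [← Rat.cast_sum] at h1
  have h3 : (((n * (nu * nv) : ℕ) : ℚ) : ℂ) =
      (((Fintype.card G : ℚ) * ∑ χ : IrrCharacter G,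
        ((cu χ : ℚ) * (cv χ : ℚ) * (cw χ : ℚ)) / (f χ : ℚ) : ℚ) : ℂ) := by
    push_cast
    push_cast at h1
    exact h1
  have h4 := Rat.cast_injective (α := ℂ) h3
  rw [← h4]
  push_cast
  ring

section

variable {T : Subgroup G} {x y a b : G}

/-- the bridge: the column data together with the five class-multiplication equations -/
theorem bridge [Fintype G] [Fintype (IrrCharacter G)] (h : Data T x y a b) :
    ∃ D : Cols (IrrCharacter G),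
      (∑ χ, ((D.c 0 χ : ℚ) ^ 2 * (D.c 1 χ : ℚ)) / (D.f χ : ℚ) = 0) ∧
      (∑ χ, ((D.c 0 χ : ℚ) ^ 2 * (D.c 2 χ : ℚ)) / (D.f χ : ℚ) = 0) ∧
      (∑ χ, ((D.c 1 χ : ℚ) ^ 2 * (D.c 0 χ : ℚ)) / (D.f χ : ℚ) = 0) ∧
      (∑ χ, ((D.c 1 χ : ℚ) ^ 2 * (D.c 2 χ : ℚ)) / (D.f χ : ℚ) = 0) ∧
      ((Fintype.card G : ℚ) *
        ∑ χ, ((D.c 0 χ : ℚ) * (D.c 1 χ : ℚ) * (D.c 2 χ : ℚ)) / (D.f χ : ℚ) = 324) := by
  obtain ⟨D, v0, v1, v2, vf⟩ := exists_cols h
  have hG : (Fintype.card G : ℚ) ≠ 0 := by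
    have : 0 < Fintype.card G := Fintype.card_pos
    exact_mod_cast this.ne'
  have e3 := eq_of_count (D.c 0) (D.c 0) (D.c 1) D.f x x y v0 v0 v1 vf h.conj_y_inv 0 18 18
    h.count_xx_y h.card_centralizer_x h.card_centralizer_x
  have e5 := eq_of_count (D.c 0) (D.c 0) (D.c 2) D.f x x (x * y) v0 v0 v2 vf h.conj_xy_inv 0 18 18
    h.count_xx_xy h.card_centralizer_x h.card_centralizer_x
  have e4 := eq_of_count (D.c 1) (D.c 1) (D.c 0) D.f y y x v1 v1 v0 vf h.conj_x_inv 0 18 18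
    h.count_yy_x h.card_centralizer_y h.card_centralizer_y
  have e6 := eq_of_count (D.c 1) (D.c 1) (D.c 2) D.f y y (x * y) v1 v1 v2 vf h.conj_xy_inv 0 18 18
    h.count_yy_xy h.card_centralizer_y h.card_centralizer_y
  have e1 := eq_of_count (D.c 0) (D.c 1) (D.c 2) D.f x y (x * y) v0 v1 v2 vf h.conj_xy_inv 1 18 18
    h.count_xy_xy h.card_centralizer_x h.card_centralizer_y
  refine ⟨D, ?_, ?_, ?_, ?_, ?_⟩
  · have : (Fintype.card G : ℚ) * ∑ χ, ((D.c 0 χ : ℚ) ^ 2 * (D.c 1 χ : ℚ)) / (D.f χ : ℚ) = 0 := by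
      simp_rw [pow_two]
      rw [e3]; norm_num
    exact (mul_eq_zero.mp this).resolve_left hG
  · have : (Fintype.card G : ℚ) * ∑ χ, ((D.c 0 χ : ℚ) ^ 2 * (D.c 2 χ : ℚ)) / (D.f χ : ℚ) = 0 := by
      simp_rw [pow_two]
      rw [e5]; norm_num
    exact (mul_eq_zero.mp this).resolve_left hG
  · have : (Fintype.card G : ℚ) * ∑ χ, ((D.c 1 χ : ℚ) ^ 2 * (D.c 0 χ : ℚ)) / (D.f χ : ℚ) = 0 := by
      simp_rw [pow_two]
      rw [e4]; norm_num
    exact (mul_eq_zero.mp this).resolve_left hG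
  · have : (Fintype.card G : ℚ) * ∑ χ, ((D.c 1 χ : ℚ) ^ 2 * (D.c 2 χ : ℚ)) / (D.f χ : ℚ) = 0 := by
      simp_rw [pow_two]
      rw [e6]; norm_num
    exact (mul_eq_zero.mp this).resolve_left hG
  · rw [e1]; norm_num

end

end Cfsg.Agent.Lib.Helper8.S3805
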