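/-
helper8: S3341 bridge, part G: the case `|N : T| = 2`: from the local data `D2 T x y t` (facts by
helper13, leaf L2) to the column data `Cols2 (IrrCharacter G)` and `|G| = 18`.
-/
import Mathlib
import Cfsg.Agent.Lib.Helper8.S3805P
import Cfsg.Agent.Lib.Helper8.S3341F
import Cfsg.Agent.Lib.Helper13.S3341L2

set_option autoImplicit false

namespace Cfsg.Agent.Lib.Helper8.S3341

open Cfsg Cfsg.Agent.CharLib Cfsg.Agent.Lib.Helper24 Cfsg.Agent.Lib.Helper8.S3805
open Cfsg.Agent.Lib.Helper13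
open scoped ComplexConjugate

universe u

variable {G : Type u} [Group G]

/-- the four column representatives in the case `e = 2` -/
def el2 (x y : G) : Fin 4 → G := ![x, y, x * y, x * y⁻¹]

section

variable {T : Subgroup G} {x y t : G}

theorem el2_mem (h : D2 T x y t) (k : Fin 4) : el2 x y k ∈ T := by
  fin_cases k
  · exact h.xT
  · exact h.yT
  · exact T.mul_mem h.xT h.yT
  · exact T.mul_mem h.xT (T.inv_mem h.yT)

theorem el2_order [Finite G] (h : D2 T x y t) (k : Fin 4) : orderOf (el2 x y k) = 3 := by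
  fin_cases k
  · exact S3341Leaf.D2.orderOf_x h
  · exact S3341Leaf.D2.orderOf_y h
  · exact S3341Leaf.D2.orderOf_xy h
  · exact S3341Leaf.D2.orderOf_xy_inv h

theorem el2_ne_one [Finite G] (h : D2 T x y t) (k : Fin 4) : el2 x y k ≠ 1 := by
  intro h1
  have := el2_order h k
  rw [h1, orderOf_one] at this
  omega

theorem el2_cube [Finite G] (h : D2 T x y t) (k : Fin 4) : el2 x y k ^ 3 = 1 := by
  rw [← el2_order h k]; exact pow_orderOf_eq_one _

theorem el2_real [Finite G] (h : D2 T x y t) (k : Fin 4) :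
    IsConj (el2 x y k) (el2 x y k)⁻¹ :=
  S3341Leaf.D2.conj_inv h _ (el2_mem h k)

theorem el2_cent [Finite G] (h : D2 T x y t) (k : Fin 4) :
    Nat.card ↥(Subgroup.centralizer ({el2 x y k} : Set G)) = 9 :=
  S3341Leaf.D2.card_centralizer h _ (el2_mem h k) (el2_ne_one h k)

theorem el2_not_conj [Finite G] (h : D2 T x y t) (k l : Fin 4) (hkl : k ≠ l) :
    ¬ IsConj (el2 x y k) (el2 x y l) := by
  have n01 : ¬ IsConj (el2 x y 0) (el2 x y 1) := S3341Leaf.D2.not_conj_x_y h
  have n02 : ¬ IsConj (el2 x y 0) (el2 x y 2) := S3341Leaf.D2.not_conj_x_xy h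
  have n03 : ¬ IsConj (el2 x y 0) (el2 x y 3) := S3341Leaf.D2.not_conj_x_xy_inv h
  have n12 : ¬ IsConj (el2 x y 1) (el2 x y 2) := S3341Leaf.D2.not_conj_y_xy h
  have n13 : ¬ IsConj (el2 x y 1) (el2 x y 3) := S3341Leaf.D2.not_conj_y_xy_inv h
  have n23 : ¬ IsConj (el2 x y 2) (el2 x y 3) := S3341Leaf.D2.not_conj_xy_xy_inv h
  fin_cases k <;> fin_cases l
  · exact absurd rfl hkl
  · exact n01
  · exact n02
  · exact n03
  · exact fun hc => n01 hc.symm
  · exact absurd rfl hkl
  · exact n12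
  · exact n13
  · exact fun hc => n02 hc.symm
  · exact fun hc => n12 hc.symm
  · exact absurd rfl hkl
  · exact n23
  · exact fun hc => n03 hc.symm
  · exact fun hc => n13 hc.symm
  · exact fun hc => n23 hc.symm
  · exact absurd rfl hkl

theorem el2_val [Finite G] (h : D2 T x y t) (k : Fin 4) (χ : IrrCharacter G) :
    ((ival χ (el2 x y k) : ℤ) : ℂ) = (χ : G → ℂ) (el2 x y k) :=
  ival_spec χ _ (irr_int_of_real36 χ _ (Or.inl (el2_order h k)) (el2_real h k))

/-- Gram relations of the four columns -/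
theorem el2_gram [Fintype G] [Fintype (IrrCharacter G)] (h : D2 T x y t) (k l : Fin 4) :
    ∑ χ : IrrCharacter G, ival χ (el2 x y k) * ival χ (el2 x y l) =
      if k = l then 9 else 0 := by
  classical
  have h1 := sum_irr_mul_conj (el2 x y k) (el2 x y l)
  have h2 : ∀ χ : IrrCharacter G,
      (χ : G → ℂ) (el2 x y k) * conj ((χ : G → ℂ) (el2 x y l)) =
        ((ival χ (el2 x y k) * ival χ (el2 x y l) : ℤ) : ℂ) := by
    intro χ
    rw [← el2_val h k χ, ← el2_val h l χ]
    simp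
  simp_rw [h2] at h1
  rw [← Int.cast_sum] at h1
  by_cases hkl : k = l
  · subst hkl
    rw [if_pos rfl]
    have hci : classIndicator (el2 x y k) (el2 x y k) = 1 := by
      unfold classIndicator
      rw [if_pos (IsConj.refl _)]
    rw [hci, one_mul, el2_cent h k] at h1
    exact_mod_cast h1
  · rw [if_neg hkl]
    have hci : classIndicator (el2 x y l) (el2 x y k) = 0 := by
      unfold classIndicator
      rw [if_neg (el2_not_conj h k l hkl)]
    rw [hci, zero_mul] at h1
    exact_mod_cast h1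

/-- orthogonality to the degrees -/
theorem el2_forth [Fintype G] [Fintype (IrrCharacter G)] (h : D2 T x y t) (k : Fin 4) :
    ∑ χ : IrrCharacter G, ival χ 1 * ival χ (el2 x y k) = 0 := by
  classical
  have h1 := sum_irr_mul_conj (el2 x y k) (1 : G)
  have h2 : ∀ χ : IrrCharacter G,
      (χ : G → ℂ) (el2 x y k) * conj ((χ : G → ℂ) 1) =
        ((ival χ 1 * ival χ (el2 x y k) : ℤ) : ℂ) := by
    intro χ
    rw [← el2_val h k χ, ← ival_one_val χ]
    simp [mul_comm]
  simp_rw [h2] at h1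
  rw [← Int.cast_sum] at h1
  have hci : classIndicator (1 : G) (el2 x y k) = 0 := by
    unfold classIndicator
    have : ¬ IsConj (el2 x y k) 1 := by
      intro hc
      exact el2_ne_one h k (isConj_one_left.mp hc)
    rw [if_neg this]
  rw [hci, zero_mul] at h1
  exact_mod_cast h1

/-- the column data in the case `e = 2` -/
theorem exists_cols2 [Fintype G] [Fintype (IrrCharacter G)] (h : D2 T x y t) :
    ∃ D : Cols2 (IrrCharacter G),
      (∀ χ : IrrCharacter G, ((D.c 0 χ : ℤ) : ℂ) = (χ : G → ℂ) x) ∧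
      (∀ χ : IrrCharacter G, ((D.c 1 χ : ℤ) : ℂ) = (χ : G → ℂ) y) ∧
      (∀ χ : IrrCharacter G, ((D.c 2 χ : ℤ) : ℂ) = (χ : G → ℂ) (x * y)) ∧
      (∀ χ : IrrCharacter G, ((D.f χ : ℤ) : ℂ) = (χ : G → ℂ) 1) := by
  have v0 : ∀ χ : IrrCharacter G, ((ival χ (el2 x y 0) : ℤ) : ℂ) = (χ : G → ℂ) x :=
    fun χ => el2_val h 0 χ
  have v1 : ∀ χ : IrrCharacter G, ((ival χ (el2 x y 1) : ℤ) : ℂ) = (χ : G → ℂ) y :=
    fun χ => el2_val h 1 χ
  have v2 : ∀ χ : IrrCharacter G, ((ival χ (el2 x y 2) : ℤ) : ℂ) = (χ : G → ℂ) (x * y) :=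
    fun χ => el2_val h 2 χ
  refine ⟨{ c := fun k χ => ival χ (el2 x y k)
            f := fun χ => ival χ 1
            f_pos := ?_
            gram := el2_gram h
            forth := el2_forth h
            c3 := ?_
            i0 := trivIrr G
            c_i0 := ?_
            f_i0 := ?_ }, v0, v1, v2, fun χ => ival_one_val χ⟩
  · intro χ
    rw [ival_one]
    exact_mod_cast irr_charDegree_pos χ
  · intro a b χ
    exact three_dvd_ival_sub χ (el2 x y a) (el2 x y b) (el2_cube h a) (el2_cube h b) _ _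
      (el2_val h a χ) (el2_val h b χ)
  · intro k
    have h1 := el2_val h k (trivIrr G)
    have h2 : ((trivIrr G : IrrCharacter G) : G → ℂ) (el2 x y k) = 1 := rfl
    rw [h2] at h1
    exact_mod_cast h1
  · have h1 := ival_one_val (trivIrr G)
    have h2 : ((trivIrr G : IrrCharacter G) : G → ℂ) 1 = 1 := rfl
    rw [h2] at h1
    exact_mod_cast h1

/-- **the case `e = 2`**: `|G| = 18` -/
theorem card_eq_18_of_D2 [Finite G] (h : D2 T x y t) : Nat.card G = 18 := by
  classical
  haveI : Fintype G := Fintype.ofFinite G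
  haveI : Fintype (IrrCharacter G) := fintypeIrr G
  obtain ⟨D, v0, v1, v2, vf⟩ := exists_cols2 h
  have hG : (Fintype.card G : ℚ) ≠ 0 := by
    have : 0 < Fintype.card G := Fintype.card_pos
    exact_mod_cast this.ne'
  have e1 := eq_of_count (D.c 0) (D.c 0) (D.c 1) D.f x x y v0 v0 v1 vf
    (S3341Leaf.D2.conj_inv h y h.yT) 0 9 9
    (S3341Leaf.D2.count_xx_y h) (S3341Leaf.D2.card_centralizer h x h.xT h.x1)
    (S3341Leaf.D2.card_centralizer h x h.xT h.x1)
  have e2 := eq_of_count (D.c 0) (D.c 1) (D.c 2) D.f x y (x * y) v0 v1 v2 vf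
    (S3341Leaf.D2.conj_inv h (x * y) (T.mul_mem h.xT h.yT)) 1 9 9
    (S3341Leaf.D2.count_xy_xy h) (S3341Leaf.D2.card_centralizer h x h.xT h.x1)
    (S3341Leaf.D2.card_centralizer h y h.yT h.y1)
  have E112 : ∑ χ, ((D.c 0 χ : ℚ) ^ 2 * (D.c 1 χ : ℚ)) / (D.f χ : ℚ) = 0 := by
    have : (Fintype.card G : ℚ) * ∑ χ, ((D.c 0 χ : ℚ) ^ 2 * (D.c 1 χ : ℚ)) / (D.f χ : ℚ) = 0 := by
      simp_rw [pow_two]
      rw [e1]; norm_num
    exact (mul_eq_zero.mp this).resolve_left hG
  have E123 : ((Fintype.card G : ℕ) : ℚ) *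
      ∑ χ, ((D.c 0 χ : ℚ) * (D.c 1 χ : ℚ) * (D.c 2 χ : ℚ)) / (D.f χ : ℚ) = 81 := by
    rw [e2]; norm_num
  have := D.core (Fintype.card G) E112 E123
  rw [Nat.card_eq_fintype_card]
  exact this

end

end Cfsg.Agent.Lib.Helper8.S3341
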