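/-
helper8: S3341 bridge, part H: the case `|N : T| = 4`: from the local data `D4 T x y n` (facts by
helper13, leaf L3) to the column data `Cols4 (IrrCharacter G)` and `|G| ∈ {36, 360}`.
-/
import Mathlib
import Cfsg.Agent.Lib.Helper8.S3805P
import Cfsg.Agent.Lib.Helper8.S3341C
import Cfsg.Agent.Lib.Helper13.S3341L3
import Cfsg.Agent.Lib.Helper24.PerfectLemmas

set_option autoImplicit false

namespace Cfsg.Agent.Lib.Helper8.S3341

open Cfsg Cfsg.Agent.CharLib Cfsg.Agent.Lib.Helper24 Cfsg.Agent.Lib.Helper8.S3805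
open Cfsg.Agent.Lib.Helper13
open scoped ComplexConjugate

universe u

variable {G : Type u} [Group G]

/-- the two column representatives in the case `e = 4` -/
def el4 (x y : G) : Fin 2 → G := ![x, x * y]

section

variable {T : Subgroup G} {x y n : G}

theorem el4_mem (h : D4 T x y n) (k : Fin 2) : el4 x y k ∈ T := by
  fin_cases k
  · exact h.xT
  · exact T.mul_mem h.xT h.yT

theorem el4_order [Finite G] (h : D4 T x y n) (k : Fin 2) : orderOf (el4 x y k) = 3 := by
  fin_cases k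
  · exact S3341Leaf.D4.orderOf_x h
  · exact S3341Leaf.D4.orderOf_xy h

theorem el4_ne_one [Finite G] (h : D4 T x y n) (k : Fin 2) : el4 x y k ≠ 1 := by
  intro h1
  have := el4_order h k
  rw [h1, orderOf_one] at this
  omega

theorem el4_cube [Finite G] (h : D4 T x y n) (k : Fin 2) : el4 x y k ^ 3 = 1 := by
  rw [← el4_order h k]; exact pow_orderOf_eq_one _

theorem el4_real [Finite G] (h : D4 T x y n) (k : Fin 2) :
    IsConj (el4 x y k) (el4 x y k)⁻¹ :=
  S3341Leaf.D4.conj_inv h _ (el4_mem h k)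

theorem el4_cent [Finite G] (h : D4 T x y n) (k : Fin 2) :
    Nat.card ↥(Subgroup.centralizer ({el4 x y k} : Set G)) = 9 :=
  S3341Leaf.D4.card_centralizer h _ (el4_mem h k) (el4_ne_one h k)

theorem el4_not_conj [Finite G] (h : D4 T x y n) (k l : Fin 2) (hkl : k ≠ l) :
    ¬ IsConj (el4 x y k) (el4 x y l) := by
  have n01 : ¬ IsConj (el4 x y 0) (el4 x y 1) := S3341Leaf.D4.not_conj_x_xy h
  fin_cases k <;> fin_cases l
  · exact absurd rfl hkl
  · exact n01
  · exact fun hc => n01 hc.symm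
  · exact absurd rfl hkl

theorem el4_val [Finite G] (h : D4 T x y n) (k : Fin 2) (χ : IrrCharacter G) :
    ((ival χ (el4 x y k) : ℤ) : ℂ) = (χ : G → ℂ) (el4 x y k) :=
  ival_spec χ _ (irr_int_of_real36 χ _ (Or.inl (el4_order h k)) (el4_real h k))

/-- Gram relations of the two columns -/
theorem el4_gram [Fintype G] [Fintype (IrrCharacter G)] (h : D4 T x y n) (k l : Fin 2) :
    ∑ χ : IrrCharacter G, ival χ (el4 x y k) * ival χ (el4 x y l) =
      if k = l then 9 else 0 := by
  classical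
  have h1 := sum_irr_mul_conj (el4 x y k) (el4 x y l)
  have h2 : ∀ χ : IrrCharacter G,
      (χ : G → ℂ) (el4 x y k) * conj ((χ : G → ℂ) (el4 x y l)) =
        ((ival χ (el4 x y k) * ival χ (el4 x y l) : ℤ) : ℂ) := by
    intro χ
    rw [← el4_val h k χ, ← el4_val h l χ]
    simp
  simp_rw [h2] at h1
  rw [← Int.cast_sum] at h1
  by_cases hkl : k = l
  · subst hkl
    rw [if_pos rfl]
    have hci : classIndicator (el4 x y k) (el4 x y k) = 1 := by
      unfold classIndicator
      rw [if_pos (IsConj.refl _)]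
    rw [hci, one_mul, el4_cent h k] at h1
    exact_mod_cast h1
  · rw [if_neg hkl]
    have hci : classIndicator (el4 x y l) (el4 x y k) = 0 := by
      unfold classIndicator
      rw [if_neg (el4_not_conj h k l hkl)]
    rw [hci, zero_mul] at h1
    exact_mod_cast h1

/-- orthogonality to the degrees -/
theorem el4_forth [Fintype G] [Fintype (IrrCharacter G)] (h : D4 T x y n) (k : Fin 2) :
    ∑ χ : IrrCharacter G, ival χ 1 * ival χ (el4 x y k) = 0 := by
  classical
  have h1 := sum_irr_mul_conj (el4 x y k) (1 : G)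
  have h2 : ∀ χ : IrrCharacter G,
      (χ : G → ℂ) (el4 x y k) * conj ((χ : G → ℂ) 1) =
        ((ival χ 1 * ival χ (el4 x y k) : ℤ) : ℂ) := by
    intro χ
    rw [← el4_val h k χ, ← ival_one_val χ]
    simp [mul_comm]
  simp_rw [h2] at h1
  rw [← Int.cast_sum] at h1
  have hci : classIndicator (1 : G) (el4 x y k) = 0 := by
    unfold classIndicator
    have : ¬ IsConj (el4 x y k) 1 := by
      intro hc
      exact el4_ne_one h k (isConj_one_left.mp hc)
    rw [if_neg this]
  rw [hci, zero_mul] at h1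
  exact_mod_cast h1

/-- the congruence modulo 9 from the restriction to `T` -/
theorem nine_dvd [Finite G] (h : D4 T x y n) (χ : IrrCharacter G) :
    (9 : ℤ) ∣ ival χ 1 + 4 * ival χ (el4 x y 0) + 4 * ival χ (el4 x y 1) := by
  classical
  haveI : Fintype T := Fintype.ofFinite T
  obtain ⟨m, hm⟩ := irr_sum_subgroup χ T
  have hcf : ∀ g k : G, (χ : G → ℂ) (k * g * k⁻¹) = (χ : G → ℂ) g :=
    IsCharacter.isClassFunction (IsIrrCharacter.isCharacter χ.2)
  rw [S3341Leaf.D4.sum_T h (χ : G → ℂ) hcf, h.hyp.card] at hm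
  have v0 : ((ival χ (el4 x y 0) : ℤ) : ℂ) = (χ : G → ℂ) x := el4_val h 0 χ
  have v1 : ((ival χ (el4 x y 1) : ℤ) : ℂ) = (χ : G → ℂ) (x * y) := el4_val h 1 χ
  rw [← v0, ← v1, ← ival_one_val χ] at hm
  have : ival χ 1 + 4 * ival χ (el4 x y 0) + 4 * ival χ (el4 x y 1) = 9 * (m : ℤ) := by
    have h2 : (((ival χ 1 + 4 * ival χ (el4 x y 0) + 4 * ival χ (el4 x y 1) : ℤ)) : ℂ) =
        ((9 * (m : ℤ) : ℤ) : ℂ) := by
      push_cast
      push_cast at hm
      exact hm
    exact_mod_cast h2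
  rw [this]
  exact dvd_mul_right _ _

/-- the column data in the case `e = 4` -/
theorem exists_cols4 [Fintype G] [Fintype (IrrCharacter G)] (h : D4 T x y n) :
    ∃ D : Cols4 (IrrCharacter G),
      (∀ χ : IrrCharacter G, ((D.a χ : ℤ) : ℂ) = (χ : G → ℂ) x) ∧
      (∀ χ : IrrCharacter G, ((D.b χ : ℤ) : ℂ) = (χ : G → ℂ) (x * y)) ∧
      (∀ χ : IrrCharacter G, ((D.f χ : ℤ) : ℂ) = (χ : G → ℂ) 1) ∧
      (∀ χ : IrrCharacter G, D.f χ = (charDegree (χ : G → ℂ) : ℤ)) := by
  have v0 : ∀ χ : IrrCharacter G, ((ival χ (el4 x y 0) : ℤ) : ℂ) = (χ : G → ℂ) x :=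
    fun χ => el4_val h 0 χ
  have v1 : ∀ χ : IrrCharacter G, ((ival χ (el4 x y 1) : ℤ) : ℂ) = (χ : G → ℂ) (x * y) :=
    fun χ => el4_val h 1 χ
  have g00 := el4_gram h 0 0
  have g11 := el4_gram h 1 1
  have g01 := el4_gram h 0 1
  rw [if_pos rfl] at g00 g11
  rw [if_neg (by decide)] at g01
  refine ⟨{ a := fun χ => ival χ (el4 x y 0)
            b := fun χ => ival χ (el4 x y 1)
            f := fun χ => ival χ 1
            f_pos := ?_
            naa := g00
            nbb := g11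
            nab := g01
            fa := el4_forth h 0
            fb := el4_forth h 1
            c3 := ?_
            c9 := nine_dvd h
            i0 := Cfsg.Agent.CharLib.trivIrr G
            a_i0 := ?_
            b_i0 := ?_
            f_i0 := ?_ }, v0, v1, fun χ => ival_one_val χ, fun χ => ival_one χ⟩
  · intro χ
    rw [ival_one]
    exact_mod_cast irr_charDegree_pos χ
  · intro χ
    exact three_dvd_ival_sub χ (el4 x y 0) (el4 x y 1) (el4_cube h 0) (el4_cube h 1) _ _
      (el4_val h 0 χ) (el4_val h 1 χ)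
  · have h1 := el4_val h 0 (Cfsg.Agent.CharLib.trivIrr G)
    have h2 : ((Cfsg.Agent.CharLib.trivIrr G : IrrCharacter G) : G → ℂ) (el4 x y 0) = 1 := rfl
    rw [h2] at h1
    exact_mod_cast h1
  · have h1 := el4_val h 1 (Cfsg.Agent.CharLib.trivIrr G)
    have h2 : ((Cfsg.Agent.CharLib.trivIrr G : IrrCharacter G) : G → ℂ) (el4 x y 1) = 1 := rfl
    rw [h2] at h1
    exact_mod_cast h1
  · have h1 := ival_one_val (Cfsg.Agent.CharLib.trivIrr G)
    have h2 : ((Cfsg.Agent.CharLib.trivIrr G : IrrCharacter G) : G → ℂ) 1 = 1 := rfl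
    rw [h2] at h1
    exact_mod_cast h1

/-- **the case `e = 4`**: `|G| = 36` or `|G| = 360` -/
theorem card_of_D4 [Finite G] (h : D4 T x y n) : Nat.card G = 36 ∨ Nat.card G = 360 := by
  classical
  haveI : Fintype G := Fintype.ofFinite G
  haveI : Fintype (IrrCharacter G) := fintypeIrr G
  obtain ⟨D, v0, v1, vf, hdeg⟩ := exists_cols4 h
  have e1 := eq_of_count D.a D.a D.b D.f x x (x * y) v0 v0 v1 vf
    (S3341Leaf.D4.conj_inv h (x * y) (T.mul_mem h.xT h.yT)) 2 9 9
    (S3341Leaf.D4.count_xx_xy h) (S3341Leaf.D4.card_centralizer h x h.xT h.x1)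
    (S3341Leaf.D4.card_centralizer h x h.xT h.x1)
  have E : ((Fintype.card G : ℕ) : ℚ) *
      ∑ χ, ((D.a χ : ℚ) ^ 2 * (D.b χ : ℚ)) / (D.f χ : ℚ) = 162 := by
    simp_rw [pow_two]
    rw [e1]; norm_num
  have hsq : ∑ χ, D.f χ * D.f χ ≤ ((Fintype.card G : ℕ) : ℤ) := by
    have h1 := sum_charDegree_sq (G := G)
    have h2 : ∑ χ, D.f χ * D.f χ =
        ((∑ χ : IrrCharacter G, charDegree (χ : G → ℂ) ^ 2 : ℕ) : ℤ) := by
      push_cast
      apply Finset.sum_congr rfl
      intro χ _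
      rw [hdeg χ]; ring
    rw [h2, h1]
  have := D.core (Fintype.card G) hsq E
  rw [Nat.card_eq_fintype_card]
  exact this

end

end Cfsg.Agent.Lib.Helper8.S3341
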