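/-
helper8: S3805 core, part C: quadratic-form certificates on column types.
-/
import Mathlib
import Cfsg.Agent.Lib.Helper8.S3805B

set_option autoImplicit false

namespace Cfsg.Agent.Lib.Helper8.S3805

open Finset

/-- quadratic form with 21 coefficients (pairs `(k,l)`, `k ≤ l`, lexicographic) -/
def qe (w : Fin 21 → ℤ) (a b c d e f : ℤ) : ℤ :=
  w 0 * (a * a) + w 1 * (a * b) + w 2 * (a * c) + w 3 * (a * d) + w 4 * (a * e) + w 5 * (a * f) +
  w 6 * (b * b) + w 7 * (b * c) + w 8 * (b * d) + w 9 * (b * e) + w 10 * (b * f) +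
  w 11 * (c * c) + w 12 * (c * d) + w 13 * (c * e) + w 14 * (c * f) +
  w 15 * (d * d) + w 16 * (d * e) + w 17 * (d * f) +
  w 18 * (e * e) + w 19 * (e * f) + w 20 * (f * f)

/-- the value of the total of `qe w` over all characters -/
def qtot (w : Fin 21 → ℤ) : ℤ :=
  3 * w 0 + w 3 + w 4 - w 5 + 3 * w 6 + w 8 + w 9 - w 10 + 3 * w 11 - w 12 - w 13 + w 14 +
  3 * w 15 + 3 * w 18 + 3 * w 20

variable {ι : Type*} [Fintype ι]

namespace Cols

variable (D : Cols ι)

/-- the quadratic form evaluated at the type of `i` -/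
def qv (w : Fin 21 → ℤ) (i : ι) : ℤ :=
  qe w (D.R 0 i) (D.R 1 i) (D.R 2 i) (D.R 3 i) (D.R 4 i) (D.R 5 i)

theorem sum_qv (w : Fin 21 → ℤ) : ∑ i, D.qv w i = qtot w := by
  unfold qv qe qtot
  simp only [Finset.sum_add_distrib, ← Finset.mul_sum, D.gram_R]
  simp [GR]
  ring

theorem qv_i0 (w : Fin 21 → ℤ) : D.qv w D.i0 = qe w 1 0 0 1 0 0 := by
  unfold qv
  simp [D.R_i0]

/-- certificate principle for our data -/
theorem qv_le [DecidableEq ι] (w : Fin 21 → ℤ) (hnn : ∀ i, 0 ≤ D.qv w i) (j : ι) (hj : j ≠ D.i0) :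
    D.qv w j ≤ qtot w - qe w 1 0 0 1 0 0 := by
  have h := cert_kill (D.qv w) hnn (qtot w) (D.sum_qv w) D.i0 j hj
  rw [D.qv_i0] at h
  linarith

end Cols

end Cfsg.Agent.Lib.Helper8.S3805
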