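/-
helper8: S3805 core, part D: the certificates (generated by scratch_h8/s3805/gen_lean.py) and the
classification of column types.
-/
import Mathlib
import Cfsg.Agent.Lib.Helper8.S3805C

set_option autoImplicit false

namespace Cfsg.Agent.Lib.Helper8.S3805

/-- decode `Fin 3` to `{-1,0,1}` -/
def v (a : Fin 3) : ℤ := (a : ℤ) - 1

theorem exists_v (z : ℤ) (h : -1 ≤ z ∧ z ≤ 1) : ∃ a : Fin 3, v a = z := by
  obtain ⟨h1, h2⟩ := h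
  have h3 : z = -1 ∨ z = 0 ∨ z = 1 := by omega
  rcases h3 with rfl | rfl | rfl
  · exact ⟨0, by simp [v]⟩
  · exact ⟨1, by simp [v]⟩
  · exact ⟨2, by simp [v]⟩

/-- both expressions of `χ(xy)` agree -/
abbrev zc (a b c d e f : ℤ) : Prop := a + b - c = d + e - f

/-- not the degenerate type `±(1,1,-1|1,1,-1)` -/
abbrev notY (a b c d e f : ℤ) : Prop :=
  ¬ (a = 1 ∧ b = 1 ∧ c = -1 ∧ d = 1 ∧ e = 1 ∧ f = -1) ∧
  ¬ (a = -1 ∧ b = -1 ∧ c = 1 ∧ d = -1 ∧ e = -1 ∧ f = 1)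

/-- the Titu conditions -/
abbrev c2 (a b c d e f : ℤ) : Prop :=
  (c ≠ 0 → d + e + 2 * f ≠ 0) ∧ (f ≠ 0 → a + b + 2 * c ≠ 0)

abbrev S2 (a b c d e f : ℤ) : Prop := zc a b c d e f ∧ notY a b c d e f ∧ c2 a b c d e f

def S2b (a b c d e f : ℤ) : Bool := decide (S2 a b c d e f)

theorem S2b_of {a b c d e f : ℤ} (h : S2 a b c d e f) : S2b a b c d e f = true := decide_eq_true h

def wY : Fin 21 → ℤ := ![1, 2, -1, 0, 0, 0, 1, -1, 0, 0, 0, 0, 0, 0, 0, 0, 0, 0, 0, 0, 0]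

def w1_0 : Fin 21 → ℤ := ![3, 1, 0, 4, 0, 3, 0, 0, 0, 4, 0, 0, -2, -4, 1, 0, -8, 3, -2, 3, 0]
def w1_1 : Fin 21 → ℤ := ![-1, -2, 2, 2, 2, 0, -1, 1, 2, 1, 0, 0, -2, 0, 0, -1, -2, 0, 0, 0, 1]
def w1_2 : Fin 21 → ℤ := ![1, 1, 0, -2, -2, 0, 0, 0, -1, -1, 0, 0, 0, 0, 0, 1, 2, 0, 1, 0, 0]
def w1_3 : Fin 21 → ℤ := ![1, 1, -1, -3, 3, 0, 0, -1, -2, 4, 0, 0, 2, -4, 0, 3, 0, 0, -3, 6, 0]
def w1_4 : Fin 21 → ℤ := ![1, 2, 0, 2, -2, 0, 1, 0, 2, -2, 0, -1, -2, 0, 0, -1, -2, 0, 1, 0, 1]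
def w1_5 : Fin 21 → ℤ := ![-1, -2, 2, 2, 2, 0, -1, 2, 2, 2, 0, 1, 0, 2, 0, -1, 0, 0, 1, 0, 1]
def w1_6 : Fin 21 → ℤ := ![2, 2, 0, 0, -2, 2, 0, 2, 2, 0, 0, -1, -3, -2, 0, -2, -2, 1, 0, 0, 1]
def w1_7 : Fin 21 → ℤ := ![0, 0, 1, 1, 0, 0, 0, 1, 1, 0, 0, 0, 0, 0, 1, 0, 0, 1, 0, 0, 0]
def w1_8 : Fin 21 → ℤ := ![1, 2, 0, -2, 0, 0, 1, 0, -2, 0, 0, 0, 0, -1, 0, 1, 0, 0, -1, 1, 0]
def w1_9 : Fin 21 → ℤ := ![0, 0, 1, 1, 1, 0, 0, 0, 1, 0, 0, -1, -2, -1, 1, 0, -3, 3, 0, 0, 1]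
def w1_10 : Fin 21 → ℤ := ![0, 0, 0, 2, 0, 0, 0, 0, 1, 0, 1, 0, -2, 0, 0, -1, -2, 0, 0, 0, 1]
def w1_11 : Fin 21 → ℤ := ![0, 0, 0, 2, 2, 0, 0, -1, -1, -1, 0, 1, 0, 0, 0, 1, 2, 0, 1, 0, 0]
def w1_12 : Fin 21 → ℤ := ![1, 1, 0, 0, 0, 1, 0, 1, 1, 1, 0, 0, 0, 0, 0, 0, 0, 0, 0, 0, 0]
def w1_13 : Fin 21 → ℤ := ![0, 0, 2, 0, 2, 0, 1, 0, 0, 0, 1, -1, -2, -2, 1, 0, -2, 0, -1, 1, 0]
def w1_14 : Fin 21 → ℤ := ![0, -2, 3, 1, 1, 0, 2, -6, -1, -1, 0, 5, 2, 2, 0, 0, 0, 0, 0, 0, 0]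
def w1_15 : Fin 21 → ℤ := ![2, 0, 7, 0, -2, 1, 2, 0, 0, 0, 1, -1, -5, -6, 4, -1, -1, 1, 0, 0, 0]
def w1_16 : Fin 21 → ℤ := ![0, -1, -1, 0, 0, 0, 1, 1, 0, 0, 1, 0, 0, 0, 0, 0, 0, 0, 0, 0, 1]
def w1_17 : Fin 21 → ℤ := ![0, 0, 0, 2, 2, 0, 1, 0, 0, 0, 1, 0, -2, -2, 0, -1, -2, 1, -1, 1, 0]
def w2_0 : Fin 21 → ℤ := ![0, 0, 0, -1, 0, 0, 0, -1, -1, 0, 0, 0, 1, 0, 0, 1, 0, 0, 0, 0, 0]
def w2_1 : Fin 21 → ℤ := ![0, 0, 0, 1, 0, 0, 0, 0, 1, 0, 0, 0, -1, 0, 0, -1, -1, 0, 0, 0, 0]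
def w2_2 : Fin 21 → ℤ := ![0, 0, 0, -1, 0, 0, 0, -1, -1, 0, 0, 0, 1, 0, 0, 1, 1, 0, 0, 0, 0]
def w2_3 : Fin 21 → ℤ := ![0, 0, -1, 0, 0, 0, 0, 0, 0, 0, 0, 0, 0, 0, 0, 0, 0, 0, 0, 0, 0]
def w2_4 : Fin 21 → ℤ := ![1, 1, 0, -1, 0, 1, 0, 0, 0, 1, 0, 0, 0, -1, 0, 0, -1, 0, -1, 0, 0]
def w2_5 : Fin 21 → ℤ := ![0, -1, 1, 0, 1, 0, 0, 0, 0, 1, 0, 0, 0, -1, 0, 0, -1, 0, -1, 0, 0]

/-- round one of kills -/
def K1b (a b c d e f : ℤ) : Bool :=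
  decide (qe w1_0 a b c d e f ≤ 8) &&
  decide (qe w1_1 a b c d e f ≤ 3) &&
  decide (qe w1_2 a b c d e f ≤ 3) &&
  decide (qe w1_3 a b c d e f ≤ 6) &&
  decide (qe w1_4 a b c d e f ≤ 6) &&
  decide (qe w1_5 a b c d e f ≤ 6) &&
  decide (qe w1_6 a b c d e f ≤ 3) &&
  decide (qe w1_7 a b c d e f ≤ 2) &&
  decide (qe w1_8 a b c d e f ≤ 3) &&
  decide (qe w1_9 a b c d e f ≤ 6) &&
  decide (qe w1_10 a b c d e f ≤ 3) &&
  decide (qe w1_11 a b c d e f ≤ 8) &&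
  decide (qe w1_12 a b c d e f ≤ 3) &&
  decide (qe w1_13 a b c d e f ≤ 3) &&
  decide (qe w1_14 a b c d e f ≤ 16) &&
  decide (qe w1_15 a b c d e f ≤ 16) &&
  decide (qe w1_16 a b c d e f ≤ 5) &&
  decide (qe w1_17 a b c d e f ≤ 3)

theorem K1b_of {a b c d e f : ℤ} (h0 : qe w1_0 a b c d e f ≤ 8) (h1 : qe w1_1 a b c d e f ≤ 3) (h2 : qe w1_2 a b c d e f ≤ 3) (h3 : qe w1_3 a b c d e f ≤ 6) (h4 : qe w1_4 a b c d e f ≤ 6) (h5 : qe w1_5 a b c d e f ≤ 6) (h6 : qe w1_6 a b c d e f ≤ 3) (h7 : qe w1_7 a b c d e f ≤ 2) (h8 : qe w1_8 a b c d e f ≤ 3) (h9 : qe w1_9 a b c d e f ≤ 6) (h10 : qe w1_10 a b c d e f ≤ 3) (h11 : qe w1_11 a b c d e f ≤ 8) (h12 : qe w1_12 a b c d e f ≤ 3) (h13 : qe w1_13 a b c d e f ≤ 3) (h14 : qe w1_14 a b c d e f ≤ 16) (h15 : qe w1_15 a b c d e f ≤ 16) (h16 : qe w1_16 a b c d e f ≤ 5) (h17 : qe w1_17 a b c d e f ≤ 3) :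
    K1b a b c d e f = true := by
  simp only [K1b, Bool.and_eq_true, decide_eq_true_eq]
  exact ⟨⟨⟨⟨⟨⟨⟨⟨⟨⟨⟨⟨⟨⟨⟨⟨⟨h0, h1⟩, h2⟩, h3⟩, h4⟩, h5⟩, h6⟩, h7⟩, h8⟩, h9⟩, h10⟩, h11⟩, h12⟩, h13⟩, h14⟩, h15⟩, h16⟩, h17⟩

/-- round two of kills -/
def K2b (a b c d e f : ℤ) : Bool :=
  decide (qe w2_0 a b c d e f ≤ 0) &&
  decide (qe w2_1 a b c d e f ≤ 0) &&
  decide (qe w2_2 a b c d e f ≤ 0) &&
  decide (qe w2_3 a b c d e f ≤ 0) &&
  decide (qe w2_4 a b c d e f ≤ 0) &&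
  decide (qe w2_5 a b c d e f ≤ 0)

theorem K2b_of {a b c d e f : ℤ} (h0 : qe w2_0 a b c d e f ≤ 0) (h1 : qe w2_1 a b c d e f ≤ 0) (h2 : qe w2_2 a b c d e f ≤ 0) (h3 : qe w2_3 a b c d e f ≤ 0) (h4 : qe w2_4 a b c d e f ≤ 0) (h5 : qe w2_5 a b c d e f ≤ 0) :
    K2b a b c d e f = true := by
  simp only [K2b, Bool.and_eq_true, decide_eq_true_eq]
  exact ⟨⟨⟨⟨⟨h0, h1⟩, h2⟩, h3⟩, h4⟩, h5⟩

/-- grid types -/
abbrev isGrid (a b c d e f : ℤ) : Prop := a * a + b * b + c * c = 1 ∧ d * d + e * e + f * f = 1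
abbrev isZero (a b c d e f : ℤ) : Prop := a = 0 ∧ b = 0 ∧ c = 0 ∧ d = 0 ∧ e = 0 ∧ f = 0

set_option maxRecDepth 100000 in
theorem wY_nonneg : ∀ a b c d e f : Fin 3, 0 ≤ qe wY (v a) (v b) (v c) (v d) (v e) (v f) := by decide

set_option maxRecDepth 100000 in
theorem w1_0_nonneg : ∀ a b c d e f : Fin 3, S2b (v a) (v b) (v c) (v d) (v e) (v f) = true →
    0 ≤ qe w1_0 (v a) (v b) (v c) (v d) (v e) (v f) := by decide

set_option maxRecDepth 100000 in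
theorem w1_1_nonneg : ∀ a b c d e f : Fin 3, S2b (v a) (v b) (v c) (v d) (v e) (v f) = true →
    0 ≤ qe w1_1 (v a) (v b) (v c) (v d) (v e) (v f) := by decide

set_option maxRecDepth 100000 in
theorem w1_2_nonneg : ∀ a b c d e f : Fin 3, S2b (v a) (v b) (v c) (v d) (v e) (v f) = true →
    0 ≤ qe w1_2 (v a) (v b) (v c) (v d) (v e) (v f) := by decide

set_option maxRecDepth 100000 in
theorem w1_3_nonneg : ∀ a b c d e f : Fin 3, S2b (v a) (v b) (v c) (v d) (v e) (v f) = true →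
    0 ≤ qe w1_3 (v a) (v b) (v c) (v d) (v e) (v f) := by decide

set_option maxRecDepth 100000 in
theorem w1_4_nonneg : ∀ a b c d e f : Fin 3, S2b (v a) (v b) (v c) (v d) (v e) (v f) = true →
    0 ≤ qe w1_4 (v a) (v b) (v c) (v d) (v e) (v f) := by decide

set_option maxRecDepth 100000 in
theorem w1_5_nonneg : ∀ a b c d e f : Fin 3, S2b (v a) (v b) (v c) (v d) (v e) (v f) = true →
    0 ≤ qe w1_5 (v a) (v b) (v c) (v d) (v e) (v f) := by decide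

set_option maxRecDepth 100000 in
theorem w1_6_nonneg : ∀ a b c d e f : Fin 3, S2b (v a) (v b) (v c) (v d) (v e) (v f) = true →
    0 ≤ qe w1_6 (v a) (v b) (v c) (v d) (v e) (v f) := by decide

set_option maxRecDepth 100000 in
theorem w1_7_nonneg : ∀ a b c d e f : Fin 3, S2b (v a) (v b) (v c) (v d) (v e) (v f) = true →
    0 ≤ qe w1_7 (v a) (v b) (v c) (v d) (v e) (v f) := by decide

set_option maxRecDepth 100000 in
theorem w1_8_nonneg : ∀ a b c d e f : Fin 3, S2b (v a) (v b) (v c) (v d) (v e) (v f) = true →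
    0 ≤ qe w1_8 (v a) (v b) (v c) (v d) (v e) (v f) := by decide

set_option maxRecDepth 100000 in
theorem w1_9_nonneg : ∀ a b c d e f : Fin 3, S2b (v a) (v b) (v c) (v d) (v e) (v f) = true →
    0 ≤ qe w1_9 (v a) (v b) (v c) (v d) (v e) (v f) := by decide

set_option maxRecDepth 100000 in
theorem w1_10_nonneg : ∀ a b c d e f : Fin 3, S2b (v a) (v b) (v c) (v d) (v e) (v f) = true →
    0 ≤ qe w1_10 (v a) (v b) (v c) (v d) (v e) (v f) := by decide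

set_option maxRecDepth 100000 in
theorem w1_11_nonneg : ∀ a b c d e f : Fin 3, S2b (v a) (v b) (v c) (v d) (v e) (v f) = true →
    0 ≤ qe w1_11 (v a) (v b) (v c) (v d) (v e) (v f) := by decide

set_option maxRecDepth 100000 in
theorem w1_12_nonneg : ∀ a b c d e f : Fin 3, S2b (v a) (v b) (v c) (v d) (v e) (v f) = true →
    0 ≤ qe w1_12 (v a) (v b) (v c) (v d) (v e) (v f) := by decide

set_option maxRecDepth 100000 in
theorem w1_13_nonneg : ∀ a b c d e f : Fin 3, S2b (v a) (v b) (v c) (v d) (v e) (v f) = true →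
    0 ≤ qe w1_13 (v a) (v b) (v c) (v d) (v e) (v f) := by decide

set_option maxRecDepth 100000 in
theorem w1_14_nonneg : ∀ a b c d e f : Fin 3, S2b (v a) (v b) (v c) (v d) (v e) (v f) = true →
    0 ≤ qe w1_14 (v a) (v b) (v c) (v d) (v e) (v f) := by decide

set_option maxRecDepth 100000 in
theorem w1_15_nonneg : ∀ a b c d e f : Fin 3, S2b (v a) (v b) (v c) (v d) (v e) (v f) = true →
    0 ≤ qe w1_15 (v a) (v b) (v c) (v d) (v e) (v f) := by decide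

set_option maxRecDepth 100000 in
theorem w1_16_nonneg : ∀ a b c d e f : Fin 3, S2b (v a) (v b) (v c) (v d) (v e) (v f) = true →
    0 ≤ qe w1_16 (v a) (v b) (v c) (v d) (v e) (v f) := by decide

set_option maxRecDepth 100000 in
theorem w1_17_nonneg : ∀ a b c d e f : Fin 3, S2b (v a) (v b) (v c) (v d) (v e) (v f) = true →
    0 ≤ qe w1_17 (v a) (v b) (v c) (v d) (v e) (v f) := by decide

set_option maxRecDepth 100000 in
theorem w2_0_nonneg : ∀ a b c d e f : Fin 3, S2b (v a) (v b) (v c) (v d) (v e) (v f) = true →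
    K1b (v a) (v b) (v c) (v d) (v e) (v f) = true →
    0 ≤ qe w2_0 (v a) (v b) (v c) (v d) (v e) (v f) := by decide

set_option maxRecDepth 100000 in
theorem w2_1_nonneg : ∀ a b c d e f : Fin 3, S2b (v a) (v b) (v c) (v d) (v e) (v f) = true →
    K1b (v a) (v b) (v c) (v d) (v e) (v f) = true →
    0 ≤ qe w2_1 (v a) (v b) (v c) (v d) (v e) (v f) := by decide

set_option maxRecDepth 100000 in
theorem w2_2_nonneg : ∀ a b c d e f : Fin 3, S2b (v a) (v b) (v c) (v d) (v e) (v f) = true →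
    K1b (v a) (v b) (v c) (v d) (v e) (v f) = true →
    0 ≤ qe w2_2 (v a) (v b) (v c) (v d) (v e) (v f) := by decide

set_option maxRecDepth 100000 in
theorem w2_3_nonneg : ∀ a b c d e f : Fin 3, S2b (v a) (v b) (v c) (v d) (v e) (v f) = true →
    K1b (v a) (v b) (v c) (v d) (v e) (v f) = true →
    0 ≤ qe w2_3 (v a) (v b) (v c) (v d) (v e) (v f) := by decide

set_option maxRecDepth 100000 in
theorem w2_4_nonneg : ∀ a b c d e f : Fin 3, S2b (v a) (v b) (v c) (v d) (v e) (v f) = true →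
    K1b (v a) (v b) (v c) (v d) (v e) (v f) = true →
    0 ≤ qe w2_4 (v a) (v b) (v c) (v d) (v e) (v f) := by decide

set_option maxRecDepth 100000 in
theorem w2_5_nonneg : ∀ a b c d e f : Fin 3, S2b (v a) (v b) (v c) (v d) (v e) (v f) = true →
    K1b (v a) (v b) (v c) (v d) (v e) (v f) = true →
    0 ≤ qe w2_5 (v a) (v b) (v c) (v d) (v e) (v f) := by decide

set_option maxRecDepth 100000 in
theorem S4_final : ∀ a b c d e f : Fin 3, S2b (v a) (v b) (v c) (v d) (v e) (v f) = true →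
    K1b (v a) (v b) (v c) (v d) (v e) (v f) = true → K2b (v a) (v b) (v c) (v d) (v e) (v f) = true →
    isZero (v a) (v b) (v c) (v d) (v e) (v f) ∨ isGrid (v a) (v b) (v c) (v d) (v e) (v f) := by decide

end Cfsg.Agent.Lib.Helper8.S3805
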