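/-
helper8: S3805 core, part E: the stages of the classification of column types
(consistency, no degenerate type, Titu conditions, two rounds of certificates).
-/
import Mathlib
import Cfsg.Agent.Lib.Helper8.S3805D

set_option autoImplicit false

namespace Cfsg.Agent.Lib.Helper8.S3805

open Finset

variable {ι : Type*} [Fintype ι] [DecidableEq ι]

namespace Cols

variable (D : Cols ι)

/-- `P` holds at the type of `i` -/
def AtType (P : ℤ → ℤ → ℤ → ℤ → ℤ → ℤ → Prop) (i : ι) : Prop :=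
  P (D.R 0 i) (D.R 1 i) (D.R 2 i) (D.R 3 i) (D.R 4 i) (D.R 5 i)

theorem codes (j : ι) : ∃ a b c d e f : Fin 3, v a = D.R 0 j ∧ v b = D.R 1 j ∧ v c = D.R 2 j ∧
    v d = D.R 3 j ∧ v e = D.R 4 j ∧ v f = D.R 5 j := by
  obtain ⟨a, ha⟩ := exists_v _ (D.R_bound 0 j)
  obtain ⟨b, hb⟩ := exists_v _ (D.R_bound 1 j)
  obtain ⟨c, hc⟩ := exists_v _ (D.R_bound 2 j)
  obtain ⟨d, hd⟩ := exists_v _ (D.R_bound 3 j)
  obtain ⟨e, he⟩ := exists_v _ (D.R_bound 4 j)
  obtain ⟨f, hf⟩ := exists_v _ (D.R_bound 5 j)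
  exact ⟨a, b, c, d, e, f, ha, hb, hc, hd, he, hf⟩

/-- generic certificate step -/
theorem stage_cert (w : Fin 21 → ℤ) (tp : ℤ) (htp : qtot w - qe w 1 0 0 1 0 0 = tp)
    (P : ℤ → ℤ → ℤ → ℤ → ℤ → ℤ → Prop) (hP : ∀ j, D.AtType P j)
    (hdec : ∀ a b c d e f : Fin 3, P (v a) (v b) (v c) (v d) (v e) (v f) →
      0 ≤ qe w (v a) (v b) (v c) (v d) (v e) (v f))
    (i : ι) (hi : i ≠ D.i0) :
    qe w (D.R 0 i) (D.R 1 i) (D.R 2 i) (D.R 3 i) (D.R 4 i) (D.R 5 i) ≤ tp := by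
  have hnn : ∀ j, 0 ≤ D.qv w j := by
    intro j
    obtain ⟨a, b, c, d, e, f, ha, hb, hc, hd, he, hf⟩ := D.codes j
    have h1 := hP j
    unfold AtType at h1
    unfold qv
    rw [← ha, ← hb, ← hc, ← hd, ← he, ← hf] at h1 ⊢
    exact hdec a b c d e f h1
  have h := D.qv_le w hnn i hi
  rw [htp] at h
  exact h

/-- stage 0: consistency -/
theorem stage_zc (i : ι) : D.AtType zc i := by
  unfold AtType zc
  have h1 := D.zeta_eq i
  have h2 := D.zeta_eq' i
  simp only [R, Matrix.cons_val_zero, Matrix.cons_val_one, Matrix.cons_val]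
  change D.r1 i + D.r2 i - D.r3 i = D.r1' i + D.r2' i - D.r3' i
  omega

theorem R0 (i : ι) : D.R 0 i = D.r1 i := rfl
theorem R1 (i : ι) : D.R 1 i = D.r2 i := rfl
theorem R2 (i : ι) : D.R 2 i = D.r3 i := rfl
theorem R3 (i : ι) : D.R 3 i = D.r1' i := rfl
theorem R4 (i : ι) : D.R 4 i = D.r2' i := rfl
theorem R5 (i : ι) : D.R 5 i = D.r3' i := rfl

/-- stage 1: the degenerate type does not occur -/
theorem stage_notY (i : ι) : D.AtType notY i := by
  have hcert : ∀ j, j ≠ D.i0 →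
      qe wY (D.R 0 j) (D.R 1 j) (D.R 2 j) (D.R 3 j) (D.R 4 j) (D.R 5 j) ≤ 5 := by
    intro j hj
    exact D.stage_cert wY 5 (by decide) (fun _ _ _ _ _ _ => True) (fun _ => trivial)
      (fun a b c d e f _ => wY_nonneg a b c d e f) j hj
  by_cases hi : i = D.i0
  · subst hi
    unfold AtType notY
    simp only [D.R_i0]
    decide
  · have h := hcert i hi
    unfold AtType notY
    constructor
    · rintro ⟨h0, h1, h2, h3, h4, h5⟩
      rw [h0, h1, h2, h3, h4, h5] at h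
      revert h; decide
    · rintro ⟨h0, h1, h2, h3, h4, h5⟩
      rw [h0, h1, h2, h3, h4, h5] at h
      revert h; decide

end Cols

end Cfsg.Agent.Lib.Helper8.S3805
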