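/-
helper8: S3805 core, part G: the Titu conditions and the classification of column types.
-/
import Mathlib
import Cfsg.Agent.Lib.Helper8.S3805E
import Cfsg.Agent.Lib.Helper8.S3805F

set_option autoImplicit false

namespace Cfsg.Agent.Lib.Helper8.S3805

open Finset

variable {ι : Type*} [Fintype ι] [DecidableEq ι]

namespace Cols

variable (D : Cols ι)

theorem sum_r3'_xi : ∑ i, D.R 5 i * D.c 0 i = 0 := by
  have h : 3 * ∑ i, D.R 5 i * D.c 0 i = 0 := by
    rw [Finset.mul_sum]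
    have : ∀ i, 3 * (D.R 5 i * D.c 0 i) = D.c 1 i * D.c 0 i - D.c 2 i * D.c 0 i := by
      intro i
      have := D.three_r3' i
      rw [D.R5]
      linear_combination D.c 0 i * this
    simp_rw [this]
    rw [Finset.sum_sub_distrib, D.gram 1 0, D.gram 2 0]
    simp
  omega

theorem sum_r3_eta : ∑ i, D.R 2 i * D.c 1 i = 0 := by
  have h : 3 * ∑ i, D.R 2 i * D.c 1 i = 0 := by
    rw [Finset.mul_sum]
    have : ∀ i, 3 * (D.R 2 i * D.c 1 i) = D.c 0 i * D.c 1 i - D.c 2 i * D.c 1 i := by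
      intro i
      have := D.three_r3 i
      rw [D.R2]
      linear_combination D.c 1 i * this
    simp_rw [this]
    rw [Finset.sum_sub_distrib, D.gram 0 1, D.gram 2 1]
    simp
  omega

/-- Titu condition, `x`-side: constituents of `r₃'` do not vanish at `x`. -/
theorem stage_c2_x (h3x : ∑ i, (D.R 5 i : ℚ) * ((D.c 0 i : ℚ) ^ 2 / (D.f i : ℚ)) = 0) (i : ι)
    (hi : D.R 5 i ≠ 0) : D.c 0 i ≠ 0 := by
  intro h0
  have hT := titu_support (D.R 5) (D.c 0) D.f (D.R_bound 5) (by rw [D.gram_R 5 5]; rfl) D.f_pos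
    (by simp_rw [mul_comm (D.R 5 _) (D.f _)]; exact D.deg_R 5) D.sum_r3'_xi h3x
  have hall : ∀ j, D.R 5 j ≠ 0 → D.c 0 j = 0 := by
    intro j hj
    have h := hT j i hj hi
    rw [h0, zero_mul] at h
    have hf := D.f_pos i
    rcases mul_eq_zero.mp h with h | h
    · exact h
    · omega
  have hg : ∑ j, D.R 2 j * D.R 5 j ≠ 0 := by rw [D.gram_R 2 5]; decide
  obtain ⟨j, -, hj⟩ := Finset.exists_ne_zero_of_sum_ne_zero hg
  have hj2 : D.R 2 j ≠ 0 := left_ne_zero_of_mul hj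
  have hj5 : D.R 5 j ≠ 0 := right_ne_zero_of_mul hj
  have hx := hall j hj5
  have e1 := D.xi_eq j
  have e2 := D.zeta_eq j
  have e3 := D.zeta_eq' j
  have b0 := D.R_bound 0 j
  have b1 := D.R_bound 1 j
  have b2 := D.R_bound 2 j
  have b3 := D.R_bound 3 j
  have b4 := D.R_bound 4 j
  have b5 := D.R_bound 5 j
  have hY := D.stage_notY j
  unfold AtType notY at hY
  rw [D.R0, D.R1, D.R2, D.R3, D.R4, D.R5] at *
  omega

/-- Titu condition, `y`-side: constituents of `r₃` do not vanish at `y`. -/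
theorem stage_c2_y (h3y : ∑ i, (D.R 2 i : ℚ) * ((D.c 1 i : ℚ) ^ 2 / (D.f i : ℚ)) = 0) (i : ι)
    (hi : D.R 2 i ≠ 0) : D.c 1 i ≠ 0 := by
  intro h0
  have hT := titu_support (D.R 2) (D.c 1) D.f (D.R_bound 2) (by rw [D.gram_R 2 2]; rfl) D.f_pos
    (by simp_rw [mul_comm (D.R 2 _) (D.f _)]; exact D.deg_R 2) D.sum_r3_eta h3y
  have hall : ∀ j, D.R 2 j ≠ 0 → D.c 1 j = 0 := by
    intro j hj
    have h := hT j i hj hi
    rw [h0, zero_mul] at h
    have hf := D.f_pos i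
    rcases mul_eq_zero.mp h with h | h
    · exact h
    · omega
  have hg : ∑ j, D.R 2 j * D.R 5 j ≠ 0 := by rw [D.gram_R 2 5]; decide
  obtain ⟨j, -, hj⟩ := Finset.exists_ne_zero_of_sum_ne_zero hg
  have hj2 : D.R 2 j ≠ 0 := left_ne_zero_of_mul hj
  have hj5 : D.R 5 j ≠ 0 := right_ne_zero_of_mul hj
  have hx := hall j hj2
  have e1 := D.eta_eq j
  have e2 := D.zeta_eq j
  have e3 := D.zeta_eq' j
  have b0 := D.R_bound 0 j
  have b1 := D.R_bound 1 j
  have b2 := D.R_bound 2 j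
  have b3 := D.R_bound 3 j
  have b4 := D.R_bound 4 j
  have b5 := D.R_bound 5 j
  have hY := D.stage_notY j
  unfold AtType notY at hY
  rw [D.R0, D.R1, D.R2, D.R3, D.R4, D.R5] at *
  omega

/-- stage 2 -/
theorem stage_S2 (h3x : ∑ i, (D.R 5 i : ℚ) * ((D.c 0 i : ℚ) ^ 2 / (D.f i : ℚ)) = 0)
    (h3y : ∑ i, (D.R 2 i : ℚ) * ((D.c 1 i : ℚ) ^ 2 / (D.f i : ℚ)) = 0) (i : ι) :
    D.AtType S2 i := by
  have h1 := D.stage_zc i
  have h2 := D.stage_notY i
  unfold AtType at h1 h2 ⊢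
  refine ⟨h1, h2, ?_, ?_⟩
  · intro hc
    have := D.stage_c2_y h3y i hc
    have e := D.eta_eq i
    rw [D.R3, D.R4, D.R5]
    omega
  · intro hf
    have := D.stage_c2_x h3x i hf
    have e := D.xi_eq i
    rw [D.R0, D.R1, D.R2]
    omega

end Cols

end Cfsg.Agent.Lib.Helper8.S3805
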