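/-
helper8: S3805 core, part H: the two rounds of certificates (generated by
scratch_h8/s3805/gen_lean2.py) and the final classification of column types.
-/
import Mathlib
import Cfsg.Agent.Lib.Helper8.S3805G

set_option autoImplicit false

namespace Cfsg.Agent.Lib.Helper8.S3805

open Finset

variable {ι : Type*} [Fintype ι] [DecidableEq ι]

namespace Cols

variable (D : Cols ι)

theorem stage_K1 (hS2 : ∀ j, D.AtType S2 j) (i : ι) :
    D.AtType (fun a b c d e f => K1b a b c d e f = true) i := by
  by_cases hi : i = D.i0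
  · subst hi
    unfold AtType
    simp only [D.R_i0]
    decide
  · unfold AtType
    have hS2b : ∀ j, D.AtType (fun a b c d e f => S2b a b c d e f = true) j :=
      fun j => S2b_of (hS2 j)
    have h0 := D.stage_cert w1_0 (8) (by decide) _ hS2b w1_0_nonneg i hi
    have h1 := D.stage_cert w1_1 (3) (by decide) _ hS2b w1_1_nonneg i hi
    have h2 := D.stage_cert w1_2 (3) (by decide) _ hS2b w1_2_nonneg i hi
    have h3 := D.stage_cert w1_3 (6) (by decide) _ hS2b w1_3_nonneg i hi
    have h4 := D.stage_cert w1_4 (6) (by decide) _ hS2b w1_4_nonneg i hi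
    have h5 := D.stage_cert w1_5 (6) (by decide) _ hS2b w1_5_nonneg i hi
    have h6 := D.stage_cert w1_6 (3) (by decide) _ hS2b w1_6_nonneg i hi
    have h7 := D.stage_cert w1_7 (2) (by decide) _ hS2b w1_7_nonneg i hi
    have h8 := D.stage_cert w1_8 (3) (by decide) _ hS2b w1_8_nonneg i hi
    have h9 := D.stage_cert w1_9 (6) (by decide) _ hS2b w1_9_nonneg i hi
    have h10 := D.stage_cert w1_10 (3) (by decide) _ hS2b w1_10_nonneg i hi
    have h11 := D.stage_cert w1_11 (8) (by decide) _ hS2b w1_11_nonneg i hi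
    have h12 := D.stage_cert w1_12 (3) (by decide) _ hS2b w1_12_nonneg i hi
    have h13 := D.stage_cert w1_13 (3) (by decide) _ hS2b w1_13_nonneg i hi
    have h14 := D.stage_cert w1_14 (16) (by decide) _ hS2b w1_14_nonneg i hi
    have h15 := D.stage_cert w1_15 (16) (by decide) _ hS2b w1_15_nonneg i hi
    have h16 := D.stage_cert w1_16 (5) (by decide) _ hS2b w1_16_nonneg i hi
    have h17 := D.stage_cert w1_17 (3) (by decide) _ hS2b w1_17_nonneg i hi
    exact K1b_of h0 h1 h2 h3 h4 h5 h6 h7 h8 h9 h10 h11 h12 h13 h14 h15 h16 h17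

theorem stage_K2 (hS2 : ∀ j, D.AtType S2 j) (i : ι) :
    D.AtType (fun a b c d e f => K2b a b c d e f = true) i := by
  by_cases hi : i = D.i0
  · subst hi
    unfold AtType
    simp only [D.R_i0]
    decide
  · unfold AtType
    have hP : ∀ j, D.AtType (fun a b c d e f => S2b a b c d e f = true ∧ K1b a b c d e f = true) j :=
      fun j => ⟨S2b_of (hS2 j), D.stage_K1 hS2 j⟩
    have h0 := D.stage_cert w2_0 (0) (by decide) _ hP
      (fun a b c d e f h => w2_0_nonneg a b c d e f h.1 h.2) i hi
    have h1 := D.stage_cert w2_1 (0) (by decide) _ hP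
      (fun a b c d e f h => w2_1_nonneg a b c d e f h.1 h.2) i hi
    have h2 := D.stage_cert w2_2 (0) (by decide) _ hP
      (fun a b c d e f h => w2_2_nonneg a b c d e f h.1 h.2) i hi
    have h3 := D.stage_cert w2_3 (0) (by decide) _ hP
      (fun a b c d e f h => w2_3_nonneg a b c d e f h.1 h.2) i hi
    have h4 := D.stage_cert w2_4 (0) (by decide) _ hP
      (fun a b c d e f h => w2_4_nonneg a b c d e f h.1 h.2) i hi
    have h5 := D.stage_cert w2_5 (0) (by decide) _ hP
      (fun a b c d e f h => w2_5_nonneg a b c d e f h.1 h.2) i hi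
    exact K2b_of h0 h1 h2 h3 h4 h5

/-- every column type is zero or a grid type -/
theorem types_final (hS2 : ∀ j, D.AtType S2 j) (i : ι) :
    D.AtType (fun a b c d e f => isZero a b c d e f ∨ isGrid a b c d e f) i := by
  obtain ⟨a, b, c, d, e, f, ha, hb, hc, hd, he, hf⟩ := D.codes i
  have h1 := S2b_of (hS2 i)
  have h2 := D.stage_K1 hS2 i
  have h3 := D.stage_K2 hS2 i
  unfold AtType at h1 h2 h3 ⊢
  rw [← ha, ← hb, ← hc, ← hd, ← he, ← hf] at h1 h2 h3 ⊢
  exact S4_final a b c d e f h1 h2 h3

end Cols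

end Cfsg.Agent.Lib.Helper8.S3805
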