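/-
helper8: S3805 core, part I: extraction of the 3×3 grid of characters.
-/
import Mathlib
import Cfsg.Agent.Lib.Helper8.S3805H

set_option autoImplicit false

namespace Cfsg.Agent.Lib.Helper8.S3805

open Finset

/-- signs `(ρ, ψ)` for `ψ = 1, ε, χ` of `S₃` -/
def sg : Fin 3 → ℤ := ![1, 1, -1]
/-- degrees of `1, ε, χ` -/
def dg : Fin 3 → ℤ := ![1, 1, 2]

/-- normal form of a grid type -/
def NFb (a b c d e f : ℤ) (k l : Fin 3) (s : Bool) : Prop :=
  (∀ k' : Fin 3, ![a, b, c] k' = if k' = k then (if s then 1 else -1) * sg l else 0) ∧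
  (∀ l' : Fin 3, ![d, e, f] l' = if l' = l then (if s then 1 else -1) * sg k else 0)

instance (a b c d e f : ℤ) (k l : Fin 3) (s : Bool) : Decidable (NFb a b c d e f k l s) := by
  unfold NFb; infer_instance

/-- precondition as a Boolean -/
def nfPre (a b c d e f : ℤ) : Bool :=
  decide (zc a b c d e f ∧ (isZero a b c d e f ∨ isGrid a b c d e f))

/-- conclusion as a Boolean -/
def nfPost (a b c d e f : ℤ) : Bool :=
  decide (isZero a b c d e f ∨ ∃ k l : Fin 3, ∃ s : Bool, NFb a b c d e f k l s)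

set_option maxRecDepth 100000 in
theorem nf_dec_bool : ∀ a b c d e f : Fin 3, nfPre (v a) (v b) (v c) (v d) (v e) (v f) = true →
    nfPost (v a) (v b) (v c) (v d) (v e) (v f) = true := by decide

theorem nf_dec (a b c d e f : Fin 3) (h1 : zc (v a) (v b) (v c) (v d) (v e) (v f))
    (h2 : isZero (v a) (v b) (v c) (v d) (v e) (v f) ∨ isGrid (v a) (v b) (v c) (v d) (v e) (v f)) :
    isZero (v a) (v b) (v c) (v d) (v e) (v f) ∨
      ∃ k l : Fin 3, ∃ s : Bool, NFb (v a) (v b) (v c) (v d) (v e) (v f) k l s := by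
  have h := nf_dec_bool a b c d e f (decide_eq_true ⟨h1, h2⟩)
  exact of_decide_eq_true h

variable {ι : Type*} [Fintype ι]

namespace Cols

variable (D : Cols ι)

/-- the `x`-side lattice coordinates -/
def ra (k : Fin 3) (i : ι) : ℤ := D.R (Fin.castAdd 3 k) i
/-- the `y`-side lattice coordinates -/
def rb (l : Fin 3) (i : ι) : ℤ := D.R (Fin.natAdd 3 l) i

theorem ra_eq (k : Fin 3) (i : ι) : D.ra k i = ![D.R 0 i, D.R 1 i, D.R 2 i] k := by
  fin_cases k <;> rfl

theorem rb_eq (l : Fin 3) (i : ι) : D.rb l i = ![D.R 3 i, D.R 4 i, D.R 5 i] l := by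
  fin_cases l <;> rfl

theorem gram_ab (k l : Fin 3) : ∑ i, D.ra k i * D.rb l i = sg k * sg l := by
  unfold ra rb
  rw [D.gram_R]
  fin_cases k <;> fin_cases l <;> rfl

theorem deg_a (k : Fin 3) : ∑ i, D.f i * D.ra k i = 0 := D.deg_R _
theorem deg_b (l : Fin 3) : ∑ i, D.f i * D.rb l i = 0 := D.deg_R _

theorem c0_eq (i : ι) : D.c 0 i = ∑ k, dg k * D.ra k i := by
  have := D.xi_eq i
  simp only [Fin.sum_univ_three, ra_eq, dg]
  simp only [R0, R1, R2, Matrix.cons_val_zero, Matrix.cons_val_one, Matrix.cons_val]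
  linarith

theorem c1_eq (i : ι) : D.c 1 i = ∑ l, dg l * D.rb l i := by
  have := D.eta_eq i
  simp only [Fin.sum_univ_three, rb_eq, dg]
  simp only [R3, R4, R5, Matrix.cons_val_zero, Matrix.cons_val_one, Matrix.cons_val]
  linarith

theorem c2_eq (i : ι) : D.c 2 i = ∑ k, sg k * D.ra k i := by
  have := D.zeta_eq i
  simp only [Fin.sum_univ_three, ra_eq, sg]
  simp only [R0, R1, R2, Matrix.cons_val_zero, Matrix.cons_val_one, Matrix.cons_val]
  linarith

/-- the normal form of the type of `i` -/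
theorem nf [DecidableEq ι] (hS2 : ∀ j, D.AtType S2 j) (i : ι) :
    (∀ k, D.ra k i = 0 ∧ D.rb k i = 0) ∨
    ∃ k l : Fin 3, ∃ σ : ℤ, (σ = 1 ∨ σ = -1) ∧
      (∀ k', D.ra k' i = if k' = k then σ * sg l else 0) ∧
      (∀ l', D.rb l' i = if l' = l then σ * sg k else 0) := by
  obtain ⟨a, b, c, d, e, f, ha, hb, hc, hd, he, hf⟩ := D.codes i
  have h1 := D.stage_zc i
  have h2 := D.types_final hS2 i
  unfold AtType at h1 h2
  rw [← ha, ← hb, ← hc, ← hd, ← he, ← hf] at h1 h2
  rcases nf_dec a b c d e f h1 h2 with h | ⟨k, l, s, h3, h4⟩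
  · left
    obtain ⟨z0, z1, z2, z3, z4, z5⟩ := h
    intro k
    rw [D.ra_eq, D.rb_eq, ← ha, ← hb, ← hc, ← hd, ← he, ← hf, z0, z1, z2, z3, z4, z5]
    fin_cases k <;> simp
  · right
    refine ⟨k, l, if s then 1 else -1, by cases s <;> simp, ?_, ?_⟩
    · intro k'
      rw [D.ra_eq, ← ha, ← hb, ← hc]
      exact h3 k'
    · intro l'
      rw [D.rb_eq, ← hd, ← he, ← hf]
      exact h4 l'

end Cols

end Cfsg.Agent.Lib.Helper8.S3805
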