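/-
helper8: S3805 core, part J: the final algebra on the signed degrees of the 3×3 grid.
-/
import Mathlib

set_option autoImplicit false

namespace Cfsg.Agent.Lib.Helper8.S3805

theorem sq_diff_of_recip (p q : ℚ) (hp : p ≠ 0) (hq : q ≠ 0) (hpq : p + q ≠ 0)
    (h : 1 / p + 1 / q - 4 / (p + q) = 0) : p = q := by
  field_simp at h
  have h2 : (p - q) ^ 2 = 0 := by linear_combination h
  have h3 : p - q = 0 := by exact pow_eq_zero_iff (two_ne_zero) |>.mp h2
  linarith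

/-- The five equations force `u = v = w = 1`. -/
theorem alg_uvw (u v w : ℚ) (hu : u ≠ 0) (hv : v ≠ 0) (hw : w ≠ 0) (h1u : 1 + u ≠ 0)
    (hvw : v + w ≠ 0) (h1v : 1 + v ≠ 0) (huw : u + w ≠ 0) (hs : 1 + u + v + w ≠ 0)
    (E3 : (1 + 1 / u - 4 / (1 + u)) + (1 / v + 1 / w - 4 / (v + w)) +
      2 * (1 / (1 + v) + 1 / (u + w) - 4 / (1 + u + v + w)) = 0)
    (E5 : (1 + 1 / u - 4 / (1 + u)) + (1 / v + 1 / w - 4 / (v + w)) -
      (1 / (1 + v) + 1 / (u + w) - 4 / (1 + u + v + w)) = 0)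
    (E4 : (1 + 1 / v - 4 / (1 + v)) + (1 / u + 1 / w - 4 / (u + w)) +
      2 * (1 / (1 + u) + 1 / (v + w) - 4 / (1 + u + v + w)) = 0)
    (E6 : (1 + 1 / v - 4 / (1 + v)) + (1 / u + 1 / w - 4 / (u + w)) -
      (1 / (1 + u) + 1 / (v + w) - 4 / (1 + u + v + w)) = 0) :
    u = 1 ∧ v = 1 ∧ w = 1 := by
  have P3 : 1 / (1 + v) + 1 / (u + w) - 4 / ((1 + v) + (u + w)) = 0 := by
    have e : (1 + v) + (u + w) = 1 + u + v + w := by ring
    rw [e]
    linear_combination (1 / 3 : ℚ) * E3 - (1 / 3 : ℚ) * E5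
  have Q3 : 1 / (1 + u) + 1 / (v + w) - 4 / ((1 + u) + (v + w)) = 0 := by
    have e : (1 + u) + (v + w) = 1 + u + v + w := by ring
    rw [e]
    linear_combination (1 / 3 : ℚ) * E4 - (1 / 3 : ℚ) * E6
  have h1 := sq_diff_of_recip (1 + v) (u + w) h1v huw (by
    have e : (1 + v) + (u + w) = 1 + u + v + w := by ring
    rw [e]; exact hs) P3
  have h2 := sq_diff_of_recip (1 + u) (v + w) h1u hvw (by
    have e : (1 + u) + (v + w) = 1 + u + v + w := by ring
    rw [e]; exact hs) Q3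
  have huv : u = v := by linarith
  have hw1 : w = 1 := by linarith
  subst hw1
  subst huv
  -- now P1 + P2 = 0
  have P12 : (1 + 1 / u - 4 / (1 + u)) + (1 / u + 1 / 1 - 4 / (u + 1)) = 0 := by
    have e1 : 1 + u + u + 1 = (1 + u) + (u + 1) := by ring
    rw [e1] at E5
    have := P3
    linear_combination E5 + this
  have h3 : 1 / (1 : ℚ) + 1 / u - 4 / (1 + u) = 0 := by
    have e : u + 1 = 1 + u := by ring
    rw [e] at P12
    linear_combination (1 / 2 : ℚ) * P12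
  have h4 := sq_diff_of_recip 1 u one_ne_zero hu h1u h3
  exact ⟨h4.symm, h4.symm, rfl⟩

end Cfsg.Agent.Lib.Helper8.S3805
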