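/-
helper8: S3805 core, part K: the grid of nine characters and sums over it.
-/
import Mathlib
import Cfsg.Agent.Lib.Helper8.S3805I

set_option autoImplicit false

namespace Cfsg.Agent.Lib.Helper8.S3805

open Finset

theorem sg_mul_self (k : Fin 3) : sg k * sg k = 1 := by fin_cases k <;> rfl
theorem sg_ne_zero (k : Fin 3) : sg k ≠ 0 := by fin_cases k <;> decide

variable {ι : Type*} [Fintype ι] [DecidableEq ι]

/-- sums over a type all of whose relevant elements are parametrised injectively by `Fin 3 × Fin 3` -/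
theorem sum_grid {M : Type*} [AddCommMonoid M] (X : Fin 3 → Fin 3 → ι)
    (hinj : ∀ l k l' k', X l k = X l' k' → l = l' ∧ k = k') (F : ι → M)
    (hcover : ∀ i, F i ≠ 0 → ∃ l k, i = X l k) : ∑ i, F i = ∑ l, ∑ k, F (X l k) := by
  rw [← Finset.sum_product']
  have hinj' : Set.InjOn (fun p : Fin 3 × Fin 3 => X p.1 p.2)
      ((Finset.univ ×ˢ Finset.univ : Finset (Fin 3 × Fin 3)) : Set (Fin 3 × Fin 3)) := by
    intro p _ q _ h
    obtain ⟨h1, h2⟩ := hinj _ _ _ _ h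
    exact Prod.ext h1 h2
  rw [← Finset.sum_image (f := F) (g := fun p : Fin 3 × Fin 3 => X p.1 p.2) hinj']
  symm
  apply Finset.sum_subset (Finset.subset_univ _)
  intro i _ hi
  by_contra h
  obtain ⟨l, k, rfl⟩ := hcover i h
  apply hi
  exact Finset.mem_image.mpr ⟨(l, k), by simp, rfl⟩

namespace Cols

variable (D : Cols ι)

/-- indicator of the cell `(l,k)` -/
def W (k l : Fin 3) (i : ι) : ℤ := if D.ra k i ≠ 0 ∧ D.rb l i ≠ 0 then 1 else 0

theorem ra_mul_rb (hS2 : ∀ j, D.AtType S2 j) (k l : Fin 3) (i : ι) :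
    D.ra k i * D.rb l i = sg k * sg l * D.W k l i := by
  unfold W
  rcases D.nf hS2 i with h | ⟨k0, l0, σ, hσ, h1, h2⟩
  · simp [(h k).1]
  · rw [h1 k, h2 l]
    have hσ2 : σ * σ = 1 := by rcases hσ with rfl | rfl <;> norm_num
    have hσ0 : σ ≠ 0 := by rcases hσ with rfl | rfl <;> norm_num
    by_cases hk : k = k0
    · by_cases hl : l = l0
      · subst hk hl
        have hne1 : σ * sg l ≠ 0 := mul_ne_zero hσ0 (sg_ne_zero l)
        have hne2 : σ * sg k ≠ 0 := mul_ne_zero hσ0 (sg_ne_zero k)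
        simp only [if_true, hne1, hne2, ne_eq, not_false_eq_true, and_self, mul_one]
        linear_combination (sg k * sg l) * hσ2
      · simp [hl]
    · simp [hk]

theorem sum_W (hS2 : ∀ j, D.AtType S2 j) (k l : Fin 3) : ∑ i, D.W k l i = 1 := by
  have h := D.gram_ab k l
  simp_rw [D.ra_mul_rb hS2 k l] at h
  rw [← Finset.mul_sum] at h
  have h0 : sg k * sg l ≠ 0 := mul_ne_zero (sg_ne_zero k) (sg_ne_zero l)
  have : sg k * sg l * ∑ i, D.W k l i = sg k * sg l * 1 := by rw [h, mul_one]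
  exact mul_left_cancel₀ h0 this

theorem exists_cell (hS2 : ∀ j, D.AtType S2 j) (l k : Fin 3) :
    ∃ i, D.ra k i ≠ 0 ∧ D.rb l i ≠ 0 ∧ ∀ j, D.ra k j ≠ 0 → D.rb l j ≠ 0 → j = i := by
  have hs := D.sum_W hS2 k l
  have hne : ∑ i, D.W k l i ≠ 0 := by rw [hs]; exact one_ne_zero
  obtain ⟨i, -, hi⟩ := Finset.exists_ne_zero_of_sum_ne_zero hne
  have hi' : D.ra k i ≠ 0 ∧ D.rb l i ≠ 0 := by
    by_contra h
    apply hi
    unfold W
    rw [if_neg h]
  refine ⟨i, hi'.1, hi'.2, ?_⟩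
  intro j hj1 hj2
  by_contra hji
  have hnn : ∀ i', 0 ≤ D.W k l i' := by
    intro i'
    unfold W
    split_ifs <;> norm_num
  have h := cert_kill (D.W k l) hnn 1 hs i j hji
  have e1 : D.W k l i = 1 := by unfold W; rw [if_pos hi']
  have e2 : D.W k l j = 1 := by unfold W; rw [if_pos ⟨hj1, hj2⟩]
  rw [e1, e2] at h
  norm_num at h

/-- the grid -/
theorem exists_grid (hS2 : ∀ j, D.AtType S2 j) :
    ∃ (X : Fin 3 → Fin 3 → ι) (σ : Fin 3 → Fin 3 → ℤ),
      (∀ l k, σ l k = 1 ∨ σ l k = -1) ∧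
      (∀ l k k', D.ra k' (X l k) = if k' = k then σ l k * sg l else 0) ∧
      (∀ l k l', D.rb l' (X l k) = if l' = l then σ l k * sg k else 0) ∧
      (∀ i, (∃ k, D.ra k i ≠ 0 ∨ D.rb k i ≠ 0) → ∃ l k, i = X l k) ∧
      X 0 0 = D.i0 := by
  choose X hX1 hX2 hX3 using D.exists_cell hS2
  have key : ∀ l k, ∃ σ : ℤ, (σ = 1 ∨ σ = -1) ∧
      (∀ k', D.ra k' (X l k) = if k' = k then σ * sg l else 0) ∧
      (∀ l', D.rb l' (X l k) = if l' = l then σ * sg k else 0) := by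
    intro l k
    rcases D.nf hS2 (X l k) with h | ⟨k0, l0, σ, hσ, h1, h2⟩
    · exact absurd (h k).1 (hX1 l k)
    · have hk : k = k0 := by
        by_contra hk
        apply hX1 l k
        rw [h1 k, if_neg hk]
      have hl : l = l0 := by
        by_contra hl
        apply hX2 l k
        rw [h2 l, if_neg hl]
      subst hk hl
      exact ⟨σ, hσ, h1, h2⟩
  choose σ hσ1 hσ2 hσ3 using key
  refine ⟨X, σ, hσ1, hσ2, hσ3, ?_, ?_⟩
  · rintro i ⟨k1, hk1⟩
    rcases D.nf hS2 i with h | ⟨k0, l0, σ0, hσ0, h1, h2⟩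
    · rcases hk1 with h' | h'
      · exact absurd (h k1).1 h'
      · exact absurd (h k1).2 h'
    · have hσne : σ0 ≠ 0 := by rcases hσ0 with rfl | rfl <;> norm_num
      refine ⟨l0, k0, hX3 l0 k0 i ?_ ?_⟩
      · rw [h1 k0, if_pos rfl]; exact mul_ne_zero hσne (sg_ne_zero l0)
      · rw [h2 l0, if_pos rfl]; exact mul_ne_zero hσne (sg_ne_zero k0)
  · symm
    apply hX3 0 0 D.i0
    · rw [D.ra_eq]; simp [D.R_i0]
    · rw [D.rb_eq]; simp [D.R_i0]

end Cols

end Cfsg.Agent.Lib.Helper8.S3805
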