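/-
helper8: S3805 core, part L: the core theorem (`|G| = 36` from the column data and the five
class-multiplication equations).
-/
import Mathlib
import Cfsg.Agent.Lib.Helper8.S3805K
import Cfsg.Agent.Lib.Helper8.S3805J

set_option autoImplicit false

namespace Cfsg.Agent.Lib.Helper8.S3805

open Finset

variable {ι : Type*} [Fintype ι] [DecidableEq ι]

namespace Cols

variable (D : Cols ι)

theorem h3x_of (E3 : ∑ i, ((D.c 0 i : ℚ) ^ 2 * (D.c 1 i : ℚ)) / (D.f i : ℚ) = 0)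
    (E5 : ∑ i, ((D.c 0 i : ℚ) ^ 2 * (D.c 2 i : ℚ)) / (D.f i : ℚ) = 0) :
    ∑ i, (D.R 5 i : ℚ) * ((D.c 0 i : ℚ) ^ 2 / (D.f i : ℚ)) = 0 := by
  have h : (3 : ℚ) * ∑ i, (D.R 5 i : ℚ) * ((D.c 0 i : ℚ) ^ 2 / (D.f i : ℚ)) = 0 := by
    rw [Finset.mul_sum]
    have : ∀ i, (3 : ℚ) * ((D.R 5 i : ℚ) * ((D.c 0 i : ℚ) ^ 2 / (D.f i : ℚ))) =
        ((D.c 0 i : ℚ) ^ 2 * (D.c 1 i : ℚ)) / (D.f i : ℚ) -
          ((D.c 0 i : ℚ) ^ 2 * (D.c 2 i : ℚ)) / (D.f i : ℚ) := by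
      intro i
      have h1 : (3 : ℚ) * (D.R 5 i : ℚ) = (D.c 1 i : ℚ) - (D.c 2 i : ℚ) := by
        have := D.three_r3' i
        rw [D.R5]
        exact_mod_cast this
      have : (3 : ℚ) * ((D.R 5 i : ℚ) * ((D.c 0 i : ℚ) ^ 2 / (D.f i : ℚ))) =
          (3 * (D.R 5 i : ℚ)) * ((D.c 0 i : ℚ) ^ 2 / (D.f i : ℚ)) := by ring
      rw [this, h1]; ring
    simp_rw [this]
    rw [Finset.sum_sub_distrib, E3, E5, sub_zero]
  have h3 : (3 : ℚ) ≠ 0 := by norm_num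
  exact (mul_eq_zero.mp h).resolve_left h3

theorem h3y_of (E4 : ∑ i, ((D.c 1 i : ℚ) ^ 2 * (D.c 0 i : ℚ)) / (D.f i : ℚ) = 0)
    (E6 : ∑ i, ((D.c 1 i : ℚ) ^ 2 * (D.c 2 i : ℚ)) / (D.f i : ℚ) = 0) :
    ∑ i, (D.R 2 i : ℚ) * ((D.c 1 i : ℚ) ^ 2 / (D.f i : ℚ)) = 0 := by
  have h : (3 : ℚ) * ∑ i, (D.R 2 i : ℚ) * ((D.c 1 i : ℚ) ^ 2 / (D.f i : ℚ)) = 0 := by
    rw [Finset.mul_sum]
    have : ∀ i, (3 : ℚ) * ((D.R 2 i : ℚ) * ((D.c 1 i : ℚ) ^ 2 / (D.f i : ℚ))) =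
        ((D.c 1 i : ℚ) ^ 2 * (D.c 0 i : ℚ)) / (D.f i : ℚ) -
          ((D.c 1 i : ℚ) ^ 2 * (D.c 2 i : ℚ)) / (D.f i : ℚ) := by
      intro i
      have h1 : (3 : ℚ) * (D.R 2 i : ℚ) = (D.c 0 i : ℚ) - (D.c 2 i : ℚ) := by
        have := D.three_r3 i
        rw [D.R2]
        exact_mod_cast this
      have : (3 : ℚ) * ((D.R 2 i : ℚ) * ((D.c 1 i : ℚ) ^ 2 / (D.f i : ℚ))) =
          (3 * (D.R 2 i : ℚ)) * ((D.c 1 i : ℚ) ^ 2 / (D.f i : ℚ)) := by ring
      rw [this, h1]; ring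
    simp_rw [this]
    rw [Finset.sum_sub_distrib, E4, E6, sub_zero]
  have h3 : (3 : ℚ) ≠ 0 := by norm_num
  exact (mul_eq_zero.mp h).resolve_left h3


theorem cellE (σ f a b : ℚ) (hσ : σ = 1 ∨ σ = -1) (hf : f ≠ 0) :
    ((a * σ) ^ 2 * (b * σ)) / f = a ^ 2 * b * (1 / (σ * f)) := by
  rcases hσ with rfl | rfl
  · field_simp
  · field_simp

theorem cellE1 (σ f a b c : ℚ) (hσ : σ = 1 ∨ σ = -1) (hf : f ≠ 0) :
    ((a * σ) * (b * σ) * (c * σ)) / f = a * b * c * (1 / (σ * f)) := by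
  rcases hσ with rfl | rfl
  · field_simp
  · field_simp

/-- **The core theorem**: the column data and the five class-multiplication equations force
`|G| = 36`. -/
theorem core (g : ℕ)
    (E3 : ∑ i, ((D.c 0 i : ℚ) ^ 2 * (D.c 1 i : ℚ)) / (D.f i : ℚ) = 0)
    (E5 : ∑ i, ((D.c 0 i : ℚ) ^ 2 * (D.c 2 i : ℚ)) / (D.f i : ℚ) = 0)
    (E4 : ∑ i, ((D.c 1 i : ℚ) ^ 2 * (D.c 0 i : ℚ)) / (D.f i : ℚ) = 0)
    (E6 : ∑ i, ((D.c 1 i : ℚ) ^ 2 * (D.c 2 i : ℚ)) / (D.f i : ℚ) = 0)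
    (E1 : (g : ℚ) * ∑ i, ((D.c 0 i : ℚ) * (D.c 1 i : ℚ) * (D.c 2 i : ℚ)) / (D.f i : ℚ) = 324) :
    g = 36 := by
  have hS2 := D.stage_S2 (D.h3x_of E3 E5) (D.h3y_of E4 E6)
  obtain ⟨X, σ, hσ, hra, hrb, hcov, hX00⟩ := D.exists_grid hS2
  have hσ0 : ∀ l k, σ l k ≠ 0 := by
    intro l k; rcases hσ l k with h | h <;> rw [h] <;> norm_num
  have hinj : ∀ l k l' k', X l k = X l' k' → l = l' ∧ k = k' := by
    intro l k l' k' h
    constructor
    · by_contra hne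
      have h1 := hrb l k l
      rw [if_pos rfl] at h1
      have h2 := hrb l' k' l
      rw [if_neg hne, ← h, h1] at h2
      exact mul_ne_zero (hσ0 l k) (sg_ne_zero k) h2
    · by_contra hne
      have h1 := hra l k k
      rw [if_pos rfl] at h1
      have h2 := hra l' k' k
      rw [if_neg hne, ← h, h1] at h2
      exact mul_ne_zero (hσ0 l k) (sg_ne_zero l) h2
  -- values on the grid
  have v0 : ∀ l k, D.c 0 (X l k) = (dg k * sg l) * σ l k := by
    intro l k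
    rw [D.c0_eq]
    simp_rw [hra]
    simp only [mul_ite, mul_zero, Finset.sum_ite_eq', Finset.mem_univ, if_true]
    ring
  have v1 : ∀ l k, D.c 1 (X l k) = (dg l * sg k) * σ l k := by
    intro l k
    rw [D.c1_eq]
    simp_rw [hrb]
    simp only [mul_ite, mul_zero, Finset.sum_ite_eq', Finset.mem_univ, if_true]
    ring
  have v2 : ∀ l k, D.c 2 (X l k) = (sg k * sg l) * σ l k := by
    intro l k
    rw [D.c2_eq]
    simp_rw [hra]
    simp only [mul_ite, mul_zero, Finset.sum_ite_eq', Finset.mem_univ, if_true]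
    ring
  -- values off the grid
  have hz : ∀ i, (¬ ∃ l k, i = X l k) → D.c 0 i = 0 ∧ D.c 1 i = 0 ∧ D.c 2 i = 0 := by
    intro i hi
    have h : ∀ k, D.ra k i = 0 ∧ D.rb k i = 0 := by
      intro k
      by_contra hk
      apply hi
      apply hcov
      refine ⟨k, ?_⟩
      by_contra hk2
      apply hk
      constructor
      · by_contra h1; exact hk2 (Or.inl h1)
      · by_contra h1; exact hk2 (Or.inr h1)
    refine ⟨?_, ?_, ?_⟩
    · rw [D.c0_eq]; simp [h]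
    · rw [D.c1_eq]; simp [h]
    · rw [D.c2_eq]; simp [h]
  have hsum : ∀ F : ι → ℚ, (∀ i, D.c 0 i = 0 → D.c 1 i = 0 → D.c 2 i = 0 → F i = 0) →
      ∑ i, F i = ∑ l, ∑ k, F (X l k) := by
    intro F hF
    apply sum_grid X hinj F
    intro i hi
    by_contra hne
    obtain ⟨h0, h1, h2⟩ := hz i hne
    exact hi (hF i h0 h1 h2)
  -- the signed degrees
  set d : Fin 3 → Fin 3 → ℚ := fun l k => (σ l k : ℚ) * (D.f (X l k) : ℚ) with hd
  have hfq : ∀ i, (D.f i : ℚ) ≠ 0 := by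
    intro i
    have := D.f_pos i
    have : (0 : ℚ) < (D.f i : ℚ) := by exact_mod_cast this
    exact ne_of_gt this
  have hσq : ∀ l k, (σ l k : ℚ) = 1 ∨ (σ l k : ℚ) = -1 := by
    intro l k
    rcases hσ l k with h | h
    · left; rw [h]; norm_num
    · right; rw [h]; norm_num
  have hd0 : ∀ l k, d l k ≠ 0 := by
    intro l k
    apply mul_ne_zero
    · exact_mod_cast hσ0 l k
    · exact hfq _
  -- column and row relations
  have hcol : ∀ k, d 2 k = d 0 k + d 1 k := by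
    intro k
    have h := D.deg_a k
    have h2 : ∑ i, D.f i * D.ra k i = ∑ l, ∑ k', D.f (X l k') * D.ra k (X l k') := by
      apply sum_grid X hinj (fun i => D.f i * D.ra k i)
      intro i hi
      apply hcov
      exact ⟨k, Or.inl (right_ne_zero_of_mul hi)⟩
    rw [h2] at h
    simp_rw [hra] at h
    simp only [mul_ite, mul_zero, Finset.sum_ite_eq, Finset.mem_univ, if_true] at h
    rw [Fin.sum_univ_three] at h
    simp only [sg, Matrix.cons_val_zero, Matrix.cons_val_one, Matrix.cons_val] at h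
    have hq : ((D.f (X 0 k) * (σ 0 k * 1) + D.f (X 1 k) * (σ 1 k * 1) +
        D.f (X 2 k) * (σ 2 k * -1) : ℤ) : ℚ) = 0 := by exact_mod_cast h
    push_cast at hq
    simp only [hd]
    linear_combination -hq
  have hrow : ∀ l, d l 2 = d l 0 + d l 1 := by
    intro l
    have h := D.deg_b l
    have h2 : ∑ i, D.f i * D.rb l i = ∑ l', ∑ k, D.f (X l' k) * D.rb l (X l' k) := by
      apply sum_grid X hinj (fun i => D.f i * D.rb l i)
      intro i hi
      apply hcov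
      exact ⟨l, Or.inr (right_ne_zero_of_mul hi)⟩
    rw [h2] at h
    simp_rw [hrb] at h
    simp only [mul_ite, mul_zero, Finset.sum_ite_eq, Finset.mem_univ, if_true] at h
    rw [Finset.sum_comm] at h
    simp only [Finset.sum_ite_eq, Finset.mem_univ, if_true] at h
    rw [Fin.sum_univ_three] at h
    simp only [sg, Matrix.cons_val_zero, Matrix.cons_val_one, Matrix.cons_val] at h
    have hq : ((D.f (X l 0) * (σ l 0 * 1) + D.f (X l 1) * (σ l 1 * 1) +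
        D.f (X l 2) * (σ l 2 * -1) : ℤ) : ℚ) = 0 := by exact_mod_cast h
    push_cast at hq
    simp only [hd]
    linear_combination -hq
  have hd00 : d 0 0 = 1 := by
    have h1 := hra 0 0 0
    rw [if_pos rfl, hX00, D.ra_eq, D.R_i0] at h1
    simp only [sg, Matrix.cons_val_zero, mul_one] at h1
    simp only [hd]
    rw [hX00, D.f_i0, ← h1]
    norm_num
  -- the equations on the grid
  have T3 : ∑ l, ∑ k, ((dg k * sg l : ℤ) : ℚ) ^ 2 * ((dg l * sg k : ℤ) : ℚ) * (1 / d l k) = 0 := by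
    rw [← E3, hsum (fun i => ((D.c 0 i : ℚ) ^ 2 * (D.c 1 i : ℚ)) / (D.f i : ℚ))
      (fun i h0 _ _ => by simp [h0])]
    apply Finset.sum_congr rfl; intro l _
    apply Finset.sum_congr rfl; intro k _
    rw [v0, v1]
    push_cast
    rw [cellE _ _ _ _ (hσq l k) (hfq _)]
  have T5 : ∑ l, ∑ k, ((dg k * sg l : ℤ) : ℚ) ^ 2 * ((sg k * sg l : ℤ) : ℚ) * (1 / d l k) = 0 := by
    rw [← E5, hsum (fun i => ((D.c 0 i : ℚ) ^ 2 * (D.c 2 i : ℚ)) / (D.f i : ℚ))
      (fun i h0 _ _ => by simp [h0])]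
    apply Finset.sum_congr rfl; intro l _
    apply Finset.sum_congr rfl; intro k _
    rw [v0, v2]
    push_cast
    rw [cellE _ _ _ _ (hσq l k) (hfq _)]
  have T4 : ∑ l, ∑ k, ((dg l * sg k : ℤ) : ℚ) ^ 2 * ((dg k * sg l : ℤ) : ℚ) * (1 / d l k) = 0 := by
    rw [← E4, hsum (fun i => ((D.c 1 i : ℚ) ^ 2 * (D.c 0 i : ℚ)) / (D.f i : ℚ))
      (fun i _ h1 _ => by simp [h1])]
    apply Finset.sum_congr rfl; intro l _
    apply Finset.sum_congr rfl; intro k _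
    rw [v0, v1]
    push_cast
    rw [cellE _ _ _ _ (hσq l k) (hfq _)]
  have T6 : ∑ l, ∑ k, ((dg l * sg k : ℤ) : ℚ) ^ 2 * ((sg k * sg l : ℤ) : ℚ) * (1 / d l k) = 0 := by
    rw [← E6, hsum (fun i => ((D.c 1 i : ℚ) ^ 2 * (D.c 2 i : ℚ)) / (D.f i : ℚ))
      (fun i _ h1 _ => by simp [h1])]
    apply Finset.sum_congr rfl; intro l _
    apply Finset.sum_congr rfl; intro k _
    rw [v1, v2]
    push_cast
    rw [cellE _ _ _ _ (hσq l k) (hfq _)]
  have T1 : (g : ℚ) * ∑ l, ∑ k, ((dg k * sg l : ℤ) : ℚ) * ((dg l * sg k : ℤ) : ℚ) *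
      ((sg k * sg l : ℤ) : ℚ) * (1 / d l k) = 324 := by
    rw [← E1, hsum (fun i => ((D.c 0 i : ℚ) * (D.c 1 i : ℚ) * (D.c 2 i : ℚ)) / (D.f i : ℚ))
      (fun i h0 _ _ => by simp [h0])]
    congr 1
    apply Finset.sum_congr rfl; intro l _
    apply Finset.sum_congr rfl; intro k _
    rw [v0, v1, v2]
    push_cast
    rw [cellE1 _ _ _ _ _ (hσq l k) (hfq _)]
  -- expand
  simp only [Fin.sum_univ_three, sg, dg, Matrix.cons_val_zero, Matrix.cons_val_one,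
    Matrix.cons_val] at T3 T5 T4 T6 T1
  push_cast at T3 T5 T4 T6 T1
  have h02 := hrow 0
  have h12 := hrow 1
  have h22 := hrow 2
  have h20 := hcol 0
  have h21 := hcol 1
  rw [hd00] at h02 h20
  rw [h20, h21] at h22
  have n02 := hd0 0 2
  have n12 := hd0 1 2
  have n20 := hd0 2 0
  have n21 := hd0 2 1
  have n22 := hd0 2 2
  have n01 := hd0 0 1
  have n10 := hd0 1 0
  have n11 := hd0 1 1
  rw [h02] at n02
  rw [h12] at n12
  rw [h20] at n20
  rw [h21] at n21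
  rw [h22] at n22
  rw [hd00, h02, h12, h20, h21, h22] at T3 T5 T4 T6 T1
  generalize d 0 1 = u at *
  generalize d 1 0 = v at *
  generalize d 1 1 = w at *
  have hs : 1 + u + v + w ≠ 0 := by
    have e : 1 + u + v + w = 1 + v + (u + w) := by ring
    rw [e]; exact n22
  have e22 : 1 + v + (u + w) = 1 + u + v + w := by ring
  rw [e22] at T3 T5 T4 T6 T1
  obtain ⟨rfl, rfl, rfl⟩ := alg_uvw u v w n01 n10 n11 n02 n12 n20 n21 hs
    (by linear_combination T3) (by linear_combination T5) (by linear_combination T4)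
    (by linear_combination T6)
  norm_num at T1
  have : (g : ℚ) = 36 := by linarith
  exact_mod_cast this

end Cols

end Cfsg.Agent.Lib.Helper8.S3805
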