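import Mathlib
import Cfsg.Agent.Lib.Helper8.SLMinGen
import Cfsg.Agent.Lib.Helper8.SLMinGen2

/-!
helper8: generic leaves for S2332, part 3: the fixed points of `Q` as a representation of a group `H` mapping into the
normalizer of `Q` (Levi-type restriction), with the dimension bookkeeping and the Maschke consequence.
-/

set_option autoImplicit false

namespace Cfsg.Agent.Lib.Helper8.SLMinGen

open Module

variable {G V : Type*} [Group G] [AddCommGroup V] [Module ℂ V]

/-- the fixed points of `Q` as a subrepresentation of `ρ ∘ f`, for `f : H →* G` with image normalizing `Q` -/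
def fixedSubHom (ρ : Representation ℂ G V) (Q : Subgroup G) {H : Type*} [Group H] (f : H →* G)
    (hf : ∀ h, f h ∈ Subgroup.normalizer (Q : Set G)) :
    Subrepresentation (ρ.comp f : Representation ℂ H V) where
  toSubmodule := fixedPts ρ Q
  apply_mem_toSubmodule := fun h _ hv => apply_mem_fixedPts ρ Q (f h) (hf h) hv

/-- the representation of `H` on the fixed points of `Q` -/
noncomputable def fixedRep (ρ : Representation ℂ G V) (Q : Subgroup G) {H : Type*} [Group H] (f : H →* G)
    (hf : ∀ h, f h ∈ Subgroup.normalizer (Q : Set G)) :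
    Representation ℂ H (fixedPts ρ Q) :=
  (fixedSubHom ρ Q f hf).toRepresentation

@[simp] theorem fixedRep_apply (ρ : Representation ℂ G V) (Q : Subgroup G) {H : Type*} [Group H] (f : H →* G)
    (hf : ∀ h, f h ∈ Subgroup.normalizer (Q : Set G)) (h : H) (v : fixedPts ρ Q) :
    ((fixedRep ρ Q f hf h v : fixedPts ρ Q) : V) = ρ (f h) (v : V) := rfl

/-- if `H` acts nontrivially on the fixed points of `Q`, the fixed-point space contains an irreducible
`H`-subrepresentation on which some element acts nontrivially; its dimension bounds `finrank (fixedPts ρ Q)`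
from below -/
theorem exists_irreducible_in_fixed [FiniteDimensional ℂ V] (ρ : Representation ℂ G V) (Q : Subgroup G)
    {H : Type*} [Group H] [Finite H] (f : H →* G)
    (hf : ∀ h, f h ∈ Subgroup.normalizer (Q : Set G)) (h : H) (v : V) (hv : v ∈ fixedPts ρ Q)
    (hmove : ρ (f h) v ≠ v) :
    ∃ W : Subrepresentation (fixedRep ρ Q f hf), W.toRepresentation.IsIrreducible ∧
      (∃ w ∈ W, fixedRep ρ Q f hf h w ≠ w) ∧
      finrank ℂ W.toSubmodule ≤ finrank ℂ (fixedPts ρ Q) := by
  have hne : fixedRep ρ Q f hf h ≠ 1 := by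
    intro h1
    apply hmove
    have := congrArg (fun T : (fixedPts ρ Q) →ₗ[ℂ] (fixedPts ρ Q) => ((T ⟨v, hv⟩ : fixedPts ρ Q) : V)) h1
    simpa using this
  obtain ⟨W, hW, hmv⟩ := exists_irreducible_sub (fixedRep ρ Q f hf) h hne
  exact ⟨W, hW, hmv, Submodule.finrank_le _⟩

end Cfsg.Agent.Lib.Helper8.SLMinGen
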