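/-
helper8 (S2332, stage 0 = leaf C1 of helper16's plan, sub-leaf (M2) of helper25's split):
the Weyl-type element `weyl` of `SL (Unit ⊕ (Unit ⊕ J)) F` moving the row-0 root group `ra` to the
row-1 root group `rb`, and `stage0_hM2`: every non-zero `rb`-weight space has dimension `q`.
-/
import Mathlib
import Cfsg.Agent.Lib.Helper16.SLMinDefs
import Cfsg.Agent.Lib.Helper13.SLMinW

set_option autoImplicit false
set_option linter.unusedSectionVars false

namespace Cfsg.Agent.Lib.Helper8.SLMin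

open Matrix Module Cfsg.Agent.Lib.Helper16.SLMin Cfsg.Agent.Lib.Helper13.SLMin

section weyl

variable {F : Type*} [Field F] {J : Type*} [Fintype J] [DecidableEq J]

/-- the matrix `[[0, 1, 0], [-1, 1, 0], [0, 0, 1]]` -/
def weylM : Matrix (Unit ⊕ (Unit ⊕ J)) (Unit ⊕ (Unit ⊕ J)) F :=
  fromBlocks 0 (replicateRow Unit (Sum.elim (fun _ : Unit => (1 : F)) (0 : J → F)))
    (replicateCol Unit (Sum.elim (fun _ : Unit => (-1 : F)) (0 : J → F))) 1

theorem weylM_det : (weylM (F := F) (J := J)).det = 1 := by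
  unfold weylM
  rw [det_fromBlocks_one₂₂]
  have h : (0 : Matrix Unit Unit F) -
      (replicateRow Unit (Sum.elim (fun _ : Unit => (1 : F)) (0 : J → F)) :
          Matrix Unit (Unit ⊕ J) F) *
        (replicateCol Unit (Sum.elim (fun _ : Unit => (-1 : F)) (0 : J → F)) :
          Matrix (Unit ⊕ J) Unit F) = 1 := by
    ext i j
    simp [Matrix.mul_apply]
  rw [h, det_one]

/-- a Weyl-type element: it moves row `0` to row `1` -/
def weyl : SpecialLinearGroup (Unit ⊕ (Unit ⊕ J)) F := ⟨weylM, weylM_det⟩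

theorem weyl_mul_ra (v : J → F) :
    (weyl : SpecialLinearGroup (Unit ⊕ (Unit ⊕ J)) F) * ra v = rb (-v) * weyl := by
  apply Subtype.ext
  show (weylM : Matrix (Unit ⊕ (Unit ⊕ J)) (Unit ⊕ (Unit ⊕ J)) F) *
      fromBlocks 1 (replicateRow Unit (Sum.elim (0 : Unit → F) v)) 0 1 =
    fromBlocks 1 0 0 (fromBlocks 1 (replicateRow Unit (-v)) 0 1) * weylM
  unfold weylM
  rw [fromBlocks_multiply, fromBlocks_multiply]
  congr 1
  · simp
  · simp
  · ext i j
    rcases i with i | i <;> simp [Matrix.mul_apply]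
  · ext i j
    rcases i with i | i <;> rcases j with j | j <;> simp [Matrix.mul_apply, Matrix.one_apply]

/-- `weyl * ra v * weyl⁻¹ = rb (-v)` -/
theorem weyl_ra (v : J → F) :
    (weyl : SpecialLinearGroup (Unit ⊕ (Unit ⊕ J)) F) * ra v * weyl⁻¹ = rb (-v) := by
  rw [weyl_mul_ra, mul_inv_cancel_right]

end weyl

section M2

variable {F : Type*} [Field F] [Fintype F] [DecidableEq F] {M : Type*} [AddCommGroup M]
  [Module ℂ M] [FiniteDimensional ℂ M] {J : Type*} [Fintype J] [DecidableEq J]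
  (ρ : Representation ℂ (SpecialLinearGroup (Unit ⊕ (Unit ⊕ J)) F) M)

/-- the Weyl element carries `ra`-weight spaces to `rb`-weight spaces -/
theorem map_weyl_wt_ra (w : J → F) :
    Submodule.map (ρ weyl) (wt ρ (ra (F := F) (J := J)) (-w)) = wt ρ (rb (F := F) (J := J)) w := by
  refine map_wt_of_conj ρ (ra (F := F) (J := J)) (rb (F := F) (J := J)) weyl (fun r => -r)
    (fun r => ⟨-r, neg_neg r⟩) (fun r => weyl_ra r) (-w) w (fun r => ?_)
  rw [neg_dotProduct, dotProduct_neg]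

theorem rx_mul_ra (t : Unit → F) (r : J → F) :
    (rx t : SpecialLinearGroup (Unit ⊕ (Unit ⊕ J)) F) * ra r = ra r * rx t := by
  unfold rx ra
  rw [← rad_add, ← rad_add, add_comm]

theorem rx_add (s t : Unit → F) :
    (rx (s + t) : SpecialLinearGroup (Unit ⊕ (Unit ⊕ J)) F) = rx s * rx t := by
  unfold rx
  rw [← rad_add]
  congr 1
  ext i
  rcases i with i | i <;> simp

/-- the `ra`-weight spaces are `rx`-stable -/
theorem rx_mem_wt_ra (v : J → F) (t : Unit → F) (m : M) (hm : m ∈ wt ρ (ra (F := F) (J := J)) v) :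
    ρ (rx t) m ∈ wt ρ (ra (F := F) (J := J)) v := by
  intro r
  have h1 : ρ (ra r) (ρ (rx t) m) = ρ (rx t) (ρ (ra r) m) := by
    show (ρ (ra r) * ρ (rx t)) m = (ρ (rx t) * ρ (ra r)) m
    rw [← map_mul, ← map_mul, rx_mul_ra]
  rw [h1, hm r, map_smul]

/-- (M2) of stage 0: every non-zero `rb`-weight space has dimension `q`. -/
theorem stage0_hM2
    (hm1 : ∀ u : Unit ⊕ J → F, u ≠ 0 →
      finrank ℂ ↥(wt ρ (rad (F := F) (ι' := Unit ⊕ J)) u) = 1) :
    ∀ w : J → F, w ≠ 0 →
      finrank ℂ ↥((⊤ : Submodule ℂ M) ⊓ wt ρ (rb (F := F) (J := J)) w) = Fintype.card F := by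
  intro w hw
  rw [top_inf_eq, ← map_weyl_wt_ra ρ w, finrank_map_rho]
  rw [finrank_eq_sum_inf_wt ρ (rx (F := F) (J := J)) rx_add (wt ρ (ra (F := F) (J := J)) (-w))
    (fun t m hm => rx_mem_wt_ra ρ (-w) t m hm)]
  have hterm : ∀ a : Unit → F,
      finrank ℂ ↥(wt ρ (ra (F := F) (J := J)) (-w) ⊓ wt ρ (rx (F := F) (J := J)) a) = 1 := by
    intro a
    have h6 := wt_sum_elim ρ (rad (F := F) (ι' := Unit ⊕ J)) rad_add a (-w)
    have hne : Sum.elim a (-w) ≠ (0 : Unit ⊕ J → F) := by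
      intro h0
      apply hw
      ext j
      have := congrFun h0 (Sum.inr j)
      simpa using this
    have h1 := hm1 (Sum.elim a (-w)) hne
    rw [h6] at h1
    rw [inf_comm]
    exact h1
  rw [Finset.sum_congr rfl (fun a _ => hterm a)]
  simp

end M2

end Cfsg.Agent.Lib.Helper8.SLMin
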