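/-
helper8 (S2332, stage 0 = leaf C1 of helper16's plan, sub-leaf (X1) of helper25's split):
the mixing element for `|J| = 1`, `q ∉ {2, 4}`: the torus element `diag(b, b, b⁻²)`, `b³ ≠ 1`.
-/
import Mathlib
import Cfsg.Agent.Lib.Helper16.SLMinDefs
import Cfsg.Agent.Lib.Helper13.SLMinW
import Cfsg.Agent.Lib.Helper24.SLMinC1Rel

set_option autoImplicit false
set_option linter.unusedSectionVars false
set_option linter.unusedVariables false

namespace Cfsg.Agent.Lib.Helper8.SLMin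

open Matrix Module Cfsg.Agent.Lib.Helper16.SLMin Cfsg.Agent.Lib.Helper13.SLMin
  Cfsg.Agent.Lib.Helper24.SLMin

section cube

variable {F : Type*} [Field F] [Fintype F]

/-- outside `q = 2, 4` some unit is not a cube root of one -/
theorem exists_unit_cube_ne_one (hq2 : Fintype.card F ≠ 2) (hq4 : Fintype.card F ≠ 4) :
    ∃ b : Fˣ, ((b : F)) ^ 3 ≠ 1 := by
  classical
  by_contra hcon
  simp only [not_exists, not_not] at hcon
  obtain ⟨g, hg⟩ := IsCyclic.exists_generator (α := Fˣ)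
  have hord : orderOf g = Fintype.card Fˣ := by
    rw [orderOf_eq_card_of_forall_mem_zpowers hg, Nat.card_eq_fintype_card]
  have hg3 : g ^ 3 = 1 := by
    apply Units.ext
    rw [Units.val_pow_eq_pow_val, Units.val_one]
    exact hcon g
  have hdvd : orderOf g ∣ 3 := orderOf_dvd_of_pow_eq_one hg3
  rw [hord, Fintype.card_units] at hdvd
  have hle : Fintype.card F - 1 ≤ 3 := Nat.le_of_dvd (by norm_num) hdvd
  have h1 : 1 < Fintype.card F := Fintype.one_lt_card
  have hcases : Fintype.card F = 2 ∨ Fintype.card F = 3 ∨ Fintype.card F = 4 := by omega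
  rcases hcases with h | h | h
  · exact hq2 h
  · rw [h] at hdvd
    norm_num at hdvd
  · exact hq4 h

end cube

section torus

variable {F : Type*} [Field F] {J : Type*} [Fintype J] [DecidableEq J]

/-- the scalar matrix `c • 1` as an element of `GL J F` -/
noncomputable def scalGL (c : Fˣ) : GL J F :=
  Units.map (Matrix.scalar J (α := F)).toMonoidHom c

theorem scalGL_coe (c : Fˣ) :
    ((scalGL c : GL J F) : Matrix J J F) = Matrix.scalar J (c : F) := rfl

theorem scalGL_inv_coe (c : Fˣ) :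
    (((scalGL c)⁻¹ : GL J F) : Matrix J J F) = Matrix.scalar J ((c⁻¹ : Fˣ) : F) := by
  unfold scalGL
  rw [← map_inv]
  rfl

theorem vecMul_scalGL_inv (c : Fˣ) (w : J → F) :
    w ᵥ* (((scalGL c)⁻¹ : GL J F) : Matrix J J F) = ((c⁻¹ : Fˣ) : F) • w := by
  rw [scalGL_inv_coe]
  ext j
  simp [Matrix.vecMul_diagonal, mul_comm]

theorem det_scalGL (c : Fˣ) (h1 : Fintype.card J = 1) :
    ((scalGL c : GL J F) : Matrix J J F).det = (c : F) := by
  rw [scalGL_coe, Matrix.scalar_apply, Matrix.det_diagonal, Finset.prod_const, Finset.card_univ, h1,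
    pow_one]

/-- the torus element `diag(b, b, b⁻²)` (`|J| = 1`) -/
noncomputable def tor (b : Fˣ) : SpecialLinearGroup (Unit ⊕ (Unit ⊕ J)) F :=
  levi (bd b (scalGL (b⁻¹ ^ 2)))

theorem tor_rad (b : Fˣ) (h1 : Fintype.card J = 1) (a : Unit → F) (v : J → F) :
    (tor b : SpecialLinearGroup (Unit ⊕ (Unit ⊕ J)) F) * rad (Sum.elim a v) * (tor b)⁻¹ =
      rad (Sum.elim a (((b : F) ^ 3) • v)) := by
  unfold tor
  rw [levi_bd_rad, det_scalGL _ h1, vecMul_scalGL_inv]
  have hb : (b : F) ≠ 0 := b.ne_zero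
  have e1 : ((b : F) * (((b⁻¹ ^ 2 : Fˣ)) : F))⁻¹ = (b : F) := by
    rw [Units.val_pow_eq_pow_val, Units.val_inv_eq_inv_val]
    field_simp
  have e2 : ((((b⁻¹ ^ 2 : Fˣ))⁻¹ : Fˣ) : F) = (b : F) ^ 2 := by
    rw [inv_pow, inv_inv, Units.val_pow_eq_pow_val]
  rw [e1, e2]
  congr 2
  · ext u
    rw [Pi.smul_apply, smul_eq_mul, Units.val_inv_eq_inv_val, mul_inv_cancel₀ hb, one_mul]
  · rw [smul_smul]
    congr 1
    ring

theorem tor_rx (b : Fˣ) (h1 : Fintype.card J = 1) (t : Unit → F) :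
    (tor b : SpecialLinearGroup (Unit ⊕ (Unit ⊕ J)) F) * rx t * (tor b)⁻¹ = rx t := by
  unfold rx
  rw [tor_rad b h1, smul_zero]

theorem tor_ra (b : Fˣ) (h1 : Fintype.card J = 1) (v : J → F) :
    (tor b : SpecialLinearGroup (Unit ⊕ (Unit ⊕ J)) F) * ra v * (tor b)⁻¹ =
      ra (((b : F) ^ 3) • v) := by
  unfold ra
  rw [tor_rad b h1]

theorem tor_rb (b : Fˣ) (h1 : Fintype.card J = 1) (w : J → F) :
    (tor b : SpecialLinearGroup (Unit ⊕ (Unit ⊕ J)) F) * rb w * (tor b)⁻¹ =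
      rb (((b : F) ^ 3) • w) := by
  unfold tor
  rw [levi_bd_rb, vecMul_scalGL_inv]
  have e2 : ((((b⁻¹ ^ 2 : Fˣ))⁻¹ : Fˣ) : F) = (b : F) ^ 2 := by
    rw [inv_pow, inv_inv, Units.val_pow_eq_pow_val]
  rw [e2, smul_smul]
  congr 2
  ring

end torus

section X1

variable {F : Type*} [Field F] [Fintype F] [DecidableEq F] {M : Type*} [AddCommGroup M]
  [Module ℂ M] [FiniteDimensional ℂ M] {J : Type*} [Fintype J] [DecidableEq J]
  (ρ : Representation ℂ (SpecialLinearGroup (Unit ⊕ (Unit ⊕ J)) F) M)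

theorem smul_surjective_of_ne_zero {c : F} (hc : c ≠ 0) :
    Function.Surjective (fun r : J → F => c • r) := by
  intro r
  refine ⟨c⁻¹ • r, ?_⟩
  show c • c⁻¹ • r = r
  rw [smul_smul, mul_inv_cancel₀ hc, one_smul]

/-- (X1) of stage 0: the mixing element for `|J| = 1`, `q ∉ {2, 4}`. -/
theorem stage0_hMix_eq1 (h1 : Fintype.card J = 1) (hq2 : Fintype.card F ≠ 2)
    (hq4 : Fintype.card F ≠ 4) :
    ∀ a : Unit → F, a ≠ 0 → ∀ w : J → F, w ≠ 0 →
      ∃ (g : SpecialLinearGroup (Unit ⊕ (Unit ⊕ J)) F) (w' : J → F), w' ≠ w ∧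
        Submodule.map (ρ g) ((⊤ : Submodule ℂ M) ⊓ wt ρ (rx (F := F) (J := J)) a ⊓
            wt ρ (ra (F := F) (J := J)) 0) =
          (⊤ : Submodule ℂ M) ⊓ wt ρ (rx (F := F) (J := J)) a ⊓ wt ρ (ra (F := F) (J := J)) 0 ∧
        Submodule.map (ρ g) ((⊤ : Submodule ℂ M) ⊓ wt ρ (ra (F := F) (J := J)) 0 ⊓
            wt ρ (rb (F := F) (J := J)) w) =
          (⊤ : Submodule ℂ M) ⊓ wt ρ (ra (F := F) (J := J)) 0 ⊓
            wt ρ (rb (F := F) (J := J)) w' := by
  intro a _ w hw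
  obtain ⟨b, hb3⟩ := exists_unit_cube_ne_one hq2 hq4
  have hb : (b : F) ≠ 0 := b.ne_zero
  have hc : (b : F) ^ 3 ≠ 0 := pow_ne_zero 3 hb
  have hx : Submodule.map (ρ (tor b)) (wt ρ (rx (F := F) (J := J)) a) =
      wt ρ (rx (F := F) (J := J)) a :=
    map_wt_of_conj ρ (rx (F := F) (J := J)) (rx (F := F) (J := J)) (tor b) id
      Function.surjective_id (fun r => tor_rx b h1 r) a a (fun _ => rfl)
  have ha : Submodule.map (ρ (tor b)) (wt ρ (ra (F := F) (J := J)) 0) =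
      wt ρ (ra (F := F) (J := J)) 0 :=
    map_wt_of_conj ρ (ra (F := F) (J := J)) (ra (F := F) (J := J)) (tor b)
      (fun r => ((b : F) ^ 3) • r) (smul_surjective_of_ne_zero hc) (fun r => tor_ra b h1 r) 0 0
      (fun r => by rw [zero_dotProduct, zero_dotProduct])
  have hbw : Submodule.map (ρ (tor b)) (wt ρ (rb (F := F) (J := J)) w) =
      wt ρ (rb (F := F) (J := J)) ((((b : F) ^ 3)⁻¹) • w) :=
    map_wt_of_conj ρ (rb (F := F) (J := J)) (rb (F := F) (J := J)) (tor b)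
      (fun r => ((b : F) ^ 3) • r) (smul_surjective_of_ne_zero hc) (fun r => tor_rb b h1 r) w
      ((((b : F) ^ 3)⁻¹) • w)
      (fun r => by
        rw [smul_dotProduct, dotProduct_smul, smul_smul, inv_mul_cancel₀ hc, one_smul])
  refine ⟨tor b, (((b : F) ^ 3)⁻¹) • w, ?_, ?_, ?_⟩
  · intro heq
    have h2 : ((((b : F) ^ 3)⁻¹) - 1) • w = 0 := by
      rw [sub_smul, one_smul, heq, sub_self]
    rcases smul_eq_zero.mp h2 with h3 | h3
    · apply hb3
      have h4 : ((b : F) ^ 3)⁻¹ = 1 := sub_eq_zero.mp h3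
      exact inv_injective (h4.trans inv_one.symm)
    · exact hw h3
  · rw [top_inf_eq, map_rho_inf, hx, ha]
  · rw [top_inf_eq, map_rho_inf, ha, hbw]

end X1

end Cfsg.Agent.Lib.Helper8.SLMin
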