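import Mathlib

/-!
# S4004 leaf A1 (`A1_abelian_normal`): a nontrivial finite solvable group has a nontrivial abelian
normal subgroup (helper8; market of helper18, notes/S4004_leaves.lean)
-/

set_option autoImplicit false

namespace Cfsg.Agent.Lib.Helper8.SOT4

/-- **A1**: last nontrivial term of the derived series. -/
theorem A1_abelian_normal {G : Type*} [Group G] [Finite G] [Nontrivial G] (hs : Group.IsSolvable G) :
    ∃ V : Subgroup G, V.Normal ∧ V ≠ ⊥ ∧ ∀ a ∈ V, ∀ b ∈ V, a * b = b * a := by
  classical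
  have hex : ∃ n, derivedSeries G n = ⊥ := (Group.isSolvable_def G).1 hs
  have hspec := Nat.find_spec hex
  have hk0 : Nat.find hex ≠ 0 := by
    intro h0
    rw [h0, derivedSeries_zero] at hspec
    exact top_ne_bot hspec
  obtain ⟨j, hj⟩ := Nat.exists_eq_succ_of_ne_zero hk0
  refine ⟨derivedSeries G j, inferInstance, ?_, ?_⟩
  · intro hbot
    exact Nat.find_min hex (by omega : j < Nat.find hex) hbot
  · intro a ha b hb
    rw [hj, derivedSeries_succ] at hspec
    have hc : a * b * a⁻¹ * b⁻¹ ∈ ⁅derivedSeries G j, derivedSeries G j⁆ :=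
      Subgroup.commutator_mem_commutator ha hb
    rw [hspec, Subgroup.mem_bot] at hc
    have h1 : a * b * a⁻¹ * b⁻¹ * (b * a) = 1 * (b * a) := by rw [hc]
    rw [one_mul] at h1
    rw [← h1]
    group

end Cfsg.Agent.Lib.Helper8.SOT4
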