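import Mathlib
import Cfsg.Agent.Lib.Helper29.SOT4A3

/-!
# S4004 leaf A3 (`A3_sylow_card`): all element orders in `{1, r, r'}`, `V ≠ ⊥` an abelian normal
`r`-subgroup: the Sylow `r'`-subgroups have order `r'` (helper8; market of helper18,
notes/S4004_leaves.lean; on top of helper29's `A3_abs`)
-/

set_option autoImplicit false

namespace Cfsg.Agent.Lib.Helper8.SOT4

/-- **A3**: if `|R| ≠ r'`: `z ∈ Z(R)`, `z ≠ 1`, `y ∈ R \ ⟨z⟩`; all `y w` (`w ∈ ⟨z⟩`) and `z` have order `r'`,
hence act f.p.f. on `V`; `A3_abs` with `A := ↥V`, `φ := MulAut.conjNormal` gives `v^r' = 1 = v^r`, `V = ⊥`. -/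
theorem A3_sylow_card {G : Type*} [Group G] [Finite G] (r r' : ℕ) (hr : r.Prime) [Fact r'.Prime] (hne : r ≠ r')
    (hord : ∀ g : G, orderOf g = 1 ∨ orderOf g = r ∨ orderOf g = r')
    (V : Subgroup G) [V.Normal] (hVc : ∀ a ∈ V, ∀ b ∈ V, a * b = b * a) (hVr : ∀ v ∈ V, v ^ r = 1) (hV : V ≠ ⊥)
    (R : Sylow r' G) (hR : r' ∣ Nat.card G) : Nat.card (R : Subgroup G) = r' := by
  classical
  have hr' : r'.Prime := Fact.out
  have hcop : Nat.Coprime r r' := (Nat.coprime_primes hr hr').2 hne
  -- orders in `R`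
  have hRord : ∀ g : G, g ∈ (R : Subgroup G) → g ≠ 1 → orderOf g = r' := by
    intro g hg hg1
    obtain ⟨k, hk⟩ := R.2 ⟨g, hg⟩
    have hk' : g ^ r' ^ k = 1 := by simpa using congrArg Subtype.val hk
    have hdvd : orderOf g ∣ r' ^ k := orderOf_dvd_of_pow_eq_one hk'
    rcases hord g with h | h | h
    · exact absurd (orderOf_eq_one_iff.1 h) hg1
    · rw [h] at hdvd
      have := (Nat.prime_dvd_prime_iff_eq hr hr').1 (hr.dvd_of_dvd_pow hdvd)
      exact absurd this hne
    · exact h
  -- fixed point freeness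
  have hfpf : ∀ g : G, orderOf g = r' → ∀ a : V, g * a.1 * g⁻¹ = a.1 → a = 1 := by
    intro g hg a hga
    by_contra ha
    have ha1 : a.1 ≠ 1 := fun h => ha (Subtype.ext h)
    have hoa : orderOf a.1 = r := by
      have := orderOf_dvd_of_pow_eq_one (hVr a.1 a.2)
      rcases (Nat.dvd_prime hr).1 this with h | h
      · exact absurd (orderOf_eq_one_iff.1 h) ha1
      · exact h
    have hcomm : Commute g a.1 := by
      show g * a.1 = a.1 * g
      calc g * a.1 = g * a.1 * g⁻¹ * g := by group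
        _ = a.1 * g := by rw [hga]
    have hprod := hcomm.orderOf_mul_eq_mul_orderOf_of_coprime (by rw [hg, hoa]; exact hcop.symm)
    rw [hg, hoa] at hprod
    have h2r := hr.two_le
    have h2r' := hr'.two_le
    rcases hord (g * a.1) with h | h | h
    · rw [h] at hprod; nlinarith
    · rw [h] at hprod; nlinarith
    · rw [h] at hprod; nlinarith
  by_contra hcard
  have hRcard := R.card_eq_multiplicity
  have hk1 : 0 < (Nat.card G).factorization r' :=
    hr'.factorization_pos_of_dvd Nat.card_pos.ne' hR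
  have hk2 : 2 ≤ (Nat.card G).factorization r' := by
    by_contra h
    have h1 : (Nat.card G).factorization r' = 1 := by omega
    rw [h1, pow_one] at hRcard
    exact hcard hRcard
  haveI : Nontrivial ↥(R : Subgroup G) := by
    rw [← Finite.one_lt_card_iff_nontrivial, hRcard]
    exact Nat.one_lt_pow (by omega) hr'.one_lt
  haveI := IsPGroup.center_nontrivial R.2
  obtain ⟨z, hz1⟩ := exists_ne (1 : Subgroup.center ↥(R : Subgroup G))
  obtain ⟨zG, hzG⟩ : ∃ zG : G, zG = ((z : ↥(R : Subgroup G)) : G) := ⟨_, rfl⟩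
  have hzR : zG ∈ (R : Subgroup G) := by rw [hzG]; exact (z : ↥(R : Subgroup G)).2
  have hzG1 : zG ≠ 1 := by
    intro h
    apply hz1
    apply Subtype.ext
    apply Subtype.ext
    rw [← hzG, h]; rfl
  have hzo := hRord zG hzR hzG1
  have hex : ∃ y ∈ (R : Subgroup G), y ∉ Subgroup.zpowers zG := by
    by_contra hcon
    push Not at hcon
    have hle : (R : Subgroup G) ≤ Subgroup.zpowers zG := hcon
    have h1 := Subgroup.card_le_of_le hle
    rw [Nat.card_zpowers, hzo, hRcard] at h1
    have h2 : r' ^ 2 ≤ r' ^ (Nat.card G).factorization r' := Nat.pow_le_pow_right hr'.pos hk2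
    nlinarith [hr'.two_le]
  obtain ⟨y, hyR, hyz⟩ := hex
  have hy1 : y ≠ 1 := fun h => hyz (h ▸ Subgroup.one_mem _)
  have hyo := hRord y hyR hy1
  have hyzc : Commute y zG := by
    have h1 := Subgroup.mem_center_iff.1 z.2 ⟨y, hyR⟩
    have h2 := congrArg Subtype.val h1
    rw [hzG]
    exact h2
  have hzpow : Subgroup.zpowers zG ≤ (R : Subgroup G) := by
    rw [Subgroup.zpowers_le]; exact hzR
  letI : CommGroup ↥V :=
    { (inferInstance : Group ↥V) with mul_comm := fun a b => Subtype.ext (hVc a.1 a.2 b.1 b.2) }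
  have key := Cfsg.Agent.Lib.Helper29.SOT4.A3_abs (MulAut.conjNormal (H := V)) r' hr' y zG hyo hzo hyzc
    (fun a h => hfpf zG hzo a (by
      have := congrArg Subtype.val h
      rwa [MulAut.conjNormal_apply] at this))
    (fun w hw a h => by
      have hyw1 : y * w ≠ 1 := by
        intro h1
        apply hyz
        have : y = w⁻¹ := eq_inv_of_mul_eq_one_left h1
        rw [this]
        exact Subgroup.inv_mem _ hw
      have hywo := hRord (y * w) (Subgroup.mul_mem _ hyR (hzpow hw)) hyw1
      exact hfpf (y * w) hywo a (by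
        have := congrArg Subtype.val h
        rwa [MulAut.conjNormal_apply] at this))
  apply hV
  rw [Subgroup.eq_bot_iff_forall]
  intro v hv
  have h1 : v ^ r' = 1 := by
    have := congrArg Subtype.val (key ⟨v, hv⟩)
    simpa using this
  have h2 : orderOf v ∣ r' := orderOf_dvd_of_pow_eq_one h1
  have h3 : orderOf v ∣ r := orderOf_dvd_of_pow_eq_one (hVr v hv)
  have h4 : orderOf v ∣ 1 := by
    have := Nat.dvd_gcd h3 h2
    rwa [hcop] at this
  exact orderOf_eq_one_iff.1 (Nat.dvd_one.1 h4)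

end Cfsg.Agent.Lib.Helper8.SOT4
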