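import Mathlib

/-!
# S4004 leaf FP (`FP_exists_commute`): an element of prime order `p` commutes with some element of
order `d` as soon as `p` does not divide the number of elements of order `d`
(helper8; market of helper18, notes/S4004_leaves.lean)
-/

set_option autoImplicit false

namespace Cfsg.Agent.Lib.Helper8.SOT4

theorem orderOf_conj8 {G : Type*} [Group G] (x g : G) : orderOf (x * g * x⁻¹) = orderOf g := by
  have := orderOf_injective (MulAut.conj x).toMonoidHom (MulAut.conj x).injective g
  simpa [MulAut.conj_apply] using this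

/-- conjugation by `x` as a permutation of the elements of order `d` -/
def conjPerm8 {G : Type*} [Group G] (d : ℕ) (x : G) : Equiv.Perm {g : G // orderOf g = d} where
  toFun g := ⟨x * g.1 * x⁻¹, by rw [orderOf_conj8]; exact g.2⟩
  invFun g := ⟨x⁻¹ * g.1 * x, by
    have := orderOf_conj8 x⁻¹ g.1
    rw [inv_inv] at this
    rw [this]; exact g.2⟩
  left_inv g := by
    apply Subtype.ext
    show x⁻¹ * (x * g.1 * x⁻¹) * x = g.1
    group
  right_inv g := by
    apply Subtype.ext
    show x * (x⁻¹ * g.1 * x) * x⁻¹ = g.1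
    group

theorem conjPerm8_pow {G : Type*} [Group G] (d : ℕ) (x : G) (k : ℕ) (g : {g : G // orderOf g = d}) :
    (((conjPerm8 d x) ^ k) g).1 = x ^ k * g.1 * (x ^ k)⁻¹ := by
  induction k with
  | zero => simp
  | succ k ih =>
    rw [pow_succ', Equiv.Perm.mul_apply]
    show x * (((conjPerm8 d x) ^ k) g).1 * x⁻¹ = _
    rw [ih, pow_succ']
    group

/-- **FP**: a `p`-group fixed point for the conjugation action on the elements of order `d`. -/
theorem FP_exists_commute {G : Type*} [Group G] [Finite G] (p d : ℕ) (hp : p.Prime) (x : G) (hx : orderOf x = p)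
    (hnd : ¬ p ∣ Nat.card {g : G // orderOf g = d}) : ∃ y : G, orderOf y = d ∧ Commute x y := by
  classical
  haveI : Fact p.Prime := ⟨hp⟩
  haveI := Fintype.ofFinite {g : G // orderOf g = d}
  have hσ : (conjPerm8 d x) ^ p ^ 1 = 1 := by
    rw [pow_one]
    apply Equiv.ext
    intro g
    apply Subtype.ext
    rw [conjPerm8_pow, ← hx, pow_orderOf_eq_one]
    simp
  rw [Nat.card_eq_fintype_card] at hnd
  obtain ⟨y, hy⟩ := Equiv.Perm.exists_fixed_point_of_prime hnd hσ
  refine ⟨y.1, y.2, ?_⟩
  have h1 : x * y.1 * x⁻¹ = y.1 := congrArg Subtype.val hy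
  show x * y.1 = y.1 * x
  calc x * y.1 = x * y.1 * x⁻¹ * x := by group
    _ = y.1 * x := by rw [h1]

end Cfsg.Agent.Lib.Helper8.SOT4
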