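import Mathlib
import Cfsg.Agent.Lib.Helper8.SUField
import Cfsg.Agent.Lib.Helper1.SUMuField

/-!
# S2283: model-free helpers for the special fields `q = 5, 8` (helper8)

* `mk3` : explicit `3 × 3` matrices, `mk3_mul`, `mk3_ext`;
* `subfield_eq_top_of_lt`, `addSubgroup_eq_top_of_lt` : an element whose order exceeds `r - 1` for every
  proper subfield size `r` lies in no proper subfield; an additive subgroup `≠ 0` stable under it is `⊤`.
-/

set_option autoImplicit false

namespace Cfsg.Agent.Lib.Helper8.SU3Mat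

open Matrix

variable {K : Type*} [Field K]

/-- an explicit `3 × 3` matrix -/
def mk3 (a b c d e f g h i : K) : Matrix (Fin 3) (Fin 3) K := !![a, b, c; d, e, f; g, h, i]

theorem mk3_mul (a b c d e f g h i a' b' c' d' e' f' g' h' i' : K) :
    mk3 a b c d e f g h i * mk3 a' b' c' d' e' f' g' h' i' =
      mk3 (a * a' + b * d' + c * g') (a * b' + b * e' + c * h') (a * c' + b * f' + c * i')
        (d * a' + e * d' + f * g') (d * b' + e * e' + f * h') (d * c' + e * f' + f * i')
        (g * a' + h * d' + i * g') (g * b' + h * e' + i * h') (g * c' + h * f' + i * i') := by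
  ext x y
  fin_cases x <;> fin_cases y <;> simp [mk3, Matrix.mul_apply, Fin.sum_univ_three]

theorem mk3_ext {a b c d e f g h i a' b' c' d' e' f' g' h' i' : K}
    (h1 : a = a') (h2 : b = b') (h3 : c = c') (h4 : d = d') (h5 : e = e') (h6 : f = f')
    (h7 : g = g') (h8 : h = h') (h9 : i = i') :
    mk3 a b c d e f g h i = mk3 a' b' c' d' e' f' g' h' i' := by
  subst h1 h2 h3 h4 h5 h6 h7 h8 h9
  rfl

theorem mk3_one : mk3 (1 : K) 0 0 0 1 0 0 0 1 = 1 := by
  ext x y
  fin_cases x <;> fin_cases y <;> simp [mk3]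

section fin

variable {F : Type*} [Field F] [Fintype F]

/-- an element whose order is larger than `r - 1` for all proper subfield sizes `r` lies in no proper
subfield -/
theorem subfield_eq_top_of_lt (t : F) (ht0 : t ≠ 0) (L : Subfield F) (htL : t ∈ L)
    (h : ∀ r e : ℕ, r ^ e = Fintype.card F → 2 ≤ e → 2 ≤ r → r - 1 < orderOf t) : L = ⊤ := by
  classical
  set r := Fintype.card L with hr
  set e := Module.finrank L F with he
  have hcard : Fintype.card F = r ^ e := Module.card_eq_pow_finrank
  have hr2 : 2 ≤ r := Fintype.one_lt_card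
  have he_pos : 0 < e := Module.finrank_pos
  have hord : orderOf t ∣ r - 1 := by
    apply orderOf_dvd_of_pow_eq_one
    have h1 : (⟨t, htL⟩ : L) ≠ 0 := by
      intro h0
      exact ht0 (congrArg Subtype.val h0)
    have h2 := FiniteField.pow_card_sub_one_eq_one (⟨t, htL⟩ : L) h1
    have h3 := congrArg (Subtype.val) h2
    simpa using h3
  have he1 : e = 1 := by
    by_contra hne
    have := h r e hcard.symm (by omega) hr2
    have hle := Nat.le_of_dvd (by omega) hord
    omega
  have hcardL : Fintype.card L = Fintype.card F := by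
    rw [hcard, he1, pow_one]
  have hbij : Function.Bijective (L.subtype : L → F) :=
    (Fintype.bijective_iff_injective_and_card _).2 ⟨L.subtype_injective, hcardL⟩
  rw [eq_top_iff]
  intro x _
  obtain ⟨y, hy⟩ := hbij.2 x
  rw [← hy]
  exact y.2

/-- an additive subgroup `M ≠ 0` stable under multiplication by such a `t` is everything -/
theorem addSubgroup_eq_top_of_lt (t : F) (ht0 : t ≠ 0)
    (h : ∀ r e : ℕ, r ^ e = Fintype.card F → 2 ≤ e → 2 ≤ r → r - 1 < orderOf t)
    (M : AddSubgroup F) (a : F) (ha : a ∈ M) (ha0 : a ≠ 0) (hloop : ∀ x ∈ M, t * x ∈ M) :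
    M = ⊤ := by
  have hK : Cfsg.Agent.Lib.Helper1.SUMuField.mulStab M = ⊤ :=
    subfield_eq_top_of_lt t ht0 _ hloop h
  rw [eq_top_iff]
  intro x _
  have h1 : x * a⁻¹ ∈ Cfsg.Agent.Lib.Helper1.SUMuField.mulStab M := by
    rw [hK]; exact Subfield.mem_top _
  have h2 := h1 a ha
  rwa [mul_assoc, inv_mul_cancel₀ ha0, mul_one] at h2

end fin

end Cfsg.Agent.Lib.Helper8.SU3Mat
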