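import Mathlib
import Cfsg.Agent.Lib.Helper8.SUField
import Cfsg.Agent.Lib.Helper8.SU3Mat

/-!
# S2283, `q = 5`: the field `F_25 = F_5(ω)`, `ω² + ω + 1 = 0`, and the word `w u w²` (helper8)

Data (J-model, `u(a,b) = mk3 1 a b 0 1 (-ā) 0 0 1`, `v(a,b) = mk3 1 0 0 ā 1 0 b (-a) 1`):
`w = v(1, ω)`, `u = u(3 + ω, 1 + 4 ω)`, conjugator `G` (`G u = w G`), `w u w² = X` upper triangular with
multiplier `x₀₀ x̄₁₁ = 2 + 4 ω`, not fixed by `x ↦ x ^ 5`.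
All polynomial identities are `linear_combination`s generated by `work/su3/gen5lean.py` (not shipped).
-/

set_option autoImplicit false
set_option linter.unusedSectionVars false
set_option linter.unusedVariables false

namespace Cfsg.Agent.Lib.Helper8.SU3Q5

open Matrix Cfsg.Agent.Lib.Helper8.SUField Cfsg.Agent.Lib.Helper8.SU3Mat

/-- `F_25 = F_5(ω)` -/
theorem exists_omega5 {K : Type*} [Field K] [Fintype K] (hK : Fintype.card K = 5 ^ 2) :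
    ∃ ω : K, ω ^ 2 = -ω - 1 ∧ (5 : K) = 0 := by
  classical
  have h5 : (5 : K) = 0 := by
    have h := FiniteField.cast_card_eq_zero K
    rw [hK] at h
    have h' : (5 : K) ^ 2 = 0 := by exact_mod_cast h
    exact pow_eq_zero_iff (by norm_num) |>.1 h'
  obtain ⟨g, hg0, hord, -⟩ := exists_gen (F := K)
  have h24 : orderOf g = 24 := by rw [hord, hK]; norm_num
  have h3 : (g ^ 8) ^ 3 = 1 := by
    rw [← pow_mul, show 8 * 3 = 24 by norm_num, ← h24]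
    exact pow_orderOf_eq_one g
  have h1 : g ^ 8 ≠ 1 := by
    intro h1
    have := orderOf_dvd_of_pow_eq_one h1
    rw [h24] at this
    omega
  refine ⟨g ^ 8, ?_, h5⟩
  have hm : (g ^ 8 - 1) * ((g ^ 8) ^ 2 + g ^ 8 + 1) = 0 := by
    linear_combination h3
  rcases mul_eq_zero.1 hm with h | h
  · exact absurd (sub_eq_zero.1 h) h1
  · linear_combination h

/-- `2 + 4 ω` is not fixed by `x ↦ x ^ 5` -/
theorem tau5_not_fixed {K : Type*} [Field K] (ω : K) (hω : ω ^ 2 = -ω - 1) (h5 : (5 : K) = 0)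
    (h3 : (3 + ω : K) = 2 + 4 * ω) : False := by
  -- `1 = 3 ω`, so `ω = 2`, and `ω² + ω + 1 = 7 = 2 ≠ 0`
  have h1 : (1 : K) = 0 := by
    linear_combination (18 : K) * hω - (2 * ((1 - 3 * ω) - 5)) * h3 - 5 * h5
  exact one_ne_zero h1

theorem al5_norm {K : Type*} [Field K] (ω : K) (hω : ω ^ 2 = -ω - 1) (h5 : (5 : K) = 0) :
    (1 + 4 * ω : K) + (1 + 4 * ω) ^ 5 + (3 + ω) * (3 + ω) ^ 5 = 0 := by
  linear_combination (1236 - 234 * ω + 373 * ω ^ 2 + 1041 * ω ^ 3 + ω ^ 4) * hω + (-101 + 96 * ω) * h5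

theorem b5_norm {K : Type*} [Field K] (ω : K) (hω : ω ^ 2 = -ω - 1) (h5 : (5 : K) = 0) :
    (ω : K) + ω ^ 5 + 1 * (1 : K) ^ 5 = 0 := by
  linear_combination (1 - ω ^ 2 + ω ^ 3) * hω

theorem G5_unitary {K : Type*} [Field K] (ω : K) (hω : ω ^ 2 = -ω - 1) (h5 : (5 : K) = 0) :
    (mk3 0 0 (4 + 2 * ω) 0 ω (4 + 3 * ω) (2 + ω) (3 + 3 * ω) 2 : Matrix (Fin 3) (Fin 3) K) * (mk3 (2 ^ 5) ((4 + 3 * ω) ^ 5) ((4 + 2 * ω) ^ 5) ((3 + 3 * ω) ^ 5) (ω ^ 5) ((0 : K) ^ 5) ((2 + ω) ^ 5) ((0 : K) ^ 5) ((0 : K) ^ 5) : Matrix (Fin 3) (Fin 3) K) = mk3 1 0 0 0 1 0 0 0 1 := by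
  rw [mk3_mul]
  exact mk3_ext
    (by linear_combination (182 + 202 * ω + 96 * ω ^ 2 + 22 * ω ^ 3 + 2 * ω ^ 4) * hω + (-11) * h5)
    (by ring)
    (by ring)
    (by linear_combination (-52 + 486 * ω + 1341 * ω ^ 2 + 1003 * ω ^ 3 + 246 * ω ^ 4) * hω + (36 + 45 * ω) * h5)
    (by linear_combination (-1 + ω - ω ^ 3 + ω ^ 4) * hω)
    (by ring)
    (by linear_combination (82 + 4434 * ω + 6579 * ω ^ 2 + 3647 * ω ^ 3 + 729 * ω ^ 4) * hω + (155 + 10 * ω) * h5)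
    (by linear_combination (2823 + 7086 * ω + 5451 * ω ^ 2 + 1863 * ω ^ 3 + 246 * ω ^ 4) * hω + (-155 - 241 * ω) * h5)
    (by linear_combination (2912 + 3232 * ω + 1536 * ω ^ 2 + 352 * ω ^ 3 + 32 * ω ^ 4) * hω + (-173) * h5)

theorem G5_det {K : Type*} [Field K] (ω : K) (hω : ω ^ 2 = -ω - 1) (h5 : (5 : K) = 0) :
    (0 * ω * 2 - 0 * (4 + 3 * ω) * (3 + 3 * ω) - 0 * 0 * 2 + 0 * (4 + 3 * ω) * (2 + ω) + (4 + 2 * ω) * 0 * (3 + 3 * ω) - (4 + 2 * ω) * ω * (2 + ω) : K) = 1 := by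
  linear_combination (-6 - 2 * ω) * hω + (1) * h5

theorem G5_conj {K : Type*} [Field K] (ω : K) (hω : ω ^ 2 = -ω - 1) (h5 : (5 : K) = 0) :
    (mk3 0 0 (4 + 2 * ω) 0 ω (4 + 3 * ω) (2 + ω) (3 + 3 * ω) 2 : Matrix (Fin 3) (Fin 3) K) * (mk3 1 (3 + ω) (1 + 4 * ω) 0 1 (-(((3 + ω) ^ 5))) 0 0 1 : Matrix (Fin 3) (Fin 3) K) = (mk3 1 0 0 ((1 : K) ^ 5) 1 0 ω (-1) 1 : Matrix (Fin 3) (Fin 3) K) * (mk3 0 0 (4 + 2 * ω) 0 ω (4 + 3 * ω) (2 + ω) (3 + 3 * ω) 2 : Matrix (Fin 3) (Fin 3) K) := by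
  rw [mk3_mul, mk3_mul]
  exact mk3_ext
    (by ring)
    (by ring)
    (by ring)
    (by ring)
    (by ring)
    (by linear_combination (-149 - 181 * ω - 75 * ω ^ 2 - 14 * ω ^ 3 - ω ^ 4) * hω + (29 + 17 * ω) * h5)
    (by ring)
    (by linear_combination (1) * hω + (1 + ω) * h5)
    (by linear_combination (-988 - 768 * ω - 267 * ω ^ 2 - 45 * ω ^ 3 - 3 * ω ^ 4) * hω + (53 - 36 * ω) * h5)

theorem word5 {K : Type*} [Field K] (ω : K) (hω : ω ^ 2 = -ω - 1) (h5 : (5 : K) = 0) :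
    (mk3 1 0 0 ((1 : K) ^ 5) 1 0 ω (-1) 1 : Matrix (Fin 3) (Fin 3) K) * (mk3 1 (3 + ω) (1 + 4 * ω) 0 1 (-(((3 + ω) ^ 5))) 0 0 1 : Matrix (Fin 3) (Fin 3) K) * (mk3 1 0 0 ((1 : K) ^ 5) 1 0 ω (-1) 1 : Matrix (Fin 3) (Fin 3) K) * (mk3 1 0 0 ((1 : K) ^ 5) 1 0 ω (-1) 1 : Matrix (Fin 3) (Fin 3) K) =
      mk3 (3 + 2 * ω) (1 + 3 * ω) (1 + 4 * ω) 0 (1 + ω) 4 0 0 (4 + ω) := by
  have s1 : (mk3 1 0 0 ((1 : K) ^ 5) 1 0 ω (-1) 1 : Matrix (Fin 3) (Fin 3) K) * (mk3 1 (3 + ω) (1 + 4 * ω) 0 1 (-(((3 + ω) ^ 5))) 0 0 1 : Matrix (Fin 3) (Fin 3) K) = mk3 1 (3 + ω) (1 + 4 * ω) 1 (4 + ω) 4 ω (3 + 2 * ω) (4 + ω) := by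
    rw [mk3_mul]
    exact mk3_ext
      (by ring)
      (by ring)
      (by ring)
      (by ring)
      (by ring)
      (by linear_combination (-181 - 75 * ω - 14 * ω ^ 2 - ω ^ 3) * hω + (-13 - 29 * ω) * h5)
      (by ring)
      (by linear_combination (1) * hω + (-1) * h5)
      (by linear_combination (185 + 75 * ω + 14 * ω ^ 2 + ω ^ 3) * hω + (11 + 29 * ω) * h5)
  have s2 : (mk3 1 (3 + ω) (1 + 4 * ω) 1 (4 + ω) 4 ω (3 + 2 * ω) (4 + ω) : Matrix (Fin 3) (Fin 3) K) * (mk3 1 0 0 ((1 : K) ^ 5) 1 0 ω (-1) 1 : Matrix (Fin 3) (Fin 3) K) = mk3 (3 * ω) (2 + 2 * ω) (1 + 4 * ω) 0 ω 4 (2 + ω) (4 + ω) (4 + ω) := by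
    rw [mk3_mul]
    exact mk3_ext
      (by linear_combination (4) * hω + (-ω) * h5)
      (by linear_combination (-ω) * h5)
      (by ring)
      (by linear_combination (1 + ω) * h5)
      (by ring)
      (by ring)
      (by linear_combination (1) * hω + (ω) * h5)
      (by linear_combination (-1) * h5)
      (by ring)
  have s3 : (mk3 (3 * ω) (2 + 2 * ω) (1 + 4 * ω) 0 ω 4 (2 + ω) (4 + ω) (4 + ω) : Matrix (Fin 3) (Fin 3) K) * (mk3 1 0 0 ((1 : K) ^ 5) 1 0 ω (-1) 1 : Matrix (Fin 3) (Fin 3) K) = mk3 (3 + 2 * ω) (1 + 3 * ω) (1 + 4 * ω) 0 (1 + ω) 4 0 0 (4 + ω) := by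
    rw [mk3_mul]
    exact mk3_ext
      (by linear_combination (4) * hω + (-1) * h5)
      (by linear_combination (-ω) * h5)
      (by ring)
      (by linear_combination (ω) * h5)
      (by linear_combination (-1) * h5)
      (by ring)
      (by linear_combination (1) * hω + (1 + ω) * h5)
      (by ring)
      (by ring)
  rw [s1, s2, s3]

theorem tau5 {K : Type*} [Field K] (ω : K) (hω : ω ^ 2 = -ω - 1) (h5 : (5 : K) = 0) :
    (3 + 2 * ω : K) * (1 + ω) ^ 5 = 2 + 4 * ω := by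
  linear_combination (1 + 17 * ω + 22 * ω ^ 2 + 11 * ω ^ 3 + 2 * ω ^ 4) * hω + (-ω) * h5

theorem tau5_bar {K : Type*} [Field K] (ω : K) (hω : ω ^ 2 = -ω - 1) (h5 : (5 : K) = 0) :
    (2 + 4 * ω : K) ^ 5 = 3 + ω := by
  linear_combination (-256 + 1536 * ω ^ 2 + 1024 * ω ^ 3) * hω + (57 + 115 * ω) * h5

end Cfsg.Agent.Lib.Helper8.SU3Q5
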