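import Mathlib
import Cfsg.Agent.Lib.Helper16.FusSUA
import Cfsg.Agent.Lib.Helper8.SU3Mat

/-!
# S2283: scaffolding for the special fields (helper8)

Explicit `3 × 3` elements of helper16's `UJ σ 3` given by `mk3`-data: adjoint, determinant, membership;
`subfield_eq_top_of_frob_ne` / `addSubgroup_eq_top_of_frob_ne` (prime `q`: an element not fixed by
`x ↦ x ^ q` lies in no proper subfield of a field with `q ^ 2` elements).
-/

set_option autoImplicit false
set_option linter.unusedSectionVars false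

namespace Cfsg.Agent.Lib.Helper8.SU3Sp

open Matrix Cfsg.Agent.Lib.Helper16.FusSU Cfsg.Agent.Lib.Helper8.SU3Mat

variable {K : Type*} [Field K] (σ : K →+* K)

theorem adj_mk3 (a b c d e f g h i : K) :
    adj σ (mk3 a b c d e f g h i) = mk3 (σ i) (σ f) (σ c) (σ h) (σ e) (σ b) (σ g) (σ d) (σ a) := by
  ext x y
  fin_cases x <;> fin_cases y <;> simp [mk3, adj_apply, Fin.rev]

theorem det_mk3 (a b c d e f g h i : K) :
    (mk3 a b c d e f g h i).det = a * e * i - a * f * h - b * d * i + b * f * g + c * d * h - c * e * g := by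
  unfold mk3
  rw [Matrix.det_fin_three]
  simp

theorem mk3_apply_00 (a b c d e f g h i : K) : mk3 a b c d e f g h i 0 0 = a := rfl
theorem mk3_apply_11 (a b c d e f g h i : K) : mk3 a b c d e f g h i 1 1 = e := rfl
theorem mk3_apply_10 (a b c d e f g h i : K) : mk3 a b c d e f g h i 1 0 = d := rfl
theorem mk3_apply_20 (a b c d e f g h i : K) : mk3 a b c d e f g h i 2 0 = g := rfl

/-- an element of `SL₃` from `mk3`-data -/
def sl3 (a b c d e f g h i : K)
    (hdet : a * e * i - a * f * h - b * d * i + b * f * g + c * d * h - c * e * g = 1) :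
    SpecialLinearGroup (Fin 3) K :=
  ⟨mk3 a b c d e f g h i, by rw [det_mk3]; exact hdet⟩

theorem sl3_coe (a b c d e f g h i : K) (hdet) :
    ((sl3 a b c d e f g h i hdet : SpecialLinearGroup (Fin 3) K) : Matrix (Fin 3) (Fin 3) K) =
      mk3 a b c d e f g h i := rfl

/-- membership in `UJ σ 3` of `mk3`-data: `M * adj M = 1` entrywise -/
theorem sl3_mem (a b c d e f g h i : K) (hdet)
    (hM : mk3 a b c d e f g h i * mk3 (σ i) (σ f) (σ c) (σ h) (σ e) (σ b) (σ g) (σ d) (σ a) =
      mk3 1 0 0 0 1 0 0 0 1) :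
    sl3 a b c d e f g h i hdet ∈ UJ σ 3 := by
  rw [mem_UJ, sl3_coe, adj_mk3, hM, mk3_one]

/-- the upper unitriangular element `u(a,b)` -/
def uS (a b : K) : SpecialLinearGroup (Fin 3) K :=
  sl3 1 a b 0 1 (-σ a) 0 0 1 (by ring)

/-- the lower unitriangular element `v(a,b)` -/
def vS (a b : K) : SpecialLinearGroup (Fin 3) K :=
  sl3 1 0 0 (σ a) 1 0 b (-a) 1 (by ring)

theorem uS_coe (a b : K) :
    ((uS σ a b : SpecialLinearGroup (Fin 3) K) : Matrix (Fin 3) (Fin 3) K) =
      mk3 1 a b 0 1 (-σ a) 0 0 1 := rfl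

theorem vS_coe (a b : K) :
    ((vS σ a b : SpecialLinearGroup (Fin 3) K) : Matrix (Fin 3) (Fin 3) K) =
      mk3 1 0 0 (σ a) 1 0 b (-a) 1 := rfl

theorem uS_mem (hσ : ∀ x, σ (σ x) = x) {a b : K} (h : b + σ b + a * σ a = 0) :
    uS σ a b ∈ UJ σ 3 := by
  rw [mem_UJ, uS_coe, adj_mk3, mk3_mul, ← mk3_one]
  apply mk3_ext <;> simp only [map_one, map_zero, map_neg, hσ] <;> first | ring1 | linear_combination h

theorem vS_mem (hσ : ∀ x, σ (σ x) = x) {a b : K} (h : b + σ b + a * σ a = 0) :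
    vS σ a b ∈ UJ σ 3 := by
  rw [mem_UJ, vS_coe, adj_mk3, mk3_mul, ← mk3_one]
  apply mk3_ext <;> simp only [map_one, map_zero, map_neg, hσ] <;> first | ring1 | linear_combination h

/-- regularity of `u(a,b)`, `a ≠ 0` -/
theorem uS_regular {a b : K} (ha : a ≠ 0) :
    IsNilpotent (((uS σ a b : SpecialLinearGroup (Fin 3) K) : Matrix (Fin 3) (Fin 3) K) - 1) ∧
      (((uS σ a b : SpecialLinearGroup (Fin 3) K) : Matrix (Fin 3) (Fin 3) K) - 1) ^ 2 ≠ 0 := by
  have e1 : ((uS σ a b : SpecialLinearGroup (Fin 3) K) : Matrix (Fin 3) (Fin 3) K) - 1 =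
      mk3 0 a b 0 0 (-σ a) 0 0 0 := by
    rw [uS_coe, ← mk3_one]
    ext x y
    fin_cases x <;> fin_cases y <;> simp [mk3]
  rw [e1]
  have e2 : (mk3 0 a b 0 0 (-σ a) 0 0 0 : Matrix (Fin 3) (Fin 3) K) ^ 2 =
      mk3 0 0 (-(a * σ a)) 0 0 0 0 0 0 := by
    rw [pow_two, mk3_mul]
    apply mk3_ext <;> ring
  constructor
  · refine ⟨3, ?_⟩
    rw [pow_succ, e2, mk3_mul]
    have : (0 : Matrix (Fin 3) (Fin 3) K) = mk3 0 0 0 0 0 0 0 0 0 := by
      ext x y
      fin_cases x <;> fin_cases y <;> simp [mk3]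
    rw [this]
    apply mk3_ext <;> ring
  · rw [e2]
    intro h0
    have := congrFun (congrFun h0 0) 2
    exact ha (by simpa [mk3] using this)

section fin

variable {F : Type*} [Field F] [Fintype F] {q : ℕ}

/-- `q` prime: an element not fixed by `x ↦ x ^ q` lies in no proper subfield -/
theorem subfield_eq_top_of_frob_ne (hF : Fintype.card F = q ^ 2) (hq : q.Prime) (t : F)
    (ht : t ^ q ≠ t) (L : Subfield F) (htL : t ∈ L) : L = ⊤ := by
  classical
  set r := Fintype.card L with hr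
  set e := Module.finrank L F with he
  have hcard : Fintype.card F = r ^ e := Module.card_eq_pow_finrank
  have hr2 : 2 ≤ r := Fintype.one_lt_card
  have he_pos : 0 < e := Module.finrank_pos
  have hrq : r ∣ q ^ 2 := by
    rw [← hF, hcard]
    exact dvd_pow_self r (by omega)
  obtain ⟨k, hk2, hk⟩ := (Nat.dvd_prime_pow hq).1 hrq
  have hcardL : Fintype.card L = Fintype.card F := by
    rcases Nat.lt_or_ge k 2 with hlt | hge
    · exfalso
      have hk1 : k = 1 := by
        rcases Nat.eq_zero_or_pos k with h0 | h0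
        · rw [h0, pow_zero] at hk
          omega
        · omega
      rw [hk1, pow_one] at hk
      -- every element of `L` is fixed
      have h1 := FiniteField.pow_card (⟨t, htL⟩ : L)
      rw [← hr, hk] at h1
      apply ht
      have := congrArg Subtype.val h1
      simpa using this
    · have : k = 2 := by omega
      rw [← hr, hk, this, hF]
  have hbij : Function.Bijective (L.subtype : L → F) :=
    (Fintype.bijective_iff_injective_and_card _).2 ⟨L.subtype_injective, hcardL⟩
  rw [eq_top_iff]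
  intro x _
  obtain ⟨y, hy⟩ := hbij.2 x
  rw [← hy]
  exact y.2

/-- an additive subgroup `M ≠ 0` stable under multiplication by such a `t` is everything -/
theorem addSubgroup_eq_top_of_frob_ne (hF : Fintype.card F = q ^ 2) (hq : q.Prime) (t : F)
    (ht : t ^ q ≠ t) (M : AddSubgroup F) (a : F) (ha : a ∈ M) (ha0 : a ≠ 0)
    (hloop : ∀ x ∈ M, t * x ∈ M) : M = ⊤ := by
  have hK : Cfsg.Agent.Lib.Helper1.SUMuField.mulStab M = ⊤ :=
    subfield_eq_top_of_frob_ne hF hq t ht _ hloop
  rw [eq_top_iff]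
  intro x _
  have h1 : x * a⁻¹ ∈ Cfsg.Agent.Lib.Helper1.SUMuField.mulStab M := by
    rw [hK]; exact Subfield.mem_top _
  have h2 := h1 a ha
  rwa [mul_assoc, inv_mul_cancel₀ ha0, mul_one] at h2

end fin

end Cfsg.Agent.Lib.Helper8.SU3Sp
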