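import Mathlib
import Cfsg.Agent.Lib.Helper5.SU3Core
import Cfsg.Agent.Lib.Helper23.SUBridge2
import Cfsg.Agent.Lib.Helper8.SU3Sp
import Cfsg.Agent.Lib.Helper8.SU3Q5F

/-!
# S2283, the case `q = 5` (helper8)

`su3_q5 hK : ∃ u g : ↥(UJ (frobHom hK) 3), regular u ∧ closure {u, g u g⁻¹} = ⊤` for `card K = 5 ^ 2`,
in helper16's antidiagonal model; the same shape as helper20's `su3_q8`.  Proof: the data of
`SU3Q5F` (word `w u w²`, multiplier `2 + 4 ω` not in `F_5`) + helper5's `core_of_borel` + helper23's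
`closure_eq_top_of_Rt_all`.
-/

set_option autoImplicit false
set_option linter.unusedSectionVars false
set_option linter.unusedVariables false

namespace Cfsg.Agent.Lib.Helper8.SU3Q5

open Matrix Cfsg.Agent.Lib.Helper16.FusSU Cfsg.Agent.Lib.Helper4.SU3
open Cfsg.Agent.Lib.Helper5.HermBridge (frobHom)
open Cfsg.Agent.Lib.Helper8.SU3Mat Cfsg.Agent.Lib.Helper8.SU3Sp Cfsg.Agent.Lib.Helper8.SUField

variable {K : Type*} [Field K] [Fintype K]

theorem su3_q5_Rt (hK : Fintype.card K = 5 ^ 2) :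
    ∃ u g : ↥(UJ (frobHom hK) 3),
      (IsNilpotent (((u : SpecialLinearGroup (Fin 3) K) : Matrix (Fin 3) (Fin 3) K) - 1) ∧
        (((u : SpecialLinearGroup (Fin 3) K) : Matrix (Fin 3) (Fin 3) K) - 1) ^ (3 - 1) ≠ 0) ∧
      ∀ v : Fin 3 → K, hJ (frobHom hK) v v = 0 →
        v ∈ Rt (σ := frobHom hK)
          ((Subgroup.closure ({u, g * u * g⁻¹} : Set ↥(UJ (frobHom hK) 3))).map
            (UJ (frobHom hK) 3).subtype) := by
  classical
  set σ : K →+* K := frobHom hK with hσdef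
  have hσ : ∀ x, σ (σ x) = x := fun x =>
    Cfsg.Agent.Lib.Helper5.HermBridge.pow_q_pow_q hK x
  have hσ5 : ∀ x : K, σ x = x ^ 5 := fun _ => rfl
  obtain ⟨ω, hω, h5⟩ := exists_omega5 hK
  have hω0 : ω ≠ 0 := by
    intro h
    rw [h] at hω
    have : (1 : K) = 0 := by linear_combination hω
    exact one_ne_zero this
  have hα : (3 + ω : K) ≠ 0 := by
    intro h
    have : (1 : K) = 0 := by linear_combination (3 : K) * hω - (3 * (ω - 2)) * h - 4 * h5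
    exact one_ne_zero this
  -- the elements
  set uE : SpecialLinearGroup (Fin 3) K := uS σ (3 + ω) (1 + 4 * ω) with huE
  have huE_mem : uE ∈ UJ σ 3 := uS_mem σ hσ (by
    rw [hσ5, hσ5]
    exact al5_norm ω hω h5)
  set wE : SpecialLinearGroup (Fin 3) K := vS σ 1 ω with hwE
  have hwE_mem : wE ∈ UJ σ 3 := vS_mem σ hσ (by
    rw [hσ5, hσ5]
    exact b5_norm ω hω h5)
  set gE : SpecialLinearGroup (Fin 3) K :=
    sl3 0 0 (4 + 2 * ω) 0 ω (4 + 3 * ω) (2 + ω) (3 + 3 * ω) 2 (G5_det ω hω h5) with hgE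
  have hgE_mem : gE ∈ UJ σ 3 := by
    apply sl3_mem
    simp only [hσ5]
    exact G5_unitary ω hω h5
  have hconj : gE * uE * gE⁻¹ = wE := by
    have e : gE * uE = wE * gE := by
      apply Subtype.ext
      rw [Matrix.SpecialLinearGroup.coe_mul, Matrix.SpecialLinearGroup.coe_mul, hgE, huE, hwE,
        sl3_coe, uS_coe, vS_coe]
      simp only [hσ5]
      exact G5_conj ω hω h5
    rw [e, mul_inv_cancel_right]
  -- the subgroup
  set X : Subgroup (SpecialLinearGroup (Fin 3) K) := Subgroup.closure {uE, wE} with hXdef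
  have huX : uE ∈ X := Subgroup.subset_closure (by simp)
  have hwX : wE ∈ X := Subgroup.subset_closure (by simp)
  have hX : X ≤ UJ σ 3 := by
    rw [hXdef, Subgroup.closure_le]
    rintro y (rfl | rfl)
    · exact huE_mem
    · exact hwE_mem
  -- the word
  obtain ⟨xE, hxE⟩ : ∃ xE : SpecialLinearGroup (Fin 3) K, xE = wE * uE * wE * wE := ⟨_, rfl⟩
  have hxX : xE ∈ X := by
    rw [hxE]
    exact X.mul_mem (X.mul_mem (X.mul_mem hwX huX) hwX) hwX
  have hxM : ((xE : SpecialLinearGroup (Fin 3) K) : Matrix (Fin 3) (Fin 3) K) =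
      mk3 (3 + 2 * ω) (1 + 3 * ω) (1 + 4 * ω) 0 (1 + ω) 4 0 0 (4 + ω) := by
    rw [hxE]
    simp only [Matrix.SpecialLinearGroup.coe_mul]
    rw [hwE, huE, uS_coe, vS_coe]
    simp only [hσ5]
    exact word5 ω hω h5
  -- the field hypotheses
  have hτ : ((2 + 4 * ω : K)) ^ 5 ≠ 2 + 4 * ω := by
    rw [tau5_bar ω hω h5]
    exact fun h => tau5_not_fixed ω hω h5 h
  have hne : ∃ z, σ z ≠ z := ⟨2 + 4 * ω, hτ⟩
  have hsk : ∀ c, σ c = -c → ∃ z, z - σ z = c := by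
    intro c hc
    obtain ⟨s, hs⟩ := exists_frob_sub_eq hK c hc
    refine ⟨-s, ?_⟩
    rw [hσ5, neg_pow_q hK]
    linear_combination hs
  have hall : ∀ v : Fin 3 → K, hJ σ v v = 0 → v ∈ Rt (σ := σ) X := by
    intro v hv
    refine Cfsg.Agent.Lib.Helper5.SU3C.core_of_borel hσ hX hne hsk huX hwX hxX
      (α := 3 + ω) (β := 1 + 4 * ω) ?_ hα ?_ ?_ ?_ ?_ v hv
    · rfl
    · rw [hwE, vS_coe]
      exact hω0
    · rw [hxM]
      rfl
    · rw [hxM]
      rfl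
    · intro M hM hloop
      obtain ⟨a, ha, ha0⟩ := hM
      rw [hxM] at hloop
      have e : (mk3 (3 + 2 * ω) (1 + 3 * ω) (1 + 4 * ω) 0 (1 + ω) 4 0 0 (4 + ω) :
          Matrix (Fin 3) (Fin 3) K) 0 0 *
          σ ((mk3 (3 + 2 * ω) (1 + 3 * ω) (1 + 4 * ω) 0 (1 + ω) 4 0 0 (4 + ω) :
          Matrix (Fin 3) (Fin 3) K) 1 1) = 2 + 4 * ω := by
        rw [mk3_apply_00, mk3_apply_11, hσ5]
        exact tau5 ω hω h5
      rw [e] at hloop
      exact addSubgroup_eq_top_of_frob_ne hK Nat.prime_five (2 + 4 * ω) hτ M a ha ha0 hloop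
  -- package
  refine ⟨⟨uE, huE_mem⟩, ⟨gE, hgE_mem⟩, ?_, ?_⟩
  · exact uS_regular σ hα
  · have hmap : (Subgroup.closure ({⟨uE, huE_mem⟩, (⟨gE, hgE_mem⟩ : ↥(UJ σ 3)) * ⟨uE, huE_mem⟩ *
        (⟨gE, hgE_mem⟩ : ↥(UJ σ 3))⁻¹} : Set ↥(UJ σ 3))).map (UJ σ 3).subtype = X := by
      rw [MonoidHom.map_closure, hXdef, Set.image_pair]
      have e : (UJ σ 3).subtype ((⟨gE, hgE_mem⟩ : ↥(UJ σ 3)) * ⟨uE, huE_mem⟩ *
          (⟨gE, hgE_mem⟩ : ↥(UJ σ 3))⁻¹) = wE := hconj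
      rw [e]
      rfl
    rw [hmap]
    exact hall

/-- **the case `q = 5` of S2283** in the antidiagonal model -/
theorem su3_q5 (hK : Fintype.card K = 5 ^ 2) :
    ∃ u g : ↥(UJ (frobHom hK) 3),
      (IsNilpotent (((u : SpecialLinearGroup (Fin 3) K) : Matrix (Fin 3) (Fin 3) K) - 1) ∧
        (((u : SpecialLinearGroup (Fin 3) K) : Matrix (Fin 3) (Fin 3) K) - 1) ^ (3 - 1) ≠ 0) ∧
      Subgroup.closure ({u, g * u * g⁻¹} : Set ↥(UJ (frobHom hK) 3)) = ⊤ := by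
  obtain ⟨u, g, hreg, hall⟩ := su3_q5_Rt hK
  exact ⟨u, g, hreg, Cfsg.Agent.Lib.Helper23.SUBridge.closure_eq_top_of_Rt_all hK le_rfl
    (by norm_num) _ hall⟩

end Cfsg.Agent.Lib.Helper8.SU3Q5
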