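import Mathlib
import Cfsg.Agent.Lib.Helper8.SUField
import Cfsg.Agent.Lib.Helper8.SU3Mat

/-!
# S2283, `q = 8`: the field `F_64 = F_2(μ, ω)` and the word `w u w u² w` (helper8)

`μ ^ 3 = μ + 1` (`μ ∈ F_8`), `ω ^ 2 = ω + 1` (`ω^8 = ω + 1`).  Data (J-model, `u(a,b) = mk3 1 a b 0 1 (-ā) 0 0 1`,
`v(a,b) = mk3 1 0 0 ā 1 0 b (-a) 1`): `w = v(1, μ + μ² + ω)`, `u = u(α, β)`, `α = μ² + μ² ω`,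
`β = 1 + μ + μ² + μ ω + μ² ω`; then `w u w u² w = mk3 l 0 c 0 m 0 0 0 c` with `l² = μ ω l^8`.
All polynomial identities are `linear_combination`s generated by `work/su3/gen8lean.py` (not shipped).
-/

set_option autoImplicit false
set_option linter.unusedSectionVars false
set_option linter.unusedVariables false
set_option linter.style.haveILetI false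

namespace Cfsg.Agent.Lib.Helper8.SU3Q8

open Matrix Cfsg.Agent.Lib.Helper8.SUField Cfsg.Agent.Lib.Helper8.SU3Mat

section exist

variable {K : Type*} [Field K] [Fintype K]

/-- an element of order `7` generating the nonzero fixed elements -/
theorem exists_nu (hK : Fintype.card K = 8 ^ 2) :
    ∃ ν : K, ν ^ 7 = 1 ∧ ν ≠ 1 ∧ ∀ y : K, y ≠ 0 → y ^ 8 = y → ∃ k : ℕ, y = ν ^ k := by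
  classical
  obtain ⟨g, hg0, hord, hgen⟩ := exists_gen (F := K)
  have h63 : orderOf g = 63 := by rw [hord, hK]; norm_num
  refine ⟨g ^ 9, ?_, ?_, ?_⟩
  · rw [← pow_mul, show 9 * 7 = 63 by norm_num, ← h63]
    exact pow_orderOf_eq_one g
  · intro h1
    have := orderOf_dvd_of_pow_eq_one h1
    rw [h63] at this
    omega
  · intro y hy hyq
    obtain ⟨j, rfl⟩ := hgen y hy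
    have h7 : (g ^ j) ^ 7 = 1 := by
      have hne : g ^ j ≠ 0 := pow_ne_zero _ hg0
      have : (g ^ j) ^ 7 * g ^ j = g ^ j := by
        rw [← pow_succ]
        exact hyq
      exact mul_right_cancel₀ hne (by rw [this, one_mul])
    rw [← pow_mul] at h7
    have hdvd := orderOf_dvd_of_pow_eq_one h7
    rw [h63] at hdvd
    have h9 : 9 ∣ j := by
      have : 9 * 7 ∣ j * 7 := by simpa using hdvd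
      exact Nat.dvd_of_mul_dvd_mul_right (by norm_num) this
    obtain ⟨k, rfl⟩ := h9
    exact ⟨k, by rw [pow_mul]⟩

/-- a primitive cube root of unity -/
theorem exists_omega (hK : Fintype.card K = 8 ^ 2) : ∃ ω : K, ω ^ 2 + ω + 1 = 0 := by
  classical
  obtain ⟨g, hg0, hord, -⟩ := exists_gen (F := K)
  have h63 : orderOf g = 63 := by rw [hord, hK]; norm_num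
  have h3 : (g ^ 21) ^ 3 = 1 := by
    rw [← pow_mul, show 21 * 3 = 63 by norm_num, ← h63]
    exact pow_orderOf_eq_one g
  have h1 : g ^ 21 ≠ 1 := by
    intro h1
    have := orderOf_dvd_of_pow_eq_one h1
    rw [h63] at this
    omega
  refine ⟨g ^ 21, ?_⟩
  have hm : (g ^ 21 - 1) * ((g ^ 21) ^ 2 + g ^ 21 + 1) = 0 := by
    linear_combination h3
  rcases mul_eq_zero.1 hm with h | h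
  · exact absurd (sub_eq_zero.1 h) h1
  · exact h

/-- **`F_64 = F_2(μ, ω)`** -/
theorem exists_mu_omega (hK : Fintype.card K = 8 ^ 2) :
    ∃ μ ω : K, μ ^ 3 = μ + 1 ∧ ω ^ 2 = ω + 1 ∧ (2 : K) = 0 ∧ μ ^ 8 = μ ∧ ω ^ 8 = ω + 1 ∧
      (∀ y : K, y ≠ 0 → y ^ 8 = y → ∃ k : ℕ, y = μ ^ k) := by
  classical
  have h2 : (2 : K) = 0 := two_eq_zero_of_q_even hK ⟨4, by norm_num⟩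
  obtain ⟨ω, hω⟩ := exists_omega hK
  have hω2 : ω ^ 2 = ω + 1 := by linear_combination hω - (ω + 1) * h2
  have hω8 : ω ^ 8 = ω + 1 := by
    linear_combination (ω ^ 6 + ω ^ 5 + 2 * ω ^ 4 + 3 * ω ^ 3 + 5 * ω ^ 2 + 8 * ω + 13) * hω2 +
      (10 * ω + 6) * h2
  obtain ⟨ν, hν7, hν1, hνgen⟩ := exists_nu hK
  have hsum : ν ^ 6 + ν ^ 5 + ν ^ 4 + ν ^ 3 + ν ^ 2 + ν + 1 = 0 := by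
    have hm : (ν - 1) * (ν ^ 6 + ν ^ 5 + ν ^ 4 + ν ^ 3 + ν ^ 2 + ν + 1) = 0 := by
      linear_combination hν7
    rcases mul_eq_zero.1 hm with h | h
    · exact absurd (sub_eq_zero.1 h) hν1
    · exact h
  have hprod : (ν ^ 3 + ν + 1) * (ν ^ 3 + ν ^ 2 + 1) = 0 := by
    linear_combination hsum + ν ^ 3 * h2
  rcases mul_eq_zero.1 hprod with hA | hB
  · refine ⟨ν, ω, ?_, hω2, h2, ?_, hω8, hνgen⟩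
    · linear_combination hA - (ν + 1) * h2
    · rw [pow_succ, hν7, one_mul]
  · refine ⟨ν ^ 6, ω, ?_, hω2, h2, ?_, hω8, ?_⟩
    · linear_combination (-187 + 128 * ν - 87 * ν ^ 2 + 59 * ν ^ 3 - 41 * ν ^ 4 + 28 * ν ^ 5 - 19 * ν ^ 6 + 13 * ν ^ 7 - 9 * ν ^ 8 + 6 * ν ^ 9 - 4 * ν ^ 10 + 3 * ν ^ 11 - 2 * ν ^ 12 + ν ^ 13 - ν ^ 14 + ν ^ 15) * hB + (93 - 64 * ν + 137 * ν ^ 2) * h2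
    · calc (ν ^ 6) ^ 8 = (ν ^ 7) ^ 6 * ν ^ 6 := by ring
        _ = ν ^ 6 := by rw [hν7, one_pow, one_mul]
    · intro y hy hyq
      obtain ⟨k, rfl⟩ := hνgen y hy hyq
      refine ⟨6 * k, ?_⟩
      have : (ν ^ 6) ^ 6 = ν := by
        calc (ν ^ 6) ^ 6 = (ν ^ 7) ^ 5 * ν := by ring
          _ = ν := by rw [hν7, one_pow, one_mul]
      rw [pow_mul, this]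

end exist

section order

variable {K : Type*} [Field K] [Fintype K]

/-- `μ ω` has order `21` -/
theorem orderOf_mu_omega (μ ω : K) (hμ : μ ^ 3 = μ + 1) (hω : ω ^ 2 = ω + 1) (h2 : (2 : K) = 0) :
    orderOf (μ * ω) = 21 := by
  have hone : (1 : K) ≠ 0 := one_ne_zero
  have hμ0 : μ ≠ 0 := by
    intro h
    rw [h] at hμ
    simp at hμ
  have hμ1 : μ ≠ 1 := by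
    intro h
    rw [h] at hμ
    have : (1 : K) = 0 := by linear_combination hμ + h2
    exact hone this
  have hω1 : ω ≠ 1 := by
    intro h
    rw [h] at hω
    have : (1 : K) = 0 := by linear_combination hω + h2
    exact hone this
  have hμ7 : μ ^ 7 = 1 := by
    linear_combination (1 + μ + μ ^ 2 + μ ^ 4) * hμ + (μ + μ ^ 2) * h2
  have hω3 : ω ^ 3 = 1 := by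
    linear_combination (ω + 1) * hω + (ω) * h2
  haveI : Fact (Nat.Prime 7) := ⟨by norm_num⟩
  haveI : Fact (Nat.Prime 3) := ⟨by norm_num⟩
  have o7 : orderOf μ = 7 := orderOf_eq_prime hμ7 hμ1
  have o3 : orderOf ω = 3 := orderOf_eq_prime hω3 hω1
  have := (Commute.all μ ω).orderOf_mul_eq_mul_orderOf_of_coprime (by rw [o7, o3]; norm_num)
  rw [this, o7, o3]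

/-- an additive subgroup `≠ 0` of `F_64` stable under multiplication by `μ ω` is everything -/
theorem addSubgroup_eq_top_of_mu_omega (hK : Fintype.card K = 8 ^ 2) (μ ω : K)
    (hμ : μ ^ 3 = μ + 1) (hω : ω ^ 2 = ω + 1) (h2 : (2 : K) = 0)
    (M : AddSubgroup K) (a : K) (ha : a ∈ M) (ha0 : a ≠ 0) (hloop : ∀ x ∈ M, μ * ω * x ∈ M) :
    M = ⊤ := by
  have ho := orderOf_mu_omega μ ω hμ hω h2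
  have ht0 : μ * ω ≠ 0 := by
    intro h
    rw [h, orderOf_zero] at ho
    norm_num at ho
  refine addSubgroup_eq_top_of_lt (μ * ω) ht0 ?_ M a ha ha0 hloop
  intro r e hre he hr
  rw [ho, hK]  at *
  -- `r ^ e = 64`, `e ≥ 2` ⟹ `r ≤ 8`
  have h1 : r ^ 2 ≤ r ^ e := Nat.pow_le_pow_right (by omega) he
  have h3 : r ≤ 8 := by
    by_contra hlt
    have : 9 ^ 2 ≤ r ^ 2 := Nat.pow_le_pow_left (by omega) 2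
    omega
  omega

end order

theorem al8_bar {K : Type*} [Field K] (μ ω : K) (hμ : μ ^ 3 = μ + 1) (hω : ω ^ 2 = ω + 1) (h2 : (2 : K) = 0) :
    (μ ^ 2 + μ ^ 2 * ω : K) ^ 8 = μ ^ 2 * ω := by
  linear_combination (16 + 128 * ω + 12 * μ + 448 * ω ^ 2 + 96 * μ * ω + 9 * μ ^ 2 + 896 * ω ^ 3 + 336 * μ * ω ^ 2 + 72 * μ ^ 2 * ω + 7 * μ ^ 3 + 1120 * ω ^ 4 + 672 * μ * ω ^ 3 + 252 * μ ^ 2 * ω ^ 2 + 56 * μ ^ 3 * ω + 5 * μ ^ 4 + 896 * ω ^ 5 + 840 * μ * ω ^ 4 + 504 * μ ^ 2 * ω ^ 3 + 196 * μ ^ 3 * ω ^ 2 + 40 * μ ^ 4 * ω + 4 * μ ^ 5 + 448 * ω ^ 6 + 672 * μ * ω ^ 5 + 630 * μ ^ 2 * ω ^ 4 + 392 * μ ^ 3 * ω ^ 3 + 140 * μ ^ 4 * ω ^ 2 + 32 * μ ^ 5 * ω + 3 * μ ^ 6 + 128 * ω ^ 7 + 336 * μ * ω ^ 6 + 504 * μ ^ 2 * ω ^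 5 + 490 * μ ^ 3 * ω ^ 4 + 280 * μ ^ 4 * ω ^ 3 + 112 * μ ^ 5 * ω ^ 2 + 24 * μ ^ 6 * ω + 2 * μ ^ 7 + 16 * ω ^ 8 + 96 * μ * ω ^ 7 + 252 * μ ^ 2 * ω ^ 6 + 392 * μ ^ 3 * ω ^ 5 + 350 * μ ^ 4 * ω ^ 4 + 224 * μ ^ 5 * ω ^ 3 + 84 * μ ^ 6 * ω ^ 2 + 16 * μ ^ 7 * ω + 2 * μ ^ 8 + 12 * μ * ω ^ 8 + 72 * μ ^ 2 * ω ^ 7 + 196 * μ ^ 3 * ω ^ 6 + 280 * μ ^ 4 * ω ^ 5 + 280 * μ ^ 5 * ω ^ 4 + 168 * μ ^ 6 * ω ^ 3 + 56 * μ ^ 7 * ω ^ 2 + 16 * μ ^ 8 * ω + μ ^ 9 + 9 * μ ^ 2 * ω ^ 8 + 56 * μ ^ 3 * ω ^ 7 + 140 * μ ^ 4 * ω ^ 6 + 224 * μ ^ 5 * ω ^ 5 + 210 * μ ^ 6 * ω ^ 4 + 112 * μ ^ 7 * ω ^ 3 + 56 * μ ^ 8 * ω ^ 2 + 8 * μ ^ 9 * ω + μ ^ 10 + 7 * μ ^ 3 * ω ^ 8 + 40 * μ ^ 4 * ω ^ 7 + 112 * μ ^ 5 * ω ^ 6 + 168 * μ ^ 6 * ω ^ 5 + 140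 * μ ^ 7 * ω ^ 4 + 112 * μ ^ 8 * ω ^ 3 + 28 * μ ^ 9 * ω ^ 2 + 8 * μ ^ 10 * ω + μ ^ 11 + 5 * μ ^ 4 * ω ^ 8 + 32 * μ ^ 5 * ω ^ 7 + 84 * μ ^ 6 * ω ^ 6 + 112 * μ ^ 7 * ω ^ 5 + 140 * μ ^ 8 * ω ^ 4 + 56 * μ ^ 9 * ω ^ 3 + 28 * μ ^ 10 * ω ^ 2 + 8 * μ ^ 11 * ω + 4 * μ ^ 5 * ω ^ 8 + 24 * μ ^ 6 * ω ^ 7 + 56 * μ ^ 7 * ω ^ 6 + 112 * μ ^ 8 * ω ^ 5 + 70 * μ ^ 9 * ω ^ 4 + 56 * μ ^ 10 * ω ^ 3 + 28 * μ ^ 11 * ω ^ 2 + μ ^ 13 + 3 * μ ^ 6 * ω ^ 8 + 16 * μ ^ 7 * ω ^ 7 + 56 * μ ^ 8 * ω ^ 6 + 56 * μ ^ 9 * ω ^ 5 + 70 * μ ^ 10 * ω ^ 4 + 56 * μ ^ 11 * ω ^ 3 + 8 * μ ^ 13 * ω + 2 * μ ^ 7 * ω ^ 8 + 16 * μ ^ 8 * ω ^ 7 + 28 * μ ^ 9 * ω ^ 6 + 56 * μ ^ 10 * ω ^ 5 + 70 * μ ^ 11 * ω ^ 4 + 28 * μ ^ 13 * ω ^ 2 + 2 * μ ^ 8 * ω ^ 8 +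 8 * μ ^ 9 * ω ^ 7 + 28 * μ ^ 10 * ω ^ 6 + 56 * μ ^ 11 * ω ^ 5 + 56 * μ ^ 13 * ω ^ 3 + μ ^ 9 * ω ^ 8 + 8 * μ ^ 10 * ω ^ 7 + 28 * μ ^ 11 * ω ^ 6 + 70 * μ ^ 13 * ω ^ 4 + μ ^ 10 * ω ^ 8 + 8 * μ ^ 11 * ω ^ 7 + 56 * μ ^ 13 * ω ^ 5 + μ ^ 11 * ω ^ 8 + 28 * μ ^ 13 * ω ^ 6 + 8 * μ ^ 13 * ω ^ 7 + μ ^ 13 * ω ^ 8) * hμ + (9744 + 5920 * ω + 17052 * μ + 3376 * ω ^ 2 + 10360 * μ * ω + 12789 * μ ^ 2 + 1648 * ω ^ 3 + 5908 * μ * ω ^ 2 + 7770 * μ ^ 2 * ω + 608 * ω ^ 4 + 2884 * μ * ω ^ 3 + 4431 * μ ^ 2 * ω ^ 2 + 144 * ω ^ 5 + 1064 * μ * ω ^ 4 + 2163 * μ ^ 2 * ω ^ 3 + 16 * ω ^ 6 + 252 * μ * ω ^ 5 + 798 * μ ^ 2 * ω ^ 4 + 28 * μ * ω ^ 6 + 189 * μ ^ 2 * ω ^ 5 + 21 * μ ^ 2 * ω ^ 6) * hω + (4880 + 7896 * ω + 8540 * μ + 13818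 * μ * ω + 6405 * μ ^ 2 + 10363 * μ ^ 2 * ω) * h2

theorem one_bar8 {K : Type*} [Field K] : ((1 : K)) ^ 8 = 1 := one_pow 8

theorem b8_trace {K : Type*} [Field K] (μ ω : K) (hμ : μ ^ 3 = μ + 1) (hω : ω ^ 2 = ω + 1) (h2 : (2 : K) = 0) :
    (ω + μ + μ ^ 2 : K) + (ω + μ + μ ^ 2) ^ 8 + 1 * 1 ^ 8 = 0 := by
  linear_combination (1432 + 3720 * ω + 1081 * μ + 4228 * ω ^ 2 + 2808 * μ * ω + 816 * μ ^ 2 + 2744 * ω ^ 3 + 3192 * μ * ω ^ 2 + 2120 * μ ^ 2 * ω + 616 * μ ^ 3 + 1120 * ω ^ 4 + 2072 * μ * ω ^ 3 + 2408 * μ ^ 2 * ω ^ 2 + 1600 * μ ^ 3 * ω + 465 * μ ^ 4 + 280 * ω ^ 5 + 840 * μ * ω ^ 4 + 1568 * μ ^ 2 * ω ^ 3 + 1820 * μ ^ 3 * ω ^ 2 + 1208 * μ ^ 4 * ω + 351 * μ ^ 5 + 56 * ω ^ 6 + 224 * μ * ω ^ 5 + 630 *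 μ ^ 2 * ω ^ 4 + 1176 * μ ^ 3 * ω ^ 3 + 1372 * μ ^ 4 * ω ^ 2 + 912 * μ ^ 5 * ω + 265 * μ ^ 6 + 28 * μ * ω ^ 6 + 168 * μ ^ 2 * ω ^ 5 + 490 * μ ^ 3 * ω ^ 4 + 896 * μ ^ 4 * ω ^ 3 + 1036 * μ ^ 5 * ω ^ 2 + 688 * μ ^ 6 * ω + 200 * μ ^ 7 + 56 * μ ^ 3 * ω ^ 5 + 280 * μ ^ 4 * ω ^ 4 + 616 * μ ^ 5 * ω ^ 3 + 756 * μ ^ 6 * ω ^ 2 + 512 * μ ^ 7 * ω + 150 * μ ^ 8 + 70 * μ ^ 5 * ω ^ 4 + 280 * μ ^ 6 * ω ^ 3 + 448 * μ ^ 7 * ω ^ 2 + 344 * μ ^ 8 * ω + 107 * μ ^ 9 + 56 * μ ^ 7 * ω ^ 3 + 168 * μ ^ 8 * ω ^ 2 + 176 * μ ^ 9 * ω + 65 * μ ^ 10 + 28 * μ ^ 9 * ω ^ 2 + 56 * μ ^ 10 * ω + 29 * μ ^ 11 + 8 * μ ^ 11 * ω + 8 * μ ^ 12 + μ ^ 13) * hμ + (10345 + 4600 * ω + 18152 * μ + 1517 * ω ^ 2 + 8076 * μ * ω + 13700 * μ ^ 2 + 339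 * ω ^ 3 + 2656 * μ * ω ^ 2 + 6102 * μ ^ 2 * ω + 58 * ω ^ 4 + 604 * μ * ω ^ 3 + 1998 * μ ^ 2 * ω ^ 2 + ω ^ 5 + 92 * μ * ω ^ 4 + 464 * μ ^ 2 * ω ^ 3 + ω ^ 6 + 8 * μ * ω ^ 5 + 64 * μ ^ 2 * ω ^ 4 + 8 * μ ^ 2 * ω ^ 5) * hω + (5889 + 9333 * ω + 10333 * μ + 16378 * μ * ω + 7799 * μ ^ 2 + 12365 * μ ^ 2 * ω) * h2

theorem be8_trace {K : Type*} [Field K] (μ ω : K) (hμ : μ ^ 3 = μ + 1) (hω : ω ^ 2 = ω + 1) (h2 : (2 : K) = 0) :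
    (1 + μ + μ * ω + μ ^ 2 + μ ^ 2 * ω : K) + (1 + μ + μ * ω + μ ^ 2 + μ ^ 2 * ω) ^ 8 + (μ ^ 2 + μ ^ 2 * ω) * (μ ^ 2 + μ ^ 2 * ω) ^ 8 = 0 := by
  linear_combination (13608 + 82268 * ω + 10266 * μ + 217700 * ω ^ 2 + 62093 * μ * ω + 7726 * μ ^ 2 + 329504 * ω ^ 3 + 164332 * μ * ω ^ 2 + 46824 * μ ^ 2 * ω + 5770 * μ ^ 3 + 312228 * ω ^ 4 + 248724 * μ * ω ^ 3 + 124028 * μ ^ 2 * ω ^ 2 + 35164 * μ ^ 3 * ω + 4230 * μ ^ 4 + 189952 * ω ^ 5 + 235676 * μ * ω ^ 4 + 187768 * μ ^ 2 * ω ^ 3 + 93448 * μ ^ 3 * ω ^ 2 + 26089 * μ ^ 4 * ω + 2992 * μ ^ 5 + 72716 * ω ^ 6 + 143374 * μ * ω ^ 5 + 177926 * μ ^ 2 * ω ^ 4 + 141680 * μ ^ 3 * ω ^ 3 + 69932 * μ ^ 4 * ω ^ 2 + 18831 * μ ^ 5 * ω + 1994 * μ ^ 6 + 16184 * ω ^ 7 + 54880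 * μ * ω ^ 6 + 108248 * μ ^ 2 * ω ^ 5 + 134302 * μ ^ 3 * ω ^ 4 + 106596 * μ ^ 4 * ω ^ 3 + 51352 * μ ^ 5 * ω ^ 2 + 12917 * μ ^ 6 * ω + 1220 * μ ^ 7 + 1684 * ω ^ 8 + 12212 * μ * ω ^ 7 + 41440 * μ ^ 2 * ω ^ 6 + 81704 * μ ^ 3 * ω ^ 5 + 101304 * μ ^ 4 * ω ^ 4 + 79324 * μ ^ 5 * ω ^ 3 + 36188 * μ ^ 6 * ω ^ 2 + 8188 * μ ^ 7 * ω + 665 * μ ^ 8 + 28 * ω ^ 9 + 1270 * μ * ω ^ 8 + 9224 * μ ^ 2 * ω ^ 7 + 31276 * μ ^ 3 * ω ^ 6 + 61670 * μ ^ 4 * ω ^ 5 + 76062 * μ ^ 5 * ω ^ 4 + 57260 * μ ^ 6 * ω ^ 3 + 23776 * μ ^ 7 * ω ^ 2 + 4643 * μ ^ 8 * ω + 313 * μ ^ 9 + 21 * μ * ω ^ 9 + 960 * μ ^ 2 * ω ^ 8 + 6960 * μ ^ 3 * ω ^ 7 + 23604 * μ ^ 4 * ω ^ 6 + 46522 * μ ^ 5 * ω ^ 5 + 56000 * μ ^ 6 * ω ^ 4 + 38976 * μ ^ 7 * ω ^ 3 +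 14052 * μ ^ 8 * ω ^ 2 + 2274 * μ ^ 9 * ω + 123 * μ ^ 10 + 16 * μ ^ 2 * ω ^ 9 + 724 * μ ^ 3 * ω ^ 8 + 5252 * μ ^ 4 * ω ^ 7 + 17836 * μ ^ 5 * ω ^ 6 + 34734 * μ ^ 6 * ω ^ 5 + 39424 * μ ^ 7 * ω ^ 4 + 24052 * μ ^ 8 * ω ^ 3 + 7184 * μ ^ 9 * ω ^ 2 + 930 * μ ^ 10 * ω + 38 * μ ^ 11 + 12 * μ ^ 3 * ω ^ 9 + 546 * μ ^ 4 * ω ^ 8 + 3972 * μ ^ 5 * ω ^ 7 + 13412 * μ ^ 6 * ω ^ 6 + 25200 * μ ^ 7 * ω ^ 5 + 25438 * μ ^ 8 * ω ^ 4 + 12880 * μ ^ 9 * ω ^ 3 + 3068 * μ ^ 10 * ω ^ 2 + 297 * μ ^ 11 * ω + 9 * μ ^ 12 + 9 * μ ^ 4 * ω ^ 9 + 414 * μ ^ 5 * ω ^ 8 + 2988 * μ ^ 6 * ω ^ 7 + 9968 * μ ^ 7 * ω ^ 6 + 17010 * μ ^ 8 * ω ^ 5 + 14322 * μ ^ 9 * ω ^ 4 + 5768 * μ ^ 10 * ω ^ 3 + 1016 * μ ^ 11 * ω ^ 2 + 73 * μ ^ 12 * ω + 2 * μ ^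 13 + 7 * μ ^ 5 * ω ^ 9 + 310 * μ ^ 6 * ω ^ 8 + 2256 * μ ^ 7 * ω ^ 7 + 7028 * μ ^ 8 * ω ^ 6 + 10108 * μ ^ 9 * ω ^ 5 + 6762 * μ ^ 10 * ω ^ 4 + 1988 * μ ^ 11 * ω ^ 3 + 260 * μ ^ 12 * ω ^ 2 + 17 * μ ^ 13 * ω + 5 * μ ^ 6 * ω ^ 9 + 236 * μ ^ 7 * ω ^ 8 + 1652 * μ ^ 8 * ω ^ 7 + 4424 * μ ^ 9 * ω ^ 6 + 5068 * μ ^ 10 * ω ^ 5 + 2436 * μ ^ 11 * ω ^ 4 + 532 * μ ^ 12 * ω ^ 3 + 64 * μ ^ 13 * ω ^ 2 + μ ^ 15 + 4 * μ ^ 7 * ω ^ 9 + 177 * μ ^ 8 * ω ^ 8 + 1104 * μ ^ 9 * ω ^ 7 + 2380 * μ ^ 10 * ω ^ 6 + 1918 * μ ^ 11 * ω ^ 5 + 686 * μ ^ 12 * ω ^ 4 + 140 * μ ^ 13 * ω ^ 3 + 9 * μ ^ 15 * ω + 3 * μ ^ 8 * ω ^ 9 + 125 * μ ^ 9 * ω ^ 8 + 648 * μ ^ 10 * ω ^ 7 + 952 * μ ^ 11 * ω ^ 6 + 574 * μ ^ 12 * ω ^ 5 + 196 * μ ^ 13 * ω ^ 4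 + 36 * μ ^ 15 * ω ^ 2 + 2 * μ ^ 9 * ω ^ 9 + 83 * μ ^ 10 * ω ^ 8 + 276 * μ ^ 11 * ω ^ 7 + 308 * μ ^ 12 * ω ^ 6 + 182 * μ ^ 13 * ω ^ 5 + 84 * μ ^ 15 * ω ^ 3 + 2 * μ ^ 10 * ω ^ 9 + 38 * μ ^ 11 * ω ^ 8 + 100 * μ ^ 12 * ω ^ 7 + 112 * μ ^ 13 * ω ^ 6 + 126 * μ ^ 15 * ω ^ 4 + μ ^ 11 * ω ^ 9 + 17 * μ ^ 12 * ω ^ 8 + 44 * μ ^ 13 * ω ^ 7 + 126 * μ ^ 15 * ω ^ 5 + μ ^ 12 * ω ^ 9 + 10 * μ ^ 13 * ω ^ 8 + 84 * μ ^ 15 * ω ^ 6 + μ ^ 13 * ω ^ 9 + 36 * μ ^ 15 * ω ^ 7 + 9 * μ ^ 15 * ω ^ 8 + μ ^ 15 * ω ^ 9) * hμ + (2257048 + 1334540 * ω + 3960625 * μ + 704808 * ω ^ 2 + 2341821 * μ * ω + 2989805 * μ ^ 2 + 300228 * ω ^ 3 + 1236772 * μ * ω ^ 2 + 1767799 * μ ^ 2 * ω + 92352 * ω ^ 4 + 526821 * μ * ω ^ 3 + 933618 * μ ^ 2 *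 ω ^ 2 + 17924 * ω ^ 5 + 162047 * μ * ω ^ 4 + 397689 * μ ^ 2 * ω ^ 3 + 1712 * ω ^ 6 + 31448 * μ * ω ^ 5 + 122327 * μ ^ 2 * ω ^ 4 + 28 * ω ^ 7 + 3003 * μ * ω ^ 6 + 23740 * μ ^ 2 * ω ^ 5 + 49 * μ * ω ^ 7 + 2267 * μ ^ 2 * ω ^ 6 + 37 * μ ^ 2 * ω ^ 7) * hω + (1135329 + 1836928 * ω + 1992254 * μ + 3223408 * μ * ω + 1503917 * μ ^ 2 + 2433293 * μ ^ 2 * ω) * h2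

theorem l8_mult {K : Type*} [Field K] (μ ω : K) (hμ : μ ^ 3 = μ + 1) (hω : ω ^ 2 = ω + 1) (h2 : (2 : K) = 0) :
    (1 + ω + μ + μ * ω + μ ^ 2 : K) ^ 2 = μ * ω * (1 + ω + μ + μ * ω + μ ^ 2) ^ 8 := by
  linear_combination (2 - 17989 * ω + μ - 82016 * ω ^ 2 - 13580 * μ * ω - 163576 * ω ^ 3 - 61904 * μ * ω ^ 2 - 10245 * μ ^ 2 * ω - 186424 * ω ^ 4 - 123452 * μ * ω ^ 3 - 46680 * μ ^ 2 * ω ^ 2 - 7710 * μ ^ 3 * ω - 132790 * ω ^ 5 - 140672 * μ * ω ^ 4 - 93016 * μ ^ 2 * ω ^ 3 - 35056 * μ ^ 3 * ω ^ 2 - 5758 * μ ^ 4 * ω - 60536 * ω ^ 6 - 100170 * μ * ω ^ 5 - 105840 * μ ^ 2 * ω ^ 4 - 69608 * μ ^ 3 * ω ^ 3 - 26008 * μ ^ 4 * ω ^ 2 - 4221 * μ ^ 5 * ω - 17248 * ω ^ 7 - 45640 * μ * ω ^ 6 - 75180 * μ ^ 2 * ω ^ 5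 - 78736 * μ ^ 3 * ω ^ 4 - 51100 * μ ^ 4 * ω ^ 3 - 18768 * μ ^ 5 * ω ^ 2 - 2985 * μ ^ 6 * ω - 2808 * ω ^ 8 - 12992 * μ * ω ^ 7 - 34104 * μ ^ 2 * ω ^ 6 - 55370 * μ ^ 3 * ω ^ 5 - 56840 * μ ^ 4 * ω ^ 4 - 36008 * μ ^ 5 * ω ^ 3 - 12872 * μ ^ 6 * ω ^ 2 - 1989 * μ ^ 7 * ω - 200 * ω ^ 9 - 2112 * μ * ω ^ 8 - 9632 * μ ^ 2 * ω ^ 7 - 24696 * μ ^ 3 * ω ^ 6 - 38920 * μ ^ 4 * ω ^ 5 - 38640 * μ ^ 5 * ω ^ 4 - 23632 * μ ^ 6 * ω ^ 3 - 8152 * μ ^ 7 * ω ^ 2 - 1216 * μ ^ 8 * ω - 150 * μ * ω ^ 9 - 1544 * μ ^ 2 * ω ^ 8 - 6776 * μ ^ 3 * ω ^ 7 - 16632 * μ ^ 4 * ω ^ 6 - 25060 * μ ^ 5 * ω ^ 5 - 23800 * μ ^ 6 * ω ^ 4 - 13944 * μ ^ 7 * ω ^ 3 - 4616 * μ ^ 8 * ω ^ 2 - 662 * μ ^ 9 * ω - 107 * μ ^ 2 * ω ^ 9 - 1032 * μ ^ 3 * ω ^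 8 - 4256 * μ ^ 4 * ω ^ 7 - 9856 * μ ^ 5 * ω ^ 6 - 14070 * μ ^ 6 * ω ^ 5 - 12712 * μ ^ 7 * ω ^ 4 - 7112 * μ ^ 8 * ω ^ 3 - 2256 * μ ^ 9 * ω ^ 2 - 311 * μ ^ 10 * ω - 65 * μ ^ 3 * ω ^ 9 - 576 * μ ^ 4 * ω ^ 8 - 2212 * μ ^ 5 * ω ^ 7 - 4816 * μ ^ 6 * ω ^ 6 - 6510 * μ ^ 7 * ω ^ 5 - 5600 * μ ^ 8 * ω ^ 4 - 2996 * μ ^ 9 * ω ^ 3 - 912 * μ ^ 10 * ω ^ 2 - 121 * μ ^ 11 * ω - 29 * μ ^ 4 * ω ^ 9 - 240 * μ ^ 5 * ω ^ 8 - 868 * μ ^ 6 * ω ^ 7 - 1792 * μ ^ 7 * ω ^ 6 - 2310 * μ ^ 8 * ω ^ 5 - 1904 * μ ^ 9 * ω ^ 4 - 980 * μ ^ 10 * ω ^ 3 - 288 * μ ^ 11 * ω ^ 2 - 37 * μ ^ 12 * ω - 8 * μ ^ 5 * ω ^ 9 - 64 * μ ^ 6 * ω ^ 8 - 224 * μ ^ 7 * ω ^ 7 - 448 * μ ^ 8 * ω ^ 6 - 560 * μ ^ 9 * ω ^ 5 - 448 * μ ^ 10 * ω ^ 4 - 224 * μ ^ 11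 * ω ^ 3 - 64 * μ ^ 12 * ω ^ 2 - 8 * μ ^ 13 * ω - μ ^ 6 * ω ^ 9 - 8 * μ ^ 7 * ω ^ 8 - 28 * μ ^ 8 * ω ^ 7 - 56 * μ ^ 9 * ω ^ 6 - 70 * μ ^ 10 * ω ^ 5 - 56 * μ ^ 11 * ω ^ 4 - 28 * μ ^ 12 * ω ^ 3 - 8 * μ ^ 13 * ω ^ 2 - μ ^ 14 * ω) * hμ + (-1498177 - 908492 * ω - 2629115 * μ - 507670 * ω ^ 2 - 1594291 * μ * ω - 1984658 * μ ^ 2 - 237246 * ω ^ 3 - 890898 * μ * ω ^ 2 - 1203493 * μ ^ 2 * ω - 84000 * ω ^ 4 - 416337 * μ * ω ^ 3 - 672518 * μ ^ 2 * ω ^ 2 - 20456 * ω ^ 5 - 147409 * μ * ω ^ 4 - 314283 * μ ^ 2 * ω ^ 3 - 3008 * ω ^ 6 - 35898 * μ * ω ^ 5 - 111275 * μ ^ 2 * ω ^ 4 - 200 * ω ^ 7 - 5279 * μ * ω ^ 6 - 27098 * μ ^ 2 * ω ^ 5 - 351 * μ * ω ^ 7 - 3985 * μ ^ 2 * ω ^ 6 - 265 * μ ^ 2 * ω ^ 7) * hω + (-749087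 - 1212328 * ω - 1314555 * μ - 2127486 * μ * ω - 992327 * μ ^ 2 - 1605990 * μ ^ 2 * ω) * h2

theorem l8_mult' {K : Type*} [Field K] (μ ω : K) (hμ : μ ^ 3 = μ + 1) (hω : ω ^ 2 = ω + 1) (h2 : (2 : K) = 0) :
    (1 + ω + μ + μ * ω + μ ^ 2 : K) * (μ + μ * ω + μ ^ 2 * ω) ^ 8 = μ * ω := by
  linear_combination (7 + 132 * ω + 5 * μ + 1108 * ω ^ 2 + 99 * μ * ω + 4 * μ ^ 2 + 5404 * ω ^ 3 + 840 * μ * ω ^ 2 + 74 * μ ^ 2 * ω + 3 * μ ^ 3 + 16744 * ω ^ 4 + 4088 * μ * ω ^ 3 + 628 * μ ^ 2 * ω ^ 2 + 58 * μ ^ 3 * ω + 2 * μ ^ 4 + 34020 * ω ^ 5 + 12642 * μ * ω ^ 4 + 3080 * μ ^ 2 * ω ^ 3 + 480 * μ ^ 3 * ω ^ 2 + 41 * μ ^ 4 * ω + 2 * μ ^ 5 + 45108 * ω ^ 6 + 25676 * μ * ω ^ 5 + 9548 * μ ^ 2 * ω ^ 4 + 2324 * μ ^ 3 * ω ^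 3 + 360 * μ ^ 4 * ω ^ 2 + 33 * μ ^ 5 * ω + μ ^ 6 + 37352 * ω ^ 7 + 34048 * μ * ω ^ 6 + 19390 * μ ^ 2 * ω ^ 5 + 7196 * μ ^ 3 * ω ^ 4 + 1764 * μ ^ 4 * ω ^ 3 + 268 * μ ^ 5 * ω ^ 2 + 25 * μ ^ 6 * ω + μ ^ 7 + 17298 * ω ^ 8 + 28196 * μ * ω ^ 7 + 25704 * μ ^ 2 * ω ^ 6 + 14630 * μ ^ 3 * ω ^ 5 + 5446 * μ ^ 4 * ω ^ 4 + 1316 * μ ^ 5 * ω ^ 3 + 212 * μ ^ 6 * ω ^ 2 + 16 * μ ^ 7 * ω + 3329 * ω ^ 9 + 13058 * μ * ω ^ 8 + 21284 * μ ^ 2 * ω ^ 7 + 19404 * μ ^ 3 * ω ^ 6 + 11046 * μ ^ 4 * ω ^ 5 + 4102 * μ ^ 5 * ω ^ 4 + 1008 * μ ^ 6 * ω ^ 3 + 148 * μ ^ 7 * ω ^ 2 + 8 * μ ^ 8 * ω + 2513 * μ * ω ^ 9 + 9857 * μ ^ 2 * ω ^ 8 + 16068 * μ ^ 3 * ω ^ 7 + 14644 * μ ^ 4 * ω ^ 6 + 8344 * μ ^ 5 * ω ^ 5 + 3094 * μ ^ 6 * ω ^ 4 + 756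 * μ ^ 7 * ω ^ 3 + 84 * μ ^ 8 * ω ^ 2 + 1897 * μ ^ 2 * ω ^ 9 + 7441 * μ ^ 3 * ω ^ 8 + 12128 * μ ^ 4 * ω ^ 7 + 11060 * μ ^ 5 * ω ^ 6 + 6286 * μ ^ 6 * ω ^ 5 + 2352 * μ ^ 7 * ω ^ 4 + 476 * μ ^ 8 * ω ^ 3 + 28 * μ ^ 9 * ω ^ 2 + 1432 * μ ^ 3 * ω ^ 9 + 5617 * μ ^ 4 * ω ^ 8 + 9156 * μ ^ 5 * ω ^ 7 + 8344 * μ ^ 6 * ω ^ 6 + 4760 * μ ^ 7 * ω ^ 5 + 1624 * μ ^ 8 * ω ^ 4 + 224 * μ ^ 9 * ω ^ 3 + 1081 * μ ^ 4 * ω ^ 9 + 4240 * μ ^ 5 * ω ^ 8 + 6912 * μ ^ 6 * ω ^ 7 + 6300 * μ ^ 7 * ω ^ 6 + 3458 * μ ^ 8 * ω ^ 5 + 896 * μ ^ 9 * ω ^ 4 + 56 * μ ^ 10 * ω ^ 3 + 816 * μ ^ 5 * ω ^ 9 + 3201 * μ ^ 6 * ω ^ 8 + 5216 * μ ^ 7 * ω ^ 7 + 4676 * μ ^ 8 * ω ^ 6 + 2142 * μ ^ 9 * ω ^ 5 + 350 * μ ^ 10 * ω ^ 4 + 616 * μ ^ 6 * ω ^ 9 + 2416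 * μ ^ 7 * ω ^ 8 + 3904 * μ ^ 8 * ω ^ 7 + 3136 * μ ^ 9 * ω ^ 6 + 1022 * μ ^ 10 * ω ^ 5 + 70 * μ ^ 11 * ω ^ 4 + 465 * μ ^ 7 * ω ^ 9 + 1815 * μ ^ 8 * ω ^ 8 + 2748 * μ ^ 9 * ω ^ 7 + 1708 * μ ^ 10 * ω ^ 6 + 336 * μ ^ 11 * ω ^ 5 + 350 * μ ^ 8 * ω ^ 9 + 1313 * μ ^ 9 * ω ^ 8 + 1648 * μ ^ 10 * ω ^ 7 + 700 * μ ^ 11 * ω ^ 6 + 56 * μ ^ 12 * ω ^ 5 + 257 * μ ^ 9 * ω ^ 9 + 842 * μ ^ 10 * ω ^ 8 + 772 * μ ^ 11 * ω ^ 7 + 196 * μ ^ 12 * ω ^ 6 + 172 * μ ^ 10 * ω ^ 9 + 433 * μ ^ 11 * ω ^ 8 + 268 * μ ^ 12 * ω ^ 7 + 28 * μ ^ 13 * ω ^ 6 + 94 * μ ^ 11 * ω ^ 9 + 166 * μ ^ 12 * ω ^ 8 + 64 * μ ^ 13 * ω ^ 7 + 37 * μ ^ 12 * ω ^ 9 + 46 * μ ^ 13 * ω ^ 8 + 8 * μ ^ 14 * ω ^ 7 + 9 * μ ^ 13 * ω ^ 9 + 9 * μ ^ 14 * ω ^ 8 + μ ^ 14 *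 ω ^ 9 + μ ^ 15 * ω ^ 8) * hμ + (961199 + 593933 * ω + 1686774 * μ + 366158 * ω ^ 2 + 1042272 * μ * ω + 1273319 * μ ^ 2 + 222371 * ω ^ 3 + 642554 * μ * ω ^ 2 + 786796 * μ ^ 2 * ω + 127043 * ω ^ 4 + 390226 * μ * ω ^ 3 + 485055 * μ ^ 2 * ω ^ 2 + 61308 * ω ^ 5 + 222942 * μ * ω ^ 4 + 294573 * μ ^ 2 * ω ^ 3 + 20627 * ω ^ 6 + 107588 * μ * ω ^ 5 + 168292 * μ ^ 2 * ω ^ 4 + 3329 * ω ^ 7 + 36198 * μ * ω ^ 6 + 81215 * μ ^ 2 * ω ^ 5 + 5842 * μ * ω ^ 7 + 27325 * μ ^ 2 * ω ^ 6 + 4410 * μ ^ 2 * ω ^ 7) * hω + (480603 + 777632 * ω + 843393 * μ + 1364638 * μ * ω + 636664 * μ ^ 2 + 1030144 * μ ^ 2 * ω) * h2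

theorem l8_norm {K : Type*} [Field K] (μ ω : K) (hμ : μ ^ 3 = μ + 1) (hω : ω ^ 2 = ω + 1) (h2 : (2 : K) = 0) :
    (1 + ω + μ + μ * ω + μ ^ 2 : K) * (1 + ω + μ + μ * ω + μ ^ 2) ^ 8 = μ ^ 2 := by
  linear_combination (55404 + 284139 * ω + 41816 * μ + 647640 * ω ^ 2 + 214425 * μ * ω + 31535 * μ ^ 2 + 861084 * ω ^ 3 + 488628 * μ * ω ^ 2 + 161595 * μ ^ 2 * ω + 23713 * μ ^ 3 + 735966 * ω ^ 4 + 649404 * μ * ω ^ 3 + 367812 * μ ^ 2 * ω ^ 2 + 121212 * μ ^ 3 * ω + 17689 * μ ^ 4 + 419328 * ω ^ 5 + 554652 * μ * ω ^ 4 + 487872 * μ ^ 2 * ω ^ 3 + 274788 * μ ^ 3 * ω ^ 2 + 89811 * μ ^ 4 * ω + 12964 * μ ^ 5 + 159264 * ω ^ 6 + 315630 * μ * ω ^ 5 + 415296 * μ ^ 2 * ω ^ 4 + 362124 * μ ^ 3 * ω ^ 3 + 201492 * μ ^ 4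 * ω ^ 2 + 64854 * μ ^ 5 * ω + 9195 * μ ^ 6 + 38880 * ω ^ 7 + 119616 * μ * ω ^ 6 + 234990 * μ ^ 2 * ω ^ 5 + 305046 * μ ^ 3 * ω ^ 4 + 261324 * μ ^ 4 * ω ^ 3 + 142380 * μ ^ 5 * ω ^ 2 + 44766 * μ ^ 6 * ω + 6190 * μ ^ 7 + 5535 * ω ^ 8 + 29088 * μ * ω ^ 7 + 88200 * μ ^ 2 * ω ^ 6 + 169722 * μ ^ 3 * ω ^ 5 + 214830 * μ ^ 4 * ω ^ 4 + 178920 * μ ^ 5 * ω ^ 3 + 94608 * μ ^ 6 * ω ^ 2 + 28845 * μ ^ 7 * ω + 3867 * μ ^ 8 + 350 * ω ^ 9 + 4113 * μ * ω ^ 8 + 21096 * μ ^ 2 * ω ^ 7 + 61992 * μ ^ 3 * ω ^ 6 + 115164 * μ ^ 4 * ω ^ 5 + 140490 * μ ^ 5 * ω ^ 4 + 112728 * μ ^ 6 * ω ^ 3 + 57456 * μ ^ 7 * ω ^ 2 + 16902 * μ ^ 8 * ω + 2189 * μ ^ 9 + 257 * μ * ω ^ 9 + 2898 * μ ^ 2 * ω ^ 8 + 14184 * μ ^ 3 * ω ^ 7 + 39732 * μ ^ 4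 * ω ^ 6 + 70434 * μ ^ 5 * ω ^ 5 + 82152 * μ ^ 6 * ω ^ 4 + 63168 * μ ^ 7 * ω ^ 3 + 30924 * μ ^ 8 * ω ^ 2 + 8757 * μ ^ 9 * ω + 1094 * μ ^ 10 + 172 * μ ^ 2 * ω ^ 9 + 1809 * μ ^ 3 * ω ^ 8 + 8316 * μ ^ 4 * ω ^ 7 + 22008 * μ ^ 5 * ω ^ 6 + 37044 * μ ^ 6 * ω ^ 5 + 41202 * μ ^ 7 * ω ^ 4 + 30324 * μ ^ 8 * ω ^ 3 + 14256 * μ ^ 9 * ω ^ 2 + 3888 * μ ^ 10 * ω + 469 * μ ^ 11 + 94 * μ ^ 3 * ω ^ 9 + 918 * μ ^ 4 * ω ^ 8 + 3960 * μ ^ 5 * ω ^ 7 + 9912 * μ ^ 6 * ω ^ 6 + 15876 * μ ^ 7 * ω ^ 5 + 16884 * μ ^ 8 * ω ^ 4 + 11928 * μ ^ 9 * ω ^ 3 + 5400 * μ ^ 10 * ω ^ 2 + 1422 * μ ^ 11 * ω + 166 * μ ^ 12 + 37 * μ ^ 4 * ω ^ 9 + 342 * μ ^ 5 * ω ^ 8 + 1404 * μ ^ 6 * ω ^ 7 + 3360 * μ ^ 7 * ω ^ 6 + 5166 * μ ^ 8 * ω ^ 5 + 5292 *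 μ ^ 9 * ω ^ 4 + 3612 * μ ^ 10 * ω ^ 3 + 1584 * μ ^ 11 * ω ^ 2 + 405 * μ ^ 12 * ω + 46 * μ ^ 13 + 9 * μ ^ 5 * ω ^ 9 + 81 * μ ^ 6 * ω ^ 8 + 324 * μ ^ 7 * ω ^ 7 + 756 * μ ^ 8 * ω ^ 6 + 1134 * μ ^ 9 * ω ^ 5 + 1134 * μ ^ 10 * ω ^ 4 + 756 * μ ^ 11 * ω ^ 3 + 324 * μ ^ 12 * ω ^ 2 + 81 * μ ^ 13 * ω + 9 * μ ^ 14 + μ ^ 6 * ω ^ 9 + 9 * μ ^ 7 * ω ^ 8 + 36 * μ ^ 8 * ω ^ 7 + 84 * μ ^ 9 * ω ^ 6 + 126 * μ ^ 10 * ω ^ 5 + 126 * μ ^ 11 * ω ^ 4 + 84 * μ ^ 12 * ω ^ 3 + 36 * μ ^ 13 * ω ^ 2 + 9 * μ ^ 14 * ω + μ ^ 15) * hμ + (5426901 + 3157707 * ω + 9523545 * μ + 1621518 * ω ^ 2 + 5541388 * μ * ω + 7189113 * μ ^ 2 + 675021 * ω ^ 3 + 2845565 * μ * ω ^ 2 + 4183071 * μ ^ 2 * ω + 210405 * ω ^ 4 + 1184579 * μ * ω ^ 3 + 2148054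 * μ ^ 2 * ω ^ 2 + 45162 * ω ^ 5 + 369234 * μ * ω ^ 4 + 894213 * μ ^ 2 * ω ^ 3 + 5895 * ω ^ 6 + 79253 * μ * ω ^ 5 + 278727 * μ ^ 2 * ω ^ 4 + 351 * ω ^ 7 + 10345 * μ * ω ^ 6 + 59826 * μ ^ 2 * ω ^ 5 + 616 * μ * ω ^ 7 + 7809 * μ ^ 2 * ω ^ 6 + 465 * μ ^ 2 * ω ^ 7) * hω + (2741153 + 4434378 * ω + 4810387 * μ + 7781789 * μ * ω + 3631254 * μ ^ 2 + 5874300 * μ ^ 2 * ω) * h2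

theorem lam8 {K : Type*} [Field K] (μ ω : K) (hμ : μ ^ 3 = μ + 1) (hω : ω ^ 2 = ω + 1) (h2 : (2 : K) = 0) :
    (ω + μ + μ ^ 2 + μ ^ 2 * ω : K) ^ 2 = (μ ^ 2 + μ ^ 2 * ω) * (ω + μ + μ ^ 2 + μ ^ 2 * ω) ^ 8 := by
  linear_combination (-2511 - 20495 * ω - 1896 * μ - 74292 * ω ^ 2 - 15471 * μ * ω - 1432 * μ ^ 2 - 157052 * ω ^ 3 - 56079 * μ * ω ^ 2 - 11680 * μ ^ 2 * ω - 1081 * μ ^ 3 - 213374 * ω ^ 4 - 118552 * μ * ω ^ 3 - 42336 * μ ^ 2 * ω ^ 2 - 8817 * μ ^ 3 * ω - 816 * μ ^ 4 - 193270 * ω ^ 5 - 161098 * μ * ω ^ 4 - 89488 * μ ^ 2 * ω ^ 3 - 31956 * μ ^ 3 * ω ^ 2 - 6656 * μ ^ 4 * ω - 616 * μ ^ 5 - 116704 * ω ^ 6 - 145866 * μ * ω ^ 5 - 121590 * μ ^ 2 * ω ^ 4 - 67564 * μ ^ 3 * ω ^ 3 - 24124 * μ ^ 4 * ω ^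 2 - 5024 * μ ^ 5 * ω - 465 * μ ^ 6 - 45256 * ω ^ 7 - 88060 * μ * ω ^ 6 - 110166 * μ ^ 2 * ω ^ 5 - 91784 * μ ^ 3 * ω ^ 4 - 50988 * μ ^ 4 * ω ^ 3 - 18212 * μ ^ 5 * ω ^ 2 - 3793 * μ ^ 6 * ω - 351 * μ ^ 7 - 10230 * ω ^ 8 - 34212 * μ * ω ^ 7 - 66472 * μ ^ 2 * ω ^ 6 - 83104 * μ ^ 3 * ω ^ 5 - 69314 * μ ^ 4 * ω ^ 4 - 38500 * μ ^ 5 * ω ^ 3 - 13744 * μ ^ 6 * ω ^ 2 - 2863 * μ ^ 7 * ω - 265 * μ ^ 8 - 1038 * ω ^ 9 - 7737 * μ * ω ^ 8 - 25760 * μ ^ 2 * ω ^ 7 - 50232 * μ ^ 3 * ω ^ 6 - 62762 * μ ^ 4 * ω ^ 5 - 52276 * μ ^ 5 * ω ^ 4 - 29064 * μ ^ 6 * ω ^ 3 - 10380 * μ ^ 7 * ω ^ 2 - 2161 * μ ^ 8 * ω - 200 * μ ^ 9 - 769 * μ * ω ^ 9 - 5856 * μ ^ 2 * ω ^ 8 - 19488 * μ ^ 3 * ω ^ 7 - 37800 * μ ^ 4 * ω ^ 6 - 47348 * μ ^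 5 * ω ^ 5 - 39438 * μ ^ 6 * ω ^ 4 - 21868 * μ ^ 7 * ω ^ 3 - 7804 * μ ^ 8 * ω ^ 2 - 1624 * μ ^ 9 * ω - 150 * μ ^ 10 - 592 * μ ^ 2 * ω ^ 9 - 4366 * μ ^ 3 * ω ^ 8 - 14688 * μ ^ 4 * ω ^ 7 - 28560 * μ ^ 5 * ω ^ 6 - 35518 * μ ^ 6 * ω ^ 5 - 29540 * μ ^ 7 * ω ^ 4 - 16324 * μ ^ 8 * ω ^ 3 - 5764 * μ ^ 9 * ω ^ 2 - 1182 * μ ^ 10 * ω - 107 * μ ^ 11 - 446 * μ ^ 3 * ω ^ 9 - 3355 * μ ^ 4 * ω ^ 8 - 10960 * μ ^ 5 * ω ^ 7 - 21308 * μ ^ 6 * ω ^ 6 - 26516 * μ ^ 7 * ω ^ 5 - 21756 * μ ^ 8 * ω ^ 4 - 11844 * μ ^ 9 * ω ^ 3 - 4084 * μ ^ 10 * ω ^ 2 - 795 * μ ^ 11 * ω - 65 * μ ^ 12 - 315 * μ ^ 4 * ω ^ 9 - 2445 * μ ^ 5 * ω ^ 8 - 8276 * μ ^ 6 * ω ^ 7 - 15708 * μ ^ 7 * ω ^ 6 - 19236 * μ ^ 8 * ω ^ 5 - 15554 * μ ^ 9 * ω ^ 4 - 8148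 * μ ^ 10 * ω ^ 3 - 2648 * μ ^ 11 * ω ^ 2 - 465 * μ ^ 12 * ω - 29 * μ ^ 13 - 277 * μ ^ 5 * ω ^ 9 - 1837 * μ ^ 6 * ω ^ 8 - 5908 * μ ^ 7 * ω ^ 7 - 11368 * μ ^ 8 * ω ^ 6 - 13482 * μ ^ 9 * ω ^ 5 - 10416 * μ ^ 10 * ω ^ 4 - 5152 * μ ^ 11 * ω ^ 3 - 1492 * μ ^ 12 * ω ^ 2 - 213 * μ ^ 13 * ω - 8 * μ ^ 14 - 141 * μ ^ 6 * ω ^ 9 - 1350 * μ ^ 7 * ω ^ 8 - 4296 * μ ^ 8 * ω ^ 7 - 7700 * μ ^ 9 * ω ^ 6 - 8904 * μ ^ 10 * ω ^ 5 - 6412 * μ ^ 11 * ω ^ 4 - 2828 * μ ^ 12 * ω ^ 3 - 688 * μ ^ 13 * ω ^ 2 - 64 * μ ^ 14 * ω - μ ^ 15 - 174 * μ ^ 7 * ω ^ 9 - 871 * μ ^ 8 * ω ^ 8 - 2860 * μ ^ 9 * ω ^ 7 - 5068 * μ ^ 10 * ω ^ 6 - 5292 * μ ^ 11 * ω ^ 5 - 3486 * μ ^ 12 * ω ^ 4 - 1288 * μ ^ 13 * ω ^ 3 - 224 * μ ^ 14 * ω ^ 2 - 9 * μ ^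 15 * ω - 47 * μ ^ 8 * ω ^ 9 - 686 * μ ^ 9 * ω ^ 8 - 1788 * μ ^ 10 * ω ^ 7 - 2940 * μ ^ 11 * ω ^ 6 - 2870 * μ ^ 12 * ω ^ 5 - 1554 * μ ^ 13 * ω ^ 4 - 448 * μ ^ 14 * ω ^ 3 - 36 * μ ^ 15 * ω ^ 2 - 94 * μ ^ 9 * ω ^ 9 - 314 * μ ^ 10 * ω ^ 8 - 1108 * μ ^ 11 * ω ^ 7 - 1540 * μ ^ 12 * ω ^ 6 - 1274 * μ ^ 13 * ω ^ 5 - 560 * μ ^ 14 * ω ^ 4 - 84 * μ ^ 15 * ω ^ 3 - 10 * μ ^ 10 * ω ^ 9 - 277 * μ ^ 11 * ω ^ 8 - 492 * μ ^ 12 * ω ^ 7 - 728 * μ ^ 13 * ω ^ 6 - 448 * μ ^ 14 * ω ^ 5 - 126 * μ ^ 15 * ω ^ 4 - 37 * μ ^ 11 * ω ^ 9 - 73 * μ ^ 12 * ω ^ 8 - 288 * μ ^ 13 * ω ^ 7 - 224 * μ ^ 14 * ω ^ 6 - 126 * μ ^ 15 * ω ^ 5 - μ ^ 12 * ω ^ 9 - 73 * μ ^ 13 * ω ^ 8 - 64 * μ ^ 14 * ω ^ 7 - 84 * μ ^ 15 * ω ^ 6 - 9 * μ ^ 13 * ω ^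 9 - 8 * μ ^ 14 * ω ^ 8 - 36 * μ ^ 15 * ω ^ 7 - 9 * μ ^ 15 * ω ^ 8 - μ ^ 15 * ω ^ 9) * hμ + (-2338257 - 1428692 * ω - 4103409 * μ - 835274 * ω ^ 2 - 2507207 * μ * ω - 3097685 * μ ^ 2 - 436366 * ω ^ 3 - 1465831 * μ * ω ^ 2 - 1892706 * μ ^ 2 * ω - 185534 * ω ^ 4 - 765772 * μ * ω ^ 3 - 1106566 * μ ^ 2 * ω ^ 2 - 57562 * ω ^ 5 - 325587 * μ * ω ^ 4 - 578100 * μ ^ 2 * ω ^ 3 - 11268 * ω ^ 6 - 101049 * μ * ω ^ 5 - 245778 * μ ^ 2 * ω ^ 4 - 1038 * ω ^ 7 - 19774 * μ * ω ^ 6 - 76290 * μ ^ 2 * ω ^ 5 - 1807 * μ * ω ^ 7 - 14956 * μ ^ 2 * ω ^ 6 - 1362 * μ ^ 2 * ω ^ 7) * hω + (-1170384 - 1893722 * ω - 2053908 * μ - 3323290 * μ * ω - 1550506 * μ ^ 2 - 2508770 * μ ^ 2 * ω) * h2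

theorem word8 {K : Type*} [Field K] (μ ω : K) (hμ : μ ^ 3 = μ + 1) (hω : ω ^ 2 = ω + 1) (h2 : (2 : K) = 0) :
    (mk3 1 0 0 1 1 0 (ω + μ + μ ^ 2) (-1) 1 : Matrix (Fin 3) (Fin 3) K) * (mk3 1 (μ ^ 2 + μ ^ 2 * ω) (1 + μ + μ * ω + μ ^ 2 + μ ^ 2 * ω) 0 1 (-(μ ^ 2 * ω)) 0 0 1 : Matrix (Fin 3) (Fin 3) K) * (mk3 1 0 0 1 1 0 (ω + μ + μ ^ 2) (-1) 1 : Matrix (Fin 3) (Fin 3) K) * (mk3 1 (μ ^ 2 + μ ^ 2 * ω) (1 + μ + μ * ω + μ ^ 2 + μ ^ 2 * ω) 0 1 (-(μ ^ 2 * ω)) 0 0 1 : Matrix (Fin 3) (Fin 3) K) * (mk3 1 (μ ^ 2 + μ ^ 2 * ω) (1 + μ + μ * ω + μ ^ 2 + μ ^ 2 * ω) 0 1 (-(μ ^ 2 * ω)) 0 0 1 : Matrix (Fin 3) (Fin 3) K) * (mk3 1 0 0 1 1 0 (ω + μ + μ ^ 2) (-1) 1 : Matrix (Fin 3) (Fin 3) K) =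
      mk3 (1 + ω + μ + μ * ω + μ ^ 2) 0 (1 + μ + μ * ω) 0 (μ + μ * ω + μ ^ 2 * ω) 0 0 0 (1 + μ + μ * ω) := by
  have s1 : (mk3 1 0 0 1 1 0 (ω + μ + μ ^ 2) (-1) 1 : Matrix (Fin 3) (Fin 3) K) * (mk3 1 (μ ^ 2 + μ ^ 2 * ω) (1 + μ + μ * ω + μ ^ 2 + μ ^ 2 * ω) 0 1 (-(μ ^ 2 * ω)) 0 0 1 : Matrix (Fin 3) (Fin 3) K) = mk3 1 (μ ^ 2 + μ ^ 2 * ω) (1 + μ + μ * ω + μ ^ 2 + μ ^ 2 * ω) 1 (1 + μ ^ 2 + μ ^ 2 * ω) (1 + μ + μ * ω + μ ^ 2) (ω + μ + μ ^ 2) (ω + μ ^ 2 * ω) (1 + ω + μ + μ * ω + μ ^ 2 * ω) := by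
    rw [mk3_mul]
    exact mk3_ext
      (by ring)
      (by ring)
      (by ring)
      (by ring)
      (by ring)
      (by ring)
      (by ring)
      (by linear_combination (1 + ω + μ + μ * ω) * hμ + (μ ^ 2) * hω + (μ + μ * ω + μ ^ 2 + μ ^ 2 * ω) * h2)
      (by linear_combination (2 + 2 * ω + μ + μ * ω) * hμ + (μ + μ ^ 2) * hω + (1 + ω + 2 * μ + 2 * μ * ω + 2 * μ ^ 2 + 2 * μ ^ 2 * ω) * h2)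
  have s2 : (mk3 1 (μ ^ 2 + μ ^ 2 * ω) (1 + μ + μ * ω + μ ^ 2 + μ ^ 2 * ω) 1 (1 + μ ^ 2 + μ ^ 2 * ω) (1 + μ + μ * ω + μ ^ 2) (ω + μ + μ ^ 2) (ω + μ ^ 2 * ω) (1 + ω + μ + μ * ω + μ ^ 2 * ω) : Matrix (Fin 3) (Fin 3) K) * (mk3 1 0 0 1 1 0 (ω + μ + μ ^ 2) (-1) 1 : Matrix (Fin 3) (Fin 3) K) = mk3 (1 + ω + μ + μ * ω + μ ^ 2 + μ ^ 2 * ω) (1 + μ + μ * ω) (1 + μ + μ * ω + μ ^ 2 + μ ^ 2 * ω) (μ + μ * ω + μ ^ 2 * ω) (μ + μ * ω + μ ^ 2 * ω) (1 + μ + μ * ω + μ ^ 2) (μ ^ 2 * ω) (1 + μ + μ * ω) (1 + ω + μ + μ * ω + μ ^ 2 * ω) := by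
    rw [mk3_mul]
    exact mk3_ext
      (by linear_combination (2 + 2 * ω + μ + μ * ω) * hμ + (μ + μ ^ 2) * hω + (1 + ω + 2 * μ + 2 * μ * ω + 2 * μ ^ 2 + 2 * μ ^ 2 * ω) * h2)
      (by linear_combination (-1 - μ - μ * ω) * h2)
      (by ring)
      (by linear_combination (2 + ω + μ) * hμ + (μ) * hω + (2 + ω + 2 * μ + μ * ω + 2 * μ ^ 2 + μ ^ 2 * ω) * h2)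
      (by linear_combination (-μ - μ * ω) * h2)
      (by ring)
      (by linear_combination (1 + 2 * ω + μ * ω) * hμ + (1 + μ + μ ^ 2) * hω + (1 + 3 * ω + 2 * μ + 3 * μ * ω + 2 * μ ^ 2 + 2 * μ ^ 2 * ω) * h2)
      (by linear_combination (-1 - μ - μ * ω) * h2)
      (by ring)
  have s3 : (mk3 (1 + ω + μ + μ * ω + μ ^ 2 + μ ^ 2 * ω) (1 + μ + μ * ω) (1 + μ + μ * ω + μ ^ 2 + μ ^ 2 * ω) (μ + μ * ω + μ ^ 2 * ω) (μ + μ * ω + μ ^ 2 * ω) (1 + μ + μ * ω + μ ^ 2) (μ ^ 2 * ω) (1 + μ + μ * ω) (1 + ω + μ + μ * ω + μ ^ 2 * ω) : Matrix (Fin 3) (Fin 3) K) * (mk3 1 (μ ^ 2 + μ ^ 2 * ω) (1 + μ + μ * ω + μ ^ 2 + μ ^ 2 * ω) 0 1 (-(μ ^ 2 * ω)) 0 0 1 : Matrix (Fin 3) (Fin 3) K) = mk3 (1 + ω + μ + μ * ω + μ ^ 2 + μ ^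 2 * ω) (1 + ω + μ + μ * ω) (1 + ω + μ) (μ + μ * ω + μ ^ 2 * ω) (ω + μ ^ 2 + μ ^ 2 * ω) (1 + ω + μ ^ 2 + μ ^ 2 * ω) (μ ^ 2 * ω) (1 + μ * ω + μ ^ 2) (1 + ω + μ * ω + μ ^ 2 + μ ^ 2 * ω) := by
    rw [mk3_mul]
    exact mk3_ext
      (by ring)
      (by linear_combination (1 + 2 * ω + μ + ω ^ 2 + 2 * μ * ω + μ * ω ^ 2) * hμ + (1 + 2 * μ + 2 * μ ^ 2) * hω + (1 + ω + 2 * μ + 3 * μ * ω + 2 * μ ^ 2 + 3 * μ ^ 2 * ω) * h2)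
      (by linear_combination (2 + 3 * ω + μ + ω ^ 2 + 2 * μ * ω + μ * ω ^ 2) * hμ + (1 + 3 * μ + 3 * μ ^ 2) * hω + (2 + 2 * ω + 4 * μ + 6 * μ * ω + 4 * μ ^ 2 + 5 * μ ^ 2 * ω) * h2)
      (by ring)
      (by linear_combination (1 + 2 * ω + ω ^ 2 + μ * ω + μ * ω ^ 2) * hμ + (1 + 2 * μ + μ ^ 2) * hω + (1 + ω + 2 * μ + 3 * μ * ω + μ ^ 2 * ω) * h2)
      (by linear_combination (1 + 2 * ω + ω ^ 2 + μ * ω) * hμ + (1 + μ + μ ^ 2) * hω + (1 + ω + 2 * μ + 3 * μ * ω + μ ^ 2 + 2 * μ ^ 2 * ω) * h2)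
      (by ring)
      (by linear_combination (μ * ω + μ * ω ^ 2) * hμ + (μ + μ ^ 2) * hω + (μ + μ * ω + μ ^ 2 * ω) * h2)
      (by linear_combination (μ * ω + μ * ω ^ 2) * hμ + (μ + μ ^ 2) * hω + (μ + μ * ω + μ ^ 2 * ω) * h2)
  have s4 : (mk3 (1 + ω + μ + μ * ω + μ ^ 2 + μ ^ 2 * ω) (1 + ω + μ + μ * ω) (1 + ω + μ) (μ + μ * ω + μ ^ 2 * ω) (ω + μ ^ 2 + μ ^ 2 * ω) (1 + ω + μ ^ 2 + μ ^ 2 * ω) (μ ^ 2 * ω) (1 + μ * ω + μ ^ 2) (1 + ω + μ * ω + μ ^ 2 + μ ^ 2 * ω) : Matrix (Fin 3) (Fin 3) K) * (mk3 1 (μ ^ 2 + μ ^ 2 * ω) (1 + μ + μ * ω + μ ^ 2 + μ ^ 2 * ω) 0 1 (-(μ ^ 2 * ω)) 0 0 1 : Matrix (Fin 3) (Fin 3) K) = mk3 (1 + ω + μ + μ * ω + μ ^ 2 + μ ^ 2 * ω) (1 + μ + μ * ω) (1 + μ + μ * ω) (μ + μ * ω + μ ^ 2 *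 ω) (μ + μ * ω + μ ^ 2 * ω) 0 (μ ^ 2 * ω) (1 + μ + μ * ω) (1 + μ + μ * ω) := by
    rw [mk3_mul]
    exact mk3_ext
      (by ring)
      (by linear_combination (1 + 2 * ω + μ + ω ^ 2 + 2 * μ * ω + μ * ω ^ 2) * hμ + (1 + 2 * μ + 2 * μ ^ 2) * hω + (1 + 2 * ω + 2 * μ + 3 * μ * ω + 2 * μ ^ 2 + 3 * μ ^ 2 * ω) * h2)
      (by linear_combination (2 + 3 * ω + μ + ω ^ 2 + 2 * μ * ω + μ * ω ^ 2) * hμ + (1 + 3 * μ + 2 * μ ^ 2) * hω + (2 + 3 * ω + 4 * μ + 5 * μ * ω + 3 * μ ^ 2 + 4 * μ ^ 2 * ω) * h2)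
      (by ring)
      (by linear_combination (1 + 2 * ω + ω ^ 2 + μ * ω + μ * ω ^ 2) * hμ + (1 + 2 * μ + μ ^ 2) * hω + (1 + 2 * ω + μ + 2 * μ * ω + μ ^ 2 + μ ^ 2 * ω) * h2)
      (by linear_combination (1 + 3 * ω + 2 * ω ^ 2) * hμ + (2 + 2 * μ) * hω + (2 + 3 * ω + 2 * μ + 3 * μ * ω + μ ^ 2 + 2 * μ ^ 2 * ω) * h2)
      (by ring)
      (by linear_combination (μ * ω + μ * ω ^ 2) * hμ + (μ + μ ^ 2) * hω + (μ * ω + μ ^ 2 + μ ^ 2 * ω) * h2)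
      (by linear_combination (ω + μ * ω ^ 2) * hμ + (μ + μ ^ 2) * hω + (ω + μ * ω + μ ^ 2 + μ ^ 2 * ω) * h2)
  have s5 : (mk3 (1 + ω + μ + μ * ω + μ ^ 2 + μ ^ 2 * ω) (1 + μ + μ * ω) (1 + μ + μ * ω) (μ + μ * ω + μ ^ 2 * ω) (μ + μ * ω + μ ^ 2 * ω) 0 (μ ^ 2 * ω) (1 + μ + μ * ω) (1 + μ + μ * ω) : Matrix (Fin 3) (Fin 3) K) * (mk3 1 0 0 1 1 0 (ω + μ + μ ^ 2) (-1) 1 : Matrix (Fin 3) (Fin 3) K) = mk3 (1 + ω + μ + μ * ω + μ ^ 2) 0 (1 + μ + μ * ω) 0 (μ + μ * ω + μ ^ 2 * ω) 0 0 0 (1 + μ + μ * ω) := by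
    rw [mk3_mul]
    exact mk3_ext
      (by linear_combination (1 + ω) * hμ + (μ) * hω + (1 + ω + 2 * μ + 2 * μ * ω + μ ^ 2 + μ ^ 2 * ω) * h2)
      (by ring)
      (by ring)
      (by linear_combination (μ + μ * ω + μ ^ 2 * ω) * h2)
      (by ring)
      (by ring)
      (by linear_combination (1 + ω) * hμ + (μ) * hω + (1 + ω + 2 * μ + 2 * μ * ω + μ ^ 2 + μ ^ 2 * ω) * h2)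
      (by ring)
      (by ring)
  rw [s1, s2, s3, s4, s5]

end Cfsg.Agent.Lib.Helper8.SU3Q8
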