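import Mathlib
import Cfsg.Agent.Lib.Helper8.SUField

/-!
# S2282: the field data of the `n ≥ 5` core in one statement (helper8; requested by helper26)
-/

set_option autoImplicit false

namespace Cfsg.Agent.Lib.Helper8.SUField

variable {F : Type*} [Field F] [Fintype F] {q : ℕ}

/-- `α = 1`, `β` non-fixed of trace `-1`, `ζ` a generator of the fixed field, `g0 = ζ / (β - β^q)` skew,
`s` with `s^q - s = g0`; all `q ≥ 2`, `q = 2` included. -/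
theorem exists_core_data (hF : Fintype.card F = q ^ 2) :
    ∃ α β ζ g0 s : F, α ≠ 0 ∧ β + β ^ q + α * α ^ q = 0 ∧ β ^ q ≠ β ∧
      ζ ≠ 0 ∧ ζ ^ q = ζ ∧ (∀ y : F, y ≠ 0 → y ^ q = y → ∃ k : ℕ, y = ζ ^ (k + 1)) ∧
      (β - β ^ q) * g0 = ζ ∧ g0 ^ q = -g0 ∧ s ^ q - s = g0 := by
  have hm1 : ((-1 : F)) ^ q = -1 := by rw [neg_pow_q hF, one_pow]
  obtain ⟨β, hβ, hβne⟩ := exists_trace_eq_not_fixed hF (-1) hm1
    (fun _ => neg_ne_zero.2 one_ne_zero)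
  obtain ⟨ζ, hζ0, hζq, hζ⟩ := exists_fixed_gen hF
  have hc0 : β - β ^ q ≠ 0 := sub_frob_ne_zero hβne
  have hcq : (β - β ^ q) ^ q = -(β - β ^ q) := sub_frob_skew hF β
  have hg0q : (ζ / (β - β ^ q)) ^ q = -(ζ / (β - β ^ q)) := fixed_div_skew hζq hcq
  obtain ⟨s, hs⟩ := exists_frob_sub_eq hF _ hg0q
  refine ⟨1, β, ζ, ζ / (β - β ^ q), s, one_ne_zero, ?_, hβne, hζ0, hζq, hζ, ?_, hg0q, hs⟩
  · rw [one_pow, mul_one]
    linear_combination hβ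
  · rw [mul_div_cancel₀ _ hc0]

/-- the same with `α` prescribed up to its norm: any `α ≠ 0`. -/
theorem exists_core_data' (hF : Fintype.card F = q ^ 2) (α : F) (hα : α ≠ 0) :
    ∃ β ζ g0 s : F, β + β ^ q + α * α ^ q = 0 ∧ β ^ q ≠ β ∧
      ζ ≠ 0 ∧ ζ ^ q = ζ ∧ (∀ y : F, y ≠ 0 → y ^ q = y → ∃ k : ℕ, y = ζ ^ (k + 1)) ∧
      (β - β ^ q) * g0 = ζ ∧ g0 ^ q = -g0 ∧ s ^ q - s = g0 := by
  have hN : (α * α ^ q) ^ q = α * α ^ q := norm_fixed hF α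
  have hNm : (-(α * α ^ q)) ^ q = -(α * α ^ q) := by rw [neg_pow_q hF, hN]
  have hN0 : α * α ^ q ≠ 0 := mul_ne_zero hα (pow_ne_zero _ hα)
  obtain ⟨β, hβ, hβne⟩ := exists_trace_eq_not_fixed hF (-(α * α ^ q)) hNm
    (fun _ => neg_ne_zero.2 hN0)
  obtain ⟨ζ, hζ0, hζq, hζ⟩ := exists_fixed_gen hF
  have hc0 : β - β ^ q ≠ 0 := sub_frob_ne_zero hβne
  have hcq : (β - β ^ q) ^ q = -(β - β ^ q) := sub_frob_skew hF β
  have hg0q : (ζ / (β - β ^ q)) ^ q = -(ζ / (β - β ^ q)) := fixed_div_skew hζq hcq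
  obtain ⟨s, hs⟩ := exists_frob_sub_eq hF _ hg0q
  refine ⟨β, ζ, ζ / (β - β ^ q), s, ?_, hβne, hζ0, hζq, hζ, ?_, hg0q, hs⟩
  · linear_combination hβ
  · rw [mul_div_cancel₀ _ hc0]

end Cfsg.Agent.Lib.Helper8.SUField
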