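import Mathlib
import Cfsg.Agent.Lib.Helper12.SakDefs

/-!
# S5544 (Sakuma, Majorana setting), leaf B (core): `sig a x` is fixed by the Majorana involution of `a`,
and the formula for `a * sig a x`; here from the decomposition `x = (B a x) a + x0 + xq + xt` (leaf A1)
as an explicit hypothesis.
-/

set_option autoImplicit false

namespace Cfsg.Agent.Lib.Helper8.SakB

open Cfsg Cfsg.Axial Cfsg.Agent.Lib.Helper12.Sak

variable {V : Type*} [AddCommGroup V] [Module ℝ V]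
variable {mul : V →ₗ[ℝ] V →ₗ[ℝ] V} {B : LinearMap.BilinForm ℝ V} {μ : V ≃ₗ[ℝ] V} {a : V}

theorem pair_idem (h : IsMajoranaPair mul B μ a) : mul a a = a := h.2.2.1.1.2.1

theorem sig_fix_of (hfix : μ a = a) (haa : mul a a = a) (x : V)
    (hdec : ∃ x0 xq xt : V, mul a x0 = 0 ∧ mul a xq = (1 / 4 : ℝ) • xq ∧
      mul a xt = (1 / 32 : ℝ) • xt ∧ x = (B a x) • a + x0 + xq + xt ∧ μ x0 = x0 ∧ μ xq = xq ∧
      μ xt = -xt) :
    μ (sig mul a x) = sig mul a x := by
  obtain ⟨x0, xq, xt, h0, hq, ht, hx, m0, mq, mt⟩ := hdec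
  generalize B a x = lam at hx
  subst hx
  rw [sig_def]
  simp only [map_add, map_smul, map_sub, map_neg, haa, h0, hq, ht, hfix, m0, mq, mt, smul_zero,
    add_zero]
  module

theorem axis_mul_sig_of (hfix : μ a = a) (haa : mul a a = a) (x : V)
    (hdec : ∃ x0 xq xt : V, mul a x0 = 0 ∧ mul a xq = (1 / 4 : ℝ) • xq ∧
      mul a xt = (1 / 32 : ℝ) • xt ∧ x = (B a x) • a + x0 + xq + xt ∧ μ x0 = x0 ∧ μ xq = xq ∧
      μ xt = -xt) :
    mul a (sig mul a x) =
      (3 / 4 * B a x - 25 / 1024 : ℝ) • a + (7 / 32 : ℝ) • sig mul a x +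
        (7 / 2048 : ℝ) • (x + μ x) := by
  obtain ⟨x0, xq, xt, h0, hq, ht, hx, m0, mq, mt⟩ := hdec
  generalize B a x = lam at hx ⊢
  subst hx
  rw [sig_def]
  simp only [map_add, map_smul, map_sub, map_neg, haa, h0, hq, ht, hfix, m0, mq, mt, smul_zero,
    add_zero]
  module

end Cfsg.Agent.Lib.Helper8.SakB
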