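import Mathlib
import Cfsg.Agent.Lib.Helper12.SakDefs
import Cfsg.Agent.Lib.Helper8.SakBCore

/-!
# S5544 (Sakuma, Majorana setting), leaf B: `sig_fix` and `axis_mul_sig`
(with an own copy of the decomposition lemma of leaf A1, so that the module is self-contained).
-/

set_option autoImplicit false

namespace Cfsg.Agent.Lib.Helper8.SakB

open Cfsg Cfsg.Axial Cfsg.Agent.Lib.Helper12.Sak

variable {V : Type*} [AddCommGroup V] [Module ℝ V]
variable {mul : V →ₗ[ℝ] V →ₗ[ℝ] V} {B : LinearMap.BilinForm ℝ V} {μ : V ≃ₗ[ℝ] V} {a : V}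

theorem mem_eigen_iff (c : ℝ) (z : V) : z ∈ eigen mul a c ↔ mul a z = c • z := by
  unfold eigen
  rw [Module.End.mem_eigenspace_iff]

theorem eigen_le_plus {c : ℝ} (hc : c ∈ ({1, 0, 1 / 4} : Set ℝ)) :
    eigen mul a c ≤ eigenSum mul a ({1, 0, 1 / 4} : Set ℝ) := by
  unfold eigenSum
  exact le_biSup (fun c => eigen mul a c) hc

theorem pair_fix_self' (h : IsMajoranaPair mul B μ a) : μ a = a := by
  have haa := pair_idem h
  have h1 : a ∈ eigen mul a (1 : ℝ) := by
    rw [mem_eigen_iff, haa, one_smul]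
  exact h.2.2.2.1 a (eigen_le_plus (by simp) h1)

theorem form_eq_zero (hV : IsMajoranaAmbient mul B) (haa : mul a a = a) {c : ℝ} (hc : c ≠ 1) {z : V}
    (hz : mul a z = c • z) : B a z = 0 := by
  have h1 : B a (mul a z) = B (mul a a) z := hV.2.2.2.1 a a z
  rw [haa, hz, map_smul, smul_eq_mul] at h1
  have h2 : (c - 1) * B a z = 0 := by
    rw [sub_mul, h1, one_mul, sub_self]
  rcases mul_eq_zero.mp h2 with h3 | h3
  · exact absurd (sub_eq_zero.mp h3) hc
  · exact h3

theorem pair_decomp' (hV : IsMajoranaAmbient mul B) (h : IsMajoranaPair mul B μ a) (hn : B a a = 1)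
    (x : V) :
    ∃ x0 xq xt : V, mul a x0 = 0 ∧ mul a xq = (1 / 4 : ℝ) • xq ∧ mul a xt = (1 / 32 : ℝ) • xt ∧
      x = (B a x) • a + x0 + xq + xt ∧ μ x0 = x0 ∧ μ xq = xq ∧ μ xt = -xt := by
  have haa := pair_idem h
  have htop : eigenSum mul a majoranaSpectrum = ⊤ := h.2.2.1.1.2.2.1
  have hspan : eigen mul a (1 : ℝ) = Submodule.span ℝ {a} := h.2.2.1.2
  have hx : x ∈ eigenSum mul a majoranaSpectrum := by
    rw [htop]
    exact Submodule.mem_top
  unfold eigenSum majoranaSpectrum at hx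
  rw [iSup_insert, iSup_insert, iSup_insert, iSup_singleton] at hx
  obtain ⟨x1, hx1, y, hy, rfl⟩ := Submodule.mem_sup.mp hx
  obtain ⟨x0, hx0, y', hy', rfl⟩ := Submodule.mem_sup.mp hy
  obtain ⟨xq, hxq, xt, hxt, rfl⟩ := Submodule.mem_sup.mp hy'
  rw [hspan, Submodule.mem_span_singleton] at hx1
  obtain ⟨c, rfl⟩ := hx1
  rw [mem_eigen_iff] at hx0 hxq hxt
  have e0 : B a x0 = 0 := form_eq_zero hV haa (by norm_num) hx0
  have eq : B a xq = 0 := form_eq_zero hV haa (by norm_num) hxq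
  have et : B a xt = 0 := form_eq_zero hV haa (by norm_num) hxt
  have hc : B a (c • a + (x0 + (xq + xt))) = c := by
    rw [map_add, map_add, map_add, map_smul, hn, e0, eq, et, smul_eq_mul, mul_one, add_zero,
      add_zero, add_zero]
  refine ⟨x0, xq, xt, ?_, hxq, hxt, ?_, ?_, ?_, ?_⟩
  · rw [hx0, zero_smul]
  · rw [hc]
    abel
  · exact h.2.2.2.1 x0 (eigen_le_plus (by simp) ((mem_eigen_iff _ _).mpr hx0))
  · exact h.2.2.2.1 xq (eigen_le_plus (by simp) ((mem_eigen_iff _ _).mpr hxq))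
  · exact h.2.2.2.2 xt ((mem_eigen_iff _ _).mpr hxt)

theorem sig_fix (hV : IsMajoranaAmbient mul B) (h : IsMajoranaPair mul B μ a) (hn : B a a = 1) (x : V) :
    μ (sig mul a x) = sig mul a x :=
  sig_fix_of (pair_fix_self' h) (pair_idem h) x (pair_decomp' hV h hn x)

theorem axis_mul_sig (hV : IsMajoranaAmbient mul B) (h : IsMajoranaPair mul B μ a) (hn : B a a = 1)
    (x : V) :
    mul a (sig mul a x) =
      (3 / 4 * B a x - 25 / 1024 : ℝ) • a + (7 / 32 : ℝ) • sig mul a x +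
        (7 / 2048 : ℝ) • (x + μ x) :=
  axis_mul_sig_of (pair_fix_self' h) (pair_idem h) x (pair_decomp' hV h hn x)

end Cfsg.Agent.Lib.Helper8.SakB
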