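/-
helper8: Sibley's coherence theorem, the congruence step.  For an irreducible character `φ` of `G`
orthogonal to the coherent extension of the set `X` of the irreducible characters of the subgroup `N`
not trivial on the normal subgroup `Z`, the multiplicities of the members of `X` in the restriction of
`φ` are proportional to the degrees; hence `φ` is constant on `Z \ {1}`, and a congruence for
`φ 1 - φ z` gives the divisibility needed for the gluing step.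
-/
import Mathlib
import Cfsg.Agent.Lib.Helper8.PFCount
import Cfsg.Agent.Lib.Helper10.Coherence4
import Cfsg.Agent.Lib.Lead.CharInd

set_option autoImplicit false

namespace Cfsg.Agent.Lib.Helper8.SibCongr

open Cfsg Cfsg.Agent.CharLib Cfsg.Agent.Lib.Helper10 Cfsg.Agent.Lib.Helper8.PFCount
open scoped ComplexConjugate

universe u

section abstract

variable {L : Type u} [Group L] [Fintype L]

attribute [local instance] fintypeIrr

open Classical in
/-- For a class function `ρ` of `L` and `z ∈ Z`, the difference `ρ 1 - ρ z` only involves the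
irreducible characters not trivial on `Z`. -/
theorem char_diff_eq (Z : Subgroup L) {ρ : L → ℂ} (hρ : IsClassFunction L ρ) (z : L)
    (hz : z ∈ Z) :
    ρ 1 - ρ z = ∑ ψ ∈ Finset.univ.filter (fun ψ : IrrCharacter L => ¬ ∀ n ∈ Z, ψ.1 n = ψ.1 1),
      classInner ρ ψ.1 * (ψ.1 1 - ψ.1 z) := by
  have h := classFunction_eq_sum hρ
  have h1 : ρ 1 - ρ z = ∑ ψ : IrrCharacter L, classInner ρ ψ.1 * (ψ.1 1 - ψ.1 z) := by
    have e1 := congrFun h 1
    have ez := congrFun h z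
    rw [Finset.sum_apply] at e1 ez
    rw [e1, ez, ← Finset.sum_sub_distrib]
    apply Finset.sum_congr rfl
    intro ψ _
    simp only [Pi.smul_apply, smul_eq_mul]
    ring
  rw [h1, ← Finset.sum_filter_add_sum_filter_not Finset.univ
    (fun ψ : IrrCharacter L => ∀ n ∈ Z, ψ.1 n = ψ.1 1)]
  rw [Finset.sum_eq_zero, zero_add]
  intro ψ hψ
  rw [Finset.mem_filter] at hψ
  rw [hψ.2 z hz, sub_self, mul_zero]

open Cfsg.Agent.Lib.Helper24 in
open Classical in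
/-- `∑ ψ(1) ψ(z) = - |L : Z|` over the irreducible characters not trivial on `Z`, for `1 ≠ z ∈ Z`. -/
theorem sum_deg_mul_nontrivial (Z : Subgroup L) [Z.Normal] (z : L) (hz : z ∈ Z) (hz1 : z ≠ 1) :
    ∑ ψ ∈ Finset.univ.filter (fun ψ : IrrCharacter L => ¬ ∀ n ∈ Z, ψ.1 n = ψ.1 1),
      ψ.1 1 * ψ.1 z = -(Z.index : ℂ) := by
  have h1 := sum_irr_degree_mul (G := L) z
  rw [if_neg hz1, ← Finset.sum_filter_add_sum_filter_not Finset.univ
    (fun ψ : IrrCharacter L => ∀ n ∈ Z, ψ.1 n = ψ.1 1)] at h1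
  have h2 := sum_irr_degree_mul (G := L) 1
  rw [if_pos rfl, ← Finset.sum_filter_add_sum_filter_not Finset.univ
    (fun ψ : IrrCharacter L => ∀ n ∈ Z, ψ.1 n = ψ.1 1), sum_sq_nontrivial Z,
    ← Nat.card_eq_fintype_card] at h2
  have h3 : ∑ ψ ∈ Finset.univ.filter (fun ψ : IrrCharacter L => ∀ n ∈ Z, ψ.1 n = ψ.1 1),
      ψ.1 1 * ψ.1 z = ∑ ψ ∈ Finset.univ.filter
        (fun ψ : IrrCharacter L => ∀ n ∈ Z, ψ.1 n = ψ.1 1), ψ.1 1 * ψ.1 1 := by
    apply Finset.sum_congr rfl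
    intro ψ hψ
    rw [Finset.mem_filter] at hψ
    rw [hψ.2 z hz]
  rw [h3] at h1
  linear_combination h1 - h2

open Classical in
/-- If the multiplicities in `ρ` of the irreducible characters not trivial on `Z` are proportional to
their degrees, then `χ₁(1) (ρ 1 - ρ z) = ⟨ρ, χ₁⟩ |L|` for `1 ≠ z ∈ Z`. -/
theorem deg_mul_diff (Z : Subgroup L) [Z.Normal] {ρ : L → ℂ} (hρ : IsClassFunction L ρ)
    (χ₁ : L → ℂ)
    (hprop : ∀ ψ : IrrCharacter L, (¬ ∀ n ∈ Z, ψ.1 n = ψ.1 1) →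
      classInner ρ ψ.1 * χ₁ 1 = classInner ρ χ₁ * ψ.1 1)
    (z : L) (hz : z ∈ Z) (hz1 : z ≠ 1) :
    χ₁ 1 * (ρ 1 - ρ z) = classInner ρ χ₁ * (Nat.card L : ℂ) := by
  rw [char_diff_eq Z hρ z hz, Finset.mul_sum]
  have h1 : ∀ ψ ∈ Finset.univ.filter (fun ψ : IrrCharacter L => ¬ ∀ n ∈ Z, ψ.1 n = ψ.1 1),
      χ₁ 1 * (classInner ρ ψ.1 * (ψ.1 1 - ψ.1 z)) =
        classInner ρ χ₁ * (ψ.1 1 * ψ.1 1) - classInner ρ χ₁ * (ψ.1 1 * ψ.1 z) := by
    intro ψ hψ
    rw [Finset.mem_filter] at hψ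
    have := hprop ψ hψ.2
    linear_combination (ψ.1 1 - ψ.1 z) * this
  rw [Finset.sum_congr rfl h1, Finset.sum_sub_distrib, ← Finset.mul_sum, ← Finset.mul_sum,
    sum_sq_nontrivial Z, sum_deg_mul_nontrivial Z z hz hz1]
  ring

end abstract

section concrete

variable {G : Type u} [Group G] [Fintype G]

attribute [local instance] fintypeIrr

set_option maxHeartbeats 1600000 in
open Classical in
/-- The divisibility hypothesis of the gluing step. -/
theorem hdiv_of_congr (N : Subgroup G) [Fintype N] (Z : Subgroup N) [Z.Normal]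
    (X : Finset (N → ℂ))
    (hX : ∀ χ, χ ∈ X ↔ IsIrrCharacter N χ ∧ ∃ z ∈ Z, χ z ≠ χ 1)
    (σ : (N → ℂ) → (G → ℂ)) (hσ : IsLinearIsometryOn (zspan (↑X : Set (N → ℂ))) σ)
    (hσα : ∀ θ ∈ zspanOn (↑X : Set (N → ℂ)) {1}ᶜ, σ θ = indFun N θ)
    (χ₁ : N → ℂ) (hχ₁ : χ₁ ∈ X) (ψ : N → ℂ) (hψ : IsCharacter N ψ) (q e h : ℕ) (hq : 0 < q)
    (he : 0 < e) (hh : 0 < h) (hχ₁1 : χ₁ 1 = ((q * e : ℕ) : ℂ)) (hcard : Nat.card N = h * e)
    (hz : ∃ z ∈ Z, z ≠ 1)
    (φ : G → ℂ) (hφ : IsIrrCharacter G φ)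
    (hsyl : (∀ z ∈ Z, ∀ z' ∈ Z, z ≠ 1 → z' ≠ 1 → φ (z : G) = φ (z' : G)) →
      ∀ z ∈ Z, z ≠ 1 → ∃ n d : ℤ, φ (z : G) = n ∧ φ 1 = d ∧ (h : ℤ) ∣ d - n)
    (horth : ∀ χ ∈ X, classInner (σ χ) φ = 0) :
    ∃ m : ℤ, classInner (indFun N (χ₁ - (q : ℤ) • ψ)) φ = (q : ℂ) * m := by
  have hφc : IsCharacter G φ := IsIrrCharacter.isCharacter hφ
  have hφcl : IsClassFunction G φ := IsCharacter.isClassFunction hφc
  set ρ : N → ℂ := fun x : N => φ x with hρ
  have hρc : IsCharacter N ρ := IsCharacter.restrict hφc N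
  have hρcl : IsClassFunction N ρ := IsCharacter.isClassFunction hρc
  have hXirr : ∀ χ ∈ X, IsIrrCharacter N χ := fun χ hχ => ((hX χ).mp hχ).1
  -- symmetry of the multiplicities
  have hsymm : ∀ χ : N → ℂ, IsCharacter N χ → classInner χ ρ = classInner ρ χ := by
    intro χ hχ
    obtain ⟨n, hn⟩ := IsCharacter.classInner_nat hρc hχ
    rw [Cfsg.Agent.Lib.Helper10.classInner_conj_symm, hn, Complex.conj_natCast]
  have hχ₁irr := hXirr χ₁ hχ₁
  have hχ₁c : IsCharacter N χ₁ := IsIrrCharacter.isCharacter hχ₁irr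
  -- proportionality
  have hprop : ∀ χ ∈ X, classInner ρ χ * χ₁ 1 = classInner ρ χ₁ * χ 1 := by
    intro χ hχ
    have hχc : IsCharacter N χ := IsIrrCharacter.isCharacter (hXirr χ hχ)
    obtain ⟨k, hk⟩ := IsCharacter.apply_one hχc
    set θ : N → ℂ := ((q * e : ℕ) : ℤ) • χ + (-(k : ℤ)) • χ₁ with hθ
    have hθX : θ ∈ zspanOn (↑X : Set (N → ℂ)) {1}ᶜ := by
      refine ⟨zspan_add (zspan_zsmul (subset_zspan hχ) _) (zspan_zsmul (subset_zspan hχ₁) _), ?_⟩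
      intro y hy
      have hy1 : y = 1 := by simpa using hy
      rw [hy1, hθ]
      simp only [Pi.add_apply, Pi.smul_apply]
      rw [hχ₁1, hk]
      simp only [zsmul_eq_mul]
      push_cast
      ring
    have h2 : σ θ = ((q * e : ℕ) : ℤ) • σ χ + (-(k : ℤ)) • σ χ₁ :=
      isometry_lin2 hσ (fun a ha n => zspan_zsmul ha n) (subset_zspan hχ) (subset_zspan hχ₁) _ _
    have h3 : classInner (σ θ) φ = 0 := by
      rw [h2, Cfsg.Agent.Lib.Helper10.classInner_add_left, classInner_zsmul_left,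
        classInner_zsmul_left, horth χ hχ, horth χ₁ hχ₁]
      ring
    rw [hσα θ hθX, frobenius_reciprocity N θ hφcl] at h3
    change classInner θ ρ = 0 at h3
    rw [hθ, Cfsg.Agent.Lib.Helper10.classInner_add_left, classInner_zsmul_left,
      classInner_zsmul_left, hsymm χ hχc, hsymm χ₁ hχ₁c] at h3
    rw [hχ₁1, hk]
    push_cast at h3 ⊢
    linear_combination h3
  have hprop' : ∀ ψ' : IrrCharacter N, (¬ ∀ n ∈ Z, ψ'.1 n = ψ'.1 1) →
      classInner ρ ψ'.1 * χ₁ 1 = classInner ρ χ₁ * ψ'.1 1 := by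
    intro ψ' hψ'
    apply hprop
    rw [hX]
    refine ⟨ψ'.2, ?_⟩
    by_contra hcon
    push Not at hcon
    exact hψ' hcon
  have hkey : ∀ z ∈ Z, z ≠ 1 → χ₁ 1 * (ρ 1 - ρ z) = classInner ρ χ₁ * (Nat.card N : ℂ) :=
    fun z hz hz1 => deg_mul_diff Z hρcl χ₁ hprop' z hz hz1
  have hχ₁ne : χ₁ 1 ≠ 0 := by
    rw [hχ₁1]
    have : q * e ≠ 0 := (Nat.mul_pos hq he).ne'
    exact_mod_cast this
  -- constancy on `Z \ {1}`
  have hconst : ∀ z ∈ Z, ∀ z' ∈ Z, z ≠ 1 → z' ≠ 1 → φ (z : G) = φ (z' : G) := by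
    intro z hz z' hz' hz1 hz'1
    have h1 := hkey z hz hz1
    have h2 := hkey z' hz' hz'1
    have h3 : χ₁ 1 * (ρ z - ρ z') = 0 := by linear_combination h2 - h1
    rcases mul_eq_zero.mp h3 with h4 | h4
    · exact absurd h4 hχ₁ne
    · exact sub_eq_zero.mp h4
  obtain ⟨z, hzZ, hz1⟩ := hz
  obtain ⟨n, d, hn, hd, t, ht⟩ := hsyl hconst z hzZ hz1
  obtain ⟨c, hc⟩ := IsCharacter.classInner_nat hρc hχ₁c
  obtain ⟨r, hr⟩ := IsCharacter.classInner_nat hρc hψ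
  have h5 := hkey z hzZ hz1
  have hρ1 : ρ 1 = (d : ℂ) := by
    rw [hρ]
    simp only [OneMemClass.coe_one]
    exact hd
  have hρz : ρ z = (n : ℂ) := hn
  rw [hρ1, hρz, hc, hχ₁1, hcard] at h5
  -- the integer identity `q * t = c`
  have h6 : ((q * e : ℕ) : ℤ) * (d - n) = (c : ℤ) * ((h * e : ℕ) : ℤ) := by
    have : ((((q * e : ℕ) : ℤ) * (d - n) : ℤ) : ℂ) = (((c : ℤ) * ((h * e : ℕ) : ℤ) : ℤ) : ℂ) := by
      push_cast
      push_cast at h5
      linear_combination h5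
    exact_mod_cast this
  rw [ht] at h6
  have h7 : (q : ℤ) * t = c := by
    have he' : (e : ℤ) ≠ 0 := by exact_mod_cast he.ne'
    have hh' : (h : ℤ) ≠ 0 := by exact_mod_cast hh.ne'
    have h8 : ((h : ℤ) * e) * ((q : ℤ) * t) = ((h : ℤ) * e) * c := by
      push_cast at h6
      linear_combination h6
    exact mul_left_cancel₀ (mul_ne_zero hh' he') h8
  refine ⟨t - r, ?_⟩
  have hψsymm := hsymm ψ hψ
  rw [frobenius_reciprocity N _ hφcl]
  change classInner (χ₁ - (q : ℤ) • ψ) ρ = _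
  rw [Cfsg.Agent.Lib.Helper10.classInner_sub_left, classInner_zsmul_left, hsymm χ₁ hχ₁c,
    hsymm ψ hψ, hc, hr]
  have h9 : ((c : ℤ) : ℂ) = (((q : ℤ) * t : ℤ) : ℂ) := by rw [h7]
  push_cast at h9 ⊢
  rw [h9]
  ring

end concrete

end Cfsg.Agent.Lib.Helper8.SibCongr
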