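import Mathlib

/-!
helper8: M. Hall's theorem `n_3 ≠ 22`, part B: abstract combinatorics of a partial linear space
(`nbr` = pairs of Sylow subgroups meeting in index 3, `line x y` = the Sylow subgroups containing
`x ⊓ y`).
-/

set_option autoImplicit false

namespace Cfsg.Agent.Lib.Helper8.Syl22

open Finset

/-- If all fibres of `f` have the same cardinality `m`, then `m` divides the cardinality. -/
theorem dvd_card_of_fibers {Ω β : Type*} [Fintype Ω] [DecidableEq Ω] [DecidableEq β] (f : Ω → β)
    (m : ℕ) (h : ∀ x : Ω, ((univ : Finset Ω).filter (fun z => f z = f x)).card = m) :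
    m ∣ Fintype.card Ω := by
  have h1 : (univ : Finset Ω).card =
      ∑ b ∈ (univ : Finset Ω).image f, ((univ : Finset Ω).filter (fun z => f z = b)).card :=
    Finset.card_eq_sum_card_image f univ
  have h2 : ∀ b ∈ (univ : Finset Ω).image f,
      ((univ : Finset Ω).filter (fun z => f z = b)).card = m := by
    intro b hb
    obtain ⟨x, _, rfl⟩ := Finset.mem_image.mp hb
    exact h x
  rw [Finset.sum_congr rfl h2, Finset.sum_const, smul_eq_mul] at h1
  rw [← Finset.card_univ, h1]
  exact Dvd.intro_left _ rfl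

/-- A partial linear space structure. -/
structure PLS (Ω : Type*) [Fintype Ω] [DecidableEq Ω] where
  nbr : Ω → Finset Ω
  line : Ω → Ω → Finset Ω
  symm : ∀ x y, y ∈ nbr x → x ∈ nbr y
  irrefl : ∀ x, x ∉ nbr x
  mem_left : ∀ x y, y ∈ nbr x → x ∈ line x y
  mem_right : ∀ x y, y ∈ nbr x → y ∈ line x y
  pair : ∀ x y, y ∈ nbr x → ∀ z ∈ line x y, ∀ w ∈ line x y, z ≠ w →
    w ∈ nbr z ∧ line z w = line x y
  tri : ∀ x y z, y ∈ nbr x → z ∈ nbr y → z ∈ nbr x → z ∈ line x y
  four : ∀ x y, y ∈ nbr x → 4 ≤ (line x y).card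

namespace PLS

variable {Ω : Type*} [Fintype Ω] [DecidableEq Ω] (S : PLS Ω)

/-- points of a line other than the base point are neighbours of the base point -/
theorem erase_subset (x y : Ω) (hy : y ∈ S.nbr x) : (S.line x y).erase x ⊆ S.nbr x := by
  intro u hu
  rw [Finset.mem_erase] at hu
  exact (S.pair x y hy x (S.mem_left x y hy) u hu.2 (Ne.symm hu.1)).1

theorem line_eq_of_mem (x y u : Ω) (hy : y ∈ S.nbr x) (hu : u ∈ S.line x y) (hux : u ≠ x) :
    u ∈ S.nbr x ∧ S.line x u = S.line x y :=
  S.pair x y hy x (S.mem_left x y hy) u hu (Ne.symm hux)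

/-- Case `N = 21`: a single line. -/
theorem line_eq_univ (h : ∀ x, S.nbr x = univ.erase x) (x y : Ω) (hy : y ∈ S.nbr x) :
    S.line x y = univ := by
  apply Finset.eq_univ_of_forall
  intro z
  by_cases hzx : z = x
  · rw [hzx]; exact S.mem_left x y hy
  by_cases hzy : z = y
  · rw [hzy]; exact S.mem_right x y hy
  apply S.tri x y z hy
  · rw [h y]; exact Finset.mem_erase.mpr ⟨hzy, Finset.mem_univ _⟩
  · rw [h x]; exact Finset.mem_erase.mpr ⟨hzx, Finset.mem_univ _⟩

/-- Case `N = 3`. -/
theorem false_of_three (h22 : Fintype.card Ω = 22) (h : ∀ x, (S.nbr x).card = 3) : False := by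
  -- every line is `insert x (nbr x)`
  have h1 : ∀ x y, y ∈ S.nbr x → S.line x y = insert x (S.nbr x) := by
    intro x y hy
    have hsub : S.line x y ⊆ insert x (S.nbr x) := by
      intro u hu
      by_cases hux : u = x
      · rw [hux]; exact Finset.mem_insert_self _ _
      · exact Finset.mem_insert_of_mem (S.line_eq_of_mem x y u hy hu hux).1
    apply Finset.eq_of_subset_of_card_le hsub
    rw [Finset.card_insert_of_notMem (S.irrefl x), h x]
    exact S.four x y hy
  have h2 : ∀ x y, y ∈ S.nbr x → insert y (S.nbr y) = insert x (S.nbr x) := by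
    intro x y hy
    have hx : x ∈ S.nbr y := S.symm x y hy
    rw [← h1 x y hy, ← h1 y x hx]
    have hne : y ≠ x := fun e => S.irrefl x (e ▸ hy)
    exact (S.pair x y hy y (S.mem_right x y hy) x (S.mem_left x y hy) hne).2
  have h3 : ∀ x : Ω, ((univ : Finset Ω).filter
      (fun z => insert z (S.nbr z) = insert x (S.nbr x))).card = 4 := by
    intro x
    have : (univ : Finset Ω).filter (fun z => insert z (S.nbr z) = insert x (S.nbr x))
        = insert x (S.nbr x) := by
      ext z
      simp only [Finset.mem_filter, Finset.mem_univ, true_and]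
      constructor
      · intro hz
        rw [← hz]; exact Finset.mem_insert_self _ _
      · intro hz
        rcases Finset.mem_insert.mp hz with rfl | hz
        · rfl
        · exact h2 x z hz
    rw [this, Finset.card_insert_of_notMem (S.irrefl x), h x]
  have := dvd_card_of_fibers (fun z => insert z (S.nbr z)) 4 h3
  rw [h22] at this
  omega

/-- the complement of `insert x (nbr x)` -/
def far (x : Ω) : Finset Ω := univ \ insert x (S.nbr x)

theorem mem_far {x z : Ω} : z ∈ S.far x ↔ z ≠ x ∧ z ∉ S.nbr x := by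
  simp [far, not_or]

theorem card_far (h22 : Fintype.card Ω = 22) (h : ∀ x, (S.nbr x).card = 12) (x : Ω) :
    (S.far x).card = 9 := by
  unfold far
  rw [Finset.card_sdiff_of_subset (Finset.subset_univ _), Finset.card_univ, h22,
    Finset.card_insert_of_notMem (S.irrefl x), h x]

/-- A line through a far point `z` of `x` contains at most one neighbour of `x`. -/
theorem inter_line_unique {x z w y y' : Ω} (hzx : z ≠ x) (hz : z ∉ S.nbr x) (hw : w ∈ S.nbr z)
    (hy : y ∈ S.line z w) (hy' : y' ∈ S.line z w) (hyx : y ∈ S.nbr x) (hyx' : y' ∈ S.nbr x) :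
    y = y' := by
  by_contra hne
  obtain ⟨h1, h2⟩ := S.pair z w hw y hy y' hy' hne
  have h3 : x ∈ S.line y y' := S.tri y y' x h1 (S.symm x y' hyx') (S.symm x y hyx)
  rw [h2] at h3
  have h4 := (S.line_eq_of_mem z w x hw h3 (Ne.symm hzx)).1
  exact hz (S.symm z x h4)

theorem lines_card_four (h22 : Fintype.card Ω = 22) (h : ∀ x, (S.nbr x).card = 12)
    {x z : Ω} (hzx : z ≠ x) (hz : z ∉ S.nbr x) :
    (S.nbr z ∩ S.nbr x).card = 4 ∧ ∀ w ∈ S.nbr z, (S.line z w).card = 4 := by
  set Y := S.nbr z ∩ S.nbr x with hY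
  -- step 2
  have h4 : 4 ≤ Y.card := by
    have hsub : S.nbr z \ S.nbr x ⊆ (S.far x).erase z := by
      intro u hu
      rw [Finset.mem_sdiff] at hu
      rw [Finset.mem_erase, mem_far]
      refine ⟨?_, ?_, hu.2⟩
      · rintro rfl; exact S.irrefl _ hu.1
      · rintro rfl; exact hz (S.symm _ _ hu.1)
    have h1 := Finset.card_le_card hsub
    rw [Finset.card_erase_of_mem (S.mem_far.mpr ⟨hzx, hz⟩), S.card_far h22 h x] at h1
    have h2 := Finset.card_sdiff_add_card_inter (S.nbr z) (S.nbr x)
    rw [h z, ← hY] at h2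
    omega
  -- step 3
  have hA : ∀ y ∈ Y, (S.line z y).erase z ⊆ S.nbr z :=
    fun y hy => S.erase_subset z y (Finset.mem_inter.mp hy).1
  have hA3 : ∀ y ∈ Y, 3 ≤ ((S.line z y).erase z).card := by
    intro y hy
    have hy1 := (Finset.mem_inter.mp hy).1
    rw [Finset.card_erase_of_mem (S.mem_left z y hy1)]
    have := S.four z y hy1
    omega
  have hdisj : (Y : Set Ω).PairwiseDisjoint (fun y => (S.line z y).erase z) := by
    intro y hy y' hy' hne
    rw [Function.onFun, Finset.disjoint_left]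
    intro u hu hu'
    apply hne
    have hy1 := Finset.mem_inter.mp hy
    have hy1' := Finset.mem_inter.mp hy'
    rw [Finset.mem_erase] at hu hu'
    have e1 := (S.line_eq_of_mem z y u hy1.1 hu.2 hu.1).2
    have e2 := (S.line_eq_of_mem z y' u hy1'.1 hu'.2 hu'.1).2
    have e3 : S.line z y' = S.line z y := e2.symm.trans e1
    exact S.inter_line_unique hzx hz hy1.1 (S.mem_right z y hy1.1)
      (e3 ▸ S.mem_right z y' hy1'.1) hy1.2 hy1'.2
  have hU : Y.biUnion (fun y => (S.line z y).erase z) ⊆ S.nbr z := Finset.biUnion_subset.mpr hA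
  have hcard := Finset.card_biUnion hdisj
  have hle := Finset.card_le_card hU
  rw [hcard, h z] at hle
  have hsum : ∑ _y ∈ Y, 3 ≤ ∑ y ∈ Y, ((S.line z y).erase z).card := Finset.sum_le_sum hA3
  rw [Finset.sum_const, smul_eq_mul] at hsum
  have hY4 : Y.card = 4 := by omega
  refine ⟨hY4, ?_⟩
  have hA3' : ∀ y ∈ Y, ((S.line z y).erase z).card = 3 := by
    intro y0 hy0
    by_contra hne
    have hlt : 3 < ((S.line z y0).erase z).card := lt_of_le_of_ne (hA3 y0 hy0) (Ne.symm hne)
    have := Finset.sum_lt_sum hA3 ⟨y0, hy0, hlt⟩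
    rw [Finset.sum_const, smul_eq_mul] at this
    omega
  have hUeq : Y.biUnion (fun y => (S.line z y).erase z) = S.nbr z := by
    apply Finset.eq_of_subset_of_card_le hU
    rw [hcard, h z, Finset.sum_congr rfl hA3', Finset.sum_const, smul_eq_mul, hY4]
  intro w hw
  rw [← hUeq, Finset.mem_biUnion] at hw
  obtain ⟨y, hy, hwy⟩ := hw
  rw [Finset.mem_erase] at hwy
  have hy1 := (Finset.mem_inter.mp hy).1
  rw [(S.line_eq_of_mem z y w hy1 hwy.2 hwy.1).2]
  have h5 := hA3' y hy
  rw [Finset.card_erase_of_mem (S.mem_left z y hy1)] at h5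
  have h6 := S.four z y hy1
  omega

theorem far_subset_nbr (h22 : Fintype.card Ω = 22) (h : ∀ x, (S.nbr x).card = 12) {x y : Ω}
    (hy : y ∈ S.nbr x) (h4 : (S.line x y).card = 4) : S.far x ⊆ S.nbr y := by
  have hyx : y ≠ x := fun e => S.irrefl x (e ▸ hy)
  have e : S.nbr y ∩ insert x (S.nbr x) = (S.line x y).erase y := by
    ext u
    rw [Finset.mem_inter, Finset.mem_erase, Finset.mem_insert]
    constructor
    · rintro ⟨hu, rfl | hux⟩
      · exact ⟨Ne.symm hyx, S.mem_left _ _ hy⟩
      · exact ⟨fun e => S.irrefl y (e ▸ hu), S.tri x y u hy hu hux⟩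
    · rintro ⟨huy, hu⟩
      refine ⟨(S.pair x y hy y (S.mem_right x y hy) u hu (Ne.symm huy)).1, ?_⟩
      by_cases hux : u = x
      · exact Or.inl hux
      · exact Or.inr (S.line_eq_of_mem x y u hy hu hux).1
  have h3 : (S.nbr y ∩ insert x (S.nbr x)).card = 3 := by
    rw [e, Finset.card_erase_of_mem (S.mem_right x y hy), h4]
  have hsub : S.nbr y \ insert x (S.nbr x) ⊆ S.far x := by
    intro u hu
    rw [Finset.mem_sdiff] at hu
    unfold far
    rw [Finset.mem_sdiff]
    exact ⟨Finset.mem_univ _, hu.2⟩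
  have h9 : (S.nbr y \ insert x (S.nbr x)).card = 9 := by
    have := Finset.card_sdiff_add_card_inter (S.nbr y) (insert x (S.nbr x))
    rw [h y, h3] at this
    omega
  have heq : S.nbr y \ insert x (S.nbr x) = S.far x :=
    Finset.eq_of_subset_of_card_le hsub (by rw [h9, S.card_far h22 h x])
  rw [← heq]
  exact Finset.sdiff_subset

/-- Case `N = 12`. -/
theorem false_of_twelve (h22 : Fintype.card Ω = 22) (h : ∀ x, (S.nbr x).card = 12) : False := by
  have hne : Nonempty Ω := by
    rw [← Fintype.card_pos_iff, h22]; norm_num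
  obtain ⟨x⟩ := hne
  have h9 := S.card_far h22 h x
  have hne2 : (S.far x).Nonempty := by
    rw [← Finset.card_pos, h9]; norm_num
  obtain ⟨z, hz⟩ := hne2
  rw [mem_far] at hz
  have hxz : x ≠ z := Ne.symm hz.1
  have hxz' : x ∉ S.nbr z := fun hx => hz.2 (S.symm z x hx)
  have h1 := (S.lines_card_four h22 h hz.1 hz.2).1
  have h2 := (S.lines_card_four h22 h hxz hxz').2
  have h3 : S.nbr x ⊆ S.nbr z := by
    intro y hy
    have := S.far_subset_nbr h22 h hy (h2 y hy) (S.mem_far.mpr hz)
    exact S.symm y z this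
  have h4 : S.nbr z ∩ S.nbr x = S.nbr x := Finset.inter_eq_right.mpr h3
  rw [h4, h x] at h1
  omega

end PLS

end Cfsg.Agent.Lib.Helper8.Syl22
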