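import Mathlib
import Cfsg.Agent.Lib.Helper8.Syl22A
import Cfsg.Agent.Lib.Helper8.Syl22B

/-!
helper8: M. Hall's theorem `n_3 ≠ 22`, part C: in a minimal counterexample the Sylow
`3`-subgroups have order `3` (via the partial linear space of part B).
-/

set_option autoImplicit false
set_option linter.unusedSectionVars false

namespace Cfsg.Agent.Lib.Helper8.Syl22

open Subgroup MulAction
open scoped Pointwise

universe u

attribute [local instance] fact3

/-- An invariant finite set all of whose orbits have size divisible by `m` has size divisible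
by `m`. -/
theorem dvd_card_of_orbits {P X : Type*} [Group P] [MulAction P X] [DecidableEq X]
    (A : Finset X) (hA : ∀ g : P, ∀ a ∈ A, g • a ∈ A) (m : ℕ)
    (h : ∀ a ∈ A, m ∣ (orbit P a).ncard) : m ∣ A.card := by
  classical
  rw [Finset.card_eq_sum_card_image (fun a => orbit P a) A]
  apply Finset.dvd_sum
  intro b hb
  obtain ⟨a, ha, rfl⟩ := Finset.mem_image.mp hb
  have : ((A.filter (fun a' => orbit P a' = orbit P a) : Finset X) : Set X) = orbit P a := by
    ext z
    simp only [Finset.coe_filter, Set.mem_setOf_eq]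
    constructor
    · rintro ⟨_, hz⟩
      rw [← hz]; exact mem_orbit_self z
    · rintro ⟨g, rfl⟩
      exact ⟨hA g a ha, orbit_smul g a⟩
  rw [← Set.ncard_coe_finset, this]
  exact h a ha

variable {G : Type u} [Group G] [Finite G]

/-- all Sylow 3-subgroups have the same order -/
theorem card_sylow_eq (x y : Sylow 3 G) : Nat.card x = Nat.card y := by
  rw [Sylow.card_eq_multiplicity, Sylow.card_eq_multiplicity]

theorem card_inf_mul_index (x y : Sylow 3 G) :
    Nat.card ((x : Subgroup G) ⊓ y : Subgroup G) * ((y : Subgroup G).subgroupOf x).index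
      = Nat.card x := by
  have h2 := Subgroup.card_mul_index ((y : Subgroup G).subgroupOf x)
  rwa [card_subgroupOf_eq] at h2

theorem index_eq_pow (x y : Sylow 3 G) :
    ∃ m, ((y : Subgroup G).subgroupOf x).index = 3 ^ m ∧ (x ≠ y → m ≠ 0) := by
  obtain ⟨n, hn⟩ := x.2.exists_card_eq
  have hdvd : ((y : Subgroup G).subgroupOf (x : Subgroup G)).index ∣ 3 ^ n := by
    rw [← hn]; exact Subgroup.index_dvd_card _
  obtain ⟨m, _, hm⟩ := (Nat.dvd_prime_pow (by norm_num : Nat.Prime 3)).mp hdvd
  refine ⟨m, hm, ?_⟩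
  rintro hxy rfl
  rw [pow_zero, Subgroup.index_eq_one, Subgroup.subgroupOf_eq_top] at hm
  exact hxy (Sylow.ext (x.3 y.2 hm)).symm

/-- distinct Sylow subgroups meet in a subgroup of index at least 3 -/
theorem card_inf_mul_three_le (x y : Sylow 3 G) (hxy : x ≠ y) :
    Nat.card ((x : Subgroup G) ⊓ y : Subgroup G) * 3 ≤ Nat.card x := by
  obtain ⟨m, hm, hm0⟩ := index_eq_pow x y
  have h1 := card_inf_mul_index x y
  rw [hm] at h1
  have h3 : 3 ≤ 3 ^ m := by
    calc 3 = 3 ^ 1 := by norm_num
      _ ≤ 3 ^ m := Nat.pow_le_pow_right (by norm_num) (Nat.one_le_iff_ne_zero.mpr (hm0 hxy))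
  calc Nat.card ((x : Subgroup G) ⊓ y : Subgroup G) * 3
      ≤ Nat.card ((x : Subgroup G) ⊓ y : Subgroup G) * 3 ^ m := Nat.mul_le_mul_left _ h3
    _ = Nat.card x := h1

theorem smul_ne_of_mem (x y : Sylow 3 G) (hxy : x ≠ y) (g : G) (hg : g ∈ (x : Subgroup G)) :
    g • y ≠ x := by
  intro hR
  have hg' : g • x = x := smul_eq_iff.mpr (Subgroup.le_normalizer hg)
  have : g • y = g • x := by rw [hg']; exact hR
  exact hxy (smul_left_cancel _ this).symm

theorem index_cases (h22 : Nat.card (Sylow 3 G) = 22) (x y : Sylow 3 G) (hxy : x ≠ y) :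
    ((y : Subgroup G).subgroupOf x).index = 3 ∨ ((y : Subgroup G).subgroupOf x).index = 9 := by
  classical
  obtain ⟨m, hm, hm0⟩ := index_eq_pow x y
  have h1 := Cfsg.Agent.Lib.Helper7.ncard_orbit_sylow_eq_index (x : Subgroup G) x.2 y
  have hsub : orbit ↥(x : Subgroup G) y ⊆ {R : Sylow 3 G | R ≠ x} := by
    rintro R ⟨g, rfl⟩
    exact smul_ne_of_mem x y hxy (g : G) g.2
  have hle : (orbit ↥(x : Subgroup G) y).ncard ≤ 21 := by
    have h3 := Set.ncard_le_ncard hsub (Set.toFinite _)
    have h4 : ({R : Sylow 3 G | R ≠ x} : Set (Sylow 3 G)).ncard = 21 := by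
      have : ({R : Sylow 3 G | R ≠ x} : Set (Sylow 3 G)) = {x}ᶜ := by ext; simp
      rw [this, Set.ncard_compl, Set.ncard_singleton, h22]
    omega
  rw [h1, hm] at hle
  rcases m with _ | _ | _ | m
  · exact absurd rfl (hm0 hxy)
  · left; rw [hm]; norm_num
  · right; rw [hm]; norm_num
  · exfalso
    have : 3 ^ 3 ≤ 3 ^ (m + 1 + 1 + 1) := Nat.pow_le_pow_right (by norm_num) (by omega)
    omega

theorem near_or_far (h22 : Nat.card (Sylow 3 G) = 22) (x y : Sylow 3 G) (hxy : x ≠ y) :
    Nat.card ((x : Subgroup G) ⊓ y : Subgroup G) * 3 = Nat.card x ∨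
    Nat.card ((x : Subgroup G) ⊓ y : Subgroup G) * 9 = Nat.card x := by
  have := card_inf_mul_index x y
  rcases index_cases h22 x y hxy with h | h <;> rw [h] at this
  · left; exact this
  · right; exact this

theorem card_smul_inf (g : G) (x y : Sylow 3 G) :
    Nat.card (((g • x : Sylow 3 G) : Subgroup G) ⊓ (g • y : Sylow 3 G) : Subgroup G)
      = Nat.card ((x : Subgroup G) ⊓ y : Subgroup G) := by
  rw [Sylow.coe_subgroup_smul, Sylow.coe_subgroup_smul, ← Subgroup.smul_inf]
  exact (Nat.card_congr (Subgroup.equivSMul (MulAut.conj g) _).toEquiv).symm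

theorem card_smul_eq (g : G) (x : Sylow 3 G) :
    Nat.card ((g • x : Sylow 3 G) : Subgroup G) = Nat.card (x : Subgroup G) :=
  card_sylow_eq _ _

/-- two distinct Sylow subgroups containing a subgroup `E` of index 3 meet exactly in `E` -/
theorem inf_eq_of_le (z w : Sylow 3 G) (hzw : z ≠ w) (E : Subgroup G)
    (hE : E ≤ (z : Subgroup G) ⊓ w) (hc : Nat.card E * 3 = Nat.card z) :
    E = (z : Subgroup G) ⊓ w := by
  apply Subgroup.eq_of_le_of_card_ge hE
  have := card_inf_mul_three_le z w hzw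
  omega

/-- `x ⊓ z` is normalized by `x` when it has index 3. -/
theorem conj_mem_inf (x z : Sylow 3 G)
    (hxz : Nat.card ((x : Subgroup G) ⊓ z : Subgroup G) * 3 = Nat.card x)
    (g d : G) (hg : g ∈ (x : Subgroup G)) (hd : d ∈ (x : Subgroup G) ⊓ z) :
    g * d * g⁻¹ ∈ (x : Subgroup G) ⊓ z := by
  have h2 := card_inf_mul_index x z
  have hpos : 0 < Nat.card ((x : Subgroup G) ⊓ z : Subgroup G) := Nat.card_pos
  have hidx : ((z : Subgroup G).subgroupOf x).index = 3 :=
    Nat.eq_of_mul_eq_mul_left hpos (h2.trans hxz.symm)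
  obtain ⟨n, hn⟩ := x.2.exists_card_eq
  have hn0 : n ≠ 0 := by
    rintro rfl
    rw [pow_zero] at hn
    rw [hn] at hxz
    omega
  have hmin : (Nat.card (x : Subgroup G)).minFac = 3 := by
    rw [hn, Nat.Prime.pow_minFac (by norm_num) hn0]
  have hnorm : ((z : Subgroup G).subgroupOf x).Normal :=
    Subgroup.normal_of_index_eq_minFac_card (hidx.trans hmin.symm)
  have := hnorm.conj_mem ⟨d, hd.1⟩ (by rw [Subgroup.mem_subgroupOf]; exact hd.2) ⟨g, hg⟩
  rw [Subgroup.mem_subgroupOf] at this
  exact ⟨(x : Subgroup G).mul_mem ((x : Subgroup G).mul_mem hg hd.1)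
    ((x : Subgroup G).inv_mem hg), this⟩

theorem inf_le_smul (x z : Sylow 3 G)
    (hxz : Nat.card ((x : Subgroup G) ⊓ z : Subgroup G) * 3 = Nat.card x)
    (g : G) (hg : g ∈ (x : Subgroup G)) :
    (x : Subgroup G) ⊓ z ≤ ((g • z : Sylow 3 G) : Subgroup G) := by
  intro d hd
  rw [mem_smul_sylow_iff]
  have := conj_mem_inf x z hxz g⁻¹ d ((x : Subgroup G).inv_mem hg) hd
  rw [inv_inv] at this
  exact this.2

/-- the triangle lemma -/
theorem tri_aux (x y z : Sylow 3 G)
    (hxy : Nat.card ((x : Subgroup G) ⊓ y : Subgroup G) * 3 = Nat.card x)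
    (hyz : Nat.card ((y : Subgroup G) ⊓ z : Subgroup G) * 3 = Nat.card y)
    (hxz : Nat.card ((x : Subgroup G) ⊓ z : Subgroup G) * 3 = Nat.card x) :
    (x : Subgroup G) ⊓ y ≤ z := by
  by_contra hcon
  obtain ⟨g, hgD, hgz⟩ := SetLike.not_le_iff_exists.mp hcon
  have hzz' : g • z ≠ z := by
    intro e
    have h1 : g ∈ (x : Subgroup G) ⊓ Subgroup.normalizer ((z : Subgroup G) : Set G) :=
      ⟨hgD.1, smul_eq_iff.mp e⟩
    have h2 : (x : Subgroup G) ⊓ Subgroup.normalizer ((z : Subgroup G) : Set G)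
        = (x : Subgroup G) ⊓ z := x.2.inf_normalizer_sylow z
    rw [h2] at h1
    exact hgz h1.2
  have hA : (x : Subgroup G) ⊓ z ≤ (z : Subgroup G) ⊓ ((g • z : Sylow 3 G) : Subgroup G) :=
    le_inf inf_le_right (inf_le_smul x z hxz g hgD.1)
  have hB : (y : Subgroup G) ⊓ z ≤ (z : Subgroup G) ⊓ ((g • z : Sylow 3 G) : Subgroup G) :=
    le_inf inf_le_right (inf_le_smul y z hyz g hgD.2)
  have hxz' := card_sylow_eq x z
  have hyz' := card_sylow_eq y z
  have hxy' := card_sylow_eq x y
  have eA := inf_eq_of_le z (g • z) hzz'.symm _ hA (by omega)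
  have eB := inf_eq_of_le z (g • z) hzz'.symm _ hB (by omega)
  have hAB : (x : Subgroup G) ⊓ z = (y : Subgroup G) ⊓ z := eA.trans eB.symm
  have hAD : (x : Subgroup G) ⊓ z ≤ (x : Subgroup G) ⊓ y :=
    le_inf inf_le_left (hAB ▸ inf_le_left)
  have hfin : (x : Subgroup G) ⊓ z = (x : Subgroup G) ⊓ y :=
    Subgroup.eq_of_le_of_card_ge hAD (by omega)
  exact hcon (hfin ▸ inf_le_right)

section fin

variable [Fintype (Sylow 3 G)]

open Classical in
/-- neighbours: Sylow subgroups meeting `x` in index 3 -/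
noncomputable def nbrF (x : Sylow 3 G) : Finset (Sylow 3 G) :=
  Finset.univ.filter (fun y => Nat.card ((x : Subgroup G) ⊓ y : Subgroup G) * 3 = Nat.card x)

open Classical in
/-- Sylow subgroups meeting `x` in index 9 -/
noncomputable def farF (x : Sylow 3 G) : Finset (Sylow 3 G) :=
  Finset.univ.filter (fun y => Nat.card ((x : Subgroup G) ⊓ y : Subgroup G) * 9 = Nat.card x)

open Classical in
/-- lines: the Sylow subgroups containing `x ⊓ y` -/
noncomputable def lineF (x y : Sylow 3 G) : Finset (Sylow 3 G) :=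
  Finset.univ.filter (fun z => (x : Subgroup G) ⊓ y ≤ z)

theorem mem_nbrF {x y : Sylow 3 G} :
    y ∈ nbrF x ↔ Nat.card ((x : Subgroup G) ⊓ y : Subgroup G) * 3 = Nat.card x := by
  simp [nbrF]

theorem mem_farF {x y : Sylow 3 G} :
    y ∈ farF x ↔ Nat.card ((x : Subgroup G) ⊓ y : Subgroup G) * 9 = Nat.card x := by
  simp [farF]

theorem mem_lineF {x y z : Sylow 3 G} : z ∈ lineF x y ↔ (x : Subgroup G) ⊓ y ≤ z := by
  simp [lineF]

theorem nbrF_ne {x y : Sylow 3 G} (h : y ∈ nbrF x) : x ≠ y := by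
  rintro rfl
  rw [mem_nbrF, inf_idem] at h
  have : 0 < Nat.card (x : Subgroup G) := Nat.card_pos
  omega

theorem nine_dvd_farF (x : Sylow 3 G) : 9 ∣ (farF x).card := by
  classical
  apply dvd_card_of_orbits (P := ↥(x : Subgroup G)) (farF x)
  · intro g a ha
    rw [mem_farF] at ha ⊢
    have hg : (g : G) • x = x := smul_eq_iff.mpr (Subgroup.le_normalizer g.2)
    have := card_smul_inf (g : G) x a
    rw [hg] at this
    rw [Subgroup.smul_def, this]
    exact ha
  · intro a ha
    rw [mem_farF] at ha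
    rw [Cfsg.Agent.Lib.Helper7.ncard_orbit_sylow_eq_index (x : Subgroup G) x.2 a]
    have h1 := card_inf_mul_index x a
    have hpos : 0 < Nat.card ((x : Subgroup G) ⊓ a : Subgroup G) := Nat.card_pos
    rw [Nat.eq_of_mul_eq_mul_left hpos (h1.trans ha.symm)]

theorem card_nbrF_add [DecidableEq (Sylow 3 G)] (h22 : Nat.card (Sylow 3 G) = 22) (x : Sylow 3 G) :
    (nbrF x).card + (farF x).card = 21 := by
  have hdisj : Disjoint (nbrF x) (farF x) := by
    rw [Finset.disjoint_left]
    intro y h1 h2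
    rw [mem_nbrF] at h1
    rw [mem_farF] at h2
    have : 0 < Nat.card ((x : Subgroup G) ⊓ y : Subgroup G) := Nat.card_pos
    omega
  have hun : nbrF x ∪ farF x = Finset.univ.erase x := by
    ext y
    rw [Finset.mem_union, Finset.mem_erase]
    constructor
    · rintro (h | h)
      · exact ⟨(nbrF_ne h).symm, Finset.mem_univ _⟩
      · refine ⟨?_, Finset.mem_univ _⟩
        rintro rfl
        rw [mem_farF, inf_idem] at h
        have : 0 < Nat.card (y : Subgroup G) := Nat.card_pos
        omega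
    · rintro ⟨hne, _⟩
      rcases near_or_far h22 x y (Ne.symm hne) with h | h
      · exact Or.inl (mem_nbrF.mpr h)
      · exact Or.inr (mem_farF.mpr h)
  rw [← Finset.card_union_of_disjoint hdisj, hun, Finset.card_erase_of_mem (Finset.mem_univ _),
    Finset.card_univ, ← Nat.card_eq_fintype_card, h22]

theorem card_nbrF_smul (g : G) (x : Sylow 3 G) : (nbrF (g • x)).card = (nbrF x).card := by
  symm
  apply Finset.card_bij (fun y _ => g • y)
  · intro y hy
    rw [mem_nbrF] at hy ⊢
    rw [card_smul_inf, card_smul_eq]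
    exact hy
  · intro a _ b _ hab
    exact smul_left_cancel g hab
  · intro z hz
    refine ⟨g⁻¹ • z, ?_, by rw [smul_inv_smul]⟩
    rw [mem_nbrF] at hz ⊢
    have := card_smul_inf g⁻¹ (g • x) z
    rw [inv_smul_smul] at this
    rw [this, ← card_smul_eq g x]
    exact hz

theorem card_nbrF_const (x y : Sylow 3 G) : (nbrF x).card = (nbrF y).card := by
  obtain ⟨g, rfl⟩ := MulAction.exists_smul_eq G x y
  exact (card_nbrF_smul g x).symm

theorem four_le_card_lineF (h22 : Nat.card (Sylow 3 G) = 22) (x y : Sylow 3 G) (hxy : x ≠ y) :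
    4 ≤ (lineF x y).card := by
  classical
  have hD : IsPGroup 3 ↥((x : Subgroup G) ⊓ y : Subgroup G) := x.2.to_le inf_le_left
  have h1 := hD.card_modEq_card_fixedPoints (Sylow 3 G)
  have h2 : fixedPoints ↥((x : Subgroup G) ⊓ y : Subgroup G) (Sylow 3 G)
      = ((lineF x y : Finset (Sylow 3 G)) : Set (Sylow 3 G)) := by
    ext Q
    rw [hD.sylow_mem_fixedPoints_iff, Finset.mem_coe, mem_lineF]
  rw [h2, h22, Nat.card_coe_set_eq, Set.ncard_coe_finset] at h1
  have h3 : 1 < (lineF x y).card :=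
    Finset.one_lt_card.mpr ⟨x, mem_lineF.mpr inf_le_left, y, mem_lineF.mpr inf_le_right, hxy⟩
  unfold Nat.ModEq at h1
  omega

/-- The partial linear space on the Sylow 3-subgroups. -/
noncomputable def pls [DecidableEq (Sylow 3 G)] (h22 : Nat.card (Sylow 3 G) = 22) :
    PLS (Sylow 3 G) where
  nbr := nbrF
  line := lineF
  symm := by
    intro x y hy
    rw [mem_nbrF] at hy ⊢
    rw [inf_comm, ← card_sylow_eq x y]
    exact hy
  irrefl := fun x hx => nbrF_ne hx rfl
  mem_left := fun x y _ => mem_lineF.mpr inf_le_left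
  mem_right := fun x y _ => mem_lineF.mpr inf_le_right
  pair := by
    intro x y hy z hz w hw hzw
    rw [mem_nbrF] at hy
    rw [mem_lineF] at hz hw
    have hc := card_sylow_eq x z
    have e := inf_eq_of_le z w hzw _ (le_inf hz hw) (by omega)
    constructor
    · rw [mem_nbrF, ← e]; omega
    · ext u
      rw [mem_lineF, mem_lineF, ← e]
  tri := by
    intro x y z hy hz hz'
    rw [mem_nbrF] at hy hz hz'
    exact mem_lineF.mpr (tri_aux x y z hy hz hz')
  four := fun x y hy => four_le_card_lineF h22 x y (nbrF_ne hy)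

end fin

/-- In a minimal counterexample, the Sylow 3-subgroups have order 3. -/
theorem card_eq_three (h : MinCE G) (P : Sylow 3 G) : Nat.card P = 3 := by
  classical
  have : Fintype (Sylow 3 G) := Fintype.ofFinite _
  have h22 := h.1
  have h22' : Fintype.card (Sylow 3 G) = 22 := by rw [← Nat.card_eq_fintype_card]; exact h22
  have hadd := card_nbrF_add h22 P
  obtain ⟨k, hk⟩ := nine_dvd_farF P
  have hk3 : k = 0 ∨ k = 1 ∨ k = 2 := by omega
  rcases hk3 with rfl | rfl | rfl
  · -- N = 21
    have h21 : (nbrF P).card = 21 := by omega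
    have hne : (nbrF P).Nonempty := by rw [← Finset.card_pos, h21]; norm_num
    obtain ⟨Q, hQ⟩ := hne
    have hall : ∀ x : Sylow 3 G, (pls h22).nbr x = Finset.univ.erase x := by
      intro x
      apply Finset.eq_of_subset_of_card_le
      · intro y hy
        exact Finset.mem_erase.mpr ⟨((pls h22).irrefl x |> fun hx e => hx (e ▸ hy)),
          Finset.mem_univ _⟩
      · rw [Finset.card_erase_of_mem (Finset.mem_univ _), Finset.card_univ, h22']
        show 22 - 1 ≤ (nbrF x).card
        rw [card_nbrF_const x P, h21]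
    have hline := (pls h22).line_eq_univ hall P Q hQ
    have hbot : (P : Subgroup G) ⊓ Q = ⊥ := by
      rw [eq_bot_iff]
      intro d hd
      rw [Subgroup.mem_bot]
      apply eq_one_of_smul_eq h
      intro R
      rw [smul_eq_iff]
      have hR : R ∈ (pls h22).line P Q := by rw [hline]; exact Finset.mem_univ _
      exact Subgroup.le_normalizer ((mem_lineF.mp hR) hd)
    have hQ' := mem_nbrF.mp hQ
    rw [hbot, Subgroup.card_bot] at hQ'
    omega
  · -- N = 12
    exfalso
    have h12 : (nbrF P).card = 12 := by omega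
    exact (pls h22).false_of_twelve h22' (fun x => (card_nbrF_const x P).trans h12)
  · -- N = 3
    exfalso
    have h3 : (nbrF P).card = 3 := by omega
    exact (pls h22).false_of_three h22' (fun x => (card_nbrF_const x P).trans h3)

end Cfsg.Agent.Lib.Helper8.Syl22
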