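import Mathlib
import Cfsg.Agent.Lib.Helper8.Syl22A

/-!
helper8: M. Hall's theorem `n_3 ≠ 22`, part D: the last step of the endgame.  A minimal
counterexample cannot have order `66`, `132`, `462` or `924` (Sylow `11` + Burnside transfer).
-/

set_option autoImplicit false
set_option linter.unusedSectionVars false

namespace Cfsg.Agent.Lib.Helper8.Syl22

open Subgroup MulAction
open scoped Pointwise

universe u

theorem fact11 : Fact (Nat.Prime 11) := ⟨by norm_num⟩

attribute [local instance] fact3 fact11

variable {G : Type u} [Group G] [Finite G]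

theorem card_sylow11 (h11 : 11 ∣ Nat.card G) (h121 : ¬ 121 ∣ Nat.card G) (R : Sylow 11 G) :
    Nat.card R = 11 := by
  obtain ⟨k, hk⟩ := R.2.exists_card_eq
  have h1 : 11 ∣ Nat.card (R : Subgroup G) := R.dvd_card_of_dvd_card h11
  have h2 : Nat.card (R : Subgroup G) ∣ Nat.card G := Subgroup.card_subgroup_dvd_card _
  rw [hk] at h1 h2 ⊢
  rcases k with _ | _ | k
  · norm_num at h1
  · norm_num
  · exfalso
    apply h121
    refine dvd_trans ?_ h2
    exact ⟨11 ^ k, by ring⟩

/-- If `|N(R)|` is coprime to `10 = |Aut R|`, then `N(R) ≤ C(R)`. -/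
theorem normalizer_le_centralizer_of_coprime (R : Sylow 11 G) (hR : Nat.card R = 11)
    (hcop : Nat.Coprime (Nat.card (normalizer ((R : Subgroup G) : Set G))) 10) :
    normalizer ((R : Subgroup G) : Set G) ≤ centralizer ((R : Subgroup G) : Set G) := by
  have hcyc : IsCyclic ↥(R : Subgroup G) := isCyclic_of_prime_card hR
  have key := Subgroup.card_dvd_of_injective _
    (QuotientGroup.kerLift_injective (R : Subgroup G).normalizerMonoidHom)
  rw [Subgroup.normalizerMonoidHom_ker, ← Subgroup.index, ← Subgroup.relIndex] at key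
  rw [hcyc.card_mulAut, hR, Nat.totient_prime (by norm_num : Nat.Prime 11)] at key
  refine Subgroup.relIndex_eq_one.mp (Nat.eq_one_of_dvd_coprimes hcop ?_ key)
  exact Subgroup.relIndex_dvd_card _ _

/-- Burnside: `N(R) ≤ C(R)` is impossible in a minimal counterexample. -/
theorem burnside_contra (h : MinCE G) (R : Sylow 11 G) (hR : Nat.card R = 11)
    (hle : normalizer ((R : Subgroup G) : Set G) ≤ centralizer ((R : Subgroup G) : Set G)) :
    False := by
  have hc := MonoidHom.ker_transferSylow_isComplement' R hle
  have hidx : (MonoidHom.transferSylow R hle).ker.index = 11 := by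
    rw [hc.symm.index_eq_card]; exact hR
  have htop := normal_eq_top h (MonoidHom.transferSylow R hle).ker (by rw [hidx]; norm_num)
  rw [htop, Subgroup.index_top] at hidx
  norm_num at hidx

/-- Case `n_11 = 1`. -/
theorem normalizer_le_centralizer_of_normal (h : MinCE G) (R : Sylow 11 G) (hR : Nat.card R = 11)
    [hn : (R : Subgroup G).Normal] :
    normalizer ((R : Subgroup G) : Set G) ≤ centralizer ((R : Subgroup G) : Set G) := by
  have hcyc : IsCyclic ↥(R : Subgroup G) := isCyclic_of_prime_card hR
  have hA : ¬ 3 ∣ Nat.card (MulAut ↥(R : Subgroup G)) := by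
    rw [hcyc.card_mulAut, hR, Nat.totient_prime (by norm_num : Nat.Prime 11)]
    norm_num
  intro g _
  rw [Subgroup.mem_centralizer_iff]
  intro r hr
  have h1 := hom_trivial h (MulAut.conjNormal (H := (R : Subgroup G))) hA g
  have h2 := congrArg (fun σ : MulAut ↥(R : Subgroup G) => ((σ ⟨r, hr⟩ : ↥(R : Subgroup G)) : G)) h1
  simp only [MulAut.conjNormal_apply, MulAut.one_apply] at h2
  calc r * g = (g * r * g⁻¹) * g := by rw [h2]
    _ = g * r := by group

theorem order_cases (h : MinCE G) (_h3 : ∀ P : Sylow 3 G, Nat.card P = 3)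
    (hN : Nat.card G = 66 ∨ Nat.card G = 132 ∨ Nat.card G = 462 ∨ Nat.card G = 924) : False := by
  have h11 : 11 ∣ Nat.card G := by rcases hN with h | h | h | h <;> rw [h] <;> norm_num
  have h121 : ¬ 121 ∣ Nat.card G := by rcases hN with h | h | h | h <;> rw [h] <;> norm_num
  obtain ⟨R⟩ : Nonempty (Sylow 11 G) := inferInstance
  have hR := card_sylow11 h11 h121 R
  have hmod : Nat.card (Sylow 11 G) ≡ 1 [MOD 11] := card_sylow_modEq_one 11 G
  have hdvd : Nat.card (Sylow 11 G) ∣ (R : Subgroup G).index := Sylow.card_dvd_index R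
  have hidx : (R : Subgroup G).index * 11 = Nat.card G := by
    have := Subgroup.index_mul_card (R : Subgroup G)
    rwa [hR] at this
  have hnorm : Nat.card (Sylow 11 G) * Nat.card (normalizer ((R : Subgroup G) : Set G))
      = Nat.card G := by
    rw [Sylow.card_eq_index_normalizer R]; exact Subgroup.index_mul_card _
  unfold Nat.ModEq at hmod
  have hn : Nat.card (Sylow 11 G) = 1 ∨ (Nat.card (Sylow 11 G) = 12 ∧
      (Nat.card G = 132 ∨ Nat.card G = 924)) := by
    generalize Nat.card (Sylow 11 G) = n at *
    have hle : n ≤ 84 := by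
      have hpos : 0 < (R : Subgroup G).index := by
        rcases hN with h | h | h | h <;> omega
      have := Nat.le_of_dvd hpos hdvd
      rcases hN with h | h | h | h <;> omega
    obtain ⟨c, hc⟩ := hdvd
    rw [hc] at hidx
    interval_cases n <;> omega
  rcases hn with hn | ⟨hn, hG⟩
  · -- R is normal
    have hsub : Subsingleton (Sylow 11 G) := (Finite.card_le_one_iff_subsingleton).mp (by omega)
    have hnormal : (R : Subgroup G).Normal := Sylow.normal_of_subsingleton R
    exact burnside_contra h R hR (normalizer_le_centralizer_of_normal h R hR)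
  · rw [hn] at hnorm
    apply burnside_contra h R hR
    apply normalizer_le_centralizer_of_coprime R hR
    rcases hG with hG | hG
    · have : Nat.card (normalizer ((R : Subgroup G) : Set G)) = 11 := by omega
      rw [this]; norm_num
    · have : Nat.card (normalizer ((R : Subgroup G) : Set G)) = 77 := by omega
      rw [this]; norm_num

end Cfsg.Agent.Lib.Helper8.Syl22
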