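import Mathlib
import Cfsg.Agent.Lib.Helper7.Involution
import Cfsg.Agent.Lib.Helper8.Syl22A

/-!
helper8: M. Hall's theorem `n_3 ≠ 22`, part E: fixed point tools for the action on the Sylow
`3`-subgroups when they have order `3`.
-/

set_option autoImplicit false
set_option linter.unusedSectionVars false

namespace Cfsg.Agent.Lib.Helper8.Syl22

open Subgroup MulAction
open scoped Pointwise

universe u

attribute [local instance] fact3

variable {G : Type u} [Group G] [Finite G]

/-- If a `q`-group `Q` leaves a subset `F` of a finite `G`-set invariant, then `|F|` is congruent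
mod `q` to the number of points of `F` fixed by all of `Q`. -/
theorem card_invariant_modEq {X : Type*} [MulAction G X] [Finite X] {q : ℕ} [Fact q.Prime]
    (Q : Subgroup G) (hQ : IsPGroup q Q) (F : Set X) (hF : ∀ y ∈ Q, ∀ a ∈ F, y • a ∈ F) :
    Nat.card F ≡ Nat.card {a : X // a ∈ F ∧ ∀ y ∈ Q, y • a = a} [MOD q] := by
  let S : SubMulAction ↥Q X :=
    { carrier := F
      smul_mem' := fun c x hx => hF c.1 c.2 x hx }
  have h1 := hQ.card_modEq_card_fixedPoints (↥S)
  have e1 : Nat.card ↥S = Nat.card F := rfl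
  have e2 : Nat.card (fixedPoints ↥Q ↥S) = Nat.card {a : X // a ∈ F ∧ ∀ y ∈ Q, y • a = a} := by
    refine Nat.card_congr
      { toFun := fun a => ⟨a.1.1, a.1.2, fun y hy => ?_⟩
        invFun := fun a => ⟨⟨a.1, a.2.1⟩, fun c => ?_⟩
        left_inv := fun a => rfl
        right_inv := fun a => rfl }
    · have := a.2 ⟨y, hy⟩
      exact congrArg Subtype.val this
    · apply Subtype.ext
      exact a.2.2 c.1 c.2
  rw [e1, e2] at h1
  exact h1

/-- an element of prime order `q` has `|X| ≡ |Fix|` mod `q` -/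
theorem card_modEq_card_fixedBy {X : Type*} [MulAction G X] [Finite X] {q : ℕ} [Fact q.Prime]
    (g : G) (hg : orderOf g = q) :
    Nat.card X ≡ Nat.card (fixedBy X g) [MOD q] := by
  have hp : IsPGroup q (Subgroup.zpowers g) := by
    apply IsPGroup.of_card (n := 1)
    rw [Nat.card_zpowers, hg, pow_one]
  have h := card_invariant_modEq (X := X) (Subgroup.zpowers g) hp Set.univ
    (fun _ _ _ _ => Set.mem_univ _)
  have e1 : Nat.card ↥(Set.univ : Set X) = Nat.card X := Nat.card_congr (Equiv.Set.univ X)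
  have e2 : Nat.card {a : X // a ∈ (Set.univ : Set X) ∧ ∀ y ∈ Subgroup.zpowers g, y • a = a} =
      Nat.card (fixedBy X g) := by
    refine Nat.card_congr
      { toFun := fun a => ⟨a.1, a.2.2 g (Subgroup.mem_zpowers g)⟩
        invFun := fun a => ⟨a.1, Set.mem_univ _, ?_⟩
        left_inv := fun a => rfl
        right_inv := fun a => rfl }
    rintro y ⟨k, rfl⟩
    have ha : g ∈ stabilizer G (a : X) := a.2
    exact (stabilizer G (a : X)).zpow_mem ha k
  rw [e1, e2] at h
  exact h

/-- if all points are fixed (by counting), the element acts trivially -/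
theorem smul_eq_of_card_fixedBy {X : Type*} [MulAction G X] [Finite X] (c : G)
    (h : Nat.card (fixedBy X c) = Nat.card X) (a : X) : c • a = a := by
  have hinj : Function.Injective (fun z : fixedBy X c => (z : X)) := Subtype.val_injective
  have hbij := hinj.bijective_of_nat_card_le (le_of_eq h.symm)
  obtain ⟨z, hz⟩ := hbij.2 a
  rw [← hz]
  exact z.2

theorem card_fixedBy_le {X : Type*} [MulAction G X] [Finite X] (c : G) :
    Nat.card (fixedBy X c) ≤ Nat.card X :=
  Nat.card_le_card_of_injective _ Subtype.val_injective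

/-- a `3`-element of `x` normalizing `β` lies in `β` -/
theorem mem_of_smul_eq (x β : Sylow 3 G) (e : G) (he : e ∈ (x : Subgroup G)) (h : e • β = β) :
    e ∈ (β : Subgroup G) := by
  have h1 : e ∈ (x : Subgroup G) ⊓ normalizer ((β : Subgroup G) : Set G) :=
    ⟨he, smul_eq_iff.mp h⟩
  have h2 : (x : Subgroup G) ⊓ normalizer ((β : Subgroup G) : Set G) = (x : Subgroup G) ⊓ β :=
    x.2.inf_normalizer_sylow β
  rw [h2] at h1
  exact h1.2

/-- the only Sylow subgroup normalized by all of `x` is `x` -/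
theorem eq_of_forall_smul_eq (x a : Sylow 3 G) (h : ∀ y ∈ (x : Subgroup G), y • a = a) :
    a = x :=
  Sylow.ext (x.3 a.2 (fun y hy => mem_of_smul_eq x a y hy (h y hy)))

theorem smul_self_of_mem (x : Sylow 3 G) (y : G) (hy : y ∈ (x : Subgroup G)) : y • x = x :=
  smul_eq_iff.mpr (le_normalizer hy)

/-- a set of Sylow subgroups invariant under the Sylow subgroup `β` has size `≡ 1` or `≡ 0`
mod 3 according to whether it contains `β`. -/
theorem card_invariant_mod_three (β : Sylow 3 G) (F : Set (Sylow 3 G))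
    (hF : ∀ y ∈ (β : Subgroup G), ∀ a ∈ F, y • a ∈ F) :
    (β ∈ F → Nat.card F ≡ 1 [MOD 3]) ∧ (β ∉ F → Nat.card F ≡ 0 [MOD 3]) := by
  have h1 := card_invariant_modEq (β : Subgroup G) β.2 F hF
  constructor
  · intro hβ
    have h2 : Nat.card {a : Sylow 3 G // a ∈ F ∧ ∀ y ∈ (β : Subgroup G), y • a = a} = 1 := by
      rw [Nat.card_eq_one_iff_exists]
      refine ⟨⟨β, hβ, fun y hy => smul_self_of_mem β y hy⟩, ?_⟩
      rintro ⟨a, _, ha2⟩
      exact Subtype.ext (eq_of_forall_smul_eq β a ha2)
    rw [h2] at h1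
    exact h1
  · intro hβ
    have h2 : Nat.card {a : Sylow 3 G // a ∈ F ∧ ∀ y ∈ (β : Subgroup G), y • a = a} = 0 := by
      have : IsEmpty {a : Sylow 3 G // a ∈ F ∧ ∀ y ∈ (β : Subgroup G), y • a = a} := by
        constructor
        rintro ⟨a, ha1, ha2⟩
        rw [eq_of_forall_smul_eq β a ha2] at ha1
        exact hβ ha1
      exact Nat.card_of_isEmpty
    rw [h2] at h1
    exact h1

/-- (F1) an element centralizing the Sylow subgroup `x` fixes `≡ 1` mod 3 Sylow subgroups. -/
theorem card_fix_modEq_one (x : Sylow 3 G) (g : G)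
    (hg : g ∈ centralizer ((x : Subgroup G) : Set G)) :
    Nat.card (fixedBy (Sylow 3 G) g) ≡ 1 [MOD 3] := by
  have hinv : ∀ y ∈ (x : Subgroup G), ∀ a ∈ fixedBy (Sylow 3 G) g,
      y • a ∈ fixedBy (Sylow 3 G) g := by
    intro y hy a ha
    rw [mem_fixedBy] at ha ⊢
    have hcy : g * y = y * g := ((Subgroup.mem_centralizer_iff.mp hg) y hy).symm
    rw [smul_smul, hcy, ← smul_smul, ha]
  refine (card_invariant_mod_three x _ hinv).1 ?_
  rw [mem_fixedBy, smul_eq_iff]
  exact Subgroup.centralizer_le_normalizer _ hg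

/-- generator of a Sylow subgroup of order 3 -/
theorem exists_gen (x : Sylow 3 G) (h3 : Nat.card x = 3) :
    ∃ a : G, orderOf a = 3 ∧ a ∈ (x : Subgroup G) ∧
      ∀ b ∈ (x : Subgroup G), b = 1 ∨ b = a ∨ b = a⁻¹ := by
  have hne : (x : Subgroup G) ≠ ⊥ := by
    intro hb
    rw [hb, Subgroup.card_bot] at h3
    omega
  obtain ⟨a, ha, ha1⟩ := (Subgroup.ne_bot_iff_exists_ne_one (H := (x : Subgroup G))).mp hne |>.imp
    (fun a h => h) |> fun ⟨a, h⟩ => (⟨(a : G), a.2, fun e => h (Subtype.ext e)⟩ :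
      ∃ a : G, a ∈ (x : Subgroup G) ∧ a ≠ 1)
  have hord : orderOf a = 3 := by
    have hdvd : orderOf a ∣ 3 := by
      rw [← h3]
      have := orderOf_dvd_natCard (⟨a, ha⟩ : ↥(x : Subgroup G))
      rwa [← Subgroup.orderOf_coe] at this
    rcases (Nat.dvd_prime (by norm_num : Nat.Prime 3)).mp hdvd with h | h
    · exact absurd (orderOf_eq_one_iff.mp h) ha1
    · exact h
  have hz : Subgroup.zpowers a = (x : Subgroup G) := by
    apply Subgroup.eq_of_le_of_card_ge ((Subgroup.zpowers_le).mpr ha)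
    rw [Nat.card_zpowers, hord, h3]
  refine ⟨a, hord, ha, ?_⟩
  intro b hb
  rw [← hz] at hb
  obtain ⟨k, rfl⟩ := Subgroup.mem_zpowers_iff.mp hb
  have h3' : a ^ (3 : ℤ) = 1 := by
    have := pow_orderOf_eq_one a
    rw [hord] at this
    exact_mod_cast this
  have hk : a ^ k = a ^ (k % 3) := by
    conv_lhs => rw [← Int.emod_add_mul_ediv k 3, zpow_add, zpow_mul, h3', one_zpow, mul_one]
  have hk3 : k % 3 = 0 ∨ k % 3 = 1 ∨ k % 3 = 2 := by omega
  rcases hk3 with h | h | h
  · left; rw [hk, h, zpow_zero]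
  · right; left; rw [hk, h, zpow_one]
  · right; right
    rw [hk, h]
    have : a ^ (2 : ℤ) * a = 1 := by
      rw [← zpow_add_one]; exact h3'
    exact eq_inv_of_mul_eq_one_left this

/-- conjugation by an element of the normalizer fixes or inverts the generator -/
theorem conj_gen (x : Sylow 3 G) (a : G) (hord : orderOf a = 3) (ha : a ∈ (x : Subgroup G))
    (hall : ∀ b ∈ (x : Subgroup G), b = 1 ∨ b = a ∨ b = a⁻¹) (g : G)
    (hg : g ∈ normalizer ((x : Subgroup G) : Set G)) :
    g * a * g⁻¹ = a ∨ g * a * g⁻¹ = a⁻¹ := by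
  have h1 : g * a * g⁻¹ ∈ (x : Subgroup G) := (Subgroup.mem_normalizer_iff.mp hg a).mp ha
  rcases hall _ h1 with h | h | h
  · exfalso
    have : a = 1 := by
      have : g⁻¹ * (g * a * g⁻¹) * g = g⁻¹ * 1 * g := by rw [h]
      rw [show g⁻¹ * (g * a * g⁻¹) * g = a by group, show g⁻¹ * 1 * g = 1 by group] at this
      exact this
    rw [this, orderOf_one] at hord
    omega
  · exact Or.inl h
  · exact Or.inr h

theorem mem_centralizer_of_comm (x : Sylow 3 G) (a : G)
    (hall : ∀ b ∈ (x : Subgroup G), b = 1 ∨ b = a ∨ b = a⁻¹) (g : G) (h : g * a * g⁻¹ = a) :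
    g ∈ centralizer ((x : Subgroup G) : Set G) := by
  have hc : g * a = a * g := by
    calc g * a = (g * a * g⁻¹) * g := by group
      _ = a * g := by rw [h]
  rw [Subgroup.mem_centralizer_iff]
  intro b hb
  rcases hall b hb with rfl | rfl | rfl
  · rw [one_mul, mul_one]
  · exact hc.symm
  · calc a⁻¹ * g = a⁻¹ * (g * a) * a⁻¹ := by group
      _ = a⁻¹ * (a * g) * a⁻¹ := by rw [hc]
      _ = g * a⁻¹ := by group

/-- the square of an element of `N(x)` centralizes `x` -/
theorem sq_mem_centralizer (x : Sylow 3 G) (h3 : Nat.card x = 3) (g : G)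
    (hg : g ∈ normalizer ((x : Subgroup G) : Set G)) :
    g ^ 2 ∈ centralizer ((x : Subgroup G) : Set G) := by
  obtain ⟨a, hord, ha, hall⟩ := exists_gen x h3
  rcases conj_gen x a hord ha hall g hg with h | h
  · exact (centralizer ((x : Subgroup G) : Set G)).pow_mem
      (mem_centralizer_of_comm x a hall g h) 2
  · apply mem_centralizer_of_comm x a hall
    calc g ^ 2 * a * (g ^ 2)⁻¹ = g * (g * a * g⁻¹) * g⁻¹ := by rw [pow_two]; group
      _ = g * a⁻¹ * g⁻¹ := by rw [h]
      _ = (g * a * g⁻¹)⁻¹ := by group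
      _ = a := by rw [h, inv_inv]

/-- (F2) an element of odd order of `N(x)` centralizes `x` -/
theorem mem_centralizer_of_odd (x : Sylow 3 G) (h3 : Nat.card x = 3) (g : G)
    (hg : g ∈ normalizer ((x : Subgroup G) : Set G)) (hodd : Odd (orderOf g)) :
    g ∈ centralizer ((x : Subgroup G) : Set G) := by
  obtain ⟨k, hk⟩ := hodd
  have h1 := sq_mem_centralizer x h3 g hg
  have h2 : g = (g ^ 2) ^ (k + 1) := by
    rw [← pow_mul, show 2 * (k + 1) = orderOf g + 1 by omega, pow_succ, pow_orderOf_eq_one, one_mul]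
  rw [h2]
  exact (centralizer ((x : Subgroup G) : Set G)).pow_mem h1 _

/-- `|N(x) : C(x)|` divides 2 -/
theorem relIndex_dvd_two (x : Sylow 3 G) (h3 : Nat.card x = 3) :
    (centralizer ((x : Subgroup G) : Set G)).relIndex (normalizer ((x : Subgroup G) : Set G)) ∣ 2 := by
  have hcyc : IsCyclic ↥(x : Subgroup G) := isCyclic_of_prime_card h3
  have key := Subgroup.card_dvd_of_injective _
    (QuotientGroup.kerLift_injective (x : Subgroup G).normalizerMonoidHom)
  rw [Subgroup.normalizerMonoidHom_ker, ← Subgroup.index, ← Subgroup.relIndex] at key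
  rwa [hcyc.card_mulAut, h3, Nat.totient_prime (by norm_num : Nat.Prime 3)] at key

/-- `|C(x)| * |N(x) : C(x)| = |N(x)|` -/
theorem card_centralizer_mul_relIndex (x : Sylow 3 G) :
    Nat.card (centralizer ((x : Subgroup G) : Set G)) *
      (centralizer ((x : Subgroup G) : Set G)).relIndex (normalizer ((x : Subgroup G) : Set G))
      = Nat.card (normalizer ((x : Subgroup G) : Set G)) := by
  have h1 := Subgroup.card_mul_index
    ((centralizer ((x : Subgroup G) : Set G)).subgroupOf (normalizer ((x : Subgroup G) : Set G)))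
  have h2 : Nat.card ((centralizer ((x : Subgroup G) : Set G)).subgroupOf
      (normalizer ((x : Subgroup G) : Set G))) = Nat.card (centralizer ((x : Subgroup G) : Set G)) :=
    Nat.card_congr (Subgroup.subgroupOfEquivOfLe (Subgroup.centralizer_le_normalizer _)).toEquiv
  rw [h2] at h1
  exact h1

theorem card_fixedBy_eq_filter [Fintype (Sylow 3 G)] [DecidableEq (Sylow 3 G)] (t : G) :
    Nat.card (fixedBy (Sylow 3 G) t)
      = (Finset.univ.filter (fun β : Sylow 3 G => t • β = β)).card := by
  rw [Nat.card_eq_fintype_card, ← Fintype.card_subtype]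
  rfl

/-- (F3) an element of `N(x)` not centralizing `x` fixes at most 8 points, given that there are
22 Sylow subgroups. -/
theorem card_fix_le_eight (h22 : Nat.card (Sylow 3 G) = 22) (x : Sylow 3 G) (h3 : Nat.card x = 3)
    (t : G) (htN : t ∈ normalizer ((x : Subgroup G) : Set G))
    (htC : t ∉ centralizer ((x : Subgroup G) : Set G)) :
    Nat.card (fixedBy (Sylow 3 G) t) ≤ 8 := by
  classical
  have : Fintype (Sylow 3 G) := Fintype.ofFinite _
  obtain ⟨a, hord, ha, hall⟩ := exists_gen x h3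
  have hinv : t * a * t⁻¹ = a⁻¹ := by
    rcases conj_gen x a hord ha hall t htN with h | h
    · exact absurd (mem_centralizer_of_comm x a hall t h) htC
    · exact h
  have hinv' : t * a⁻¹ * t⁻¹ = a := by
    calc t * a⁻¹ * t⁻¹ = (t * a * t⁻¹)⁻¹ := by group
      _ = a := by rw [hinv, inv_inv]
  have ha3 : a * a * a = 1 := by
    have := pow_orderOf_eq_one a
    rw [hord, pow_succ, pow_two] at this
    exact this
  have ha1 : a ≠ 1 := by
    rintro rfl
    rw [orderOf_one] at hord; omega
  -- key claim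
  have key : ∀ e : G, e ∈ (x : Subgroup G) → e ≠ 1 → e * e * e = 1 → t * e * t⁻¹ = e⁻¹ →
      ∀ β : Sylow 3 G, β ≠ x → t • β = β → t • (e • β) = e • β → False := by
    intro e he he1 he3 hte β hβx hβ hβ'
    have h1 : e • β = β := by
      have h2 : t * e = e⁻¹ * t := by
        calc t * e = (t * e * t⁻¹) * t := by group
          _ = e⁻¹ * t := by rw [hte]
      have h3 : e⁻¹ • β = e • β := by
        calc e⁻¹ • β = e⁻¹ • (t • β) := by rw [hβ]
          _ = (e⁻¹ * t) • β := by rw [smul_smul]
          _ = (t * e) • β := by rw [h2]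
          _ = t • (e • β) := by rw [smul_smul]
          _ = e • β := hβ'
      have h4 : (e * e) • β = β := by
        rw [← smul_smul, ← h3, smul_inv_smul]
      have h5 : e⁻¹ = e * e := by
        exact inv_eq_of_mul_eq_one_left he3
      rw [← h5] at h4
      rw [← h3, h4]
    have h2 := mem_of_smul_eq x β e he h1
    -- x = zpowers e ≤ β
    have hle : (x : Subgroup G) ≤ β := by
      have hz : Subgroup.zpowers e = (x : Subgroup G) := by
        apply Subgroup.eq_of_le_of_card_ge ((Subgroup.zpowers_le).mpr he)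
        rw [Nat.card_zpowers, h3]
        have hd : orderOf e ∣ 3 := by
          apply orderOf_dvd_of_pow_eq_one
          rw [pow_succ, pow_two]; exact he3
        rcases (Nat.dvd_prime (by norm_num : Nat.Prime 3)).mp hd with h | h
        · exact absurd (orderOf_eq_one_iff.mp h) he1
        · rw [h]
      rw [← hz]
      exact (Subgroup.zpowers_le).mpr h2
    exact hβx (Sylow.ext (x.3 β.2 hle))
  have hai3 : a⁻¹ * a⁻¹ * a⁻¹ = 1 := by
    calc a⁻¹ * a⁻¹ * a⁻¹ = (a * a * a)⁻¹ := by group
      _ = 1 := by rw [ha3, inv_one]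
  have keyA := key a ha ha1 ha3 hinv
  have keyB := key a⁻¹ ((x : Subgroup G).inv_mem ha) (fun e => ha1 (inv_eq_one.mp e)) hai3
    (by rw [hinv', inv_inv])
  rw [card_fixedBy_eq_filter]
  set S : Finset (Sylow 3 G) := (Finset.univ.filter (fun β : Sylow 3 G => t • β = β)).erase x
    with hS
  have hxfix : x ∈ Finset.univ.filter (fun β : Sylow 3 G => t • β = β) := by
    rw [Finset.mem_filter]
    exact ⟨Finset.mem_univ _, smul_eq_iff.mpr htN⟩
  have hScard : S.card + 1 = (Finset.univ.filter (fun β : Sylow 3 G => t • β = β)).card := by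
    rw [hS, Finset.card_erase_of_mem hxfix]
    have := Finset.card_pos.mpr ⟨x, hxfix⟩
    omega
  have hSmem : ∀ β, β ∈ S ↔ β ≠ x ∧ t • β = β := by
    intro β
    rw [hS, Finset.mem_erase, Finset.mem_filter]
    simp
  set A : Finset (Sylow 3 G) := S.image (fun β => a • β) with hA
  set B : Finset (Sylow 3 G) := S.image (fun β => a⁻¹ • β) with hB
  have hAcard : A.card = S.card :=
    Finset.card_image_of_injective _ (fun β γ hβγ => smul_left_cancel a hβγ)
  have hBcard : B.card = S.card :=
    Finset.card_image_of_injective _ (fun β γ hβγ => smul_left_cancel a⁻¹ hβγ)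
  have hSA : Disjoint S A := by
    rw [Finset.disjoint_left]
    intro γ hγ hγA
    obtain ⟨β, hβ, rfl⟩ := Finset.mem_image.mp hγA
    rw [hSmem] at hγ hβ
    exact keyA β hβ.1 hβ.2 hγ.2
  have hSB : Disjoint S B := by
    rw [Finset.disjoint_left]
    intro γ hγ hγB
    obtain ⟨β, hβ, rfl⟩ := Finset.mem_image.mp hγB
    rw [hSmem] at hγ hβ
    exact keyB β hβ.1 hβ.2 hγ.2
  have hAB : Disjoint A B := by
    rw [Finset.disjoint_left]
    intro γ hγA hγB
    obtain ⟨β, hβ, rfl⟩ := Finset.mem_image.mp hγA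
    obtain ⟨β', hβ', hβ''⟩ := Finset.mem_image.mp hγB
    -- β' = a⁻¹ • β  (as a² = a⁻¹)
    have e1 : β' = a⁻¹ • β := by
      have : a • (a⁻¹ • β') = a • (a • β) := by rw [hβ'']
      rw [smul_inv_smul, smul_smul] at this
      have h5 : a⁻¹ = a * a := inv_eq_of_mul_eq_one_left ha3
      rw [this, h5]
    rw [hSmem] at hβ hβ'
    rw [e1] at hβ'
    exact keyB β hβ.1 hβ.2 hβ'.2
  have hsub : S ∪ A ∪ B ⊆ Finset.univ.erase x := by
    intro γ hγ
    rw [Finset.mem_erase]
    refine ⟨?_, Finset.mem_univ _⟩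
    rw [Finset.mem_union, Finset.mem_union] at hγ
    rcases hγ with (hγ | hγ) | hγ
    · exact ((hSmem γ).mp hγ).1
    · obtain ⟨β, hβ, rfl⟩ := Finset.mem_image.mp hγ
      intro e
      have : a • β = a • x := by rw [e, smul_self_of_mem x a ha]
      exact ((hSmem β).mp hβ).1 (smul_left_cancel a this)
    · obtain ⟨β, hβ, rfl⟩ := Finset.mem_image.mp hγ
      intro e
      have : a⁻¹ • β = a⁻¹ • x := by
        rw [e, smul_self_of_mem x a⁻¹ ((x : Subgroup G).inv_mem ha)]
      exact ((hSmem β).mp hβ).1 (smul_left_cancel a⁻¹ this)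
  have hcard := Finset.card_le_card hsub
  rw [Finset.card_union_of_disjoint (Finset.disjoint_union_left.mpr ⟨hSB, hAB⟩),
    Finset.card_union_of_disjoint hSA, hAcard, hBcard,
    Finset.card_erase_of_mem (Finset.mem_univ _), Finset.card_univ, ← Nat.card_eq_fintype_card,
    h22] at hcard
  omega

/-- orbit argument: if `t` fixes `α` and centralizes every Sylow subgroup it normalizes, then
`C(t)` is transitive on the fixed points of `t`; in particular their number divides `|G|`. -/
theorem card_fix_dvd (t : G) (α : Sylow 3 G) (hα : t • α = α)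
    (hc : ∀ β : Sylow 3 G, t • β = β → t ∈ centralizer ((β : Subgroup G) : Set G)) :
    Nat.card (fixedBy (Sylow 3 G) t) ∣ Nat.card G := by
  set Z : Subgroup G := centralizer ({t} : Set G) with hZ
  have hmemZ : ∀ β : Sylow 3 G, t • β = β → ∀ y ∈ (β : Subgroup G), y ∈ Z := by
    intro β hβ y hy
    rw [hZ, Subgroup.mem_centralizer_singleton_iff]
    exact (Subgroup.mem_centralizer_iff.mp (hc β hβ)) y hy
  have hOsub : orbit ↥Z α ⊆ fixedBy (Sylow 3 G) t := by
    rintro _ ⟨z, rfl⟩
    show t • (z • α) = z • α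
    rw [Subgroup.smul_def, smul_smul]
    have hz : (z : G) * t = t * z := by
      have : (z : G) ∈ centralizer ({t} : Set G) := z.2
      rw [Subgroup.mem_centralizer_singleton_iff] at this
      exact this
    rw [← hz, ← smul_smul, hα]
  have hinv : ∀ β : Sylow 3 G, t • β = β → ∀ y ∈ (β : Subgroup G), ∀ a ∈ orbit ↥Z α,
      y • a ∈ orbit ↥Z α := by
    rintro β hβ y hy _ ⟨z, rfl⟩
    refine ⟨⟨y, hmemZ β hβ y hy⟩ * z, ?_⟩
    show ((⟨y, hmemZ β hβ y hy⟩ : ↥Z) * z) • α = y • (z • α)
    rw [mul_smul]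
    rfl
  have h1 : Nat.card (orbit ↥Z α) ≡ 1 [MOD 3] :=
    (card_invariant_mod_three α _ (hinv α hα)).1 (mem_orbit_self α)
  have hall : fixedBy (Sylow 3 G) t ⊆ orbit ↥Z α := by
    intro β hβ
    by_contra hnot
    have h0 := (card_invariant_mod_three β _ (hinv β hβ)).2 hnot
    have := h1.symm.trans h0
    unfold Nat.ModEq at this
    omega
  have heq : fixedBy (Sylow 3 G) t = orbit ↥Z α := Set.Subset.antisymm hall hOsub
  rw [heq, Nat.card_coe_set_eq, ← index_stabilizer]
  exact (Subgroup.index_dvd_card _).trans (Subgroup.card_subgroup_dvd_card Z)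

end Cfsg.Agent.Lib.Helper8.Syl22
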