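import Mathlib
import Cfsg.Agent.Lib.Helper8.Syl22E

/-!
helper8: M. Hall's theorem `n_3 ≠ 22`, part F: in a minimal counterexample with Sylow
`3`-subgroups of order `3` and no element of order `5` centralizing a Sylow `3`-subgroup, the
order of the group is `66`, `132`, `462` or `924`.
-/

set_option autoImplicit false
set_option linter.unusedSectionVars false

namespace Cfsg.Agent.Lib.Helper8.Syl22

open Subgroup MulAction
open scoped Pointwise

universe u

theorem fact5 : Fact (Nat.Prime 5) := ⟨by norm_num⟩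
theorem fact7 : Fact (Nat.Prime 7) := ⟨by norm_num⟩

attribute [local instance] fact3 fact5 fact7

/-- an even involution moves a multiple of four points -/
theorem four_dvd_support {X : Type*} [Fintype X] [DecidableEq X] (σ : Equiv.Perm X)
    (h2 : σ ^ 2 = 1) (hs : Equiv.Perm.sign σ = 1) : 4 ∣ σ.support.card := by
  have h3 := Cfsg.Agent.Lib.Helper7.sign_of_sq_eq_one σ h2
  rw [hs] at h3
  have heven : Even (σ.support.card / 2) := by
    by_contra hodd
    rw [Nat.not_even_iff_odd] at hodd
    rw [hodd.neg_one_pow] at h3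
    exact absurd h3 (by decide)
  have h2dvd : 2 ∣ σ.support.card := by
    by_cases h1 : σ = 1
    · rw [h1]; simp
    have ho : orderOf σ = 2 := orderOf_eq_prime h2 h1
    obtain ⟨n, hn⟩ := Equiv.Perm.cycleType_prime_order (σ := σ)
      (by rw [ho]; exact Nat.prime_two)
    rw [← Equiv.Perm.sum_cycleType, hn, Multiset.sum_replicate, smul_eq_mul, ho]
    exact dvd_mul_left 2 _
  obtain ⟨k, hk⟩ := heven
  obtain ⟨m, hm⟩ := h2dvd
  omega

theorem eq_three_or_21 (c : ℕ) (hprime : ∀ ℓ : ℕ, ℓ.Prime → ℓ ∣ c → ℓ = 3 ∨ ℓ = 7)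
    (h3 : 3 ∣ c) (h9 : ¬ 9 ∣ c) (h49 : ¬ 49 ∣ c) : c = 3 ∨ c = 21 := by
  obtain ⟨d, rfl⟩ := h3
  have h3d : ¬ 3 ∣ d := by
    rintro ⟨e, rfl⟩
    exact h9 ⟨e, by ring⟩
  by_cases h7 : 7 ∣ d
  · obtain ⟨e, rfl⟩ := h7
    have h7e : ¬ 7 ∣ e := by
      rintro ⟨f, rfl⟩
      exact h49 ⟨3 * f, by ring⟩
    have h3e : ¬ 3 ∣ e := fun hh => h3d (hh.trans (dvd_mul_left e 7))
    have he : e = 1 := by
      rw [Nat.eq_one_iff_not_exists_prime_dvd]
      intro p hp hpe
      rcases hprime p hp (hpe.trans ⟨21, by ring⟩) with rfl | rfl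
      · exact h3e hpe
      · exact h7e hpe
    right; rw [he]
  · have hd : d = 1 := by
      rw [Nat.eq_one_iff_not_exists_prime_dvd]
      intro p hp hpd
      rcases hprime p hp (hpd.trans (dvd_mul_left d 3)) with rfl | rfl
      · exact h3d hpd
      · exact h7 hpd
    left; rw [hd]

variable {G : Type u} [Group G] [Finite G]

/-- nontrivial elements move some Sylow subgroup -/
theorem card_fix_lt (h : MinCE G) (g : G) (hg : g ≠ 1) :
    Nat.card (fixedBy (Sylow 3 G) g) < 22 := by
  have hle := card_fixedBy_le (X := Sylow 3 G) g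
  rw [h.1] at hle
  rcases Nat.lt_or_ge (Nat.card (fixedBy (Sylow 3 G) g)) 22 with hlt | hge
  · exact hlt
  · exfalso
    apply hg
    apply eq_one_of_smul_eq h
    intro Q
    exact smul_eq_of_card_fixedBy g (by rw [h.1]; omega) Q

theorem ne_one_of_orderOf {g : G} {n : ℕ} (ho : orderOf g = n) (hn : n ≠ 1) : g ≠ 1 := by
  rintro rfl
  rw [orderOf_one] at ho
  exact hn ho.symm

/-- an element of order 7 centralizing `α` fixes only `α` -/
theorem fix_seven (h : MinCE G) (α : Sylow 3 G) (s : G)
    (hs : s ∈ centralizer ((α : Subgroup G) : Set G)) (ho : orderOf s = 7)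
    (β : Sylow 3 G) (hβ : s • β = β) : β = α := by
  have h1 := card_fix_modEq_one α s hs
  have h2 := card_modEq_card_fixedBy (X := Sylow 3 G) s ho
  have h3 := card_fix_lt h s (ne_one_of_orderOf ho (by norm_num))
  rw [h.1] at h2
  unfold Nat.ModEq at h1 h2
  have h4 : Nat.card (fixedBy (Sylow 3 G) s) = 1 := by omega
  have hsub : Subsingleton (fixedBy (Sylow 3 G) s) :=
    (Finite.card_le_one_iff_subsingleton).mp (by omega)
  have hα : α ∈ fixedBy (Sylow 3 G) s := by
    rw [mem_fixedBy, smul_eq_iff]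
    exact Subgroup.centralizer_le_normalizer _ hs
  have := Subsingleton.elim (⟨β, hβ⟩ : fixedBy (Sylow 3 G) s) ⟨α, hα⟩
  exact congrArg Subtype.val this

/-- (iii) no element of prime order `≥ 11` centralizes `α` -/
theorem no_large_prime (h : MinCE G) (α : Sylow 3 G) (g : G)
    (hg : g ∈ centralizer ((α : Subgroup G) : Set G)) (ℓ : ℕ) (hℓ : ℓ.Prime) (h11 : 11 ≤ ℓ)
    (ho : orderOf g = ℓ) : False := by
  have : Fact ℓ.Prime := ⟨hℓ⟩
  have h1 := card_fix_modEq_one α g hg
  have h2 := card_modEq_card_fixedBy (X := Sylow 3 G) g ho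
  have h3 := card_fix_lt h g (ne_one_of_orderOf ho (by omega))
  rw [h.1] at h2
  have h4 : ℓ ∣ 22 - Nat.card (fixedBy (Sylow 3 G) g) :=
    (Nat.modEq_iff_dvd' (by omega)).mp h2.symm
  unfold Nat.ModEq at h1
  have h5 : ℓ ≤ 22 - Nat.card (fixedBy (Sylow 3 G) g) := Nat.le_of_dvd (by omega) h4
  generalize Nat.card (fixedBy (Sylow 3 G) g) = f at *
  have h6 : ℓ ≤ 21 := by omega
  interval_cases ℓ
  · omega
  · norm_num at hℓ
  · omega
  · norm_num at hℓ
  · norm_num at hℓ
  · norm_num at hℓ
  · omega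
  · norm_num at hℓ
  · omega
  · norm_num at hℓ
  · norm_num at hℓ

/-- (iv) no subgroup of order 49 centralizes `α` -/
theorem no_49 (h : MinCE G) (α : Sylow 3 G) (K : Subgroup G)
    (hK : K ≤ centralizer ((α : Subgroup G) : Set G)) (hcard : Nat.card K = 49) : False := by
  have hnt : Nontrivial (Sylow 3 G) := by
    rw [← Finite.one_lt_card_iff_nontrivial, h.1]; norm_num
  obtain ⟨β, hβα⟩ := exists_ne α
  have hstab : stabilizer ↥K β = ⊥ := by
    rw [Subgroup.eq_bot_iff_forall]
    intro s hs
    rw [mem_stabilizer_iff, Subgroup.smul_def] at hs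
    by_contra hs1
    have hs1' : (s : G) ≠ 1 := fun e => hs1 (Subtype.ext e)
    have hdvd : orderOf (s : G) ∣ 7 ^ 2 := by
      have := orderOf_dvd_natCard s
      rw [hcard] at this
      rw [Subgroup.orderOf_coe]
      exact this
    obtain ⟨m, hm, hord⟩ := (Nat.dvd_prime_pow (by norm_num : Nat.Prime 7)).mp hdvd
    have hm' : m = 0 ∨ m = 1 ∨ m = 2 := by omega
    rcases hm' with rfl | rfl | rfl
    · rw [pow_zero, orderOf_eq_one_iff] at hord
      exact hs1' hord
    · rw [pow_one] at hord
      exact hβα (fix_seven h α (s : G) (hK s.2) hord β hs)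
    · have hord7 : orderOf ((s : G) ^ 7) = 7 := by
        rw [orderOf_pow' _ (by norm_num), hord]
        norm_num
      have hmem : (s : G) ^ 7 ∈ centralizer ((α : Subgroup G) : Set G) :=
        (centralizer ((α : Subgroup G) : Set G)).pow_mem (hK s.2) 7
      have hfix : (s : G) ^ 7 • β = β := by
        have : (s : G) ∈ stabilizer G β := hs
        exact (stabilizer G β).pow_mem this 7
      exact hβα (fix_seven h α ((s : G) ^ 7) hmem hord7 β hfix)
  have h1 : (orbit ↥K β).ncard = 49 := by
    rw [← index_stabilizer, hstab, Subgroup.index_bot, hcard]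
  have h2 := Set.ncard_le_card (orbit ↥K β)
  rw [h1, h.1] at h2
  omega

/-- (ii) no involution centralizes `α` -/
theorem no_involution (h : MinCE G) (h3 : ∀ P : Sylow 3 G, Nat.card P = 3)
    (no5 : ∀ (β : Sylow 3 G) (k : G), k ∈ centralizer ((β : Subgroup G) : Set G) → orderOf k ≠ 5)
    (α : Sylow 3 G) (t : G) (ht : t ∈ centralizer ((α : Subgroup G) : Set G))
    (ho : orderOf t = 2) : False := by
  classical
  have : Fintype (Sylow 3 G) := Fintype.ofFinite _
  have h22 := h.1
  have hmod := card_fix_modEq_one α t ht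
  have hlt := card_fix_lt h t (ne_one_of_orderOf ho (by norm_num))
  have hsupp := Cfsg.Agent.Lib.Helper7.card_support_add_card_fixedBy (X := Sylow 3 G) t
  rw [← Nat.card_eq_fintype_card, h22] at hsupp
  have ht2 : t ^ 2 = 1 := by rw [← ho]; exact pow_orderOf_eq_one t
  have h4 : 4 ∣ (MulAction.toPermHom G (Sylow 3 G) t).support.card := by
    apply four_dvd_support
    · rw [← map_pow, ht2, map_one]
    · exact sign_eq_one h t
  unfold Nat.ModEq at hmod
  have hf : Nat.card (fixedBy (Sylow 3 G) t) = 10 := by omega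
  have hα : t • α = α := by
    rw [smul_eq_iff]
    exact Subgroup.centralizer_le_normalizer _ ht
  have hcent : ∀ β : Sylow 3 G, t • β = β → t ∈ centralizer ((β : Subgroup G) : Set G) := by
    intro β hβ
    by_contra hnot
    have := card_fix_le_eight h22 β (h3 β) t (smul_eq_iff.mp hβ) hnot
    omega
  have hdvd := card_fix_dvd t α hα hcent
  rw [hf] at hdvd
  have hN : Nat.card (Sylow 3 G) * Nat.card (normalizer ((α : Subgroup G) : Set G))
      = Nat.card G := by
    rw [Sylow.card_eq_index_normalizer α]; exact Subgroup.index_mul_card _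
  rw [h22] at hN
  have h5 : 5 ∣ Nat.card (normalizer ((α : Subgroup G) : Set G)) := by
    rw [← hN] at hdvd
    omega
  obtain ⟨k, hk⟩ := exists_prime_orderOf_dvd_card'
    (G := ↥(normalizer ((α : Subgroup G) : Set G))) 5 h5
  have hk' : orderOf (k : G) = 5 := by rw [Subgroup.orderOf_coe]; exact hk
  have hkC := mem_centralizer_of_odd α (h3 α) (k : G) k.2 (by rw [hk']; decide)
  exact no5 α (k : G) hkC hk'

/-- `α ≤ C(α)` -/
theorem le_centralizer_self (α : Sylow 3 G) (h3 : Nat.card α = 3) :
    (α : Subgroup G) ≤ centralizer ((α : Subgroup G) : Set G) := by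
  obtain ⟨a, _, _, hall⟩ := exists_gen α h3
  intro b hb
  apply mem_centralizer_of_comm α a hall
  rcases hall b hb with rfl | rfl | rfl <;> group

/-- the order of a minimal counterexample -/
theorem card_G_cases (h : MinCE G) (h3 : ∀ P : Sylow 3 G, Nat.card P = 3)
    (no5 : ∀ (β : Sylow 3 G) (k : G), k ∈ centralizer ((β : Subgroup G) : Set G) → orderOf k ≠ 5) :
    Nat.card G = 66 ∨ Nat.card G = 132 ∨ Nat.card G = 462 ∨ Nat.card G = 924 := by
  obtain ⟨α⟩ : Nonempty (Sylow 3 G) := inferInstance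
  have hprime : ∀ ℓ : ℕ, ℓ.Prime →
      ℓ ∣ Nat.card (centralizer ((α : Subgroup G) : Set G)) → ℓ = 3 ∨ ℓ = 7 := by
    intro ℓ hℓ hdvd
    have : Fact ℓ.Prime := ⟨hℓ⟩
    obtain ⟨g, hg⟩ := exists_prime_orderOf_dvd_card'
      (G := ↥(centralizer ((α : Subgroup G) : Set G))) ℓ hdvd
    have hg' : orderOf (g : G) = ℓ := by rw [Subgroup.orderOf_coe]; exact hg
    by_cases h11 : 11 ≤ ℓ
    · exact absurd (no_large_prime h α (g : G) g.2 ℓ hℓ h11 hg') id
    · have hlt : ℓ < 11 := by omega
      interval_cases ℓ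
      · norm_num at hℓ
      · norm_num at hℓ
      · exact absurd (no_involution h h3 no5 α (g : G) g.2 hg') id
      · left; rfl
      · norm_num at hℓ
      · exact absurd hg' (no5 α (g : G) g.2)
      · norm_num at hℓ
      · right; rfl
      · norm_num at hℓ
      · norm_num at hℓ
      · norm_num at hℓ
  have h3c : 3 ∣ Nat.card (centralizer ((α : Subgroup G) : Set G)) := by
    have := Subgroup.card_dvd_of_le (le_centralizer_self α (h3 α))
    rwa [h3 α] at this
  have h9 : ¬ 9 ∣ Nat.card (centralizer ((α : Subgroup G) : Set G)) := by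
    intro h9
    have h9G : 3 ^ 2 ∣ Nat.card G := h9.trans (Subgroup.card_subgroup_dvd_card _)
    have := α.pow_dvd_card_of_pow_dvd_card h9G
    rw [h3 α] at this
    norm_num at this
  have h49 : ¬ 49 ∣ Nat.card (centralizer ((α : Subgroup G) : Set G)) := by
    intro h49
    obtain ⟨K, hK⟩ := Sylow.exists_subgroup_card_pow_prime 7 (n := 2)
      (G := ↥(centralizer ((α : Subgroup G) : Set G))) h49
    apply no_49 h α (K.map (centralizer ((α : Subgroup G) : Set G)).subtype)
    · exact Subgroup.map_subtype_le K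
    · rw [Subgroup.card_map_of_injective (Subgroup.subtype_injective _), hK]
      norm_num
  have hc := eq_three_or_21 _ hprime h3c h9 h49
  have hr := relIndex_dvd_two α (h3 α)
  have hr' := (Nat.dvd_prime Nat.prime_two).mp hr
  have hNC := card_centralizer_mul_relIndex α
  have hN : Nat.card (Sylow 3 G) * Nat.card (normalizer ((α : Subgroup G) : Set G))
      = Nat.card G := by
    rw [Sylow.card_eq_index_normalizer α]; exact Subgroup.index_mul_card _
  rw [h.1] at hN
  rcases hc with hc | hc <;> rcases hr' with hr' | hr' <;> rw [hc, hr'] at hNC <;> omega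

end Cfsg.Agent.Lib.Helper8.Syl22
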