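import Mathlib
import Cfsg.Prelude.Def_GeometricClasses
import Cfsg.Agent.Lib.Helper25.TensDefs
import Cfsg.Agent.Lib.Helper25.TensStmt

/-!
helper8: leaves TS (`stab_data`) and TIIa-i (`stageIIa_i`) of helper25's S5637 market
(`notes/S5637_plan.md`).
-/

set_option autoImplicit false
set_option linter.unusedSectionVars false
set_option linter.unusedVariables false
set_option linter.unusedSimpArgs false

namespace Cfsg.Agent.Lib.Helper8.TensLeaf
open Matrix Cfsg.Agent.Lib.Helper25.Tens Cfsg.Agent.Lib.Helper25.TensLeaves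
open scoped Kronecker

variable {F : Type*} [Field F] {a b : ℕ}

/-- (TS) the stabiliser data of an element stabilising `A ⊗ e_o`. -/
theorem stab_data (o : Fin b) (h : GL (Idx a b) F)
    (hh : ∀ x : Fin a → F, ∃ x' : Fin a → F,
      ((h : GL (Idx a b) F) : Matrix (Idx a b) (Idx a b) F) *ᵥ pt x (Pi.single o 1) =
        pt x' (Pi.single o 1)) :
    ∃ h₁ : GL (Fin a) F,
      (∀ x : Fin a → F, ((h : GL (Idx a b) F) : Matrix (Idx a b) (Idx a b) F) *ᵥ pt x (Pi.single o 1) =
        pt ((h₁ : Matrix (Fin a) (Fin a) F) *ᵥ x) (Pi.single o 1)) ∧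
      (∀ x : Fin a → F, ((h⁻¹ : GL (Idx a b) F) : Matrix (Idx a b) (Idx a b) F) *ᵥ pt x (Pi.single o 1) =
        pt (((h₁⁻¹ : GL (Fin a) F) : Matrix (Fin a) (Fin a) F) *ᵥ x) (Pi.single o 1)) := by
  classical
  obtain ⟨H, hH⟩ : ∃ H, H = ((h : GL (Idx a b) F) : Matrix (Idx a b) (Idx a b) F) := ⟨_, rfl⟩
  rw [← hH] at hh
  obtain ⟨A, hA⟩ : ∃ A : Matrix (Fin a) (Fin a) F, A = blk H o o := ⟨_, rfl⟩
  have key : ∀ x, H *ᵥ pt x (Pi.single o 1) = pt (A *ᵥ x) (Pi.single o 1) := by
    intro x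
    obtain ⟨x', hx'⟩ := hh x
    have e0 : x' = A *ᵥ x := by
      funext i'
      have e := congrFun hx' (i', o)
      simp only [pt, Pi.single_eq_same, mul_one] at e
      rw [← e, hA]
      simp only [Matrix.mulVec, dotProduct, Fintype.sum_prod_type, blk_apply]
      apply Finset.sum_congr rfl
      intro i _
      rw [Finset.sum_eq_single o]
      · simp [pt]
      · intro l _ hl
        simp [pt, Pi.single_eq_of_ne hl]
      · simp
    rw [hx', e0]
  have hinj : Function.Injective A.mulVec := by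
    intro x y hxy
    have e1 : H *ᵥ pt (x - y) (Pi.single o 1) = 0 := by
      rw [key, Matrix.mulVec_sub, (show A *ᵥ x = A *ᵥ y from hxy), sub_self, pt_zero_left]
    have e2 : pt (x - y) (Pi.single o (1 : F)) = 0 := by
      have e3 := congrArg (fun v => ((h⁻¹ : GL (Idx a b) F) : Matrix (Idx a b) (Idx a b) F) *ᵥ v) e1
      simp only [hH, Matrix.mulVec_mulVec, ← Units.val_mul, inv_mul_cancel, Units.val_one,
        Matrix.one_mulVec, Matrix.mulVec_zero] at e3
      exact e3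
    rcases (pt_eq_zero_iff _ _).mp e2 with h' | h'
    · exact sub_eq_zero.mp h'
    · exfalso
      have := congrFun h' o
      simp at this
  have hunit : IsUnit A := Matrix.mulVec_injective_iff_isUnit.mp hinj
  obtain ⟨g, hg⟩ := hunit
  refine ⟨g, fun x => ?_, fun x => ?_⟩
  · rw [hg, ← hH]
    exact key x
  · have e := key (((g⁻¹ : GL (Fin a) F) : Matrix (Fin a) (Fin a) F) *ᵥ x)
    rw [← hg, Matrix.mulVec_mulVec, ← Units.val_mul, mul_inv_cancel, Units.val_one,
      Matrix.one_mulVec] at e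
    rw [← e, hH, Matrix.mulVec_mulVec, ← Units.val_mul, inv_mul_cancel, Units.val_one,
      Matrix.one_mulVec]

/-- (TIIa-i) case (i): some block `h₁ * blk h⁻¹ k l` (`k ≠ o`) is not scalar. -/
theorem stageIIa_i (o : Fin b) (M : Subgroup (GL (Idx a b) F))
    (hKM : KG a b F ⊓ SLG a b F ≤ M) (h : GL (Idx a b) F) (hM : h ∈ M) (h₁ : GL (Fin a) F)
    (hh : ∀ x : Fin a → F, ((h : GL (Idx a b) F) : Matrix (Idx a b) (Idx a b) F) *ᵥ pt x (Pi.single o 1) =
        pt ((h₁ : Matrix (Fin a) (Fin a) F) *ᵥ x) (Pi.single o 1))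
    (hh' : ∀ x : Fin a → F, ((h⁻¹ : GL (Idx a b) F) : Matrix (Idx a b) (Idx a b) F) *ᵥ pt x (Pi.single o 1) =
        pt (((h₁⁻¹ : GL (Fin a) F) : Matrix (Fin a) (Fin a) F) *ᵥ x) (Pi.single o 1))
    (k l : Fin b) (hk : k ≠ o)
    (hns : ¬ IsScalarMat ((h₁ : Matrix (Fin a) (Fin a) F) *
      blk ((h⁻¹ : GL (Idx a b) F) : Matrix (Idx a b) (Idx a b) F) k l)) : R3 o M := by
  classical
  obtain ⟨H, hH⟩ : ∃ H, H = ((h : GL (Idx a b) F) : Matrix (Idx a b) (Idx a b) F) := ⟨_, rfl⟩
  obtain ⟨Hi, hHi⟩ : ∃ H, H = ((h⁻¹ : GL (Idx a b) F) : Matrix (Idx a b) (Idx a b) F) := ⟨_, rfl⟩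
  obtain ⟨A, hA⟩ : ∃ A, A = ((h₁ : GL (Fin a) F) : Matrix (Fin a) (Fin a) F) := ⟨_, rfl⟩
  obtain ⟨Ai, hAi⟩ : ∃ A, A = ((h₁⁻¹ : GL (Fin a) F) : Matrix (Fin a) (Fin a) F) := ⟨_, rfl⟩
  rw [← hH, ← hA] at hh
  rw [← hHi, ← hAi] at hh'
  rw [← hHi, ← hA] at hns
  have hHHi : H * Hi = 1 := by rw [hH, hHi, ← Units.val_mul, mul_inv_cancel, Units.val_one]
  have F1 : ∀ p, blk H p o = if p = o then A else 0 := by
    intro p
    ext i' i
    have e := congrFun (hh (Pi.single i 1)) (i', p)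
    rw [mulVec_pt_single] at e
    change H (i', p) (i, o) = _ at e
    rw [blk_apply, e]
    by_cases hp : p = o
    · subst hp
      simp [pt]
    · simp [pt, hp]
  have F2 : ∀ p, blk Hi p o = if p = o then Ai else 0 := by
    intro p
    ext i' i
    have e := congrFun (hh' (Pi.single i 1)) (i', p)
    rw [mulVec_pt_single] at e
    change Hi (i', p) (i, o) = _ at e
    rw [blk_apply, e]
    by_cases hp : p = o
    · subst hp
      simp [pt]
    · simp [pt, hp]
  -- the rational transvection `E = 1 ⊗ (1 + e_o e_kᵀ)`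
  have hηy : (Pi.single k (1 : F) : Fin b → F) ⬝ᵥ Pi.single o 1 = 0 := by
    simp [hk]
  obtain ⟨N, hN⟩ : ∃ N : Matrix (Idx a b) (Idx a b) F,
      N = (1 : Matrix (Fin a) (Fin a) F) ⊗ₖ Matrix.vecMulVec (Pi.single o (1 : F)) (Pi.single k (1 : F)) :=
    ⟨_, rfl⟩
  have hE : ((kel (1 : GL (Fin a) F) (tv (Pi.single o 1) (Pi.single k 1) hηy) : GL (Idx a b) F) :
      Matrix (Idx a b) (Idx a b) F) = 1 + N := by
    rw [kel_val, tv_val, Units.val_one, Matrix.kronecker_add, Matrix.one_kronecker_one, hN]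
  have hEM : kel (1 : GL (Fin a) F) (tv (Pi.single o 1) (Pi.single k 1) hηy) ∈ M :=
    hKM (kel_one_tv_mem _ _ hηy)
  have hNb : ∀ r s, blk N r s = if r = o ∧ s = k then 1 else 0 := by
    intro r s
    rw [hN, blk_kron, Matrix.vecMulVec_apply]
    by_cases hr : r = o <;> by_cases hs : s = k <;> simp [hr, hs]
  have hHN : ∀ p s, blk (H * N) p s = if s = k then blk H p o else 0 := by
    intro p s
    rw [blk_mul, Finset.sum_eq_single o]
    · rw [hNb]
      by_cases hs : s = k <;> simp [hs]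
    · intro r _ hr
      rw [hNb]
      simp [hr]
    · simp
  have hHNHi : ∀ p q, blk (H * N * Hi) p q = blk H p o * blk Hi k q := by
    intro p q
    rw [blk_mul, Finset.sum_eq_single k]
    · rw [hHN, if_pos rfl]
    · intro s _ hs
      rw [hHN, if_neg hs, Matrix.zero_mul]
    · simp
  have huval : ((h * kel (1 : GL (Fin a) F) (tv (Pi.single o 1) (Pi.single k 1) hηy) * h⁻¹ :
      GL (Idx a b) F) : Matrix (Idx a b) (Idx a b) F) = 1 + H * N * Hi := by
    rw [Units.val_mul, Units.val_mul, hE, ← hH, ← hHi, Matrix.mul_add, Matrix.mul_one,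
      Matrix.add_mul, hHHi]
  have hub : ∀ p q, blk (1 + H * N * Hi) p q =
      (if p = q then 1 else 0) + blk H p o * blk Hi k q := by
    intro p q
    rw [blk_add, blk_one, hHNHi]
  refine ⟨h * kel (1 : GL (Fin a) F) (tv (Pi.single o 1) (Pi.single k 1) hηy) * h⁻¹,
    M.mul_mem (M.mul_mem hM hEM) (M.inv_mem hM), ?_, ?_⟩
  · intro hcon
    obtain ⟨α, β, hαβ⟩ := (mem_KG_iff _).mp hcon
    rw [huval] at hαβ
    have hb : ∀ p q, β.val p q • α.val = (if p = q then 1 else 0) + blk H p o * blk Hi k q := by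
      intro p q
      rw [← hub, hαβ, blk_kron]
    have e_oo : β.val o o • α.val = 1 := by
      rw [hb o o, F2 k, if_neg hk, if_pos rfl, Matrix.mul_zero, add_zero]
    have e_ol := hb o l
    rw [F1 o, if_pos rfl] at e_ol
    apply hns
    by_cases hβ : β.val o o = 0
    · rw [hβ, zero_smul] at e_oo
      refine ⟨0, ?_⟩
      calc A * blk Hi k l = (A * blk Hi k l) * 1 := by rw [Matrix.mul_one]
        _ = (0 : F) • (1 : Matrix (Fin a) (Fin a) F) := by rw [zero_smul, ← e_oo, Matrix.mul_zero]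
    · have hα : α.val = (β.val o o)⁻¹ • (1 : Matrix (Fin a) (Fin a) F) := by
        rw [← e_oo, smul_smul, inv_mul_cancel₀ hβ, one_smul]
      refine ⟨β.val o l * (β.val o o)⁻¹ - (if o = l then 1 else 0), ?_⟩
      have e5 : A * blk Hi k l = β.val o l • α.val - (if o = l then 1 else 0) := by
        rw [e_ol]
        abel
      rw [e5, hα, smul_smul, sub_smul]
      congr 1
      by_cases hol : o = l <;> simp [hol]
  · rw [huval]
    intro i i' p q hpq
    change blk (1 + H * N * Hi) p q i i' = blk (1 : Matrix (Idx a b) (Idx a b) F) p q i i'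
    rw [hub, blk_one]
    by_cases hp : p = o
    · have hq : q = o := by
        rcases hpq with h' | h'
        · exact absurd hp h'
        · exact h'
      rw [hq, F2 k, if_neg hk, Matrix.mul_zero, add_zero]
    · rw [F1 p, if_neg hp, Matrix.zero_mul, add_zero]

end Cfsg.Agent.Lib.Helper8.TensLeaf
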