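import Mathlib
import Cfsg.Agent.Lib.Helper5.TWU.Defs
import Cfsg.Agent.Lib.Helper5.TWU.StageIDefs
import Cfsg.Agent.Lib.Helper5.TWU.IB0
import Cfsg.Agent.Lib.Helper5.TWU.IUT
import Cfsg.Agent.Lib.Helper16.TWImg
import Cfsg.Agent.Lib.Helper16.TWRootA
import Cfsg.Agent.Lib.Helper16.TWRootB
import Cfsg.Agent.Lib.Helper16.TWRootC
import Cfsg.Agent.Lib.Helper26.TWFibA
import Cfsg.Agent.Lib.Helper26.TWFibB
import Cfsg.Agent.Lib.Helper22.TWExtBasic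
import Cfsg.Agent.Lib.Helper22.TWExtMore
import Cfsg.Agent.Lib.Helper22.TWQStab
import Cfsg.Agent.Lib.Helper23.TWI1
import Cfsg.Agent.Lib.Helper23.TWUQMain
import Cfsg.Agent.Lib.Helper23.TWUQSc
import Cfsg.Agent.Lib.Helper23.TWUQU
import Cfsg.Agent.Lib.Helper28.TWUI5
import Cfsg.Agent.Lib.Helper22.TWQPure
import Cfsg.Agent.Lib.Helper22.TWQK

/-!
S5672 (C7 unitary; owner helper5) Stage I, leaf I8-α `I8_alpha` (helper8): the non-opposite case (α) of the extremal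
configuration is impossible.

SHORT ROUTE (no eigenspaces / multipliers / involutions): `b₀` (leaf I6-b0 with `K = W₁ ⊓ W'`) stabilises the isotropic
fibre `W₁`, so `b₀ ∈ G` (NS), `b₀ = ext j γ * slot j α` (`stab_form`); `(b₀ - 1) C₁ ≤ (W₁ ⊔ W') ⊓ C₁ = W₁`, and contracting
`b₀ (b ⊗ a) - b ⊗ a` (`a ∈ z^⊥ \ F z`) with a functional killing `z` shows that `γ` is a scalar; hence `b₀` acts on `W₁`
as ONE scalar.  But it is `1` on `K ≠ 0` and `ν⁻¹ ≠ 1` modulo `K` on `W₁ ≠ K`.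
-/

set_option autoImplicit false
set_option linter.unusedSectionVars false
set_option linter.unusedVariables false

namespace Cfsg.Agent.Lib.Helper8.TWULeaf
open Matrix Cfsg.Geo Cfsg.Agent.Lib.Helper18.AschA89 Cfsg.Agent.Lib.Helper8.TW Cfsg.Agent.Lib.Helper5.TWU
open Cfsg.Agent.Lib.Helper20.UT (hv)
open Cfsg.Agent.Lib.Helper23.TWUQ (NSp FCp)
open Cfsg.Agent.Lib.Helper22.TWLeaf

variable {F : Type*} [Field F] [Fintype F] {t k q : ℕ}

/-- an element of `G` stabilising the fibre `W(j,z)` and moving the dual fibre `C(j,η)` only inside `W(j,z)` acts on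
`W(j,z)` as a scalar (`η z = 0`, and `ker η` contains a vector `a` independent of `z`) -/
theorem scalar_on_fibre (hk : 2 ≤ k) (j : Fin (t + 1)) (z : Fin k → F) (hz : z ≠ 0) (b₀ : GL (Idx (t + 1) k) F)
    (hG : b₀ ∈ Gstd (t + 1) k F) (himg : img b₀ (Wf j z) = Wf j z) (η a : Fin k → F) (ha : η ⬝ᵥ a = 0)
    (hind : LinearIndependent F ![z, a]) (hC : ∀ v ∈ Cf j η, mv b₀ v - v ∈ Wf j z) :
    ∃ d : F, ∀ v ∈ Wf j z, mv b₀ v = d • v := by
  classical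
  obtain ⟨γ, α, -, hval, cc, hcc⟩ := Cfsg.Agent.Lib.Helper22.TWQLeaf.stab_form hk b₀ hG j z z hz hz himg
  obtain ⟨ψ, hψz, hψa⟩ := Cfsg.Agent.Lib.Helper22.TWQLeaf.exists_dot_zero_one hind
  have hmv : ∀ (b : Idx t k → F) (a' : Fin k → F), mv b₀ (tens j b a') =
      tens j ((γ : Matrix (Idx t k) (Idx t k) F) *ᵥ b) ((α : Matrix (Fin k) (Fin k) F) *ᵥ a') := by
    intro b a'
    unfold mv
    rw [hval, ← Matrix.mulVec_mulVec, slot_mulVec_tens, ext_mulVec_tens]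
  obtain ⟨s, hs⟩ : ∃ s : F, s = ψ ⬝ᵥ ((α : Matrix (Fin k) (Fin k) F) *ᵥ a) := ⟨_, rfl⟩
  have hγ : ∀ b : Idx t k → F, s • ((γ : Matrix (Idx t k) (Idx t k) F) *ᵥ b) = b := by
    intro b
    have hmem : tens j b a ∈ Cf j η := by
      rw [mem_Cf_iff_ctr, ctr_tens, ha, zero_smul]
    obtain ⟨b', hb'⟩ := (mem_Wf_iff_tens j z hz _).1 (hC _ hmem)
    rw [hmv] at hb'
    have h2 := congrArg (ctr j ψ) hb'
    rw [Cfsg.Agent.Lib.Helper22.TWQLeaf.ctr_sub, ctr_tens, ctr_tens, ctr_tens, hψz, hψa, zero_smul, one_smul,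
      ← hs] at h2
    exact sub_eq_zero.1 h2
  have hk0 : 0 < k := by omega
  have hs0 : s ≠ 0 := by
    rintro rfl
    have h1 := congrFun (hγ (fun _ => 1)) (fun _ => ⟨0, hk0⟩)
    simp at h1
  refine ⟨s⁻¹ * cc, ?_⟩
  intro v hv
  obtain ⟨b, rfl⟩ := (mem_Wf_iff_tens j z hz v).1 hv
  have hγb : (γ : Matrix (Idx t k) (Idx t k) F) *ᵥ b = s⁻¹ • b := by
    conv_rhs => rw [← hγ b]
    rw [smul_smul, inv_mul_cancel₀ hs0, one_smul]
  rw [hmv, hcc, hγb, Cfsg.Agent.Lib.Helper22.TWQLeaf.tens_smul_right]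
  funext x
  simp only [tens, Pi.smul_apply, smul_eq_mul]
  ring

/-- the standard hermitian form is nondegenerate in the weak form needed here: `hv a z = 0` for all `a` forces `z = 0`
is NOT needed; we only need a vector of `ker (dag q z)` independent of `z` when `k ≥ 3` -/
theorem exists_ker_indep (hk : 3 ≤ k) (z η : Fin k → F) (hz : z ≠ 0) (hη : η ≠ 0) (hηz : η ⬝ᵥ z = 0) :
    ∃ a : Fin k → F, η ⬝ᵥ a = 0 ∧ LinearIndependent F ![z, a] := by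
  classical
  have hfr : Module.finrank F (kerF η) = k - 1 := Cfsg.Agent.Lib.Helper26.TWLeaf.finrank_kerF η hη
  have hzk : z ∈ kerF η := hηz
  by_contra hcon
  push Not at hcon
  have hle : kerF η ≤ (F ∙ z) := by
    intro a ha
    by_contra hna
    apply hcon a ha
    rw [LinearIndependent.pair_iff]
    intro s u hsu
    by_cases hu : u = 0
    · subst hu
      rw [zero_smul, add_zero] at hsu
      rcases smul_eq_zero.1 hsu with h | h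
      · exact ⟨h, rfl⟩
      · exact absurd h hz
    · exfalso
      apply hna
      rw [Submodule.mem_span_singleton]
      refine ⟨-(u⁻¹ * s), ?_⟩
      have h1 : u • a = -(s • z) := by
        rw [eq_neg_iff_add_eq_zero, add_comm]; exact hsu
      have h2 : a = u⁻¹ • (u • a) := by rw [smul_smul, inv_mul_cancel₀ hu, one_smul]
      rw [h2, h1, smul_neg, smul_smul, neg_smul]
  have h1 := Submodule.finrank_mono hle
  rw [hfr, finrank_span_singleton hz] at h1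
  omega

/-- I8-α -/
theorem I8_alpha {X : Subgroup (GL (Idx t k) F)} (c : CtxU q X) (hk3 : k = 3) (g : GL (Idx t k) F) (r₂ : RD t k F) (j : Fin t)
    (z : Fin k → F) (M : MaxCfgU q X g r₂ j z) (x : GL (Idx t k) F)
    (K : KeyU c.hF g (urd q j z M.hz M.hzi) r₂ x (urd q j z M.hz M.hzi)) : False := by
  classical
  obtain ⟨t', rfl⟩ : ∃ t', t = t' + 1 := ⟨t - 1, by have := c.ht; omega⟩
  have hk2 : 2 ≤ k := by omega
  have hF := c.hF
  obtain ⟨r₁, hr₁def⟩ : ∃ r₁ : RD (t' + 1) k F, r₁ = urd q j z M.hz M.hzi := ⟨_, rfl⟩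
  rw [← hr₁def] at K
  have hr₁ : RU q r₁ := by rw [hr₁def]; exact urd_RU q j z M.hz M.hzi
  have hW₁ : r₁.W = Wf j z := by rw [hr₁def]; rfl
  have hC₁ : r₁.C = Cf j (dag q z) := by rw [hr₁def]; rfl
  have hWC₁ : r₁.W ≤ r₁.C := Cfsg.Agent.Lib.Helper16.TWLeaf.RD_W_le_C r₁
  have hWC' : img g r₂.W ≤ img g r₂.C :=
    (Cfsg.Agent.Lib.Helper16.TWLeaf.img_le_img_iff g _ _).2 (Cfsg.Agent.Lib.Helper16.TWLeaf.RD_W_le_C r₂)
  -- `L = L₀`
  obtain ⟨hL, -⟩ := Cfsg.Agent.Lib.Helper28.TWULeaf.L_eq_L0 c g r₂ j z M r₁ r₁ hr₁ x (by rw [hr₁def]; rfl)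
    (by rw [hr₁def]; exact M.hzi) K
  rw [← hW₁] at hL
  -- the K-lemma: `W₁ ⊓ C' ≤ W'`
  have hKl : r₁.W ⊓ img g r₂.C ≤ img g r₂.W := by
    intro v hv
    have hfix := K.hx2 v ⟨hWC₁ hv.1, hv.2⟩
    rw [← K.hW, Cfsg.Agent.Lib.Helper16.TWLeaf.mem_img_iff]
    have : mv x⁻¹ v = v := by
      have h1 : mv x⁻¹ (mv x v) = v := by
        rw [← Cfsg.Agent.Lib.Helper16.TWLeaf.mv_mul, inv_mul_cancel]
        unfold mv
        rw [Units.val_one, Matrix.one_mulVec]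
      rw [hfix] at h1
      exact h1
    rw [this]
    exact hv.1
  -- the scalar `ν`
  have hq3 : 3 ≤ q := by
    have h2 := Cfsg.Agent.Lib.Helper23.TWUQ.two_le_q hF
    have hex := c.hex
    by_contra hlt
    exact hex ⟨by omega, hk3⟩
  obtain ⟨ν, hνq, hν0, hν1⟩ := Cfsg.Agent.Lib.Helper23.TWUQ.exists_fixed hF hq3
  -- `b₀`
  obtain ⟨b₀, hb₀mem, hb₀fix, hb₀W⟩ := Cfsg.Agent.Lib.Helper5.TWULeaf.b0U c g r₁ r₂ hr₁ M.hr₂ x K
    (r₁.W ⊓ img g r₂.W) le_rfl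
    (by
      intro v hv
      refine ⟨hv.1, hKl ⟨hv.1, ?_⟩⟩
      exact (sup_le hWC' inf_le_right : img g r₂.W ⊔ (r₁.C ⊓ img g r₂.C) ≤ img g r₂.C) hv.2)
    ν hν0 hνq
  -- `b₀ ∈ X`
  have hG₀X : ugrp hF r₁ ⊔ conjG g (ugrp hF r₂) ≤ X := by
    apply sup_le
    · rintro a ⟨d, hd, rfl⟩
      exact c.hHX (Cfsg.Agent.Lib.Helper5.TWULeaf.elt_mem_HU hF r₁ hr₁ d hd)
    · intro a ha
      rw [mem_conjG] at ha
      obtain ⟨u, ⟨d, hd, rfl⟩, rfl⟩ := ha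
      exact X.mul_mem (X.mul_mem M.hgX (c.hHX (Cfsg.Agent.Lib.Helper5.TWULeaf.elt_mem_HU hF r₂ M.hr₂ d hd)))
        (X.inv_mem M.hgX)
  have hb₀X : b₀ ∈ X := hG₀X hb₀mem
  -- `b₀` stabilises `W₁`
  have hb₀W₁ : ∀ v ∈ r₁.W, mv b₀ v ∈ r₁.W := by
    intro v hv
    have h1 := hb₀W v hv
    have : mv b₀ v = (mv b₀ v - ν⁻¹ • v) + ν⁻¹ • v := by abel
    rw [this]
    exact Submodule.add_mem _ h1.1 (Submodule.smul_mem _ _ hv)
  have himg : img b₀ r₁.W = r₁.W := by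
    apply Submodule.eq_of_le_of_finrank_le
    · rintro v ⟨w, hw, rfl⟩
      rw [Matrix.toLin'_apply]
      exact hb₀W₁ w hw
    · rw [Cfsg.Agent.Lib.Helper16.TWLeaf.finrank_img]
  rw [hW₁] at himg
  have hb₀G : b₀ ∈ Gstd (t' + 1) k F :=
    c.ns b₀ hb₀X ⟨j, j, z, z, M.hz, M.hz, M.hzi, M.hzi, himg⟩
  -- `b₀` stabilises `C₁`
  have hb₀D : b₀ ∈ DUV (t' + 1) k q F := c.hXD hb₀X
  have hb₀C : ∀ v ∈ r₁.C, mv b₀ v ∈ r₁.C := by
    intro v hv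
    have h1 : img b₀ r₁.C = r₁.C := by
      rw [Cfsg.Agent.Lib.Helper5.TWULeaf.C_eq_perpU hF r₁ hr₁,
        Cfsg.Agent.Lib.Helper5.TWULeaf.img_perpU hF b₀ hb₀D, hW₁, himg]
    rw [← h1]
    exact ⟨v, hv, Matrix.toLin'_apply _ _⟩
  -- `(b₀ - 1) C₁ ≤ W₁`
  have hG0 := Cfsg.Agent.Lib.Helper23.TWLeaf.G0_props g r₁ r₂ b₀
    (Cfsg.Agent.Lib.Helper5.TWULeaf.usup_le hF g r₁ r₂ hb₀mem)
  have hmove : ∀ v ∈ Cf j (dag q z), mv b₀ v - v ∈ Wf j z := by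
    intro v hv
    rw [← hC₁] at hv
    rw [← hW₁]
    obtain ⟨w₁, hw₁, w', hw', hsum⟩ := Submodule.mem_sup.1 (hG0.1 v)
    have hw'C : w' ∈ r₁.C := by
      have : w' = (mv b₀ v - v) - w₁ := by rw [← hsum]; abel
      rw [this]
      exact Submodule.sub_mem _ (Submodule.sub_mem _ (hb₀C v hv) hv) (hWC₁ hw₁)
    have hw'K : w' ∈ r₁.W ⊓ img g r₂.W := by
      rw [← hL]
      exact ⟨hw', hw'C⟩
    rw [← hsum]
    exact Submodule.add_mem _ hw₁ hw'K.1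
  -- `b₀` is a scalar on `W₁`
  have hη : dag q z ≠ 0 := dag_ne_zero M.hz
  have hηz : dag q z ⬝ᵥ z = 0 := by
    rw [← Cfsg.Agent.Lib.Helper20.UT.hv_eq_dot]
    exact M.hzi
  obtain ⟨a, ha, hind⟩ := exists_ker_indep (by omega) z (dag q z) M.hz hη hηz
  obtain ⟨d, hd⟩ := scalar_on_fibre hk2 j z M.hz b₀ hb₀G himg (dag q z) a ha hind hmove
  -- `d = 1`
  obtain ⟨v₀, hv₀K, hv₀0⟩ := Submodule.exists_mem_ne_zero_of_ne_bot M.hne
  rw [← hW₁] at hv₀K hd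
  have hd1 : d = 1 := by
    have h1 := hb₀fix v₀ ⟨hWC₁ hv₀K.1, hWC' hv₀K.2⟩
    rw [hd v₀ hv₀K.1] at h1
    have h2 : (d - 1) • v₀ = 0 := by rw [sub_smul, h1, one_smul, sub_self]
    rcases smul_eq_zero.1 h2 with h | h
    · exact sub_eq_zero.1 h
    · exact absurd h hv₀0
  -- `W₁ ≤ W'`
  have hν1' : (1 : F) - ν⁻¹ ≠ 0 := by
    intro h
    apply hν1
    have : ν⁻¹ = 1 := (sub_eq_zero.1 h).symm
    rw [inv_eq_one] at this
    exact this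
  have hle : r₁.W ≤ img g r₂.W := by
    intro v hv
    have h1 := hb₀W v hv
    rw [hd v hv, hd1, one_smul] at h1
    have h2 : v - ν⁻¹ • v = (1 - ν⁻¹) • v := by rw [sub_smul, one_smul]
    rw [h2] at h1
    have h3 : v = (1 - ν⁻¹)⁻¹ • ((1 - ν⁻¹) • v) := by
      rw [smul_smul, inv_mul_cancel₀ hν1', one_smul]
    rw [h3]
    exact Submodule.smul_mem _ _ h1.2
  -- so `W' = W₁` is an isotropic fibre: `g ∈ G`
  have heq : r₁.W = img g r₂.W := by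
    apply Submodule.eq_of_le_of_finrank_le hle
    rw [Cfsg.Agent.Lib.Helper16.TWLeaf.finrank_img, Cfsg.Agent.Lib.Helper16.TWLeaf.RD_finrank_W,
      Cfsg.Agent.Lib.Helper16.TWLeaf.RD_finrank_W]
  apply M.hgG
  refine c.ns g M.hgX ⟨r₂.i, j, r₂.y, z, r₂.hy, M.hz, M.hr₂.1, M.hzi, ?_⟩
  rw [← hW₁, heq]
  rfl

end Cfsg.Agent.Lib.Helper8.TWULeaf
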