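import Mathlib
import Cfsg.Agent.Lib.Helper8.ThTwoC
import Cfsg.Agent.Lib.Helper12.HHLite

/-!
# Thompson's normal `p`-complement theorem, abelian version, for `p` odd or `S₄`-free groups (helper8 library)
-/

set_option autoImplicit false
open Subgroup
open scoped Pointwise commutatorElement

namespace Cfsg.Agent.Lib.Helper8.ThTwo

open Cfsg.Agent.Lib.Helper12 Cfsg.Agent.Lib.Helper27 Cfsg.Agent.Lib.Helper8.ThPair

universe u

/-- Thompson's theorem in the final configuration, `p = 2`, `S₄`-free. -/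
theorem hmin_two {Y : Type u} [Group Y] [Finite Y] (hS4 : ¬ Cfsg.Involves (Equiv.Perm (Fin 4)) Y)
    (hD : Cfsg.pPrimeCore 2 Y = ⊥)
    (hc : Subgroup.centralizer ((Cfsg.pCore 2 Y : Subgroup Y) : Set Y) ≤ Cfsg.pCore 2 Y)
    (hq : Cfsg.HasNormalPComplement 2 (Y ⧸ Cfsg.pCore 2 Y))
    (T : Sylow 2 Y) (hT : IsCoatom (T : Subgroup Y)) (hPH : PH 2 jA zF Y (T : Subgroup Y)) :
    Cfsg.HasNormalPComplement 2 Y := by
  have hBp : IsPGroup 2 (Cfsg.pCore 2 Y) := pCore_isPGroup' 2
  have hBT : Cfsg.pCore 2 Y ≤ (T : Subgroup Y) :=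
    Cfsg.Agent.Lib.Helper24.normal_pgroup_le_sylow (Cfsg.pCore 2 Y) hBp T
  obtain ⟨h1, h2⟩ := hPH
  rw [inducedFunctor_jA, thompsonSubgroupAOf_eq] at h1
  rw [inducedFunctor_zF] at h2
  by_cases hall : ∀ A ∈ maxIn AbSub (T : Subgroup Y), A ≤ Cfsg.pCore 2 Y
  · have hmax : maxIn AbSub (Cfsg.pCore 2 Y) = maxIn AbSub (T : Subgroup Y) :=
      maxIn_eq_of_forall_le goodClass_abSub hall hBT
    have hJ : jSub AbSub (Cfsg.pCore 2 Y) = jSub AbSub (T : Subgroup Y) := by
      unfold jSub; rw [hmax]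
    apply hasNPC_of_top _ _ h1
    rw [eq_top_iff, ← hJ]
    refine le_trans ?_ (normalizer_le_normalizer_jSub goodClass_abSub _)
    rw [Subgroup.normalizer_eq_top_iff.mpr inferInstance]
  · push Not at hall
    obtain ⟨q, hq', hpq, hsol, hdiv, hab⟩ := exists_prime_structure_of_coatom_sylow hq T hT
    have hqf : Fact q.Prime := ⟨hq'⟩
    obtain ⟨Pb, Nb, hNbn, hcompl⟩ := hq
    have hmk : Function.Surjective (QuotientGroup.mk' (Cfsg.pCore 2 Y)) := QuotientGroup.mk'_surjective _
    have hNbcop : (Nat.card Nb).Coprime 2 := coprime_card_of_isComplement' Pb Nb hcompl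
    have hNbodd : Odd (Nat.card Nb) := Nat.coprime_two_right.mp hNbcop
    -- `Nb` is an abelian `q`-group
    have hNbq : IsPGroup q Nb := by
      have hpos : Nat.card Nb ≠ 0 := Nat.card_pos.ne'
      have := Nat.eq_prime_pow_of_unique_prime_dvd (p := q) hpos (fun {d} hd hdn => by
        have h1 : d ∣ Nat.card Y :=
          (hdn.trans (Subgroup.card_subgroup_dvd_card Nb)).trans (Subgroup.card_quotient_dvd_card _)
        rcases hdiv d hd h1 with h | h
        · exfalso
          rw [h] at hdn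
          have := Nat.Coprime.eq_one_of_dvd hNbcop.symm hdn
          omega
        · exact h)
      exact IsPGroup.of_card this
    have hNbab : ∀ x ∈ Nb, ∀ y ∈ Nb, x * y = y * x :=
      quotient_qSubgroups_comm (Cfsg.pCore 2 Y) hab Nb hNbq
    obtain ⟨M, hM⟩ : ∃ M, M = Nb.comap (QuotientGroup.mk' (Cfsg.pCore 2 Y)) := ⟨_, rfl⟩
    have hMmap : M.map (QuotientGroup.mk' (Cfsg.pCore 2 Y)) = Nb := by
      rw [hM]; exact Subgroup.map_comap_eq_self_of_surjective hmk Nb
    by_cases hMT : M ≤ (T : Subgroup Y)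
    · -- then `Y` is a `2`-group
      have hNbp : IsPGroup 2 Nb := by
        rw [← hMmap]
        exact (T.2.to_le hMT).map _
      have hNbbot : Nb = ⊥ := by
        rcases hNbp.card_eq_or_dvd with h | h
        · exact Subgroup.card_eq_one.mp h
        · exfalso
          have := Nat.Coprime.eq_one_of_dvd hNbcop.symm h
          omega
      rw [hNbbot, Subgroup.isComplement'_bot_left] at hcompl
      apply hasNormalPComplement_of_isPGroup
      intro g
      obtain ⟨a, ha⟩ := Pb.2 ⟨(QuotientGroup.mk' (Cfsg.pCore 2 Y)) g, hcompl ▸ Subgroup.mem_top _⟩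
      have ha' : (QuotientGroup.mk' (Cfsg.pCore 2 Y)) (g ^ 2 ^ a) = 1 := by
        rw [map_pow]
        simpa using congrArg Subtype.val ha
      have hgB : g ^ 2 ^ a ∈ Cfsg.pCore 2 Y := (QuotientGroup.eq_one_iff _).mp ha'
      obtain ⟨b, hb⟩ := hBp ⟨g ^ 2 ^ a, hgB⟩
      refine ⟨a + b, ?_⟩
      have := congrArg Subtype.val hb
      simp only [Subgroup.coe_pow, Subgroup.coe_one] at this
      rw [pow_add, pow_mul]
      exact this
    · exfalso
      apply hS4
      have htop : (T : Subgroup Y) ⊔ M = ⊤ := hT.2 _ (left_lt_sup.mpr hMT)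
      have htop' : (T : Subgroup Y).map (QuotientGroup.mk' (Cfsg.pCore 2 Y)) ⊔ Nb = ⊤ := by
        rw [← hMmap, ← Subgroup.map_sup, htop, Subgroup.map_top_of_surjective _ hmk]
      have hCV := centralizer_omZ_le hD hc T h2
      exact involves_perm4_core (Cfsg.pCore 2 Y) hBp (T : Subgroup Y) T.2 hBT hCV
        (fun N hN hNp => by
          have := hN
          exact eq_bot_of_normal_isPGroup_quotient_pCore N hNp)
        Nb hNbab hNbodd htop' hall

/-- **Thompson's normal `2`-complement theorem** for `S₄`-free groups (abelian version of `J`). -/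
theorem thompson_pair_two {G : Type u} [Group G] [Finite G] (S : Sylow 2 G)
    (hS4 : ¬ Cfsg.Involves (Equiv.Perm (Fin 4)) G)
    (hC : Cfsg.HasNormalPComplement 2 ↥(Subgroup.centralizer
      (((S : Subgroup G) ⊓ Subgroup.centralizer ((S : Subgroup G) : Set G) : Subgroup G) : Set G)))
    (hN : Cfsg.HasNormalPComplement 2
      ↥(Subgroup.normalizer ((Cfsg.thompsonSubgroupAOf (S : Subgroup G)) : Set G))) :
    Cfsg.HasNormalPComplement 2 G := by
  have := hasNormalPComplement_of_minimal_pair (p := 2) jA zF (isCharPFunctor_jA 2) (isCharPFunctor_zF 2)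
    (fun Y _ => ¬ Cfsg.Involves (Equiv.Perm (Fin 4)) Y)
    (fun Y _ H hY hH => hY (involves_of_injective H.subtype (Subgroup.subtype_injective H) hH))
    (fun Y _ N _ hY hQ => hY (involves_of_quotient N hQ))
    (fun Y _ _ hY hD hc hq T hT hPH => hmin_two hY hD hc hq T hT hPH) (Nat.card G) G rfl hS4 S
  apply this
  refine ⟨?_, ?_⟩
  · rw [inducedFunctor_jA]; exact hN
  · rw [inducedFunctor_zF]; exact hC

/-- **Thompson's normal `p`-complement theorem**, abelian version: `p` odd or `G` is `S₄`-free. -/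
theorem thompson_pair_A {G : Type u} [Group G] [Finite G] {p : ℕ} [Fact p.Prime] (S : Sylow p G)
    (h : p ≠ 2 ∨ ¬ Cfsg.Involves (Equiv.Perm (Fin 4)) G)
    (hC : Cfsg.HasNormalPComplement p ↥(Subgroup.centralizer
      (((S : Subgroup G) ⊓ Subgroup.centralizer ((S : Subgroup G) : Set G) : Subgroup G) : Set G)))
    (hN : Cfsg.HasNormalPComplement p
      ↥(Subgroup.normalizer ((Cfsg.thompsonSubgroupAOf (S : Subgroup G)) : Set G))) :
    Cfsg.HasNormalPComplement p G := by
  by_cases hp : p = 2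
  · subst hp
    rcases h with h | h
    · exact absurd rfl h
    · exact thompson_pair_two S h hC hN
  · exact thompson_pair_odd_A hp S hC hN

end Cfsg.Agent.Lib.Helper8.ThTwo
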