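import Mathlib
import Cfsg.Agent.Lib.Helper8.ThTwoE
import Cfsg.Agent.Lib.Helper8.ThPairOdd
import Cfsg.Agent.Lib.Helper12.HallHigman
import Cfsg.Agent.Lib.Helper25.PSolvableOfSolvable
import Cfsg.Agent.Lib.Helper9.PComponent
import Cfsg.Agent.Lib.Helper4.QuotPPrime
import Cfsg.Agent.S0044

/-!
# Solvable `S₄`-free groups with Sylow `2`-subgroups of class at most two (helper8 library)

`G = N_G(J_e(S)) O_{2'}(G)`.
-/

set_option autoImplicit false
open Subgroup
open scoped Pointwise commutatorElement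

namespace Cfsg.Agent.Lib.Helper8.ThTwo

open Cfsg.Agent.Lib.Helper12 Cfsg.Agent.Lib.Helper27 Cfsg.Agent.Lib.Helper8.ThPair

universe u

/-- in a finite solvable group with `O₂ = 1` the Fitting subgroup has odd order and no nontrivial `2`-element
centralizes it -/
theorem exists_odd_faithful {X : Type*} [Group X] [Finite X] [Group.IsSolvable X]
    (hO2 : ∀ N : Subgroup X, N.Normal → IsPGroup 2 N → N = ⊥) :
    ∃ Q : Subgroup X, Q.Normal ∧ Odd (Nat.card Q) ∧
      ∀ a : X, (∃ k : ℕ, a ^ 2 ^ k = 1) → (∀ x ∈ Q, a * x * a⁻¹ = x) → a = 1 := by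
  have h2f : Fact (Nat.Prime 2) := ⟨Nat.prime_two⟩
  have hFn : (Cfsg.fittingSubgroup X).Normal := Cfsg.Agent.Lib.Helper1.fittingSubgroup_normal X
  have hodd : Odd (Nat.card (Cfsg.fittingSubgroup X)) := by
    have hnil : Group.IsNilpotent (Cfsg.fittingSubgroup X) :=
      Cfsg.Agent.Lib.Helper1.fittingSubgroup_isNilpotent X
    obtain ⟨P⟩ : Nonempty (Sylow 2 (Cfsg.fittingSubgroup X)) := inferInstance
    have hPn : (P : Subgroup (Cfsg.fittingSubgroup X)).Normal := inferInstance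
    have hPc : (P : Subgroup (Cfsg.fittingSubgroup X)).Characteristic := Sylow.characteristic_of_normal P hPn
    have hN : ((P : Subgroup (Cfsg.fittingSubgroup X)).map (Cfsg.fittingSubgroup X).subtype).Normal :=
      ConjAct.normal_of_characteristic_of_normal
    have hbot := hO2 _ hN (P.2.map _)
    have hPbot : (P : Subgroup (Cfsg.fittingSubgroup X)) = ⊥ := by
      rw [Subgroup.map_eq_bot_iff, Subgroup.ker_subtype] at hbot
      exact le_bot_iff.mp hbot
    have hndvd : ¬ 2 ∣ Nat.card (Cfsg.fittingSubgroup X) := by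
      intro h
      have := P.dvd_card_of_dvd_card h
      rw [hPbot, Subgroup.card_bot] at this
      omega
    exact Nat.odd_iff.mpr (Nat.two_dvd_ne_zero.mp hndvd)
  refine ⟨Cfsg.fittingSubgroup X, hFn, hodd, ?_⟩
  rintro a ⟨k, hk⟩ hcent
  have haC : a ∈ Subgroup.centralizer (Cfsg.fittingSubgroup X : Set X) := by
    refine Subgroup.mem_centralizer_iff.mpr ?_
    intro x hx
    calc x * a = (a * x * a⁻¹) * a := by rw [hcent x hx]
      _ = a * x := by group
  have haF : a ∈ Cfsg.fittingSubgroup X := Cfsg.Agent.S0044.result haC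
  have h1 : a ^ Nat.card (Cfsg.fittingSubgroup X) = 1 := by
    have h0 : (⟨a, haF⟩ : Cfsg.fittingSubgroup X) ^ Nat.card (Cfsg.fittingSubgroup X) = 1 := pow_card_eq_one'
    have h00 := congrArg Subtype.val h0
    rw [Subgroup.coe_pow, Subgroup.coe_one] at h00
    exact h00
  have := pow_gcd_eq_one.mpr ⟨hk, h1⟩
  have hcop : Nat.Coprime (2 ^ k) (Nat.card (Cfsg.fittingSubgroup X)) :=
    Nat.Coprime.pow_left k (Nat.coprime_two_left.mpr hodd)
  rwa [hcop.gcd_eq_one, pow_one] at this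

section cenMod
variable {G : Type u} [Group G]

/-- `C_G(B / Z(B))` for a normal subgroup `B`: the elements whose commutators with `B` centralize `B` -/
def cenMod (B : Subgroup G) [hB : B.Normal] : Subgroup G where
  carrier := {g | ∀ b ∈ B, g * b * g⁻¹ * b⁻¹ ∈ Subgroup.centralizer (B : Set G)}
  one_mem' := fun b _ => by
    have : (1 : G) * b * 1⁻¹ * b⁻¹ = 1 := by group
    rw [this]; exact Subgroup.one_mem _
  mul_mem' := by
    intro g h hg hh b hb
    have hCn : (Subgroup.centralizer (B : Set G)).Normal := Subgroup.normal_centralizer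
    have e : (g * h) * b * (g * h)⁻¹ * b⁻¹ = (g * (h * b * h⁻¹ * b⁻¹) * g⁻¹) * (g * b * g⁻¹ * b⁻¹) := by group
    rw [e]
    exact Subgroup.mul_mem _ (hCn.conj_mem _ (hh b hb) g) (hg b hb)
  inv_mem' := by
    intro g hg b hb
    have hCn : (Subgroup.centralizer (B : Set G)).Normal := Subgroup.normal_centralizer
    have e : g⁻¹ * b * g⁻¹⁻¹ * b⁻¹ = g⁻¹ * (g * b * g⁻¹ * b⁻¹)⁻¹ * g⁻¹⁻¹ := by group
    rw [e]
    exact hCn.conj_mem _ (Subgroup.inv_mem _ (hg b hb)) g⁻¹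

theorem mem_cenMod {B : Subgroup G} [hB : B.Normal] {g : G} :
    g ∈ cenMod B ↔ ∀ b ∈ B, g * b * g⁻¹ * b⁻¹ ∈ Subgroup.centralizer (B : Set G) := Iff.rfl

theorem cenMod_normal (B : Subgroup G) [hB : B.Normal] : (cenMod B).Normal := by
  have hCn : (Subgroup.centralizer (B : Set G)).Normal := Subgroup.normal_centralizer
  constructor
  intro g hg x b hb
  have hb' : x⁻¹ * b * x ∈ B := by simpa using hB.conj_mem b hb x⁻¹
  have e : (x * g * x⁻¹) * b * (x * g * x⁻¹)⁻¹ * b⁻¹ =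
      x * (g * (x⁻¹ * b * x) * g⁻¹ * (x⁻¹ * b * x)⁻¹) * x⁻¹ := by group
  rw [e]
  exact hCn.conj_mem _ (hg _ hb') x

theorem pow_conj_eq {y b c : G} (hyc : y * c * y⁻¹ = c) (hyb : y * b * y⁻¹ = c * b) (i : ℕ) :
    y ^ i * b * (y ^ i)⁻¹ = c ^ i * b := by
  induction i with
  | zero => simp
  | succ i ihi =>
    have h1 : y ^ (i + 1) * b * (y ^ (i + 1))⁻¹ = y * (y ^ i * b * (y ^ i)⁻¹) * y⁻¹ := by
      rw [pow_succ']; group
    have hyci : y * c ^ i * y⁻¹ = c ^ i := by rw [← conj_pow, hyc]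
    rw [h1, ihi]
    calc y * (c ^ i * b) * y⁻¹ = (y * c ^ i * y⁻¹) * (y * b * y⁻¹) := by group
      _ = c ^ i * (c * b) := by rw [hyci, hyb]
      _ = c ^ (i + 1) * b := by rw [pow_succ, mul_assoc]

/-- `C_L(Ω₁(Z(O_p(G)))) ≤ O_p(G)` for `L = C_G(O_p(G)/Z(O_p(G)))` when `C_G(O_p(G)) ≤ O_p(G)` -/
theorem cenMod_inf_centralizer_omZ_le [Finite G] {p : ℕ} [Fact p.Prime] [hBn : (Cfsg.pCore p G).Normal]
    (hc : Subgroup.centralizer ((Cfsg.pCore p G : Subgroup G) : Set G) ≤ Cfsg.pCore p G) :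
    cenMod (Cfsg.pCore p G) ⊓ Subgroup.centralizer (omZ p (Cfsg.pCore p G) : Set G) ≤ Cfsg.pCore p G := by
  have hBp : IsPGroup p (Cfsg.pCore p G) := pCore_isPGroup' p
  have hLn : (cenMod (Cfsg.pCore p G)).Normal := cenMod_normal _
  have hVn : (omZ p (Cfsg.pCore p G)).Normal := omZ_normal p _
  have hCvn : (Subgroup.centralizer (omZ p (Cfsg.pCore p G) : Set G)).Normal := Subgroup.normal_centralizer
  have hn : (cenMod (Cfsg.pCore p G) ⊓ Subgroup.centralizer (omZ p (Cfsg.pCore p G) : Set G)).Normal :=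
    Subgroup.normal_inf_normal _ _
  obtain ⟨Z, hZ⟩ : ∃ Z, Z = Cfsg.pCore p G ⊓ Subgroup.centralizer ((Cfsg.pCore p G : Subgroup G) : Set G) :=
    ⟨_, rfl⟩
  have hZn : Z.Normal := by
    rw [hZ]
    have : (Subgroup.centralizer ((Cfsg.pCore p G : Subgroup G) : Set G)).Normal := Subgroup.normal_centralizer
    exact Subgroup.normal_inf_normal _ _
  have hZab : AbSub Z := by
    intro x hx y hy
    rw [hZ] at hx hy
    exact ((Subgroup.mem_centralizer_iff.mp hx.2) y hy.1).symm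
  have hZp : IsPGroup p Z := hBp.to_le (by rw [hZ]; exact inf_le_left)
  apply le_pCore' p _ hn
  intro y
  obtain ⟨z, y', hz, hy', hyzy', ⟨a, hza⟩, m, hm, hy'm⟩ := exists_pPart_decomposition (y : G) p
  have hy'mem : y' ∈ cenMod (Cfsg.pCore p G) ⊓ Subgroup.centralizer (omZ p (Cfsg.pCore p G) : Set G) := by
    have : Subgroup.zpowers (y : G) ≤
        cenMod (Cfsg.pCore p G) ⊓ Subgroup.centralizer (omZ p (Cfsg.pCore p G) : Set G) := by
      rw [Subgroup.zpowers_le]; exact y.2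
    exact this hy'
  have hy'ord : (orderOf y').Coprime p :=
    Nat.Coprime.coprime_dvd_left (orderOf_dvd_of_pow_eq_one hy'm) hm
  -- `y'` centralizes `Z`
  have hy'Z : ∀ x ∈ Z, y' * x * y'⁻¹ = x := by
    intro x hx
    obtain ⟨k, hk⟩ := hZp ⟨x, hx⟩
    have hk' : x ^ p ^ k = 1 := by simpa using congrArg Subtype.val hk
    exact conj_eq_of_conj_omega_eq Z hZab y' (fun w hw => hZn.conj_mem w hw y') hy'ord
      (fun w hw hwp => by
        have hwV : w ∈ omZ p (Cfsg.pCore p G) := by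
          rw [hZ] at hw
          exact ⟨hw.1, hw.2, hwp⟩
        have := (Subgroup.mem_centralizer_iff.mp hy'mem.2) w hwV
        calc y' * w * y'⁻¹ = (w * y') * y'⁻¹ := by rw [this]
          _ = w := by group) k x hx hk'
  -- `y'` centralizes `B`
  have hy'B : y' ∈ Subgroup.centralizer ((Cfsg.pCore p G : Subgroup G) : Set G) := by
    refine Subgroup.mem_centralizer_iff.mpr ?_
    intro b hb
    obtain ⟨c, hc'⟩ : ∃ c, c = y' * b * y'⁻¹ * b⁻¹ := ⟨_, rfl⟩
    have hcC : c ∈ Subgroup.centralizer ((Cfsg.pCore p G : Subgroup G) : Set G) := by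
      rw [hc']; exact hy'mem.1 b hb
    have hcB : c ∈ Cfsg.pCore p G := by
      rw [hc']; exact Subgroup.mul_mem _ (hBn.conj_mem b hb y') (Subgroup.inv_mem _ hb)
    have hcZ : c ∈ Z := by rw [hZ]; exact ⟨hcB, hcC⟩
    have hyc : y' * c * y'⁻¹ = c := hy'Z c hcZ
    have hyb : y' * b * y'⁻¹ = c * b := by rw [hc']; group
    have hm' := pow_conj_eq hyc hyb (orderOf y')
    rw [pow_orderOf_eq_one, one_mul, inv_one, mul_one] at hm'
    have hcm : c ^ orderOf y' = 1 := by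
      have : c ^ orderOf y' * b = 1 * b := by rw [one_mul]; exact hm'.symm
      exact mul_right_cancel this
    obtain ⟨k, hk⟩ := hZp ⟨c, hcZ⟩
    have hk' : c ^ p ^ k = 1 := by simpa using congrArg Subtype.val hk
    have hc1 : c = 1 := by
      have := pow_gcd_eq_one.mpr ⟨hcm, hk'⟩
      rwa [(Nat.Coprime.pow_right k hy'ord).gcd_eq_one, pow_one] at this
    rw [hc1, one_mul] at hyb
    calc b * y' = (y' * b * y'⁻¹) * y' := by rw [hyb]
      _ = y' * b := by group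
  obtain ⟨b, hb⟩ := hBp ⟨y', hc hy'B⟩
  have hb' : y' ^ p ^ b = 1 := by simpa using congrArg Subtype.val hb
  have hy'1 : y' = 1 := by
    have := pow_gcd_eq_one.mpr ⟨hy'm, hb'⟩
    rwa [(Nat.Coprime.pow_right b hm).gcd_eq_one, pow_one] at this
  refine ⟨a, ?_⟩
  apply Subtype.ext
  rw [hy'1, mul_one] at hyzy'
  simp only [Subgroup.coe_pow, Subgroup.coe_one]
  rw [hyzy']
  exact hza

/-- `O_p(L / O_p(G)) = 1` for a normal subgroup `L` containing `O_p(G)` -/
theorem eq_bot_of_normal_isPGroup_quotient_subgroupOf [Finite G] {p : ℕ} [Fact p.Prime] (L : Subgroup G)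
    [hLn : L.Normal] [hBn' : ((Cfsg.pCore p G).subgroupOf L).Normal]
    (N : Subgroup (↥L ⧸ (Cfsg.pCore p G).subgroupOf L)) (hN : N.Normal) (hNp : IsPGroup p N) : N = ⊥ := by
  have hker : IsPGroup p (QuotientGroup.mk' ((Cfsg.pCore p G).subgroupOf L)).ker := by
    rw [QuotientGroup.ker_mk']
    exact (pCore_isPGroup' p).comap_of_injective _ (Subgroup.subtype_injective _)
  have h1 : IsPGroup p (N.comap (QuotientGroup.mk' ((Cfsg.pCore p G).subgroupOf L))) :=
    hNp.comap_of_ker_isPGroup _ hker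
  have h2 : N.comap (QuotientGroup.mk' ((Cfsg.pCore p G).subgroupOf L)) ≤ Cfsg.pCore p ↥L :=
    le_pCore' p _ (hN.comap _) h1
  have hchar : (Cfsg.pCore p ↥L).Characteristic := pCore_characteristic' p
  have hnorm : ((Cfsg.pCore p ↥L).map L.subtype).Normal := ConjAct.normal_of_characteristic_of_normal
  have h3 : (Cfsg.pCore p ↥L).map L.subtype ≤ Cfsg.pCore p G :=
    le_pCore' p _ hnorm ((pCore_isPGroup' p).map _)
  rw [eq_bot_iff]
  intro x hx
  obtain ⟨y, rfl⟩ := QuotientGroup.mk'_surjective ((Cfsg.pCore p G).subgroupOf L) x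
  rw [Subgroup.mem_bot]
  apply (QuotientGroup.eq_one_iff y).mpr
  rw [Subgroup.mem_subgroupOf]
  apply h3
  exact ⟨y, h2 hx, rfl⟩

end cenMod

section transport
variable {G : Type u} [Group G]

theorem omZ_subgroupOf (p : ℕ) (B L : Subgroup G) (hBL : B ≤ L) :
    omZ p (B.subgroupOf L) = (omZ p B).subgroupOf L := by
  ext x
  rw [mem_omZ, Subgroup.mem_subgroupOf, Subgroup.mem_subgroupOf, mem_omZ]
  constructor
  · rintro ⟨h1, h2, h3⟩
    refine ⟨h1, ?_, ?_⟩
    · refine Subgroup.mem_centralizer_iff.mpr ?_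
      intro b hb
      have := (Subgroup.mem_centralizer_iff.mp h2) ⟨b, hBL hb⟩ (Subgroup.mem_subgroupOf.mpr hb)
      exact congrArg Subtype.val this
    · have := congrArg Subtype.val h3
      rw [Subgroup.coe_pow, Subgroup.coe_one] at this
      exact this
  · rintro ⟨h1, h2, h3⟩
    refine ⟨h1, ?_, ?_⟩
    · refine Subgroup.mem_centralizer_iff.mpr ?_
      intro b hb
      apply Subtype.ext
      exact (Subgroup.mem_centralizer_iff.mp h2) b.1 (Subgroup.mem_subgroupOf.mp hb)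
    · apply Subtype.ext
      rw [Subgroup.coe_pow, Subgroup.coe_one]
      exact h3

/-- the offender inequality for a largest elementary abelian subgroup -/
theorem offender_ineq_ea [Finite G] (p : ℕ) (T : Subgroup G) (A : Subgroup G)
    (hA : A ∈ maxIn (Cfsg.IsElementaryAbelian p) T) (B : Subgroup G) (hBT : B ≤ T) :
    Nat.card (A ⊓ B : Subgroup G) * Nat.card (omZ p B) ≤ Nat.card A * Nat.card (A ⊓ omZ p B : Subgroup G) := by
  have hVea : Cfsg.IsElementaryAbelian p (omZ p B) :=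
    Cfsg.Agent.Lib.Helper4.elemAb_of_comm (omZ_abSub p B) (fun v hv => hv.2.2)
  have hea : Cfsg.IsElementaryAbelian p ((A ⊓ B) ⊔ omZ p B) := by
    apply Cfsg.Agent.Lib.Helper4.elemAb_sup (Cfsg.Agent.Lib.Helper4.elemAb_mono inf_le_left hA.2.1) hVea
    intro a ha v hv
    exact (Subgroup.mem_centralizer_iff.mp hv.2.1) a ha.2
  have hle : (A ⊓ B) ⊔ omZ p B ≤ T := sup_le (inf_le_left.trans hA.1) ((omZ_le p B).trans hBT)
  have h3 := hA.2.2 _ hle hea
  have h4 := card_mul_card_le (A ⊓ B) (omZ p B) ((A ⊓ B) ⊔ omZ p B) le_sup_left le_sup_right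
  have h5 : (A ⊓ B) ⊓ omZ p B = A ⊓ omZ p B := by
    rw [inf_assoc, inf_eq_right.mpr (omZ_le p B)]
  rw [h5] at h4
  calc Nat.card (A ⊓ B : Subgroup G) * Nat.card (omZ p B)
      ≤ Nat.card ((A ⊓ B) ⊔ omZ p B : Subgroup G) * Nat.card (A ⊓ omZ p B : Subgroup G) := h4
    _ ≤ Nat.card A * Nat.card (A ⊓ omZ p B : Subgroup G) := Nat.mul_le_mul_right _ h3

/-- the `S₄`-section from an elementary abelian offender inside a normal subgroup `L` of a solvable group with
`C_L(Ω₁(Z(O₂(G)))) ≤ O₂(G)` -/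
theorem involves_perm4_of_offender_in [Finite G] [Group.IsSolvable G] (L : Subgroup G) [hLn : L.Normal]
    (hBL : Cfsg.pCore 2 G ≤ L)
    (hCV : L ⊓ Subgroup.centralizer (omZ 2 (Cfsg.pCore 2 G) : Set G) ≤ Cfsg.pCore 2 G)
    (A : Subgroup G) (hAL : A ≤ L) (hAea : Cfsg.IsElementaryAbelian 2 A) (hAB : ¬ A ≤ Cfsg.pCore 2 G)
    (hoff : Nat.card (A ⊓ Cfsg.pCore 2 G : Subgroup G) * Nat.card (omZ 2 (Cfsg.pCore 2 G)) ≤
      Nat.card A * Nat.card (A ⊓ omZ 2 (Cfsg.pCore 2 G) : Subgroup G)) :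
    Cfsg.Involves (Equiv.Perm (Fin 4)) G := by
  have h2f : Fact (Nat.Prime 2) := ⟨Nat.prime_two⟩
  have hBn : (Cfsg.pCore 2 G).Normal := Cfsg.Agent.Lib.Helper1.pCore_normal 2 G
  have hBp : IsPGroup 2 (Cfsg.pCore 2 G) := pCore_isPGroup' 2
  have hBn' : ((Cfsg.pCore 2 G).subgroupOf L).Normal := hBn.subgroupOf L
  have hBp' : IsPGroup 2 ((Cfsg.pCore 2 G).subgroupOf L) :=
    hBp.comap_of_injective _ (Subgroup.subtype_injective _)
  have homZ := omZ_subgroupOf 2 (Cfsg.pCore 2 G) L hBL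
  have hCV' : Subgroup.centralizer (omZ 2 ((Cfsg.pCore 2 G).subgroupOf L) : Set ↥L) ≤
      (Cfsg.pCore 2 G).subgroupOf L := by
    intro y hy
    rw [Subgroup.mem_subgroupOf]
    apply hCV
    refine ⟨y.2, Subgroup.mem_centralizer_iff.mpr ?_⟩
    intro v hv
    have hvL : v ∈ L := hBL (omZ_le 2 _ hv)
    have hv' : (⟨v, hvL⟩ : ↥L) ∈ omZ 2 ((Cfsg.pCore 2 G).subgroupOf L) := by
      rw [homZ, Subgroup.mem_subgroupOf]; exact hv
    exact congrArg Subtype.val ((Subgroup.mem_centralizer_iff.mp hy) _ hv')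
  have hAab' : AbSub (A.subgroupOf L) := by
    intro x hx y hy
    apply Subtype.ext
    exact Cfsg.Agent.Lib.Helper4.elemAb_comm hAea x.1 (Subgroup.mem_subgroupOf.mp hx) y.1
      (Subgroup.mem_subgroupOf.mp hy)
  have hA2' : ∀ a ∈ A.subgroupOf L, a ^ 2 ∈ (Cfsg.pCore 2 G).subgroupOf L := by
    intro a ha
    rw [Subgroup.mem_subgroupOf, Subgroup.coe_pow, hAea.2 a.1 (Subgroup.mem_subgroupOf.mp ha)]
    exact Subgroup.one_mem _
  have hAB' : ¬ A.subgroupOf L ≤ (Cfsg.pCore 2 G).subgroupOf L := by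
    intro h
    apply hAB
    intro a ha
    have : (⟨a, hAL ha⟩ : ↥L) ∈ (Cfsg.pCore 2 G).subgroupOf L := h (Subgroup.mem_subgroupOf.mpr ha)
    exact Subgroup.mem_subgroupOf.mp this
  have hoff' : Nat.card (A.subgroupOf L ⊓ (Cfsg.pCore 2 G).subgroupOf L : Subgroup ↥L) *
      Nat.card ↥(omZ 2 ((Cfsg.pCore 2 G).subgroupOf L)) ≤
      Nat.card (A.subgroupOf L) *
        Nat.card (A.subgroupOf L ⊓ omZ 2 ((Cfsg.pCore 2 G).subgroupOf L) : Subgroup ↥L) := by
    have e1 : A.subgroupOf L ⊓ (Cfsg.pCore 2 G).subgroupOf L = (A ⊓ Cfsg.pCore 2 G).subgroupOf L :=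
      (Subgroup.comap_inf A (Cfsg.pCore 2 G) L.subtype).symm
    have e2 : A.subgroupOf L ⊓ omZ 2 ((Cfsg.pCore 2 G).subgroupOf L) =
        (A ⊓ omZ 2 (Cfsg.pCore 2 G)).subgroupOf L := by
      rw [homZ]
      exact (Subgroup.comap_inf A (omZ 2 (Cfsg.pCore 2 G)) L.subtype).symm
    rw [e1, e2, homZ, card_subgroupOf_le (inf_le_left.trans hAL), card_subgroupOf_le (inf_le_left.trans hAL),
      card_subgroupOf_le hAL, card_subgroupOf_le ((omZ_le 2 _).trans hBL)]
    exact hoff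
  -- the quotient `L / O₂(G)`
  have hO2 : ∀ N : Subgroup (↥L ⧸ (Cfsg.pCore 2 G).subgroupOf L), N.Normal → IsPGroup 2 N → N = ⊥ :=
    fun N hN hNp => eq_bot_of_normal_isPGroup_quotient_subgroupOf L N hN hNp
  obtain ⟨Qb, hQbn, hQbodd, hQbfaith⟩ := exists_odd_faithful hO2
  have hinv : Cfsg.Involves (Equiv.Perm (Fin 4)) ↥L := by
    apply involves_perm4_core' ((Cfsg.pCore 2 G).subgroupOf L) hBp' hCV' (A.subgroupOf L) hAab' hA2' hAB' hoff'
      Qb hQbodd
    · intro a _ x hx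
      exact hQbn.conj_mem x hx a
    · rintro _ ⟨a, ha, rfl⟩ hcent
      apply hQbfaith _ ⟨1, ?_⟩ hcent
      rw [pow_one, ← map_pow]
      exact (QuotientGroup.eq_one_iff _).mpr (hA2' a ha)
  exact involves_of_injective L.subtype (Subgroup.subtype_injective L) hinv

end transport

section main
variable {G : Type u} [Group G] [Finite G]

/-- **Glauberman**: in a solvable `S₄`-free group with `O_{2'}(G) = 1` whose Sylow `2`-subgroups have class at most
two, `J_e(S)` is normal -/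
theorem jSub_ea_normalizer_eq_top [hsolv : Group.IsSolvable G]
    (hS4 : ¬ Cfsg.Involves (Equiv.Perm (Fin 4)) G) (hD : Cfsg.pPrimeCore 2 G = ⊥) (S : Sylow 2 G)
    (hcl : Subgroup.lowerCentralSeries (S : Subgroup G) 2 = ⊥) :
    Subgroup.normalizer ((jSub (Cfsg.IsElementaryAbelian 2) (S : Subgroup G) : Subgroup G) : Set G) = ⊤ := by
  have h2f : Fact (Nat.Prime 2) := ⟨Nat.prime_two⟩
  have hBn : (Cfsg.pCore 2 G).Normal := Cfsg.Agent.Lib.Helper1.pCore_normal 2 G
  have hBp : IsPGroup 2 (Cfsg.pCore 2 G) := pCore_isPGroup' 2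
  have hBS : Cfsg.pCore 2 G ≤ (S : Subgroup G) :=
    Cfsg.Agent.Lib.Helper24.normal_pgroup_le_sylow (Cfsg.pCore 2 G) hBp S
  have hc : Subgroup.centralizer ((Cfsg.pCore 2 G : Subgroup G) : Set G) ≤ Cfsg.pCore 2 G :=
    centralizer_pCore_le_pCore 2
      (Cfsg.Agent.Lib.Helper25.isPSolvable_of_isSolvable' 2 Nat.prime_two hsolv) hD
  by_cases hall : ∀ A ∈ maxIn (Cfsg.IsElementaryAbelian 2) (S : Subgroup G), A ≤ Cfsg.pCore 2 G
  · have hmax : maxIn (Cfsg.IsElementaryAbelian 2) (Cfsg.pCore 2 G) =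
        maxIn (Cfsg.IsElementaryAbelian 2) (S : Subgroup G) :=
      maxIn_eq_of_forall_le (goodClass_ea 2) hall hBS
    have hJ : jSub (Cfsg.IsElementaryAbelian 2) (Cfsg.pCore 2 G) =
        jSub (Cfsg.IsElementaryAbelian 2) (S : Subgroup G) := by
      unfold jSub; rw [hmax]
    rw [eq_top_iff, ← hJ]
    refine le_trans ?_ (normalizer_le_normalizer_jSub (goodClass_ea 2) _)
    rw [Subgroup.normalizer_eq_top_iff.mpr hBn]
  · exfalso
    push Not at hall
    obtain ⟨A, hA, hAB⟩ := hall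
    apply hS4
    -- commutators are central in `S`
    have hcomm : ∀ a ∈ (S : Subgroup G), ∀ b ∈ (S : Subgroup G), ∀ c ∈ (S : Subgroup G),
        (a * b * a⁻¹ * b⁻¹) * c = c * (a * b * a⁻¹ * b⁻¹) := by
      intro a ha b hb c hc'
      have h1 : ⁅⁅a, b⁆, c⁆ ∈ Subgroup.lowerCentralSeries (S : Subgroup G) 2 :=
        Subgroup.commutator_mem_commutator (Subgroup.commutator_mem_commutator ha hb) hc'
      rw [hcl, Subgroup.mem_bot, commutatorElement_eq_one_iff_mul_comm, commutatorElement_def] at h1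
      exact h1
    have hLn : (cenMod (Cfsg.pCore 2 G)).Normal := cenMod_normal _
    have hSL : (S : Subgroup G) ≤ cenMod (Cfsg.pCore 2 G) := by
      intro h hh b hb
      refine Subgroup.mem_centralizer_iff.mpr ?_
      intro c hc'
      exact (hcomm h hh b (hBS hb) c (hBS hc')).symm
    exact involves_perm4_of_offender_in (cenMod (Cfsg.pCore 2 G)) (hBS.trans hSL)
      (cenMod_inf_centralizer_omZ_le hc) A (hA.1.trans hSL) hA.2.1 hAB
      (offender_ineq_ea 2 (S : Subgroup G) A hA (Cfsg.pCore 2 G) hBS)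

/-- **Glauberman**: a solvable `S₄`-free group whose Sylow `2`-subgroups have class at most two satisfies
`G = N_G(J_e(S)) O_{2'}(G)` -/
theorem normalizer_thompson_sup_pPrimeCore_of_class_two [Group.IsSolvable G]
    (hS4 : ¬ Cfsg.Involves (Equiv.Perm (Fin 4)) G) (S : Sylow 2 G)
    (hcl : Subgroup.lowerCentralSeries (S : Subgroup G) 2 = ⊥) :
    Subgroup.normalizer ((Cfsg.thompsonSubgroupOf 2 (S : Subgroup G)) : Set G) ⊔ Cfsg.pPrimeCore 2 G = ⊤ := by
  have h2f : Fact (Nat.Prime 2) := ⟨Nat.prime_two⟩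
  have hDn : (Cfsg.pPrimeCore 2 G).Normal := Cfsg.Agent.Lib.Helper1.pPrimeCore_normal 2 G
  have hDcop : (Nat.card (Cfsg.pPrimeCore 2 G)).Coprime 2 := pPrimeCore_coprime 2
  have hmk : Function.Surjective (QuotientGroup.mk' (Cfsg.pPrimeCore 2 G)) := QuotientGroup.mk'_surjective _
  obtain ⟨Sb, hSb⟩ : ∃ Sb : Sylow 2 (G ⧸ Cfsg.pPrimeCore 2 G),
      (Sb : Subgroup (G ⧸ Cfsg.pPrimeCore 2 G)) = (S : Subgroup G).map (QuotientGroup.mk' (Cfsg.pPrimeCore 2 G)) :=
    ⟨S.mapSurjective hmk, Sylow.coe_mapSurjective hmk S⟩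
  have hS4' : ¬ Cfsg.Involves (Equiv.Perm (Fin 4)) (G ⧸ Cfsg.pPrimeCore 2 G) :=
    fun h => hS4 (involves_of_quotient _ h)
  have hD' : Cfsg.pPrimeCore 2 (G ⧸ Cfsg.pPrimeCore 2 G) = ⊥ :=
    Cfsg.Agent.Lib.Helper9.pPrimeCore_quotient_eq_bot 2
  have hcl' : Subgroup.lowerCentralSeries (Sb : Subgroup (G ⧸ Cfsg.pPrimeCore 2 G)) 2 = ⊥ := by
    rw [hSb, ← Subgroup.map_lowerCentralSeries, hcl, Subgroup.map_bot]
  have hJn := jSub_ea_normalizer_eq_top hS4' hD' Sb hcl'
  rw [← thompsonSubgroupOf_eq_jSub, hSb,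
    Cfsg.Agent.Lib.Helper4.thompsonSubgroupOf_map_mk' (Cfsg.pPrimeCore 2 G) hDcop (S : Subgroup G) S.2] at hJn
  have hJp : IsPGroup 2 (Cfsg.thompsonSubgroupOf 2 (S : Subgroup G)) := by
    apply S.2.to_le
    rw [thompsonSubgroupOf_eq_jSub]
    exact jSub_le _
  have hle := normalizer_map_mk_le (Cfsg.pPrimeCore 2 G) hDcop (Cfsg.thompsonSubgroupOf 2 (S : Subgroup G)) hJp
  rw [hJn] at hle
  rw [eq_top_iff]
  intro g _
  obtain ⟨n, hn, hng⟩ := hle (Subgroup.mem_top (QuotientGroup.mk' (Cfsg.pPrimeCore 2 G) g))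
  have h1 : n⁻¹ * g ∈ Cfsg.pPrimeCore 2 G := QuotientGroup.eq.mp hng
  have h2 : g = n * (n⁻¹ * g) := by group
  rw [h2]
  exact Subgroup.mul_mem _ (Subgroup.mem_sup_left hn) (Subgroup.mem_sup_right h1)

end main

end Cfsg.Agent.Lib.Helper8.ThTwo
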