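import Mathlib
import Cfsg.Agent.Lib.Helper8.ThompsonTrans
import Cfsg.Agent.Lib.Helper8.SupNormalizer
import Cfsg.Agent.Lib.Helper4.ElemAb

/-!
# Thompson's transitivity theorem (odd order, solvable `p`-locals): main proof
-/

set_option autoImplicit false
set_option maxHeartbeats 1000000

namespace Cfsg.Agent.Lib.Helper8.ThompsonTrans

open Subgroup Cfsg.Agent.Lib.Helper8

theorem thompson_transitivity {X : Type*} [Group X] [Finite X] (hX : Odd (Nat.card X)) (p : ℕ)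
    [hpf : Fact p.Prime]
    (hloc : ∀ T : Subgroup X, IsPGroup p T → T ≠ ⊥ →
      Group.IsSolvable (Subgroup.normalizer (T : Set X)))
    (P : Sylow p X) (B : Subgroup X) (hBP : B ≤ (P : Subgroup X))
    (hBn : ∀ x ∈ (P : Subgroup X), ∀ b ∈ B, x * b * x⁻¹ ∈ B) (hBa : IsMulCommutative B)
    (hBc : (P : Subgroup X) ⊓ Subgroup.centralizer (B : Set X) = B)
    (hB3 : ∃ E : Subgroup X, E ≤ B ∧ (∀ e ∈ E, e ^ p = 1) ∧ p ^ 3 ≤ Nat.card E)
    (q : ℕ) [hqf : Fact q.Prime] (hqp : q ≠ p) (Q₁ Q₂ : Subgroup X)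
    (h₁ : IsPGroup q Q₁ ∧ B ≤ Subgroup.normalizer (Q₁ : Set X) ∧
      ∀ R : Subgroup X, IsPGroup q R → B ≤ Subgroup.normalizer (R : Set X) → Q₁ ≤ R → R = Q₁)
    (h₂ : IsPGroup q Q₂ ∧ B ≤ Subgroup.normalizer (Q₂ : Set X) ∧
      ∀ R : Subgroup X, IsPGroup q R → B ≤ Subgroup.normalizer (R : Set X) → Q₂ ≤ R → R = Q₂) :
    ∃ c ∈ Subgroup.centralizer (B : Set X), Q₂ = Q₁.map (MulAut.conj c).toMonoidHom := by
  classical
  have hpp : p.Prime := hpf.out
  have hqq : q.Prime := hqf.out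
  obtain ⟨E, hEB, hEp, hE3⟩ := hB3
  have hBcomm : ∀ a ∈ B, ∀ b ∈ B, a * b = b * a := fun a ha b hb =>
    congrArg Subtype.val (hBa.is_comm.comm (⟨a, ha⟩ : ↥B) ⟨b, hb⟩)
  -- `A = Ω₁(B)`
  let A : Subgroup X :=
    { carrier := {b | b ∈ B ∧ b ^ p = 1}
      mul_mem' := by
        rintro a b ⟨ha, hap⟩ ⟨hb, hbp⟩
        refine ⟨mul_mem ha hb, ?_⟩
        have hc : Commute a b := hBcomm a ha b hb
        rw [hc.mul_pow, hap, hbp, one_mul]
      one_mem' := ⟨one_mem _, one_pow _⟩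
      inv_mem' := by
        rintro a ⟨ha, hap⟩
        exact ⟨inv_mem ha, by rw [inv_pow, hap, inv_one]⟩ }
  have hAB : A ≤ B := fun b hb => hb.1
  have hAel : Cfsg.IsElementaryAbelian p A :=
    ⟨⟨⟨fun a b => Subtype.ext (hBcomm a a.2.1 b b.2.1)⟩⟩, fun a ha => ha.2⟩
  have hEA : E ≤ A := fun e he => ⟨hEB he, hEp e he⟩
  have hA3 : p ^ 3 ≤ Nat.card ↥A := hE3.trans (Subgroup.card_le_of_le hEA)
  have hA2 : p ^ 2 ≤ Nat.card ↥A := le_trans (Nat.pow_le_pow_right hpp.pos (by norm_num)) hA3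
  have hAp : IsPGroup p ↥A := by
    rintro ⟨g, hg⟩
    exact ⟨1, Subtype.ext (by simpa using hg.2)⟩
  obtain ⟨kA, hkA⟩ := IsPGroup.iff_card.mp hAp
  have hkA3 : 3 ≤ kA := by
    rw [hkA] at hA3
    exact (Nat.pow_le_pow_iff_right hpp.one_lt).mp hA3
  have hpA : p ∣ Nat.card ↥A := by
    rw [hkA]; exact dvd_pow_self p (by omega)
  have hA1 : A ≠ ⊥ := by
    intro h
    rw [h, Subgroup.card_bot] at hpA
    exact hpp.one_lt.ne' (Nat.dvd_one.mp hpA)
  have hp2 : p ≠ 2 := by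
    intro h2
    have h3 : p ∣ Nat.card X := hpA.trans (Subgroup.card_subgroup_dvd_card A)
    rw [h2] at h3
    exact (Nat.not_even_iff_odd.mpr hX) (even_iff_two_dvd.mpr h3)
  have hBp : IsPGroup p ↥B := P.isPGroup'.to_le hBP
  have hPN : (P : Subgroup X) ≤ normalizer (B : Set X) := le_normalizer_of_conj_mem hBn
  have hSCN : Cfsg.IsSCN (P : Subgroup X) B := ⟨hBP, hPN, hBc⟩
  have hΩ : ∀ x ∈ centralizer (B : Set X), orderOf x = p → x ∈ B := by
    intro x hx hox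
    apply Cfsg.Agent.Lib.Helper8.BG76.mem_of_mem_centralizer_of_isSCN P hSCN hx
    apply IsPGroup.of_card (n := 1)
    rw [Nat.card_zpowers, hox, pow_one]
  -- centralizers of elements of `A^#`
  have hCsolv : ∀ a ∈ A, a ≠ 1 → Group.IsSolvable ↥(centralizer ({a} : Set X)) := by
    intro a ha ha1
    have hz : IsPGroup p ↥(zpowers a) := by
      apply IsPGroup.of_card (n := 1)
      rw [Nat.card_zpowers, pow_one]
      exact orderOf_eq_prime ha.2 ha1
    have hz1 : zpowers a ≠ ⊥ := by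
      rw [Ne, zpowers_eq_bot]; exact ha1
    have hs := hloc (zpowers a) hz hz1
    have hle : centralizer ({a} : Set X) ≤ normalizer ((zpowers a : Subgroup X) : Set X) := by
      intro g hg
      rw [mem_centralizer_singleton_iff] at hg
      have hcomm : ∀ n : ℤ, g * a ^ n * g⁻¹ = a ^ n := by
        intro n
        have h1 : Commute g (a ^ n) := (show Commute g a from hg).zpow_right n
        rw [h1.eq, mul_inv_cancel_right]
      rw [mem_normalizer_iff]
      intro x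
      constructor
      · rintro ⟨n, rfl⟩
        rw [hcomm]; exact ⟨n, rfl⟩
      · rintro ⟨n, hn⟩
        have h2 : x = g⁻¹ * (g * x * g⁻¹) * g := by group
        rw [h2, ← hn]
        have h3 : g⁻¹ * a ^ n * g = a ^ n := by
          have := hcomm n
          calc g⁻¹ * a ^ n * g = g⁻¹ * (g * a ^ n * g⁻¹) * g := by rw [this]
            _ = a ^ n := by group
        rw [h3]; exact ⟨n, rfl⟩
    exact Group.isSolvable_of_isSolvable_injective (inclusion_injective hle)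
  have hBC : ∀ a ∈ A, B ≤ centralizer ({a} : Set X) := fun a ha b hb => by
    rw [mem_centralizer_singleton_iff]; exact hBcomm b hb a (hAB ha)
  -- key: `B`-invariant `p'`-subgroups meet `C(a)` inside `θ(a)`
  have hF : ∀ a ∈ A, a ≠ 1 → ∀ Y : Subgroup X, ¬ p ∣ Nat.card ↥Y → B ≤ normalizer (Y : Set X) →
      Y ⊓ centralizer ({a} : Set X) ≤ thetaP p a := by
    intro a ha ha1 Y hYp hBY
    apply le_map_pPrimeCore hp2 hBp hΩ (hCsolv a ha ha1) (hBC a ha) inf_le_right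
    · intro h; exact hYp (h.trans (card_dvd_of_le inf_le_left))
    · apply le_normalizer_of_conj_mem
      intro b hb u hu
      exact Subgroup.mem_inf.mpr ⟨conj_mem_of_le_normalizer hBY b hb u (Subgroup.mem_inf.mp hu).1,
        Subgroup.mul_mem _ (Subgroup.mul_mem _ (hBC a ha hb) (Subgroup.mem_inf.mp hu).2)
          (Subgroup.inv_mem _ (hBC a ha hb))⟩
  have hθ : Cfsg.IsSolvableSignalizerFunctor p A (thetaP p) := by
    refine ⟨⟨fun a _ _ => thetaP_le p a, fun a _ _ => thetaP_not_dvd p a, ?_, ?_⟩, ?_⟩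
    · intro a ha _ b hb x hx
      exact thetaP_conj p a (hBC a ha (hAB hb)) hx
    · intro a ha _ b hb hb1
      apply hF b hb hb1 (thetaP p a) (thetaP_not_dvd p a)
      apply le_normalizer_of_conj_mem
      intro c hc x hx
      exact thetaP_conj p a (hBC a ha hc) hx
    · intro a ha ha1
      have := hCsolv a ha ha1
      exact Group.isSolvable_of_isSolvable_injective (inclusion_injective (thetaP_le p a))
  have hqnp : ∀ R : Subgroup X, IsPGroup q ↥R → ¬ p ∣ Nat.card ↥R := by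
    intro R hRq
    obtain ⟨k, hk⟩ := IsPGroup.iff_card.mp hRq
    rw [hk]
    intro h
    exact hqp.symm ((Nat.prime_dvd_prime_iff_eq hpp hqq).mp (hpp.dvd_of_dvd_pow h))
  have hfam : ∀ R : Subgroup X, IsPGroup q ↥R → B ≤ normalizer (R : Set X) →
      R ∈ Cfsg.signalizerFamily p A (thetaP p) := by
    intro R hRq hBR
    refine ⟨?_, hqnp R hRq, fun b hb u hu => conj_mem_of_le_normalizer hBR b (hAB hb) u hu,
      fun a ha ha1 => hF a ha ha1 R (hqnp R hRq) hBR⟩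
    have := hRq.isNilpotent
    infer_instance
  have hcopAq : ∀ R : Subgroup X, IsPGroup q ↥R → (Nat.card ↥A).Coprime (Nat.card ↥R) := by
    intro R hRq
    rw [hkA]
    exact Nat.Coprime.pow_left kA ((Nat.Prime.coprime_iff_not_dvd hpp).mpr (hqnp R hRq))
  -- maximal `B`-invariant `q`-subgroups are maximal in the family
  have hmax : ∀ Q : Subgroup X, IsPGroup q ↥Q → B ≤ normalizer (Q : Set X) →
      (∀ R : Subgroup X, IsPGroup q ↥R → B ≤ normalizer (R : Set X) → Q ≤ R → R = Q) →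
      IsMaxQ p A (thetaP p) q Q := by
    intro Q hQq hBQ hQmax
    refine ⟨hfam Q hQq hBQ, hQq, ?_⟩
    intro R hRfam hRq hQR
    by_contra hne
    obtain ⟨x₀, hx₀R, hx₀N, hx₀Q⟩ :=
      Cfsg.Agent.Lib.Helper16.exists_mem_normalizer_not_mem hRq hQR (Ne.symm hne)
    have hNQ : ¬ R ⊓ normalizer (Q : Set X) ≤ Q := fun h => hx₀Q (h ⟨hx₀R, hx₀N⟩)
    have hAR := family_le_normalizer hRfam
    have hAQ : A ≤ normalizer (Q : Set X) := hAB.trans hBQ
    have hAN : A ≤ normalizer ((R ⊓ normalizer (Q : Set X) : Subgroup X) : Set X) := by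
      apply le_normalizer_of_conj_mem
      intro b hb u hu
      exact Subgroup.mem_inf.mpr ⟨conj_mem_of_le_normalizer hAR b hb u (Subgroup.mem_inf.mp hu).1,
        Subgroup.mul_mem _ (Subgroup.mul_mem _ (hAQ hb) (Subgroup.mem_inf.mp hu).2)
          (Subgroup.inv_mem _ (hAQ hb))⟩
    have hcopN : (Nat.card ↥A).Coprime (Nat.card ↥(R ⊓ normalizer (Q : Set X))) :=
      hcopAq _ (hRq.to_le inf_le_left)
    obtain ⟨B₀, hB₀A, hB₀i, hB₀n⟩ := exists_index_p_centralizer_not_le p A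
      (R ⊓ normalizer (Q : Set X)) Q hAel hA1 hAN hcopN hNQ
    obtain ⟨a, haB₀, ha1⟩ : ∃ a ∈ B₀, a ≠ 1 := by
      by_contra hcon
      push Not at hcon
      have hB₀bot : B₀ = ⊥ := (Subgroup.eq_bot_iff_forall _).mpr hcon
      have h1 : Nat.card ↥B₀ * B₀.relIndex A = Nat.card ↥A :=
        Cfsg.Agent.Lib.Helper4.card_mul_relIndex hB₀A
      rw [hB₀bot, Subgroup.card_bot, one_mul] at h1
      rw [hB₀bot] at hB₀i
      rw [hB₀i] at h1
      rw [← h1] at hA2
      have : p < p ^ 2 := by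
        calc p = p ^ 1 := (pow_one p).symm
          _ < p ^ 2 := Nat.pow_lt_pow_right hpp.one_lt (by norm_num)
      omega
    have haA := hB₀A haB₀
    obtain ⟨x, hxNC, hxQ⟩ := SetLike.not_le_iff_exists.mp hB₀n
    have hxa : x ∈ centralizer ({a} : Set X) := by
      rw [mem_centralizer_singleton_iff]
      exact ((mem_centralizer_iff.mp hxNC.2) a haB₀).symm
    have hxθ : x ∈ thetaP p a := hRfam.2.2.2 a haA ha1 ⟨hxNC.1.1, hxa⟩
    have hLA : ∀ b ∈ A, ∀ u ∈ thetaP p a ⊓ normalizer (Q : Set X),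
        b * u * b⁻¹ ∈ thetaP p a ⊓ normalizer (Q : Set X) := fun b hb u hu =>
      Subgroup.mem_inf.mpr ⟨thetaP_conj p a (hBC a haA (hAB hb)) (Subgroup.mem_inf.mp hu).1,
        Subgroup.mul_mem _ (Subgroup.mul_mem _ (hAQ hb) (Subgroup.mem_inf.mp hu).2)
          (Subgroup.inv_mem _ (hAQ hb))⟩
    have hLfam : thetaP p a ⊓ normalizer (Q : Set X) ∈ Cfsg.signalizerFamily p A (thetaP p) :=
      family_of_le_theta hθ haA ha1 inf_le_left hLA
    have hMfam := Cfsg.Agent.S1280.result p A hAel hA2 (thetaP p) hθ Q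
      (thetaP p a ⊓ normalizer (Q : Set X)) (hfam Q hQq hBQ) hLfam inf_le_right
    have hBM : B ≤ normalizer ((Q ⊔ (thetaP p a ⊓ normalizer (Q : Set X)) : Subgroup X) : Set X) := by
      apply le_normalizer_of_conj_mem
      intro b hb g hg
      obtain ⟨u, hu, v, hv, rfl⟩ := mem_sup_of_le_normalizer
        (inf_le_right : thetaP p a ⊓ normalizer (Q : Set X) ≤ normalizer (Q : Set X)) hg
      have h1 : b * (u * v) * b⁻¹ = (b * u * b⁻¹) * (b * v * b⁻¹) := by group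
      rw [h1]
      apply mul_mem
      · exact mem_sup_left (conj_mem_of_le_normalizer hBQ b hb u hu)
      · apply mem_sup_right
        exact Subgroup.mem_inf.mpr ⟨thetaP_conj p a (hBC a haA hb) (Subgroup.mem_inf.mp hv).1,
          Subgroup.mul_mem _ (Subgroup.mul_mem _ (hBQ hb) (Subgroup.mem_inf.mp hv).2)
            (Subgroup.inv_mem _ (hBQ hb))⟩
    have hcopM : (Nat.card ↥B).Coprime
        (Nat.card ↥(Q ⊔ (thetaP p a ⊓ normalizer (Q : Set X)))) := by
      obtain ⟨k, hk⟩ := IsPGroup.iff_card.mp hBp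
      rw [hk]
      exact Nat.Coprime.pow_left k ((Nat.Prime.coprime_iff_not_dvd hpp).mpr hMfam.2.1)
    have hBsolv : Group.IsSolvable ↥B := by
      have := hBp.isNilpotent
      infer_instance
    obtain ⟨S, hQS, hBS⟩ := Cfsg.Agent.S0025.result B
      (Q ⊔ (thetaP p a ⊓ normalizer (Q : Set X))) hBM hcopM (Or.inl hBsolv) q Q le_sup_left hQq hBQ
    have hSQ := hQmax _ (S.isPGroup'.map _) hBS hQS
    have hT : Q ⊔ zpowers x ≤ R := sup_le hQR ((zpowers_le).mpr hxNC.1.1)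
    have hTq : IsPGroup q ↥(Q ⊔ zpowers x) := hRq.to_le hT
    have hTM : Q ⊔ zpowers x ≤ Q ⊔ (thetaP p a ⊓ normalizer (Q : Set X)) :=
      sup_le le_sup_left ((zpowers_le).mpr (mem_sup_right ⟨hxθ, hxNC.1.2⟩))
    have h1 := card_dvd_of_isPGroup_le hTq hTM
    have h2 := (sylow_map_subtype_isSylIn S).2
    rw [← h2, hSQ] at h1
    have h3 : Nat.card ↥Q < Nat.card ↥(Q ⊔ zpowers x) := by
      apply lt_of_le_of_ne (Subgroup.card_le_of_le le_sup_left)
      intro heq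
      have := Subgroup.eq_of_le_of_card_ge (le_sup_left : Q ≤ Q ⊔ zpowers x) heq.ge
      apply hxQ
      rw [this]
      exact mem_sup_right (mem_zpowers x)
    exact absurd (Nat.le_of_dvd Nat.card_pos h1) (not_le.mpr h3)
  -- transitivity under `K = θ(C(A))`
  obtain ⟨c, hcK, hcQ⟩ := transitivity p A hAel hA3 (thetaP p) hθ q Q₁ Q₂
    (hmax Q₁ h₁.1 h₁.2.1 h₁.2.2) (hmax Q₂ h₂.1 h₂.2.1 h₂.2.2)
  -- properties of `K`
  obtain ⟨K, hKdef⟩ : ∃ K : Subgroup X, K = Cfsg.signalizerInf A (thetaP p) := ⟨_, rfl⟩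
  rw [← hKdef] at hcK
  have hKmem : ∀ k, k ∈ K ↔ ∀ a ∈ A, a ≠ 1 → k ∈ thetaP p a := by
    intro k; rw [hKdef]; exact mem_signalizerInf_iff
  have hBK : ∀ b ∈ B, ∀ k ∈ K, b * k * b⁻¹ ∈ K := by
    intro b hb k hk
    rw [hKmem] at hk ⊢
    intro a ha ha1
    exact thetaP_conj p a (hBC a ha hb) (hk a ha ha1)
  have hBNK : B ≤ normalizer (K : Set X) := le_normalizer_of_conj_mem hBK
  obtain ⟨a₀, ha₀A, ha₀1⟩ : ∃ a ∈ A, a ≠ 1 := by
    by_contra hcon
    push Not at hcon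
    exact hA1 ((Subgroup.eq_bot_iff_forall _).mpr hcon)
  have hKθ : K ≤ thetaP p a₀ := fun k hk => (hKmem k).mp hk a₀ ha₀A ha₀1
  have hKp : ¬ p ∣ Nat.card ↥K := fun h =>
    thetaP_not_dvd p a₀ (h.trans (Subgroup.card_dvd_of_le hKθ))
  obtain ⟨kB, hkB⟩ := IsPGroup.iff_card.mp hBp
  have hKB : K ⊓ B = ⊥ := by
    apply Subgroup.inf_eq_bot_of_coprime
    rw [hkB]
    exact Nat.Coprime.pow_right kB ((Nat.Prime.coprime_iff_not_dvd hpp).mpr hKp).symm
  -- `B` is a Sylow `p`-subgroup of `N₂ = KB ∩ N(Q₂)`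
  have hcardT : Nat.card ↥(K ⊔ B) = Nat.card ↥K * Nat.card ↥B := by
    have h1 := Cfsg.Agent.Lib.Helper4.card_sup_mul_card_inf B K hBNK
    rw [inf_comm, hKB, Subgroup.card_bot, mul_one, sup_comm, mul_comm] at h1
    exact h1
  have hfacT : (Nat.card ↥(K ⊔ B)).factorization p = kB := by
    rw [hcardT, Nat.factorization_mul Nat.card_pos.ne' Nat.card_pos.ne', Finsupp.add_apply,
      Nat.factorization_eq_zero_of_not_dvd hKp, zero_add, hkB, hpp.factorization_pow,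
      Finsupp.single_eq_same]
  have hBN₂ : B ≤ (K ⊔ B) ⊓ normalizer (Q₂ : Set X) := le_inf le_sup_right h₂.2.1
  have hSyl : IsSylIn p B ((K ⊔ B) ⊓ normalizer (Q₂ : Set X)) := by
    apply isSylIn_of_card_le hBp hBN₂
    have h1 : Nat.card ↥((K ⊔ B) ⊓ normalizer (Q₂ : Set X)) ∣ Nat.card ↥(K ⊔ B) :=
      Subgroup.card_dvd_of_le inf_le_left
    have h2 : (Nat.card ↥((K ⊔ B) ⊓ normalizer (Q₂ : Set X))).factorization p ≤ kB := by
      rw [← hfacT]
      exact (Nat.factorization_le_iff_dvd Nat.card_pos.ne' Nat.card_pos.ne').mpr h1 p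
    rw [hkB]
    exact Nat.pow_le_pow_right hpp.pos h2
  -- the conjugate `cBc⁻¹`
  have hB'T : B.map (MulAut.conj c).toMonoidHom ≤ (K ⊔ B) ⊓ normalizer (Q₂ : Set X) := by
    apply le_inf
    · rintro _ ⟨b, hb, rfl⟩
      show c * b * c⁻¹ ∈ K ⊔ B
      exact mul_mem (mul_mem (mem_sup_left hcK) (mem_sup_right hb)) (inv_mem (mem_sup_left hcK))
    · have h1 := (Subgroup.map_mono h₁.2.1).trans
        (Subgroup.le_normalizer_map (H := Q₁) (MulAut.conj c).toMonoidHom)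
      rw [hcQ] at h1
      exact h1
  obtain ⟨n, hnN₂, hn⟩ := exists_conj_isSylIn hSyl hB'T (hBp.map _)
  have hgB : ∀ b ∈ B, (n * c) * b * (n * c)⁻¹ ∈ B := by
    intro b hb
    have h1 := hn (c * b * c⁻¹) ⟨b, hb, rfl⟩
    have h2 : n * c * b * (n * c)⁻¹ = n * (c * b * c⁻¹) * n⁻¹ := by group
    rw [h2]; exact h1
  have hgT : n * c ∈ K ⊔ B := mul_mem hnN₂.1 (mem_sup_left hcK)
  obtain ⟨k, hk, b₀, hb₀, hkb⟩ := mem_sup_of_le_normalizer hBNK hgT
  have hkeq : k = n * c * b₀⁻¹ := by rw [hkb]; group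
  have hkC : k ∈ centralizer (B : Set X) := by
    rw [mem_centralizer_iff]
    intro b hb
    have h1 : k * b * k⁻¹ ∈ B := by
      have h2 : k * b * k⁻¹ = (n * c) * (b₀⁻¹ * b * b₀) * (n * c)⁻¹ := by rw [hkeq]; group
      rw [h2]
      exact hgB _ (mul_mem (mul_mem (inv_mem hb₀) hb) hb₀)
    have h3 : k * b * k⁻¹ * b⁻¹ ∈ K ⊓ B := by
      refine mem_inf.mpr ⟨?_, mul_mem h1 (inv_mem hb)⟩
      have h4 : k * b * k⁻¹ * b⁻¹ = k * (b * k⁻¹ * b⁻¹) := by group
      rw [h4]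
      exact mul_mem hk (hBK b hb _ (inv_mem hk))
    rw [hKB, mem_bot] at h3
    calc b * k = (k * b * k⁻¹ * b⁻¹)⁻¹ * (k * b) := by group
      _ = k * b := by rw [h3, inv_one, one_mul]
  refine ⟨k, hkC, ?_⟩
  have hb₀N : Q₁.map (MulAut.conj b₀⁻¹).toMonoidHom = Q₁ :=
    mem_normalizer_iff_map_conj.mp (h₁.2.1 (inv_mem hb₀))
  have hnN : Q₂.map (MulAut.conj n).toMonoidHom = Q₂ := mem_normalizer_iff_map_conj.mp hnN₂.2
  have h5 : n * c * b₀⁻¹ = n * (c * b₀⁻¹) := by group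
  rw [hkeq, h5, ← map_conj_map_conj, ← map_conj_map_conj, hb₀N, hcQ, hnN]

end Cfsg.Agent.Lib.Helper8.ThompsonTrans
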