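import Mathlib
import Cfsg.Agent.Lib.Helper12.FamilyTransfer

/-!
Helper lemmas (helper8): Alperin-type reduction for weak closure statements.
Given a set `X ⊆ S` (S Sylow) and a subgroup `𝒩` stabilising `X`, if some `h ∉ 𝒩` carries `X` into `S`
then there is a tame subgroup `R ⊇ X` of `S` whose normalizer is not in `𝒩`, with `|N_S(R)|` maximal.
-/

set_option autoImplicit false
open Subgroup

namespace Cfsg.Agent.Lib.Helper8.WCRed

open Cfsg.Agent.Lib.Helper12

section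
variable {L : Type*} [Group L]

theorem chain_prod_mem (𝓕 : Set (Subgroup L)) (X : Set L) (𝒩 : Subgroup L)
    (hstab : ∀ n ∈ 𝒩, ∀ a ∈ X, n * a * n⁻¹ ∈ X) :
    ∀ (l : List (Subgroup L × L)) (A : Set L), Chain 𝓕 A l → X ⊆ A →
      (∀ q ∈ l, X ⊆ ((q.1 : Subgroup L) : Set L) → q.2 ∈ 𝒩) → prodOf l ∈ 𝒩 := by
  intro l
  induction l with
  | nil => intro A _ _ _; rw [prodOf_nil]; exact one_mem _
  | cons q l ih =>
    obtain ⟨U, n⟩ := q
    rintro A ⟨-, -, hAU, hl⟩ hXA hq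
    have hn : n ∈ 𝒩 := hq (U, n) (List.mem_cons_self) (hXA.trans hAU)
    have hX' : X ⊆ cjs n A := by
      intro a ha
      refine ⟨n * a * n⁻¹, hXA (hstab n hn a ha), ?_⟩
      group
    rw [prodOf_cons]
    exact mul_mem hn (ih (cjs n A) hl hX' (fun q' hq' => hq q' (List.mem_cons_of_mem _ hq')))

end

section
variable {L : Type*} [Group L] [Finite L] {p : ℕ} [Fact p.Prime] (S : Sylow p L)

theorem mem_of_tame (X : Set L) (𝒩 : Subgroup L)
    (hstab : ∀ n ∈ 𝒩, ∀ a ∈ X, n * a * n⁻¹ ∈ X) (k : ℕ)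
    (htame : ∀ R ∈ tameFamily S, k ≤ Nat.card R → X ⊆ (R : Set L) →
      Subgroup.normalizer (R : Set L) ≤ 𝒩)
    (A : Subgroup L) (hA : A ≤ (S : Subgroup L)) (hk : k ≤ Nat.card A) (hXA : X ⊆ (A : Set L))
    (g : L) (hg : cj g⁻¹ A ≤ (S : Subgroup L)) : g ∈ 𝒩 := by
  obtain ⟨l, hl, rfl⟩ := reach_tame S A hA g hg
  apply chain_prod_mem (tameFamily S) X 𝒩 hstab l (A : Set L) hl hXA
  intro q hq hXq
  have h1 := hl.mem (tameFamily S) q hq
  have h2 := Chain.card_le (tameFamily S) hl q hq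
  exact htame q.1 h1.1 (hk.trans h2) hXq h1.2

theorem one_step (X : Set L) (hXS : X ⊆ ((S : Subgroup L) : Set L)) (𝒩 : Subgroup L)
    (hstab : ∀ n ∈ 𝒩, ∀ a ∈ X, n * a * n⁻¹ ∈ X)
    (h : L) (hh : ∀ a ∈ X, h * a * h⁻¹ ∈ (S : Subgroup L)) (hhN : h ∉ 𝒩) :
    ∃ R : Subgroup L, R ∈ tameFamily S ∧ X ⊆ (R : Set L) ∧
      ¬ Subgroup.normalizer (R : Set L) ≤ 𝒩 ∧
      ∀ U : Subgroup L, U ≤ (S : Subgroup L) → X ⊆ (U : Set L) →
        Nat.card ↥((S : Subgroup L) ⊓ Subgroup.normalizer (R : Set L)) <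
          Nat.card ↥((S : Subgroup L) ⊓ Subgroup.normalizer (U : Set L)) →
        Subgroup.normalizer (U : Set L) ≤ 𝒩 := by
  classical
  let PP : Set (Subgroup L) := {R | R ∈ tameFamily S ∧ X ⊆ (R : Set L) ∧
      ¬ Subgroup.normalizer (R : Set L) ≤ 𝒩}
  have hne : PP.Nonempty := by
    by_contra hemp
    rw [Set.not_nonempty_iff_eq_empty] at hemp
    apply hhN
    have hcl : Subgroup.closure X ≤ (S : Subgroup L) := (Subgroup.closure_le _).mpr hXS
    have hmem : h⁻¹ ∈ 𝒩 := by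
      apply mem_of_tame S X 𝒩 hstab 0 ?_ (Subgroup.closure X) hcl (Nat.zero_le _)
        Subgroup.subset_closure h⁻¹
      · rw [inv_inv, cj_def, MonoidHom.map_closure, Subgroup.closure_le]
        rintro _ ⟨a, ha, rfl⟩
        show (MulAut.conj h) a ∈ (S : Subgroup L)
        rw [MulAut.conj_apply]
        exact hh a ha
      · intro R hR _ hXR
        by_contra hcon
        have : R ∈ PP := ⟨hR, hXR, hcon⟩
        rw [hemp] at this
        exact this
    simpa using inv_mem hmem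
  have hfin : PP.Finite := Set.toFinite _
  obtain ⟨R, hRPP, hRmax⟩ := hfin.exists_maximalFor
    (fun R : Subgroup L => Nat.card ↥((S : Subgroup L) ⊓ Subgroup.normalizer (R : Set L))) PP hne
  refine ⟨R, hRPP.1, hRPP.2.1, hRPP.2.2, ?_⟩
  intro U hUS hXU hcard
  by_contra hcon
  obtain ⟨m, hmU, hm𝒩⟩ := SetLike.not_le_iff_exists.mp hcon
  obtain ⟨b, V, hV, hbV, hbN⟩ := exists_tame_conj S hUS
  set A := (S : Subgroup L) ⊓ Subgroup.normalizer (U : Set L) with hAdef
  have hXA : X ⊆ (A : Set L) := fun a ha =>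
    Subgroup.mem_inf.mpr ⟨hUS (hXU ha), Subgroup.le_normalizer (hXU ha)⟩
  have hb : b⁻¹ ∈ 𝒩 := by
    apply mem_of_tame S X 𝒩 hstab
      (Nat.card ↥((S : Subgroup L) ⊓ Subgroup.normalizer (R : Set L)) + 1) ?_ A inf_le_left
      hcard hXA b⁻¹
    · rw [inv_inv]
      exact hbN.trans inf_le_left
    · intro R' hR' hk hXR'
      by_contra hcon'
      have hR'PP : R' ∈ PP := ⟨hR', hXR', hcon'⟩
      have h1 : Nat.card R' ≤ Nat.card ↥((S : Subgroup L) ⊓ Subgroup.normalizer (R' : Set L)) :=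
        Subgroup.card_le_of_le (le_inf hR'.1 Subgroup.le_normalizer)
      have h2 : Nat.card ↥((S : Subgroup L) ⊓ Subgroup.normalizer (R' : Set L)) ≤
          Nat.card ↥((S : Subgroup L) ⊓ Subgroup.normalizer (R : Set L)) := by
        by_contra hlt
        push Not at hlt
        have := hRmax hR'PP hlt.le
        simp only at this
        omega
      omega
  have hb' : b ∈ 𝒩 := by simpa using inv_mem hb
  have hXV : X ⊆ (V : Set L) := by
    intro a ha
    have h1 : b⁻¹ * a * b⁻¹⁻¹ ∈ X := hstab b⁻¹ hb a ha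
    rw [← hbV, cj_def]
    refine ⟨b⁻¹ * a * b⁻¹⁻¹, hXU h1, ?_⟩
    simp [MulAut.conj_apply, mul_assoc]
  have hVN : ¬ Subgroup.normalizer (V : Set L) ≤ 𝒩 := by
    intro hle
    apply hm𝒩
    have h1 : b * m * b⁻¹ ∈ Subgroup.normalizer (V : Set L) := by
      rw [← hbV, ← cj_normalizer, cj_def]
      exact ⟨m, hmU, by simp [MulAut.conj_apply]⟩
    have h2 := hle h1
    have h3 : b⁻¹ * (b * m * b⁻¹) * b ∈ 𝒩 := mul_mem (mul_mem hb h2) hb'
    simpa [mul_assoc] using h3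
  have hVPP : V ∈ PP := ⟨hV, hXV, hVN⟩
  have h1 : Nat.card ↥A ≤ Nat.card ↥((S : Subgroup L) ⊓ Subgroup.normalizer (V : Set L)) := by
    have := Subgroup.card_le_of_le hbN
    rwa [card_cj] at this
  have h2 : Nat.card ↥((S : Subgroup L) ⊓ Subgroup.normalizer (V : Set L)) ≤
      Nat.card ↥((S : Subgroup L) ⊓ Subgroup.normalizer (R : Set L)) := by
    by_contra hlt
    push Not at hlt
    have := hRmax hVPP hlt.le
    simp only at this
    omega
  omega

end

end Cfsg.Agent.Lib.Helper8.WCRed
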