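import Mathlib
import Cfsg.Prelude.Def_ConjugacyFunctors
import Cfsg.Prelude.Def_Amalgam
import Cfsg.Agent.Lib.Helper8.WCRed
import Cfsg.Agent.Lib.Helper16.Large2

/-!
Helper lemmas (helper8): local-to-global induction for weak closure statements relative to a conjugacy
functor `W` (Glauberman, "Global and local properties of finite groups", weak closure of elements).
The induction reduces to the "main case": `X ⊆ O_p(H)`, every proper subgroup of `H` containing the Sylow
subgroup `T` lies in the stabiliser `𝒩` of `X`, but `H` does not.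
-/

set_option autoImplicit false
open Subgroup

namespace Cfsg.Agent.Lib.Helper8.WCRed

open Cfsg.Agent.Lib.Helper12 Cfsg.Agent.Lib.Helper16 Cfsg

section rel
variable {G : Type*} [Group G]

theorem mem_normalizer_map_subtype {H : Subgroup G} (R' : Subgroup ↥H) (n : ↥H) :
    (n : G) ∈ Subgroup.normalizer ((R'.map H.subtype : Subgroup G) : Set G) ↔
      n ∈ Subgroup.normalizer (R' : Set ↥H) := by
  have hle : R'.map H.subtype ≤ H := Subgroup.map_subtype_le R'
  have h1 : (R'.map H.subtype).subgroupOf H = R' :=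
    Subgroup.comap_map_eq_self_of_injective H.subtype_injective R'
  have h2 := Subgroup.subgroupOf_normalizer_eq hle
  rw [h1] at h2
  rw [← h2, Subgroup.mem_subgroupOf]

theorem normalizer_map_subtype {H : Subgroup G} (R' : Subgroup ↥H) :
    (Subgroup.normalizer (R' : Set ↥H)).map H.subtype =
      H ⊓ Subgroup.normalizer ((R'.map H.subtype : Subgroup G) : Set G) := by
  ext g
  constructor
  · rintro ⟨n, hn, rfl⟩
    exact Subgroup.mem_inf.mpr ⟨n.2, (mem_normalizer_map_subtype R' n).mpr hn⟩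
  · intro hg
    obtain ⟨hgH, hgN⟩ := Subgroup.mem_inf.mp hg
    exact ⟨⟨g, hgH⟩, (mem_normalizer_map_subtype R' ⟨g, hgH⟩).mp hgN, rfl⟩

theorem inf_normalizer_map_subtype {H T : Subgroup G} (hTH : T ≤ H) (R' : Subgroup ↥H) :
    (T.subgroupOf H ⊓ Subgroup.normalizer (R' : Set ↥H)).map H.subtype =
      T ⊓ Subgroup.normalizer ((R'.map H.subtype : Subgroup G) : Set G) := by
  ext g
  constructor
  · rintro ⟨n, hn, rfl⟩
    obtain ⟨h1, h2⟩ := Subgroup.mem_inf.mp hn
    exact Subgroup.mem_inf.mpr ⟨Subgroup.mem_subgroupOf.mp h1, (mem_normalizer_map_subtype R' n).mpr h2⟩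
  · intro hg
    obtain ⟨hgT, hgN⟩ := Subgroup.mem_inf.mp hg
    exact ⟨⟨g, hTH hgT⟩, Subgroup.mem_inf.mpr ⟨Subgroup.mem_subgroupOf.mpr hgT,
      (mem_normalizer_map_subtype R' ⟨g, hTH hgT⟩).mp hgN⟩, rfl⟩

end rel

section ind
variable {G : Type*} [Group G] [Finite G] {p : ℕ} [Fact p.Prime]

/-- The local-to-global induction. -/
theorem rel_induction (W : Subgroup G → Subgroup G) (hW : Cfsg.IsConjugacyFunctor p W)
    (hWZ : ∀ P : Subgroup G, IsPGroup p ↥P → P ⊓ Subgroup.centralizer ((P : Subgroup G) : Set G) ≤ W P)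
    (Good : Subgroup G → Set G → Prop)
    (hGoodZ : ∀ (T : Subgroup G) (X : Set G), Good T X →
      X ⊆ ((T ⊓ Subgroup.centralizer ((T : Subgroup G) : Set G) : Subgroup G) : Set G))
    (hGoodMono : ∀ (T T₁ : Subgroup G) (X : Set G), T₁ ≤ T →
      T ⊓ Subgroup.centralizer ((T : Subgroup G) : Set G) ≤ T₁ → Good T X → Good T₁ X)
    (main : ∀ (H T : Subgroup G) (X : Set G) (𝒩 : Subgroup G), T ≤ H → IsPGroup p ↥T →
      ¬ p ∣ T.relIndex H → Good T X → X ⊆ ((Cfsg.pCoreOf p H : Subgroup G) : Set G) →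
      (∀ n ∈ 𝒩, ∀ a ∈ X, n * a * n⁻¹ ∈ X) → (∀ n : G, (∀ a ∈ X, n * a * n⁻¹ = a) → n ∈ 𝒩) →
      H ⊓ Subgroup.normalizer ((W T : Subgroup G) : Set G) ≤ 𝒩 →
      (∀ L : Subgroup G, T ≤ L → L ≤ H → L ≠ H → L ≤ 𝒩) → ¬ H ≤ 𝒩 → False) :
    ∀ (c : ℕ) (H T : Subgroup G) (X : Set G) (𝒩 : Subgroup G), Nat.card H = c → T ≤ H → IsPGroup p ↥T →
      ¬ p ∣ T.relIndex H → Good T X →
      (∀ n ∈ 𝒩, ∀ a ∈ X, n * a * n⁻¹ ∈ X) → (∀ n : G, (∀ a ∈ X, n * a * n⁻¹ = a) → n ∈ 𝒩) →
      H ⊓ Subgroup.normalizer ((W T : Subgroup G) : Set G) ≤ 𝒩 →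
      ∀ h ∈ H, (∀ a ∈ X, h * a * h⁻¹ ∈ T) → h ∈ 𝒩 := by
  intro c
  induction c using Nat.strong_induction_on with
  | _ c IH =>
  intro H T X 𝒩 hc hTH hTp hsyl hGood hstab hcen hNW h hhH hhX
  by_contra hh𝒩
  have hXZ := hGoodZ T X hGood
  have hXT : X ⊆ (T : Set G) := fun a ha => (Subgroup.mem_inf.mp (hXZ ha)).1
  -- the Sylow subgroup of ↥H
  have hT' : IsPGroup p ↥(T.subgroupOf H) := hTp.comap_subtype
  let S' : Sylow p ↥H := hT'.toSylow hsyl
  have hS' : (S' : Subgroup ↥H) = T.subgroupOf H := IsPGroup.toSylow_coe hT' hsyl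
  let X' : Set ↥H := {y | (y : G) ∈ X}
  have hX'S : X' ⊆ ((S' : Subgroup ↥H) : Set ↥H) := by
    intro y hy
    rw [hS']
    exact Subgroup.mem_subgroupOf.mpr (hXT hy)
  have hstab' : ∀ n ∈ 𝒩.subgroupOf H, ∀ a ∈ X', n * a * n⁻¹ ∈ X' := by
    intro n hn a ha
    exact hstab (n : G) (Subgroup.mem_subgroupOf.mp hn) (a : G) ha
  have hh' : ∀ a ∈ X', (⟨h, hhH⟩ : ↥H) * a * (⟨h, hhH⟩ : ↥H)⁻¹ ∈ (S' : Subgroup ↥H) := by
    intro a ha
    rw [hS']
    exact Subgroup.mem_subgroupOf.mpr (hhX (a : G) ha)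
  have hh'N : (⟨h, hhH⟩ : ↥H) ∉ 𝒩.subgroupOf H := fun hmem =>
    hh𝒩 (Subgroup.mem_subgroupOf.mp hmem)
  obtain ⟨R', hR'tame, hX'R', hR'N, hmax⟩ :=
    one_step S' X' hX'S (𝒩.subgroupOf H) hstab' ⟨h, hhH⟩ hh' hh'N
  set R : Subgroup G := R'.map H.subtype with hRdef
  have hRH : R ≤ H := Subgroup.map_subtype_le R'
  have hRT : R ≤ T := by
    rintro _ ⟨y, hy, rfl⟩
    have := hR'tame.1 hy
    rw [hS'] at this
    exact Subgroup.mem_subgroupOf.mp this
  have hXR : X ⊆ (R : Set G) := by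
    intro a ha
    exact ⟨⟨a, hTH (hXT ha)⟩, hX'R' (show (⟨a, hTH (hXT ha)⟩ : ↥H) ∈ X' from ha), rfl⟩
  obtain ⟨n', hn'N, hn'𝒩⟩ := SetLike.not_le_iff_exists.mp hR'N
  have hnN : (n' : G) ∈ Subgroup.normalizer ((R : Subgroup G) : Set G) :=
    (mem_normalizer_map_subtype R' n').mpr hn'N
  have hn𝒩 : (n' : G) ∉ 𝒩 := fun hmem => hn'𝒩 (Subgroup.mem_subgroupOf.mpr hmem)
  set N : Subgroup G := H ⊓ Subgroup.normalizer ((R : Subgroup G) : Set G) with hNdef
  set T₁ : Subgroup G := T ⊓ Subgroup.normalizer ((R : Subgroup G) : Set G) with hT₁def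
  have hT₁N : T₁ ≤ N := inf_le_inf_right _ hTH
  have hT₁T : T₁ ≤ T := inf_le_left
  have hRT₁ : R ≤ T₁ := le_inf hRT Subgroup.le_normalizer
  have hT₁p : IsPGroup p ↥T₁ := hTp.to_le hT₁T
  have hsyl₁ : ¬ p ∣ T₁.relIndex N := by
    have h1 := hR'tame.2
    rw [hS'] at h1
    have h2 := Subgroup.relIndex_map_map_of_injective
      (T.subgroupOf H ⊓ Subgroup.normalizer (R' : Set ↥H)) (Subgroup.normalizer (R' : Set ↥H))
      H.subtype_injective
    rw [inf_normalizer_map_subtype hTH R', normalizer_map_subtype R'] at h2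
    rw [hT₁def, hNdef, h2]
    exact h1
  have hZT₁ : T ⊓ Subgroup.centralizer ((T : Subgroup G) : Set G) ≤ T₁ := by
    intro z hz
    obtain ⟨hzT, hzC⟩ := Subgroup.mem_inf.mp hz
    refine Subgroup.mem_inf.mpr ⟨hzT, ?_⟩
    rw [Subgroup.mem_normalizer_iff]
    intro r
    have hcomm : ∀ r ∈ R, z * r * z⁻¹ = r := by
      intro r hr
      have := Subgroup.mem_centralizer_iff.mp hzC r (hRT hr)
      rw [← this]; group
    constructor
    · intro hr; rw [hcomm r hr]; exact hr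
    · intro hr
      have h1 := hcomm _ hr
      have h2 : z * r * z⁻¹ = r := by
        have : z⁻¹ * (z * (z * r * z⁻¹) * z⁻¹) * z = z⁻¹ * (z * r * z⁻¹) * z := by rw [h1]
        simpa [mul_assoc] using this
      rw [← h2]; exact hr
  by_cases hNH : N = H
  · -- main case
    have hHR : H ≤ Subgroup.normalizer ((R : Subgroup G) : Set G) := by
      rw [← hNH]; exact inf_le_right
    have hRQ : R ≤ Cfsg.pCoreOf p H := le_pCoreOf hRH hHR (hTp.to_le hRT)
    apply main H T X 𝒩 hTH hTp hsyl hGood (fun a ha => hRQ (hXR ha)) hstab hcen hNW ?_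
      (fun hle => hh𝒩 (hle hhH))
    intro L hTL hLH hLne l hl
    have hcardL : Nat.card L < c := by
      rw [← hc]
      apply Set.Finite.card_lt_card (Set.toFinite _)
      exact SetLike.coe_ssubset_coe.mpr (lt_of_le_of_ne hLH hLne)
    have hsylL : ¬ p ∣ T.relIndex L := fun hd =>
      hsyl (dvd_trans hd (Dvd.intro _ (Subgroup.relIndex_mul_relIndex T L H hTL hLH)))
    apply IH (Nat.card L) hcardL L T X 𝒩 rfl hTL hTp hsylL hGood hstab hcen
      (le_trans (inf_le_inf_right _ hLH) hNW) l hl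
    intro a ha
    have hlN := hHR (hLH hl)
    have := (Subgroup.mem_normalizer_iff.mp hlN a).mp (hXR ha)
    exact hRT this
  · -- induction on N
    have hNH' : N ≤ H := inf_le_left
    have hcardN : Nat.card N < c := by
      rw [← hc]
      apply Set.Finite.card_lt_card (Set.toFinite _)
      exact SetLike.coe_ssubset_coe.mpr (lt_of_le_of_ne hNH' hNH)
    have hGood₁ : Good T₁ X := hGoodMono T T₁ X hT₁T hZT₁ hGood
    have hnNN : (n' : G) ∈ N := Subgroup.mem_inf.mpr ⟨n'.2, hnN⟩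
    have hnX : ∀ a ∈ X, (n' : G) * a * (n' : G)⁻¹ ∈ T₁ := by
      intro a ha
      exact hRT₁ ((Subgroup.mem_normalizer_iff.mp hnN a).mp (hXR ha))
    have hex : ¬ N ⊓ Subgroup.normalizer ((W T₁ : Subgroup G) : Set G) ≤ 𝒩 := by
      intro hle
      exact hn𝒩 (IH (Nat.card N) hcardN N T₁ X 𝒩 rfl hT₁N hT₁p hsyl₁ hGood₁ hstab hcen hle
        (n' : G) hnNN hnX)
    obtain ⟨m, hmN, hm𝒩⟩ := SetLike.not_le_iff_exists.mp hex
    obtain ⟨hmN', hmW⟩ := Subgroup.mem_inf.mp hmN
    have hmH : m ∈ H := hNH' hmN'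
    have hT₁ne : T₁ ≠ T := by
      intro heq
      apply hm𝒩
      apply hNW
      rw [heq] at hmW
      exact Subgroup.mem_inf.mpr ⟨hmH, hmW⟩
    set U : Subgroup G := W T₁ with hUdef
    have hUT₁ : U ≤ T₁ := (hW T₁ hT₁p).1
    have hUT : U ≤ T := hUT₁.trans hT₁T
    have hUH : U ≤ H := hUT.trans hTH
    have hXU : X ⊆ (U : Set G) := by
      intro a ha
      apply hWZ T₁ hT₁p
      refine Subgroup.mem_inf.mpr ⟨hRT₁ (hXR ha), ?_⟩
      have hc := (Subgroup.mem_inf.mp (hXZ ha)).2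
      rw [Subgroup.mem_centralizer_iff] at hc ⊢
      intro t ht
      exact hc t (hT₁T ht)
    -- N_T(T₁) normalizes U
    have hNTU : T ⊓ Subgroup.normalizer ((T₁ : Subgroup G) : Set G) ≤
        T ⊓ Subgroup.normalizer ((U : Subgroup G) : Set G) := by
      intro t ht
      obtain ⟨htT, htN⟩ := Subgroup.mem_inf.mp ht
      refine Subgroup.mem_inf.mpr ⟨htT, ?_⟩
      have h1 := (hW T₁ hT₁p).2.2 t
      have h2 : T₁.map (MulAut.conj t).toMonoidHom = T₁ := by
        apply le_antisymm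
        · rintro _ ⟨y, hy, rfl⟩
          exact (Subgroup.mem_normalizer_iff.mp htN y).mp hy
        · intro y hy
          refine ⟨t⁻¹ * y * t, ?_, by simp [MulAut.conj_apply, mul_assoc]⟩
          have := (Subgroup.mem_normalizer_iff.mp (inv_mem htN) y).mp hy
          simpa using this
      rw [h2] at h1
      rw [Subgroup.mem_normalizer_iff]
      intro u
      constructor
      · intro hu
        rw [hUdef, h1]
        exact ⟨u, hu, by simp [MulAut.conj_apply]⟩
      · intro hu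
        rw [hUdef, h1] at hu
        obtain ⟨v, hv, hveq⟩ := hu
        have : v = u := by
          have := hveq
          simp only [MulEquiv.coe_toMonoidHom, MulAut.conj_apply] at this
          have h3 : t⁻¹ * (t * v * t⁻¹) * t = t⁻¹ * (t * u * t⁻¹) * t := by rw [this]
          simpa [mul_assoc] using h3
        rw [← this]; exact hv
    have hcard1 : Nat.card T₁ < Nat.card ↥(T ⊓ Subgroup.normalizer ((U : Subgroup G) : Set G)) :=
      lt_of_lt_of_le (card_lt_card_inf_normalizer hTp hT₁T hT₁ne) (Subgroup.card_le_of_le hNTU)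
    -- apply maximality
    have hU'S : U.subgroupOf H ≤ (S' : Subgroup ↥H) := by
      rw [hS']
      intro y hy
      exact Subgroup.mem_subgroupOf.mpr (hUT (Subgroup.mem_subgroupOf.mp hy))
    have hX'U : X' ⊆ ((U.subgroupOf H : Subgroup ↥H) : Set ↥H) := fun y hy =>
      Subgroup.mem_subgroupOf.mpr (hXU hy)
    have hUmap : (U.subgroupOf H).map H.subtype = U := by
      rw [Subgroup.subgroupOf_map_subtype]; exact inf_eq_left.mpr hUH
    have hcard2 : Nat.card ↥((S' : Subgroup ↥H) ⊓ Subgroup.normalizer (R' : Set ↥H)) <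
        Nat.card ↥((S' : Subgroup ↥H) ⊓ Subgroup.normalizer ((U.subgroupOf H : Subgroup ↥H) : Set ↥H)) := by
      have e1 := Subgroup.card_map_of_injective (K := T.subgroupOf H ⊓ Subgroup.normalizer (R' : Set ↥H))
        H.subtype_injective
      have e2 := Subgroup.card_map_of_injective
        (K := T.subgroupOf H ⊓ Subgroup.normalizer ((U.subgroupOf H : Subgroup ↥H) : Set ↥H))
        H.subtype_injective
      rw [inf_normalizer_map_subtype hTH R'] at e1
      rw [inf_normalizer_map_subtype hTH (U.subgroupOf H), hUmap] at e2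
      rw [hS', ← e1, ← e2]
      exact hcard1
    have hfinal := hmax (U.subgroupOf H) hU'S hX'U hcard2
    apply hm𝒩
    have hm' : (⟨m, hmH⟩ : ↥H) ∈ Subgroup.normalizer ((U.subgroupOf H : Subgroup ↥H) : Set ↥H) := by
      rw [← mem_normalizer_map_subtype, hUmap]
      exact hmW
    exact Subgroup.mem_subgroupOf.mp (hfinal hm')

end ind

end Cfsg.Agent.Lib.Helper8.WCRed
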