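import Mathlib
import Cfsg.Agent.Lib.Helper8.WCInd

/-!
Helper lemmas (helper8): the "trace argument" of Glauberman for `p`-groups generated by a normal set of
`(p-1)`-Engel elements acting on an abelian group `A` modulo an invariant subgroup `Y ≥ A^p`:
norm lemma, orbit removal, chain through normalisers.
-/

set_option autoImplicit false
open Finset

namespace Cfsg.Agent.Lib.Helper8.TraceArg


section ring
variable {R : Type*} [Ring R]

/-- `∑_{i<n} (1+D)^i = ∑_{m<n} C(n,m+1) D^m`. -/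
theorem geom_sum_one_add (D : R) (n : ℕ) :
    ∑ i ∈ range n, (1 + D) ^ i = ∑ m ∈ range n, (n.choose (m + 1)) • D ^ m := by
  induction n with
  | zero => simp
  | succ n ih =>
    rw [Finset.sum_range_succ, ih]
    have h1 : (1 + D) ^ n = ∑ m ∈ range (n + 1), (n.choose m) • D ^ m := by
      rw [add_comm, (Commute.one_right D).add_pow]
      apply Finset.sum_congr rfl
      intro m _
      simp [nsmul_eq_mul, (Nat.cast_commute (n.choose m) (D ^ m)).eq]
    rw [h1]
    have h2 : ∑ m ∈ range (n + 1), ((n + 1).choose (m + 1)) • D ^ m =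
        ∑ m ∈ range (n + 1), (n.choose m) • D ^ m + ∑ m ∈ range (n + 1), (n.choose (m + 1)) • D ^ m := by
      rw [← Finset.sum_add_distrib]
      apply Finset.sum_congr rfl
      intro m _
      rw [Nat.choose_succ_succ, add_nsmul]
    rw [h2, Finset.sum_range_succ (fun m => (n.choose (m + 1)) • D ^ m) n, Nat.choose_succ_self,
      zero_nsmul, add_zero, add_comm]

end ring

section add
variable {M : Type*} [AddCommGroup M] {p : ℕ} [Fact p.Prime]

theorem End_sum_apply (s : Finset ℕ) (F : ℕ → AddMonoid.End M) (a : M) :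
    (∑ i ∈ s, F i) a = ∑ i ∈ s, (F i) a :=
  AddMonoidHom.finsetSum_apply F s a

theorem End_nsmul_apply (c : ℕ) (g : AddMonoid.End M) (a : M) : (c • g) a = c • g a :=
  AddMonoidHom.nsmul_apply g c a

theorem End_pow_succ_apply (g : AddMonoid.End M) (k : ℕ) (a : M) :
    (g ^ (k + 1)) a = g ((g ^ k) a) := by
  rw [pow_succ']; rfl

theorem End_pow_add_apply (g : AddMonoid.End M) (k l : ℕ) (a : M) :
    (g ^ (k + l)) a = (g ^ k) ((g ^ l) a) := by
  rw [pow_add]; rfl

/-- additive norm lemma -/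
theorem add_norm_mem (f : AddMonoid.End M) (Y : AddSubgroup M) (hfY : ∀ a ∈ Y, f a ∈ Y)
    (hp : ∀ a : M, p • a ∈ Y) (hE : ∀ a : M, ((f - 1) ^ (p - 1)) a ∈ Y) (j : ℕ) (hj : j ≠ 0) (a : M) :
    (∑ i ∈ range (p ^ j), f ^ i) a ∈ Y := by
  have hpp := (Fact.out : p.Prime)
  set D : AddMonoid.End M := f - 1 with hD
  have hf : f = 1 + D := by rw [hD]; abel
  have hDY : ∀ a ∈ Y, D a ∈ Y := by
    intro a ha
    have : D a = f a - a := by rw [hD]; rfl
    rw [this]
    exact Y.sub_mem (hfY a ha) ha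
  have hDY' : ∀ (k : ℕ), ∀ a ∈ Y, (D ^ k) a ∈ Y := by
    intro k
    induction k with
    | zero => intro a ha; simpa using ha
    | succ k ih =>
      intro a ha
      rw [End_pow_succ_apply]
      exact hDY _ (ih a ha)
  rw [hf, geom_sum_one_add, End_sum_apply]
  apply AddSubgroup.sum_mem
  intro m hm
  rw [Finset.mem_range] at hm
  rw [End_nsmul_apply]
  by_cases hlast : m + 1 = p ^ j
  · rw [hlast, Nat.choose_self, one_nsmul]
    have hge : p - 1 ≤ m := by
      have : p ≤ p ^ j := by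
        calc p = p ^ 1 := (pow_one p).symm
          _ ≤ p ^ j := Nat.pow_le_pow_right hpp.pos (Nat.one_le_iff_ne_zero.mpr hj)
      omega
    obtain ⟨d, rfl⟩ := Nat.exists_eq_add_of_le hge
    rw [add_comm, End_pow_add_apply]
    exact hDY' d _ (hE a)
  · have hdvd : p ∣ (p ^ j).choose (m + 1) :=
      hpp.dvd_choose_pow (Nat.succ_ne_zero m) hlast
    obtain ⟨c, hc⟩ := hdvd
    rw [hc, mul_nsmul']
    exact hp _

end add

section mul
variable {A : Type*} [CommGroup A] {p : ℕ} [Fact p.Prime]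

/-- multiplicative norm lemma -/
theorem norm_mem (φ : A →* A) (Y : Subgroup A) (hφY : ∀ a ∈ Y, φ a ∈ Y)
    (hp : ∀ a : A, a ^ p ∈ Y) (hE : ∀ a : A, (fun b => φ b / b)^[p - 1] a ∈ Y) (j : ℕ) (hj : j ≠ 0)
    (a : A) : ∏ i ∈ range (p ^ j), φ^[i] a ∈ Y := by
  let f : AddMonoid.End (Additive A) := MonoidHom.toAdditive φ
  have h1 : ∀ (i : ℕ) (b : A), (f ^ i) (Additive.ofMul b) = Additive.ofMul (φ^[i] b) := by
    intro i
    induction i with
    | zero => intro b; rfl
    | succ i ih =>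
      intro b
      rw [End_pow_succ_apply, ih, Function.iterate_succ_apply']
      rfl
  have h2 : ∀ (i : ℕ) (b : A), ((f - 1) ^ i) (Additive.ofMul b) =
      Additive.ofMul ((fun b => φ b / b)^[i] b) := by
    intro i
    induction i with
    | zero => intro b; rfl
    | succ i ih =>
      intro b
      rw [End_pow_succ_apply, ih, Function.iterate_succ_apply']
      rfl
  have key := add_norm_mem (p := p) f (Subgroup.toAddSubgroup Y)
    (fun a ha => hφY (Additive.toMul a) ha) (fun a => hp (Additive.toMul a))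
    (fun a => by
      have := h2 (p - 1) (Additive.toMul a)
      rw [ofMul_toMul] at this
      rw [this]
      exact hE _) j hj (Additive.ofMul a)
  rw [End_sum_apply] at key
  have h3 : ∑ i ∈ range (p ^ j), (f ^ i) (Additive.ofMul a) =
      Additive.ofMul (∏ i ∈ range (p ^ j), φ^[i] a) := by
    rw [ofMul_prod]
    exact Finset.sum_congr rfl (fun i _ => h1 i a)
  rw [h3] at key
  exact key

end mul



section orbit
variable {A : Type*} [CommGroup A] {p : ℕ} [Fact p.Prime]

/-- A finite `φ`-invariant set without `φ`-fixed points, on which `φ` has `p`-power order, has product in `Y`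
as soon as all `φ`-norms of `p`-power length lie in `Y`. -/
theorem prod_mem_of_no_fixed [DecidableEq A] (φ : A ≃* A) (Y : Subgroup A)
    (hnorm : ∀ (a : A) (j : ℕ), j ≠ 0 → ∏ i ∈ range (p ^ j), φ^[i] a ∈ Y) (k : ℕ) :
    ∀ (n : ℕ) (F : Finset A), F.card = n → (∀ o ∈ F, φ o ∈ F) → (∀ o ∈ F, φ o ≠ o) →
      (∀ o ∈ F, φ^[p ^ k] o = o) → ∏ o ∈ F, o ∈ Y := by
  have hpp := (Fact.out : p.Prime)
  intro n
  induction n using Nat.strong_induction_on with
  | _ n IH =>
  intro F hcard hinv hnf hper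
  by_cases hF : F = ∅
  · subst hF; simp
  obtain ⟨o, ho⟩ := Finset.nonempty_iff_ne_empty.mpr hF
  set m := Function.minimalPeriod φ o with hm
  have hperiodic : Function.IsPeriodicPt φ (p ^ k) o := hper o ho
  have hdvd : m ∣ p ^ k := hperiodic.minimalPeriod_dvd
  obtain ⟨j, hjk, hmj⟩ := (Nat.dvd_prime_pow hpp).mp hdvd
  have hmpos : 0 < m := by rw [hmj]; exact pow_pos hpp.pos j
  have hj0 : j ≠ 0 := by
    rintro rfl
    rw [pow_zero] at hmj
    have : Function.IsPeriodicPt φ 1 o := by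
      rw [← hmj]; exact Function.isPeriodicPt_minimalPeriod φ o
    exact hnf o ho this
  have hiterF : ∀ i : ℕ, φ^[i] o ∈ F := by
    intro i
    induction i with
    | zero => exact ho
    | succ i ih => rw [Function.iterate_succ_apply']; exact hinv _ ih
  set Ω := (range m).image (fun i => φ^[i] o) with hΩ
  have hΩF : Ω ⊆ F := by
    intro a ha
    obtain ⟨i, _, rfl⟩ := Finset.mem_image.mp ha
    exact hiterF i
  have hinj : Set.InjOn (fun i => φ^[i] o) (range m : Set ℕ) := by
    intro a ha b hb hab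
    have ha' : a < m := Finset.mem_range.mp ha
    have hb' : b < m := Finset.mem_range.mp hb
    exact Function.iterate_injOn_Iio_minimalPeriod ha' hb' hab
  have hprodΩ : ∏ a ∈ Ω, a = ∏ i ∈ range m, φ^[i] o := Finset.prod_image hinj
  have hmper : φ^[m] o = o := Function.isPeriodicPt_minimalPeriod φ o
  have hpre : ∀ a : A, φ a ∈ Ω → a ∈ Ω := by
    intro a ha
    obtain ⟨i, hi, hia⟩ := Finset.mem_image.mp ha
    rw [Finset.mem_range] at hi
    cases i with
    | zero =>
      have : φ a = φ (φ^[m - 1] o) := by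
        rw [← Function.iterate_succ_apply' φ (m - 1) o]
        have : (m - 1).succ = m := by omega
        rw [this, hmper]
        exact hia.symm
      have := φ.injective this
      rw [this]
      exact Finset.mem_image.mpr ⟨m - 1, Finset.mem_range.mpr (by omega), rfl⟩
    | succ i =>
      simp only [Function.iterate_succ_apply'] at hia
      have := φ.injective hia
      rw [← this]
      exact Finset.mem_image.mpr ⟨i, Finset.mem_range.mpr (by omega), rfl⟩
  have hF'inv : ∀ a ∈ F \ Ω, φ a ∈ F \ Ω := by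
    intro a ha
    rw [Finset.mem_sdiff] at ha ⊢
    exact ⟨hinv a ha.1, fun h => ha.2 (hpre a h)⟩
  have hoΩ : o ∈ Ω := Finset.mem_image.mpr ⟨0, Finset.mem_range.mpr hmpos, rfl⟩
  have hcard' : (F \ Ω).card < n := by
    rw [← hcard]
    apply Finset.card_lt_card
    refine ⟨Finset.sdiff_subset, fun hsub => ?_⟩
    have := hsub ho
    rw [Finset.mem_sdiff] at this
    exact this.2 hoΩ
  rw [← Finset.prod_sdiff hΩF]
  apply Y.mul_mem
  · exact IH _ hcard' (F \ Ω) rfl hF'inv (fun a ha => hnf a (Finset.mem_sdiff.mp ha).1)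
      (fun a ha => hper a (Finset.mem_sdiff.mp ha).1)
  · rw [hprodΩ, hmj]
    exact hnorm o j hj0

end orbit



section gen
variable {L : Type*} [Group L] [Finite L] {p : ℕ} [Fact p.Prime]

open Cfsg.Agent.Lib.Helper12 Cfsg.Agent.Lib.Helper16 in
/-- In a `p`-group `R` generated by a normal set `𝔈`, a proper subgroup generated by a subset of `𝔈` is
normalised by an element of `𝔈` outside it. -/
theorem exists_mem_normalizer_not_mem (R : Subgroup L) (hR : IsPGroup p R) (𝔈 : Set L)
    (h𝔈 : Subgroup.closure 𝔈 = R) (hconj : ∀ r ∈ R, ∀ e ∈ 𝔈, r * e * r⁻¹ ∈ 𝔈)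
    (E' : Set L) (hE' : E' ⊆ 𝔈) (hne : Subgroup.closure E' ≠ R) :
    ∃ e ∈ 𝔈, e ∈ Subgroup.normalizer ((Subgroup.closure E' : Subgroup L) : Set L) ∧
      e ∉ Subgroup.closure E' := by
  by_contra hcon
  push Not at hcon
  set B := Subgroup.closure E' with hB
  have hBR : B ≤ R := by rw [← h𝔈]; exact Subgroup.closure_mono hE'
  set N := R ⊓ Subgroup.normalizer (B : Set L) with hN
  have hBN : B ≤ N := le_inf hBR Subgroup.le_normalizer
  have hNR : N ≤ R := inf_le_left
  have hself : R ⊓ Subgroup.normalizer (N : Set L) ≤ N := by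
    intro n hn
    obtain ⟨hnR, hnN⟩ := Subgroup.mem_inf.mp hn
    refine Subgroup.mem_inf.mpr ⟨hnR, ?_⟩
    apply mem_normalizer_of_map_conj_le
    rw [hB, MonoidHom.map_closure, Subgroup.closure_le]
    rintro _ ⟨e', he', rfl⟩
    simp only [MulEquiv.coe_toMonoidHom, MulAut.conj_apply]
    apply hcon _ (hconj n hnR e' (hE' he'))
    have h1 : e' ∈ N := hBN (Subgroup.subset_closure he')
    have h2 := (Subgroup.mem_normalizer_iff.mp hnN e').mp h1
    exact (Subgroup.mem_inf.mp h2).2
  have hNeq : N = R := by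
    by_contra hne'
    have := card_lt_card_inf_normalizer hR hNR hne'
    exact absurd (Subgroup.card_le_of_le hself) (not_le.mpr this)
  apply hne
  apply le_antisymm hBR
  rw [← h𝔈, Subgroup.closure_le]
  intro e he
  apply hcon e he
  have : e ∈ N := by rw [hNeq, ← h𝔈]; exact Subgroup.subset_closure he
  exact (Subgroup.mem_inf.mp this).2

end gen





section trace
open Classical
variable {L A : Type*} [Group L] [CommGroup A] (ρ : L →* MulAut A) {p : ℕ} [Fact p.Prime]

/-- product of the elements of `O` fixed by `B` -/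
noncomputable def fixProd (O : Finset A) (B : Subgroup L) : A :=
  ∏ o ∈ O.filter (fun o => ∀ b ∈ B, ρ b o = o), o

theorem iterate_eq_pow (e : L) (n : ℕ) (a : A) : (ρ e)^[n] a = ρ (e ^ n) a := by
  induction n with
  | zero => simp
  | succ n ih =>
    rw [Function.iterate_succ_apply', ih, pow_succ', map_mul, MulAut.mul_apply]

theorem fixed_sup_zpowers (B : Subgroup L) (e : L) (o : A) :
    (∀ b ∈ B ⊔ Subgroup.zpowers e, ρ b o = o) ↔ (∀ b ∈ B, ρ b o = o) ∧ ρ e o = o := by
  constructor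
  · intro h
    exact ⟨fun b hb => h b (Subgroup.mem_sup_left hb),
      h e (Subgroup.mem_sup_right (Subgroup.mem_zpowers e))⟩
  · rintro ⟨h1, h2⟩
    let St : Subgroup L := (MulAction.stabilizer (MulAut A) o).comap ρ
    have hSt : ∀ l : L, l ∈ St ↔ ρ l o = o := by
      intro l
      rw [Subgroup.mem_comap, MulAction.mem_stabilizer_iff, MulAut.smul_def]
    have hle : B ⊔ Subgroup.zpowers e ≤ St := by
      apply sup_le
      · intro b hb; exact (hSt b).mpr (h1 b hb)
      · rw [Subgroup.zpowers_le]; exact (hSt e).mpr h2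
    intro b hb
    exact (hSt b).mp (hle hb)

theorem engel_step (Y : Subgroup A) (O : Finset A) (B : Subgroup L) (e : L)
    (hOe : ∀ o ∈ O, ρ e o ∈ O) (heB : e ∈ Subgroup.normalizer (B : Set L))
    (k : ℕ) (hek : e ^ (p ^ k) = 1)
    (hnorm : ∀ (a : A) (j : ℕ), j ≠ 0 → ∏ i ∈ range (p ^ j), (ρ e)^[i] a ∈ Y) :
    fixProd ρ O B / fixProd ρ O (B ⊔ Subgroup.zpowers e) ∈ Y := by
  unfold fixProd
  set F₁ := O.filter (fun o => ∀ b ∈ B, ρ b o = o) with hF₁
  set F₂ := O.filter (fun o => ∀ b ∈ B ⊔ Subgroup.zpowers e, ρ b o = o) with hF₂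
  have h21 : F₂ ⊆ F₁ := by
    intro o ho
    rw [hF₂, Finset.mem_filter] at ho
    rw [hF₁, Finset.mem_filter]
    exact ⟨ho.1, ((fixed_sup_zpowers ρ B e o).mp ho.2).1⟩
  have hdiv : (∏ o ∈ F₁, o) / (∏ o ∈ F₂, o) = ∏ o ∈ F₁ \ F₂, o := by
    rw [← Finset.prod_sdiff h21]; simp
  rw [hdiv]
  have hmem : ∀ o, o ∈ F₁ \ F₂ ↔ o ∈ F₁ ∧ ρ e o ≠ o := by
    intro o
    rw [Finset.mem_sdiff]
    constructor
    · rintro ⟨h1, h2⟩
      refine ⟨h1, fun h => h2 ?_⟩
      rw [hF₁, Finset.mem_filter] at h1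
      rw [hF₂, Finset.mem_filter]
      exact ⟨h1.1, (fixed_sup_zpowers ρ B e o).mpr ⟨h1.2, h⟩⟩
    · rintro ⟨h1, h2⟩
      refine ⟨h1, fun h => h2 ?_⟩
      rw [hF₂, Finset.mem_filter] at h
      exact ((fixed_sup_zpowers ρ B e o).mp h.2).2
  have hF₁inv : ∀ o ∈ F₁, ρ e o ∈ F₁ := by
    intro o ho
    rw [hF₁, Finset.mem_filter] at ho ⊢
    refine ⟨hOe o ho.1, fun b hb => ?_⟩
    have h1 : e⁻¹ * b * e⁻¹⁻¹ ∈ B := (Subgroup.mem_normalizer_iff.mp (inv_mem heB) b).mp hb
    have h2 := ho.2 _ h1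
    have h3 : ρ b (ρ e o) = ρ e (ρ (e⁻¹ * b * e⁻¹⁻¹) o) := by
      rw [← MulAut.mul_apply, ← MulAut.mul_apply, ← map_mul, ← map_mul]
      congr 2
      group
    rw [h3, h2]
  apply prod_mem_of_no_fixed (p := p) (ρ e) Y hnorm k _ (F₁ \ F₂) rfl
  · intro o ho
    rw [hmem] at ho ⊢
    exact ⟨hF₁inv o ho.1, fun h => ho.2 ((ρ e).injective h)⟩
  · intro o ho
    exact ((hmem o).mp ho).2
  · intro o _
    rw [iterate_eq_pow, hek, map_one, MulAut.one_apply]


theorem fixProd_bot (O : Finset A) : fixProd ρ O ⊥ = ∏ o ∈ O, o := by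
  unfold fixProd
  congr 1
  apply Finset.filter_true_of_mem
  intro o _ b hb
  rw [Subgroup.mem_bot.mp hb, map_one, MulAut.one_apply]

theorem fixProd_eq_of_unique (O : Finset A) (B : Subgroup L) (x : A) (hx : x ∈ O)
    (hxfix : ∀ b ∈ B, ρ b x = x) (huniq : ∀ o ∈ O, (∀ b ∈ B, ρ b o = o) → o = x) :
    fixProd ρ O B = x := by
  unfold fixProd
  have : O.filter (fun o => ∀ b ∈ B, ρ b o = o) = {x} := by
    ext o
    rw [Finset.mem_filter, Finset.mem_singleton]
    constructor
    · rintro ⟨ho, hfix⟩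
      exact huniq o ho hfix
    · rintro rfl
      exact ⟨hx, hxfix⟩
  rw [this, Finset.prod_singleton]

/-- The trace theorem: a `p`-group `R` generated by a normal set of elements which are `(p-1)`-Engel on `A`
modulo `Y` (with `A^p ≤ Y`) fixes, modulo `Y`, the product of any finite invariant set `O` as the product of its
fixed points in `O`. -/
theorem trace_chain [Finite L] (Y : Subgroup A) (hYinv : ∀ l : L, ∀ a ∈ Y, ρ l a ∈ Y)
    (hp : ∀ a : A, a ^ p ∈ Y) (O : Finset A) (hO : ∀ l : L, ∀ o ∈ O, ρ l o ∈ O)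
    (R : Subgroup L) (hR : IsPGroup p R) (𝔈 : Set L) (h𝔈 : Subgroup.closure 𝔈 = R)
    (hconj : ∀ r ∈ R, ∀ e ∈ 𝔈, r * e * r⁻¹ ∈ 𝔈)
    (hE : ∀ e ∈ 𝔈, ∀ a : A, (fun b => ρ e b / b)^[p - 1] a ∈ Y) :
    (∏ o ∈ O, o) / fixProd ρ O R ∈ Y := by
  have key : ∀ (n : ℕ) (E' : Set L), E' ⊆ 𝔈 →
      Nat.card R - Nat.card (Subgroup.closure E') = n →
      (∏ o ∈ O, o) / fixProd ρ O (Subgroup.closure E') ∈ Y → (∏ o ∈ O, o) / fixProd ρ O R ∈ Y := by
    intro n
    induction n using Nat.strong_induction_on with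
    | _ n IH =>
    intro E' hE' hn hmem
    by_cases heq : Subgroup.closure E' = R
    · rw [← heq]; exact hmem
    obtain ⟨e, he𝔈, heN, heB⟩ := exists_mem_normalizer_not_mem R hR 𝔈 h𝔈 hconj E' hE' heq
    have heR : e ∈ R := by rw [← h𝔈]; exact Subgroup.subset_closure he𝔈
    have hcl : Subgroup.closure (E' ∪ {e}) = Subgroup.closure E' ⊔ Subgroup.zpowers e := by
      rw [Subgroup.closure_union, Subgroup.zpowers_eq_closure]
    have hsub : E' ∪ {e} ⊆ 𝔈 := by
      intro y hy
      rcases hy with hy | hy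
      · exact hE' hy
      · rw [Set.mem_singleton_iff.mp hy]; exact he𝔈
    have hleR : Subgroup.closure (E' ∪ {e}) ≤ R := by
      rw [← h𝔈]; exact Subgroup.closure_mono hsub
    have hlt : Subgroup.closure E' < Subgroup.closure (E' ∪ {e}) := by
      refine lt_of_le_of_ne (Subgroup.closure_mono Set.subset_union_left) ?_
      intro h
      apply heB
      rw [h]
      exact Subgroup.subset_closure (Set.mem_union_right _ rfl)
    have hcardlt : Nat.card (Subgroup.closure E') < Nat.card (Subgroup.closure (E' ∪ {e})) :=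
      Set.Finite.card_lt_card (Set.toFinite _) (SetLike.coe_ssubset_coe.mpr hlt)
    have hcardle : Nat.card (Subgroup.closure (E' ∪ {e})) ≤ Nat.card R := Subgroup.card_le_of_le hleR
    obtain ⟨k, hk⟩ := hR ⟨e, heR⟩
    have hek : e ^ (p ^ k) = 1 := by
      have := congrArg Subtype.val hk
      simpa using this
    have hnorm : ∀ (a : A) (j : ℕ), j ≠ 0 → ∏ i ∈ range (p ^ j), (ρ e)^[i] a ∈ Y := by
      intro a j hj
      exact norm_mem (ρ e).toMonoidHom Y (hYinv e) hp (hE e he𝔈) j hj a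
    have hstep := engel_step ρ Y O (Subgroup.closure E') e (hO e) heN k hek hnorm
    apply IH (Nat.card R - Nat.card (Subgroup.closure (E' ∪ {e}))) (by omega) (E' ∪ {e}) hsub rfl
    rw [hcl]
    have := Y.mul_mem hmem hstep
    rwa [div_mul_div_cancel] at this
  apply key _ ∅ (Set.empty_subset _) rfl
  rw [Subgroup.closure_empty, fixProd_bot, div_self']
  exact Y.one_mem

end trace

end Cfsg.Agent.Lib.Helper8.TraceArg
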