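import Mathlib
import Cfsg.Agent.Lib.Helper8.TraceArg

/-!
Helper lemmas (helper8): restriction of an action to an invariant subgroup and the fixed point form of the
trace argument.
-/

set_option autoImplicit false
open Finset

namespace Cfsg.Agent.Lib.Helper8.TraceArg

section restrict
variable {L A : Type*} [Group L] [Group A]

/-- restriction of an action by automorphisms to an invariant subgroup -/
def restrictAut (ρ : L →* MulAut A) (U : Subgroup A) (hU : ∀ l : L, ∀ a ∈ U, ρ l a ∈ U) :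
    L →* MulAut ↥U where
  toFun l :=
    { toFun := fun a => ⟨ρ l a, hU l a a.2⟩
      invFun := fun a => ⟨ρ l⁻¹ a, hU l⁻¹ a a.2⟩
      left_inv := fun a => Subtype.ext (by
        show ρ l⁻¹ (ρ l a) = a
        rw [← MulAut.mul_apply, ← map_mul, inv_mul_cancel, map_one, MulAut.one_apply])
      right_inv := fun a => Subtype.ext (by
        show ρ l (ρ l⁻¹ a) = a
        rw [← MulAut.mul_apply, ← map_mul, mul_inv_cancel, map_one, MulAut.one_apply])
      map_mul' := fun a b => Subtype.ext (by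
        show ρ l (a * b : A) = ρ l a * ρ l b
        rw [map_mul]) }
  map_one' := by
    ext a
    show ρ 1 (a : A) = a
    rw [map_one, MulAut.one_apply]
  map_mul' := fun l m => by
    ext a
    show ρ (l * m) (a : A) = ρ l (ρ m a)
    rw [map_mul, MulAut.mul_apply]

theorem restrictAut_apply (ρ : L →* MulAut A) (U : Subgroup A) (hU : ∀ l : L, ∀ a ∈ U, ρ l a ∈ U)
    (l : L) (a : ↥U) : ((restrictAut ρ U hU l a : ↥U) : A) = ρ l a := rfl

end restrict


section fixed
open Cfsg.Agent.Lib.Helper12 Cfsg.Agent.Lib.Helper16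
variable {G A : Type*} [Group G] [Finite G] [CommGroup A] {p : ℕ} [Fact p.Prime]

/-- The fixed point theorem: if every proper subgroup containing the Sylow subgroup `S` lies in `M₀`, `M₀` fixes
`x ∈ A`, and some `u ∈ S` outside `O_p(G)` has all its conjugates `(p-1)`-Engel on `A` modulo `Y ≥ A^p`, then `x`
is congruent modulo `Y` to a `G`-fixed element of `A` (the product of the orbit of `x`). -/
theorem trace_fixed (S : Sylow p G) (M₀ : Subgroup G)
    (hM₀ : ∀ K : Subgroup G, (S : Subgroup G) ≤ K → K ≠ ⊤ → K ≤ M₀)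
    (u : G) (huS : u ∈ (S : Subgroup G)) (huQ : u ∉ Cfsg.pCore p G)
    (ρ : G →* MulAut A) (Y : Subgroup A) (hYinv : ∀ g : G, ∀ a ∈ Y, ρ g a ∈ Y)
    (hp : ∀ a : A, a ^ p ∈ Y)
    (hE : ∀ c : G, ∀ a : A, (fun b => ρ (c * u * c⁻¹) b / b)^[p - 1] a ∈ Y)
    (x : A) (hx : ∀ m ∈ M₀, ρ m x = x) :
    ∃ y : A, (∀ g : G, ρ g y = y) ∧ y / x ∈ Y := by
  classical
  have hStop : (S : Subgroup G) ≠ ⊤ := by
    intro h
    apply huQ
    have hn : ((S : Subgroup G)).Normal := by rw [h]; infer_instance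
    exact le_pCore hn S.2 huS
  have hSM : (S : Subgroup G) ≤ M₀ := hM₀ _ le_rfl hStop
  let 𝔈 : Set G := {e | e ∈ (S : Subgroup G) ∧ ∃ c : G, e = c * u * c⁻¹}
  set R := Subgroup.closure 𝔈 with hR
  have hRS : R ≤ S := (Subgroup.closure_le _).mpr (fun e he => he.1)
  have hRp : IsPGroup p R := S.2.to_le hRS
  have hconjS : ∀ s ∈ (S : Subgroup G), ∀ e ∈ 𝔈, s * e * s⁻¹ ∈ 𝔈 := by
    intro s hs e he
    refine ⟨mul_mem (mul_mem hs he.1) (inv_mem hs), ?_⟩
    obtain ⟨c, rfl⟩ := he.2
    exact ⟨s * c, by group⟩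
  have hu𝔈 : u ∈ 𝔈 := ⟨huS, ⟨1, by simp⟩⟩
  have huR : u ∈ R := Subgroup.subset_closure hu𝔈
  have hSN : (S : Subgroup G) ≤ Subgroup.normalizer (R : Set G) := by
    intro s hs
    apply mem_normalizer_of_map_conj_le
    rw [hR, MonoidHom.map_closure, Subgroup.closure_le]
    rintro _ ⟨e, he, rfl⟩
    exact Subgroup.subset_closure (hconjS s hs e he)
  have hNtop : Subgroup.normalizer (R : Set G) ≠ ⊤ := by
    intro h
    have hRn : R.Normal := Subgroup.normalizer_eq_top_iff.mp h
    exact huQ (le_pCore hRn hRp huR)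
  have hNM : Subgroup.normalizer (R : Set G) ≤ M₀ := hM₀ _ hSN hNtop
  have hkeyN : ∀ h : G, (∀ r ∈ R, h * r * h⁻¹ ∈ (S : Subgroup G)) →
      h ∈ Subgroup.normalizer (R : Set G) := by
    intro h hh
    apply mem_normalizer_of_map_conj_le
    rw [hR, MonoidHom.map_closure, Subgroup.closure_le]
    rintro _ ⟨e, he, rfl⟩
    apply Subgroup.subset_closure
    refine ⟨hh e (Subgroup.subset_closure he), ?_⟩
    obtain ⟨c, rfl⟩ := he.2
    refine ⟨h * c, ?_⟩
    simp only [MulEquiv.coe_toMonoidHom, MulAut.conj_apply]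
    group
  -- the stabiliser of x
  let Mx : Subgroup G := (MulAction.stabilizer (MulAut A) x).comap ρ
  have hMx : ∀ l : G, l ∈ Mx ↔ ρ l x = x := by
    intro l
    rw [Subgroup.mem_comap, MulAction.mem_stabilizer_iff, MulAut.smul_def]
  have hM₀Mx : M₀ ≤ Mx := fun m hm => (hMx m).mpr (hx m hm)
  have hfixL : ∀ c : G, (∀ r ∈ R, ρ r (ρ c x) = ρ c x) → ρ c x = x := by
    intro c hc
    have hSMx : (S : Subgroup G) ≤ Mx := hSM.trans hM₀Mx
    have hsyl : ¬ p ∣ (S : Subgroup G).relIndex Mx := sylow_not_dvd_relIndex S Mx hSMx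
    set R' := R.map (MulAut.conj c⁻¹).toMonoidHom with hR'
    have hR'M : R' ≤ Mx := by
      rintro _ ⟨r, hr, rfl⟩
      rw [hMx]
      simp only [MulEquiv.coe_toMonoidHom, MulAut.conj_apply, inv_inv]
      rw [map_mul, map_mul, MulAut.mul_apply, MulAut.mul_apply, hc r hr, ← MulAut.mul_apply,
        ← map_mul, inv_mul_cancel, map_one, MulAut.one_apply]
    obtain ⟨m, hmM, hm⟩ := exists_conj_mem_of_relIndex (S : Subgroup G) Mx R' S.2 hsyl hR'M
      (hRp.map _)
    have hmc : m * c⁻¹ ∈ Subgroup.normalizer (R : Set G) := by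
      apply hkeyN
      intro r hr
      have := hm (c⁻¹ * r * c) ⟨r, hr, by simp⟩
      have e : m * c⁻¹ * r * (m * c⁻¹)⁻¹ = m * (c⁻¹ * r * c) * m⁻¹ := by group
      rw [e]; exact this
    have h1 : m * c⁻¹ ∈ Mx := hM₀Mx (hNM hmc)
    have h2 : c⁻¹ ∈ Mx := by
      have : c⁻¹ = m⁻¹ * (m * c⁻¹) := by group
      rw [this]
      exact Mx.mul_mem (Mx.inv_mem hmM) h1
    have h3 : c ∈ Mx := by
      have := Mx.inv_mem h2
      rwa [inv_inv] at this
    exact (hMx c).mp h3
  have : Fintype G := Fintype.ofFinite G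
  let O : Finset A := Finset.univ.image (fun l : G => ρ l x)
  have hO : ∀ l : G, ∀ o ∈ O, ρ l o ∈ O := by
    intro l o ho
    obtain ⟨c, _, rfl⟩ := Finset.mem_image.mp ho
    exact Finset.mem_image.mpr ⟨l * c, Finset.mem_univ _, by rw [map_mul, MulAut.mul_apply]⟩
  have hprodfix : ∀ l : G, ρ l (∏ o ∈ O, o) = ∏ o ∈ O, o := by
    intro l
    rw [map_prod]
    have himg : O.image (ρ l) = O := by
      apply Finset.eq_of_subset_of_card_le
      · intro o ho
        obtain ⟨o', ho', rfl⟩ := Finset.mem_image.mp ho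
        exact hO l o' ho'
      · rw [Finset.card_image_of_injective _ (ρ l).injective]
    conv_rhs => rw [← himg]
    rw [Finset.prod_image (fun a _ b _ h => (ρ l).injective h)]
  have hfixA : fixProd ρ O R = x := by
    apply fixProd_eq_of_unique ρ O R x
    · exact Finset.mem_image.mpr ⟨1, Finset.mem_univ _, by simp⟩
    · intro b hb
      exact hx b (hSM (hRS hb))
    · intro o ho hfix
      obtain ⟨c, _, rfl⟩ := Finset.mem_image.mp ho
      exact hfixL c hfix
  have hfinal := trace_chain ρ Y hYinv hp O hO R hRp 𝔈 rfl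
    (fun r hr e he => hconjS r (hRS hr) e he)
    (fun e he a => by obtain ⟨c, rfl⟩ := he.2; exact hE c a)
  rw [hfixA] at hfinal
  exact ⟨∏ o ∈ O, o, hprodfix, hfinal⟩

end fixed

end Cfsg.Agent.Lib.Helper8.TraceArg
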