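import Mathlib
import Cfsg.Prelude.Def_LocalEven
import Cfsg.Prelude.Def_PLocal
import Cfsg.Agent.Lib.Helper8.TraceArg

set_option autoImplicit false
open Finset

namespace Cfsg.Agent.Lib.Helper8.TraceArg

open scoped commutatorElement
open Cfsg.Agent.Lib.Helper12 Cfsg.Agent.Lib.Helper16

section helpers
variable {L : Type*} [Group L]

theorem iterCommutator_map {L' : Type*} [Group L'] (f : L →* L') (N K : Subgroup L) (k : ℕ) :
    (Cfsg.iterCommutator N K k).map f = Cfsg.iterCommutator (N.map f) (K.map f) k := by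
  induction k with
  | zero => rfl
  | succ k ih =>
    simp only [Cfsg.iterCommutator]
    rw [Subgroup.map_commutator, ih]

theorem iterate_comm_mem (N : Subgroup L) (e : L) (k : ℕ) (a : L) (ha : a ∈ N) :
    (fun b => e * b * e⁻¹ * b⁻¹)^[k] a ∈ Cfsg.iterCommutator N (Subgroup.zpowers e) k := by
  induction k with
  | zero => exact ha
  | succ k ih =>
    rw [Function.iterate_succ_apply']
    set b := (fun b => e * b * e⁻¹ * b⁻¹)^[k] a with hb
    have h1 : ⁅b, e⁆ ∈ ⁅Cfsg.iterCommutator N (Subgroup.zpowers e) k, Subgroup.zpowers e⁆ :=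
      Subgroup.commutator_mem_commutator ih (Subgroup.mem_zpowers e)
    have h2 : e * b * e⁻¹ * b⁻¹ = ⁅b, e⁆⁻¹ := by
      rw [commutatorElement_inv, commutatorElement_def]
    show e * b * e⁻¹ * b⁻¹ ∈ ⁅Cfsg.iterCommutator N (Subgroup.zpowers e) k, Subgroup.zpowers e⁆
    rw [h2]
    exact Subgroup.inv_mem _ h1

variable {p : ℕ}

/-- `p`-th powers of an abelian `p`-group chief factor are trivial. -/
theorem pow_mem_of_chief {U Y : Subgroup L} (hchief : Cfsg.IsChiefFactor U Y)
    (hUcomm : ∀ a ∈ U, ∀ b ∈ U, a * b = b * a) (hUp : IsPGroup p U) : ∀ v ∈ U, v ^ p ∈ Y := by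
  classical
  obtain ⟨hYU, hUn, hYn, hmin⟩ := hchief
  let N : Subgroup L :=
    { carrier := {v | v ∈ U ∧ v ^ p ∈ Y}
      mul_mem' := by
        rintro a b ⟨ha, hap⟩ ⟨hb, hbp⟩
        refine ⟨U.mul_mem ha hb, ?_⟩
        have hc : Commute a b := hUcomm a ha b hb
        rw [hc.mul_pow]
        exact Y.mul_mem hap hbp
      one_mem' := ⟨U.one_mem, by rw [one_pow]; exact Y.one_mem⟩
      inv_mem' := by
        rintro a ⟨ha, hap⟩
        refine ⟨U.inv_mem ha, ?_⟩
        rw [inv_pow]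
        exact Y.inv_mem hap }
  have hNmem : ∀ v, v ∈ N ↔ v ∈ U ∧ v ^ p ∈ Y := fun v => Iff.rfl
  have hNn : N.Normal := by
    constructor
    intro v hv l
    rw [hNmem] at hv ⊢
    refine ⟨hUn.conj_mem v hv.1 l, ?_⟩
    rw [conj_pow]
    exact hYn.conj_mem _ hv.2 l
  have hYN : Y ≤ N := fun v hv => (hNmem v).mpr ⟨hYU.le hv, Y.pow_mem hv p⟩
  have hNU : N ≤ U := fun v hv => ((hNmem v).mp hv).1
  rcases hmin N hNn hYN hNU with h | h
  · exfalso
    obtain ⟨v, hvU, hvY⟩ := SetLike.exists_of_lt hYU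
    obtain ⟨k, hk⟩ := hUp ⟨v, hvU⟩
    have hk' : v ^ (p ^ k) = 1 := by
      have := congrArg Subtype.val hk
      simpa using this
    have hex : ∃ k, v ^ (p ^ k) ∈ Y := ⟨k, by rw [hk']; exact Y.one_mem⟩
    have h0 : Nat.find hex ≠ 0 := by
      intro h0
      have := Nat.find_spec hex
      rw [h0, pow_zero, pow_one] at this
      exact hvY this
    obtain ⟨k', hk'⟩ := Nat.exists_eq_succ_of_ne_zero h0
    have hw : v ^ (p ^ k') ∉ Y := Nat.find_min hex (by omega)
    apply hw
    rw [← h, hNmem]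
    refine ⟨U.pow_mem hvU _, ?_⟩
    have := Nat.find_spec hex
    rw [hk', pow_succ, pow_mul] at this
    exact this
  · intro v hv
    have : v ∈ N := by rw [h]; exact hv
    exact ((hNmem v).mp this).2

end helpers


section main
variable {L : Type*} [Group L] [Finite L] {p : ℕ} [Fact p.Prime]

/-- The main case of Glauberman's theorem on weak closure of elements under an Engel condition. -/
theorem main_engel (S : Sylow p L) (x : L)
    (_hxS : x ∈ (S : Subgroup L)) (hxZ : ∀ s ∈ (S : Subgroup L), s * x = x * s)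
    (hxQ : x ∈ Cfsg.pCore p L)
    (hprop : ∀ K : Subgroup L, (S : Subgroup L) ≤ K → K ≠ ⊤ → ∀ k ∈ K, k * x = x * k)
    (hnc : ∃ l : L, l * x ≠ x * l) (g : L) (hgS : g ∈ (S : Subgroup L)) (hgQ : g ∉ Cfsg.pCore p L)
    (hEngel : ∀ U V : Subgroup L, Cfsg.IsChiefFactor U V →
      U ≤ Cfsg.pCore p L ⊓ Subgroup.centralizer ((Cfsg.pCore p L : Subgroup L) : Set L) →
      Cfsg.iterCommutator U (Subgroup.zpowers g) (p - 1) ≤ V) : False := by
  classical
  have hpp := (Fact.out : p.Prime)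
  set Q := Cfsg.pCore p L with hQ
  have hQn : Q.Normal := inferInstance
  have hQp : IsPGroup p Q := pCore_isPGroup
  have hQS : Q ≤ S := pCore_le_sylow S
  set Z₀ := Q ⊓ Subgroup.centralizer ((Q : Subgroup L) : Set L) with hZ₀
  have hCn : (Subgroup.centralizer ((Q : Subgroup L) : Set L)).Normal := Subgroup.normal_centralizer
  have hZ₀n : Z₀.Normal := inferInstance
  have hxZ₀ : x ∈ Z₀ := by
    refine Subgroup.mem_inf.mpr ⟨hxQ, ?_⟩
    rw [Subgroup.mem_centralizer_iff]
    intro q hq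
    exact hxZ q (hQS hq)
  set V' := Subgroup.normalClosure ({x} : Set L) with hV'
  have hV'n : V'.Normal := Subgroup.normalClosure_normal
  have hxV : x ∈ V' := Subgroup.subset_normalClosure (Set.mem_singleton x)
  have hV'Z₀ : V' ≤ Z₀ := Subgroup.normalClosure_le_normal (by
    intro y hy; rw [Set.mem_singleton_iff.mp hy]; exact hxZ₀)
  have hV'comm : ∀ a ∈ V', ∀ b ∈ V', a * b = b * a := by
    intro a ha b hb
    have h1 := (Subgroup.mem_inf.mp (hV'Z₀ hb)).2
    exact Subgroup.mem_centralizer_iff.mp h1 a (Subgroup.mem_inf.mp (hV'Z₀ ha)).1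
  have hV'p : IsPGroup p V' := hQp.to_le (hV'Z₀.trans inf_le_left)
  -- the chief factor
  set Zc := V' ⊓ Subgroup.center L with hZc
  have hZcn : Zc.Normal := inferInstance
  have hxZc : x ∉ Zc := by
    intro h
    obtain ⟨l, hl⟩ := hnc
    exact hl (Subgroup.mem_center_iff.mp (Subgroup.mem_inf.mp h).2 l)
  let 𝒴 : Set (Subgroup L) := {N | N.Normal ∧ Zc ≤ N ∧ N < V'}
  have hZc𝒴 : Zc ∈ 𝒴 := ⟨hZcn, le_rfl, lt_of_le_of_ne inf_le_left (fun h => hxZc (h ▸ hxV))⟩
  obtain ⟨Y, hZcY, hYmax⟩ := (Set.toFinite 𝒴).exists_le_maximal hZc𝒴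
  obtain ⟨hYn, _, hYV⟩ := hYmax.prop
  have := hYn
  have hchief : Cfsg.IsChiefFactor V' Y := by
    refine ⟨hYV, hV'n, hYn, fun N hN hYN hNV => ?_⟩
    by_cases h : N = V'
    · exact Or.inr h
    · left
      have hN𝒴 : N ∈ 𝒴 := ⟨hN, hZcY.trans hYN, lt_of_le_of_ne hNV h⟩
      exact le_antisymm (hYmax.le_of_ge hN𝒴 hYN) hYN
  have hEng := hEngel V' Y hchief hV'Z₀
  have hpow := pow_mem_of_chief hchief hV'comm hV'p
  -- Engel for conjugates
  have hEngc : ∀ c : L, Cfsg.iterCommutator V' (Subgroup.zpowers (c * g * c⁻¹)) (p - 1) ≤ Y := by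
    intro c
    have hmapV : V'.map (MulAut.conj c).toMonoidHom = V' :=
      Subgroup.mem_normalizer_iff_map_conj_eq.mp (by rw [Subgroup.normalizer_eq_top]; trivial)
    have hmapY : Y.map (MulAut.conj c).toMonoidHom = Y :=
      Subgroup.mem_normalizer_iff_map_conj_eq.mp (by rw [Subgroup.normalizer_eq_top]; trivial)
    have hz : Subgroup.zpowers (c * g * c⁻¹) =
        (Subgroup.zpowers g).map (MulAut.conj c).toMonoidHom := by
      rw [MonoidHom.map_zpowers]; rfl
    rw [hz]
    nth_rewrite 1 [← hmapV]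
    rw [← iterCommutator_map, ← hmapY]
    exact Subgroup.map_mono hEng
  -- the group R
  let 𝔈 : Set L := {e | e ∈ (S : Subgroup L) ∧ (e ∈ Q ∨ ∃ c : L, e = c * g * c⁻¹)}
  set R := Subgroup.closure 𝔈 with hR
  have hRS : R ≤ S := (Subgroup.closure_le _).mpr (fun e he => he.1)
  have hRp : IsPGroup p R := S.2.to_le hRS
  have hconjS : ∀ s ∈ (S : Subgroup L), ∀ e ∈ 𝔈, s * e * s⁻¹ ∈ 𝔈 := by
    intro s hs e he
    refine ⟨mul_mem (mul_mem hs he.1) (inv_mem hs), ?_⟩
    rcases he.2 with h | ⟨c, rfl⟩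
    · left; exact hQn.conj_mem e h s
    · right; exact ⟨s * c, by group⟩
  have hg𝔈 : g ∈ 𝔈 := ⟨hgS, Or.inr ⟨1, by simp⟩⟩
  have hgR : g ∈ R := Subgroup.subset_closure hg𝔈
  have hSN : (S : Subgroup L) ≤ Subgroup.normalizer (R : Set L) := by
    intro s hs
    apply mem_normalizer_of_map_conj_le
    rw [hR, MonoidHom.map_closure, Subgroup.closure_le]
    rintro _ ⟨e, he, rfl⟩
    exact Subgroup.subset_closure (hconjS s hs e he)
  have hNtop : Subgroup.normalizer (R : Set L) ≠ ⊤ := by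
    intro h
    have hRn : R.Normal := Subgroup.normalizer_eq_top_iff.mp h
    exact hgQ (le_pCore hRn hRp hgR)
  have hNx : ∀ n ∈ Subgroup.normalizer (R : Set L), n * x = x * n := hprop _ hSN hNtop
  have hkeyN : ∀ h : L, (∀ r ∈ R, h * r * h⁻¹ ∈ (S : Subgroup L)) →
      h ∈ Subgroup.normalizer (R : Set L) := by
    intro h hh
    apply mem_normalizer_of_map_conj_le
    rw [hR, MonoidHom.map_closure, Subgroup.closure_le]
    rintro _ ⟨e, he, rfl⟩
    apply Subgroup.subset_closure
    refine ⟨hh e (Subgroup.subset_closure he), ?_⟩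
    rcases he.2 with h1 | ⟨c, rfl⟩
    · left; exact hQn.conj_mem e h1 h
    · right
      refine ⟨h * c, ?_⟩
      simp only [MulEquiv.coe_toMonoidHom, MulAut.conj_apply]
      group
  have hfixL : ∀ c : L, (∀ r ∈ R, r * (c * x * c⁻¹) = (c * x * c⁻¹) * r) → c * x * c⁻¹ = x := by
    intro c hc
    set M' := Subgroup.centralizer ({x} : Set L) with hM'
    have hmemM : ∀ m, m ∈ M' ↔ m * x = x * m := by
      intro m
      rw [hM', Subgroup.mem_centralizer_iff]
      constructor
      · intro h; exact (h x (Set.mem_singleton x)).symm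
      · intro h y hy; rw [Set.mem_singleton_iff.mp hy]; exact h.symm
    have hSM : (S : Subgroup L) ≤ M' := fun s hs => (hmemM s).mpr (hxZ s hs)
    have hsyl : ¬ p ∣ (S : Subgroup L).relIndex M' := sylow_not_dvd_relIndex S M' hSM
    set R' := R.map (MulAut.conj c⁻¹).toMonoidHom with hR'
    have hR'M : R' ≤ M' := by
      rintro _ ⟨r, hr, rfl⟩
      rw [hmemM]
      simp only [MulEquiv.coe_toMonoidHom, MulAut.conj_apply, inv_inv]
      have := hc r hr
      calc c⁻¹ * r * c * x = c⁻¹ * (r * (c * x * c⁻¹)) * c := by group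
        _ = c⁻¹ * ((c * x * c⁻¹) * r) * c := by rw [this]
        _ = x * (c⁻¹ * r * c) := by group
    obtain ⟨m, hmM, hm⟩ := exists_conj_mem_of_relIndex (S : Subgroup L) M' R' S.2 hsyl hR'M
      (hRp.map _)
    have hmc : m * c⁻¹ ∈ Subgroup.normalizer (R : Set L) := by
      apply hkeyN
      intro r hr
      have := hm (c⁻¹ * r * c) ⟨r, hr, by simp⟩
      have e : m * c⁻¹ * r * (m * c⁻¹)⁻¹ = m * (c⁻¹ * r * c) * m⁻¹ := by group
      rw [e]; exact this
    have h1 := hNx _ hmc
    have h2 := (hmemM m).mp hmM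
    have h3 : c⁻¹ * x = x * c⁻¹ := by
      have : m * (c⁻¹ * x) = m * (x * c⁻¹) := by
        calc m * (c⁻¹ * x) = m * c⁻¹ * x := by group
          _ = x * (m * c⁻¹) := h1
          _ = (x * m) * c⁻¹ := by group
          _ = (m * x) * c⁻¹ := by rw [h2]
          _ = m * (x * c⁻¹) := by group
      exact mul_left_cancel this
    calc c * x * c⁻¹ = c * (x * c⁻¹) := by group
      _ = c * (c⁻¹ * x) := by rw [h3]
      _ = x := by group
  -- the abelian group A = V'
  let instA : CommGroup ↥V' :=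
    { (inferInstance : Group ↥V') with
      mul_comm := fun a b => Subtype.ext (hV'comm a.1 a.2 b.1 b.2) }
  let ρ : L →* MulAut ↥V' := MulAut.conjNormal
  have hρ : ∀ (l : L) (a : ↥V'), ((ρ l a : ↥V') : L) = l * a * l⁻¹ :=
    fun l a => MulAut.conjNormal_apply l a
  let YA : Subgroup ↥V' := Y.subgroupOf V'
  have hYA : ∀ a : ↥V', a ∈ YA ↔ (a : L) ∈ Y := fun a => Subgroup.mem_subgroupOf
  let xA : ↥V' := ⟨x, hxV⟩
  have : Fintype L := Fintype.ofFinite L
  let O : Finset ↥V' := Finset.univ.image (fun l : L => ρ l xA)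
  have hO : ∀ l : L, ∀ o ∈ O, ρ l o ∈ O := by
    intro l o ho
    obtain ⟨c, _, rfl⟩ := Finset.mem_image.mp ho
    exact Finset.mem_image.mpr ⟨l * c, Finset.mem_univ _, by rw [map_mul, MulAut.mul_apply]⟩
  have hYinv : ∀ l : L, ∀ a ∈ YA, ρ l a ∈ YA := by
    intro l a ha
    rw [hYA] at ha ⊢
    rw [hρ]
    exact hYn.conj_mem _ ha l
  have hpA : ∀ a : ↥V', a ^ p ∈ YA := by
    intro a
    rw [hYA]
    exact hpow a.1 a.2
  have hE : ∀ e ∈ 𝔈, ∀ a : ↥V', (fun b => ρ e b / b)^[p - 1] a ∈ YA := by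
    intro e he a
    rcases he.2 with h | ⟨c, rfl⟩
    · have htriv : ∀ b : ↥V', ρ e b / b = 1 := by
        intro b
        rw [div_eq_one]
        apply Subtype.ext
        rw [hρ]
        have h1 := (Subgroup.mem_inf.mp (hV'Z₀ b.2)).2
        have := Subgroup.mem_centralizer_iff.mp h1 e h
        rw [this]; group
      obtain ⟨n, hn⟩ : ∃ n, p - 1 = n + 1 := ⟨p - 2, by have := hpp.two_le; omega⟩
      rw [hn, Function.iterate_succ_apply', htriv]
      exact YA.one_mem
    · have hcoe : ∀ (k : ℕ), (((fun b : ↥V' => ρ (c * g * c⁻¹) b / b)^[k] a : ↥V') : L) =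
          (fun b : L => (c * g * c⁻¹) * b * (c * g * c⁻¹)⁻¹ * b⁻¹)^[k] (a : L) := by
        intro k
        induction k with
        | zero => rfl
        | succ k ih =>
          rw [Function.iterate_succ_apply', Function.iterate_succ_apply', ← ih]
          simp only [div_eq_mul_inv, Subgroup.coe_mul, Subgroup.coe_inv, hρ]
      rw [hYA, hcoe]
      exact hEngc c (iterate_comm_mem V' _ _ _ a.2)
  have hprodfix : ∀ l : L, ρ l (∏ o ∈ O, o) = ∏ o ∈ O, o := by
    intro l
    rw [map_prod]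
    have himg : O.image (ρ l) = O := by
      apply Finset.eq_of_subset_of_card_le
      · intro o ho
        obtain ⟨o', ho', rfl⟩ := Finset.mem_image.mp ho
        exact hO l o' ho'
      · rw [Finset.card_image_of_injective _ (ρ l).injective]
    conv_rhs => rw [← himg]
    rw [Finset.prod_image (fun a _ b _ h => (ρ l).injective h)]
  have hprodY : (∏ o ∈ O, o) ∈ YA := by
    rw [hYA]
    apply hZcY
    refine Subgroup.mem_inf.mpr ⟨(∏ o ∈ O, o).2, ?_⟩
    rw [Subgroup.mem_center_iff]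
    intro l
    have := congrArg Subtype.val (hprodfix l)
    rw [hρ] at this
    calc l * ((∏ o ∈ O, o : ↥V') : L) = (l * ((∏ o ∈ O, o : ↥V') : L) * l⁻¹) * l := by group
      _ = ((∏ o ∈ O, o : ↥V') : L) * l := by rw [this]
  have hfixA : fixProd ρ O R = xA := by
    apply fixProd_eq_of_unique ρ O R xA
    · exact Finset.mem_image.mpr ⟨1, Finset.mem_univ _, by simp⟩
    · intro b hb
      apply Subtype.ext
      rw [hρ]
      have := hxZ b (hRS hb)
      show b * x * b⁻¹ = x
      rw [this]; group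
    · intro o ho hfix
      obtain ⟨c, _, rfl⟩ := Finset.mem_image.mp ho
      apply Subtype.ext
      rw [hρ]
      apply hfixL c
      intro r hr
      have := congrArg Subtype.val (hfix r hr)
      rw [hρ, hρ] at this
      calc r * (c * x * c⁻¹) = (r * (c * x * c⁻¹) * r⁻¹) * r := by group
        _ = (c * x * c⁻¹) * r := by rw [this]
  have hfinal := trace_chain ρ YA hYinv hpA O hO R hRp 𝔈 rfl
    (fun r hr e he => hconjS r (hRS hr) e he) hE
  rw [hfixA] at hfinal
  have hxY : xA ∈ YA := by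
    have := YA.mul_mem (YA.inv_mem hfinal) hprodY
    simpa using this
  have hxY' : x ∈ Y := (hYA xA).mp hxY
  have hle : V' ≤ Y := Subgroup.normalClosure_le_normal (by
    intro y hy; rw [Set.mem_singleton_iff.mp hy]; exact hxY')
  exact lt_irrefl _ (lt_of_lt_of_le hYV hle)

end main

end Cfsg.Agent.Lib.Helper8.TraceArg
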