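import Mathlib
import Cfsg.Agent.Lib.Helper8.TraceFix
import Cfsg.Agent.Lib.Helper8.TraceMain
import Cfsg.Agent.Lib.Helper8.ChiefP

/-!
Helper lemmas (helper8): the action of `G` on `Hom(X, B)` for a normal subgroup `X` and an abelian group `B`, and
the dual form of the trace argument: a homomorphism from the unique maximal overgroup `M₀` of a Sylow subgroup to an
abelian group, trivial on the lower term `Y` of a chief factor `X/Y` on which some `u ∈ S ∖ O_p(G)` is `(p-1)`-Engel, is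
`G`-invariant on `X`.
-/

set_option autoImplicit false
set_option linter.style.haveILetI false

namespace Cfsg.Agent.Lib.Helper8.TraceArg

open scoped commutatorElement

section homact
variable {G : Type*} [Group G] (X : Subgroup G) [X.Normal] (B : Type*) [CommGroup B]

/-- the action of `G` on `Hom(X, B)` by `(g φ)(v) = φ(g⁻¹ v g)` -/
def homAct : G →* MulAut (↥X →* B) where
  toFun g :=
    { toFun := fun φ => φ.comp (MulAut.conjNormal g⁻¹ : ↥X ≃* ↥X).toMonoidHom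
      invFun := fun φ => φ.comp (MulAut.conjNormal g : ↥X ≃* ↥X).toMonoidHom
      left_inv := fun φ => by
        ext v
        show φ ((MulAut.conjNormal g⁻¹ : ↥X ≃* ↥X) ((MulAut.conjNormal g : ↥X ≃* ↥X) v)) = φ v
        rw [← MulAut.mul_apply, ← map_mul, inv_mul_cancel, map_one, MulAut.one_apply]
      right_inv := fun φ => by
        ext v
        show φ ((MulAut.conjNormal g : ↥X ≃* ↥X) ((MulAut.conjNormal g⁻¹ : ↥X ≃* ↥X) v)) = φ v
        rw [← MulAut.mul_apply, ← map_mul, mul_inv_cancel, map_one, MulAut.one_apply]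
      map_mul' := fun φ ψ => rfl }
  map_one' := by
    ext φ v
    show φ ((MulAut.conjNormal (1 : G)⁻¹ : ↥X ≃* ↥X) v) = φ v
    rw [inv_one, map_one, MulAut.one_apply]
  map_mul' := fun g h => by
    ext φ v
    show φ ((MulAut.conjNormal (g * h)⁻¹ : ↥X ≃* ↥X) v) =
      φ ((MulAut.conjNormal h⁻¹ : ↥X ≃* ↥X) ((MulAut.conjNormal g⁻¹ : ↥X ≃* ↥X) v))
    rw [mul_inv_rev, map_mul, MulAut.mul_apply]

theorem homAct_apply (g : G) (φ : ↥X →* B) (v : ↥X) :
    (homAct X B g φ) v = φ ((MulAut.conjNormal g⁻¹ : ↥X ≃* ↥X) v) := rfl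

end homact


section beta
open Cfsg.Agent.Lib.Helper12 Cfsg.Agent.Lib.Helper16
variable {G : Type*} [Group G] [Finite G] {p : ℕ} [Fact p.Prime]

/-- The dual form of the trace argument. -/
theorem hom_invariant_of_engel (S : Sylow p G) (M₀ : Subgroup G)
    (hM₀ : ∀ K : Subgroup G, (S : Subgroup G) ≤ K → K ≠ ⊤ → K ≤ M₀)
    (u : G) (huS : u ∈ (S : Subgroup G)) (huQ : u ∉ Cfsg.pCore p G)
    (X Y : Subgroup G) (hchief : Cfsg.IsChiefFactor X Y) (hXp : IsPGroup p X) (hXM : X ≤ M₀)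
    (hEng : Cfsg.iterCommutator X (Subgroup.zpowers u) (p - 1) ≤ Y)
    {B : Type*} [CommGroup B] (π : ↥M₀ →* B) (hπY : ∀ y : ↥M₀, (y : G) ∈ Y → π y = 1) :
    ∀ (g : G) (v : G) (hv : v ∈ X),
      π ⟨g * v * g⁻¹, hXM (hchief.2.1.conj_mem v hv g)⟩ = π ⟨v, hXM hv⟩ := by
  classical
  obtain ⟨hYX, hXn, hYn, hmin⟩ := id hchief
  haveI := hXn
  haveI := hYn
  have hpow := pow_mem_of_chief' hchief hXp
  have hEngc : ∀ c : G, Cfsg.iterCommutator X (Subgroup.zpowers (c * u * c⁻¹)⁻¹) (p - 1) ≤ Y := by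
    intro c
    rw [Subgroup.zpowers_inv]
    have hmapX : X.map (MulAut.conj c).toMonoidHom = X :=
      Subgroup.mem_normalizer_iff_map_conj_eq.mp (by rw [Subgroup.normalizer_eq_top]; trivial)
    have hmapY : Y.map (MulAut.conj c).toMonoidHom = Y :=
      Subgroup.mem_normalizer_iff_map_conj_eq.mp (by rw [Subgroup.normalizer_eq_top]; trivial)
    have hz : Subgroup.zpowers (c * u * c⁻¹) =
        (Subgroup.zpowers u).map (MulAut.conj c).toMonoidHom := by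
      rw [MonoidHom.map_zpowers]; rfl
    rw [hz]
    nth_rewrite 1 [← hmapX]
    rw [← iterCommutator_map, ← hmapY]
    exact Subgroup.map_mono hEng
  let ρ₀ := homAct X B
  let 𝕌 : Subgroup (↥X →* B) :=
    { carrier := {φ | ∀ v : ↥X, (v : G) ∈ Y → φ v = 1}
      mul_mem' := fun {φ ψ} hφ hψ v hv => by rw [MonoidHom.mul_apply, hφ v hv, hψ v hv, one_mul]
      one_mem' := fun v _ => rfl
      inv_mem' := fun {φ} hφ v hv => by rw [MonoidHom.inv_apply, hφ v hv, inv_one] }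
  have h𝕌mem : ∀ φ : ↥X →* B, φ ∈ 𝕌 ↔ ∀ v : ↥X, (v : G) ∈ Y → φ v = 1 := fun φ => Iff.rfl
  have h𝕌inv : ∀ g : G, ∀ φ ∈ 𝕌, ρ₀ g φ ∈ 𝕌 := by
    intro g φ hφ
    rw [h𝕌mem] at hφ ⊢
    intro v hv
    rw [homAct_apply]
    apply hφ
    rw [MulAut.conjNormal_apply]
    exact hYn.conj_mem _ hv _
  let ρ := restrictAut ρ₀ 𝕌 h𝕌inv
  have hρ : ∀ (g : G) (a : ↥𝕌) (v : ↥X), ((ρ g a : ↥𝕌) : ↥X →* B) v =
      (a : ↥X →* B) ((MulAut.conjNormal g⁻¹ : ↥X ≃* ↥X) v) := fun g a v => rfl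
  let incl : ↥X →* ↥M₀ := Subgroup.inclusion hXM
  let x₀ : ↥X →* B := π.comp incl
  have hx₀ : x₀ ∈ 𝕌 := (h𝕌mem x₀).mpr (fun v hv => hπY _ hv)
  let x : ↥𝕌 := ⟨x₀, hx₀⟩
  have hx : ∀ m ∈ M₀, ρ m x = x := by
    intro m hm
    apply Subtype.ext
    ext v
    rw [hρ]
    show π (incl ((MulAut.conjNormal m⁻¹ : ↥X ≃* ↥X) v)) = π (incl v)
    have : incl ((MulAut.conjNormal m⁻¹ : ↥X ≃* ↥X) v) =
        (⟨m, hm⟩ : ↥M₀)⁻¹ * incl v * (⟨m, hm⟩ : ↥M₀) := by
      apply Subtype.ext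
      simp [incl, MulAut.conjNormal_apply]
    rw [this, map_mul, map_mul, map_inv, mul_comm (π ⟨m, hm⟩)⁻¹, mul_assoc, inv_mul_cancel, mul_one]
  have hp : ∀ a : ↥𝕌, a ^ p ∈ (⊥ : Subgroup ↥𝕌) := by
    intro a
    rw [Subgroup.mem_bot]
    apply Subtype.ext
    ext v
    rw [Subgroup.coe_pow, MonoidHom.pow_apply, ← map_pow]
    exact (h𝕌mem _).mp a.2 (v ^ p) (by rw [Subgroup.coe_pow]; exact hpow v v.2)
  have hE : ∀ c : G, ∀ a : ↥𝕌,
      (fun b => ρ (c * u * c⁻¹) b / b)^[p - 1] a ∈ (⊥ : Subgroup ↥𝕌) := by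
    intro c a
    set e := c * u * c⁻¹ with he
    let d : ↥X → ↥X := fun v => (MulAut.conjNormal e⁻¹ : ↥X ≃* ↥X) v * v⁻¹
    have hD : ∀ (k : ℕ) (a : ↥𝕌) (v : ↥X),
        (((fun b => ρ e b / b)^[k] a : ↥𝕌) : ↥X →* B) v = (a : ↥X →* B) (d^[k] v) := by
      intro k
      induction k with
      | zero => intro a v; rfl
      | succ k ih =>
        intro a v
        rw [Function.iterate_succ_apply, ih, Function.iterate_succ_apply']
        show ((ρ e a / a : ↥𝕌) : ↥X →* B) (d^[k] v) = _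
        rw [Subgroup.coe_div, MonoidHom.div_apply, hρ, ← map_div, div_eq_mul_inv]
    have hd : ∀ (k : ℕ) (v : ↥X), ((d^[k] v : ↥X) : G) =
        (fun b : G => e⁻¹ * b * e⁻¹⁻¹ * b⁻¹)^[k] (v : G) := by
      intro k v
      induction k with
      | zero => rfl
      | succ k ih =>
        rw [Function.iterate_succ_apply', Function.iterate_succ_apply', ← ih]
        show (((MulAut.conjNormal e⁻¹ : ↥X ≃* ↥X) (d^[k] v) * (d^[k] v)⁻¹ : ↥X) : G) = _
        rw [Subgroup.coe_mul, MulAut.conjNormal_apply, Subgroup.coe_inv]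
    rw [Subgroup.mem_bot]
    apply Subtype.ext
    ext v
    rw [hD]
    apply (h𝕌mem _).mp a.2
    rw [hd]
    exact hEngc c (iterate_comm_mem X _ _ _ v.2)
  obtain ⟨y, hyfix, hyx⟩ := trace_fixed S M₀ hM₀ u huS huQ ρ ⊥
    (fun g a ha => by rw [Subgroup.mem_bot] at ha ⊢; rw [ha, map_one]) hp hE x hx
  have hxy : y = x := by rw [Subgroup.mem_bot, div_eq_one] at hyx; exact hyx
  rw [hxy] at hyfix
  intro g v hv
  have h1 := hyfix g⁻¹
  have h2 : ((ρ g⁻¹ x : ↥𝕌) : ↥X →* B) ⟨v, hv⟩ = (x : ↥X →* B) ⟨v, hv⟩ := by rw [h1]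
  rw [hρ] at h2
  have h3 : incl ((MulAut.conjNormal g⁻¹⁻¹ : ↥X ≃* ↥X) ⟨v, hv⟩) =
      ⟨g * v * g⁻¹, hXM (hchief.2.1.conj_mem v hv g)⟩ := by
    apply Subtype.ext
    simp [incl, MulAut.conjNormal_apply]
  have h4 : incl ⟨v, hv⟩ = ⟨v, hXM hv⟩ := rfl
  show π ⟨g * v * g⁻¹, _⟩ = π ⟨v, _⟩
  rw [← h3, ← h4]
  exact h2

end beta

end Cfsg.Agent.Lib.Helper8.TraceArg
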