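import Mathlib
import Cfsg.Agent.Lib.Helper12.FamilyTransferSections
import Cfsg.Agent.Lib.Helper8.TraceHom

/-!
Helper lemmas (helper8): the structure of a minimal counterexample to control of transfer by a set of
isomorphism-invariant `p`-group functors (Glauberman).
-/

set_option autoImplicit false
set_option linter.unusedSectionVars false
set_option linter.style.haveILetI false

namespace Cfsg.Agent.Lib.Helper8.TransferMin

universe u
open Subgroup
open scoped commutatorElement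
open Cfsg.Agent.Lib.Helper12 Cfsg.Agent.Lib.Helper8.TraceArg

section core
variable {p : ℕ} [Fact p.Prime] (𝓦 : Set (∀ (Q : Type u) [Group Q], Subgroup Q))
  (h𝓦 : ∀ W ∈ 𝓦, Cfsg.IsCharPFunctor.{u} p W)
variable {H : Type u} [Group H] [Finite H]

/-- the subgroup generated by the `S ∩ N(W(S))'`, `W ∈ 𝓦` -/
def focal (S : Sylow p H) : Subgroup H :=
  ⨆ W ∈ 𝓦, (S : Subgroup H) ⊓
    ⁅Subgroup.normalizer ((Cfsg.inducedFunctor W (S : Subgroup H) : Subgroup H) : Set H),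
      Subgroup.normalizer ((Cfsg.inducedFunctor W (S : Subgroup H) : Subgroup H) : Set H)⁆

theorem focal_le_sylow (S : Sylow p H) : focal 𝓦 S ≤ (S : Subgroup H) :=
  iSup₂_le fun _ _ => inf_le_left

theorem focal_le_commutator (S : Sylow p H) : focal 𝓦 S ≤ commutator H :=
  iSup₂_le fun _ _ => inf_le_right.trans (by
    rw [commutator_def]; exact Subgroup.commutator_mono le_top le_top)

/-- control of transfer from the inclusion `S ∩ H' ≤ F` -/
theorem control_of_le (S : Sylow p H) (h : (S : Subgroup H) ⊓ commutator H ≤ focal 𝓦 S) :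
    Cfsg.FamilyControlsTransferIn p (inducedFamily 𝓦 H) ⊤ := by
  refine ⟨S, le_top, S.2, ?_, ?_⟩
  · rw [Subgroup.relIndex_top_right]; exact S.not_dvd_index
  · rw [inducedFamily, iSup_image]
    apply le_antisymm
    · rw [← commutator_def]
      refine h.trans (iSup₂_mono fun W hW => ?_)
      rw [top_inf_eq]
    · apply iSup₂_le
      intro W _
      exact inf_le_inf_left _ (Subgroup.commutator_mono le_top le_top)

include h𝓦 in
/-- control in a proper subgroup containing `S` -/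
theorem sub_le_focal (S : Sylow p H)
    (ihsub : ∀ N₁ : Subgroup H, N₁ ≠ ⊤ →
      Cfsg.FamilyControlsTransferIn p (inducedFamily 𝓦 H) N₁)
    (N₁ : Subgroup H) (hne : N₁ ≠ ⊤) (hSN : (S : Subgroup H) ≤ N₁) :
    (S : Subgroup H) ⊓ ⁅N₁, N₁⁆ ≤ focal 𝓦 S := by
  have hfam := isConjugacyFunctor_inducedFamily 𝓦 h𝓦 H
  have hidx : ¬ p ∣ (S : Subgroup H).relIndex N₁ := fun hdvd =>
    S.not_dvd_index (dvd_trans hdvd (Subgroup.relIndex_dvd_index_of_le hSN))
  have heq := familyControlsTransferIn_sylow _ hfam (ihsub N₁ hne) hSN S.2 hidx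
  rw [heq, inducedFamily, iSup_image]
  exact iSup₂_mono fun W hW => inf_le_inf_left _
    (Subgroup.commutator_mono inf_le_right inf_le_right)

include h𝓦 in
/-- the quotient by `P = O_p(H)`: `S ∩ H' ≤ F` follows from `P ∩ H' ≤ F` -/
theorem inf_commutator_le_of_pCore (S : Sylow p H)
    (ihsub : ∀ N₁ : Subgroup H, N₁ ≠ ⊤ →
      Cfsg.FamilyControlsTransferIn p (inducedFamily 𝓦 H) N₁)
    (ihquot : ∀ (Z : Subgroup H) [Z.Normal], Z ≠ ⊥ →
      Cfsg.FamilyControlsTransferIn p (inducedFamily 𝓦 (H ⧸ Z)) ⊤)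
    (hP : Cfsg.pCore p H ≠ ⊥) (hSP : (S : Subgroup H) ≠ Cfsg.pCore p H)
    (hPH : Cfsg.pCore p H ⊓ commutator H ≤ focal 𝓦 S) :
    (S : Subgroup H) ⊓ commutator H ≤ focal 𝓦 S := by
  set F := focal 𝓦 S with hF
  have hFH : F ≤ commutator H := focal_le_commutator 𝓦 S
  set P := Cfsg.pCore p H with hPdef
  haveI hPn : P.Normal := Cfsg.Agent.Lib.Helper1.pCore_normal p H
  have hPS : P ≤ (S : Subgroup H) := Cfsg.Agent.Lib.Helper1.pCore_le_sylow S
  set π := QuotientGroup.mk' P with hπ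
  have hπs : Function.Surjective π := QuotientGroup.mk'_surjective P
  set Sb := (S : Subgroup H).map π with hSb
  have hfamq := isConjugacyFunctor_inducedFamily 𝓦 h𝓦 (H ⧸ P)
  have hidx : ¬ p ∣ Sb.relIndex ⊤ := by
    rw [Subgroup.relIndex_top_right]
    intro hdvd
    exact S.not_dvd_index (dvd_trans hdvd (Subgroup.index_map_dvd _ hπs))
  have heq := familyControlsTransferIn_sylow _ hfamq (ihquot P hP) (le_top : Sb ≤ ⊤)
    (S.2.map π) hidx
  intro x hx
  have h1 : π x ∈ Sb ⊓ ⁅(⊤ : Subgroup (H ⧸ P)), (⊤ : Subgroup (H ⧸ P))⁆ := by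
    refine ⟨⟨x, hx.1, rfl⟩, ?_⟩
    have : (commutator H).map π ≤ ⁅(⊤ : Subgroup (H ⧸ P)), (⊤ : Subgroup (H ⧸ P))⁆ := by
      rw [commutator_def, Subgroup.map_commutator]
      exact Subgroup.commutator_mono le_top le_top
    exact this ⟨x, hx.2, rfl⟩
  rw [heq, inducedFamily, iSup_image] at h1
  have hterm : ∀ W ∈ 𝓦, Sb ⊓
      ⁅⊤ ⊓ Subgroup.normalizer ((Cfsg.inducedFunctor W Sb : Subgroup (H ⧸ P)) : Set (H ⧸ P)),
        ⊤ ⊓ Subgroup.normalizer ((Cfsg.inducedFunctor W Sb : Subgroup (H ⧸ P)) : Set (H ⧸ P))⁆ ≤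
      F.map π := by
    intro W hW
    rintro y ⟨⟨s, hs, rfl⟩, hy2⟩
    rw [top_inf_eq] at hy2
    set Nb := Subgroup.normalizer ((Cfsg.inducedFunctor W Sb : Subgroup (H ⧸ P)) : Set (H ⧸ P))
      with hNb
    set L := Nb.comap π with hL
    have h2 : ⁅Nb, Nb⁆ = (⁅L, L⁆).map π := by
      rw [Subgroup.map_commutator, hL, Subgroup.map_comap_eq_self_of_surjective hπs]
    rw [h2] at hy2
    obtain ⟨l, hl, hls⟩ := hy2
    have hz : l⁻¹ * s ∈ P := QuotientGroup.eq.mp hls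
    have hlS : l ∈ (S : Subgroup H) := by
      have e : l = s * (l⁻¹ * s)⁻¹ := by group
      rw [e]
      exact (S : Subgroup H).mul_mem hs ((S : Subgroup H).inv_mem (hPS hz))
    have hLne : L ≠ ⊤ := comap_normalizer_ne_top W (h𝓦 W hW) P rfl S hSP
    have hSL : (S : Subgroup H) ≤ L := sylow_le_comap_normalizer W (h𝓦 W hW) P S
    have hlF : l ∈ F := sub_le_focal 𝓦 h𝓦 S ihsub L hLne hSL ⟨hlS, hl⟩
    exact ⟨l, hlF, hls⟩
  have h5 : π x ∈ F.map π := (iSup₂_le hterm) h1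
  obtain ⟨f, hf, hfx⟩ := h5
  have hz : f⁻¹ * x ∈ P := QuotientGroup.eq.mp hfx
  have hzH : f⁻¹ * x ∈ commutator H :=
    Subgroup.mul_mem _ (Subgroup.inv_mem _ (hFH hf)) hx.2
  have e : x = f * (f⁻¹ * x) := by group
  rw [e]
  exact Subgroup.mul_mem _ hf (hPH ⟨hz, hzH⟩)

/-- if `S` and `N(S)` centralise `P` modulo the normal subgroup `Q₁`, so does the whole group -/
theorem commutator_top_le_of_sylow (S : Sylow p H) (P Q₁ : Subgroup H)
    [hPn : P.Normal] [hQn : Q₁.Normal]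
    (hS : ⁅P, (S : Subgroup H)⁆ ≤ Q₁)
    (hN : ⁅P, Subgroup.normalizer ((S : Subgroup H) : Set H)⁆ ≤ Q₁) :
    ⁅P, (⊤ : Subgroup H)⁆ ≤ Q₁ := by
  let K : Subgroup H :=
    { carrier := {g | ∀ v ∈ P, ⁅v, g⁆ ∈ Q₁}
      one_mem' := by
        intro v _
        rw [commutatorElement_one_right]
        exact Q₁.one_mem
      mul_mem' := by
        intro g h hg hh v hv
        have e : ⁅v, g * h⁆ = ⁅v, g⁆ * (g * ⁅v, h⁆ * g⁻¹) := by
          simp only [commutatorElement_def]; group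
        rw [e]
        exact Q₁.mul_mem (hg v hv) (hQn.conj_mem _ (hh v hv) g)
      inv_mem' := by
        intro g hg v hv
        have e : ⁅v, g⁻¹⁆ = g⁻¹ * ⁅v, g⁆⁻¹ * g⁻¹⁻¹ := by
          simp only [commutatorElement_def]; group
        rw [e]
        exact hQn.conj_mem _ (Q₁.inv_mem (hg v hv)) g⁻¹ }
  have hKmem : ∀ g, g ∈ K ↔ ∀ v ∈ P, ⁅v, g⁆ ∈ Q₁ := fun g => Iff.rfl
  have hKn : K.Normal := by
    constructor
    intro g hg c
    rw [hKmem] at hg ⊢
    intro v hv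
    have e : ⁅v, c * g * c⁻¹⁆ = c * ⁅c⁻¹ * v * c⁻¹⁻¹, g⁆ * c⁻¹ := by
      simp only [commutatorElement_def]; group
    rw [e]
    exact hQn.conj_mem _ (hg _ (hPn.conj_mem v hv c⁻¹)) c
  have hSK : (S : Subgroup H) ≤ K := fun s hs v hv =>
    hS (Subgroup.commutator_mem_commutator hv hs)
  have hNK : Subgroup.normalizer ((S : Subgroup H) : Set H) ≤ K := fun s hs v hv =>
    hN (Subgroup.commutator_mem_commutator hv hs)
  obtain ⟨R₀, hR₀⟩ := Cfsg.Agent.Lib.Helper16.exists_sylow_of_normal_inf S K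
  have hfr := Sylow.normalizer_sup_eq_top R₀
  rw [hR₀, inf_eq_left.mpr hSK] at hfr
  have hKtop : K = ⊤ := by
    rw [eq_top_iff, ← hfr]
    exact sup_le hNK le_rfl
  rw [Subgroup.commutator_le]
  intro v hv g _
  have : g ∈ K := by rw [hKtop]; trivial
  exact this v hv


include h𝓦 in
/-- **Glauberman**: the structure of a minimal counterexample to control of transfer. -/
theorem min_counterexample (S : Sylow p H) (hne : 𝓦.Nonempty)
    (ihsub : ∀ N₁ : Subgroup H, N₁ ≠ ⊤ →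
      Cfsg.FamilyControlsTransferIn p (inducedFamily 𝓦 H) N₁)
    (ihquot : ∀ (Z : Subgroup H) [Z.Normal], Z ≠ ⊥ →
      Cfsg.FamilyControlsTransferIn p (inducedFamily 𝓦 (H ⧸ Z)) ⊤)
    (hG : ¬ Cfsg.FamilyControlsTransferIn p (inducedFamily 𝓦 H) ⊤) :
    Subgroup.centralizer ((Cfsg.pCore p H : Subgroup H) : Set H) ≤ Cfsg.pCore p H ∧
    (Subgroup.normalizer ((focal 𝓦 S ⊓ Cfsg.pCore p H : Subgroup H) : Set H) ≠ ⊤ ∧
      ∀ K : Subgroup H, (S : Subgroup H) ≤ K → K ≠ ⊤ →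
        K ≤ Subgroup.normalizer ((focal 𝓦 S ⊓ Cfsg.pCore p H : Subgroup H) : Set H)) ∧
    ((S : Subgroup H) ≤ Subgroup.normalizer ((focal 𝓦 S ⊓ Cfsg.pCore p H : Subgroup H) : Set H) ∧
      Cfsg.pCore p H ⊓ ⁅Subgroup.normalizer ((focal 𝓦 S ⊓ Cfsg.pCore p H : Subgroup H) : Set H),
        Subgroup.normalizer ((focal 𝓦 S ⊓ Cfsg.pCore p H : Subgroup H) : Set H)⁆ ≤
      Cfsg.pCore p H ⊓ focal 𝓦 S) ∧
    ∀ u : H, u ∈ (S : Subgroup H) → u ∉ Cfsg.pCore p H →
      ∃ U V : Subgroup H, Cfsg.IsChiefFactor U V ∧ U ≤ Cfsg.pCore p H ∧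
        ¬ Cfsg.iterCommutator U (Subgroup.zpowers u) (p - 1) ≤ V := by
  classical
  have hfam := isConjugacyFunctor_inducedFamily 𝓦 h𝓦 H
  set F := focal 𝓦 S with hF
  have hFS : F ≤ (S : Subgroup H) := focal_le_sylow 𝓦 S
  have hFH : F ≤ commutator H := focal_le_commutator 𝓦 S
  have hnot : ¬ ((S : Subgroup H) ⊓ commutator H ≤ F) := fun h => hG (control_of_le 𝓦 S h)
  have hsub := sub_le_focal 𝓦 h𝓦 S ihsub
  have hSM : ∀ W ∈ 𝓦, (S : Subgroup H) ≤
      Subgroup.normalizer ((Cfsg.inducedFunctor W (S : Subgroup H) : Subgroup H) : Set H) := by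
    intro W hW
    exact Subgroup.le_normalizer.trans (normalizer_le_normalizer_of_isConjugacyFunctor
      (isConjugacyFunctor_induced W (h𝓦 W hW) H) S.2)
  set P := Cfsg.pCore p H with hPdef
  haveI hPn : P.Normal := Cfsg.Agent.Lib.Helper1.pCore_normal p H
  have hPp : IsPGroup p P := Cfsg.Agent.Lib.Helper1.pCore_isPGroup p H
  have hPS : P ≤ (S : Subgroup H) := Cfsg.Agent.Lib.Helper1.pCore_le_sylow S
  -- `O_p(H) ≠ 1`
  have hP : P ≠ ⊥ := by
    intro hbot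
    apply hG
    apply familyControlsTransferIn_top_of_tame _ hfam S
    intro T hTS hTne _
    apply ihsub
    intro htop
    have hTn : T.Normal := Subgroup.normalizer_eq_top_iff.mp htop
    apply hTne
    rw [eq_bot_iff, ← hbot]
    exact Cfsg.Agent.Lib.Helper1.le_pCore hTn (S.2.to_le hTS)
  -- (1)
  have h1 : Subgroup.centralizer ((P : Subgroup H) : Set H) ≤ P := by
    by_contra hC
    exact hnot (fam_inf_commutator_le_of_pCore_ne_bot 𝓦 h𝓦 S ihsub ihquot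
      (fun hC' => absurd hC' hC) hP)
  -- `[S, S] ≤ F`
  obtain ⟨W₀, hW₀⟩ := hne
  have hSS : ⁅(S : Subgroup H), (S : Subgroup H)⁆ ≤ F := by
    refine le_trans (le_inf (Subgroup.commutator_le_self _) ?_)
      (le_iSup₂_of_le W₀ hW₀ le_rfl)
    exact Subgroup.commutator_mono (hSM W₀ hW₀) (hSM W₀ hW₀)
  -- `S ≠ O_p(H)`
  have hSP : (S : Subgroup H) ≠ P := by
    intro hSP
    apply hnot
    have hSn : ((S : Subgroup H)).Normal := by rw [hSP]; exact hPn
    have htop : Subgroup.normalizer ((Cfsg.inducedFunctor W₀ (S : Subgroup H) : Subgroup H) : Set H)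
        = ⊤ := by
      rw [eq_top_iff]
      have : Subgroup.normalizer (((S : Subgroup H) : Subgroup H) : Set H) = ⊤ :=
        Subgroup.normalizer_eq_top_iff.mpr hSn
      rw [← this]
      exact normalizer_le_normalizer_of_isConjugacyFunctor
        (isConjugacyFunctor_induced W₀ (h𝓦 W₀ hW₀) H) S.2
    refine le_trans ?_ (le_iSup₂_of_le W₀ hW₀ le_rfl)
    rw [htop, commutator_def]
  have hkeyb := inf_commutator_le_of_pCore 𝓦 h𝓦 S ihsub ihquot hP hSP
  have hPnot : ¬ (P ⊓ commutator H ≤ F) := fun h => hnot (hkeyb h)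
  set Q₁ := F ⊓ P with hQ₁
  set M := Subgroup.normalizer ((Q₁ : Subgroup H) : Set H) with hM
  -- proper overgroups of `S` act trivially on `P / Q₁`
  have hcomm : ∀ K : Subgroup H, (S : Subgroup H) ≤ K → K ≠ ⊤ → ⁅P, K⁆ ≤ Q₁ := by
    intro K hSK hK
    refine le_inf (le_trans (le_inf ?_ ?_) (hsub K hK hSK)) ?_
    · exact (Subgroup.commutator_le_left P K).trans hPS
    · exact Subgroup.commutator_mono (hPS.trans hSK) le_rfl
    · exact Subgroup.commutator_le_left P K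
  have h2b : ∀ K : Subgroup H, (S : Subgroup H) ≤ K → K ≠ ⊤ → K ≤ M := by
    intro K hSK hK k hk
    apply Cfsg.Agent.Lib.Helper16.mem_normalizer_of_map_conj_le
    rintro _ ⟨v, hv, rfl⟩
    simp only [MulEquiv.coe_toMonoidHom, MulAut.conj_apply]
    have h3 : ⁅v, k⁆ ∈ Q₁ := hcomm K hSK hK (Subgroup.commutator_mem_commutator hv.2 hk)
    have e : k * v * k⁻¹ = (⁅v, k⁆)⁻¹ * v := by rw [commutatorElement_def]; group
    rw [e]
    exact Q₁.mul_mem (Q₁.inv_mem h3) hv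
  have hStop : (S : Subgroup H) ≠ ⊤ := by
    intro h
    apply hSP
    have hn : ((S : Subgroup H)).Normal := by rw [h]; infer_instance
    exact le_antisymm (Cfsg.Agent.Lib.Helper1.le_pCore hn S.2) hPS
  have hSleM : (S : Subgroup H) ≤ M := h2b _ le_rfl hStop
  have hMtop : M ≠ ⊤ := by
    intro htop
    haveI hQ₁n : Q₁.Normal := Subgroup.normalizer_eq_top_iff.mp htop
    apply hPnot
    have hS1 : ⁅P, (S : Subgroup H)⁆ ≤ Q₁ := hcomm _ le_rfl hStop
    have hN1 : ⁅P, Subgroup.normalizer (((S : Subgroup H) : Subgroup H) : Set H)⁆ ≤ Q₁ := by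
      apply hcomm _ Subgroup.le_normalizer
      intro h
      apply hSP
      exact le_antisymm (Cfsg.Agent.Lib.Helper1.le_pCore (Subgroup.normalizer_eq_top_iff.mp h) S.2) hPS
    have hall := commutator_top_le_of_sylow S P Q₁ hS1 hN1
    exact (normal_inf_commutator_le S P hPS).trans (sup_le (hall.trans inf_le_left) hSS)
  have h3 : P ⊓ ⁅M, M⁆ ≤ P ⊓ F :=
    le_inf inf_le_left (le_trans (le_inf (inf_le_left.trans hPS) inf_le_right)
      (hsub M hMtop hSleM))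
  refine ⟨h1, ⟨hMtop, h2b⟩, ⟨hSleM, h3⟩, ?_⟩
  intro u huS huP
  by_contra hcon
  push Not at hcon
  apply hPnot
  by_contra hPF
  let 𝒳 : Set (Subgroup H) := {X | X.Normal ∧ X ≤ P ∧ ¬ (X ⊓ commutator H ≤ Q₁)}
  have hP𝒳 : P ∈ 𝒳 := ⟨hPn, le_rfl, fun h => hPF (h.trans inf_le_left)⟩
  obtain ⟨X, -, hXmin⟩ := (Set.toFinite 𝒳).exists_le_minimal hP𝒳
  obtain ⟨hXn, hXP, hXnot⟩ := hXmin.prop
  haveI := hXn
  have hXbot : X ≠ ⊥ := by
    intro h
    apply hXnot
    rw [h, bot_inf_eq]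
    exact bot_le
  let 𝒴 : Set (Subgroup H) := {N | N.Normal ∧ N < X}
  have hbot𝒴 : (⊥ : Subgroup H) ∈ 𝒴 := ⟨inferInstance, bot_lt_iff_ne_bot.mpr hXbot⟩
  obtain ⟨Y, -, hYmax⟩ := (Set.toFinite 𝒴).exists_le_maximal hbot𝒴
  obtain ⟨hYn, hYX⟩ := hYmax.prop
  haveI := hYn
  have hchief : Cfsg.IsChiefFactor X Y := by
    refine ⟨hYX, hXn, hYn, fun N hN hYN hNX => ?_⟩
    by_cases h : N = X
    · exact Or.inr h
    · left
      have hN𝒴 : N ∈ 𝒴 := ⟨hN, lt_of_le_of_ne hNX h⟩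
      exact le_antisymm (hYmax.le_of_ge hN𝒴 hYN) hYN
  have hYQ₁ : Y ⊓ commutator H ≤ Q₁ := by
    by_contra hY
    have hY𝒳 : Y ∈ 𝒳 := ⟨hYn, hYX.le.trans hXP, hY⟩
    exact lt_irrefl _ (lt_of_lt_of_le hYX (hXmin.le_of_le hY𝒳 hYX.le))
  have hEng := hcon X Y hchief hXP
  have hXS : X ≤ (S : Subgroup H) := hXP.trans hPS
  have hXM : X ≤ M := hXS.trans hSleM
  let YM : Subgroup ↥M := Y.subgroupOf M
  haveI : YM.Normal := inferInstance
  let π : ↥M →* Abelianization (↥M ⧸ YM) := Abelianization.of.comp (QuotientGroup.mk' YM)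
  have hπY : ∀ y : ↥M, (y : H) ∈ Y → π y = 1 := by
    intro y hy
    show Abelianization.of (QuotientGroup.mk' YM y) = 1
    have : QuotientGroup.mk' YM y = 1 := by
      rw [QuotientGroup.mk'_apply, QuotientGroup.eq_one_iff]
      exact Subgroup.mem_subgroupOf.mpr hy
    rw [this, map_one]
  have hinv := hom_invariant_of_engel S M h2b u huS huP X Y hchief (hPp.to_le hXP) hXM hEng π hπY
  apply hXnot
  let κ : Subgroup H := (π.ker).map M.subtype
  have hκ1 : ⁅X, (⊤ : Subgroup H)⁆ ≤ κ := by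
    rw [Subgroup.commutator_le]
    intro v hv g _
    have hv' : g * v⁻¹ * g⁻¹ ∈ X := hXn.conj_mem _ (X.inv_mem hv) g
    have hcM : ⁅v, g⁆ ∈ M := by
      rw [commutatorElement_def]
      have e : v * g * v⁻¹ * g⁻¹ = v * (g * v⁻¹ * g⁻¹) := by group
      rw [e]
      exact M.mul_mem (hXM hv) (hXM hv')
    refine ⟨⟨⁅v, g⁆, hcM⟩, ?_, rfl⟩
    rw [SetLike.mem_coe, MonoidHom.mem_ker]
    have e : (⟨⁅v, g⁆, hcM⟩ : ↥M) = ⟨v, hXM hv⟩ * ⟨g * v⁻¹ * g⁻¹, hXM hv'⟩ := by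
      apply Subtype.ext
      show ⁅v, g⁆ = v * (g * v⁻¹ * g⁻¹)
      rw [commutatorElement_def]
      group
    rw [e, map_mul, hinv g v⁻¹ (X.inv_mem hv), ← map_mul]
    have : (⟨v, hXM hv⟩ * ⟨v⁻¹, hXM (X.inv_mem hv)⟩ : ↥M) = 1 := by
      apply Subtype.ext
      show v * v⁻¹ = 1
      group
    rw [this, map_one]
  have hMM : ⁅M, M⁆ = (commutator ↥M).map M.subtype := by
    rw [_root_.commutator_def, Subgroup.map_commutator, ← MonoidHom.range_eq_map,
      Subgroup.range_subtype]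
  have hκ2 : ⁅M, M⁆ ≤ κ := by
    rw [hMM]
    exact Subgroup.map_mono (Abelianization.commutator_subset_ker π)
  have hκ3 : κ ≤ ⁅M, M⁆ ⊔ Y := by
    rintro _ ⟨x, hx, rfl⟩
    rw [SetLike.mem_coe, MonoidHom.mem_ker] at hx
    have hx' : QuotientGroup.mk' YM x ∈ commutator (↥M ⧸ YM) := by
      rw [← Abelianization.ker_of, MonoidHom.mem_ker]
      exact hx
    have hc : commutator (↥M ⧸ YM) = (commutator ↥M).map (QuotientGroup.mk' YM) := by
      rw [_root_.commutator_def, _root_.commutator_def, Subgroup.map_commutator,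
        Subgroup.map_top_of_surjective _ (QuotientGroup.mk'_surjective YM)]
    rw [hc] at hx'
    obtain ⟨c, hc', hcx⟩ := hx'
    have hz : c⁻¹ * x ∈ YM := QuotientGroup.eq.mp hcx
    show (x : H) ∈ ⁅M, M⁆ ⊔ Y
    have e : (x : H) = (c : H) * ((c⁻¹ * x : ↥M) : H) := by
      simp
    rw [e]
    refine Subgroup.mul_mem _ (Subgroup.mem_sup_left ?_) (Subgroup.mem_sup_right ?_)
    · rw [hMM]; exact ⟨c, hc', rfl⟩
    · exact Subgroup.mem_subgroupOf.mp hz
  intro v hv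
  have hv1 : v ∈ ⁅X, (⊤ : Subgroup H)⁆ ⊔ ⁅(S : Subgroup H), (S : Subgroup H)⁆ :=
    normal_inf_commutator_le S X hXS hv
  have hv2 : v ∈ ⁅M, M⁆ ⊔ Y :=
    hκ3 ((sup_le hκ1 ((Subgroup.commutator_mono hSleM hSleM).trans hκ2)) hv1)
  obtain ⟨m, hm, y, hy, rfl⟩ := Subgroup.mem_sup_of_normal_right.mp hv2
  have hyP : y ∈ P := hXP (hYX.le hy)
  have hmP : m ∈ P := by
    have e : m = (m * y) * y⁻¹ := by group
    rw [e]
    exact P.mul_mem (hXP hv.1) (P.inv_mem hyP)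
  have hmQ₁ : m ∈ Q₁ := by
    have := h3 ⟨hmP, hm⟩
    exact ⟨this.2, this.1⟩
  have hmH : m ∈ commutator H := by
    rw [_root_.commutator_def]
    exact Subgroup.commutator_mono le_top le_top hm
  have hyH : y ∈ commutator H := by
    have e : y = m⁻¹ * (m * y) := by group
    rw [e]
    exact Subgroup.mul_mem _ (Subgroup.inv_mem _ hmH) hv.2
  exact Q₁.mul_mem hmQ₁ (hYQ₁ ⟨hy, hyH⟩)


end core

end Cfsg.Agent.Lib.Helper8.TransferMin
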