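import Mathlib
import Cfsg.Agent.Lib.Helper8.U23Q3Core
import Cfsg.Agent.Lib.Helper11.T23UMain
import Cfsg.Agent.Lib.Helper23.U23Q3E

/-!
# S5801 conjunct (8) at `q = 3`: the interface `hNO` of `Helper11.T23UMain.model_of_NO`

`twistProp`, `endProp` instantiate the hypotheses of `Helper8.U23Q3.no_nonopp_q3_of` by the landed leaves
(`Helper11.T23UMain.exists_x0`, `Helper9.C4UTW.twist`, `Helper23.U23Q3.T1U_of_slice`, `Helper11.T23UMain.L1`).
`no_nonopp_q3_of'` still takes the two remaining leaves (`BlockProp`, `StepCProp`) as hypotheses.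
-/

set_option autoImplicit false
set_option linter.unusedSectionVars false
set_option linter.unusedVariables false

namespace Cfsg.Agent.Lib.Helper8.U23Q3
open Matrix Module
open Cfsg.Agent.Lib.Helper25.Tens Cfsg.Agent.Lib.Helper25.TensLeaf
open Cfsg.Agent.Lib.Helper20.UT Cfsg.Agent.Lib.Helper5.UTG Cfsg.Agent.Lib.Helper11.T23U

variable {F : Type*} [Field F] [Fintype F] {M : Subgroup (GL (Idx 2 3) F)}

/-- the twist at `ρ = -1` for every `g ∈ M` (`exists_x0` + leaf TW) -/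
theorem twistProp (h : MC 3 M) {x : Fin 2 → F} (hx0 : x ≠ 0) (hx : hv 3 x x = 0) : TwistProp M x := by
  intro g hg
  obtain ⟨x₀, hx₀, hgx₀⟩ := Cfsg.Agent.Lib.Helper11.T23UMain.exists_x0 h hx0 hx hg
  have hmap : ∀ v ∈ FibA (b := 3) x, mv x₀ v ∈ mvS g (FibA (b := 3) x) := by
    intro v hv
    have hk := (mem_StabA.mp hgx₀.2 v).mp hv
    refine mem_mvS.mpr ⟨mv (g⁻¹ * x₀) v, hk, ?_⟩
    rw [← mv_mul, mul_inv_cancel_left]
  have hodd : ((-1 : F)) ^ 3 = -1 := by ring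
  exact Cfsg.Agent.Lib.Helper9.C4UTW.twist h hx0 hx hg hx₀ hmap (-1 : F)
    (neg_ne_zero.mpr one_ne_zero) hodd

/-- the endgame lemma (E) -/
theorem endProp (h : MC 3 M) : EndProp M := by
  intro c hcU hc2 hcdet d hd m hm hmd
  exact Cfsg.Agent.Lib.Helper23.U23Q3.T1U_of_slice h.hF h.le c hcU hc2 hcdet d hd m hm hmd

/-- the `q = 3` interface, on the two remaining leaves -/
theorem no_nonopp_q3_of' (h : MC 3 M) {x : Fin 2 → F} (hx0 : x ≠ 0) (hx : hv 3 x x = 0)
    (hB : BlockProp M x) (hC : StepCProp M x) :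
    ∀ g ∈ M, FibA (b := 3) x ⊓ mvS g (FibA (b := 3) x) = ⊥ ∨
      mvS g (FibA (b := 3) x) = FibA (b := 3) x :=
  no_nonopp_q3_of h hx0 hx (fun m hm hst => Cfsg.Agent.Lib.Helper11.T23UMain.L1 h hx0 hx hm hst)
    (twistProp h hx0 hx) hB (endProp h) hC

end Cfsg.Agent.Lib.Helper8.U23Q3
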