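import Mathlib
import Cfsg.Agent.Lib.Helper12.U3Defs
import Cfsg.Agent.Lib.Helper4.U3BRUHAT
import Cfsg.Agent.Lib.Helper20.U3CARDQ
import Cfsg.Agent.Lib.Helper20.U3CAHOM
import Cfsg.Agent.Lib.Helper6.U3INVFIX
import Cfsg.Agent.Lib.Helper23.U3TLINE
import Cfsg.Agent.Lib.Helper13.U3CARDSL

/-!
helper8: S2148 market "U3", leaf ELPAIR (`elation_pair`): for `q` even, the product of two involutions of `SU_3(q)`
has order dividing `q (q^2 - 1)`: involutions are elations (`invol_mem_TV`), and two root groups are equal or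
conjugate to the pair `TV ve, TV vf ≤ SLn` (`pow_eq_one_of_mem_TV`).
-/

set_option autoImplicit false

namespace Cfsg.Agent.Lib.Helper8.U3Leaf

open Cfsg.Agent.Lib.Helper18.PSUMod Cfsg.Agent.Lib.Helper5.HermBridge Cfsg.Agent.Lib.Helper12.U3

section line

variable {F : Type*} [Field F] [Fintype F] {q : ℕ} (hF : Fintype.card F = q ^ 2)

include hF in
/-- `q` even: characteristic two -/
theorem two_eq_zero_of_even (hq : Even q) : (2 : F) = 0 := by
  obtain ⟨p, hp⟩ := CharP.exists F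
  obtain ⟨n, hpr, hcard⟩ := FiniteField.card F p
  have h2 : 2 ∣ p ^ (n : ℕ) := by
    rw [← hcard, hF]
    exact Dvd.dvd.mul_right hq.two_dvd _ |>.trans (by rw [sq])
  have h3 : 2 ∣ p := Nat.Prime.dvd_of_dvd_pow Nat.prime_two h2
  have h4 : p = 2 := ((Nat.prime_dvd_prime_iff_eq Nat.prime_two hpr).1 h3).symm
  subst h4
  exact_mod_cast CharP.cast_eq_zero F 2

/-- `q` even: an involution in `PP` lies in the root group `TT` -/
theorem invol_mem_TT (hq : Even q) (s : GG hF) (hsP : s ∈ PP hF) (hs : s * s = 1) : s ∈ TT hF := by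
  have hB := barOK_frob hF
  have h2 : (2 : F) = 0 := two_eq_zero_of_even hF hq
  have hca : ca s * ca s = 1 := by
    rw [← Cfsg.Agent.Lib.Helper20.U3Leaf.ca_mul' hsP hsP, hs, Cfsg.Agent.Lib.Helper20.U3Leaf.ca_one']
  have hca1 : ca s = 1 := by
    have : (ca s - 1) * (ca s - 1) = 0 := by linear_combination hca + (1 - ca s) * h2
    have := mul_self_eq_zero.1 this
    exact sub_eq_zero.1 this
  have hker : (⟨s, hsP⟩ : ↥(PP hF)) ∈ (Cfsg.Agent.Lib.Helper20.U3Leaf.caHom hF).ker := by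
    rw [MonoidHom.mem_ker]
    apply Units.ext
    rw [Cfsg.Agent.Lib.Helper20.U3Leaf.caHom_val, Units.val_one]
    exact hca1
  rw [Cfsg.Agent.Lib.Helper20.U3Leaf.caHom_ker, Subgroup.mem_subgroupOf] at hker
  obtain ⟨x, hx⟩ := hker
  simp only at hx
  have hxx : x * x = 1 := by
    apply EG_injective hB.invol
    rw [map_mul, hx, hs, map_one]
  have hc := congrArg (fun z : ↥(HS (frobHom hF) hB.invol 1) => (z : HP (frobHom hF) 1).c) hxx
  simp only [Subgroup.coe_mul, HP.mul_c0, Subgroup.coe_one, HP.one_c0] at hc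
  have hw : (x : HP (frobHom hF) 1).w = 0 := by
    have h3 : hW (frobHom hF) (x : HP (frobHom hF) 1).w (x : HP (frobHom hF) 1).w = 0 := by
      linear_combination (x : HP (frobHom hF) 1).c * h2 - hc
    rw [hW, Finset.univ_unique, Finset.sum_singleton] at h3
    funext i
    have : i = default := Subsingleton.elim _ _
    subst this
    rcases mul_eq_zero.1 h3 with h | h
    · exact h
    · exact (map_eq_zero (frobHom hF)).1 h
  exact (mem_Te hB.invol).2 ⟨x, hw, hx⟩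

/-- `q` even: every involution is an elation -/
theorem invol_mem_TV (hq : Even q) (s : GG hF) (hs : s * s = 1) :
    ∃ u : V F 1, u ≠ 0 ∧ hV (frobHom hF) u u = 0 ∧ s ∈ TV (frobHom hF) u := by
  have hB := barOK_frob hF
  obtain ⟨a, ha⟩ := Cfsg.Agent.Lib.Helper6.U3Leaf.invol_fix hF s hs
  have h2 : (a⁻¹ * s * a) * (a⁻¹ * s * a) = 1 := by
    have : (a⁻¹ * s * a) * (a⁻¹ * s * a) = a⁻¹ * (s * s) * a := by group
    rw [this, hs]; group
  have h3 := invol_mem_TT hF hq _ ha h2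
  rw [show TT hF = TV (frobHom hF) ve from Te_eq_TV hB.invol] at h3
  have h4 := conj_mem_TV a h3
  have e : a * (a⁻¹ * s * a) * a⁻¹ = s := by group
  rw [e] at h4
  refine ⟨av a ve, ?_, ?_, h4⟩
  · intro h0
    have := av_eq_zero.1 h0
    simp [ve, Prod.ext_iff] at this
  · rw [hV_av]; simp [hV, ve]

/-- two elements of (possibly different) root groups: the product has order dividing `q (q^2 - 1)`,
    (any `q`) -/
theorem pow_eq_one_of_mem_TV (s t : GG hF) (u v : V F 1) (hu0 : u ≠ 0)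
    (hu : hV (frobHom hF) u u = 0) (hv0 : v ≠ 0) (hv : hV (frobHom hF) v v = 0)
    (hs : s ∈ TV (frobHom hF) u) (ht : t ∈ TV (frobHom hF) v) :
    (s * t) ^ (q * (q ^ 2 - 1)) = 1 := by
  have hB := barOK_frob hF
  -- reduce to `u = ve`
  obtain ⟨a, α, hα, hua⟩ := exists_av_ve hB hu0 hu
  have hs' : a⁻¹ * s * a ∈ TV (frobHom hF) ve := by
    rw [hua, TV_smul hB.invol hα] at hs
    have := conj_mem_TV a⁻¹ hs
    rwa [av_inv_av, inv_inv] at this
  have ht' : a⁻¹ * t * a ∈ TV (frobHom hF) (av a⁻¹ v) := by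
    have := conj_mem_TV a⁻¹ ht
    rwa [inv_inv] at this
  set v' := av a⁻¹ v with hv'
  have hv'0 : v' ≠ 0 := fun h => hv0 (av_eq_zero.1 h)
  have hv'iso : hV (frobHom hF) v' v' = 0 := by rw [hv', hV_av]; exact hv
  -- it suffices to treat the conjugates
  suffices h : ((a⁻¹ * s * a) * (a⁻¹ * t * a)) ^ (q * (q ^ 2 - 1)) = 1 by
    have e : (a⁻¹ * s * a) * (a⁻¹ * t * a) = a⁻¹ * (s * t) * a := by group
    rw [e] at h
    have e2 : (a⁻¹ * (s * t) * a) ^ (q * (q ^ 2 - 1)) = a⁻¹ * (s * t) ^ (q * (q ^ 2 - 1)) * a := by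
      have := conj_pow (a := a⁻¹) (b := s * t) (i := q * (q ^ 2 - 1))
      rw [inv_inv] at this
      exact this
    rw [e2] at h
    have : (s * t) ^ (q * (q ^ 2 - 1)) = a * (a⁻¹ * (s * t) ^ (q * (q ^ 2 - 1)) * a) * a⁻¹ := by
      group
    rw [this, h]; group
  by_cases h22 : v'.2.2 = 0
  · -- same root group
    have hvv : v' = v'.1 • ve := Cfsg.Agent.Lib.Helper4.U3Leaf.eq_smul_ve_of_iso hF v' hv'iso h22
    have hv1 : v'.1 ≠ 0 := by
      intro h
      apply hv'0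
      rw [hvv, h, zero_smul]
    rw [hvv, TV_smul hB.invol hv1] at ht'
    have hmem : (a⁻¹ * s * a) * (a⁻¹ * t * a) ∈ TT hF := by
      rw [show TT hF = TV (frobHom hF) ve from Te_eq_TV hB.invol]
      exact (TV (frobHom hF) ve).mul_mem hs' ht'
    have h1 : ((a⁻¹ * s * a) * (a⁻¹ * t * a)) ^ q = 1 := by
      have := pow_card_eq_one' (G := ↥(TT hF)) (x := ⟨_, hmem⟩)
      rw [Cfsg.Agent.Lib.Helper20.U3Leaf.card_TT hF] at this
      have := congrArg (fun z : ↥(TT hF) => (z : GG hF)) this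
      simpa using this
    rw [pow_mul, h1, one_pow]
  · -- a hyperbolic pair: conjugate into `SLn`
    obtain ⟨y, hy⟩ := exists_EG_of_far hB.invol hv'iso h22
    obtain ⟨c, hc, hy⟩ : ∃ c : F, c ≠ 0 ∧ v' = c • av (EG hB.invol y) vf := ⟨_, h22, hy⟩
    set E := EG hB.invol y with hE
    have hs'' : E⁻¹ * (a⁻¹ * s * a) * E ∈ TV (frobHom hF) ve := by
      have := conj_mem_TV E⁻¹ hs'
      rw [inv_inv] at this
      have h1 : av E⁻¹ ve = (ve : V F 1) := by
        apply av_injective E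
        rw [av_av_inv, hE, av_EG_ve]
      rwa [h1] at this
    have ht'' : E⁻¹ * (a⁻¹ * t * a) * E ∈ TV (frobHom hF) vf := by
      rw [hy, TV_smul hB.invol hc] at ht'
      have := conj_mem_TV E⁻¹ ht'
      rwa [inv_inv, av_inv_av] at this
    have hTe : TV (frobHom hF) (ve : V F 1) ∈ TLine hF :=
      ⟨ve, by simp [ve, Prod.ext_iff], by simp [hV, ve], by simp [hV, ve, w0, vw, hW], rfl⟩
    have hTf : TV (frobHom hF) (vf : V F 1) ∈ TLine hF :=
      ⟨vf, by simp [vf, Prod.ext_iff], by simp [hV, vf], by simp [hV, vf, w0, vw, hW], rfl⟩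
    have hmem : (E⁻¹ * (a⁻¹ * s * a) * E) * (E⁻¹ * (a⁻¹ * t * a) * E) ∈ SLn hF :=
      (SLn hF).mul_mem (Cfsg.Agent.Lib.Helper23.U3Leaf.TLine_le hF _ hTe hs'')
        (Cfsg.Agent.Lib.Helper23.U3Leaf.TLine_le hF _ hTf ht'')
    have h1 : ((E⁻¹ * (a⁻¹ * s * a) * E) * (E⁻¹ * (a⁻¹ * t * a) * E)) ^ (q * (q ^ 2 - 1)) = 1 := by
      have := pow_card_eq_one' (G := ↥(SLn hF)) (x := ⟨_, hmem⟩)
      rw [Cfsg.Agent.Lib.Helper13.U3Leaf.card_SLn hF] at this
      have := congrArg (fun z : ↥(SLn hF) => (z : GG hF)) this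
      simpa using this
    have e : (E⁻¹ * (a⁻¹ * s * a) * E) * (E⁻¹ * (a⁻¹ * t * a) * E) =
        E⁻¹ * ((a⁻¹ * s * a) * (a⁻¹ * t * a)) * E := by group
    rw [e] at h1
    have e2 : (E⁻¹ * ((a⁻¹ * s * a) * (a⁻¹ * t * a)) * E) ^ (q * (q ^ 2 - 1)) =
        E⁻¹ * ((a⁻¹ * s * a) * (a⁻¹ * t * a)) ^ (q * (q ^ 2 - 1)) * E := by
      have := conj_pow (a := E⁻¹) (b := (a⁻¹ * s * a) * (a⁻¹ * t * a)) (i := q * (q ^ 2 - 1))
      rw [inv_inv] at this
      exact this
    rw [e2] at h1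
    have : ((a⁻¹ * s * a) * (a⁻¹ * t * a)) ^ (q * (q ^ 2 - 1)) =
        E * (E⁻¹ * ((a⁻¹ * s * a) * (a⁻¹ * t * a)) ^ (q * (q ^ 2 - 1)) * E) * E⁻¹ := by group
    rw [this, h1]; group

/-- N9 ELATION-PAIR -/
theorem elation_pair (hq : Even q) (s t : GG hF) (hs : s * s = 1) (ht : t * t = 1) :
    (s * t) ^ (q * (q ^ 2 - 1)) = 1 := by
  obtain ⟨u, hu0, hu, hsu⟩ := invol_mem_TV hF hq s hs
  obtain ⟨v, hv0, hv, htv⟩ := invol_mem_TV hF hq t ht
  exact pow_eq_one_of_mem_TV hF s t u v hu0 hu hv0 hv hsu htv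

end line

end Cfsg.Agent.Lib.Helper8.U3Leaf
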