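import Mathlib
import Cfsg.Prelude.Def_LieExceptional

set_option autoImplicit false

/-! Zassenhaus groups of odd degree with an abelian regular normal 2-subgroup `U` of a point
stabiliser: the structure equation `v u₀ v = u₀ v u₀`, given Feit's inequality
`|U| - 1 ≤ 2 |G_{ab}|`. -/

namespace Cfsg.Agent.Lib.Helper8.ZassEven

open MulAction

section

variable {G Ω : Type*} [Group G] [MulAction G Ω] {a : Ω} (U : Subgroup G)

/-- the regularity hypothesis -/
def Reg (a : Ω) (U : Subgroup G) : Prop :=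
  ∀ c d : Ω, c ≠ a → d ≠ a → ∃! u : U, (u : G) • c = d

variable {U}

theorem smul_a (hUle : U ≤ stabilizer G a) {u : G} (hu : u ∈ U) : u • a = a := hUle hu

theorem smul_ne_a (hUle : U ≤ stabilizer G a) {u : G} (hu : u ∈ U) {c : Ω} (hc : c ≠ a) :
    u • c ≠ a := by
  intro h
  apply hc
  have h1 : u⁻¹ • (u • c) = u⁻¹ • a := by rw [h]
  rw [inv_smul_smul] at h1
  rw [h1]
  have : u⁻¹ ∈ U := U.inv_mem hu
  exact smul_a hUle this

theorem eq_of_smul_eq (hreg : Reg a U) {u u' : G} (hu : u ∈ U) (hu' : u' ∈ U) {c : Ω} (hc : c ≠ a)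
    (hUle : U ≤ stabilizer G a) (h : u • c = u' • c) : u = u' := by
  obtain ⟨w, _, hw2⟩ := hreg c (u • c) hc (smul_ne_a hUle hu hc)
  have h1 := hw2 ⟨u, hu⟩ rfl
  have h2 := hw2 ⟨u', hu'⟩ h.symm
  have := h1.trans h2.symm
  exact congrArg Subtype.val this

theorem eq_one_of_smul_eq (hreg : Reg a U) {u : G} (hu : u ∈ U) {c : Ω} (hc : c ≠ a)
    (hUle : U ≤ stabilizer G a) (h : u • c = c) : u = 1 :=
  eq_of_smul_eq hreg hu U.one_mem hc hUle (by rw [h, one_smul])

theorem exists_smul_eq (hreg : Reg a U) {c d : Ω} (hc : c ≠ a) (hd : d ≠ a) :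
    ∃ u ∈ U, u • c = d := by
  obtain ⟨w, hw, _⟩ := hreg c d hc hd
  exact ⟨w.1, w.2, hw⟩

/-- `U` is in bijection with the points other than `a` -/
noncomputable def equivPoints (hreg : Reg a U) (hUle : U ≤ stabilizer G a) {b : Ω} (hb : b ≠ a) :
    U ≃ {c : Ω // c ≠ a} :=
  Equiv.ofBijective (fun u => ⟨(u : G) • b, smul_ne_a hUle u.2 hb⟩) (by
    constructor
    · intro u u' h
      have h1 : (u : G) • b = (u' : G) • b := congrArg Subtype.val h
      exact Subtype.ext (eq_of_smul_eq hreg u.2 u'.2 hb hUle h1)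
    · intro c
      obtain ⟨u, hu, huc⟩ := exists_smul_eq hreg hb c.2
      exact ⟨⟨u, hu⟩, Subtype.ext huc⟩)

theorem card_add_one [Finite Ω] (hreg : Reg a U) (hUle : U ≤ stabilizer G a) {b : Ω} (hb : b ≠ a) :
    Nat.card U + 1 = Nat.card Ω := by
  classical
  rw [Nat.card_congr (equivPoints hreg hUle hb)]
  have : Fintype Ω := Fintype.ofFinite Ω
  rw [Nat.card_eq_fintype_card, Nat.card_eq_fintype_card, Fintype.card_subtype_compl,
    Fintype.card_subtype_eq]
  have : 0 < Fintype.card Ω := Fintype.card_pos_iff.mpr ⟨a⟩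
  omega

end

section main

variable {G Ω : Type*} [Group G] [Finite G] [MulAction G Ω] [Finite Ω] {a : Ω} {U : Subgroup G}

/-- at least three points -/
theorem three_le_card (hZ : Cfsg.IsZassenhausGroup G Ω) : 3 ≤ Nat.card Ω := by
  classical
  obtain ⟨hf, _, _, ⟨g, hg1, p, q, hpq, hgp, hgq⟩, _⟩ := hZ
  by_contra hlt
  push Not at hlt
  apply hg1
  have hall : ∀ c : Ω, g • c = c := by
    intro c
    by_contra hc
    have hcp : c ≠ p := fun h => hc (h ▸ hgp)
    have hcq : c ≠ q := fun h => hc (h ▸ hgq)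
    have : Fintype Ω := Fintype.ofFinite Ω
    have h3 : 3 ≤ Fintype.card Ω := by
      have hcard : ({p, q, c} : Finset Ω).card = 3 := by
        rw [Finset.card_insert_of_notMem, Finset.card_insert_of_notMem, Finset.card_singleton]
        · simpa using hcq.symm
        · simp only [Finset.mem_insert, Finset.mem_singleton, not_or]
          exact ⟨hpq, hcp.symm⟩
      calc 3 = ({p, q, c} : Finset Ω).card := hcard.symm
        _ ≤ Fintype.card Ω := Finset.card_le_univ _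
    rw [Nat.card_eq_fintype_card] at hlt
    omega
  exact hf.eq_of_smul_eq_smul (fun c => by rw [hall c, one_smul])

/-- the two-point stabiliser acts semiregularly on `U` by conjugation -/
theorem eq_one_of_conj_eq (hZ : Cfsg.IsZassenhausGroup G Ω) (hUle : U ≤ stabilizer G a)
    (hreg : Reg a U) {b : Ω} (hb : b ≠ a) {h u : G}
    (hh : h ∈ stabilizer G a ⊓ stabilizer G b) (hu : u ∈ U) (hu1 : u ≠ 1)
    (hc : h * u * h⁻¹ = u) : h = 1 := by
  obtain ⟨_, _, h3, _, _⟩ := hZ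
  have hha : h • a = a := hh.1
  have hhb : h • b = b := hh.2
  have hub : u • b ≠ b := fun h1 => hu1 (eq_one_of_smul_eq hreg hu hb hUle h1)
  have hua : u • b ≠ a := smul_ne_a hUle hu hb
  have hfix : h • (u • b) = u • b := by
    have : h • (u • b) = (h * u * h⁻¹) • (h • b) := by
      rw [mul_smul, mul_smul, inv_smul_smul]
    rw [this, hc, hhb]
  exact h3 h a b (u • b) hb.symm (Ne.symm hub) (Ne.symm hua) hha hhb hfix

/-- the conjugation action of the two-point stabiliser on the non-identity elements of `U` -/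
def conjAction (hUn : ∀ h ∈ stabilizer G a, ∀ u ∈ U, h * u * h⁻¹ ∈ U) (b : Ω) :
    MulAction ↥(stabilizer G a ⊓ stabilizer G b) {u : G // u ∈ U ∧ u ≠ 1} where
  smul h x := ⟨(h : G) * x.1 * (h : G)⁻¹, hUn h.1 h.2.1 x.1 x.2.1, fun h1 => x.2.2 (by
    have h2 : x.1 = (h : G)⁻¹ * ((h : G) * x.1 * (h : G)⁻¹) * (h : G) := by group
    rw [h2, h1]; group)⟩
  one_smul x := by
    apply Subtype.ext
    show ((1 : ↥(stabilizer G a ⊓ stabilizer G b)) : G) * x.1 * ((1 : ↥(stabilizer G a ⊓ stabilizer G b)) : G)⁻¹ = x.1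
    simp
  mul_smul h k x := by
    apply Subtype.ext
    show ((h * k : ↥(stabilizer G a ⊓ stabilizer G b)) : G) * x.1 * ((h * k : ↥(stabilizer G a ⊓ stabilizer G b)) : G)⁻¹ =
      (h : G) * ((k : G) * x.1 * (k : G)⁻¹) * (h : G)⁻¹
    simp only [Subgroup.coe_mul]
    group

theorem conjAction_smul_val (hUn : ∀ h ∈ stabilizer G a, ∀ u ∈ U, h * u * h⁻¹ ∈ U) (b : Ω)
    (h : ↥(stabilizer G a ⊓ stabilizer G b)) (x : {u : G // u ∈ U ∧ u ≠ 1}) :
    ((conjAction hUn b).smul h x).1 = (h : G) * x.1 * (h : G)⁻¹ := rfl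

theorem card_nonone (U : Subgroup G) : Nat.card {u : G // u ∈ U ∧ u ≠ 1} = Nat.card U - 1 := by
  classical
  have e : {u : G // u ∈ U ∧ u ≠ 1} ≃ {u : U // u ≠ 1} :=
    { toFun := fun x => ⟨⟨x.1, x.2.1⟩, fun h => x.2.2 (congrArg Subtype.val h)⟩
      invFun := fun x => ⟨x.1.1, x.1.2, fun h => x.2 (Subtype.ext h)⟩
      left_inv := fun x => rfl
      right_inv := fun x => rfl }
  rw [Nat.card_congr e]
  have : Fintype U := Fintype.ofFinite U
  rw [Nat.card_eq_fintype_card, Nat.card_eq_fintype_card, Fintype.card_subtype_compl,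
    Fintype.card_subtype_eq]

/-- orbit counting for the conjugation action -/
theorem card_eq_orbits_mul (hZ : Cfsg.IsZassenhausGroup G Ω) (hUle : U ≤ stabilizer G a)
    (hUn : ∀ h ∈ stabilizer G a, ∀ u ∈ U, h * u * h⁻¹ ∈ U)
    (hreg : Reg a U) {b : Ω} (hb : b ≠ a) :
    letI := conjAction hUn b
    Nat.card U - 1 = Nat.card (Quotient (orbitRel ↥(stabilizer G a ⊓ stabilizer G b)
      {u : G // u ∈ U ∧ u ≠ 1})) * Nat.card ↥(stabilizer G a ⊓ stabilizer G b) := by
  letI := conjAction hUn b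
  have hfree : ∀ x : {u : G // u ∈ U ∧ u ≠ 1},
      stabilizer ↥(stabilizer G a ⊓ stabilizer G b) x = ⊥ := by
    intro x
    rw [eq_bot_iff]
    intro h hh
    rw [Subgroup.mem_bot]
    have h1 : h • x = x := hh
    have h2 : (h : G) * x.1 * (h : G)⁻¹ = x.1 := congrArg Subtype.val h1
    exact Subtype.ext (eq_one_of_conj_eq hZ hUle hreg hb h.2 x.2.1 x.2.2 h2)
  rw [← card_nonone U, Nat.card_congr (selfEquivOrbitsQuotientProd hfree), Nat.card_prod]

/-- an element of the two-point stabiliser whose square is trivial is trivial, when that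
stabiliser has odd order -/
theorem eq_one_of_sq_of_odd {E : Subgroup G} (hodd : Odd (Nat.card E)) {k : G} (hk : k ∈ E)
    (hk2 : k * k = 1) : k = 1 := by
  have h1 : orderOf (⟨k, hk⟩ : E) ∣ 2 := by
    apply orderOf_dvd_of_pow_eq_one
    apply Subtype.ext
    simp [pow_two, hk2]
  have h2 : orderOf (⟨k, hk⟩ : E) ∣ Nat.card E := orderOf_dvd_natCard _
  have h3 : orderOf (⟨k, hk⟩ : E) = 1 := by
    rcases (Nat.dvd_prime Nat.prime_two).mp h1 with h | h
    · exact h
    · exfalso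
      rw [h] at h2
      obtain ⟨m, hm⟩ := hodd
      omega
  have := orderOf_eq_one_iff.mp h3
  exact congrArg Subtype.val this

theorem odd_card_E (hZ : Cfsg.IsZassenhausGroup G Ω) (hUle : U ≤ stabilizer G a)
    (hUn : ∀ h ∈ stabilizer G a, ∀ u ∈ U, h * u * h⁻¹ ∈ U)
    (hreg : Reg a U) (hU2 : IsPGroup 2 U) {b : Ω} (hb : b ≠ a) :
    Odd (Nat.card ↥(stabilizer G a ⊓ stabilizer G b)) ∧ Odd (Nat.card U - 1) ∧
      Odd (Nat.card Ω) := by
  have h3 := three_le_card hZ
  have hc := card_add_one hreg hUle hb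
  have : Fact (Nat.Prime 2) := ⟨Nat.prime_two⟩
  obtain ⟨k, hk⟩ := (IsPGroup.iff_card (p := 2) (G := U)).mp hU2
  have hk1 : k ≠ 0 := by
    rintro rfl
    rw [pow_zero] at hk
    omega
  have heven : Even (Nat.card U) := by
    rw [hk]
    exact (Nat.even_pow' hk1).mpr even_two
  have hodd1 : Odd (Nat.card U - 1) := by
    obtain ⟨m, hm⟩ := heven
    refine ⟨m - 1, ?_⟩
    omega
  refine ⟨?_, hodd1, ?_⟩
  · have h := card_eq_orbits_mul hZ hUle hUn hreg hb
    rw [h] at hodd1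
    exact (Nat.odd_mul.mp hodd1).2
  · rw [← hc]
    obtain ⟨m, hm⟩ := heven
    exact ⟨m, by omega⟩

/-- under Feit's inequality the two-point stabiliser is transitive on `U` minus the identity, so
`U` has exponent two -/
theorem sq_eq_one_of_bound (hZ : Cfsg.IsZassenhausGroup G Ω) (hUle : U ≤ stabilizer G a)
    (hUn : ∀ h ∈ stabilizer G a, ∀ u ∈ U, h * u * h⁻¹ ∈ U)
    (hreg : Reg a U) (hU2 : IsPGroup 2 U) {b : Ω} (hb : b ≠ a)
    (hbound : Nat.card U - 1 ≤ 2 * Nat.card ↥(stabilizer G a ⊓ stabilizer G b)) :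
    ∀ u ∈ U, u * u = 1 := by
  classical
  letI := conjAction hUn b
  obtain ⟨hoddE, hodd1, _⟩ := odd_card_E hZ hUle hUn hreg hU2 hb
  have h := card_eq_orbits_mul hZ hUle hUn hreg hb
  set q := Nat.card (Quotient (orbitRel ↥(stabilizer G a ⊓ stabilizer G b)
      {u : G // u ∈ U ∧ u ≠ 1})) with hq
  set e := Nat.card ↥(stabilizer G a ⊓ stabilizer G b) with he
  have hqodd : Odd q := by
    rw [h] at hodd1
    exact (Nat.odd_mul.mp hodd1).1
  have hepos : 0 < e := Nat.card_pos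
  have hq1 : q = 1 := by
    have hle : q * e ≤ 2 * e := by rw [← h]; exact hbound
    have hq2 : q ≤ 2 := Nat.le_of_mul_le_mul_right hle hepos
    obtain ⟨m, hm⟩ := hqodd
    omega
  -- an involution in `U`
  have : Fact (Nat.Prime 2) := ⟨Nat.prime_two⟩
  have h3 := three_le_card hZ
  have hc := card_add_one hreg hUle hb
  obtain ⟨k, hk⟩ := (IsPGroup.iff_card (p := 2) (G := U)).mp hU2
  have hk1 : k ≠ 0 := by
    rintro rfl
    rw [pow_zero] at hk
    omega
  have h2dvd : 2 ∣ Nat.card U := by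
    rw [hk]
    exact dvd_pow_self 2 hk1
  have : Fintype U := Fintype.ofFinite U
  rw [Nat.card_eq_fintype_card] at h2dvd
  obtain ⟨t, ht⟩ := exists_prime_orderOf_dvd_card 2 h2dvd
  have ht1 : (t : G) ≠ 1 := by
    intro h1
    have : t = 1 := Subtype.ext h1
    rw [this, orderOf_one] at ht
    omega
  have ht2 : (t : G) * (t : G) = 1 := by
    have := pow_orderOf_eq_one t
    rw [ht, pow_two] at this
    exact congrArg Subtype.val this
  have hsub : Subsingleton (Quotient (orbitRel ↥(stabilizer G a ⊓ stabilizer G b)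
      {u : G // u ∈ U ∧ u ≠ 1})) := by
    have hfin : Finite (Quotient (orbitRel ↥(stabilizer G a ⊓ stabilizer G b)
      {u : G // u ∈ U ∧ u ≠ 1})) := Nat.finite_of_card_ne_zero (by rw [← hq, hq1]; omega)
    exact (Nat.card_eq_one_iff_unique.mp hq1).1
  intro u hu
  by_cases hu1 : u = 1
  · rw [hu1, one_mul]
  · have hrel : (⟦(⟨u, hu, hu1⟩ : {u : G // u ∈ U ∧ u ≠ 1})⟧ :
        Quotient (orbitRel ↥(stabilizer G a ⊓ stabilizer G b) {u : G // u ∈ U ∧ u ≠ 1})) =
        ⟦⟨(t : G), t.2, ht1⟩⟧ := Subsingleton.elim _ _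
    have hrel2 : (⟨u, hu, hu1⟩ : {u : G // u ∈ U ∧ u ≠ 1}) ∈
        orbit ↥(stabilizer G a ⊓ stabilizer G b)
          (⟨(t : G), t.2, ht1⟩ : {u : G // u ∈ U ∧ u ≠ 1}) := Quotient.exact hrel
    rw [mem_orbit_iff] at hrel2
    obtain ⟨g, hg⟩ := hrel2
    have hval : (g : G) * (t : G) * (g : G)⁻¹ = u := congrArg Subtype.val hg
    rw [← hval]
    have : (g : G) * (t : G) * (g : G)⁻¹ * ((g : G) * (t : G) * (g : G)⁻¹) =
        (g : G) * ((t : G) * (t : G)) * (g : G)⁻¹ := by group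
    rw [this, ht2]
    group

/-- an involution has a fixed point on a set of odd size -/
theorem exists_fixed_of_odd (hodd : Odd (Nat.card Ω)) {v : G} (hv2 : v * v = 1) :
    ∃ c : Ω, v • c = c := by
  have : Fact (Nat.Prime 2) := ⟨Nat.prime_two⟩
  have hp : IsPGroup 2 ↥(Subgroup.zpowers v) := by
    rintro ⟨x, hx⟩
    refine ⟨1, ?_⟩
    obtain ⟨n, rfl⟩ := Subgroup.mem_zpowers_iff.mp hx
    apply Subtype.ext
    simp only [pow_one, SubmonoidClass.mk_pow, Subgroup.coe_one]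
    rw [← zpow_natCast, ← zpow_mul, mul_comm, zpow_mul, zpow_natCast, pow_two, hv2, one_zpow]
  have h := hp.card_modEq_card_fixedPoints Ω
  have hne : Nat.card ↥(fixedPoints ↥(Subgroup.zpowers v) Ω) ≠ 0 := by
    intro h0
    rw [h0] at h
    obtain ⟨m, hm⟩ := hodd
    have := h.symm
    rw [Nat.ModEq, hm] at this
    omega
  have hfin : Finite ↥(fixedPoints ↥(Subgroup.zpowers v) Ω) := Nat.finite_of_card_ne_zero hne
  have : Nonempty ↥(fixedPoints ↥(Subgroup.zpowers v) Ω) := (Nat.card_pos_iff.mp (Nat.pos_of_ne_zero hne)).1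
  obtain ⟨c, hc⟩ := this
  exact ⟨c, hc ⟨v, Subgroup.mem_zpowers v⟩⟩

/-- an involution fixes at most one point -/
theorem fixed_unique (hZ : Cfsg.IsZassenhausGroup G Ω) {b : Ω} (hb : b ≠ a)
    (hoddE : Odd (Nat.card ↥(stabilizer G a ⊓ stabilizer G b)))
    {v : G} (hv1 : v ≠ 1) (hv2 : v * v = 1) {c c' : Ω} (hc : v • c = c) (hc' : v • c' = c') :
    c = c' := by
  by_contra hne
  obtain ⟨_, h2, _, _, _⟩ := hZ
  obtain ⟨g, hga, hgb⟩ := (is_two_pretransitive_iff.mp h2) hb.symm hne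
  have hk : g⁻¹ * v * g ∈ stabilizer G a ⊓ stabilizer G b := by
    constructor
    · show (g⁻¹ * v * g) • a = a
      rw [mul_smul, mul_smul, hga, hc, ← hga, inv_smul_smul]
    · show (g⁻¹ * v * g) • b = b
      rw [mul_smul, mul_smul, hgb, hc', ← hgb, inv_smul_smul]
  have hk2 : g⁻¹ * v * g * (g⁻¹ * v * g) = 1 := by
    have : g⁻¹ * v * g * (g⁻¹ * v * g) = g⁻¹ * (v * v) * g := by group
    rw [this, hv2]; group
  have := eq_one_of_sq_of_odd hoddE hk hk2
  apply hv1
  have h3 : v = g * (g⁻¹ * v * g) * g⁻¹ := by group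
  rw [h3, this]; group

/-- an element of the point stabiliser with trivial square lies in `U` -/
theorem mem_of_sq (hUle : U ≤ stabilizer G a)
    (hUn : ∀ h ∈ stabilizer G a, ∀ u ∈ U, h * u * h⁻¹ ∈ U)
    (hreg : Reg a U) {b : Ω} (hb : b ≠ a)
    (hoddE : Odd (Nat.card ↥(stabilizer G a ⊓ stabilizer G b)))
    {x : G} (hxa : x • a = a) (hx2 : x * x = 1) : x ∈ U := by
  have hxb : x • b ≠ a := by
    intro h
    apply hb
    have : x⁻¹ • (x • b) = x⁻¹ • a := by rw [h]
    rw [inv_smul_smul] at this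
    rw [this]
    have h1 : x⁻¹ • (x • a) = x⁻¹ • a := by rw [hxa]
    rw [inv_smul_smul] at h1
    exact h1.symm
  obtain ⟨u, hu, hub⟩ := exists_smul_eq hreg hb hxb
  set h := u⁻¹ * x with hh
  have hha : h • a = a := by
    rw [hh, mul_smul, hxa]
    exact smul_a hUle (U.inv_mem hu)
  have hhb : h • b = b := by
    rw [hh, mul_smul, ← hub, inv_smul_smul]
  have hhE : h ∈ stabilizer G a ⊓ stabilizer G b := ⟨hha, hhb⟩
  have hx : x = u * h := by rw [hh]; group
  have hconj : h * u * h⁻¹ ∈ U := hUn h hha u hu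
  have hh2U : h * h ∈ U := by
    have h1 : h * h = (u * (h * u * h⁻¹))⁻¹ * (x * x) := by rw [hx]; group
    rw [h1, hx2, mul_one]
    exact U.inv_mem (U.mul_mem hu hconj)
  have hh2 : h * h = 1 := by
    apply eq_one_of_smul_eq hreg hh2U hb hUle
    rw [mul_smul, hhb, hhb]
  have h1 := eq_one_of_sq_of_odd hoddE hhE hh2
  rw [hx, h1, mul_one]
  exact hu

/-- **the structure equation** -/
theorem structure_equation (hZ : Cfsg.IsZassenhausGroup G Ω) (hUle : U ≤ stabilizer G a)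
    (hUn : ∀ h ∈ stabilizer G a, ∀ u ∈ U, h * u * h⁻¹ ∈ U)
    (hreg : Reg a U) (hU2 : IsPGroup 2 U) {v : G} (hv2 : v * v = 1) (hva : v • a ≠ a)
    (hbound : Nat.card U - 1 ≤ 2 * Nat.card ↥(stabilizer G a ⊓ stabilizer G (v • a))) :
    ∃! u₀ : G, u₀ ∈ U ∧ u₀ ≠ 1 ∧ v * u₀ * v = u₀ * v * u₀ := by
  have hv1 : v ≠ 1 := by
    rintro rfl
    exact hva (one_smul _ _)
  set b := v • a with hb
  have hvb : v • b = a := by rw [hb, ← mul_smul, hv2, one_smul]
  obtain ⟨hoddE, _, hoddΩ⟩ := odd_card_E hZ hUle hUn hreg hU2 hva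
  have hexp := sq_eq_one_of_bound hZ hUle hUn hreg hU2 hva hbound
  obtain ⟨c, hc⟩ := exists_fixed_of_odd hoddΩ hv2
  have hca : c ≠ a := by
    rintro rfl
    exact hva hc
  have hcb : c ≠ b := by
    intro h
    rw [h, hvb] at hc
    exact hva hc.symm
  obtain ⟨u₀, hu₀, hu₀b⟩ := exists_smul_eq hreg hva hca
  have hu₀1 : u₀ ≠ 1 := by
    rintro rfl
    rw [one_smul] at hu₀b
    exact hcb hu₀b.symm
  have hu₀2 : u₀ * u₀ = 1 := hexp u₀ hu₀
  have hu₀a : u₀ • a = a := smul_a hUle hu₀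
  have hu₀c : u₀ • c = b := by rw [← hu₀b, ← mul_smul, hu₀2, one_smul]
  -- the element `w`
  set w := v * u₀ * v * u₀ * v with hw
  have hwa : w • a = a := by
    rw [hw, mul_smul, mul_smul, mul_smul, mul_smul, ← hb, hu₀b, hc, hu₀c, hvb]
  have hw2 : w * w = 1 := by
    have h1 : w * w = v * u₀ * v * u₀ * (v * v) * u₀ * v * u₀ * v := by rw [hw]; group
    rw [h1, hv2, mul_one]
    have h2 : v * u₀ * v * u₀ * u₀ * v * u₀ * v = v * u₀ * v * (u₀ * u₀) * v * u₀ * v := by group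
    rw [h2, hu₀2, mul_one]
    have h3 : v * u₀ * v * v * u₀ * v = v * u₀ * (v * v) * u₀ * v := by group
    rw [h3, hv2, mul_one]
    have h4 : v * u₀ * u₀ * v = v * (u₀ * u₀) * v := by group
    rw [h4, hu₀2, mul_one, hv2]
  have hwU : w ∈ U := mem_of_sq hUle hUn hreg hva hoddE hwa hw2
  have hwb : w • b = c := by
    rw [hw, mul_smul, mul_smul, mul_smul, mul_smul, hvb, hu₀a, ← hb, hu₀b, hc]
  have hwu : w = u₀ := eq_of_smul_eq hreg hwU hu₀ hva hUle (by rw [hwb, hu₀b])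
  have hv_inv : v⁻¹ = v := inv_eq_of_mul_eq_one_left hv2
  have hu_inv : u₀⁻¹ = u₀ := inv_eq_of_mul_eq_one_left hu₀2
  refine ⟨u₀, ⟨hu₀, hu₀1, ?_⟩, ?_⟩
  · have h1 : v * u₀ * v = w * v⁻¹ * u₀⁻¹ := by rw [hw]; group
    rw [h1, hwu, hv_inv, hu_inv]
  · rintro u ⟨hu, hu1, hrel⟩
    have hua : u • a = a := smul_a hUle hu
    have hfix : v • (u • b) = u • b := by
      have h1 : v • (u • b) = (v * u * v) • a := by rw [mul_smul, mul_smul, ← hb]
      rw [h1, hrel, mul_smul, mul_smul, hua, ← hb]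
    have huc : u • b = c := fixed_unique hZ hva hoddE hv1 hv2 hfix hc
    exact eq_of_smul_eq hreg hu hu₀ hva hUle (by rw [huc, hu₀b])

end main

end Cfsg.Agent.Lib.Helper8.ZassEven
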